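import Mathlib
import Cfsg.Prelude.Def_LieTypeDatum

set_option autoImplicit false
set_option linter.unusedSectionVars false

namespace Cfsg.Agent.Lib.Helper16.PG

open Matrix

universe u

/-- automorphisms descend to the quotient by the centre. -/
noncomputable def autQuot (G : Type*) [Group G] : MulAut G →* MulAut (G ⧸ Subgroup.center G) where
  toFun e := QuotientGroup.congr (Subgroup.center G) (Subgroup.center G) e
    (Subgroup.characteristic_iff_map_eq.mp inferInstance e)
  map_one' := by
    apply MulEquiv.ext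
    intro x
    induction x using QuotientGroup.induction_on with
    | H s => rfl
  map_mul' := by
    intro e e'
    apply MulEquiv.ext
    intro x
    induction x using QuotientGroup.induction_on with
    | H s => rfl

theorem autQuot_mk {G : Type*} [Group G] (e : MulAut G) (s : G) :
    autQuot G e (QuotientGroup.mk s) = QuotientGroup.mk (e s) := rfl

section
variable {n : ℕ} {F : Type u} [Field F]

/-- conjugation by an invertible matrix on `SL_n`. -/
noncomputable def conjSL (g : GL (Fin n) F) : SpecialLinearGroup (Fin n) F ≃* SpecialLinearGroup (Fin n) F where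
  toFun s := ⟨(g : Matrix (Fin n) (Fin n) F) * (s : Matrix (Fin n) (Fin n) F) *
      ((g⁻¹ : GL (Fin n) F) : Matrix (Fin n) (Fin n) F), by
    rw [det_mul, det_mul, s.2, mul_one, ← det_mul, ← Units.val_mul, mul_inv_cancel, Units.val_one, det_one]⟩
  invFun s := ⟨((g⁻¹ : GL (Fin n) F) : Matrix (Fin n) (Fin n) F) * (s : Matrix (Fin n) (Fin n) F) *
      (g : Matrix (Fin n) (Fin n) F), by
    rw [det_mul, det_mul, s.2, mul_one, ← det_mul, ← Units.val_mul, inv_mul_cancel, Units.val_one, det_one]⟩
  left_inv s := by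
    apply Subtype.ext
    show ((g⁻¹ : GL (Fin n) F) : Matrix (Fin n) (Fin n) F) * ((g : Matrix (Fin n) (Fin n) F) * (s : Matrix (Fin n) (Fin n) F) *
      ((g⁻¹ : GL (Fin n) F) : Matrix (Fin n) (Fin n) F)) * (g : Matrix (Fin n) (Fin n) F) = s
    rw [← Matrix.mul_assoc, ← Matrix.mul_assoc, ← Units.val_mul, inv_mul_cancel, Units.val_one, Matrix.one_mul,
      Matrix.mul_assoc, ← Units.val_mul, inv_mul_cancel, Units.val_one, Matrix.mul_one]
  right_inv s := by
    apply Subtype.ext
    show (g : Matrix (Fin n) (Fin n) F) * (((g⁻¹ : GL (Fin n) F) : Matrix (Fin n) (Fin n) F) * (s : Matrix (Fin n) (Fin n) F) *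
      (g : Matrix (Fin n) (Fin n) F)) * ((g⁻¹ : GL (Fin n) F) : Matrix (Fin n) (Fin n) F) = s
    rw [← Matrix.mul_assoc, ← Matrix.mul_assoc, ← Units.val_mul, mul_inv_cancel, Units.val_one, Matrix.one_mul,
      Matrix.mul_assoc, ← Units.val_mul, mul_inv_cancel, Units.val_one, Matrix.mul_one]
  map_mul' s t := by
    apply Subtype.ext
    show (g : Matrix (Fin n) (Fin n) F) * ((s : Matrix (Fin n) (Fin n) F) * (t : Matrix (Fin n) (Fin n) F)) *
      ((g⁻¹ : GL (Fin n) F) : Matrix (Fin n) (Fin n) F) =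
      ((g : Matrix (Fin n) (Fin n) F) * (s : Matrix (Fin n) (Fin n) F) * ((g⁻¹ : GL (Fin n) F) : Matrix (Fin n) (Fin n) F)) *
      ((g : Matrix (Fin n) (Fin n) F) * (t : Matrix (Fin n) (Fin n) F) * ((g⁻¹ : GL (Fin n) F) : Matrix (Fin n) (Fin n) F))
    have h1 : ((g⁻¹ : GL (Fin n) F) : Matrix (Fin n) (Fin n) F) * (g : Matrix (Fin n) (Fin n) F) = 1 := by
      rw [← Units.val_mul, inv_mul_cancel, Units.val_one]
    calc (g : Matrix (Fin n) (Fin n) F) * ((s : Matrix (Fin n) (Fin n) F) * (t : Matrix (Fin n) (Fin n) F)) *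
          ((g⁻¹ : GL (Fin n) F) : Matrix (Fin n) (Fin n) F)
        = (g : Matrix (Fin n) (Fin n) F) * (s : Matrix (Fin n) (Fin n) F) * 1 * (t : Matrix (Fin n) (Fin n) F) *
          ((g⁻¹ : GL (Fin n) F) : Matrix (Fin n) (Fin n) F) := by
          simp only [Matrix.mul_one, Matrix.mul_assoc]
      _ = _ := by rw [← h1]; simp only [Matrix.mul_assoc]

theorem conjSL_val (g : GL (Fin n) F) (s : SpecialLinearGroup (Fin n) F) :
    ((conjSL g s : SpecialLinearGroup (Fin n) F) : Matrix (Fin n) (Fin n) F) =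
      (g : Matrix (Fin n) (Fin n) F) * (s : Matrix (Fin n) (Fin n) F) *
        ((g⁻¹ : GL (Fin n) F) : Matrix (Fin n) (Fin n) F) := rfl

noncomputable def conjSLHom (n : ℕ) (F : Type u) [Field F] : GL (Fin n) F →* MulAut (SpecialLinearGroup (Fin n) F) where
  toFun := conjSL
  map_one' := by
    apply MulEquiv.ext
    intro s
    apply Subtype.ext
    rw [conjSL_val]
    simp
  map_mul' := by
    intro g h
    apply MulEquiv.ext
    intro s
    apply Subtype.ext
    rw [MulAut.mul_apply, conjSL_val, conjSL_val, conjSL_val, _root_.mul_inv_rev, Units.val_mul, Units.val_mul]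
    simp only [Matrix.mul_assoc]

/-- the inner-diagonal automorphism of `PSL_n` induced by `g`. -/
noncomputable def Phi (n : ℕ) (F : Type u) [Field F] :
    GL (Fin n) F →* MulAut (ProjectiveSpecialLinearGroup (Fin n) F) :=
  (autQuot (SpecialLinearGroup (Fin n) F)).comp (conjSLHom n F)

theorem Phi_mk (g : GL (Fin n) F) (s : SpecialLinearGroup (Fin n) F) :
    Phi n F g (QuotientGroup.mk s) = QuotientGroup.mk (conjSL g s) := rfl

theorem isInnerDiag_iff (β : MulAut (ProjectiveSpecialLinearGroup (Fin n) F)) :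
    Cfsg.IsInnerDiagonalAutPSL β ↔ ∃ g : GL (Fin n) F, β = Phi n F g := by
  constructor
  · rintro ⟨g, hg⟩
    refine ⟨g, ?_⟩
    apply MulEquiv.ext
    intro x
    induction x using QuotientGroup.induction_on with
    | H s =>
      rw [Phi_mk]
      exact hg s (conjSL g s) (conjSL_val g s)
  · rintro ⟨g, rfl⟩
    refine ⟨g, ?_⟩
    intro s s' hs
    rw [Phi_mk]
    congr 1
    apply Subtype.ext
    rw [conjSL_val, hs]

theorem inndiag_eq_range : Cfsg.inndiagPSL n F = (Phi n F).range := by
  unfold Cfsg.inndiagPSL Cfsg.autSubgroupOf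
  have : {β : MulAut (ProjectiveSpecialLinearGroup (Fin n) F) | Cfsg.IsInnerDiagonalAutPSL β} =
      ((Phi n F).range : Set (MulAut (ProjectiveSpecialLinearGroup (Fin n) F))) := by
    ext β
    rw [Set.mem_ofPred_eq, isInnerDiag_iff, SetLike.mem_coe, MonoidHom.mem_range]
    constructor
    · rintro ⟨g, rfl⟩; exact ⟨g, rfl⟩
    · rintro ⟨g, rfl⟩; exact ⟨g, rfl⟩
  rw [this, Subgroup.closure_eq]

end

end Cfsg.Agent.Lib.Helper16.PG
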