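import Mathlib
import Cfsg.Prelude.Def_LieTypeDatum
import Cfsg.Agent.Lib.Helper16.PG1

set_option autoImplicit false
set_option linter.unusedSectionVars false

namespace Cfsg.Agent.Lib.Helper16.PG

open Matrix

universe u

section
variable {n : ℕ} {F : Type u} [Field F]

theorem sl_inv_mul (s : SpecialLinearGroup (Fin n) F) :
    ((s⁻¹ : SpecialLinearGroup (Fin n) F) : Matrix (Fin n) (Fin n) F) * (s : Matrix (Fin n) (Fin n) F) = 1 := by
  have := congrArg Subtype.val (inv_mul_cancel s)
  exact this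

theorem sl_mul_inv (s : SpecialLinearGroup (Fin n) F) :
    (s : Matrix (Fin n) (Fin n) F) * ((s⁻¹ : SpecialLinearGroup (Fin n) F) : Matrix (Fin n) (Fin n) F) = 1 := by
  have := congrArg Subtype.val (mul_inv_cancel s)
  exact this

/-- the matrix of the inverse is determined by a one-sided inverse. -/
theorem sl_inv_val_eq (s : SpecialLinearGroup (Fin n) F) (b : Matrix (Fin n) (Fin n) F)
    (h : b * (s : Matrix (Fin n) (Fin n) F) = 1) :
    ((s⁻¹ : SpecialLinearGroup (Fin n) F) : Matrix (Fin n) (Fin n) F) = b := by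
  calc ((s⁻¹ : SpecialLinearGroup (Fin n) F) : Matrix (Fin n) (Fin n) F)
      = (b * (s : Matrix (Fin n) (Fin n) F)) * ((s⁻¹ : SpecialLinearGroup (Fin n) F) : Matrix (Fin n) (Fin n) F) := by
        rw [h, Matrix.one_mul]
    _ = b := by rw [Matrix.mul_assoc, sl_mul_inv, Matrix.mul_one]

/-- inverse-transpose on `SL_n`, as a function. -/
noncomputable def invTfun (s : SpecialLinearGroup (Fin n) F) : SpecialLinearGroup (Fin n) F :=
  ⟨((s⁻¹ : SpecialLinearGroup (Fin n) F) : Matrix (Fin n) (Fin n) F)ᵀ, by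
    rw [det_transpose]; exact (s⁻¹).2⟩

theorem invTfun_val (s : SpecialLinearGroup (Fin n) F) :
    ((invTfun s : SpecialLinearGroup (Fin n) F) : Matrix (Fin n) (Fin n) F) =
      ((s⁻¹ : SpecialLinearGroup (Fin n) F) : Matrix (Fin n) (Fin n) F)ᵀ := rfl

theorem invTfun_invTfun (s : SpecialLinearGroup (Fin n) F) : invTfun (invTfun s) = s := by
  apply Subtype.ext
  rw [invTfun_val]
  have h := sl_inv_val_eq (invTfun s) ((s : Matrix (Fin n) (Fin n) F)ᵀ)
    (by rw [invTfun_val, ← transpose_mul, sl_inv_mul, transpose_one])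
  rw [h, transpose_transpose]

/-- inverse-transpose on `SL_n`. -/
noncomputable def invT (n : ℕ) (F : Type u) [Field F] :
    SpecialLinearGroup (Fin n) F ≃* SpecialLinearGroup (Fin n) F where
  toFun := invTfun
  invFun := invTfun
  left_inv := invTfun_invTfun
  right_inv := invTfun_invTfun
  map_mul' s t := by
    apply Subtype.ext
    show (((s * t)⁻¹ : SpecialLinearGroup (Fin n) F) : Matrix (Fin n) (Fin n) F)ᵀ =
      ((s⁻¹ : SpecialLinearGroup (Fin n) F) : Matrix (Fin n) (Fin n) F)ᵀ *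
      ((t⁻¹ : SpecialLinearGroup (Fin n) F) : Matrix (Fin n) (Fin n) F)ᵀ
    rw [← transpose_mul, _root_.mul_inv_rev]
    rfl

theorem invT_val (s : SpecialLinearGroup (Fin n) F) :
    ((invT n F s : SpecialLinearGroup (Fin n) F) : Matrix (Fin n) (Fin n) F) =
      ((s⁻¹ : SpecialLinearGroup (Fin n) F) : Matrix (Fin n) (Fin n) F)ᵀ := rfl

/-- the inverse-transpose automorphism of `PSL_n`. -/
noncomputable def iota (n : ℕ) (F : Type u) [Field F] : MulAut (ProjectiveSpecialLinearGroup (Fin n) F) :=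
  autQuot (SpecialLinearGroup (Fin n) F) (invT n F)

theorem iota_mk (s : SpecialLinearGroup (Fin n) F) :
    iota n F (QuotientGroup.mk s) = QuotientGroup.mk (invT n F s) := rfl

theorem isInvTranspose_iff (β : MulAut (ProjectiveSpecialLinearGroup (Fin n) F)) :
    Cfsg.IsInverseTransposeAutPSL β ↔ β = iota n F := by
  constructor
  · intro h
    apply MulEquiv.ext
    intro x
    induction x using QuotientGroup.induction_on with
    | H s =>
      rw [iota_mk]
      exact h s (invT n F s) (invT_val s)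
  · rintro rfl
    intro s s' hs
    rw [iota_mk]
    congr 1
    apply Subtype.ext
    rw [invT_val, hs]

/-- inverse-transpose on `GL_n`. -/
noncomputable def gTI (n : ℕ) (F : Type u) [Field F] : GL (Fin n) F →* GL (Fin n) F where
  toFun g := ⟨((g⁻¹ : GL (Fin n) F) : Matrix (Fin n) (Fin n) F)ᵀ, (g : Matrix (Fin n) (Fin n) F)ᵀ, by
      rw [← transpose_mul, ← Units.val_mul, mul_inv_cancel, Units.val_one, transpose_one], by
      rw [← transpose_mul, ← Units.val_mul, inv_mul_cancel, Units.val_one, transpose_one]⟩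
  map_one' := by
    apply Units.ext
    show ((1⁻¹ : GL (Fin n) F) : Matrix (Fin n) (Fin n) F)ᵀ = 1
    rw [inv_one, Units.val_one, transpose_one]
  map_mul' g h := by
    apply Units.ext
    show (((g * h)⁻¹ : GL (Fin n) F) : Matrix (Fin n) (Fin n) F)ᵀ =
      ((g⁻¹ : GL (Fin n) F) : Matrix (Fin n) (Fin n) F)ᵀ * ((h⁻¹ : GL (Fin n) F) : Matrix (Fin n) (Fin n) F)ᵀ
    rw [← transpose_mul, _root_.mul_inv_rev, Units.val_mul]

theorem gTI_val (g : GL (Fin n) F) :
    ((gTI n F g : GL (Fin n) F) : Matrix (Fin n) (Fin n) F) =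
      ((g⁻¹ : GL (Fin n) F) : Matrix (Fin n) (Fin n) F)ᵀ := rfl

theorem gTI_inv_val (g : GL (Fin n) F) :
    (((gTI n F g)⁻¹ : GL (Fin n) F) : Matrix (Fin n) (Fin n) F) = (g : Matrix (Fin n) (Fin n) F)ᵀ := rfl

theorem invT_conjSL (g : GL (Fin n) F) (s : SpecialLinearGroup (Fin n) F) :
    invT n F (conjSL g s) = conjSL (gTI n F g) (invT n F s) := by
  apply Subtype.ext
  rw [invT_val, conjSL_val, gTI_val, gTI_inv_val, invT_val]
  rw [sl_inv_val_eq (conjSL g s) ((g : Matrix (Fin n) (Fin n) F) *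
    ((s⁻¹ : SpecialLinearGroup (Fin n) F) : Matrix (Fin n) (Fin n) F) * ((g⁻¹ : GL (Fin n) F) : Matrix (Fin n) (Fin n) F))]
  · rw [transpose_mul, transpose_mul, Matrix.mul_assoc]
  · rw [conjSL_val]
    have h1 : ((g⁻¹ : GL (Fin n) F) : Matrix (Fin n) (Fin n) F) * (g : Matrix (Fin n) (Fin n) F) = 1 := by
      rw [← Units.val_mul, inv_mul_cancel, Units.val_one]
    have h2 : (g : Matrix (Fin n) (Fin n) F) * ((g⁻¹ : GL (Fin n) F) : Matrix (Fin n) (Fin n) F) = 1 := by
      rw [← Units.val_mul, mul_inv_cancel, Units.val_one]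
    calc (g : Matrix (Fin n) (Fin n) F) * ((s⁻¹ : SpecialLinearGroup (Fin n) F) : Matrix (Fin n) (Fin n) F) *
          ((g⁻¹ : GL (Fin n) F) : Matrix (Fin n) (Fin n) F) *
          ((g : Matrix (Fin n) (Fin n) F) * (s : Matrix (Fin n) (Fin n) F) * ((g⁻¹ : GL (Fin n) F) : Matrix (Fin n) (Fin n) F))
        = (g : Matrix (Fin n) (Fin n) F) * (((s⁻¹ : SpecialLinearGroup (Fin n) F) : Matrix (Fin n) (Fin n) F) *
          (((g⁻¹ : GL (Fin n) F) : Matrix (Fin n) (Fin n) F) * (g : Matrix (Fin n) (Fin n) F)) *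
            (s : Matrix (Fin n) (Fin n) F)) * ((g⁻¹ : GL (Fin n) F) : Matrix (Fin n) (Fin n) F) := by
          simp only [Matrix.mul_assoc]
      _ = 1 := by rw [h1, Matrix.mul_one, sl_inv_mul, Matrix.mul_one, h2]

theorem iota_mul_Phi (g : GL (Fin n) F) :
    iota n F * Phi n F g = Phi n F (gTI n F g) * iota n F := by
  apply MulEquiv.ext
  intro x
  induction x using QuotientGroup.induction_on with
  | H s =>
    rw [MulAut.mul_apply, MulAut.mul_apply, Phi_mk, iota_mk, iota_mk, Phi_mk, invT_conjSL]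

theorem iota_sq : iota n F * iota n F = 1 := by
  apply MulEquiv.ext
  intro x
  induction x using QuotientGroup.induction_on with
  | H s =>
    rw [MulAut.mul_apply, iota_mk, iota_mk, MulAut.one_apply]
    congr 1
    exact (invT n F).left_inv s

end

end Cfsg.Agent.Lib.Helper16.PG
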