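import Mathlib
import Cfsg.Prelude.Def_LieTypeDatum
import Cfsg.Agent.Lib.Helper16.PG2

set_option autoImplicit false
set_option linter.unusedSectionVars false

namespace Cfsg.Agent.Lib.Helper16.PG

open Matrix

universe u

section
variable {n : ℕ} {F : Type u} [Field F]

theorem gl_inv_mul (g : GL (Fin n) F) :
    ((g⁻¹ : GL (Fin n) F) : Matrix (Fin n) (Fin n) F) * (g : Matrix (Fin n) (Fin n) F) = 1 := by
  rw [← Units.val_mul, inv_mul_cancel, Units.val_one]

theorem gl_mul_inv (g : GL (Fin n) F) :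
    (g : Matrix (Fin n) (Fin n) F) * ((g⁻¹ : GL (Fin n) F) : Matrix (Fin n) (Fin n) F) = 1 := by
  rw [← Units.val_mul, mul_inv_cancel, Units.val_one]

/-- if `Φ g` fixes the class of `s`, then `s = r • g s g⁻¹` for a scalar `r` with `r ^ n = 1`. -/
theorem Phi_fix_class (g : GL (Fin n) F) (s : Matrix.SpecialLinearGroup (Fin n) F)
    (h : Phi n F g (QuotientGroup.mk s) = QuotientGroup.mk s) :
    ∃ r : F, r ^ n = 1 ∧ r • ((g : Matrix (Fin n) (Fin n) F) * (s : Matrix (Fin n) (Fin n) F) *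
      ((g⁻¹ : GL (Fin n) F) : Matrix (Fin n) (Fin n) F)) = (s : Matrix (Fin n) (Fin n) F) := by
  rw [Phi_mk, QuotientGroup.eq] at h
  rw [Matrix.SpecialLinearGroup.mem_center_iff] at h
  obtain ⟨r, hrn, hr⟩ := h
  rw [Fintype.card_fin] at hrn
  refine ⟨r, hrn, ?_⟩
  have h1 : ((conjSL g s)⁻¹ * s : Matrix.SpecialLinearGroup (Fin n) F).1 =
      ((conjSL g s)⁻¹ : Matrix.SpecialLinearGroup (Fin n) F).1 * s.1 := rfl
  have h2 : (conjSL g s).1 * (scalar (Fin n) r) = s.1 := by
    rw [hr, h1, ← Matrix.mul_assoc, sl_mul_inv, Matrix.one_mul]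
  rw [conjSL_val, Matrix.scalar_apply] at h2
  rw [Matrix.smul_eq_mul_diagonal]
  exact h2

theorem single_sq_zero {i j : Fin n} (hij : i ≠ j) :
    (Matrix.single i j (1 : F)) * (Matrix.single i j (1 : F)) = 0 := by
  exact Matrix.single_mul_single_of_ne (1 : F) i j i hij.symm (1 : F)

/-- `Φ g = 1` forces `g` to commute with every elementary matrix unit. -/
theorem Phi_eq_one_commute (g : GL (Fin n) F) (h : Phi n F g = 1) {i j : Fin n} (hij : i ≠ j) :
    Commute (Matrix.single i j (1 : F)) (g : Matrix (Fin n) (Fin n) F) := by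
  set N : Matrix (Fin n) (Fin n) F := Matrix.single i j 1 with hN
  have hNN : N * N = 0 := single_sq_zero hij
  have hdet : (1 + N).det = 1 := by
    have := Matrix.det_transvection_of_ne i j hij (1 : F)
    rw [Matrix.transvection] at this
    exact this
  have hfix : Phi n F g (QuotientGroup.mk ⟨1 + N, hdet⟩) = QuotientGroup.mk ⟨1 + N, hdet⟩ := by
    rw [h, MulAut.one_apply]
  obtain ⟨r, -, hr⟩ := Phi_fix_class g ⟨1 + N, hdet⟩ hfix
  set G := (g : Matrix (Fin n) (Fin n) F) with hG
  set Gi := ((g⁻¹ : GL (Fin n) F) : Matrix (Fin n) (Fin n) F) with hGi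
  have hGGi : G * Gi = 1 := gl_mul_inv g
  have hGiG : Gi * G = 1 := gl_inv_mul g
  replace hr : r • (G * (1 + N) * Gi) = 1 + N := hr
  have h1 : r • (G * N * Gi) = (1 - r) • (1 : Matrix (Fin n) (Fin n) F) + N := by
    have : r • (G * (1 + N) * Gi) = r • (1 : Matrix (Fin n) (Fin n) F) + r • (G * N * Gi) := by
      rw [Matrix.mul_add, Matrix.add_mul, Matrix.mul_one, hGGi, smul_add]
    rw [this] at hr
    rw [sub_smul, one_smul]
    rw [← sub_eq_zero] at hr ⊢
    rw [← hr]
    abel
  have h2 : (r • (G * N * Gi)) * (r • (G * N * Gi)) = 0 := by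
    rw [Matrix.smul_mul, Matrix.mul_smul]
    have : G * N * Gi * (G * N * Gi) = G * (N * (Gi * G) * N) * Gi := by
      simp only [Matrix.mul_assoc]
    rw [this, hGiG, Matrix.mul_one, hNN, Matrix.mul_zero, Matrix.zero_mul, smul_zero, smul_zero]
  rw [h1] at h2
  have h3 : ((1 - r) • (1 : Matrix (Fin n) (Fin n) F) + N) * ((1 - r) • (1 : Matrix (Fin n) (Fin n) F) + N) =
      ((1 - r) * (1 - r)) • (1 : Matrix (Fin n) (Fin n) F) + (2 * (1 - r)) • N := by
    rw [Matrix.add_mul, Matrix.mul_add, Matrix.mul_add, hNN, Matrix.smul_mul, Matrix.mul_smul, Matrix.one_mul,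
      Matrix.smul_mul, Matrix.one_mul, Matrix.mul_smul, Matrix.mul_one, smul_smul, two_mul, add_smul]
    abel
  rw [h3] at h2
  have h4 := congrFun (congrFun h2 i) i
  simp only [Matrix.add_apply, Matrix.smul_apply, Matrix.one_apply_eq, smul_eq_mul, mul_one, hN,
    Matrix.single_apply, Matrix.zero_apply] at h4
  have h5 : (1 - r) * (1 - r) = 0 := by
    simpa [hij, hij.symm] using h4
  have hr1 : r = 1 := by
    have := mul_self_eq_zero.mp h5
    exact (sub_eq_zero.mp this).symm
  rw [hr1, one_smul] at hr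
  have h6 : G * N * Gi = N := by
    rw [Matrix.mul_add, Matrix.add_mul, Matrix.mul_one, hGGi] at hr
    exact add_left_cancel hr
  show N * G = G * N
  calc N * G = (G * N * Gi) * G := by rw [h6]
    _ = G * N * (Gi * G) := by simp only [Matrix.mul_assoc]
    _ = G * N := by rw [hGiG, Matrix.mul_one]

theorem Phi_eq_one_iff (g : GL (Fin n) F) :
    Phi n F g = 1 ↔ g ∈ Cfsg.Geo.scalars (Fin n) F := by
  rw [Cfsg.Geo.mem_scalars_iff]
  constructor
  · intro h
    have h1 : (g : Matrix (Fin n) (Fin n) F) ∈ Set.range (Matrix.scalar (Fin n)) := by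
      apply Matrix.mem_range_scalar_of_commute_single
      intro i j hij
      exact Phi_eq_one_commute g h hij
    obtain ⟨c, hc⟩ := h1
    by_cases hn : n = 0
    · subst hn
      exact ⟨1, Subsingleton.elim _ _⟩
    · have : Nonempty (Fin n) := ⟨⟨0, Nat.pos_of_ne_zero hn⟩⟩
      have hc0 : c ≠ 0 := by
        rintro rfl
        have h2 : (g : Matrix (Fin n) (Fin n) F) = 0 := by rw [← hc, map_zero]
        have h3 := gl_mul_inv g
        rw [h2, Matrix.zero_mul] at h3
        exact zero_ne_one h3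
      refine ⟨Units.mk0 c hc0, ?_⟩
      rw [← hc, Units.val_mk0, Matrix.smul_one_eq_diagonal]
      rfl
  · rintro ⟨c, hc⟩
    apply MulEquiv.ext
    intro x
    induction x using QuotientGroup.induction_on with
    | H s =>
      rw [Phi_mk, MulAut.one_apply]
      congr 1
      apply Subtype.ext
      have h1 : (c : F) • ((g⁻¹ : GL (Fin n) F) : Matrix (Fin n) (Fin n) F) = 1 := by
        have h2 := gl_mul_inv g
        rw [hc, Matrix.smul_mul, Matrix.one_mul] at h2
        exact h2
      rw [conjSL_val, hc, Matrix.smul_mul, Matrix.one_mul]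
      calc ((c : F) • (s : Matrix (Fin n) (Fin n) F)) * ((g⁻¹ : GL (Fin n) F) : Matrix (Fin n) (Fin n) F)
          = (s : Matrix (Fin n) (Fin n) F) * ((c : F) • ((g⁻¹ : GL (Fin n) F) : Matrix (Fin n) (Fin n) F)) := by
            rw [Matrix.smul_mul, Matrix.mul_smul]
        _ = s := by rw [h1, Matrix.mul_one]

end

end Cfsg.Agent.Lib.Helper16.PG
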