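import Cfsg.Agent.Lib.Helper16.Witt
set_option autoImplicit false

namespace Cfsg.Agent.Lib.Helper16

open Module

universe u v

section
variable {F : Type u} [Field F] {V : Type v} [AddCommGroup V] [Module F V]

noncomputable def altPerp (ω : LinearMap.BilinForm F V) (e f : V) : Submodule F V :=
  LinearMap.ker ((ω e).prod (ω f))

theorem mem_altPerp (ω : LinearMap.BilinForm F V) (e f v : V) :
    v ∈ altPerp ω e f ↔ ω e v = 0 ∧ ω f v = 0 := by
  unfold altPerp
  rw [LinearMap.mem_ker]
  show (ω e v, ω f v) = 0 ↔ _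
  rw [Prod.mk_eq_zero]

theorem finrank_altPerp [FiniteDimensional F V] (ω : LinearMap.BilinForm F V) (hω : ω.IsAlt) {e f : V}
    (hef : ω e f = 1) : finrank F (altPerp ω e f) + 2 = finrank F V := by
  have hfe : ω f e = -1 := by rw [← hω.neg_eq, hef]
  have hsurj : Function.Surjective ((ω e).prod (ω f)) := by
    rintro ⟨α, β⟩
    refine ⟨(-β) • e + α • f, ?_⟩
    show (ω e ((-β) • e + α • f), ω f ((-β) • e + α • f)) = (α, β)
    simp only [map_add, map_smul, hω e, hω f, hef, hfe, smul_eq_mul]
    ext <;> simp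
  have h1 := LinearMap.finrank_range_add_finrank_ker ((ω e).prod (ω f))
  rw [LinearMap.range_eq_top.mpr hsurj, finrank_top, Module.finrank_prod, Module.finrank_self] at h1
  unfold altPerp
  omega

theorem altPerp_nondeg (ω : LinearMap.BilinForm F V) (hω : ω.IsAlt) (hnd : ω.Nondegenerate) {e f : V}
    (hef : ω e f = 1) : (ω.restrict (altPerp ω e f)).Nondegenerate := by
  have hfe : ω f e = -1 := by rw [← hω.neg_eq, hef]
  have key : ∀ w : altPerp ω e f, (∀ u : altPerp ω e f, ω (w : V) (u : V) = 0) → w = 0 := by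
    intro w hw
    apply Subtype.ext
    apply hnd.1 (w : V)
    intro v
    obtain ⟨hwe, hwf⟩ := (mem_altPerp ω e f w).mp w.2
    have hwe' : ω (w : V) e = 0 := by rw [← hω.neg_eq, hwe, neg_zero]
    have hwf' : ω (w : V) f = 0 := by rw [← hω.neg_eq, hwf, neg_zero]
    set u : V := v + (ω f v) • e - (ω e v) • f with hu
    have humem : u ∈ altPerp ω e f := by
      rw [mem_altPerp]
      constructor
      · simp only [hu, map_add, map_sub, map_smul, hω e, hef, smul_eq_mul]
        ring
      · simp only [hu, map_add, map_sub, map_smul, hω f, hfe, smul_eq_mul]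
        ring
    have hv : v = u - (ω f v) • e + (ω e v) • f := by
      rw [hu]; abel
    rw [hv, map_add, map_sub, map_smul, map_smul, hwe', hwf', hw ⟨u, humem⟩]
    simp
  constructor
  · intro w hw
    apply key w
    intro u
    exact hw u
  · intro w hw
    apply key w
    intro u
    have := hw u
    have h2 : ω (u : V) (w : V) = 0 := this
    rw [← hω.neg_eq, h2, neg_zero]

end

theorem alt_family {F : Type u} [Field F] : ∀ (m : ℕ) {V : Type v} [AddCommGroup V] [Module F V]
    [FiniteDimensional F V], finrank F V = 2 * m → ∀ ω : LinearMap.BilinForm F V, ω.IsAlt → ω.Nondegenerate →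
    ∃ e f : Fin m → V, (∀ i j, ω (e i) (f j) = if i = j then 1 else 0) ∧
      (∀ i j, ω (e i) (e j) = 0 ∧ ω (f i) (f j) = 0) := by
  intro m
  induction m with
  | zero =>
    intro V _ _ _ _ ω _ _
    exact ⟨Fin.elim0, Fin.elim0, fun i => i.elim0, fun i => i.elim0⟩
  | succ m ih =>
    intro V _ _ _ hV ω hω hnd
    have hnt : Nontrivial V := Module.nontrivial_of_finrank_pos (R := F) (by omega)
    obtain ⟨e₀, he₀⟩ := exists_ne (0 : V)
    have : ∃ f₁ : V, ω e₀ f₁ ≠ 0 := by
      by_contra hcon
      push Not at hcon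
      exact he₀ (hnd.1 e₀ hcon)
    obtain ⟨f₁, hf₁⟩ := this
    obtain ⟨f₀, hef⟩ : ∃ f₀ : V, ω e₀ f₀ = 1 := by
      refine ⟨(ω e₀ f₁)⁻¹ • f₁, ?_⟩
      rw [map_smul, smul_eq_mul, inv_mul_cancel₀ hf₁]
    have hfe : ω f₀ e₀ = -1 := by rw [← hω.neg_eq, hef]
    have hfr := finrank_altPerp ω hω hef
    have hnd' := altPerp_nondeg ω hω hnd hef
    have hω' : (ω.restrict (altPerp ω e₀ f₀)).IsAlt := fun x => hω (x : V)
    obtain ⟨e', f', hef', hee'⟩ := ih (by omega) (ω.restrict (altPerp ω e₀ f₀)) hω' hnd'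
    have hmem : ∀ w : altPerp ω e₀ f₀, ω e₀ (w : V) = 0 ∧ ω f₀ (w : V) = 0 :=
      fun w => (mem_altPerp ω e₀ f₀ w).mp w.2
    have hmem' : ∀ w : altPerp ω e₀ f₀, ω (w : V) e₀ = 0 ∧ ω (w : V) f₀ = 0 := by
      intro w
      constructor
      · rw [← hω.neg_eq, (hmem w).1, neg_zero]
      · rw [← hω.neg_eq, (hmem w).2, neg_zero]
    refine ⟨Fin.cons e₀ (fun i => (e' i : V)), Fin.cons f₀ (fun i => (f' i : V)), ?_, ?_⟩
    · intro i j
      refine Fin.cases ?_ (fun i => ?_) i <;> refine Fin.cases ?_ (fun j => ?_) j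
      · simp only [Fin.cons_zero]
        simpa using hef
      · simp only [Fin.cons_zero, Fin.cons_succ]
        rw [(hmem (f' j)).1, if_neg (Fin.succ_ne_zero j).symm]
      · simp only [Fin.cons_zero, Fin.cons_succ]
        rw [(hmem' (e' i)).2, if_neg (Fin.succ_ne_zero i)]
      · simp only [Fin.cons_succ, Fin.succ_inj]
        exact hef' i j
    · intro i j
      refine Fin.cases ?_ (fun i => ?_) i <;> refine Fin.cases ?_ (fun j => ?_) j
      · simp only [Fin.cons_zero]
        exact ⟨hω e₀, hω f₀⟩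
      · simp only [Fin.cons_zero, Fin.cons_succ]
        exact ⟨(hmem (e' j)).1, (hmem (f' j)).2⟩
      · simp only [Fin.cons_zero, Fin.cons_succ]
        exact ⟨(hmem' (e' i)).1, (hmem' (f' i)).2⟩
      · simp only [Fin.cons_succ]
        exact hee' i j

theorem symplectic_basis {F : Type u} [Field F] {V : Type v} [AddCommGroup V] [Module F V]
    [FiniteDimensional F V] {m : ℕ} (hV : finrank F V = 2 * m) (ω : LinearMap.BilinForm F V) (hω : ω.IsAlt)
    (hnd : ω.Nondegenerate) :
    ∃ b : Basis (Fin m ⊕ Fin m) F V, LinearMap.BilinForm.toMatrix b ω = Matrix.J (Fin m) F := by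
  obtain ⟨e, f, hef, hee⟩ := alt_family m hV ω hω hnd
  have hfe : ∀ i j, ω (f i) (e j) = if i = j then -1 else 0 := by
    intro i j
    rw [← hω.neg_eq, hef j i]
    by_cases h : i = j
    · subst h; simp
    · rw [if_neg h, if_neg (fun h' => h h'.symm), neg_zero]
  set v : Fin m ⊕ Fin m → V := Sum.elim f e with hv
  set w : Fin m ⊕ Fin m → V := Sum.elim e f with hw
  set d : Fin m ⊕ Fin m → F := Sum.elim (fun _ => -1) (fun _ => 1) with hd
  have hd0 : ∀ j, d j ≠ 0 := by
    rintro (j | j)
    · simp [hd]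
    · simp [hd]
  have hdual : ∀ i j, ω (v i) (w j) = if i = j then d j else 0 := by
    intro i j
    rcases i with i | i <;> rcases j with j | j
    · simp only [hv, hw, hd, Sum.elim_inl, hfe i j, Sum.inl.injEq]
    · simp [hv, hw, (hee i j).2]
    · simp [hv, hw, (hee i j).1]
    · simp only [hv, hw, hd, Sum.elim_inr, hef i j, Sum.inr.injEq]
  have hli := li_of_dual ω v w d hd0 hdual
  have hcard : Fintype.card (Fin m ⊕ Fin m) = finrank F V := by
    rw [hV, Fintype.card_sum, Fintype.card_fin]; ring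
  refine ⟨basisOfLinearIndependentOfCardEqFinrank' v hli hcard, ?_⟩
  ext i j
  rw [LinearMap.BilinForm.toMatrix_apply, coe_basisOfLinearIndependentOfCardEqFinrank']
  rcases i with i | i <;> rcases j with j | j
  · simp [hv, Matrix.J, (hee i j).2]
  · simp only [hv, Sum.elim_inl, Sum.elim_inr, hfe i j, Matrix.J, Matrix.fromBlocks_apply₁₂, Matrix.neg_apply,
      Matrix.one_apply]
    by_cases h : i = j
    · simp [h]
    · simp [h]
  · simp only [hv, Sum.elim_inl, Sum.elim_inr, hef i j, Matrix.J, Matrix.fromBlocks_apply₂₁, Matrix.one_apply]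
  · simp [hv, Matrix.J, (hee i j).1]

theorem embed_of_invariant {F : Type u} [Field F] {V : Type v} [AddCommGroup V] [Module F V] {m : ℕ}
    (b : Basis (Fin m ⊕ Fin m) F V) (ω : LinearMap.BilinForm F V)
    (hb : LinearMap.BilinForm.toMatrix b ω = Matrix.J (Fin m) F) {G : Type*} [Group G]
    (ρ : G →* (V →ₗ[F] V)) (hρ : ∀ g u v, ω (ρ g u) (ρ g v) = ω u v) (hinj : Function.Injective ρ) :
    ∃ φ : G →* Matrix.symplecticGroup (Fin m) F, Function.Injective φ := by
  have hmem : ∀ g, LinearMap.toMatrix b b (ρ g) ∈ Matrix.symplecticGroup (Fin m) F := by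
    intro g
    rw [SymplecticGroup.mem_iff']
    have h1 : LinearMap.BilinForm.comp ω (ρ g) (ρ g) = ω := by
      apply LinearMap.ext
      intro u
      apply LinearMap.ext
      intro v
      exact hρ g u v
    have h2 := LinearMap.BilinForm.toMatrix_comp b b ω (ρ g) (ρ g)
    rw [h1, hb] at h2
    exact h2.symm
  let φ : G →* Matrix.symplecticGroup (Fin m) F :=
    { toFun := fun g => ⟨LinearMap.toMatrix b b (ρ g), hmem g⟩
      map_one' := by
        apply Subtype.ext
        show LinearMap.toMatrix b b (ρ 1) = 1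
        rw [map_one]
        exact LinearMap.toMatrix_one b
      map_mul' := by
        intro g h
        apply Subtype.ext
        show LinearMap.toMatrix b b (ρ (g * h)) = LinearMap.toMatrix b b (ρ g) * LinearMap.toMatrix b b (ρ h)
        rw [map_mul]
        exact LinearMap.toMatrix_mul b (ρ g) (ρ h) }
  refine ⟨φ, ?_⟩
  intro g h hgh
  have h1 : LinearMap.toMatrix b b (ρ g) = LinearMap.toMatrix b b (ρ h) := congrArg Subtype.val hgh
  exact hinj ((LinearMap.toMatrix b b).injective h1)

end Cfsg.Agent.Lib.Helper16
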