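import Mathlib
import Cfsg.Agent.Lib.Helper16.Symplectic

set_option autoImplicit false
set_option linter.unusedSectionVars false
set_option linter.unusedSimpArgs false
set_option linter.unusedVariables false
set_option linter.unusedTactic false

namespace Cfsg.Agent.Lib.Helper16.SpSemi

open Matrix Module

universe u v

theorem alt_even {F : Type u} [Field F] : ∀ (n : ℕ) {V : Type v} [AddCommGroup V] [Module F V]
    [FiniteDimensional F V], finrank F V = n → ∀ ω : LinearMap.BilinForm F V, ω.IsAlt →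
    ω.Nondegenerate → ∃ k, n = 2 * k := by
  intro n
  induction n using Nat.strong_induction_on with
  | _ n ih =>
    intro V _ _ _ hV ω hω hnd
    rcases Nat.eq_zero_or_pos n with h0 | h0
    · exact ⟨0, by omega⟩
    have hnt : Nontrivial V := Module.nontrivial_of_finrank_pos (R := F) (by omega)
    obtain ⟨e₀, he₀⟩ := exists_ne (0 : V)
    have : ∃ f₁ : V, ω e₀ f₁ ≠ 0 := by
      by_contra hcon
      push Not at hcon
      exact he₀ (hnd.1 e₀ hcon)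
    obtain ⟨f₁, hf₁⟩ := this
    obtain ⟨f₀, hef⟩ : ∃ f₀ : V, ω e₀ f₀ = 1 := by
      refine ⟨(ω e₀ f₁)⁻¹ • f₁, ?_⟩
      rw [map_smul, smul_eq_mul, inv_mul_cancel₀ hf₁]
    have hfr := finrank_altPerp ω hω hef
    have hnd' := altPerp_nondeg ω hω hnd hef
    have hω' : (ω.restrict (altPerp ω e₀ f₀)).IsAlt := fun x => hω (x : V)
    obtain ⟨k, hk⟩ := ih (finrank F (altPerp ω e₀ f₀)) (by omega) rfl
      (ω.restrict (altPerp ω e₀ f₀)) hω' hnd'
    exact ⟨k + 1, by omega⟩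

theorem alt_equiv {F : Type u} [Field F] {W : Type v} [AddCommGroup W] [Module F W]
    [FiniteDimensional F W] (β₁ β₂ : LinearMap.BilinForm F W) (h₁ : β₁.IsAlt) (h₂ : β₂.IsAlt)
    (hn₁ : β₁.Nondegenerate) (hn₂ : β₂.Nondegenerate) :
    ∃ φ : W ≃ₗ[F] W, ∀ x y, β₁ (φ x) (φ y) = β₂ x y := by
  obtain ⟨k, hk⟩ := alt_even (finrank F W) rfl β₁ h₁ hn₁
  obtain ⟨b₁, hb₁⟩ := symplectic_basis hk β₁ h₁ hn₁
  obtain ⟨b₂, hb₂⟩ := symplectic_basis hk β₂ h₂ hn₂
  refine ⟨b₂.equiv b₁ (Equiv.refl _), ?_⟩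
  have h : β₁.comp (b₂.equiv b₁ (Equiv.refl _)).toLinearMap (b₂.equiv b₁ (Equiv.refl _)).toLinearMap
      = β₂ := by
    apply LinearMap.BilinForm.ext_basis b₂
    intro i j
    rw [LinearMap.BilinForm.comp_apply]
    simp only [LinearEquiv.coe_coe, Basis.equiv_apply, Equiv.refl_apply]
    have e1 := congrFun (congrFun hb₁ i) j
    have e2 := congrFun (congrFun hb₂ i) j
    rw [LinearMap.BilinForm.toMatrix_apply] at e1 e2
    rw [e1, e2]
  intro x y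
  rw [← h, LinearMap.BilinForm.comp_apply]
  rfl

variable {K : Type u} [Field K] {ι : Type} [Fintype ι] [DecidableEq ι]

theorem mat_ext_bilin (A B : Matrix ι ι K) (h : ∀ x y : ι → K, x ⬝ᵥ A *ᵥ y = x ⬝ᵥ B *ᵥ y) :
    A = B := by
  ext i j
  have := h (Pi.single i 1) (Pi.single j 1)
  simpa using this

theorem bilin_congr (c M : Matrix ι ι K) (x y : ι → K) :
    x ⬝ᵥ (cᵀ * M * c) *ᵥ y = (c *ᵥ x) ⬝ᵥ M *ᵥ (c *ᵥ y) := by
  rw [← Matrix.mulVec_mulVec, ← Matrix.mulVec_mulVec, Matrix.dotProduct_mulVec,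
    Matrix.vecMul_transpose]

theorem piece (M₁ M₂ e : Matrix ι ι K) (he : e * e = e)
    (halt₁ : ∀ x : ι → K, x ⬝ᵥ M₁ *ᵥ x = 0) (halt₂ : ∀ x : ι → K, x ⬝ᵥ M₂ *ᵥ x = 0)
    (hnd₁ : ∀ x : ι → K, e *ᵥ x = x → (∀ y : ι → K, e *ᵥ y = y → x ⬝ᵥ M₁ *ᵥ y = 0) → x = 0)
    (hnd₂ : ∀ x : ι → K, e *ᵥ x = x → (∀ y : ι → K, e *ᵥ y = y → x ⬝ᵥ M₂ *ᵥ y = 0) → x = 0) :
    ∃ c : Matrix ι ι K, e * c = c ∧ c * e = c ∧ cᵀ * M₁ * c = eᵀ * M₂ * e := by
  classical
  obtain ⟨W, hW⟩ : ∃ W : Submodule K (ι → K), W = LinearMap.range (Matrix.toLin' e) := ⟨_, rfl⟩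
  have hmemW : ∀ x : ι → K, x ∈ W ↔ e *ᵥ x = x := by
    intro x
    rw [hW, LinearMap.mem_range]
    constructor
    · rintro ⟨v, rfl⟩
      rw [Matrix.toLin'_apply, Matrix.mulVec_mulVec, he]
    · intro h
      exact ⟨x, by rw [Matrix.toLin'_apply, h]⟩
  have hB : ∀ (M : Matrix ι ι K) (x y : ι → K), Matrix.toBilin' M x y = x ⬝ᵥ M *ᵥ y :=
    fun M x y => Matrix.toBilin'_apply' M x y
  have mkalt : ∀ M : Matrix ι ι K, (∀ x : ι → K, x ⬝ᵥ M *ᵥ x = 0) →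
      ((Matrix.toBilin' M).restrict W).IsAlt := by
    intro M h x
    show Matrix.toBilin' M (x : ι → K) (x : ι → K) = 0
    rw [hB]; exact h _
  have mknd : ∀ M : Matrix ι ι K, (∀ x : ι → K, x ⬝ᵥ M *ᵥ x = 0) →
      (∀ x : ι → K, e *ᵥ x = x → (∀ y : ι → K, e *ᵥ y = y → x ⬝ᵥ M *ᵥ y = 0) → x = 0) →
      ((Matrix.toBilin' M).restrict W).Nondegenerate := by
    intro M halt hnd
    have key : ∀ w : W, (∀ u : W, Matrix.toBilin' M (w : ι → K) (u : ι → K) = 0) → w = 0 := by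
      intro w hw
      apply Subtype.ext
      apply hnd w.1 ((hmemW _).mp w.2)
      intro y hy
      have := hw ⟨y, (hmemW _).mpr hy⟩
      rw [hB] at this
      exact this
    constructor
    · intro w hw
      exact key w (fun u => hw u)
    · intro w hw
      apply key w
      intro u
      have h2 : Matrix.toBilin' M (u : ι → K) (w : ι → K) = 0 := hw u
      have h3 := (mkalt M halt).neg_eq u w
      have h4 : -(Matrix.toBilin' M (u : ι → K) (w : ι → K))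
          = Matrix.toBilin' M (w : ι → K) (u : ι → K) := h3
      rw [← h4, h2, neg_zero]
  obtain ⟨φ, hφ⟩ := alt_equiv ((Matrix.toBilin' M₁).restrict W) ((Matrix.toBilin' M₂).restrict W)
    (mkalt M₁ halt₁) (mkalt M₂ halt₂) (mknd M₁ halt₁ hnd₁) (mknd M₂ halt₂ hnd₂)
  obtain ⟨pr, hpr⟩ : ∃ pr : (ι → K) →ₗ[K] W, ∀ x, (pr x : ι → K) = e *ᵥ x := by
    refine ⟨LinearMap.codRestrict W (Matrix.toLin' e) (fun x => ?_), fun x => rfl⟩
    rw [hW]; exact LinearMap.mem_range_self _ x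
  obtain ⟨cl, hcl⟩ : ∃ cl : (ι → K) →ₗ[K] (ι → K), ∀ x, cl x = (φ (pr x) : ι → K) :=
    ⟨W.subtype ∘ₗ φ.toLinearMap ∘ₗ pr, fun x => rfl⟩
  have hcv : ∀ x, (LinearMap.toMatrix' cl) *ᵥ x = (φ (pr x) : ι → K) := by
    intro x
    rw [LinearMap.toMatrix'_mulVec, hcl]
  refine ⟨LinearMap.toMatrix' cl, ?_, ?_, ?_⟩
  · apply Matrix.toLin'.injective
    apply LinearMap.ext
    intro x
    rw [Matrix.toLin'_apply, Matrix.toLin'_apply, ← Matrix.mulVec_mulVec, hcv]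
    exact (hmemW _).mp (φ (pr x)).2
  · apply Matrix.toLin'.injective
    apply LinearMap.ext
    intro x
    rw [Matrix.toLin'_apply, Matrix.toLin'_apply, ← Matrix.mulVec_mulVec, hcv, hcv]
    congr 2
    apply Subtype.ext
    rw [hpr, hpr, Matrix.mulVec_mulVec, he]
  · apply mat_ext_bilin
    intro x y
    rw [bilin_congr, bilin_congr, hcv, hcv]
    have h1 := hφ (pr x) (pr y)
    have h2 : Matrix.toBilin' M₁ (φ (pr x) : ι → K) (φ (pr y) : ι → K)
        = Matrix.toBilin' M₂ (pr x : ι → K) (pr y : ι → K) := h1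
    rw [hB, hB, hpr, hpr] at h2
    exact h2

end Cfsg.Agent.Lib.Helper16.SpSemi
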