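import Mathlib
import Cfsg.Prelude.Def_LieTypeDatum
import Cfsg.Agent.Lib.Helper16.PG3
import Cfsg.Agent.Lib.Helper16.SpSemi1

set_option autoImplicit false
set_option linter.unusedSectionVars false

namespace Cfsg.Agent.Lib.Helper16.PG

open Matrix Cfsg.Agent.Lib.Helper16.SpSemi

universe u

section
variable {F : Type u} [Field F]

/-- the bilinear form with Gram matrix `M`. -/
def bilM {ι : Type} [Fintype ι] (M : Matrix ι ι F) (u v : ι → F) : F := u ⬝ᵥ M *ᵥ v

theorem mem_simM_iff {ι : Type} [Fintype ι] [DecidableEq ι] (M : Matrix ι ι F) (h : GL ι F) :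
    h ∈ Cfsg.Geo.similarityGroup (bilM M) ↔
      ∃ c : Fˣ, (h : Matrix ι ι F)ᵀ * M * (h : Matrix ι ι F) = (c : F) • M := by
  constructor
  · rintro ⟨c, hc⟩
    refine ⟨c, ?_⟩
    apply mat_ext_bilin
    intro x y
    rw [bilin_congr]
    have := hc x y
    unfold bilM at this
    rw [this, Matrix.smul_mulVec, dotProduct_smul, smul_eq_mul]
  · rintro ⟨c, hc⟩
    refine ⟨c, ?_⟩
    intro x y
    unfold bilM
    rw [← bilin_congr, hc, Matrix.smul_mulVec, dotProduct_smul, smul_eq_mul]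

variable {n : ℕ}

/-- commutation of an inner-diagonal automorphism with a graph automorphism. -/
theorem comm_graph_iff (g h : GL (Fin n) F) :
    Phi n F h * (Phi n F g * iota n F) = (Phi n F g * iota n F) * Phi n F h ↔
      h ∈ Cfsg.Geo.similarityGroup (bilM ((g⁻¹ : GL (Fin n) F) : Matrix (Fin n) (Fin n) F)) := by
  rw [mem_simM_iff]
  have h1 : (Phi n F g * iota n F) * Phi n F h = Phi n F (g * gTI n F h) * iota n F := by
    rw [mul_assoc, iota_mul_Phi, ← mul_assoc, ← map_mul]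
  have h2 : Phi n F h * (Phi n F g * iota n F) = Phi n F (h * g) * iota n F := by
    rw [← mul_assoc, ← map_mul]
  rw [h1, h2, mul_left_inj]
  have h3 : ∀ a b : GL (Fin n) F, Phi n F a = Phi n F b ↔ Phi n F (b⁻¹ * a) = 1 := by
    intro a b
    rw [map_mul, map_inv, inv_mul_eq_one, eq_comm]
  rw [h3, Phi_eq_one_iff, Cfsg.Geo.mem_scalars_iff]
  have h4 : (((g * gTI n F h)⁻¹ * (h * g) : GL (Fin n) F) : Matrix (Fin n) (Fin n) F) =
      (h : Matrix (Fin n) (Fin n) F)ᵀ * ((g⁻¹ : GL (Fin n) F) : Matrix (Fin n) (Fin n) F) *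
        (h : Matrix (Fin n) (Fin n) F) * (g : Matrix (Fin n) (Fin n) F) := by
    rw [_root_.mul_inv_rev, Units.val_mul, Units.val_mul, Units.val_mul, gTI_inv_val]
    simp only [Matrix.mul_assoc]
  rw [h4]
  constructor
  · rintro ⟨c, hc⟩
    refine ⟨c, ?_⟩
    have h5 := congrArg (fun X => X * ((g⁻¹ : GL (Fin n) F) : Matrix (Fin n) (Fin n) F)) hc
    simp only [Matrix.mul_assoc, gl_mul_inv, Matrix.mul_one, Matrix.smul_mul, Matrix.one_mul] at h5
    simp only [Matrix.mul_assoc]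
    exact h5
  · rintro ⟨c, hc⟩
    refine ⟨c, ?_⟩
    rw [hc, Matrix.smul_mul, gl_inv_mul]

theorem cent_graph_eq (g : GL (Fin n) F) :
    Cfsg.inndiagPSL n F ⊓ Subgroup.centralizer {Phi n F g * iota n F} =
      (Cfsg.Geo.similarityGroup (bilM ((g⁻¹ : GL (Fin n) F) : Matrix (Fin n) (Fin n) F))).map (Phi n F) := by
  ext β
  rw [Subgroup.mem_inf, inndiag_eq_range, MonoidHom.mem_range, Subgroup.mem_centralizer_iff, Subgroup.mem_map]
  constructor
  · rintro ⟨⟨h, rfl⟩, hc⟩
    refine ⟨h, ?_, rfl⟩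
    rw [← comm_graph_iff]
    exact (hc _ (Set.mem_singleton _)).symm
  · rintro ⟨h, hh, rfl⟩
    refine ⟨⟨h, rfl⟩, ?_⟩
    intro y hy
    rw [Set.mem_singleton_iff] at hy
    subst hy
    exact ((comm_graph_iff g h).mpr hh).symm

/-- the centraliser of the graph automorphism `Φ g ι` in `Inndiag` is the projective similarity
group of the form with Gram matrix `g⁻¹`. -/
theorem cent_graph_equiv (g : GL (Fin n) F) :
    Nonempty (↥(Cfsg.inndiagPSL n F ⊓ Subgroup.centralizer {Phi n F g * iota n F}) ≃*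
      Cfsg.projQuot (Cfsg.Geo.similarityGroup (bilM ((g⁻¹ : GL (Fin n) F) : Matrix (Fin n) (Fin n) F)))) := by
  set S := Cfsg.Geo.similarityGroup (bilM ((g⁻¹ : GL (Fin n) F) : Matrix (Fin n) (Fin n) F)) with hS
  set φ := (Phi n F).subgroupMap S with hφ
  have hsurj : Function.Surjective φ := (Phi n F).subgroupMap_surjective S
  have hker : φ.ker = (Cfsg.Geo.scalars (Fin n) F).subgroupOf S := by
    ext x
    rw [MonoidHom.mem_ker, Subgroup.mem_subgroupOf, ← Phi_eq_one_iff]
    constructor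
    · intro hx
      have := congrArg Subtype.val hx
      exact this
    · intro hx
      apply Subtype.ext
      exact hx
  have e1 : ↥S ⧸ φ.ker ≃* ↥(S.map (Phi n F)) := QuotientGroup.quotientKerEquivOfSurjective φ hsurj
  have e2 : ↥S ⧸ φ.ker ≃* ↥S ⧸ (Cfsg.Geo.scalars (Fin n) F).subgroupOf S :=
    QuotientGroup.quotientMulEquivOfEq hker
  have e3 : ↥(Cfsg.inndiagPSL n F ⊓ Subgroup.centralizer {Phi n F g * iota n F}) ≃* ↥(S.map (Phi n F)) :=
    MulEquiv.subgroupCongr (cent_graph_eq g)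
  exact ⟨e3.trans (e1.symm.trans e2)⟩

end

end Cfsg.Agent.Lib.Helper16.PG
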