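import Mathlib
import Cfsg.Prelude.Def_LieTypeDatum
import Cfsg.Agent.Lib.Helper16.PG4

set_option autoImplicit false
set_option linter.unusedSectionVars false

namespace Cfsg.Agent.Lib.Helper16.PG

open Matrix

universe u

section
variable {n : ℕ} {F : Type u} [Field F]

/-- equal classes in `PSL_n` differ by a scalar. -/
theorem mk_eq_imp (a b : Matrix.SpecialLinearGroup (Fin n) F)
    (h : (QuotientGroup.mk a : Matrix.ProjectiveSpecialLinearGroup (Fin n) F) = QuotientGroup.mk b) :
    ∃ r : F, r ^ n = 1 ∧ r • (a : Matrix (Fin n) (Fin n) F) = (b : Matrix (Fin n) (Fin n) F) := by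
  rw [QuotientGroup.eq] at h
  rw [Matrix.SpecialLinearGroup.mem_center_iff] at h
  obtain ⟨r, hrn, hr⟩ := h
  rw [Fintype.card_fin] at hrn
  refine ⟨r, hrn, ?_⟩
  have h1 : (a⁻¹ * b : Matrix.SpecialLinearGroup (Fin n) F).1 =
      (a⁻¹ : Matrix.SpecialLinearGroup (Fin n) F).1 * b.1 := rfl
  have h2 : a.1 * (scalar (Fin n) r) = b.1 := by
    rw [hr, h1, ← Matrix.mul_assoc, sl_mul_inv, Matrix.one_mul]
  rw [Matrix.scalar_apply] at h2
  rw [Matrix.smul_eq_mul_diagonal]
  exact h2

/-- the nilpotent-part comparison used for transvections. -/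
theorem conj_nilp (G Gi N N' : Matrix (Fin n) (Fin n) F) (hGGi : G * Gi = 1) (hGiG : Gi * G = 1)
    (hNN : N * N = 0) (hN'N' : N' * N' = 0) (i : Fin n) (hi : N' i i = 0) (r : F)
    (hr : r • (G * (1 + N) * Gi) = 1 + N') : G * N * Gi = N' := by
  have h1 : r • (G * N * Gi) = (1 - r) • (1 : Matrix (Fin n) (Fin n) F) + N' := by
    have : r • (G * (1 + N) * Gi) = r • (1 : Matrix (Fin n) (Fin n) F) + r • (G * N * Gi) := by
      rw [Matrix.mul_add, Matrix.add_mul, Matrix.mul_one, hGGi, smul_add]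
    rw [this] at hr
    rw [sub_smul, one_smul]
    rw [← sub_eq_zero] at hr ⊢
    rw [← hr]
    abel
  have h2 : (r • (G * N * Gi)) * (r • (G * N * Gi)) = 0 := by
    rw [Matrix.smul_mul, Matrix.mul_smul]
    have : G * N * Gi * (G * N * Gi) = G * (N * (Gi * G) * N) * Gi := by
      simp only [Matrix.mul_assoc]
    rw [this, hGiG, Matrix.mul_one, hNN, Matrix.mul_zero, Matrix.zero_mul, smul_zero, smul_zero]
  rw [h1] at h2
  have h3 : ((1 - r) • (1 : Matrix (Fin n) (Fin n) F) + N') * ((1 - r) • (1 : Matrix (Fin n) (Fin n) F) + N') =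
      ((1 - r) * (1 - r)) • (1 : Matrix (Fin n) (Fin n) F) + (2 * (1 - r)) • N' := by
    rw [Matrix.add_mul, Matrix.mul_add, Matrix.mul_add, hN'N', Matrix.smul_mul, Matrix.mul_smul, Matrix.one_mul,
      Matrix.smul_mul, Matrix.one_mul, Matrix.mul_smul, Matrix.mul_one, smul_smul, two_mul, add_smul]
    abel
  rw [h3] at h2
  have h4 := congrFun (congrFun h2 i) i
  simp only [Matrix.add_apply, Matrix.smul_apply, Matrix.one_apply_eq, smul_eq_mul, mul_one, hi, mul_zero,
    add_zero, Matrix.zero_apply] at h4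
  have hr1 : r = 1 := by
    have := mul_self_eq_zero.mp h4
    exact (sub_eq_zero.mp this).symm
  rw [hr1, one_smul] at hr
  rw [Matrix.mul_add, Matrix.add_mul, Matrix.mul_one, hGGi] at hr
  exact add_left_cancel hr

/-- elementary transvections in `SL_n`. -/
noncomputable def tvSL (i j : Fin n) (hij : i ≠ j) (c : F) : Matrix.SpecialLinearGroup (Fin n) F :=
  ⟨1 + Matrix.single i j c, by
    have := Matrix.det_transvection_of_ne i j hij c
    rw [Matrix.transvection] at this
    exact this⟩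

theorem tvSL_val (i j : Fin n) (hij : i ≠ j) (c : F) :
    ((tvSL i j hij c : Matrix.SpecialLinearGroup (Fin n) F) : Matrix (Fin n) (Fin n) F) =
      1 + Matrix.single i j c := rfl

theorem invT_transvection {i j : Fin n} (hij : i ≠ j) :
    invT n F (tvSL i j hij (1 : F)) = tvSL j i hij.symm (-1 : F) := by
  apply Subtype.ext
  rw [invT_val, tvSL_val]
  rw [sl_inv_val_eq _ (1 + Matrix.single i j (-1 : F))]
  · rw [Matrix.transpose_add, Matrix.transpose_one, Matrix.transpose_single]
  · rw [tvSL_val]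
    rw [Matrix.add_mul, Matrix.mul_add, Matrix.mul_add, Matrix.one_mul, Matrix.one_mul, Matrix.mul_one,
      Matrix.single_mul_single_of_ne (-1 : F) i j i hij.symm (1 : F), add_zero]
    rw [add_assoc, ← Matrix.single_add]
    simp

/-- if `ι = Φ h` then `h E_{ij} h⁻¹ = -E_{ji}`. -/
theorem iota_eq_Phi_conj (h : GL (Fin n) F) (heq : iota n F = Phi n F h) {i j : Fin n} (hij : i ≠ j) :
    (h : Matrix (Fin n) (Fin n) F) * Matrix.single i j (1 : F) * ((h⁻¹ : GL (Fin n) F) : Matrix (Fin n) (Fin n) F) =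
      Matrix.single j i (-1 : F) := by
  have h1 : Phi n F h (QuotientGroup.mk (tvSL i j hij (1 : F))) =
      QuotientGroup.mk (tvSL j i hij.symm (-1 : F)) := by
    rw [← heq, iota_mk, invT_transvection hij]
  rw [Phi_mk] at h1
  obtain ⟨r, -, hr⟩ := mk_eq_imp _ _ h1
  rw [conjSL_val, tvSL_val, tvSL_val] at hr
  apply conj_nilp _ _ _ _ (gl_mul_inv h) (gl_inv_mul h)
    (Matrix.single_mul_single_of_ne (1 : F) i j i hij.symm (1 : F))
    (Matrix.single_mul_single_of_ne (-1 : F) j i j hij (-1 : F)) i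
    (by rw [Matrix.single_apply_of_ne]; exact fun hh => hij hh.1.symm) r hr

theorem iota_ne_Phi (hn : 3 ≤ n) (h : GL (Fin n) F) : iota n F ≠ Phi n F h := by
  intro heq
  set i₁ : Fin n := ⟨0, by omega⟩ with hi₁
  set i₂ : Fin n := ⟨1, by omega⟩ with hi₂
  set i₃ : Fin n := ⟨2, by omega⟩ with hi₃
  have h12 : i₁ ≠ i₂ := by rw [hi₁, hi₂]; intro h; simp [Fin.ext_iff] at h
  have h13 : i₁ ≠ i₃ := by rw [hi₁, hi₃]; intro h; simp [Fin.ext_iff] at h
  have h23 : i₂ ≠ i₃ := by rw [hi₂, hi₃]; intro h; simp [Fin.ext_iff] at h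
  set H := (h : Matrix (Fin n) (Fin n) F) with hH
  have e12 := iota_eq_Phi_conj h heq h12
  have e13 := iota_eq_Phi_conj h heq h13
  -- H * E = E' * H
  have c12 : H * Matrix.single i₁ i₂ (1 : F) = Matrix.single i₂ i₁ (-1 : F) * H := by
    rw [← e12, Matrix.mul_assoc, gl_inv_mul, Matrix.mul_one]
  have c13 : H * Matrix.single i₁ i₃ (1 : F) = Matrix.single i₃ i₁ (-1 : F) * H := by
    rw [← e13, Matrix.mul_assoc, gl_inv_mul, Matrix.mul_one]
  have hcol : ∀ a, H a i₁ = 0 := by
    intro a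
    by_cases ha : a = i₂
    · -- use c13 at (a, i₃)
      have := congrFun (congrFun c13 a) i₃
      rw [Matrix.mul_single_apply_same, Matrix.single_mul_apply_of_ne, mul_one] at this
      · exact this
      · rw [ha]; exact h23
    · have := congrFun (congrFun c12 a) i₂
      rw [Matrix.mul_single_apply_same, Matrix.single_mul_apply_of_ne, mul_one] at this
      · exact this
      · exact ha
  have hdet : H.det = 0 := Matrix.det_eq_zero_of_column_eq_zero i₁ hcol
  have hunit : IsUnit H.det := by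
    rw [← Matrix.isUnit_iff_isUnit_det]
    exact ⟨h, rfl⟩
  rw [hdet] at hunit
  exact not_isUnit_zero hunit

end

end Cfsg.Agent.Lib.Helper16.PG
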