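import Mathlib
import Cfsg.Prelude.Def_LieTypeDatum
import Cfsg.Agent.Lib.Helper16.PG8

set_option autoImplicit false
set_option linter.unusedSectionVars false

namespace Cfsg.Agent.Lib.Helper16.PG

open Matrix

universe u

section
variable {n : ℕ} {F : Type u} [Field F]

/-- scalar matrices as elements of `GL`. -/
noncomputable def scalGL (n : ℕ) (c : Fˣ) : GL (Fin n) F :=
  Units.map (Matrix.scalar (Fin n) : F →+* Matrix (Fin n) (Fin n) F).toMonoidHom c

theorem scalGL_mem (c : Fˣ) : scalGL n c ∈ Cfsg.Geo.scalars (Fin n) F := ⟨c, rfl⟩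

theorem scalGL_val (c : Fˣ) : ((scalGL n c : GL (Fin n) F) : Matrix (Fin n) (Fin n) F) = (c : F) • 1 := by
  show Matrix.scalar (Fin n) (c : F) = _
  rw [Matrix.smul_one_eq_diagonal]
  rfl

theorem Phi_scalGL (c : Fˣ) : Phi n F (scalGL n c) = 1 := (Phi_eq_one_iff _).mpr (scalGL_mem c)

theorem Phi_eq_iff (a b : GL (Fin n) F) :
    Phi n F a = Phi n F b ↔ ∃ c : Fˣ, a = b * scalGL n c := by
  constructor
  · intro h
    have h1 : Phi n F (b⁻¹ * a) = 1 := by
      rw [map_mul, map_inv, h, inv_mul_cancel]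
    rw [Phi_eq_one_iff] at h1
    obtain ⟨c, hc⟩ := h1
    refine ⟨c, ?_⟩
    have : scalGL n c = b⁻¹ * a := hc
    rw [this, mul_inv_cancel_left]
  · rintro ⟨c, rfl⟩
    rw [map_mul, Phi_scalGL, mul_one]

theorem graph_sq (g : GL (Fin n) F) :
    (Phi n F g * iota n F) * (Phi n F g * iota n F) = Phi n F (g * gTI n F g) := by
  rw [mul_assoc, ← mul_assoc (iota n F), iota_mul_Phi, mul_assoc, iota_sq, mul_one, ← map_mul]

theorem graph_conj (k g : GL (Fin n) F) :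
    Phi n F k * (Phi n F g * iota n F) * (Phi n F k)⁻¹ = Phi n F (k * g * (gTI n F k)⁻¹) * iota n F := by
  have h1 : iota n F * (Phi n F k)⁻¹ = (Phi n F (gTI n F k))⁻¹ * iota n F := by
    rw [eq_inv_mul_iff_mul_eq, ← mul_assoc, ← iota_mul_Phi, mul_assoc, mul_inv_cancel, mul_one]
  rw [mul_assoc, mul_assoc, h1, ← mul_assoc, ← mul_assoc, ← map_inv, ← map_mul, ← map_mul]

/-- the graph automorphism `Φ g ι` squares to one iff the Gram matrix `g⁻¹` is (skew-)symmetric up to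
a scalar. -/
theorem graph_sq_eq_one_iff (g : GL (Fin n) F) :
    (Phi n F g * iota n F) * (Phi n F g * iota n F) = 1 ↔
      ∃ c : Fˣ, ((g⁻¹ : GL (Fin n) F) : Matrix (Fin n) (Fin n) F)ᵀ =
        (c : F) • ((g⁻¹ : GL (Fin n) F) : Matrix (Fin n) (Fin n) F) := by
  rw [graph_sq, Phi_eq_one_iff, Cfsg.Geo.mem_scalars_iff, Units.val_mul, gTI_val]
  constructor
  · rintro ⟨c, hc⟩
    refine ⟨c, ?_⟩
    have h1 := congrArg (fun X => ((g⁻¹ : GL (Fin n) F) : Matrix (Fin n) (Fin n) F) * X) hc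
    simp only [← Matrix.mul_assoc, gl_inv_mul, Matrix.one_mul, Matrix.mul_smul, Matrix.mul_one] at h1
    exact h1
  · rintro ⟨c, hc⟩
    refine ⟨c, ?_⟩
    rw [hc, Matrix.mul_smul, gl_mul_inv]

/-- conjugacy of graph automorphisms under `Inndiag` in terms of Gram matrices. -/
theorem isConj_graph_iff (g g' : GL (Fin n) F) :
    Cfsg.IsConjUnder (Cfsg.inndiagPSL n F) (Phi n F g * iota n F) (Phi n F g' * iota n F) ↔
      ∃ (k : GL (Fin n) F) (c : Fˣ), ((g'⁻¹ : GL (Fin n) F) : Matrix (Fin n) (Fin n) F) =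
        (c : F) • ((k : Matrix (Fin n) (Fin n) F)ᵀ * ((g⁻¹ : GL (Fin n) F) : Matrix (Fin n) (Fin n) F) *
          (k : Matrix (Fin n) (Fin n) F)) := by
  constructor
  · rintro ⟨β, hβ, hy⟩
    rw [inndiag_eq_range] at hβ
    obtain ⟨k₀, rfl⟩ := hβ
    rw [graph_conj, mul_left_inj, Phi_eq_iff] at hy
    obtain ⟨c, hc⟩ := hy
    refine ⟨k₀⁻¹, c⁻¹, ?_⟩
    have h1 : g'⁻¹ = scalGL n c⁻¹ * gTI n F k₀ * g⁻¹ * k₀⁻¹ := by
      rw [hc]
      have : (scalGL n c : GL (Fin n) F)⁻¹ = scalGL n c⁻¹ := by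
        unfold scalGL
        rw [map_inv]
      rw [← this]
      group
    rw [h1, Units.val_mul, Units.val_mul, Units.val_mul, scalGL_val, gTI_val, Matrix.smul_mul, Matrix.one_mul,
      Matrix.smul_mul, Matrix.smul_mul]
  · rintro ⟨k, c, hk⟩
    refine ⟨Phi n F k⁻¹, ?_, ?_⟩
    · rw [inndiag_eq_range]; exact ⟨k⁻¹, rfl⟩
    · rw [graph_conj, mul_left_inj, Phi_eq_iff]
      refine ⟨c⁻¹, ?_⟩
      have h1 : g'⁻¹ = scalGL n c * gTI n F k⁻¹ * g⁻¹ * k := by
        apply Units.ext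
        rw [hk, Units.val_mul, Units.val_mul, Units.val_mul, scalGL_val, gTI_val, inv_inv, Matrix.smul_mul,
          Matrix.one_mul, Matrix.smul_mul, Matrix.smul_mul]
      have h2 : g' = (scalGL n c * gTI n F k⁻¹ * g⁻¹ * k)⁻¹ := by
        rw [← h1, inv_inv]
      rw [h2]
      have : (scalGL n c : GL (Fin n) F)⁻¹ = scalGL n c⁻¹ := by
        unfold scalGL
        rw [map_inv]
      rw [← this]
      group

end

end Cfsg.Agent.Lib.Helper16.PG
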