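import Mathlib
import Cfsg.Prelude.Def_LieTypeDatum
import Cfsg.Agent.Lib.Helper16.PG9

set_option autoImplicit false
set_option linter.unusedSectionVars false
set_option linter.unusedVariables false

namespace Cfsg.Agent.Lib.Helper16.AP

open Matrix Cfsg.Agent.Lib.Helper16.PG

universe u

section
variable {n : ℕ} {F : Type u} [Field F]

/-- the transvection matrix `1 + t v φᵀ`. -/
def tM (v φ : Fin n → F) (t : F) : Matrix (Fin n) (Fin n) F := 1 + t • Matrix.vecMulVec v φ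

theorem tM_mulVec (v φ : Fin n → F) (t : F) (x : Fin n → F) :
    tM v φ t *ᵥ x = x + (t * (φ ⬝ᵥ x)) • v := by
  unfold tM
  rw [Matrix.add_mulVec, Matrix.one_mulVec, Matrix.smul_mulVec, Matrix.vecMulVec_mulVec, op_smul_eq_smul,
    smul_smul]

theorem tM_vecMul (v φ : Fin n → F) (t : F) (y : Fin n → F) :
    y ᵥ* tM v φ t = y + (t * (y ⬝ᵥ v)) • φ := by
  unfold tM
  rw [Matrix.vecMul_add, Matrix.vecMul_one, Matrix.vecMul_smul, Matrix.vecMul_vecMulVec, smul_smul]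

theorem tM_det (v φ : Fin n → F) (h : φ ⬝ᵥ v = 0) (t : F) : (tM v φ t).det = 1 := by
  unfold tM
  have h1 : t • Matrix.vecMulVec v φ = Matrix.vecMulVec (t • v) φ := by
    ext i j
    simp [Matrix.vecMulVec_apply, mul_assoc]
  rw [h1, Matrix.vecMulVec_eq Unit, Matrix.det_one_add_replicateCol_mul_replicateRow, dotProduct_smul, h,
    smul_zero, add_zero]

theorem vmv_mul (v φ v' φ' : Fin n → F) :
    Matrix.vecMulVec v φ * Matrix.vecMulVec v' φ' = (φ ⬝ᵥ v') • Matrix.vecMulVec v φ' := by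
  rw [Matrix.vecMulVec_mul_vecMulVec]
  ext i j
  simp [Matrix.vecMulVec_apply]
  ring

theorem tM_mul_tM (v φ v' φ' : Fin n → F) (s t : F) :
    tM v φ s * tM v' φ' t = 1 + s • Matrix.vecMulVec v φ + t • Matrix.vecMulVec v' φ' +
      (s * t * (φ ⬝ᵥ v')) • Matrix.vecMulVec v φ' := by
  unfold tM
  rw [Matrix.add_mul, Matrix.mul_add, Matrix.mul_add, Matrix.one_mul, Matrix.mul_one, Matrix.one_mul,
    Matrix.smul_mul, Matrix.mul_smul, vmv_mul, smul_smul, smul_smul]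
  abel

theorem tM_add (v φ : Fin n → F) (h : φ ⬝ᵥ v = 0) (s t : F) :
    tM v φ s * tM v φ t = tM v φ (s + t) := by
  rw [tM_mul_tM, h, mul_zero, zero_smul, add_zero]
  unfold tM
  rw [add_smul, add_assoc]

theorem tM_zero (v φ : Fin n → F) : tM v φ 0 = 1 := by
  unfold tM
  rw [zero_smul, add_zero]

/-- the transvection as an element of `SL_n`. -/
def tS (v φ : Fin n → F) (h : φ ⬝ᵥ v = 0) (t : F) : SpecialLinearGroup (Fin n) F :=
  ⟨tM v φ t, tM_det v φ h t⟩

theorem tS_val (v φ : Fin n → F) (h : φ ⬝ᵥ v = 0) (t : F) :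
    ((tS v φ h t : SpecialLinearGroup (Fin n) F) : Matrix (Fin n) (Fin n) F) = tM v φ t := rfl

theorem tS_add (v φ : Fin n → F) (h : φ ⬝ᵥ v = 0) (s t : F) :
    tS v φ h s * tS v φ h t = tS v φ h (s + t) :=
  Subtype.ext (tM_add v φ h s t)

theorem tS_zero (v φ : Fin n → F) (h : φ ⬝ᵥ v = 0) : tS v φ h 0 = 1 :=
  Subtype.ext (tM_zero v φ)

theorem tS_inv (v φ : Fin n → F) (h : φ ⬝ᵥ v = 0) (t : F) : (tS v φ h t)⁻¹ = tS v φ h (-t) := by
  rw [inv_eq_iff_mul_eq_one, tS_add, add_neg_cancel, tS_zero]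

/-- an incident point-hyperplane pair, by representatives. -/
structure Flag (n : ℕ) (F : Type u) [Field F] where
  v : Fin n → F
  φ : Fin n → F
  hv : v ≠ 0
  hφ : φ ≠ 0
  h : φ ⬝ᵥ v = 0

/-- the transvection subgroup of `SL_n` of a flag. -/
def tSub (fl : Flag n F) : Subgroup (SpecialLinearGroup (Fin n) F) where
  carrier := {s | ∃ t : F, s = tS fl.v fl.φ fl.h t}
  mul_mem' := by
    rintro _ _ ⟨s, rfl⟩ ⟨t, rfl⟩
    exact ⟨s + t, tS_add _ _ _ _ _⟩
  one_mem' := ⟨0, (tS_zero _ _ _).symm⟩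
  inv_mem' := by
    rintro _ ⟨t, rfl⟩
    exact ⟨-t, tS_inv _ _ _ _⟩

/-- the transvection subgroup of `PSL_n` of a flag. -/
def T (fl : Flag n F) : Subgroup (ProjectiveSpecialLinearGroup (Fin n) F) :=
  (tSub fl).map (QuotientGroup.mk' _)

theorem mem_T_iff (fl : Flag n F) (x : ProjectiveSpecialLinearGroup (Fin n) F) :
    x ∈ T fl ↔ ∃ t : F, x = QuotientGroup.mk (tS fl.v fl.φ fl.h t) := by
  unfold T
  rw [Subgroup.mem_map]
  constructor
  · rintro ⟨s, ⟨t, rfl⟩, rfl⟩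
    exact ⟨t, rfl⟩
  · rintro ⟨t, rfl⟩
    exact ⟨_, ⟨t, rfl⟩, rfl⟩

theorem mk_tS_mem (fl : Flag n F) (t : F) :
    (QuotientGroup.mk (tS fl.v fl.φ fl.h t) : ProjectiveSpecialLinearGroup (Fin n) F) ∈ T fl :=
  (mem_T_iff fl _).mpr ⟨t, rfl⟩

/-- two non-zero vectors are parallel. -/
def par (v v' : Fin n → F) : Prop := ∃ c : F, c ≠ 0 ∧ v' = c • v

theorem par_refl (v : Fin n → F) : par v v := ⟨1, one_ne_zero, (one_smul _ _).symm⟩

theorem par_symm {v v' : Fin n → F} (h : par v v') : par v' v := by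
  obtain ⟨c, hc, rfl⟩ := h
  exact ⟨c⁻¹, inv_ne_zero hc, by rw [smul_smul, inv_mul_cancel₀ hc, one_smul]⟩

theorem par_trans {v v' v'' : Fin n → F} (h : par v v') (h' : par v' v'') : par v v'' := by
  obtain ⟨c, hc, rfl⟩ := h
  obtain ⟨d, hd, rfl⟩ := h'
  exact ⟨d * c, mul_ne_zero hd hc, by rw [smul_smul]⟩

theorem tM_smul_smul (v φ : Fin n → F) (a b t : F) : tM (a • v) (b • φ) t = tM v φ (a * b * t) := by
  unfold tM
  ext i j
  simp [Matrix.vecMulVec_apply]
  ring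

theorem T_eq_of_par (fl fl' : Flag n F) (hv : par fl.v fl'.v) (hφ : par fl.φ fl'.φ) : T fl = T fl' := by
  obtain ⟨a, ha, hva⟩ := hv
  obtain ⟨b, hb, hφb⟩ := hφ
  ext x
  rw [mem_T_iff, mem_T_iff]
  constructor
  · rintro ⟨t, rfl⟩
    refine ⟨(a * b)⁻¹ * t, ?_⟩
    congr 1
    apply Subtype.ext
    rw [tS_val, tS_val, hva, hφb, tM_smul_smul, ← mul_assoc, mul_inv_cancel₀ (mul_ne_zero ha hb), one_mul]
  · rintro ⟨t, rfl⟩
    refine ⟨a * b * t, ?_⟩
    congr 1
    apply Subtype.ext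
    rw [tS_val, tS_val, hva, hφb, tM_smul_smul]

/-- in dimension at least three, two linear forms have a common non-zero kernel vector. -/
theorem exists_common_ker (hn : 3 ≤ n) (φ φ' : Fin n → F) :
    ∃ w : Fin n → F, w ≠ 0 ∧ φ ⬝ᵥ w = 0 ∧ φ' ⬝ᵥ w = 0 := by
  let L : (Fin n → F) →ₗ[F] (Fin 2 → F) :=
    { toFun := fun w => ![φ ⬝ᵥ w, φ' ⬝ᵥ w]
      map_add' := by
        intro x y
        ext i
        fin_cases i <;> simp [dotProduct_add]
      map_smul' := by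
        intro c x
        ext i
        fin_cases i <;> simp [dotProduct_smul] }
  have h1 : LinearMap.ker L ≠ ⊥ := by
    apply LinearMap.ker_ne_bot_of_finrank_lt
    rw [Module.finrank_fin_fun, Module.finrank_fin_fun]
    omega
  obtain ⟨w, hw, hw0⟩ := Submodule.exists_mem_ne_zero_of_ne_bot h1
  rw [LinearMap.mem_ker] at hw
  refine ⟨w, hw0, ?_, ?_⟩
  · have := congrFun hw 0
    simpa [L] using this
  · have := congrFun hw 1
    simpa [L] using this

/-- a scalar multiple of a product of two transvections which is a transvection: the scalar is `1`. -/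
theorem scalar_one_of_prod (hn : 3 ≤ n) (v φ v' φ' v'' φ'' : Fin n → F) (s t u r : F)
    (h'' : φ'' ⬝ᵥ v'' = 0) (hr : r • (tM v φ s * tM v' φ' t) = tM v'' φ'' u) : r = 1 := by
  obtain ⟨w, hw0, hw1, hw2⟩ := exists_common_ker hn φ φ'
  have h1 := congrArg (fun M => M *ᵥ w) hr
  simp only [Matrix.smul_mulVec, ← Matrix.mulVec_mulVec, tM_mulVec, hw1, hw2, mul_zero, zero_smul, add_zero] at h1
  -- h1 : r • w = w + (u * φ'' ⬝ᵥ w) • v''
  have h2 := congrArg (fun x => φ'' ⬝ᵥ x) h1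
  simp only [dotProduct_smul, dotProduct_add, h'', smul_eq_mul, mul_zero, add_zero] at h2
  -- h2 : r * φ''·w = φ''·w
  by_cases h3 : φ'' ⬝ᵥ w = 0
  · rw [h3, mul_zero, zero_smul, add_zero] at h1
    obtain ⟨i, hi⟩ := Function.ne_iff.mp hw0
    have h4 := congrFun h1 i
    simp only [Pi.smul_apply, smul_eq_mul, Pi.zero_apply] at h4 hi
    have h5 : (r - 1) * w i = 0 := by linear_combination h4
    rcases mul_eq_zero.mp h5 with h | h
    · exact sub_eq_zero.mp h
    · exact absurd h hi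
  · have h5 : (r - 1) * (φ'' ⬝ᵥ w) = 0 := by linear_combination h2
    rcases mul_eq_zero.mp h5 with h | h
    · exact sub_eq_zero.mp h
    · exact absurd h h3

theorem scalar_one_of_single (hn : 3 ≤ n) (v φ v'' φ'' : Fin n → F) (s u r : F)
    (h'' : φ'' ⬝ᵥ v'' = 0) (hr : r • tM v φ s = tM v'' φ'' u) : r = 1 := by
  apply scalar_one_of_prod hn v φ v φ v'' φ'' s 0 u r h''
  rw [tM_zero, Matrix.mul_one]
  exact hr

/-- a class in `PSL_n` lies in a transvection subgroup iff a representative is a transvection. -/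
theorem mk_mem_T (hn : 3 ≤ n) (fl : Flag n F) (s : SpecialLinearGroup (Fin n) F)
    (h : (QuotientGroup.mk s : ProjectiveSpecialLinearGroup (Fin n) F) ∈ T fl) (v φ v' φ' : Fin n → F) (a b : F)
    (hs : (s : Matrix (Fin n) (Fin n) F) = tM v φ a * tM v' φ' b) :
    ∃ t : F, tM v φ a * tM v' φ' b = tM fl.v fl.φ t := by
  rw [mem_T_iff] at h
  obtain ⟨t, ht⟩ := h
  obtain ⟨r, -, hr⟩ := mk_eq_imp _ _ ht
  rw [tS_val, hs] at hr
  have hr1 := scalar_one_of_prod hn v φ v' φ' fl.v fl.φ a b t r fl.h hr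
  rw [hr1, one_smul] at hr
  exact ⟨t, hr⟩

theorem exists_dot_eq_one (φ : Fin n → F) (hφ : φ ≠ 0) : ∃ x : Fin n → F, φ ⬝ᵥ x = 1 := by
  obtain ⟨i, hi⟩ := Function.ne_iff.mp hφ
  refine ⟨Pi.single i (φ i)⁻¹, ?_⟩
  rw [dotProduct_single]
  exact mul_inv_cancel₀ hi

/-- equal rank one matrices have parallel factors. -/
theorem par_of_vmv_eq (v φ v' φ' : Fin n → F) (hv : v ≠ 0) (hφ : φ ≠ 0) (c : F)
    (h : Matrix.vecMulVec v φ = c • Matrix.vecMulVec v' φ') : par v' v ∧ par φ' φ := by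
  obtain ⟨x, hx⟩ := exists_dot_eq_one φ hφ
  obtain ⟨y, hy⟩ := exists_dot_eq_one v hv
  have h1 := congrArg (fun M => M *ᵥ x) h
  simp only [Matrix.vecMulVec_mulVec, Matrix.smul_mulVec, hx, op_smul_eq_smul, one_smul, smul_smul] at h1
  have h2 := congrArg (fun M => y ᵥ* M) h
  simp only [Matrix.vecMul_vecMulVec, Matrix.vecMul_smul, dotProduct_comm y v, hy, one_smul, smul_smul] at h2
  constructor
  · refine ⟨c * (φ' ⬝ᵥ x), ?_, h1⟩
    intro h0
    rw [h0, zero_smul] at h1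
    exact hv h1
  · refine ⟨c * (y ⬝ᵥ v'), ?_, h2⟩
    intro h0
    rw [h0, zero_smul] at h2
    exact hφ h2

theorem one_ne_zero_tM (hn : 3 ≤ n) (v φ : Fin n → F) (hv : v ≠ 0) (hφ : φ ≠ 0) (t : F) (h : tM v φ t = 1) :
    t = 0 := by
  obtain ⟨x, hx⟩ := exists_dot_eq_one φ hφ
  have h1 := congrArg (fun M => M *ᵥ x) h
  simp only [tM_mulVec, hx, mul_one, Matrix.one_mulVec, add_eq_left] at h1
  rcases smul_eq_zero.mp h1 with h2 | h2
  · exact h2
  · exact absurd h2 hv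

/-- the flag is determined up to scalars by its transvection subgroup. -/
theorem par_of_T_eq (hn : 3 ≤ n) (fl fl' : Flag n F) (h : T fl = T fl') :
    par fl.v fl'.v ∧ par fl.φ fl'.φ := by
  have h1 : (QuotientGroup.mk (tS fl'.v fl'.φ fl'.h 1) : ProjectiveSpecialLinearGroup (Fin n) F) ∈ T fl := by
    rw [h]; exact mk_tS_mem fl' 1
  obtain ⟨t, ht⟩ := mk_mem_T hn fl _ h1 fl'.v fl'.φ fl'.v fl'.φ 1 0 (by rw [tS_val, tM_zero, Matrix.mul_one])
  rw [tM_zero, Matrix.mul_one] at ht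
  unfold tM at ht
  have h2 : Matrix.vecMulVec fl'.v fl'.φ = t • Matrix.vecMulVec fl.v fl.φ := by
    have := add_left_cancel ht
    rwa [one_smul] at this
  exact par_of_vmv_eq fl'.v fl'.φ fl.v fl.φ fl'.hv fl'.hφ t h2

/-- the action of `GL_n` on flags. -/
noncomputable def gFlag (g : GL (Fin n) F) (fl : Flag n F) : Flag n F where
  v := (g : Matrix (Fin n) (Fin n) F) *ᵥ fl.v
  φ := fl.φ ᵥ* ((g⁻¹ : GL (Fin n) F) : Matrix (Fin n) (Fin n) F)
  hv := by
    intro h0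
    have h1 : ((g⁻¹ : GL (Fin n) F) : Matrix (Fin n) (Fin n) F) *ᵥ ((g : Matrix (Fin n) (Fin n) F) *ᵥ fl.v) = fl.v := by
      rw [Matrix.mulVec_mulVec, gl_inv_mul, Matrix.one_mulVec]
    rw [h0, Matrix.mulVec_zero] at h1
    exact fl.hv h1.symm
  hφ := by
    intro h0
    have h1 : (fl.φ ᵥ* ((g⁻¹ : GL (Fin n) F) : Matrix (Fin n) (Fin n) F)) ᵥ* (g : Matrix (Fin n) (Fin n) F) = fl.φ := by
      rw [Matrix.vecMul_vecMul, gl_inv_mul, Matrix.vecMul_one]
    rw [h0, Matrix.zero_vecMul] at h1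
    exact fl.hφ h1.symm
  h := by
    rw [← Matrix.dotProduct_mulVec, Matrix.mulVec_mulVec, gl_inv_mul, Matrix.one_mulVec]
    exact fl.h

theorem conj_tM (g : GL (Fin n) F) (v φ : Fin n → F) (t : F) :
    (g : Matrix (Fin n) (Fin n) F) * tM v φ t * ((g⁻¹ : GL (Fin n) F) : Matrix (Fin n) (Fin n) F) =
      tM ((g : Matrix (Fin n) (Fin n) F) *ᵥ v) (φ ᵥ* ((g⁻¹ : GL (Fin n) F) : Matrix (Fin n) (Fin n) F)) t := by
  unfold tM
  rw [Matrix.mul_add, Matrix.add_mul, Matrix.mul_one, gl_mul_inv, Matrix.mul_smul, Matrix.smul_mul,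
    Matrix.mul_vecMulVec, Matrix.vecMulVec_mul]

theorem Phi_tS (g : GL (Fin n) F) (fl : Flag n F) (t : F) :
    Phi n F g (QuotientGroup.mk (tS fl.v fl.φ fl.h t)) =
      QuotientGroup.mk (tS (gFlag g fl).v (gFlag g fl).φ (gFlag g fl).h t) := by
  rw [Phi_mk]
  congr 1
  apply Subtype.ext
  rw [conjSL_val, tS_val, tS_val, conj_tM]
  rfl

theorem map_Phi_T (g : GL (Fin n) F) (fl : Flag n F) :
    (T fl).map (Phi n F g).toMonoidHom = T (gFlag g fl) := by
  ext x
  rw [Subgroup.mem_map, mem_T_iff]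
  constructor
  · rintro ⟨y, hy, rfl⟩
    rw [mem_T_iff] at hy
    obtain ⟨t, rfl⟩ := hy
    exact ⟨t, Phi_tS g fl t⟩
  · rintro ⟨t, rfl⟩
    exact ⟨_, mk_tS_mem fl t, Phi_tS g fl t⟩

/-- the dual flag. -/
def Flag.swap (fl : Flag n F) : Flag n F where
  v := fl.φ
  φ := fl.v
  hv := fl.hφ
  hφ := fl.hv
  h := by rw [dotProduct_comm]; exact fl.h

theorem tM_transpose (v φ : Fin n → F) (t : F) : (tM v φ t)ᵀ = tM φ v t := by
  unfold tM
  rw [Matrix.transpose_add, Matrix.transpose_one, Matrix.transpose_smul]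
  congr 2
  ext i j
  simp [Matrix.vecMulVec_apply, mul_comm]

theorem iota_tS (fl : Flag n F) (t : F) :
    iota n F (QuotientGroup.mk (tS fl.v fl.φ fl.h t)) =
      QuotientGroup.mk (tS fl.swap.v fl.swap.φ fl.swap.h (-t)) := by
  rw [iota_mk]
  congr 1
  apply Subtype.ext
  rw [invT_val, tS_inv, tS_val, tS_val, tM_transpose]
  rfl

theorem map_iota_T (fl : Flag n F) :
    (T fl).map (iota n F).toMonoidHom = T fl.swap := by
  ext x
  rw [Subgroup.mem_map, mem_T_iff]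
  constructor
  · rintro ⟨y, hy, rfl⟩
    rw [mem_T_iff] at hy
    obtain ⟨t, rfl⟩ := hy
    exact ⟨-t, iota_tS fl t⟩
  · rintro ⟨t, rfl⟩
    refine ⟨_, mk_tS_mem fl (-t), ?_⟩
    have := iota_tS fl (-t)
    rw [neg_neg] at this
    exact this

/-- the standard flag `(e_i, e_j^*)`. -/
def stdF (i j : Fin n) (hij : i ≠ j) : Flag n F where
  v := Pi.single i 1
  φ := Pi.single j 1
  hv := by
    intro h
    have := congrFun h i
    simp at this
  hφ := by
    intro h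
    have := congrFun h j
    simp at this
  h := by
    rw [single_one_dotProduct, Pi.single_apply, if_neg (Ne.symm hij)]

theorem par_single_iff (i k : Fin n) : par (Pi.single i (1 : F)) (Pi.single k 1) ↔ i = k := by
  constructor
  · rintro ⟨c, hc, h⟩
    by_contra hik
    have := congrFun h k
    rw [Pi.smul_apply, Pi.single_apply, Pi.single_apply, if_pos rfl, if_neg (Ne.symm hik)] at this
    simp at this
  · rintro rfl
    exact par_refl _

end

end Cfsg.Agent.Lib.Helper16.AP
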