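import Mathlib
import Cfsg.Prelude.Def_LieTypeDatum
import Cfsg.Agent.Lib.Helper16.AP1

set_option autoImplicit false
set_option linter.unusedSectionVars false
set_option linter.unusedVariables false

namespace Cfsg.Agent.Lib.Helper16.AP

open Matrix Cfsg.Agent.Lib.Helper16.PG

universe u

section
variable {n : ℕ} {F : Type u} [Field F]

/-- products of elements of the two subgroups are transvections. -/
def RT (A B : Subgroup (ProjectiveSpecialLinearGroup (Fin n) F)) : Prop :=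
  ∀ x ∈ A, ∀ y ∈ B, ∃ fl : Flag n F, x * y ∈ T fl

theorem RT_of_par_v (fl fl' : Flag n F) (h : par fl.v fl'.v) : RT (T fl) (T fl') := by
  intro x hx y hy
  rw [mem_T_iff] at hx hy
  obtain ⟨s, rfl⟩ := hx
  obtain ⟨t, rfl⟩ := hy
  obtain ⟨c, hc, hv'⟩ := h
  set ψ : Fin n → F := s • fl.φ + (t * c) • fl'.φ with hψ
  have hprod : tM fl.v fl.φ s * tM fl'.v fl'.φ t = tM fl.v ψ 1 := by
    rw [tM_mul_tM, hv', dotProduct_smul, fl.h, smul_zero, mul_zero, zero_smul, add_zero]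
    unfold tM
    rw [hψ, Matrix.vecMulVec_add, Matrix.vecMulVec_smul, Matrix.vecMulVec_smul, Matrix.smul_vecMulVec, one_smul,
      smul_smul, add_assoc]
  have hψv : ψ ⬝ᵥ fl.v = 0 := by
    rw [hψ, add_dotProduct, smul_dotProduct, smul_dotProduct, fl.h]
    have : fl'.φ ⬝ᵥ fl.v = 0 := by
      have h1 := fl'.h
      rw [hv', dotProduct_smul, smul_eq_mul] at h1
      rcases mul_eq_zero.mp h1 with h2 | h2
      · exact absurd h2 hc
      · exact h2
    rw [this]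
    simp
  by_cases hψ0 : ψ = 0
  · refine ⟨fl, ?_⟩
    rw [mem_T_iff]
    refine ⟨0, ?_⟩
    rw [← QuotientGroup.mk_mul]
    congr 1
    apply Subtype.ext
    show tM fl.v fl.φ s * tM fl'.v fl'.φ t = tM fl.v fl.φ 0
    rw [hprod, hψ0, tM_zero]
    unfold tM
    simp
  · refine ⟨⟨fl.v, ψ, fl.hv, hψ0, hψv⟩, ?_⟩
    rw [mem_T_iff]
    refine ⟨1, ?_⟩
    rw [← QuotientGroup.mk_mul]
    congr 1
    apply Subtype.ext
    exact hprod

theorem RT_of_par_φ (fl fl' : Flag n F) (h : par fl.φ fl'.φ) : RT (T fl) (T fl') := by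
  intro x hx y hy
  rw [mem_T_iff] at hx hy
  obtain ⟨s, rfl⟩ := hx
  obtain ⟨t, rfl⟩ := hy
  obtain ⟨c, hc, hφ'⟩ := h
  set w : Fin n → F := s • fl.v + (t * c) • fl'.v with hw
  have hφv' : fl.φ ⬝ᵥ fl'.v = 0 := by
    have h1 := fl'.h
    rw [hφ', smul_dotProduct, smul_eq_mul] at h1
    rcases mul_eq_zero.mp h1 with h2 | h2
    · exact absurd h2 hc
    · exact h2
  have hprod : tM fl.v fl.φ s * tM fl'.v fl'.φ t = tM w fl.φ 1 := by
    rw [tM_mul_tM, hφv', mul_zero, zero_smul, add_zero]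
    unfold tM
    rw [hw, Matrix.add_vecMulVec, Matrix.smul_vecMulVec, Matrix.smul_vecMulVec, hφ', Matrix.vecMulVec_smul, one_smul,
      smul_smul, add_assoc]
  have hφw : fl.φ ⬝ᵥ w = 0 := by
    rw [hw, dotProduct_add, dotProduct_smul, dotProduct_smul, fl.h, hφv']
    simp
  by_cases hw0 : w = 0
  · refine ⟨fl, ?_⟩
    rw [mem_T_iff]
    refine ⟨0, ?_⟩
    rw [← QuotientGroup.mk_mul]
    congr 1
    apply Subtype.ext
    show tM fl.v fl.φ s * tM fl'.v fl'.φ t = tM fl.v fl.φ 0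
    rw [hprod, hw0, tM_zero]
    unfold tM
    simp
  · refine ⟨⟨w, fl.φ, hw0, fl.hφ, hφw⟩, ?_⟩
    rw [mem_T_iff]
    refine ⟨1, ?_⟩
    rw [← QuotientGroup.mk_mul]
    congr 1
    apply Subtype.ext
    exact hprod

/-- dual vectors for a non-parallel pair. -/
theorem dual_pair (v v' : Fin n → F) (hv : v ≠ 0) (hv' : v' ≠ 0) (hnp : ¬ par v v') :
    ∃ l l' : Fin n → F, l ⬝ᵥ v = 1 ∧ l ⬝ᵥ v' = 0 ∧ l' ⬝ᵥ v = 0 ∧ l' ⬝ᵥ v' = 1 := by
  have hD : ∃ i j, v i * v' j - v j * v' i ≠ 0 := by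
    by_contra hcon
    push Not at hcon
    apply hnp
    obtain ⟨j₀, hj₀⟩ := Function.ne_iff.mp hv'
    simp only [Pi.zero_apply] at hj₀
    have hvc : v = (v j₀ / v' j₀) • v' := by
      funext i
      have := hcon i j₀
      rw [Pi.smul_apply, smul_eq_mul]
      field_simp
      linear_combination this
    have hc0 : v j₀ / v' j₀ ≠ 0 := by
      intro h0
      rw [h0, zero_smul] at hvc
      exact hv hvc
    exact par_symm ⟨_, hc0, hvc⟩
  obtain ⟨i, j, hD⟩ := hD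
  refine ⟨(v i * v' j - v j * v' i)⁻¹ • (v' j • Pi.single i 1 - v' i • Pi.single j 1),
    (v i * v' j - v j * v' i)⁻¹ • (v i • Pi.single j 1 - v j • Pi.single i 1), ?_, ?_, ?_, ?_⟩
  · simp only [smul_dotProduct, sub_dotProduct, single_one_dotProduct, smul_eq_mul]
    field_simp
  · simp only [smul_dotProduct, sub_dotProduct, single_one_dotProduct, smul_eq_mul]
    field_simp
    ring
  · simp only [smul_dotProduct, sub_dotProduct, single_one_dotProduct, smul_eq_mul]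
    field_simp
    ring
  · simp only [smul_dotProduct, sub_dotProduct, single_one_dotProduct, smul_eq_mul]
    field_simp

theorem par_of_RT (hn : 3 ≤ n) (fl fl' : Flag n F) (h : RT (T fl) (T fl')) :
    par fl.v fl'.v ∨ par fl.φ fl'.φ := by
  by_contra hcon
  push Not at hcon
  obtain ⟨hnv, hnφ⟩ := hcon
  obtain ⟨fl'', hmem⟩ := h _ (mk_tS_mem fl 1) _ (mk_tS_mem fl' 1)
  rw [← QuotientGroup.mk_mul] at hmem
  obtain ⟨t, ht⟩ := mk_mem_T hn fl'' _ hmem fl.v fl.φ fl'.v fl'.φ 1 1 rfl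
  rw [tM_mul_tM] at ht
  unfold tM at ht
  simp only [one_smul, one_mul, add_assoc] at ht
  have ht' := add_left_cancel ht
  obtain ⟨l, l', h1, h2, h3, h4⟩ := dual_pair fl.v fl'.v fl.hv fl'.hv hnv
  have e1 := congrArg (fun M => l ᵥ* M) ht'
  have e2 := congrArg (fun M => l' ᵥ* M) ht'
  simp only [Matrix.vecMul_add, Matrix.vecMul_smul, Matrix.vecMul_vecMulVec, h1, h2, h3, h4, one_smul, zero_smul,
    add_zero, zero_add, smul_zero] at e1 e2
  -- e2 : fl'.φ = t • (l' ⬝ᵥ fl''.v) • fl''.φ ; e1 : fl.φ + (fl.φ ⬝ᵥ fl'.v) • fl'.φ = t • (l ⬝ᵥ fl''.v) • fl''.φ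
  rw [smul_smul] at e1 e2
  have ha : t * (l' ⬝ᵥ fl''.v) ≠ 0 := by
    intro h0
    rw [h0, zero_smul] at e2
    exact fl'.hφ e2
  have e3 : fl''.φ = (t * (l' ⬝ᵥ fl''.v))⁻¹ • fl'.φ := by
    rw [e2, smul_smul, inv_mul_cancel₀ ha, one_smul]
  have e4 : fl.φ = (t * (l ⬝ᵥ fl''.v) * (t * (l' ⬝ᵥ fl''.v))⁻¹ - fl.φ ⬝ᵥ fl'.v) • fl'.φ := by
    rw [sub_smul, ← smul_smul, ← e3, ← e1]
    abel
  apply hnφ
  apply par_symm
  refine ⟨_, ?_, e4⟩
  intro h0
  rw [h0, zero_smul] at e4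
  exact fl.hφ e4

end

end Cfsg.Agent.Lib.Helper16.AP
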