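import Mathlib
import Cfsg.Prelude.Def_LieTypeDatum
import Cfsg.Agent.Lib.Helper16.AP2

set_option autoImplicit false
set_option linter.unusedSectionVars false
set_option linter.unusedVariables false

namespace Cfsg.Agent.Lib.Helper16.AP

open Matrix Cfsg.Agent.Lib.Helper16.PG

universe u

section
variable {n : ℕ} {F : Type u} [Field F]

/-- upper unitriangular matrices. -/
def IsUT (M : Matrix (Fin n) (Fin n) F) : Prop := (∀ i j, j < i → M i j = 0) ∧ ∀ i, M i i = 1

theorem IsUT_one : IsUT (1 : Matrix (Fin n) (Fin n) F) := by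
  constructor
  · intro i j hji
    rw [Matrix.one_apply_ne (ne_of_gt hji)]
  · intro i
    exact Matrix.one_apply_eq i

theorem IsUT_mul (A B : Matrix (Fin n) (Fin n) F) (hA : IsUT A) (hB : IsUT B) : IsUT (A * B) := by
  constructor
  · intro i j hji
    rw [Matrix.mul_apply]
    apply Finset.sum_eq_zero
    intro k _
    by_cases hk : k < i
    · rw [hA.1 i k hk, zero_mul]
    · have : j < k := lt_of_lt_of_le hji (not_lt.mp hk)
      rw [hB.1 k j this, mul_zero]
  · intro i
    rw [Matrix.mul_apply, Finset.sum_eq_single i]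
    · rw [hA.2, hB.2, mul_one]
    · intro k _ hki
      rcases lt_or_gt_of_ne hki with h | h
      · rw [hA.1 i k h, zero_mul]
      · rw [hB.1 k i h, mul_zero]
    · intro h; exact absurd (Finset.mem_univ i) h

variable [Fintype F]

/-- the group of upper unitriangular matrices in `SL_n`. -/
def UT (n : ℕ) (F : Type u) [Field F] [Fintype F] : Subgroup (SpecialLinearGroup (Fin n) F) where
  carrier := {s | IsUT (s : Matrix (Fin n) (Fin n) F)}
  mul_mem' := by
    intro a b ha hb
    exact IsUT_mul _ _ ha hb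
  one_mem' := IsUT_one
  inv_mem' := by
    intro s hs
    classical
    have hpow : ∀ k : ℕ, IsUT ((s ^ k : SpecialLinearGroup (Fin n) F) : Matrix (Fin n) (Fin n) F) := by
      intro k
      induction k with
      | zero => rw [pow_zero]; exact IsUT_one
      | succ k ih => rw [pow_succ]; exact IsUT_mul _ _ ih hs
    have h1 : s⁻¹ = s ^ (orderOf s - 1) := by
      rw [inv_eq_iff_mul_eq_one, ← pow_succ', Nat.sub_add_cancel (orderOf_pos s), pow_orderOf_eq_one]
    show IsUT ((s⁻¹ : SpecialLinearGroup (Fin n) F) : Matrix (Fin n) (Fin n) F)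
    rw [h1]
    exact hpow _

theorem mem_UT_iff (s : SpecialLinearGroup (Fin n) F) :
    s ∈ UT n F ↔ IsUT (s : Matrix (Fin n) (Fin n) F) := Iff.rfl

/-- the matrix with prescribed entries above the diagonal. -/
def utMat (f : {p : Fin n × Fin n // p.1 < p.2} → F) : Matrix (Fin n) (Fin n) F :=
  Matrix.of fun i j => if h : i < j then f ⟨(i, j), h⟩ else if i = j then 1 else 0

theorem utMat_isUT (f : {p : Fin n × Fin n // p.1 < p.2} → F) : IsUT (utMat f) := by
  constructor
  · intro i j hji
    unfold utMat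
    rw [Matrix.of_apply, dif_neg (not_lt.mpr (le_of_lt hji)), if_neg (ne_of_gt hji)]
  · intro i
    unfold utMat
    rw [Matrix.of_apply, dif_neg (lt_irrefl i), if_pos rfl]

theorem det_of_isUT (M : Matrix (Fin n) (Fin n) F) (hM : IsUT M) : M.det = 1 := by
  have h1 : M.BlockTriangular id := by
    intro i j hij
    exact hM.1 i j hij
  rw [Matrix.det_of_isUpperTriangular h1]
  apply Finset.prod_eq_one
  intro i _
  exact hM.2 i

/-- `UT` is in bijection with the functions on the strictly upper triangular positions. -/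
noncomputable def utEquiv : ↥(UT n F) ≃ ({p : Fin n × Fin n // p.1 < p.2} → F) where
  toFun u := fun p => (u.1 : Matrix (Fin n) (Fin n) F) p.1.1 p.1.2
  invFun f := ⟨⟨utMat f, det_of_isUT _ (utMat_isUT f)⟩, utMat_isUT f⟩
  left_inv u := by
    apply Subtype.ext
    apply Subtype.ext
    ext i j
    show utMat (fun p : {p : Fin n × Fin n // p.1 < p.2} => (u.1 : Matrix (Fin n) (Fin n) F) p.1.1 p.1.2) i j = _
    unfold utMat
    rw [Matrix.of_apply]
    by_cases h : i < j
    · rw [dif_pos h]
    · rw [dif_neg h]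
      by_cases h2 : i = j
      · rw [if_pos h2, h2]; exact (u.2.2 j).symm
      · rw [if_neg h2]
        have : j < i := lt_of_le_of_ne (not_lt.mp h) (Ne.symm h2)
        exact (u.2.1 i j this).symm
  right_inv f := by
    funext p
    show utMat f p.1.1 p.1.2 = f p
    unfold utMat
    rw [Matrix.of_apply, dif_pos p.2]

/-- the number of strictly upper triangular positions. -/
def triN (n : ℕ) : ℕ := Fintype.card {p : Fin n × Fin n // p.1 < p.2}

theorem card_UT : Nat.card ↥(UT n F) = Fintype.card F ^ triN n := by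
  classical
  rw [Nat.card_congr utEquiv, Nat.card_eq_fintype_card, Fintype.card_fun]
  rfl

theorem triN_eq_sum (n : ℕ) : triN n = ∑ i : Fin n, (i : ℕ) := by
  classical
  unfold triN
  have e : {p : Fin n × Fin n // p.1 < p.2} ≃ Σ j : Fin n, {i : Fin n // i < j} :=
    { toFun := fun p => ⟨p.1.2, ⟨p.1.1, p.2⟩⟩
      invFun := fun s => ⟨(s.2.1, s.1), s.2.2⟩
      left_inv := fun p => rfl
      right_inv := fun s => rfl }
  rw [Fintype.card_congr e, Fintype.card_sigma]
  apply Finset.sum_congr rfl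
  intro j _
  rw [Fintype.card_subtype]
  have : (Finset.univ.filter fun i : Fin n => i < j) = Finset.Iio j := by
    ext i; simp
  rw [this, Fin.card_Iio]

theorem prod_GL_factor (q n : ℕ) (hq : 1 ≤ q) :
    ∏ i : Fin n, (q ^ n - q ^ (i : ℕ)) = q ^ triN n * ∏ i : Fin n, (q ^ (n - (i : ℕ)) - 1) := by
  rw [triN_eq_sum, ← Finset.prod_pow_eq_pow_sum, ← Finset.prod_mul_distrib]
  apply Finset.prod_congr rfl
  intro i _
  have hi : (i : ℕ) ≤ n := le_of_lt i.2
  have h1 : q ^ n = q ^ (i : ℕ) * q ^ (n - (i : ℕ)) := by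
    rw [← pow_add, Nat.add_sub_cancel' hi]
  rw [h1, Nat.mul_sub, mul_one]

theorem not_dvd_prod_sub_one (p f n : ℕ) (hp : p.Prime) (hf : 1 ≤ f) :
    ¬ p ∣ ∏ i : Fin n, ((p ^ f) ^ (n - (i : ℕ)) - 1) := by
  rw [Prime.dvd_finsetProd_iff hp.prime]
  rintro ⟨i, _, hi⟩
  have hpos : 1 ≤ n - (i : ℕ) := by have := i.2; omega
  have h1 : p ∣ (p ^ f) ^ (n - (i : ℕ)) := by
    rw [← pow_mul]
    exact dvd_pow_self p (by positivity)
  have h2 : 1 ≤ (p ^ f) ^ (n - (i : ℕ)) := Nat.one_le_pow _ _ (Nat.pow_pos hp.pos)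
  have h3 : p ∣ 1 := by
    have := Nat.dvd_sub h1 hi
    rwa [Nat.sub_sub_self h2] at this
  exact hp.one_lt.ne' (Nat.dvd_one.mp h3)

section
variable {n : ℕ} {F : Type u} [Field F] [Fintype F]

theorem card_GL_eq_SL_mul (hn : 1 ≤ n) :
    Nat.card (GL (Fin n) F) = Nat.card (SpecialLinearGroup (Fin n) F) * Nat.card Fˣ := by
  classical
  have : Nonempty (Fin n) := ⟨⟨0, by omega⟩⟩
  have hsurj : Function.Surjective (Matrix.GeneralLinearGroup.det : GL (Fin n) F →* Fˣ) :=
    Matrix.GeneralLinearGroup.det_surjective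
  have hker : Nat.card (Matrix.GeneralLinearGroup.det : GL (Fin n) F →* Fˣ).ker =
      Nat.card (SpecialLinearGroup (Fin n) F) := by
    have h2 : ((Matrix.GeneralLinearGroup.det : GL (Fin n) F →* Fˣ).ker : Set (GL (Fin n) F)) =
        Set.range (Matrix.SpecialLinearGroup.toGL : SpecialLinearGroup (Fin n) F → GL (Fin n) F) := by
      rw [Matrix.SpecialLinearGroup.range_toGL]
      ext x
      simp [MonoidHom.mem_ker]
    have h3 : Nat.card ((Matrix.GeneralLinearGroup.det : GL (Fin n) F →* Fˣ).ker : Set (GL (Fin n) F)) =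
        Nat.card (SpecialLinearGroup (Fin n) F) := by
      rw [h2]
      exact Nat.card_range_of_injective Matrix.SpecialLinearGroup.toGL_injective
    exact h3
  have h1 := Subgroup.card_mul_index (Matrix.GeneralLinearGroup.det : GL (Fin n) F →* Fˣ).ker
  rw [Subgroup.index_ker, MonoidHom.range_eq_top.mpr hsurj, hker, Subgroup.card_top] at h1
  exact h1.symm

theorem UT_index_not_dvd {p f : ℕ} (hp : p.Prime) (hf : 1 ≤ f) (hF : Fintype.card F = p ^ f) (hn : 1 ≤ n) :
    ¬ p ∣ (UT n F).index := by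
  classical
  have h1 := card_GL_eq_SL_mul (F := F) hn
  have h2 := Matrix.card_GL_field (𝔽 := F) n
  have h3 := Subgroup.card_mul_index (UT n F)
  rw [h2, ← h3, card_UT, hF, prod_GL_factor (p ^ f) n (Nat.one_le_pow _ _ hp.pos)] at h1
  have hpos : 0 < (p ^ f) ^ triN n := Nat.pow_pos (Nat.pow_pos hp.pos)
  rw [mul_assoc] at h1
  have h4 := Nat.eq_of_mul_eq_mul_left hpos h1
  intro hdvd
  apply not_dvd_prod_sub_one p f n hp hf
  rw [h4]
  exact Dvd.dvd.mul_right hdvd _

theorem UT_isPGroup {p f : ℕ} (hp : p.Prime) (hF : Fintype.card F = p ^ f) : IsPGroup p ↥(UT n F) := by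
  have : Fact p.Prime := ⟨hp⟩
  apply IsPGroup.of_card (n := f * triN n)
  rw [card_UT, hF, pow_mul]

/-- the image of the unitriangular group in `PSL_n`. -/
def Ubar (n : ℕ) (F : Type u) [Field F] [Fintype F] : Subgroup (ProjectiveSpecialLinearGroup (Fin n) F) :=
  (UT n F).map (QuotientGroup.mk' _)

theorem Ubar_isPGroup {p f : ℕ} (hp : p.Prime) (hF : Fintype.card F = p ^ f) : IsPGroup p ↥(Ubar n F) := by
  unfold Ubar
  exact (UT_isPGroup hp hF).map _

theorem Ubar_index_not_dvd {p f : ℕ} (hp : p.Prime) (hf : 1 ≤ f) (hF : Fintype.card F = p ^ f) (hn : 1 ≤ n) :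
    ¬ p ∣ (Ubar n F).index := by
  intro h
  apply UT_index_not_dvd hp hf hF hn
  exact dvd_trans h (Subgroup.index_map_dvd (UT n F) (QuotientGroup.mk'_surjective _))

end

end

end Cfsg.Agent.Lib.Helper16.AP
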