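import Mathlib
import Cfsg.Prelude.Def_LieTypeDatum
import Cfsg.Agent.Lib.Helper16.AP3

set_option autoImplicit false
set_option linter.unusedSectionVars false
set_option linter.unusedVariables false

namespace Cfsg.Agent.Lib.Helper16.AP

open Matrix Cfsg.Agent.Lib.Helper16.PG

universe u

section
variable {G : Type*} [Group G]

/-- the centre of a subgroup, as a subgroup of the ambient group. -/
def Zs (H : Subgroup G) : Subgroup G := H ⊓ Subgroup.centralizer (H : Set G)

theorem mem_Zs_iff (H : Subgroup G) (x : G) : x ∈ Zs H ↔ x ∈ H ∧ ∀ h ∈ H, h * x = x * h := by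
  unfold Zs
  rw [Subgroup.mem_inf, Subgroup.mem_centralizer_iff]
  rfl

theorem map_Zs (β : G ≃* G) (H : Subgroup G) :
    (Zs H).map β.toMonoidHom = Zs (H.map β.toMonoidHom) := by
  ext x
  rw [Subgroup.mem_map, mem_Zs_iff]
  constructor
  · rintro ⟨y, hy, rfl⟩
    rw [mem_Zs_iff] at hy
    refine ⟨Subgroup.mem_map_of_mem _ hy.1, ?_⟩
    rintro _ ⟨h, hh, rfl⟩
    show β h * β y = β y * β h
    rw [← map_mul, ← map_mul, hy.2 h hh]
  · rintro ⟨⟨y, hy, rfl⟩, hc⟩
    refine ⟨y, ?_, rfl⟩
    rw [mem_Zs_iff]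
    refine ⟨hy, fun h hh => ?_⟩
    have := hc (β h) (Subgroup.mem_map_of_mem _ hh)
    apply β.injective
    rw [map_mul, map_mul]
    exact this

end

section
variable {n : ℕ} {F : Type u} [Field F]

theorem tM_single_apply (i j : Fin n) (t : F) (k l : Fin n) :
    tM (Pi.single i 1) (Pi.single j 1) t k l = (if k = l then 1 else 0) + if k = i ∧ l = j then t else 0 := by
  unfold tM
  rw [Matrix.add_apply, Matrix.smul_apply, Matrix.vecMulVec_apply, Matrix.one_apply, Pi.single_apply,
    Pi.single_apply, smul_eq_mul]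
  by_cases h1 : k = i <;> by_cases h2 : l = j <;> simp [h1, h2]

theorem isUT_tM_single (i j : Fin n) (hij : i < j) (t : F) :
    IsUT (tM (Pi.single i (1 : F)) (Pi.single j 1) t) := by
  constructor
  · intro k l hlk
    rw [tM_single_apply, if_neg (ne_of_gt hlk), if_neg, add_zero]
    rintro ⟨rfl, rfl⟩
    exact absurd hij (not_lt.mpr (le_of_lt hlk))
  · intro k
    rw [tM_single_apply, if_pos rfl, if_neg, add_zero]
    rintro ⟨rfl, h⟩
    exact absurd h (ne_of_lt hij)

variable [Fintype F]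

/-- the first and last indices. -/
def fst (hn : 2 ≤ n) : Fin n := ⟨0, by omega⟩
def lst (hn : 2 ≤ n) : Fin n := ⟨n - 1, by omega⟩

theorem fst_lt_lst (hn : 2 ≤ n) : fst hn < lst hn := by
  show (0 : ℕ) < n - 1
  omega

theorem fst_ne_lst (hn : 2 ≤ n) : fst hn ≠ lst hn := ne_of_lt (fst_lt_lst hn)

/-- the highest root flag. -/
def std0 (hn : 2 ≤ n) : Flag n F := stdF (fst hn) (lst hn) (fst_ne_lst hn)

theorem UT_col_fst (hn : 2 ≤ n) (u : Matrix (Fin n) (Fin n) F) (hu : IsUT u) :
    u *ᵥ Pi.single (fst hn) 1 = Pi.single (fst hn) 1 := by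
  funext k
  rw [Matrix.mulVec_single_one, Matrix.col_apply, Pi.single_apply]
  by_cases hk : k = fst hn
  · rw [if_pos hk, hk]; exact hu.2 _
  · rw [if_neg hk]
    apply hu.1
    show (0 : ℕ) < k.val
    have : k.val ≠ 0 := fun h => hk (Fin.ext h)
    omega

theorem UT_row_lst (hn : 2 ≤ n) (u : Matrix (Fin n) (Fin n) F) (hu : IsUT u) :
    Pi.single (lst hn) 1 ᵥ* u = Pi.single (lst hn) 1 := by
  funext k
  rw [Matrix.single_one_vecMul, Matrix.row_apply, Pi.single_apply]
  by_cases hk : k = lst hn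
  · rw [if_pos hk, hk]; exact hu.2 _
  · rw [if_neg hk]
    apply hu.1
    show k.val < n - 1
    have : k.val ≠ n - 1 := fun h => hk (Fin.ext h)
    have := k.2
    omega

theorem tM_comm_of_fix (v φ : Fin n → F) (t : F) (u : Matrix (Fin n) (Fin n) F)
    (h1 : u *ᵥ v = v) (h2 : φ ᵥ* u = φ) : u * tM v φ t = tM v φ t * u := by
  unfold tM
  rw [Matrix.mul_add, Matrix.add_mul, Matrix.mul_one, Matrix.one_mul, Matrix.mul_smul, Matrix.smul_mul,
    Matrix.mul_vecMulVec, Matrix.vecMulVec_mul, h1, h2]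

section
variable {n : ℕ} {F : Type u} [Field F] [Fintype F]

theorem mem_Ubar_iff (x : ProjectiveSpecialLinearGroup (Fin n) F) :
    x ∈ Ubar n F ↔ ∃ u : SpecialLinearGroup (Fin n) F, IsUT (u : Matrix (Fin n) (Fin n) F) ∧
      x = QuotientGroup.mk u := by
  unfold Ubar
  rw [Subgroup.mem_map]
  constructor
  · rintro ⟨u, hu, rfl⟩
    exact ⟨u, hu, rfl⟩
  · rintro ⟨u, hu, rfl⟩
    exact ⟨u, hu, rfl⟩

/-- commuting classes of unitriangular matrices: the matrices commute. -/
theorem UT_comm_of_mk_comm (hn : 2 ≤ n) (u u' : SpecialLinearGroup (Fin n) F)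
    (hu : IsUT (u : Matrix (Fin n) (Fin n) F)) (hu' : IsUT (u' : Matrix (Fin n) (Fin n) F))
    (h : (QuotientGroup.mk u' : ProjectiveSpecialLinearGroup (Fin n) F) * QuotientGroup.mk u =
      QuotientGroup.mk u * QuotientGroup.mk u') :
    (u' : Matrix (Fin n) (Fin n) F) * (u : Matrix (Fin n) (Fin n) F) =
      (u : Matrix (Fin n) (Fin n) F) * (u' : Matrix (Fin n) (Fin n) F) := by
  rw [← QuotientGroup.mk_mul, ← QuotientGroup.mk_mul] at h
  obtain ⟨r, -, hr⟩ := mk_eq_imp _ _ h
  have h1 : IsUT ((u' * u : SpecialLinearGroup (Fin n) F) : Matrix (Fin n) (Fin n) F) := IsUT_mul _ _ hu' hu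
  have h2 : IsUT ((u * u' : SpecialLinearGroup (Fin n) F) : Matrix (Fin n) (Fin n) F) := IsUT_mul _ _ hu hu'
  have h3 := congrFun (congrFun hr (fst hn)) (fst hn)
  rw [Matrix.smul_apply, h1.2, h2.2, smul_eq_mul, mul_one] at h3
  rw [h3, one_smul] at hr
  exact hr

theorem Zs_Ubar (hn : 3 ≤ n) : Zs (Ubar n F) = T (std0 (F := F) (by omega : 2 ≤ n)) := by
  have hn2 : 2 ≤ n := by omega
  ext x
  rw [mem_Zs_iff, mem_T_iff]
  constructor
  · rintro ⟨hx, hc⟩
    rw [mem_Ubar_iff] at hx
    obtain ⟨u, hu, rfl⟩ := hx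
    -- u commutes with all elementary unitriangular matrices
    have hcomm : ∀ i j : Fin n, i < j →
        tM (Pi.single i (1 : F)) (Pi.single j 1) 1 * (u : Matrix (Fin n) (Fin n) F) =
          (u : Matrix (Fin n) (Fin n) F) * tM (Pi.single i (1 : F)) (Pi.single j 1) 1 := by
      intro i j hij
      have hflag : (Pi.single j (1 : F)) ⬝ᵥ (Pi.single i 1) = 0 := (stdF (F := F) i j (ne_of_lt hij)).h
      set e : SpecialLinearGroup (Fin n) F := tS (Pi.single i 1) (Pi.single j 1) hflag 1 with he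
      have heUT : IsUT (e : Matrix (Fin n) (Fin n) F) := isUT_tM_single i j hij 1
      have hemem : (QuotientGroup.mk e : ProjectiveSpecialLinearGroup (Fin n) F) ∈ Ubar n F :=
        (mem_Ubar_iff _).mpr ⟨e, heUT, rfl⟩
      exact UT_comm_of_mk_comm hn2 u e hu heUT (hc _ hemem)
    have hent : ∀ i j : Fin n, i < j → ∀ k l : Fin n,
        (if k = i then (u : Matrix (Fin n) (Fin n) F) j l else 0) =
          if l = j then (u : Matrix (Fin n) (Fin n) F) k i else 0 := by
      intro i j hij k l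
      have h1 := congrFun (congrFun (hcomm i j hij) k) l
      unfold tM at h1
      rw [Matrix.add_mul, Matrix.mul_add, Matrix.one_mul, Matrix.mul_one, one_smul, Matrix.vecMulVec_mul,
        Matrix.mul_vecMulVec, Matrix.add_apply, Matrix.add_apply, Matrix.vecMulVec_apply, Matrix.vecMulVec_apply,
        Matrix.single_one_vecMul, Matrix.mulVec_single_one, Matrix.row_apply, Matrix.col_apply, Pi.single_apply,
        Pi.single_apply] at h1
      have h2 := add_left_cancel h1
      simp only [ite_mul, one_mul, zero_mul, mul_ite, mul_one, mul_zero] at h2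
      exact h2
    have hoff : ∀ k l : Fin n, k ≠ l → ¬ (k = fst hn2 ∧ l = lst hn2) →
        (u : Matrix (Fin n) (Fin n) F) k l = 0 := by
      intro k l hkl hnot
      by_cases hl : l = lst hn2
      · -- then k ≠ fst; use i = fst, j = k
        have hk : k ≠ fst hn2 := fun h => hnot ⟨h, hl⟩
        have hlt : fst hn2 < k := by
          show (0 : ℕ) < k.val
          have : k.val ≠ 0 := fun h => hk (Fin.ext h)
          omega
        have := hent (fst hn2) k hlt (fst hn2) l
        rw [if_pos rfl, if_neg (Ne.symm hkl)] at this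
        exact this
      · -- l ≠ lst; use i = l, j = lst
        have hlt : l < lst hn2 := by
          show l.val < n - 1
          have : l.val ≠ n - 1 := fun h => hl (Fin.ext h)
          have := l.2
          omega
        have := hent l (lst hn2) hlt k (lst hn2)
        rw [if_neg hkl, if_pos rfl] at this
        exact this.symm
    refine ⟨(u : Matrix (Fin n) (Fin n) F) (fst hn2) (lst hn2), ?_⟩
    congr 1
    apply Subtype.ext
    rw [tS_val]
    ext k l
    show _ = tM (Pi.single (fst hn2) 1) (Pi.single (lst hn2) 1) _ k l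
    rw [tM_single_apply]
    by_cases hkl : k = l
    · rw [if_pos hkl, if_neg, add_zero, hkl]
      · exact hu.2 l
      · rintro ⟨h1, h2⟩
        exact fst_ne_lst hn2 (h1.symm.trans (hkl.trans h2))
    · rw [if_neg hkl, zero_add]
      by_cases h2 : k = fst hn2 ∧ l = lst hn2
      · rw [if_pos h2, h2.1, h2.2]
      · rw [if_neg h2]
        exact hoff k l hkl h2
  · rintro ⟨t, rfl⟩
    have hUT : IsUT ((tS (std0 (F := F) hn2).v (std0 hn2).φ (std0 hn2).h t : SpecialLinearGroup (Fin n) F) :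
        Matrix (Fin n) (Fin n) F) := isUT_tM_single _ _ (fst_lt_lst hn2) t
    refine ⟨(mem_Ubar_iff _).mpr ⟨_, hUT, rfl⟩, ?_⟩
    intro h hh
    rw [mem_Ubar_iff] at hh
    obtain ⟨u, hu, rfl⟩ := hh
    rw [← QuotientGroup.mk_mul, ← QuotientGroup.mk_mul]
    congr 1
    apply Subtype.ext
    show (u : Matrix (Fin n) (Fin n) F) * tM _ _ t = tM _ _ t * (u : Matrix (Fin n) (Fin n) F)
    exact tM_comm_of_fix _ _ t _ (UT_col_fst hn2 _ hu) (UT_row_lst hn2 _ hu)

end

end

end Cfsg.Agent.Lib.Helper16.AP
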