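import Mathlib
import Cfsg.Prelude.Def_LieTypeDatum
import Cfsg.Agent.Lib.Helper16.AP4

set_option autoImplicit false
set_option linter.unusedSectionVars false
set_option linter.unusedVariables false

namespace Cfsg.Agent.Lib.Helper16.AP

open Matrix Cfsg.Agent.Lib.Helper16.PG

universe u

section
variable {n : ℕ} {F : Type u} [Field F]

/-- a matrix with a prescribed column and otherwise a permuted identity. -/
def vtMat (v : Fin n → F) (i₀ k : Fin n) : Matrix (Fin n) (Fin n) F :=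
  Matrix.of fun r c => if c = i₀ then v r else if r = Equiv.swap i₀ k c then 1 else 0

theorem vtMat_mulVec_single (v : Fin n → F) (i₀ k : Fin n) :
    vtMat v i₀ k *ᵥ Pi.single i₀ 1 = v := by
  funext r
  rw [Matrix.mulVec_single_one, Matrix.col_apply]
  unfold vtMat
  rw [Matrix.of_apply, if_pos rfl]

theorem vtMat_mulVec_apply (v : Fin n → F) (i₀ k : Fin n) (x : Fin n → F) (r : Fin n) :
    (vtMat v i₀ k *ᵥ x) r = x i₀ * v r +
      (if Equiv.swap i₀ k r = i₀ then 0 else x (Equiv.swap i₀ k r)) := by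
  rw [Matrix.mulVec, dotProduct]
  unfold vtMat
  simp only [Matrix.of_apply]
  rw [← Finset.add_sum_erase _ _ (Finset.mem_univ i₀), if_pos rfl, mul_comm]
  congr 1
  by_cases h : Equiv.swap i₀ k r = i₀
  · rw [if_pos h]
    apply Finset.sum_eq_zero
    intro c hc
    rw [Finset.mem_erase] at hc
    rw [if_neg hc.1, if_neg, zero_mul]
    intro hr
    apply hc.1
    rw [← h, hr, Equiv.swap_apply_self]
  · rw [if_neg h]
    rw [Finset.sum_eq_single (Equiv.swap i₀ k r)]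
    · rw [if_neg h, if_pos (by rw [Equiv.swap_apply_self]), one_mul]
    · intro c hc hcr
      rw [Finset.mem_erase] at hc
      rw [if_neg hc.1, if_neg, zero_mul]
      intro hr
      apply hcr
      rw [hr, Equiv.swap_apply_self]
    · intro hnot
      exfalso
      apply hnot
      rw [Finset.mem_erase]
      exact ⟨h, Finset.mem_univ _⟩

theorem vtMat_isUnit (v : Fin n → F) (i₀ k : Fin n) (hk : v k ≠ 0) : IsUnit (vtMat v i₀ k) := by
  rw [← Matrix.mulVec_injective_iff_isUnit]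
  have hzero : ∀ x : Fin n → F, vtMat v i₀ k *ᵥ x = 0 → x = 0 := by
    intro x hx
    have h1 := congrFun hx k
    rw [vtMat_mulVec_apply, Equiv.swap_apply_right, if_pos rfl, add_zero, Pi.zero_apply] at h1
    have hx0 : x i₀ = 0 := by
      rcases mul_eq_zero.mp h1 with h | h
      · exact h
      · exact absurd h hk
    funext c
    by_cases hc : c = i₀
    · rw [hc, hx0]; rfl
    · have h2 := congrFun hx (Equiv.swap i₀ k c)
      rw [vtMat_mulVec_apply, Equiv.swap_apply_self, if_neg hc, hx0, zero_mul, zero_add, Pi.zero_apply] at h2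
      exact h2
  intro x y hxy
  have h1 : vtMat v i₀ k *ᵥ (x - y) = 0 := by
    rw [Matrix.mulVec_sub]
    exact sub_eq_zero.mpr hxy
  exact sub_eq_zero.mp (hzero _ h1)

theorem vtMat_row (v : Fin n → F) (i₀ k : Fin n) (hk : v k ≠ 0) (r : Fin n) (hr : v r = 0) (hri : r ≠ i₀) :
    Pi.single r 1 ᵥ* vtMat v i₀ k = Pi.single r 1 := by
  funext c
  rw [Matrix.single_one_vecMul, Matrix.row_apply]
  unfold vtMat
  rw [Matrix.of_apply, Pi.single_apply]
  have hrk : r ≠ k := fun h => hk (h ▸ hr)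
  by_cases hc : c = i₀
  · rw [if_pos hc, hr, if_neg]
    rw [hc]; exact fun h => hri h.symm
  · rw [if_neg hc]
    by_cases hck : c = k
    · rw [hck, Equiv.swap_apply_right, if_neg hri, if_neg (Ne.symm hrk)]
    · rw [Equiv.swap_apply_of_ne_of_ne hc hck]
      by_cases hrc : r = c
      · rw [if_pos hrc, if_pos hrc.symm]
      · rw [if_neg hrc, if_neg (fun h => hrc h.symm)]

/-- refined transitivity of `GL_n` on non-zero vectors. -/
theorem exists_gl_vec (v : Fin n → F) (hv : v ≠ 0) (i₀ : Fin n) :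
    ∃ g : GL (Fin n) F, (g : Matrix (Fin n) (Fin n) F) *ᵥ Pi.single i₀ 1 = v ∧
      ∀ r : Fin n, v r = 0 → r ≠ i₀ → Pi.single r 1 ᵥ* (g : Matrix (Fin n) (Fin n) F) = Pi.single r 1 := by
  obtain ⟨k, hk⟩ := Function.ne_iff.mp hv
  simp only [Pi.zero_apply] at hk
  have hu := vtMat_isUnit v i₀ k hk
  refine ⟨hu.unit, ?_, ?_⟩
  · rw [IsUnit.unit_spec]; exact vtMat_mulVec_single v i₀ k
  · intro r hr hri
    rw [IsUnit.unit_spec]; exact vtMat_row v i₀ k hk r hr hri


theorem exists_gl_covec (φ : Fin n → F) (hφ : φ ≠ 0) (i₀ : Fin n) :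
    ∃ g : GL (Fin n) F, Pi.single i₀ 1 ᵥ* (g : Matrix (Fin n) (Fin n) F) = φ := by
  obtain ⟨g₁, hg₁, -⟩ := exists_gl_vec φ hφ i₀
  have hu : IsUnit ((g₁ : Matrix (Fin n) (Fin n) F)ᵀ) := by
    rw [Matrix.isUnit_iff_isUnit_det, Matrix.det_transpose, ← Matrix.isUnit_iff_isUnit_det]
    exact g₁.isUnit
  refine ⟨hu.unit, ?_⟩
  rw [IsUnit.unit_spec, Matrix.vecMul_transpose]
  exact hg₁

/-- `GL_n` is transitive on flags. -/
theorem exists_gl_flag (hn : 2 ≤ n) (fl : Flag n F) :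
    ∃ g : GL (Fin n) F, (gFlag g (std0 hn)).v = fl.v ∧ (gFlag g (std0 hn)).φ = fl.φ := by
  obtain ⟨h, hh⟩ := exists_gl_covec fl.φ fl.hφ (lst hn)
  have hv'0 : (h : Matrix (Fin n) (Fin n) F) *ᵥ fl.v ≠ 0 := by
    intro h0
    have h1 : ((h⁻¹ : GL (Fin n) F) : Matrix (Fin n) (Fin n) F) *ᵥ ((h : Matrix (Fin n) (Fin n) F) *ᵥ fl.v) = fl.v := by
      rw [Matrix.mulVec_mulVec, gl_inv_mul, Matrix.one_mulVec]
    rw [h0, Matrix.mulVec_zero] at h1
    exact fl.hv h1.symm
  have hv'l : ((h : Matrix (Fin n) (Fin n) F) *ᵥ fl.v) (lst hn) = 0 := by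
    have h1 : Pi.single (lst hn) (1 : F) ⬝ᵥ ((h : Matrix (Fin n) (Fin n) F) *ᵥ fl.v) = 0 := by
      rw [Matrix.dotProduct_mulVec, hh]
      exact fl.h
    rwa [single_one_dotProduct] at h1
  obtain ⟨m, hm1, hm2⟩ := exists_gl_vec _ hv'0 (fst hn)
  have hml := hm2 (lst hn) hv'l (Ne.symm (fst_ne_lst hn))
  have hml' : Pi.single (lst hn) (1 : F) ᵥ* ((m⁻¹ : GL (Fin n) F) : Matrix (Fin n) (Fin n) F) = Pi.single (lst hn) 1 := by
    conv_lhs => rw [← hml]
    rw [Matrix.vecMul_vecMul, gl_mul_inv, Matrix.vecMul_one]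
  refine ⟨h⁻¹ * m, ?_, ?_⟩
  · show ((h⁻¹ * m : GL (Fin n) F) : Matrix (Fin n) (Fin n) F) *ᵥ Pi.single (fst hn) 1 = fl.v
    rw [Units.val_mul, ← Matrix.mulVec_mulVec, hm1, Matrix.mulVec_mulVec, gl_inv_mul, Matrix.one_mulVec]
  · show Pi.single (lst hn) 1 ᵥ* (((h⁻¹ * m)⁻¹ : GL (Fin n) F) : Matrix (Fin n) (Fin n) F) = fl.φ
    rw [_root_.mul_inv_rev, inv_inv, Units.val_mul, ← Matrix.vecMul_vecMul, hml', hh]

theorem T_eq_of_eq (fl fl' : Flag n F) (hv : fl.v = fl'.v) (hφ : fl.φ = fl'.φ) : T fl = T fl' := by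
  apply T_eq_of_par
  · rw [hv]; exact par_refl _
  · rw [hφ]; exact par_refl _

end

section
variable {n : ℕ} {F : Type u} [Field F]

theorem conj_mk_eq_Phi (s : SpecialLinearGroup (Fin n) F) :
    MulAut.conj (QuotientGroup.mk s : ProjectiveSpecialLinearGroup (Fin n) F) =
      Phi n F (Matrix.SpecialLinearGroup.toGL s) := by
  apply MulEquiv.ext
  intro x
  induction x using QuotientGroup.induction_on with
  | H t =>
    rw [Phi_mk, MulAut.conj_apply, ← QuotientGroup.mk_inv, ← QuotientGroup.mk_mul, ← QuotientGroup.mk_mul]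
    congr 1

end

section
variable {n : ℕ} {F : Type u} [Field F] [Fintype F]

open scoped Pointwise

/-- Claim 1 for the standard flag. -/
theorem aut_T_std (hn : 3 ≤ n) (α : MulAut (ProjectiveSpecialLinearGroup (Fin n) F)) :
    ∃ fl' : Flag n F, (T (std0 (F := F) (by omega : 2 ≤ n))).map α.toMonoidHom = T fl' := by
  obtain ⟨p, _, f, hp, hF⟩ := FiniteField.card' F
  have : Fact p.Prime := ⟨hp⟩
  have hf : 1 ≤ (f : ℕ) := f.2
  have hP1 : IsPGroup p ↥(Ubar n F) := Ubar_isPGroup hp hF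
  have hP2 : ¬ p ∣ (Ubar n F).index := Ubar_index_not_dvd hp hf hF (by omega)
  set S₀ : Sylow p (ProjectiveSpecialLinearGroup (Fin n) F) := hP1.toSylow hP2 with hS₀
  obtain ⟨g, hg⟩ := MulAction.exists_smul_eq (ProjectiveSpecialLinearGroup (Fin n) F) S₀ (α • S₀)
  have h1 := congrArg (fun P : Sylow p (ProjectiveSpecialLinearGroup (Fin n) F) => P.toSubgroup) hg
  simp only [Sylow.coe_subgroup_smul, Sylow.pointwise_smul_def] at h1
  have hS₀c : (S₀ : Subgroup (ProjectiveSpecialLinearGroup (Fin n) F)) = Ubar n F := IsPGroup.toSylow_coe hP1 hP2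
  rw [hS₀c] at h1
  -- h1 : MulAut.conj g • Ubar = α • Ubar
  induction g using QuotientGroup.induction_on with
  | H s =>
    rw [conj_mk_eq_Phi] at h1
    have h2 : (Ubar n F).map (Phi n F (Matrix.SpecialLinearGroup.toGL s)).toMonoidHom = (Ubar n F).map α.toMonoidHom := h1
    refine ⟨gFlag (Matrix.SpecialLinearGroup.toGL s) (std0 (by omega : 2 ≤ n)), ?_⟩
    rw [← map_Phi_T, ← Zs_Ubar hn, map_Zs, map_Zs, h2]

/-- Claim 1: automorphisms of `PSL_n` permute the transvection subgroups. -/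
theorem aut_T (hn : 3 ≤ n) (α : MulAut (ProjectiveSpecialLinearGroup (Fin n) F)) (fl : Flag n F) :
    ∃ fl' : Flag n F, (T fl).map α.toMonoidHom = T fl' := by
  obtain ⟨g₀, hg1, hg2⟩ := exists_gl_flag (by omega : 2 ≤ n) fl
  have h1 : T fl = (T (std0 (F := F) (by omega : 2 ≤ n))).map (Phi n F g₀).toMonoidHom := by
    rw [map_Phi_T]
    exact (T_eq_of_eq _ _ hg1 hg2).symm
  obtain ⟨fl', hfl'⟩ := aut_T_std hn (α * Phi n F g₀)
  refine ⟨fl', ?_⟩
  rw [h1, Subgroup.map_map]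
  exact hfl'

end

end Cfsg.Agent.Lib.Helper16.AP
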