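import Mathlib
import Cfsg.Prelude.Def_LieTypeDatum
import Cfsg.Agent.Lib.Helper16.AP5

set_option autoImplicit false
set_option linter.unusedSectionVars false
set_option linter.unusedVariables false

namespace Cfsg.Agent.Lib.Helper16.AP

open Matrix Cfsg.Agent.Lib.Helper16.PG

universe u

section
variable {n : ℕ} {F : Type u} [Field F]

/-- an automorphism permuting the transvection subgroups. -/
def PermT (α : MulAut (ProjectiveSpecialLinearGroup (Fin n) F)) : Prop :=
  ∀ fl : Flag n F, ∃ fl' : Flag n F, (T fl).map α.toMonoidHom = T fl'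

theorem RT_map (α : MulAut (ProjectiveSpecialLinearGroup (Fin n) F)) (hα : PermT α)
    (A B : Subgroup (ProjectiveSpecialLinearGroup (Fin n) F)) (h : RT A B) :
    RT (A.map α.toMonoidHom) (B.map α.toMonoidHom) := by
  rintro _ ⟨x, hx, rfl⟩ _ ⟨y, hy, rfl⟩
  obtain ⟨fl, hfl⟩ := h x hx y hy
  obtain ⟨fl', hfl'⟩ := hα fl
  refine ⟨fl', ?_⟩
  rw [← hfl', ← map_mul]
  exact Subgroup.mem_map_of_mem _ hfl

theorem map_map_inv (α : MulAut (ProjectiveSpecialLinearGroup (Fin n) F))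
    (A : Subgroup (ProjectiveSpecialLinearGroup (Fin n) F)) :
    (A.map α.toMonoidHom).map (α⁻¹ : MulAut (ProjectiveSpecialLinearGroup (Fin n) F)).toMonoidHom = A := by
  rw [Subgroup.map_map]
  have : (MulEquiv.toMonoidHom (α⁻¹ : MulAut (ProjectiveSpecialLinearGroup (Fin n) F))).comp α.toMonoidHom =
      MonoidHom.id _ := by
    ext x
    show (α⁻¹ : MulAut (ProjectiveSpecialLinearGroup (Fin n) F)) (α x) = x
    rw [← MulAut.mul_apply, inv_mul_cancel, MulAut.one_apply]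
  rw [this, Subgroup.map_id]

theorem RT_map_iff (α : MulAut (ProjectiveSpecialLinearGroup (Fin n) F)) (hα : PermT α) (hα' : PermT α⁻¹)
    (A B : Subgroup (ProjectiveSpecialLinearGroup (Fin n) F)) :
    RT (A.map α.toMonoidHom) (B.map α.toMonoidHom) ↔ RT A B := by
  constructor
  · intro h
    have := RT_map α⁻¹ hα' _ _ h
    rwa [map_map_inv, map_map_inv] at this
  · exact RT_map α hα A B

/-- adjacency of flags. -/
def adj (fl fl' : Flag n F) : Prop := par fl.v fl'.v ∨ par fl.φ fl'.φ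

theorem adj_iff_RT (hn : 3 ≤ n) (fl fl' : Flag n F) : adj fl fl' ↔ RT (T fl) (T fl') := by
  constructor
  · rintro (h | h)
    · exact RT_of_par_v fl fl' h
    · exact RT_of_par_φ fl fl' h
  · exact par_of_RT hn fl fl'

theorem adj_map (hn : 3 ≤ n) (α : MulAut (ProjectiveSpecialLinearGroup (Fin n) F)) (hα : PermT α) (hα' : PermT α⁻¹)
    (fl₁ fl₂ fl₁' fl₂' : Flag n F) (h1 : (T fl₁).map α.toMonoidHom = T fl₁')
    (h2 : (T fl₂).map α.toMonoidHom = T fl₂') : adj fl₁' fl₂' ↔ adj fl₁ fl₂ := by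
  rw [adj_iff_RT hn, adj_iff_RT hn, ← h1, ← h2, RT_map_iff α hα hα']

theorem inj_map (α : MulAut (ProjectiveSpecialLinearGroup (Fin n) F))
    (fl₁ fl₂ fl₁' fl₂' : Flag n F) (h1 : (T fl₁).map α.toMonoidHom = T fl₁')
    (h2 : (T fl₂).map α.toMonoidHom = T fl₂') (hv : par fl₁'.v fl₂'.v) (hφ : par fl₁'.φ fl₂'.φ) :
    T fl₁ = T fl₂ := by
  have h3 := T_eq_of_par fl₁' fl₂' hv hφ
  rw [← h1, ← h2] at h3
  exact Subgroup.map_injective α.injective h3

theorem adj_std_iff (i j k l : Fin n) (hij : i ≠ j) (hkl : k ≠ l) :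
    adj (stdF (F := F) i j hij) (stdF k l hkl) ↔ i = k ∨ j = l := by
  unfold adj
  show par (Pi.single i (1 : F)) (Pi.single k 1) ∨ par (Pi.single j (1 : F)) (Pi.single l 1) ↔ _
  rw [par_single_iff, par_single_iff]

theorem T_std_inj (hn : 3 ≤ n) (i j k l : Fin n) (hij : i ≠ j) (hkl : k ≠ l)
    (h : T (stdF (F := F) i j hij) = T (stdF k l hkl)) : i = k ∧ j = l := by
  obtain ⟨h1, h2⟩ := par_of_T_eq hn _ _ h
  exact ⟨(par_single_iff i k).mp h1, (par_single_iff j l).mp h2⟩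

end

end Cfsg.Agent.Lib.Helper16.AP
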