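import Mathlib

set_option autoImplicit false
set_option linter.unusedSectionVars false
set_option linter.unusedVariables false

namespace Cfsg.Agent.Lib.Helper16.AP

universe u

section
variable {n : ℕ} {V : Type u} (R : V → V → Prop)

theorem exists_third (hn : 3 ≤ n) (i k : Fin n) : ∃ j : Fin n, j ≠ i ∧ j ≠ k := by
  by_contra hcon
  push Not at hcon
  have h1 : (Finset.univ : Finset (Fin n)) ⊆ {i, k} := by
    intro x _
    by_cases hx : x = i
    · simp [hx]
    · simp [hcon x hx]
  have h2 := Finset.card_le_card h1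
  have h3 : ({i, k} : Finset (Fin n)).card ≤ 2 := Finset.card_le_two
  rw [Finset.card_univ, Fintype.card_fin] at h2
  omega

/-- frame data: images of the standard flags, with the adjacency and injectivity properties. -/
structure FrameRel (n : ℕ) {V : Type u} (R : V → V → Prop) (a b : Fin n → Fin n → V) : Prop where
  refl : ∀ x, R x x
  symm : ∀ x y, R x y → R y x
  trans : ∀ x y z, R x y → R y z → R x z
  star : ∀ i j k l : Fin n, i ≠ j → k ≠ l → ((i = k ∨ j = l) ↔ (R (a i j) (a k l) ∨ R (b i j) (b k l)))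
  inj : ∀ i j k l : Fin n, i ≠ j → k ≠ l → R (a i j) (a k l) → R (b i j) (b k l) → i = k ∧ j = l

variable {R}

theorem FrameRel.swap {a b : Fin n → Fin n → V} (h : FrameRel n R a b) : FrameRel n R b a where
  refl := h.refl
  symm := h.symm
  trans := h.trans
  star := by
    intro i j k l hij hkl
    rw [h.star i j k l hij hkl, or_comm]
  inj := by
    intro i j k l hij hkl h1 h2
    exact h.inj i j k l hij hkl h2 h1

theorem FrameRel.transp {a b : Fin n → Fin n → V} (h : FrameRel n R a b) :
    FrameRel n R (fun i j => b j i) (fun i j => a j i) where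
  refl := h.refl
  symm := h.symm
  trans := h.trans
  star := by
    intro i j k l hij hkl
    rw [or_comm, h.star j i l k (Ne.symm hij) (Ne.symm hkl), or_comm]
  inj := by
    intro i j k l hij hkl h1 h2
    exact (h.inj j i l k (Ne.symm hij) (Ne.symm hkl) h2 h1).symm

/-- row `i` is of point type. -/
def rowA (a : Fin n → Fin n → V) (R : V → V → Prop) (i : Fin n) : Prop :=
  ∀ j j' : Fin n, i ≠ j → i ≠ j' → R (a i j) (a i j')

/-- column `j` is of hyperplane type. -/
def colB (b : Fin n → Fin n → V) (R : V → V → Prop) (j : Fin n) : Prop :=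
  ∀ i i' : Fin n, i ≠ j → i' ≠ j → R (b i j) (b i' j)

theorem FrameRel.row_dich {a b : Fin n → Fin n → V} (h : FrameRel n R a b) (i : Fin n) :
    rowA a R i ∨ rowA b R i := by
  by_cases hex : ∃ j j' : Fin n, i ≠ j ∧ i ≠ j' ∧ j ≠ j' ∧ R (a i j) (a i j')
  · left
    obtain ⟨j₀, j₀', h1, h2, h3, h4⟩ := hex
    have key : ∀ j : Fin n, i ≠ j → R (a i j₀) (a i j) := by
      intro j hj
      by_cases hj0 : j = j₀
      · rw [hj0]; exact h.refl _
      by_cases hj0' : j = j₀'
      · rw [hj0']; exact h4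
      rcases (h.star i j₀ i j h1 hj).mp (Or.inl rfl) with h5 | h5
      · exact h5
      · rcases (h.star i j₀' i j h2 hj).mp (Or.inl rfl) with h6 | h6
        · exact h.trans _ _ _ h4 h6
        · exfalso
          have h7 : R (b i j₀) (b i j₀') := h.trans _ _ _ h5 (h.symm _ _ h6)
          exact h3 (h.inj i j₀ i j₀' h1 h2 h4 h7).2
    intro j j' hj hj'
    exact h.trans _ _ _ (h.symm _ _ (key j hj)) (key j' hj')
  · right
    intro j j' hj hj'
    by_cases hjj : j = j'
    · rw [hjj]; exact h.refl _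
    rcases (h.star i j i j' hj hj').mp (Or.inl rfl) with h5 | h5
    · exact absurd ⟨j, j', hj, hj', hjj, h5⟩ hex
    · exact h5

theorem FrameRel.col_dich {a b : Fin n → Fin n → V} (h : FrameRel n R a b) (j : Fin n) :
    colB b R j ∨ colB a R j := by
  rcases h.transp.row_dich j with h1 | h1
  · left
    intro i i' hi hi'
    exact h1 i i' (Ne.symm hi) (Ne.symm hi')
  · right
    intro i i' hi hi'
    exact h1 i i' (Ne.symm hi) (Ne.symm hi')

theorem FrameRel.row_col (hn : 3 ≤ n) {a b : Fin n → Fin n → V} (h : FrameRel n R a b) (i k : Fin n) (hik : i ≠ k)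
    (hr : rowA a R i) : colB b R k := by
  rcases h.col_dich k with h1 | h1
  · exact h1
  · exfalso
    obtain ⟨j, hji, hjk⟩ := exists_third hn i k
    have h2 : R (a i k) (a i j) := hr k j hik (Ne.symm hji)
    have h3 : R (a i k) (a j k) := h1 i j hik hjk
    have h4 : R (a i j) (a j k) := h.trans _ _ _ (h.symm _ _ h2) h3
    rcases (h.star i j j k (Ne.symm hji) hjk).mpr (Or.inl h4) with h5 | h5
    · exact hji h5.symm
    · exact hjk h5

theorem FrameRel.col_row (hn : 3 ≤ n) {a b : Fin n → Fin n → V} (h : FrameRel n R a b) (i k : Fin n) (hik : i ≠ k)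
    (hc : colB b R k) : rowA a R i := by
  rcases h.row_dich i with h1 | h1
  · exact h1
  · exfalso
    have h2 : colB a R k := h.swap.row_col hn i k hik h1
    obtain ⟨j, hji, hjk⟩ := exists_third hn i k
    exact hji (h.inj i k j k hik hjk (h2 i j hik hjk) (hc i j hik hjk)).1.symm

theorem FrameRel.all_of_row (hn : 3 ≤ n) {a b : Fin n → Fin n → V} (h : FrameRel n R a b) (i₀ : Fin n)
    (hr : rowA a R i₀) : (∀ i, rowA a R i) ∧ ∀ j, colB b R j := by
  have hrow : ∀ i, rowA a R i := by
    intro i
    by_cases hi : i = i₀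
    · rw [hi]; exact hr
    obtain ⟨k, hki, hki₀⟩ := exists_third hn i i₀
    exact h.col_row hn i k (Ne.symm hki) (h.row_col hn i₀ k (Ne.symm hki₀) hr)
  refine ⟨hrow, ?_⟩
  intro j
  obtain ⟨i, hij, -⟩ := exists_third hn j j
  exact h.row_col hn i j hij (hrow i)

/-- type consistency: the frame images are all of the same type. -/
theorem FrameRel.type_dich (hn : 3 ≤ n) {a b : Fin n → Fin n → V} (h : FrameRel n R a b) :
    ((∀ i, rowA a R i) ∧ ∀ j, colB b R j) ∨ ((∀ i, rowA b R i) ∧ ∀ j, colB a R j) := by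
  have i₀ : Fin n := ⟨0, by omega⟩
  rcases h.row_dich i₀ with h1 | h1
  · left; exact h.all_of_row hn i₀ h1
  · right; exact h.swap.all_of_row hn i₀ h1

/-- a function on ordered pairs of distinct indices constant along rows and columns is constant. -/
theorem frame_const (hn : 3 ≤ n) {X : Type*} (f : Fin n → Fin n → X)
    (hrow : ∀ i j k : Fin n, i ≠ j → i ≠ k → j ≠ k → f i j = f i k)
    (hcol : ∀ i j k : Fin n, i ≠ k → j ≠ k → i ≠ j → f i k = f j k)
    (i j k l : Fin n) (hij : i ≠ j) (hkl : k ≠ l) : f i j = f k l := by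
  have hrow' : ∀ i j k : Fin n, i ≠ j → i ≠ k → f i j = f i k := by
    intro i j k h1 h2
    by_cases h3 : j = k
    · rw [h3]
    · exact hrow i j k h1 h2 h3
  have hcol' : ∀ i j k : Fin n, i ≠ k → j ≠ k → f i k = f j k := by
    intro i j k h1 h2
    by_cases h3 : i = j
    · rw [h3]
    · exact hcol i j k h1 h2 h3
  by_cases hik : i = k
  · rw [← hik] at hkl ⊢
    exact hrow' i j l hij hkl
  by_cases hkj : k = j
  · -- (i,j), (j,l)
    rw [hkj] at hkl ⊢
    by_cases hli : l = i
    · rw [hli]
      obtain ⟨m, hmi, hmj⟩ := exists_third hn i j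
      rw [hrow' i j m hij (Ne.symm hmi), hcol' i j m (Ne.symm hmi) (Ne.symm hmj), hrow' j m i (Ne.symm hmj) (Ne.symm hij)]
    · rw [hrow' i j l hij (Ne.symm hli), hcol' i j l (Ne.symm hli) hkl]
  · rw [hcol' i k j hij hkj, hrow' k j l hkj hkl]

end

end Cfsg.Agent.Lib.Helper16.AP
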