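import Mathlib
import Cfsg.Prelude.Def_LieTypeDatum
import Cfsg.Agent.Lib.Helper16.AP6
import Cfsg.Agent.Lib.Helper16.AP7

set_option autoImplicit false
set_option linter.unusedSectionVars false
set_option linter.unusedVariables false

namespace Cfsg.Agent.Lib.Helper16.AP

open Matrix Cfsg.Agent.Lib.Helper16.PG

universe u

section
variable {n : ℕ} {F : Type u} [Field F]

/-- the chosen image flag of a standard flag. -/
noncomputable def imF (α : MulAut (ProjectiveSpecialLinearGroup (Fin n) F)) (hα : PermT α) (i j : Fin n) (hij : i ≠ j) :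
    Flag n F := Classical.choose (hα (stdF i j hij))

theorem imF_spec (α : MulAut (ProjectiveSpecialLinearGroup (Fin n) F)) (hα : PermT α) (i j : Fin n) (hij : i ≠ j) :
    (T (stdF i j hij)).map α.toMonoidHom = T (imF α hα i j hij) := Classical.choose_spec (hα (stdF i j hij))

noncomputable def imA (α : MulAut (ProjectiveSpecialLinearGroup (Fin n) F)) (hα : PermT α) (i j : Fin n) : Fin n → F :=
  if h : i ≠ j then (imF α hα i j h).v else 0

noncomputable def imB (α : MulAut (ProjectiveSpecialLinearGroup (Fin n) F)) (hα : PermT α) (i j : Fin n) : Fin n → F :=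
  if h : i ≠ j then (imF α hα i j h).φ else 0

theorem imA_eq (α : MulAut (ProjectiveSpecialLinearGroup (Fin n) F)) (hα : PermT α) (i j : Fin n) (hij : i ≠ j) :
    imA α hα i j = (imF α hα i j hij).v := by
  unfold imA
  rw [dif_pos hij]

theorem imB_eq (α : MulAut (ProjectiveSpecialLinearGroup (Fin n) F)) (hα : PermT α) (i j : Fin n) (hij : i ≠ j) :
    imB α hα i j = (imF α hα i j hij).φ := by
  unfold imB
  rw [dif_pos hij]

theorem frameRel_im (hn : 3 ≤ n) (α : MulAut (ProjectiveSpecialLinearGroup (Fin n) F)) (hα : PermT α) (hα' : PermT α⁻¹) :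
    FrameRel n par (imA α hα) (imB α hα) where
  refl := par_refl
  symm := fun _ _ h => par_symm h
  trans := fun _ _ _ h h' => par_trans h h'
  star := by
    intro i j k l hij hkl
    rw [imA_eq α hα i j hij, imA_eq α hα k l hkl, imB_eq α hα i j hij, imB_eq α hα k l hkl]
    have h1 := adj_map hn α hα hα' (stdF i j hij) (stdF k l hkl) _ _ (imF_spec α hα i j hij) (imF_spec α hα k l hkl)
    rw [adj_std_iff] at h1
    exact h1.symm
  inj := by
    intro i j k l hij hkl h1 h2
    rw [imA_eq α hα i j hij, imA_eq α hα k l hkl] at h1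
    rw [imB_eq α hα i j hij, imB_eq α hα k l hkl] at h2
    exact T_std_inj hn i j k l hij hkl
      (inj_map α _ _ _ _ (imF_spec α hα i j hij) (imF_spec α hα k l hkl) h1 h2)

/-- the images of the standard flags are given by a frame of points and hyperplanes. -/
def FrameImg (α : MulAut (ProjectiveSpecialLinearGroup (Fin n) F)) (a b : Fin n → (Fin n → F)) : Prop :=
  ∀ i j : Fin n, ∀ hij : i ≠ j, ∃ fl : Flag n F, fl.v = a i ∧ fl.φ = b j ∧
    (T (stdF i j hij)).map α.toMonoidHom = T fl

/-- some index different from the given one. -/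
noncomputable def oth (hn : 3 ≤ n) (i : Fin n) : Fin n := Classical.choose (exists_third hn i i)

theorem oth_ne (hn : 3 ≤ n) (i : Fin n) : oth hn i ≠ i := (Classical.choose_spec (exists_third hn i i)).1

theorem par_dot_zero (v v' φ φ' : Fin n → F) (hv : par v v') (hφ : par φ φ') (h : φ ⬝ᵥ v = 0) : φ' ⬝ᵥ v' = 0 := by
  obtain ⟨c, hc, rfl⟩ := hv
  obtain ⟨c', hc', rfl⟩ := hφ
  rw [smul_dotProduct, dotProduct_smul, h, smul_zero, smul_zero]

theorem par_ne_zero (v v' : Fin n → F) (hv : par v v') (h : v ≠ 0) : v' ≠ 0 := by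
  obtain ⟨c, hc, rfl⟩ := hv
  intro h0
  rcases smul_eq_zero.mp h0 with h1 | h1
  · exact hc h1
  · exact h h1

theorem frameImg_of_typeA (hn : 3 ≤ n) (α : MulAut (ProjectiveSpecialLinearGroup (Fin n) F)) (hα : PermT α)
    (h1 : ∀ i, rowA (imA α hα) par i) (h2 : ∀ j, colB (imB α hα) par j) :
    FrameImg α (fun i => imA α hα i (oth hn i)) (fun j => imB α hα (oth hn j) j) := by
  intro i j hij
  have hv : par (imF α hα i j hij).v (imA α hα i (oth hn i)) := by
    rw [← imA_eq α hα i j hij]
    exact h1 i j (oth hn i) hij (Ne.symm (oth_ne hn i))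
  have hφ : par (imF α hα i j hij).φ (imB α hα (oth hn j) j) := by
    rw [← imB_eq α hα i j hij]
    exact h2 j i (oth hn j) hij (oth_ne hn j)
  refine ⟨⟨imA α hα i (oth hn i), imB α hα (oth hn j) j, par_ne_zero _ _ hv (imF α hα i j hij).hv,
    par_ne_zero _ _ hφ (imF α hα i j hij).hφ, par_dot_zero _ _ _ _ hv hφ (imF α hα i j hij).h⟩, rfl, rfl, ?_⟩
  rw [imF_spec α hα i j hij]
  exact T_eq_of_par _ _ hv hφ

theorem swap_stdF (i j : Fin n) (hij : i ≠ j) : (stdF (F := F) i j hij).swap = stdF j i (Ne.symm hij) := rfl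

theorem map_mul_iota (α : MulAut (ProjectiveSpecialLinearGroup (Fin n) F)) (i j : Fin n) (hij : i ≠ j) :
    (T (stdF i j hij)).map (α * iota n F).toMonoidHom = (T (stdF j i (Ne.symm hij))).map α.toMonoidHom := by
  have : (α * iota n F).toMonoidHom = α.toMonoidHom.comp (iota n F).toMonoidHom := rfl
  rw [this, ← Subgroup.map_map, map_iota_T, swap_stdF]

theorem frameImg_of_typeB (hn : 3 ≤ n) (α : MulAut (ProjectiveSpecialLinearGroup (Fin n) F)) (hα : PermT α)
    (h1 : ∀ i, rowA (imB α hα) par i) (h2 : ∀ j, colB (imA α hα) par j) :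
    FrameImg (α * iota n F) (fun i => imA α hα (oth hn i) i) (fun j => imB α hα j (oth hn j)) := by
  intro i j hij
  have hji : j ≠ i := Ne.symm hij
  have hv : par (imF α hα j i hji).v (imA α hα (oth hn i) i) := by
    rw [← imA_eq α hα j i hji]
    exact h2 i j (oth hn i) hji (oth_ne hn i)
  have hφ : par (imF α hα j i hji).φ (imB α hα j (oth hn j)) := by
    rw [← imB_eq α hα j i hji]
    exact h1 j i (oth hn j) hji (Ne.symm (oth_ne hn j))
  refine ⟨⟨imA α hα (oth hn i) i, imB α hα j (oth hn j), par_ne_zero _ _ hv (imF α hα j i hji).hv,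
    par_ne_zero _ _ hφ (imF α hα j i hji).hφ, par_dot_zero _ _ _ _ hv hφ (imF α hα j i hji).h⟩, rfl, rfl, ?_⟩
  rw [map_mul_iota, imF_spec α hα j i hji]
  exact T_eq_of_par _ _ hv hφ

/-- the frame images exist, possibly after composing with the inverse transpose. -/
theorem exists_frameImg (hn : 3 ≤ n) (α : MulAut (ProjectiveSpecialLinearGroup (Fin n) F)) (hα : PermT α)
    (hα' : PermT α⁻¹) :
    ∃ (ε : MulAut (ProjectiveSpecialLinearGroup (Fin n) F)) (a b : Fin n → (Fin n → F)),
      (ε = 1 ∨ ε = iota n F) ∧ FrameImg (α * ε) a b := by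
  rcases (frameRel_im hn α hα hα').type_dich hn with ⟨h1, h2⟩ | ⟨h1, h2⟩
  · refine ⟨1, fun i => imA α hα i (oth hn i), fun j => imB α hα (oth hn j) j, Or.inl rfl, ?_⟩
    rw [mul_one]
    exact frameImg_of_typeA hn α hα h1 h2
  · exact ⟨iota n F, _, _, Or.inr rfl, frameImg_of_typeB hn α hα h1 h2⟩

end

end Cfsg.Agent.Lib.Helper16.AP
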