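import Mathlib
import Cfsg.Prelude.Def_LieTypeDatum
import Cfsg.Agent.Lib.Helper16.AP8

set_option autoImplicit false
set_option linter.unusedSectionVars false
set_option linter.unusedVariables false

namespace Cfsg.Agent.Lib.Helper16.AP

open Matrix Cfsg.Agent.Lib.Helper16.PG

universe u

section
variable {n : ℕ} {F : Type u} [Field F]

/-- the elementary transvection `x_ij(t)` in `SL_n`. -/
def Xs (i j : Fin n) (hij : i ≠ j) (t : F) : SpecialLinearGroup (Fin n) F :=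
  tS (Pi.single i 1) (Pi.single j 1) (stdF i j hij).h t

/-- the class of the elementary transvection `x_ij(t)` in `PSL_n`. -/
def X (i j : Fin n) (hij : i ≠ j) (t : F) : ProjectiveSpecialLinearGroup (Fin n) F :=
  QuotientGroup.mk (Xs i j hij t)

theorem mem_T_std_iff (i j : Fin n) (hij : i ≠ j) (x : ProjectiveSpecialLinearGroup (Fin n) F) :
    x ∈ T (stdF i j hij) ↔ ∃ t : F, x = X i j hij t := mem_T_iff (stdF i j hij) x

theorem X_mem (i j : Fin n) (hij : i ≠ j) (t : F) : X i j hij t ∈ T (stdF i j hij) :=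
  (mem_T_std_iff i j hij _).mpr ⟨t, rfl⟩

theorem Xs_val (i j : Fin n) (hij : i ≠ j) (t : F) :
    ((Xs i j hij t : SpecialLinearGroup (Fin n) F) : Matrix (Fin n) (Fin n) F) =
      tM (Pi.single i 1) (Pi.single j 1) t := rfl

theorem single_dot_single (i j : Fin n) : (Pi.single i (1 : F)) ⬝ᵥ (Pi.single j 1) = if i = j then 1 else 0 := by
  rw [single_one_dotProduct, Pi.single_apply]

theorem X_not_comm (i j k : Fin n) (hij : i ≠ j) (hjk : j ≠ k) (hik : i ≠ k) :
    X (F := F) i j hij 1 * X j k hjk 1 ≠ X j k hjk 1 * X i j hij 1 := by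
  intro h
  unfold X at h
  rw [← QuotientGroup.mk_mul, ← QuotientGroup.mk_mul] at h
  obtain ⟨r, -, hr⟩ := mk_eq_imp _ _ h
  rw [Matrix.SpecialLinearGroup.coe_mul, Matrix.SpecialLinearGroup.coe_mul, Xs_val, Xs_val] at hr
  have e1 : tM (Pi.single j (1 : F)) (Pi.single k 1) 1 *ᵥ Pi.single k 1 = Pi.single k 1 + Pi.single j 1 := by
    rw [tM_mulVec, single_dot_single, if_pos rfl, mul_one, one_smul]
  have e2 : tM (Pi.single i (1 : F)) (Pi.single j 1) 1 *ᵥ Pi.single k 1 = Pi.single k 1 := by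
    rw [tM_mulVec, single_dot_single, if_neg hjk, mul_zero, zero_smul, add_zero]
  have e3 : tM (Pi.single i (1 : F)) (Pi.single j 1) 1 *ᵥ Pi.single j 1 = Pi.single j 1 + Pi.single i 1 := by
    rw [tM_mulVec, single_dot_single, if_pos rfl, mul_one, one_smul]
  have h1 := congrArg (fun M => M *ᵥ (Pi.single k (1 : F))) hr
  simp only [Matrix.smul_mulVec, ← Matrix.mulVec_mulVec] at h1
  rw [e1, Matrix.mulVec_add, e2, e3, e1] at h1
  have h2 := congrFun h1 i
  have h3 := congrFun h1 k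
  simp [Pi.single_apply, hij, hik, hjk, hij.symm, hik.symm, hjk.symm] at h2 h3
  rw [h3] at h2
  exact one_ne_zero h2

theorem tM_comm_of_dot (v φ v' φ' : Fin n → F) (s t : F) (h1 : φ ⬝ᵥ v' = 0) (h2 : φ' ⬝ᵥ v = 0) :
    tM v φ s * tM v' φ' t = tM v' φ' t * tM v φ s := by
  rw [tM_mul_tM, tM_mul_tM, h1, h2, mul_zero, mul_zero, zero_smul, zero_smul, add_zero, add_zero]
  abel

theorem frameImg_dot_zero (α : MulAut (ProjectiveSpecialLinearGroup (Fin n) F)) (a b : Fin n → (Fin n → F))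
    (h : FrameImg α a b) (i j : Fin n) (hij : i ≠ j) : b j ⬝ᵥ a i = 0 := by
  obtain ⟨fl, h1, h2, -⟩ := h i j hij
  rw [← h1, ← h2]
  exact fl.h

theorem frameImg_a_ne (hn : 3 ≤ n) (α : MulAut (ProjectiveSpecialLinearGroup (Fin n) F)) (a b : Fin n → (Fin n → F))
    (h : FrameImg α a b) (i : Fin n) : a i ≠ 0 := by
  obtain ⟨fl, h1, h2, -⟩ := h i (oth hn i) (Ne.symm (oth_ne hn i))
  rw [← h1]
  exact fl.hv

theorem frameImg_b_ne (hn : 3 ≤ n) (α : MulAut (ProjectiveSpecialLinearGroup (Fin n) F)) (a b : Fin n → (Fin n → F))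
    (h : FrameImg α a b) (j : Fin n) : b j ≠ 0 := by
  obtain ⟨fl, h1, h2, -⟩ := h (oth hn j) j (oth_ne hn j)
  rw [← h2]
  exact fl.hφ

theorem frameImg_apply (α : MulAut (ProjectiveSpecialLinearGroup (Fin n) F)) (a b : Fin n → (Fin n → F))
    (h : FrameImg α a b) (i j : Fin n) (hij : i ≠ j) (t : F) :
    ∃ s : F, ∃ h0 : b j ⬝ᵥ a i = 0, α (X i j hij t) = QuotientGroup.mk (tS (a i) (b j) h0 s) := by
  obtain ⟨fl, h1, h2, h3⟩ := h i j hij
  have h4 : α (X i j hij t) ∈ T fl := by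
    rw [← h3]
    exact Subgroup.mem_map_of_mem _ (X_mem i j hij t)
  rw [mem_T_iff] at h4
  obtain ⟨s, hs⟩ := h4
  obtain ⟨v, φ, hv, hφ, h0⟩ := fl
  simp only at h1 h2
  subst h1
  subst h2
  exact ⟨s, h0, hs⟩

theorem frameImg_d_ne (hn : 3 ≤ n) (α : MulAut (ProjectiveSpecialLinearGroup (Fin n) F)) (a b : Fin n → (Fin n → F))
    (h : FrameImg α a b) (j : Fin n) : b j ⬝ᵥ a j ≠ 0 := by
  intro hd
  have hij : oth hn j ≠ j := oth_ne hn j
  obtain ⟨k, hki, hkj⟩ := exists_third hn (oth hn j) j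
  obtain ⟨s, h0, hs⟩ := frameImg_apply α a b h (oth hn j) j hij 1
  obtain ⟨t, h0', ht⟩ := frameImg_apply α a b h j k (Ne.symm hkj) 1
  apply X_not_comm (F := F) (oth hn j) j k hij (Ne.symm hkj) (Ne.symm hki)
  apply α.injective
  rw [map_mul, map_mul, hs, ht, ← QuotientGroup.mk_mul, ← QuotientGroup.mk_mul]
  congr 1
  apply Subtype.ext
  rw [Matrix.SpecialLinearGroup.coe_mul, Matrix.SpecialLinearGroup.coe_mul, tS_val, tS_val]
  exact tM_comm_of_dot _ _ _ _ _ _ hd (frameImg_dot_zero α a b h (oth hn j) k (Ne.symm hki))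

/-- a frame of points and dual hyperplanes is the image of the standard frame under an invertible matrix. -/
theorem exists_gl_frame (a b : Fin n → (Fin n → F)) (h0 : ∀ i j : Fin n, i ≠ j → b j ⬝ᵥ a i = 0)
    (hd : ∀ j : Fin n, b j ⬝ᵥ a j ≠ 0) :
    ∃ g : GL (Fin n) F, (∀ i : Fin n, (g : Matrix (Fin n) (Fin n) F) *ᵥ Pi.single i 1 = a i) ∧
      ∀ j : Fin n, Pi.single j 1 ᵥ* ((g⁻¹ : GL (Fin n) F) : Matrix (Fin n) (Fin n) F) = (b j ⬝ᵥ a j)⁻¹ • b j := by
  set A : Matrix (Fin n) (Fin n) F := Matrix.of fun r c => a c r with hA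
  set B : Matrix (Fin n) (Fin n) F := Matrix.of fun r c => (b r ⬝ᵥ a r)⁻¹ * b r c with hB
  have hBA : B * A = 1 := by
    ext r c
    rw [Matrix.mul_apply, Matrix.one_apply]
    simp only [hA, hB, Matrix.of_apply, mul_assoc]
    rw [← Finset.mul_sum]
    have : ∑ k, b r k * a c k = b r ⬝ᵥ a c := rfl
    rw [this]
    by_cases hrc : r = c
    · rw [if_pos hrc, hrc, inv_mul_cancel₀ (hd c)]
    · rw [if_neg hrc, h0 c r (Ne.symm hrc), mul_zero]
  have hu : IsUnit A := (Matrix.isUnit_iff_isUnit_det A).mpr (Matrix.isUnit_det_of_left_inverse hBA)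
  refine ⟨hu.unit, ?_, ?_⟩
  · intro i
    rw [IsUnit.unit_spec, Matrix.mulVec_single_one]
    funext r
    rfl
  · intro j
    have h1 : ((hu.unit⁻¹ : GL (Fin n) F) : Matrix (Fin n) (Fin n) F) = B := by
      apply Units.inv_eq_of_mul_eq_one_left
      rw [IsUnit.unit_spec]
      exact hBA
    rw [h1, Matrix.single_one_vecMul]
    funext c
    rfl

/-- the automorphism fixes every standard transvection subgroup. -/
def FixStd (α : MulAut (ProjectiveSpecialLinearGroup (Fin n) F)) : Prop :=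
  ∀ i j : Fin n, ∀ hij : i ≠ j, (T (stdF i j hij)).map α.toMonoidHom = T (stdF i j hij)

theorem fixStd_of_frameImg (hn : 3 ≤ n) (α : MulAut (ProjectiveSpecialLinearGroup (Fin n) F))
    (a b : Fin n → (Fin n → F)) (h : FrameImg α a b) :
    ∃ g : GL (Fin n) F, FixStd ((Phi n F g)⁻¹ * α) := by
  obtain ⟨g, hg1, hg2⟩ := exists_gl_frame a b (fun i j hij => frameImg_dot_zero α a b h i j hij)
    (frameImg_d_ne hn α a b h)
  refine ⟨g, ?_⟩
  intro i j hij
  obtain ⟨fl, h1, h2, h3⟩ := h i j hij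
  have h4 : (T (stdF i j hij)).map (Phi n F g).toMonoidHom = T fl := by
    rw [map_Phi_T]
    apply T_eq_of_par
    · show par ((g : Matrix (Fin n) (Fin n) F) *ᵥ Pi.single i 1) fl.v
      rw [hg1, h1]
      exact par_refl _
    · show par (Pi.single j 1 ᵥ* ((g⁻¹ : GL (Fin n) F) : Matrix (Fin n) (Fin n) F)) fl.φ
      rw [hg2, h2]
      apply par_symm
      exact ⟨_, inv_ne_zero (frameImg_d_ne hn α a b h j), rfl⟩
  have : ((Phi n F g)⁻¹ * α).toMonoidHom = ((Phi n F g)⁻¹).toMonoidHom.comp α.toMonoidHom := rfl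
  rw [this, ← Subgroup.map_map, h3, ← h4, map_map_inv]

end

end Cfsg.Agent.Lib.Helper16.AP
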