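import Mathlib

set_option autoImplicit false

namespace Cfsg.Agent.Lib.Helper16

open Module

theorem gram_det_change_basis {F : Type*} [Field F] {n : Type*} [Fintype n] [DecidableEq n]
    {ι : Type*} [Fintype ι] [DecidableEq ι]
    (B₀ : LinearMap.BilinForm F (n → F)) (b : Basis ι F (n → F)) :
    ∃ d : F, d ≠ 0 ∧
      (Matrix.of (fun i j : ι => B₀ (b i) (b j))).det = d ^ 2 * (LinearMap.BilinForm.toMatrix' B₀).det := by
  let e : ι ≃ n := b.indexEquiv (Pi.basisFun F n)
  let b' : Basis n F (n → F) := b.reindex e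
  have h1 : (Matrix.of (fun i j : ι => B₀ (b i) (b j))) =
      Matrix.reindex e.symm e.symm (LinearMap.BilinForm.toMatrix b' B₀) := by
    ext i j
    simp [b', LinearMap.BilinForm.toMatrix_apply]
  have h2 := LinearMap.BilinForm.toMatrix_mul_basis_toMatrix (Pi.basisFun F n) b' B₀
  rw [LinearMap.BilinForm.toMatrix_basisFun] at h2
  set P := (Pi.basisFun F n).toMatrix b' with hP
  have hPinv : P * b'.toMatrix (Pi.basisFun F n) = 1 := Basis.toMatrix_mul_toMatrix_flip _ _
  have hdet : P.det ≠ 0 := by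
    intro h0
    have := congrArg Matrix.det hPinv
    rw [Matrix.det_mul, h0, zero_mul, Matrix.det_one] at this
    exact zero_ne_one this
  refine ⟨P.det, hdet, ?_⟩
  rw [h1, Matrix.det_reindex_self, ← h2, Matrix.det_mul, Matrix.det_mul, Matrix.det_transpose]
  ring

theorem isSquare_sq_mul_iff {F : Type*} [Field F] {d x : F} (hd : d ≠ 0) :
    IsSquare (d ^ 2 * x) ↔ IsSquare x := by
  constructor
  · rintro ⟨y, hy⟩
    refine ⟨y / d, ?_⟩
    field_simp
    linear_combination hy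
  · rintro ⟨y, rfl⟩
    exact ⟨d * y, by ring⟩

def swapBlocks (m : ℕ) (F : Type*) [Field F] : Matrix (Fin m ⊕ Fin m) (Fin m ⊕ Fin m) F :=
  Matrix.fromBlocks (0 : Matrix (Fin m) (Fin m) F) (1 : Matrix (Fin m) (Fin m) F)
    (1 : Matrix (Fin m) (Fin m) F) (0 : Matrix (Fin m) (Fin m) F)

theorem det_swapBlocks {F : Type*} [Field F] (m : ℕ) :
    (swapBlocks m F).det = (-1) ^ m := by
  have h1 : Matrix.fromBlocks (1 : Matrix (Fin m) (Fin m) F) (0 : Matrix (Fin m) (Fin m) F)
      (1 : Matrix (Fin m) (Fin m) F) (1 : Matrix (Fin m) (Fin m) F) * swapBlocks m F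
      = Matrix.fromBlocks (0 : Matrix (Fin m) (Fin m) F) (1 : Matrix (Fin m) (Fin m) F)
      (1 : Matrix (Fin m) (Fin m) F) (1 : Matrix (Fin m) (Fin m) F) := by
    rw [swapBlocks, Matrix.fromBlocks_multiply]; simp
  have h2 := congrArg Matrix.det h1
  rw [Matrix.det_mul, Matrix.det_fromBlocks_zero₁₂, Matrix.det_one, one_mul, one_mul,
    Matrix.det_fromBlocks_one₂₂] at h2
  rw [h2]
  simp [Matrix.det_neg]

end Cfsg.Agent.Lib.Helper16
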