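import Cfsg.Agent.Lib.Helper16.OrthoBasis
import Cfsg.Agent.Lib.Helper16.Gram

set_option autoImplicit false

namespace Cfsg.Agent.Lib.Helper16

open Module

universe u v

theorem card_odd_of_two_ne_zero {F : Type u} [Field F] [Fintype F] (h2 : (2 : F) ≠ 0) : Fintype.card F % 2 = 1 := by
  apply FiniteField.odd_card_of_char_ne_two
  intro h
  have : CharP F 2 := ringChar.of_eq h
  exact h2 (CharTwo.two_eq_zero)

theorem exists_sq_sum {F : Type u} [Field F] [Fintype F] (h2 : (2 : F) ≠ 0) {a b : F} (ha : a ≠ 0) (hb : b ≠ 0) :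
    ∃ s t : F, a * s ^ 2 + b * t ^ 2 = 1 := by
  open Polynomial in
  have hf : degree (C a * X ^ 2 : F[X]) = 2 := degree_C_mul_X_pow 2 ha
  open Polynomial in
  have hg : degree (C b * X ^ 2 - C 1 : F[X]) = 2 := by
    rw [degree_sub_eq_left_of_degree_lt]
    · exact degree_C_mul_X_pow 2 hb
    · rw [degree_C_mul_X_pow 2 hb]
      exact lt_of_le_of_lt degree_C_le (by decide)
  obtain ⟨s, t, hst⟩ := FiniteField.exists_root_sum_quadratic hf hg (card_odd_of_two_ne_zero h2)
  refine ⟨s, t, ?_⟩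
  simp only [Polynomial.eval_mul, Polynomial.eval_C, Polynomial.eval_pow, Polynomial.eval_X, Polynomial.eval_sub] at hst
  linear_combination hst

theorem exists_unit_vec {F : Type u} [Field F] [Fintype F] (h2 : (2 : F) ≠ 0) {V : Type v} [AddCommGroup V] [Module F V]
    [FiniteDimensional F V] {d : ℕ} (hV : finrank F V = d + 2) (B : LinearMap.BilinForm F V)
    (hS : B.IsSymm) (hB : B.Nondegenerate) : ∃ x : V, B x x = 1 := by
  have : Invertible (2 : F) := invertibleOfNonzero h2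
  have hS' : LinearMap.IsSymm B := ⟨fun x y => by simpa using hS.eq x y⟩
  obtain ⟨v, hv⟩ := LinearMap.BilinForm.exists_orthogonal_basis hS'
  have hne := fun i => LinearMap.IsOrthoᵢ.not_isOrtho_basis_self_of_separatingLeft hv hB.1 i
  have h0 : 0 < finrank F V := by omega
  have h1 : 1 < finrank F V := by omega
  set i₀ : Fin (finrank F V) := ⟨0, h0⟩
  set i₁ : Fin (finrank F V) := ⟨1, h1⟩
  have hi : i₀ ≠ i₁ := by
    intro h
    have := congrArg Fin.val h
    simp [i₀, i₁] at this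
  obtain ⟨s, t, hst⟩ := exists_sq_sum h2 (hne i₀) (hne i₁)
  refine ⟨s • v i₀ + t • v i₁, ?_⟩
  have h01 : B (v i₀) (v i₁) = 0 := hv hi
  have h10 : B (v i₁) (v i₀) = 0 := hv hi.symm
  simp only [map_add, LinearMap.add_apply, map_smul, LinearMap.smul_apply, smul_eq_mul, h01, h10]
  linear_combination hst

theorem normal_form {F : Type u} [Field F] [Fintype F] (h2 : (2 : F) ≠ 0) : ∀ (d : ℕ) {V : Type v} [AddCommGroup V] [Module F V]
    [FiniteDimensional F V], finrank F V = d + 1 → ∀ (B : LinearMap.BilinForm F V), B.IsSymm → B.Nondegenerate →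
    ∃ (b : Basis (Fin (d + 1)) F V) (δ : F), ∀ i j, B (b i) (b j) = if i = j then (if i = Fin.last d then δ else 1) else 0 := by
  intro d
  induction d with
  | zero =>
    intro V _ _ _ hV B _ _
    let b : Basis (Fin (0 + 1)) F V := (Module.finBasis F V).reindex (finCongr hV)
    refine ⟨b, B (b 0) (b 0), ?_⟩
    intro i j
    have hi : i = 0 := Fin.ext (by omega)
    have hj : j = 0 := Fin.ext (by omega)
    subst hi hj
    simp
  | succ d ih =>
    intro V _ _ _ hV B hS hB
    obtain ⟨x, hx1⟩ := exists_unit_vec h2 hV B hS hB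
    have hxne : B x x ≠ 0 := by rw [hx1]; exact one_ne_zero
    have hfr := finrank_orthogonal_singleton hxne hV
    have hnd := LinearMap.BilinForm.restrict_nondegenerate_orthogonal_spanSingleton B hB hS.isRefl hxne
    have hS' : (B.restrict (B.orthogonal (F ∙ x))).IsSymm := ⟨fun a b => hS.eq a.1 b.1⟩
    obtain ⟨v', δ, hv'⟩ := ih hfr (B.restrict (B.orthogonal (F ∙ x))) hS' hnd
    refine ⟨consBasis hxne v', δ, ?_⟩
    intro i j
    refine Fin.cases ?_ (fun i => ?_) i <;> refine Fin.cases ?_ (fun j => ?_) j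
    · rw [consBasis_zero, hx1]
      have : (0 : Fin (d + 1 + 1)) ≠ Fin.last (d + 1) := (Fin.last_pos).ne
      simp [this]
    · rw [consBasis_zero_succ]
      rw [if_neg (Fin.succ_ne_zero j).symm]
    · rw [consBasis_succ_zero hS.isRefl]
      rw [if_neg (Fin.succ_ne_zero i)]
    · rw [consBasis_succ_succ, hv']
      simp only [Fin.succ_inj, ← Fin.succ_last]

theorem det_normal {F : Type u} [Field F] (d : ℕ) (δ : F) :
    (Matrix.of fun i j : Fin (d + 1) => if i = j then (if i = Fin.last d then δ else 1) else 0).det = δ := by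
  have : (Matrix.of fun i j : Fin (d + 1) => if i = j then (if i = Fin.last d then δ else 1) else 0)
      = Matrix.diagonal (fun i => if i = Fin.last d then δ else 1) := by
    ext i j
    simp [Matrix.diagonal_apply]
  rw [this, Matrix.det_diagonal, Finset.prod_ite_eq']
  simp

theorem polarBilin_isSymm {F : Type u} [Field F] {V : Type v} [AddCommGroup V] [Module F V] (Q : QuadraticForm F V) :
    LinearMap.BilinForm.IsSymm (QuadraticMap.polarBilin Q) := ⟨fun x y => QuadraticMap.polar_comm Q x y⟩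

theorem gram_eq {F : Type u} [Field F] {n : ℕ} (Q : QuadraticForm F (Fin n → F)) :
    (Matrix.of (fun i j : Fin n => QuadraticMap.polar ⇑Q (Pi.single i 1) (Pi.single j 1))) =
      LinearMap.BilinForm.toMatrix' (QuadraticMap.polarBilin Q) := by
  ext i j
  simp [LinearMap.BilinForm.toMatrix'_apply]

theorem forward {F : Type u} [Field F] {n : ℕ} (Q₁ Q₂ : QuadraticForm F (Fin n → F))
    (g : (Fin n → F) ≃ₗ[F] (Fin n → F)) (hg : ∀ v, Q₂ (g v) = Q₁ v) :
    IsSquare ((LinearMap.BilinForm.toMatrix' (QuadraticMap.polarBilin Q₁)).det *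
      (LinearMap.BilinForm.toMatrix' (QuadraticMap.polarBilin Q₂)).det) := by
  set b : Basis (Fin n) F (Fin n → F) := (Pi.basisFun F (Fin n)).map g with hb
  obtain ⟨e, he, hdet⟩ := gram_det_change_basis (QuadraticMap.polarBilin Q₂) b
  have h1 : (Matrix.of (fun i j : Fin n => (QuadraticMap.polarBilin Q₂) (b i) (b j))) =
      LinearMap.BilinForm.toMatrix' (QuadraticMap.polarBilin Q₁) := by
    ext i j
    simp only [Matrix.of_apply, LinearMap.BilinForm.toMatrix'_apply, QuadraticMap.polarBilin_apply_apply, hb,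
      Basis.map_apply, Pi.basisFun_apply]
    unfold QuadraticMap.polar
    rw [← map_add, hg, hg, hg]
  rw [h1] at hdet
  rw [hdet]
  exact ⟨e * (LinearMap.BilinForm.toMatrix' (QuadraticMap.polarBilin Q₂)).det, by ring⟩

theorem backward {F : Type u} [Field F] [Fintype F] (h2 : (2 : F) ≠ 0) {d : ℕ} (Q₁ Q₂ : QuadraticForm F (Fin (d + 1) → F))
    (h₁ : (QuadraticMap.polarBilin Q₁).Nondegenerate) (h₂ : (QuadraticMap.polarBilin Q₂).Nondegenerate)
    (hsq : IsSquare ((LinearMap.BilinForm.toMatrix' (QuadraticMap.polarBilin Q₁)).det *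
      (LinearMap.BilinForm.toMatrix' (QuadraticMap.polarBilin Q₂)).det)) :
    ∃ g : (Fin (d + 1) → F) ≃ₗ[F] (Fin (d + 1) → F), ∀ v, Q₂ (g v) = Q₁ v := by
  set B₁ := QuadraticMap.polarBilin Q₁ with hB₁
  set B₂ := QuadraticMap.polarBilin Q₂ with hB₂
  have hfr : finrank F (Fin (d + 1) → F) = d + 1 := by simp
  obtain ⟨b₁, δ₁, hb₁⟩ := normal_form h2 d hfr B₁ (polarBilin_isSymm Q₁) h₁
  obtain ⟨b₂, δ₂, hb₂⟩ := normal_form h2 d hfr B₂ (polarBilin_isSymm Q₂) h₂
  obtain ⟨e₁, he₁, hdet₁⟩ := gram_det_change_basis B₁ b₁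
  obtain ⟨e₂, he₂, hdet₂⟩ := gram_det_change_basis B₂ b₂
  have hD₁ : (LinearMap.BilinForm.toMatrix' B₁).det ≠ 0 :=
    (Matrix.nondegenerate_iff_det_ne_zero).mp (LinearMap.BilinForm.Nondegenerate.toMatrix' h₁)
  have hD₂ : (LinearMap.BilinForm.toMatrix' B₂).det ≠ 0 :=
    (Matrix.nondegenerate_iff_det_ne_zero).mp (LinearMap.BilinForm.Nondegenerate.toMatrix' h₂)
  have hG₁ : (Matrix.of (fun i j : Fin (d + 1) => B₁ (b₁ i) (b₁ j))) =
      Matrix.of fun i j : Fin (d + 1) => if i = j then (if i = Fin.last d then δ₁ else 1) else 0 := by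
    ext i j; exact hb₁ i j
  have hG₂ : (Matrix.of (fun i j : Fin (d + 1) => B₂ (b₂ i) (b₂ j))) =
      Matrix.of fun i j : Fin (d + 1) => if i = j then (if i = Fin.last d then δ₂ else 1) else 0 := by
    ext i j; exact hb₂ i j
  rw [hG₁, det_normal] at hdet₁
  rw [hG₂, det_normal] at hdet₂
  obtain ⟨r, hr⟩ := hsq
  set D₁ := (LinearMap.BilinForm.toMatrix' B₁).det with hD₁def
  set D₂ := (LinearMap.BilinForm.toMatrix' B₂).det with hD₂def
  have hr0 : r ≠ 0 := by
    rintro rfl
    rw [mul_zero] at hr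
    exact (mul_ne_zero hD₁ hD₂) hr
  have hδ₂ : δ₂ ≠ 0 := by rw [hdet₂]; exact mul_ne_zero (pow_ne_zero 2 he₂) hD₂
  obtain ⟨μ, hμ0, hμ⟩ : ∃ μ : F, μ ≠ 0 ∧ μ ^ 2 * δ₂ = δ₁ := by
    refine ⟨e₁ * r / (e₂ * D₂), ?_, ?_⟩
    · exact div_ne_zero (mul_ne_zero he₁ hr0) (mul_ne_zero he₂ hD₂)
    · rw [hdet₁, hdet₂]
      field_simp
      linear_combination (-1 : F) * hr
  let w : Fin (d + 1) → Fˣ := fun i => if i = Fin.last d then Units.mk0 μ hμ0 else 1
  let b₂' : Basis (Fin (d + 1)) F (Fin (d + 1) → F) := b₂.unitsSMul w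
  let g : (Fin (d + 1) → F) ≃ₗ[F] (Fin (d + 1) → F) := b₁.equiv b₂' (Equiv.refl _)
  have hgb : ∀ i, g (b₁ i) = (w i : F) • b₂ i := by
    intro i
    simp only [g, Basis.equiv_apply, Equiv.refl_apply, b₂', Basis.unitsSMul_apply]
    rfl
  have hBB : LinearMap.BilinForm.comp B₂ (g : (Fin (d + 1) → F) →ₗ[F] (Fin (d + 1) → F)) (g : (Fin (d + 1) → F) →ₗ[F] (Fin (d + 1) → F)) = B₁ := by
    apply LinearMap.BilinForm.ext_basis b₁
    intro i j
    rw [LinearMap.BilinForm.comp_apply]
    simp only [LinearEquiv.coe_coe, hgb, map_smul, LinearMap.smul_apply, smul_eq_mul, hb₁, hb₂]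
    by_cases hij : i = j
    · subst hij
      by_cases hi : i = Fin.last d
      · simp [w, hi]
        linear_combination hμ
      · simp [w, hi]
    · simp [hij]
  refine ⟨g, fun v => ?_⟩
  have h3 := congrArg (fun B : LinearMap.BilinForm F (Fin (d + 1) → F) => B v v) hBB
  simp only [LinearMap.BilinForm.comp_apply, LinearEquiv.coe_coe, hB₁, hB₂, QuadraticMap.polarBilin_apply_apply,
    QuadraticMap.polar_self, two_nsmul] at h3
  exact mul_left_cancel₀ h2 (by linear_combination h3)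


end Cfsg.Agent.Lib.Helper16
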