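import Mathlib
import Cfsg.Prelude.Def_Classical
import Cfsg.Prelude.Def_ClassicalGeometry
import Cfsg.Agent.Lib.helper6.Quad

set_option autoImplicit false

namespace Cfsg.Agent.Lib.Helper16

open Matrix Cfsg.Agent.Lib.helper6

variable {ι : Type} [Fintype ι] [DecidableEq ι] {F : Type*} [Field F]

theorem mem_iso_iff (Q : (ι → F) → F) (g : Matrix.GeneralLinearGroup ι F) :
    g ∈ Cfsg.isometryGroup F Q ↔ ∀ x, Q ((g : Matrix ι ι F) *ᵥ x) = Q x := by
  constructor
  · intro h x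
    exact h x x
  · intro h x _
    exact h x

theorem iso_pres (Q : (ι → F) → F) (g : ↥(Cfsg.isometryGroup F Q)) (x : ι → F) :
    Q (((g : Matrix.GeneralLinearGroup ι F) : Matrix ι ι F) *ᵥ x) = Q x :=
  (mem_iso_iff Q g.1).mp g.2 x

theorem iso_ext' (Q : (ι → F) → F) (g h : ↥(Cfsg.isometryGroup F Q))
    (hgh : ((g : Matrix.GeneralLinearGroup ι F) : Matrix ι ι F)
      = ((h : Matrix.GeneralLinearGroup ι F) : Matrix ι ι F)) : g = h :=
  Subtype.ext (Units.ext hgh)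

theorem iso_mul_coe (Q : (ι → F) → F) (g h : ↥(Cfsg.isometryGroup F Q)) :
    (((g * h : ↥(Cfsg.isometryGroup F Q)) : Matrix.GeneralLinearGroup ι F) : Matrix ι ι F)
      = ((g : Matrix.GeneralLinearGroup ι F) : Matrix ι ι F) *
        ((h : Matrix.GeneralLinearGroup ι F) : Matrix ι ι F) := rfl

theorem iso_one_coe (Q : (ι → F) → F) :
    (((1 : ↥(Cfsg.isometryGroup F Q)) : Matrix.GeneralLinearGroup ι F) : Matrix ι ι F) = 1 := rfl

theorem refl_pres (Q : QuadraticForm F (ι → F)) (v : ι → F) (hv : Q v ≠ 0) (x : ι → F) :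
    Q (Cfsg.reflectionMatrix ⇑Q v *ᵥ x) = Q x := by
  rw [reflectionMatrix_mulVec, sub_eq_add_neg, ← neg_smul, QuadraticMap.map_add (⇑Q),
    QuadraticMap.map_smul, QuadraticMap.polar_smul_right, QuadraticMap.polar_comm (⇑Q) x v]
  simp only [smul_eq_mul]
  field_simp
  ring

theorem refl_mul_self (Q : QuadraticForm F (ι → F)) (u : ι → F) (hu : Q u ≠ 0) :
    Cfsg.reflectionMatrix ⇑Q u * Cfsg.reflectionMatrix ⇑Q u = 1 := by
  rw [Matrix.ext_iff_mulVec]
  intro x
  rw [← Matrix.mulVec_mulVec, Matrix.one_mulVec, reflectionMatrix_mulVec, reflectionMatrix_mulVec]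
  have h1 : QuadraticMap.polar (⇑Q) u (x - ((Q u)⁻¹ * QuadraticMap.polar (⇑Q) u x) • u)
      = - QuadraticMap.polar (⇑Q) u x := by
    rw [QuadraticMap.polar_sub_right, QuadraticMap.polar_smul_right, QuadraticMap.polar_self]
    simp only [smul_eq_mul, nsmul_eq_mul, Nat.cast_ofNat]
    field_simp
    ring
  rw [h1]
  module

theorem refl_det (Q : QuadraticForm F (ι → F)) (v : ι → F) (hv : Q v ≠ 0) :
    (Cfsg.reflectionMatrix ⇑Q v).det = -1 := by
  unfold Cfsg.reflectionMatrix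
  rw [sub_eq_add_neg, ← neg_smul, ← Matrix.smul_vecMulVec, Matrix.vecMulVec_eq Unit,
    Matrix.det_one_add_replicateCol_mul_replicateRow, dotProduct_smul, polarVec_dotProduct,
    QuadraticMap.polar_self]
  rw [nsmul_eq_mul]
  push_cast
  simp only [smul_eq_mul]
  field_simp
  ring

noncomputable def reflG (Q : QuadraticForm F (ι → F)) (u : ι → F) (hu : Q u ≠ 0) :
    ↥(Cfsg.isometryGroup F ⇑Q) :=
  ⟨⟨Cfsg.reflectionMatrix ⇑Q u, Cfsg.reflectionMatrix ⇑Q u, refl_mul_self Q u hu, refl_mul_self Q u hu⟩,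
    (mem_iso_iff _ _).mpr (fun x => refl_pres Q u hu x)⟩

theorem reflG_coe (Q : QuadraticForm F (ι → F)) (u : ι → F) (hu : Q u ≠ 0) :
    ((reflG Q u hu : Matrix.GeneralLinearGroup ι F) : Matrix ι ι F)
      = Cfsg.reflectionMatrix ⇑Q u := rfl

theorem reflG_mul_self (Q : QuadraticForm F (ι → F)) (u : ι → F) (hu : Q u ≠ 0) :
    reflG Q u hu * reflG Q u hu = 1 := by
  apply iso_ext'
  rw [iso_mul_coe, reflG_coe, refl_mul_self Q u hu]
  rfl

theorem reflG_inv (Q : QuadraticForm F (ι → F)) (u : ι → F) (hu : Q u ≠ 0) :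
    (reflG Q u hu)⁻¹ = reflG Q u hu :=
  inv_eq_of_mul_eq_one_left (reflG_mul_self Q u hu)

theorem refl_smul (Q : QuadraticForm F (ι → F)) (u : ι → F) (s : F) (hs : s ≠ 0) (hu : Q u ≠ 0) :
    Cfsg.reflectionMatrix ⇑Q (s • u) = Cfsg.reflectionMatrix ⇑Q u := by
  rw [Matrix.ext_iff_mulVec]
  intro x
  rw [reflectionMatrix_mulVec, reflectionMatrix_mulVec, QuadraticMap.map_smul,
    QuadraticMap.polar_smul_left, smul_smul]
  congr 2
  simp only [smul_eq_mul]
  field_simp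

theorem polar_iso' (Q : QuadraticForm F (ι → F)) (g : ↥(Cfsg.isometryGroup F ⇑Q)) (x y : ι → F) :
    QuadraticMap.polar (⇑Q) (((g : Matrix.GeneralLinearGroup ι F) : Matrix ι ι F) *ᵥ x)
      (((g : Matrix.GeneralLinearGroup ι F) : Matrix ι ι F) *ᵥ y)
      = QuadraticMap.polar (⇑Q) x y := by
  unfold QuadraticMap.polar
  rw [← Matrix.mulVec_add, iso_pres (⇑Q) g, iso_pres (⇑Q) g, iso_pres (⇑Q) g]

theorem refl_conj (Q : QuadraticForm F (ι → F)) (h : ↥(Cfsg.isometryGroup F ⇑Q)) (u : ι → F)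
    (hu : Q u ≠ 0)
    (hu' : Q (((h : Matrix.GeneralLinearGroup ι F) : Matrix ι ι F) *ᵥ u) ≠ 0) :
    h * reflG Q u hu * h⁻¹
      = reflG Q (((h : Matrix.GeneralLinearGroup ι F) : Matrix ι ι F) *ᵥ u) hu' := by
  rw [mul_inv_eq_iff_eq_mul]
  apply iso_ext'
  rw [iso_mul_coe, iso_mul_coe, reflG_coe, reflG_coe, Matrix.ext_iff_mulVec]
  intro x
  rw [← Matrix.mulVec_mulVec, ← Matrix.mulVec_mulVec, reflectionMatrix_mulVec,
    reflectionMatrix_mulVec, polar_iso', iso_pres (⇑Q) h, Matrix.mulVec_sub, Matrix.mulVec_smul]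

omit [Fintype ι] [DecidableEq ι] in
theorem Q_sub' (Q : QuadraticForm F (ι → F)) (a b : ι → F) :
    Q (a - b) = Q a + Q b - QuadraticMap.polar (⇑Q) a b := by
  have h1 : Q (a + -b) = Q a + Q (-b) + QuadraticMap.polar (⇑Q) a (-b) := by
    unfold QuadraticMap.polar; ring
  rw [sub_eq_add_neg, h1, QuadraticMap.map_neg, QuadraticMap.polar_neg_right]; ring

theorem refl_swap_sub' (Q : QuadraticForm F (ι → F)) (v w : ι → F) (hvw : Q w = Q v)
    (h : Q (w - v) ≠ 0) : Cfsg.reflectionMatrix ⇑Q (w - v) *ᵥ w = v := by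
  rw [reflectionMatrix_mulVec]
  have h1 : QuadraticMap.polar (⇑Q) (w - v) w = Q (w - v) := by
    have e1 : Q (w - v) = Q w + Q v - QuadraticMap.polar (⇑Q) w v := Q_sub' Q w v
    rw [QuadraticMap.polar_sub_left, QuadraticMap.polar_self, e1, hvw, QuadraticMap.polar_comm (⇑Q) v w]
    simp only [nsmul_eq_mul, Nat.cast_ofNat]
    ring
  rw [h1, inv_mul_cancel₀ h, one_smul]
  abel

theorem refl_swap_add' (Q : QuadraticForm F (ι → F)) (v w : ι → F) (hvw : Q w = Q v)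
    (h : Q (w + v) ≠ 0) : Cfsg.reflectionMatrix ⇑Q (w + v) *ᵥ w = -v := by
  rw [reflectionMatrix_mulVec]
  have h1 : QuadraticMap.polar (⇑Q) (w + v) w = Q (w + v) := by
    have e1 : Q (w + v) = Q w + Q v + QuadraticMap.polar (⇑Q) w v := by
      unfold QuadraticMap.polar; ring
    rw [QuadraticMap.polar_add_left, QuadraticMap.polar_self, e1, hvw, QuadraticMap.polar_comm (⇑Q) v w]
    simp only [nsmul_eq_mul, Nat.cast_ofNat]
    ring
  rw [h1, inv_mul_cancel₀ h, one_smul]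
  abel

omit [Fintype ι] [DecidableEq ι] in
theorem sub_or_add_aniso' (h2 : (2 : F) ≠ 0) (Q : QuadraticForm F (ι → F)) (v w : ι → F)
    (hvw : Q w = Q v) (hv : Q v ≠ 0) : Q (w - v) ≠ 0 ∨ Q (w + v) ≠ 0 := by
  by_contra hcon
  push Not at hcon
  have e1 : Q (w + v) = Q w + Q v + QuadraticMap.polar (⇑Q) w v := by
    unfold QuadraticMap.polar; ring
  have e2 : Q (w - v) = Q w + Q v - QuadraticMap.polar (⇑Q) w v := Q_sub' Q w v
  have : 2 * 2 * Q v = 0 := by
    linear_combination hcon.1 + hcon.2 - e1 - e2 - 2 * hvw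
  rcases mul_eq_zero.mp this with h | h
  · exact h2 ((mul_self_eq_zero).mp h)
  · exact hv h

theorem reflG_neg (Q : QuadraticForm F (ι → F)) (u : ι → F) (hu : Q u ≠ 0) (hu' : Q (-u) ≠ 0) :
    reflG Q (-u) hu' = reflG Q u hu := by
  apply iso_ext'
  rw [reflG_coe, reflG_coe]
  have := refl_smul Q u (-1) (by simp) hu
  rw [neg_one_smul] at this
  exact this

theorem reflG_isConj (h2 : (2 : F) ≠ 0) (Q : QuadraticForm F (ι → F)) (u v : ι → F)
    (hu : Q u ≠ 0) (hv : Q v ≠ 0) (huv : Q u = Q v) : IsConj (reflG Q u hu) (reflG Q v hv) := by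
  rcases sub_or_add_aniso' h2 Q v u huv hv with h | h
  · rw [isConj_iff]
    refine ⟨reflG Q (u - v) h, ?_⟩
    have h3 := refl_swap_sub' Q v u huv h
    have hu' : Q (((reflG Q (u - v) h : Matrix.GeneralLinearGroup ι F) : Matrix ι ι F) *ᵥ u) ≠ 0 := by
      rw [reflG_coe, h3]; exact hv
    rw [refl_conj Q _ u hu hu']
    apply iso_ext'
    rw [reflG_coe, reflG_coe, reflG_coe, h3]
  · rw [isConj_iff]
    refine ⟨reflG Q (u + v) h, ?_⟩
    have h3 := refl_swap_add' Q v u huv h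
    have hu' : Q (((reflG Q (u + v) h : Matrix.GeneralLinearGroup ι F) : Matrix ι ι F) *ᵥ u) ≠ 0 := by
      rw [reflG_coe, h3, QuadraticMap.map_neg]; exact hv
    rw [refl_conj Q _ u hu hu']
    have hnv : Q (-v) ≠ 0 := by rw [QuadraticMap.map_neg]; exact hv
    rw [← reflG_neg Q v hv hnv]
    apply iso_ext'
    rw [reflG_coe, reflG_coe, reflG_coe, h3]

theorem reflG_isConj_sq (h2 : (2 : F) ≠ 0) (Q : QuadraticForm F (ι → F)) (u v : ι → F)
    (hu : Q u ≠ 0) (hv : Q v ≠ 0) (s : F) (huv : Q u = s * s * Q v) :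
    IsConj (reflG Q u hu) (reflG Q v hv) := by
  have hs : s ≠ 0 := by
    rintro rfl
    rw [zero_mul, zero_mul] at huv
    exact hu huv
  have hsv : Q (s • v) ≠ 0 := by
    rw [QuadraticMap.map_smul, smul_eq_mul, ← huv]; exact hu
  have h1 : reflG Q (s • v) hsv = reflG Q v hv := by
    apply iso_ext'
    rw [reflG_coe, reflG_coe, refl_smul Q v s hs hv]
  rw [← h1]
  apply reflG_isConj h2
  rw [QuadraticMap.map_smul, smul_eq_mul, huv]

end Cfsg.Agent.Lib.Helper16
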