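import Mathlib
import Cfsg.Agent.Lib.Helper16.SpinA

set_option autoImplicit false

namespace Cfsg.Agent.Lib.Helper16

open Matrix

variable {ι : Type} [Fintype ι] [DecidableEq ι] {F : Type*} [Field F]

def LevelSet (Q : (ι → F) → F) (c : F) : Type _ := {v : ι → F // Q v = c}

noncomputable instance levelSetFintype [Fintype F] (Q : (ι → F) → F) (c : F) : Fintype (LevelSet Q c) := by
  classical
  unfold LevelSet
  infer_instance

noncomputable instance levelSetDecEq (Q : (ι → F) → F) (c : F) : DecidableEq (LevelSet Q c) :=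
  Classical.decEq _

instance levelSetAction (Q : (ι → F) → F) (c : F) :
    MulAction ↥(Cfsg.isometryGroup F Q) (LevelSet Q c) where
  smul g v := ⟨((g : Matrix.GeneralLinearGroup ι F) : Matrix ι ι F) *ᵥ v.1, by
    rw [iso_pres Q g]; exact v.2⟩
  one_smul v := by
    apply Subtype.ext
    show ((1 : Matrix.GeneralLinearGroup ι F) : Matrix ι ι F) *ᵥ v.1 = v.1
    simp
  mul_smul g h v := by
    apply Subtype.ext
    show (((g * h : ↥(Cfsg.isometryGroup F Q)) : Matrix.GeneralLinearGroup ι F) : Matrix ι ι F) *ᵥ v.1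
      = ((g : Matrix.GeneralLinearGroup ι F) : Matrix ι ι F) *ᵥ
        (((h : Matrix.GeneralLinearGroup ι F) : Matrix ι ι F) *ᵥ v.1)
    rw [iso_mul_coe, Matrix.mulVec_mulVec]

theorem levelSet_smul_val (Q : (ι → F) → F) (c : F) (g : ↥(Cfsg.isometryGroup F Q)) (v : LevelSet Q c) :
    (g • v).1 = ((g : Matrix.GeneralLinearGroup ι F) : Matrix ι ι F) *ᵥ v.1 := rfl

noncomputable def spinSign [Fintype F] (Q : (ι → F) → F) (c : F) : ↥(Cfsg.isometryGroup F Q) →* ℤˣ :=
  Equiv.Perm.sign.comp (MulAction.toPermHom ↥(Cfsg.isometryGroup F Q) (LevelSet Q c))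

theorem spinSign_apply [Fintype F] (Q : (ι → F) → F) (c : F) (g : ↥(Cfsg.isometryGroup F Q)) :
    spinSign Q c g = Equiv.Perm.sign (MulAction.toPerm g : Equiv.Perm (LevelSet Q c)) := rfl

theorem omega_le_ker {A : Type*} [CommGroup A] (Q : (ι → F) → F) (f : ↥(Cfsg.isometryGroup F Q) →* A) :
    Cfsg.Omega F Q ≤ f.ker :=
  Abelianization.commutator_subset_ker f

end Cfsg.Agent.Lib.Helper16
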