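import Mathlib

set_option autoImplicit false

namespace Cfsg.Agent.Lib.Helper16

open Equiv.Perm in
theorem cycleType_of_free {α : Type*} [Fintype α] [DecidableEq α] (σ : Equiv.Perm α) (n : ℕ)
    (h : ∀ x, σ x ≠ x → ∀ j : ℕ, (σ ^ j) x = x ↔ n ∣ j) :
    σ.cycleType = Multiset.replicate (Multiset.card σ.cycleType) n := by
  rw [Multiset.eq_replicate_card]
  intro m hm
  obtain ⟨c, τ, hστ, hd, hc, hcard⟩ := Equiv.Perm.mem_cycleType_iff.mp hm
  have hc' : c.IsCycle := hc
  obtain ⟨x, hx, -⟩ := hc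
  have hτx : τ x = x := (hd x).resolve_left hx
  have hpow : ∀ j : ℕ, (σ ^ j) x = (c ^ j) x := by
    intro j
    rw [hστ, hd.commute.mul_pow, Equiv.Perm.mul_apply,
      Equiv.Perm.pow_apply_eq_self_of_apply_eq_self hτx]
  have hσx : σ x ≠ x := by
    have := hpow 1
    rw [pow_one, pow_one] at this
    rw [this]; exact hx
  have key : ∀ j : ℕ, m ∣ j ↔ n ∣ j := by
    intro j
    rw [← h x hσx j, hpow j, ← hc'.pow_eq_one_iff' hx, ← hcard, ← hc'.orderOf, orderOf_dvd_iff_pow_eq_one]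
  exact Nat.dvd_antisymm ((key n).mpr dvd_rfl) ((key m).mp dvd_rfl)

theorem even_card_of_involution {α : Type*} [Fintype α] (f : α → α) (hf : ∀ x, f (f x) = x)
    (hne : ∀ x, f x ≠ x) : Even (Fintype.card α) := by
  classical
  let σ : Equiv.Perm α := ⟨f, f, hf, hf⟩
  have hσ : σ ^ 2 = 1 := by
    ext x
    rw [pow_two, Equiv.Perm.mul_apply]
    exact hf (x)
  have h1 := Equiv.Perm.two_dvd_card_support hσ
  have h2 : σ.support = Finset.univ := by
    ext x
    simp only [Equiv.Perm.mem_support, Finset.mem_univ, iff_true]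
    exact hne x
  rw [h2, Finset.card_univ] at h1
  exact even_iff_two_dvd.mpr h1

end Cfsg.Agent.Lib.Helper16
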