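import Mathlib
import Cfsg.Prelude.Def_Classical

set_option autoImplicit false

namespace Cfsg.Agent.Lib.Helper16

section
variable {F : Type*} [Field F] [Fintype F] [DecidableEq F]

theorem card_mul_eq (c : F) :
    (Finset.univ.filter (fun p : F × F => p.1 * p.2 = c)).card =
      (Fintype.card F - 1) + if c = 0 then Fintype.card F else 0 := by
  rw [Finset.card_filter, Fintype.sum_prod_type]
  have hx : ∀ x : F, x ≠ 0 → (∑ y : F, if x * y = c then 1 else 0) = 1 := by
    intro x hx
    have : ∀ y : F, (x * y = c) ↔ (y = x⁻¹ * c) := by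
      intro y
      constructor
      · intro h; rw [← h, ← mul_assoc, inv_mul_cancel₀ hx, one_mul]
      · intro h; rw [h, ← mul_assoc, mul_inv_cancel₀ hx, one_mul]
    simp only [this]
    rw [Finset.sum_ite_eq']
    simp
  have h0 : (∑ y : F, if (0 : F) * y = c then 1 else 0) = if c = 0 then Fintype.card F else 0 := by
    simp only [zero_mul]
    by_cases hc : c = 0
    · subst hc; simp
    · have : ¬ (0 = c) := fun h => hc h.symm
      simp [hc, this]
  rw [← Finset.add_sum_erase Finset.univ _ (Finset.mem_univ (0 : F)), h0]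
  rw [Finset.sum_congr rfl (fun x hx' => hx x (Finset.ne_of_mem_erase hx'))]
  simp only [Finset.sum_const, smul_eq_mul, mul_one, Finset.card_erase_of_mem (Finset.mem_univ (0 : F)),
    Finset.card_univ]
  ring

theorem zeros_step {W : Type*} [Fintype W] (f : W → F) :
    Fintype.card {p : (F × F) × W // p.1.1 * p.1.2 + f p.2 = 0} =
      Fintype.card F * Fintype.card {w : W // f w = 0} + (Fintype.card F - 1) * Fintype.card W := by
  classical
  rw [Fintype.card_subtype, Fintype.card_subtype, Finset.card_filter, Fintype.sum_prod_type, Finset.sum_comm]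
  have h1 : ∀ w : W, (∑ x : F × F, if x.1 * x.2 + f w = 0 then 1 else 0) =
      (Fintype.card F - 1) + if f w = 0 then Fintype.card F else 0 := by
    intro w
    rw [← Finset.card_filter]
    have : ∀ x : F × F, (x.1 * x.2 + f w = 0) ↔ (x.1 * x.2 = -f w) := by
      intro x
      constructor
      · intro h; linear_combination h
      · intro h; linear_combination h
    simp only [this]
    rw [card_mul_eq]
    simp only [neg_eq_zero]
  rw [Finset.sum_congr rfl (fun w _ => h1 w), Finset.sum_add_distrib, Finset.sum_const, Finset.card_univ,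
    ← Finset.sum_filter, Finset.sum_const, smul_eq_mul, smul_eq_mul]
  ring

end

universe u

section
variable {F : Type u} [Field F] [Fintype F] [DecidableEq F]

def splitPlus (k : ℕ) (W : Type u) :
    (Fin (k + 1) ⊕ Fin (k + 1) → F) × W ≃ (Fin k ⊕ Fin k → F) × ((F × F) × W) where
  toFun p := (Sum.elim (fun i => p.1 (Sum.inl i.succ)) (fun i => p.1 (Sum.inr i.succ)),
    ((p.1 (Sum.inl 0), p.1 (Sum.inr 0)), p.2))
  invFun p' := (Sum.elim (Fin.cons p'.2.1.1 (fun i => p'.1 (Sum.inl i)))
    (Fin.cons p'.2.1.2 (fun i => p'.1 (Sum.inr i))), p'.2.2)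
  left_inv p := by
    rcases p with ⟨v, w⟩
    simp only [Sum.elim_inl, Sum.elim_inr, Prod.mk.injEq, and_true]
    funext s
    rcases s with i | i
    · refine Fin.cases ?_ ?_ i
      · simp
      · intro j; simp
    · refine Fin.cases ?_ ?_ i
      · simp
      · intro j; simp
  right_inv p' := by
    rcases p' with ⟨v, ⟨⟨x, y⟩, w⟩⟩
    simp only [Sum.elim_inl, Sum.elim_inr, Fin.cons_succ, Fin.cons_zero, Prod.mk.injEq, and_true]
    funext s
    rcases s with i | i <;> rfl

theorem splitPlus_quad (k : ℕ) (W : Type u) (f : W → F) (p : (Fin (k + 1) ⊕ Fin (k + 1) → F) × W) :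
    Cfsg.quadFormPlus (k + 1) F p.1 + f p.2 =
      Cfsg.quadFormPlus k F (splitPlus k W p).1 +
        ((splitPlus k W p).2.1.1 * (splitPlus k W p).2.1.2 + f (splitPlus k W p).2.2) := by
  unfold Cfsg.quadFormPlus
  rw [Fin.sum_univ_succ]
  simp only [splitPlus, Equiv.coe_fn_mk, Sum.elim_inl, Sum.elim_inr]
  ring

theorem zeros_plus (k : ℕ) : ∀ {W : Type u} [Fintype W] (f : W → F),
    (Fintype.card F : ℤ) * Fintype.card {p : (Fin k ⊕ Fin k → F) × W // Cfsg.quadFormPlus k F p.1 + f p.2 = 0}
      = (Fintype.card F : ℤ) ^ (k + 1) * Fintype.card {w : W // f w = 0}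
        + Fintype.card W * ((Fintype.card F : ℤ) ^ (2 * k) - (Fintype.card F : ℤ) ^ k) := by
  induction k with
  | zero =>
    intro W _ f
    have : Fintype.card {p : (Fin 0 ⊕ Fin 0 → F) × W // Cfsg.quadFormPlus 0 F p.1 + f p.2 = 0} =
        Fintype.card {w : W // f w = 0} := by
      apply Fintype.card_congr
      refine
        { toFun := fun p => ⟨p.1.2, by
            have := p.2
            simpa [Cfsg.quadFormPlus] using this⟩
          invFun := fun w => ⟨(fun _ => 0, w.1), by simp [Cfsg.quadFormPlus, w.2]⟩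
          left_inv := ?_
          right_inv := ?_ }
      · rintro ⟨⟨v, w⟩, h⟩
        apply Subtype.ext
        simp only [Prod.mk.injEq, and_true]
        funext s
        rcases s with i | i <;> exact i.elim0
      · rintro ⟨w, h⟩
        rfl
    rw [this]
    simp
  | succ k ih =>
    intro W _ f
    have hcongr : Fintype.card {p : (Fin (k + 1) ⊕ Fin (k + 1) → F) × W // Cfsg.quadFormPlus (k + 1) F p.1 + f p.2 = 0} =
        Fintype.card {p' : (Fin k ⊕ Fin k → F) × ((F × F) × W) //
          Cfsg.quadFormPlus k F p'.1 + (p'.2.1.1 * p'.2.1.2 + f p'.2.2) = 0} := by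
      apply Fintype.card_congr
      apply (splitPlus k W).subtypeEquiv
      intro p
      rw [splitPlus_quad]
    rw [hcongr, ih (fun p' : (F × F) × W => p'.1.1 * p'.1.2 + f p'.2), zeros_step f]
    simp only [Fintype.card_prod]
    have hq : 1 ≤ Fintype.card F := Fintype.card_pos
    push_cast [Nat.cast_sub hq]
    ring

end

end Cfsg.Agent.Lib.Helper16
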