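import Mathlib
import Cfsg.Agent.Lib.Helper16.SpinB
import Cfsg.Agent.Lib.Helper16.SpinC1
import Cfsg.Agent.Lib.Helper16.ZeroCount

set_option autoImplicit false
set_option linter.unusedSectionVars false
set_option linter.unusedSimpArgs false

namespace Cfsg.Agent.Lib.Helper16

open Matrix

variable {ι : Type} [Fintype ι] [DecidableEq ι] {F : Type*} [Field F]

def splitAB (a b : ι) (hab : a ≠ b) (F : Type*) [Field F] :
    (ι → F) ≃ (F × F) × ({i : ι // i ≠ a ∧ i ≠ b} → F) where
  toFun v := ((v a, v b), fun i => v i.1)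
  invFun p := fun i => if ha : i = a then p.1.1 else if hb : i = b then p.1.2 else p.2 ⟨i, ha, hb⟩
  left_inv v := by
    funext i
    by_cases ha : i = a
    · simp [ha]
    · by_cases hb : i = b
      · subst hb
        simp [ha]
      · simp [ha, hb]
  right_inv p := by
    rcases p with ⟨⟨x, y⟩, w⟩
    have hba : ¬ b = a := fun h => hab h.symm
    simp only [dite_true, hba, dite_false, Prod.mk.injEq, true_and]
    funext i
    simp [i.2.1, i.2.2]

theorem splitAB_symm_a (a b : ι) (hab : a ≠ b) (p : (F × F) × ({i : ι // i ≠ a ∧ i ≠ b} → F)) :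
    (splitAB a b hab F).symm p a = p.1.1 := by
  simp [splitAB]

theorem splitAB_symm_b (a b : ι) (hab : a ≠ b) (p : (F × F) × ({i : ι // i ≠ a ∧ i ≠ b} → F)) :
    (splitAB a b hab F).symm p b = p.1.2 := by
  have hba : ¬ b = a := fun h => hab h.symm
  simp [splitAB, hba]

theorem splitAB_symm_zero (a b : ι) (hab : a ≠ b) (p : (F × F) × ({i : ι // i ≠ a ∧ i ≠ b} → F)) :
    Function.update (Function.update ((splitAB a b hab F).symm p) a 0) b 0
      = (splitAB a b hab F).symm ((0, 0), p.2) := by
  funext i
  by_cases hb : i = b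
  · subst hb
    have hba : ¬ i = a := fun h => hab h.symm
    simp [splitAB, hba]
  · by_cases ha : i = a
    · subst ha
      simp [splitAB, hb]
    · simp [splitAB, ha, hb]

theorem splitAB_symm_neg (a b : ι) (hab : a ≠ b) (w : {i : ι // i ≠ a ∧ i ≠ b} → F) :
    (splitAB a b hab F).symm ((0, 0), -w) = -((splitAB a b hab F).symm ((0, 0), w)) := by
  funext i
  by_cases ha : i = a
  · simp [splitAB, ha]
  · by_cases hb : i = b
    · simp [splitAB, ha, hb]
    · simp [splitAB, ha, hb]

theorem splitAB_symm_zero' (a b : ι) (hab : a ≠ b) :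
    (splitAB a b hab F).symm ((0, 0), 0) = 0 := by
  funext i
  by_cases ha : i = a
  · simp [splitAB, ha]
  · by_cases hb : i = b
    · simp [splitAB, ha, hb]
    · simp [splitAB, ha, hb]

end Cfsg.Agent.Lib.Helper16
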