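import Mathlib
import Cfsg.Agent.Lib.Helper16.SpinC2

set_option autoImplicit false
set_option linter.unusedSectionVars false
set_option linter.unusedSimpArgs false

namespace Cfsg.Agent.Lib.Helper16

open Matrix

variable {ι : Type} [Fintype ι] [DecidableEq ι] {F : Type*} [Field F] [Fintype F]

theorem card_levelSet_hyp (Q : (ι → F) → F) (a b : ι) (hab : a ≠ b)
    (hQab : ∀ v, Q v = v a * v b + Q (Function.update (Function.update v a 0) b 0)) (c : F) :
    Nat.card (LevelSet Q c) = Fintype.card F *
        Nat.card {w : {i : ι // i ≠ a ∧ i ≠ b} → F // Q ((splitAB a b hab F).symm ((0, 0), w)) = c}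
      + (Fintype.card F - 1) * Nat.card ({i : ι // i ≠ a ∧ i ≠ b} → F) := by
  classical
  let e := splitAB a b hab F
  let R' : ({i : ι // i ≠ a ∧ i ≠ b} → F) → F := fun w => Q (e.symm ((0, 0), w))
  have hQe : ∀ p, Q (e.symm p) = p.1.1 * p.1.2 + R' p.2 := by
    intro p
    rw [hQab (e.symm p), splitAB_symm_a, splitAB_symm_b, splitAB_symm_zero]
  have h1 : Nat.card (LevelSet Q c) =
      Nat.card {p : (F × F) × ({i : ι // i ≠ a ∧ i ≠ b} → F) // p.1.1 * p.1.2 + (R' p.2 - c) = 0} := by
    apply Nat.card_congr
    refine Equiv.subtypeEquiv e ?_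
    intro v
    have := hQe (e v)
    rw [Equiv.symm_apply_apply] at this
    rw [this]
    constructor
    · intro h; linear_combination h
    · intro h; linear_combination h
  rw [h1, Nat.card_eq_fintype_card, zeros_step (fun w => R' w - c), Nat.card_eq_fintype_card,
    Nat.card_eq_fintype_card]
  congr 2
  apply Fintype.card_congr
  refine Equiv.subtypeEquiv (Equiv.refl _) ?_
  intro w
  simp only [Equiv.refl_apply, R', e]
  exact sub_eq_zero

theorem card_levelSet_fixed (Q : (ι → F) → F) (a b : ι) (hab : a ≠ b) (c : F) :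
    Nat.card {v : LevelSet Q c // v.1 a = 0 ∧ v.1 b = 0} =
      Nat.card {w : {i : ι // i ≠ a ∧ i ≠ b} → F // Q ((splitAB a b hab F).symm ((0, 0), w)) = c} := by
  classical
  let e := splitAB a b hab F
  apply Nat.card_congr
  refine
    { toFun := fun v => ⟨(e v.1.1).2, ?_⟩
      invFun := fun w => ⟨⟨e.symm ((0, 0), w.1), w.2⟩, ?_, ?_⟩
      left_inv := ?_
      right_inv := ?_ }
  · have h1 : e v.1.1 = ((0, 0), (e v.1.1).2) := by
      apply Prod.ext
      · apply Prod.ext
        · exact v.2.1
        · exact v.2.2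
      · rfl
    rw [← h1, Equiv.symm_apply_apply]
    exact v.1.2
  · exact splitAB_symm_a a b hab _
  · exact splitAB_symm_b a b hab _
  · intro v
    apply Subtype.ext
    apply Subtype.ext
    have h1 : e v.1.1 = ((0, 0), (e v.1.1).2) := by
      apply Prod.ext
      · apply Prod.ext
        · exact v.2.1
        · exact v.2.2
      · rfl
    show e.symm ((0, 0), (e v.1.1).2) = v.1.1
    rw [← h1, Equiv.symm_apply_apply]
  · intro w
    apply Subtype.ext
    show (e (e.symm ((0, 0), w.1))).2 = w.1
    rw [Equiv.apply_symm_apply]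

end Cfsg.Agent.Lib.Helper16
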