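import Mathlib
import Cfsg.Agent.Lib.Helper16.SpinC3

set_option autoImplicit false
set_option linter.unusedSectionVars false
set_option linter.unusedSimpArgs false

namespace Cfsg.Agent.Lib.Helper16

open Matrix

variable {ι : Type} [Fintype ι] [DecidableEq ι] {F : Type*} [Field F] [Fintype F]

theorem spinSign_hyp (Q : (ι → F) → F) (a b : ι) (hab : a ≠ b)
    (hQab : ∀ v, Q v = v a * v b + Q (Function.update (Function.update v a 0) b 0))
    (hQneg : ∀ v, Q (-v) = Q v) (hQ0 : Q 0 = 0) (c : F) (hc : c ≠ 0)
    (h2 : (2 : F) ≠ 0)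
    (k r : ℕ) (hk : 1 ≤ k) (hr : Odd r) (hq : Fintype.card F - 1 = 2 ^ k * r)
    (lam : F) (hlam : orderOf lam = 2 ^ k)
    (g : ↥(Cfsg.isometryGroup F Q))
    (hg : ((g : Matrix.GeneralLinearGroup ι F) : Matrix ι ι F) =
      Matrix.diagonal (fun i => if i = a then lam else if i = b then lam⁻¹ else 1)) :
    spinSign Q c g = -1 := by
  classical
  have hba : b ≠ a := fun h => hab h.symm
  set d : ι → F := fun i => if i = a then lam else if i = b then lam⁻¹ else 1 with hd
  have hda : d a = lam := by simp [hd]
  have hdb : d b = lam⁻¹ := by simp [hd, hba]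
  have hdo : ∀ i, i ≠ a → i ≠ b → d i = 1 := by
    intro i hia hib
    simp [hd, hia, hib]
  have hlam0 : lam ≠ 0 := by
    rintro rfl
    rw [orderOf_eq_zero_iff.mpr] at hlam
    · exact (pow_pos (by norm_num : 0 < 2) k).ne hlam
    · intro hfin
      obtain ⟨n, hn, hn1⟩ := hfin.exists_pow_eq_one
      rw [zero_pow hn.ne'] at hn1
      exact zero_ne_one hn1
  set σ : Equiv.Perm (LevelSet Q c) := MulAction.toPerm g with hσ
  have hσpow : ∀ (j : ℕ) (v : LevelSet Q c) (i : ι), ((σ ^ j) v).1 i = (d i) ^ j * v.1 i := by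
    intro j
    induction j with
    | zero => intro v i; simp
    | succ j ih =>
      intro v i
      rw [pow_succ', Equiv.Perm.mul_apply]
      have h1 : (σ ((σ ^ j) v)).1 = ((g : Matrix.GeneralLinearGroup ι F) : Matrix ι ι F) *ᵥ ((σ ^ j) v).1 := rfl
      rw [h1, hg, Matrix.mulVec_diagonal, ih, pow_succ]
      ring
  have hlam1 : ∀ j : ℕ, lam ^ j = 1 ↔ 2 ^ k ∣ j := by
    intro j
    rw [← hlam, orderOf_dvd_iff_pow_eq_one]
  have hfix : ∀ v : LevelSet Q c, σ v = v ↔ (v.1 a = 0 ∧ v.1 b = 0) := by
    intro v
    have hne1 : lam ≠ 1 := by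
      intro h1
      have := (hlam1 1).mp (by rw [pow_one, h1])
      have h3 : 2 ^ k ≤ 1 := Nat.le_of_dvd one_pos this
      have h4 : 2 ^ 1 ≤ 2 ^ k := Nat.pow_le_pow_right (by norm_num) hk
      omega
    constructor
    · intro h
      have ha := hσpow 1 v a
      have hb := hσpow 1 v b
      rw [pow_one, h, pow_one, hda] at ha
      rw [pow_one, h, pow_one, hdb] at hb
      constructor
      · by_contra hva
        apply hne1
        have : (lam - 1) * v.1 a = 0 := by rw [sub_mul, one_mul, ← ha, sub_self]
        rcases mul_eq_zero.mp this with h5 | h5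
        · exact sub_eq_zero.mp h5
        · exact absurd h5 hva
      · by_contra hvb
        apply hne1
        have : (lam⁻¹ - 1) * v.1 b = 0 := by rw [sub_mul, one_mul, ← hb, sub_self]
        rcases mul_eq_zero.mp this with h5 | h5
        · have h6 : lam⁻¹ = 1 := sub_eq_zero.mp h5
          rw [inv_eq_one] at h6
          exact h6
        · exact absurd h5 hvb
    · rintro ⟨hva, hvb⟩
      apply Subtype.ext
      funext i
      have := hσpow 1 v i
      rw [pow_one, pow_one] at this
      rw [this]
      by_cases hia : i = a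
      · rw [hia, hva, mul_zero]
      · by_cases hib : i = b
        · rw [hib, hvb, mul_zero]
        · rw [hdo i hia hib, one_mul]
  have hfree : ∀ v : LevelSet Q c, σ v ≠ v → ∀ j : ℕ, (σ ^ j) v = v ↔ 2 ^ k ∣ j := by
    intro v hv j
    rw [← hlam1 j]
    constructor
    · intro h
      have hnz : ¬ (v.1 a = 0 ∧ v.1 b = 0) := fun h0 => hv ((hfix v).mpr h0)
      by_cases hva : v.1 a = 0
      · have hvb : v.1 b ≠ 0 := fun h0 => hnz ⟨hva, h0⟩
        have hb := hσpow j v b
        rw [h, hdb] at hb
        have h5 : (lam⁻¹) ^ j = 1 := by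
          have : ((lam⁻¹) ^ j - 1) * v.1 b = 0 := by rw [sub_mul, one_mul, ← hb, sub_self]
          rcases mul_eq_zero.mp this with h6 | h6
          · exact sub_eq_zero.mp h6
          · exact absurd h6 hvb
        rw [inv_pow, inv_eq_one] at h5
        exact h5
      · have ha := hσpow j v a
        rw [h, hda] at ha
        have : (lam ^ j - 1) * v.1 a = 0 := by rw [sub_mul, one_mul, ← ha, sub_self]
        rcases mul_eq_zero.mp this with h6 | h6
        · exact sub_eq_zero.mp h6
        · exact absurd h6 hva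
    · intro h
      apply Subtype.ext
      funext i
      rw [hσpow j v i]
      by_cases hia : i = a
      · rw [hia, hda, h, one_mul]
      · by_cases hib : i = b
        · rw [hib, hdb, inv_pow, h, inv_one, one_mul]
        · rw [hdo i hia hib, one_pow, one_mul]
  have hct := cycleType_of_free σ (2 ^ k) hfree
  have hpos : 0 < 2 ^ k := pow_pos (by norm_num) k
  have hsign := Equiv.Perm.sign_of_cycleType_eq_replicate hpos hct
  have heven : ¬ Odd (2 ^ k) := by
    rw [Nat.not_odd_iff_even]
    exact (Nat.even_pow' (by omega)).mpr even_two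
  rw [if_neg heven] at hsign
  rw [spinSign_apply, hsign]
  set N := Nat.card {w : {i : ι // i ≠ a ∧ i ≠ b} → F // Q ((splitAB a b hab F).symm ((0, 0), w)) = c} with hN
  have hcardX : Fintype.card (LevelSet Q c) = Fintype.card F * N + (Fintype.card F - 1) * Nat.card ({i : ι // i ≠ a ∧ i ≠ b} → F) := by
    rw [← Nat.card_eq_fintype_card]
    exact card_levelSet_hyp Q a b hab hQab c
  have hcardFix : Fintype.card (Function.fixedPoints σ) = N := by
    rw [← Nat.card_eq_fintype_card, hN, ← card_levelSet_fixed Q a b hab c]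
    apply Nat.card_congr
    refine Equiv.subtypeEquiv (Equiv.refl _) ?_
    intro v
    exact hfix v
  have hNeven : Even N := by
    rw [hN, Nat.card_eq_fintype_card]
    apply even_card_of_involution (fun w => ⟨-w.1, by
      rw [splitAB_symm_neg, hQneg]; exact w.2⟩)
    · intro w
      apply Subtype.ext
      exact neg_neg w.1
    · intro w hw
      have h1 : -w.1 = w.1 := congrArg Subtype.val hw
      have h3 : w.1 = 0 := by
        funext i
        have h1i : -(w.1 i) = w.1 i := congrFun h1 i
        show w.1 i = 0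
        have h4 : (2 : F) * w.1 i = 0 := by linear_combination -h1i
        rcases mul_eq_zero.mp h4 with h5 | h5
        · exact absurd h5 h2
        · exact h5
      have h4 := w.2
      rw [h3, splitAB_symm_zero', hQ0] at h4
      exact hc h4.symm
  have hWodd : Odd (Nat.card ({i : ι // i ≠ a ∧ i ≠ b} → F)) := by
    rw [Nat.card_eq_fintype_card, Fintype.card_fun]
    apply Odd.pow
    have h1 : 1 ≤ Fintype.card F := Fintype.card_pos
    have h3 : Fintype.card F = 2 ^ k * r + 1 := by omega
    rw [h3]
    refine Even.add_one ?_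
    exact Even.mul_right ((Nat.even_pow' (by omega)).mpr even_two) r
  have hcalc : (Fintype.card (LevelSet Q c) - Fintype.card (Function.fixedPoints σ)) / 2 ^ k
      = r * (N + Nat.card ({i : ι // i ≠ a ∧ i ≠ b} → F)) := by
    rw [hcardX, hcardFix]
    have h1 : 1 ≤ Fintype.card F := Fintype.card_pos
    have h3 : Fintype.card F = 2 ^ k * r + 1 := by omega
    have h4 : Fintype.card F * N + (Fintype.card F - 1) * Nat.card ({i : ι // i ≠ a ∧ i ≠ b} → F) - N
        = 2 ^ k * (r * (N + Nat.card ({i : ι // i ≠ a ∧ i ≠ b} → F))) := by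
      rw [hq, h3]
      have : (2 ^ k * r + 1) * N + 2 ^ k * r * Nat.card ({i : ι // i ≠ a ∧ i ≠ b} → F) - N
          = (2 ^ k * r) * N + 2 ^ k * r * Nat.card ({i : ι // i ≠ a ∧ i ≠ b} → F) := by
        rw [add_mul, one_mul]
        omega
      rw [this]
      ring
    rw [h4, Nat.mul_div_cancel_left _ hpos]
  rw [hcalc]
  apply Odd.neg_one_pow
  exact hr.mul (hNeven.add_odd hWodd)

end Cfsg.Agent.Lib.Helper16
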