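import Mathlib
import Cfsg.Agent.Lib.Helper16.SpinC4

set_option autoImplicit false
set_option linter.unusedSectionVars false
set_option linter.unusedSimpArgs false

namespace Cfsg.Agent.Lib.Helper16

open Matrix Cfsg.Agent.Lib.helper6

variable {ι : Type} [Fintype ι] [DecidableEq ι] {F : Type*} [Field F]

noncomputable def bigQ (Q : QuadraticForm F (ι → F)) : QuadraticForm F (ι ⊕ Fin 2 → F) :=
  Q.comp (LinearMap.funLeft F F Sum.inl) +
    QuadraticMap.linMulLin (LinearMap.proj (Sum.inr 0)) (LinearMap.proj (Sum.inr 1))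

theorem bigQ_apply (Q : QuadraticForm F (ι → F)) (v : ι ⊕ Fin 2 → F) :
    bigQ Q v = Q (v ∘ Sum.inl) + v (Sum.inr 0) * v (Sum.inr 1) := by
  simp [bigQ, LinearMap.funLeft]

theorem bigQ_polar (Q : QuadraticForm F (ι → F)) (u x : ι ⊕ Fin 2 → F) :
    QuadraticMap.polar (⇑(bigQ Q)) u x = QuadraticMap.polar (⇑Q) (u ∘ Sum.inl) (x ∘ Sum.inl) +
      (u (Sum.inr 0) * x (Sum.inr 1) + x (Sum.inr 0) * u (Sum.inr 1)) := by
  unfold QuadraticMap.polar
  rw [bigQ_apply, bigQ_apply, bigQ_apply]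
  have : (u + x) ∘ Sum.inl = u ∘ Sum.inl + x ∘ Sum.inl := rfl
  rw [this]
  simp only [Pi.add_apply]
  ring

def hypVec (ι : Type) {F : Type*} [Field F] (p s : F) : ι ⊕ Fin 2 → F :=
  Sum.elim 0 ![p, s]

theorem bigQ_hypVec (Q : QuadraticForm F (ι → F)) (p s : F) : bigQ Q (hypVec ι p s) = p * s := by
  rw [bigQ_apply]
  have : (hypVec ι p s) ∘ Sum.inl = (0 : ι → F) := by
    funext i; simp [hypVec]
  rw [this, map_zero]
  simp [hypVec]

theorem hypRefl_mulVec (Q : QuadraticForm F (ι → F)) (p s : F) (hp : p ≠ 0) (hs : s ≠ 0)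
    (x : ι ⊕ Fin 2 → F) :
    Cfsg.reflectionMatrix ⇑(bigQ Q) (hypVec ι p s) *ᵥ x =
      Sum.elim (x ∘ Sum.inl) ![-(p / s) * x (Sum.inr 1), -(s / p) * x (Sum.inr 0)] := by
  rw [reflectionMatrix_mulVec, bigQ_hypVec, bigQ_polar]
  have h0 : (hypVec ι p s) ∘ Sum.inl = (0 : ι → F) := by
    funext i; simp [hypVec]
  rw [h0, QuadraticMap.polar_zero_left, zero_add]
  funext i
  rcases i with i | j
  · simp [hypVec]
  · fin_cases j
    · simp [hypVec]
      field_simp
      ring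
    · simp [hypVec]
      field_simp
      ring

end Cfsg.Agent.Lib.Helper16
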