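import Mathlib
import Cfsg.Agent.Lib.Helper16.SpinD1

set_option autoImplicit false
set_option linter.unusedSectionVars false
set_option linter.unusedSimpArgs false

namespace Cfsg.Agent.Lib.Helper16

open Matrix Cfsg.Agent.Lib.helper6

variable {ι : Type} [Fintype ι] [DecidableEq ι] {F : Type*} [Field F]

def blkHom (ι : Type) [Fintype ι] [DecidableEq ι] (F : Type*) [Field F] :
    Matrix ι ι F →* Matrix (ι ⊕ Fin 2) (ι ⊕ Fin 2) F where
  toFun M := Matrix.fromBlocks M 0 0 1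
  map_one' := Matrix.fromBlocks_one
  map_mul' A B := by
    rw [Matrix.fromBlocks_multiply]
    simp

theorem blkHom_mulVec (M : Matrix ι ι F) (x : ι ⊕ Fin 2 → F) :
    blkHom ι F M *ᵥ x = Sum.elim (M *ᵥ (x ∘ Sum.inl)) (x ∘ Sum.inr) := by
  show Matrix.fromBlocks M 0 0 1 *ᵥ x = _
  rw [Matrix.fromBlocks_mulVec]
  simp

noncomputable def embO (Q : QuadraticForm F (ι → F)) :
    ↥(Cfsg.isometryGroup F ⇑Q) →* ↥(Cfsg.isometryGroup F ⇑(bigQ Q)) :=
  MonoidHom.codRestrict ((Units.map (blkHom ι F)).comp (Subgroup.subtype _)) _ (by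
    intro g
    rw [mem_iso_iff]
    intro x
    show bigQ Q (blkHom ι F ((g : Matrix.GeneralLinearGroup ι F) : Matrix ι ι F) *ᵥ x) = bigQ Q x
    rw [blkHom_mulVec, bigQ_apply, bigQ_apply]
    simp only [Sum.elim_inr, Function.comp_apply]
    congr 1
    have : (Sum.elim (((g : Matrix.GeneralLinearGroup ι F) : Matrix ι ι F) *ᵥ (x ∘ Sum.inl)) (x ∘ Sum.inr)) ∘ Sum.inl
        = ((g : Matrix.GeneralLinearGroup ι F) : Matrix ι ι F) *ᵥ (x ∘ Sum.inl) := rfl
    rw [this]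
    exact iso_pres (⇑Q) g _)

theorem embO_coe (Q : QuadraticForm F (ι → F)) (g : ↥(Cfsg.isometryGroup F ⇑Q)) :
    ((embO Q g : Matrix.GeneralLinearGroup (ι ⊕ Fin 2) F) : Matrix (ι ⊕ Fin 2) (ι ⊕ Fin 2) F)
      = blkHom ι F ((g : Matrix.GeneralLinearGroup ι F) : Matrix ι ι F) := rfl

theorem bigQ_inl (Q : QuadraticForm F (ι → F)) (u : ι → F) :
    bigQ Q (Sum.elim u 0) = Q u := by
  rw [bigQ_apply]
  simp

theorem embO_refl (Q : QuadraticForm F (ι → F)) (u : ι → F) (hu : Q u ≠ 0)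
    (hu' : bigQ Q (Sum.elim u 0) ≠ 0) :
    embO Q (reflG Q u hu) = reflG (bigQ Q) (Sum.elim u 0) hu' := by
  apply iso_ext'
  rw [embO_coe, reflG_coe, reflG_coe, Matrix.ext_iff_mulVec]
  intro x
  rw [blkHom_mulVec, reflectionMatrix_mulVec, reflectionMatrix_mulVec, bigQ_inl, bigQ_polar]
  funext i
  rcases i with i | j
  · simp
  · simp

end Cfsg.Agent.Lib.Helper16
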