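import Mathlib
import Cfsg.Agent.Lib.Helper16.SpinD2
import Cfsg.Agent.Lib.Helper16.QuadClass

set_option autoImplicit false
set_option linter.unusedSectionVars false
set_option linter.unusedSimpArgs false

namespace Cfsg.Agent.Lib.Helper16

open Matrix Cfsg.Agent.Lib.helper6

variable {ι : Type} [Fintype ι] [DecidableEq ι] {F : Type*} [Field F]

theorem dlam_eq (Q : QuadraticForm F (ι → F)) (lam : F) (hlam : lam ≠ 0) :
    Matrix.diagonal (fun i : ι ⊕ Fin 2 => if i = Sum.inr 0 then lam else if i = Sum.inr 1 then lam⁻¹ else 1)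
      = Cfsg.reflectionMatrix ⇑(bigQ Q) (hypVec ι 1 (-1)) *
        Cfsg.reflectionMatrix ⇑(bigQ Q) (hypVec ι 1 (-lam)) := by
  rw [Matrix.ext_iff_mulVec]
  intro x
  rw [← Matrix.mulVec_mulVec, hypRefl_mulVec Q 1 (-lam) one_ne_zero (neg_ne_zero.mpr hlam),
    hypRefl_mulVec Q 1 (-1) one_ne_zero (neg_ne_zero.mpr one_ne_zero)]
  funext i
  rw [Matrix.mulVec_diagonal]
  rcases i with i | j
  · simp
  · fin_cases j
    · simp
    · simp

theorem bigQ_hQab (Q : QuadraticForm F (ι → F)) (v : ι ⊕ Fin 2 → F) :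
    bigQ Q v = v (Sum.inr 0) * v (Sum.inr 1) +
      bigQ Q (Function.update (Function.update v (Sum.inr 0) 0) (Sum.inr 1) 0) := by
  rw [bigQ_apply, bigQ_apply]
  have h1 : (Function.update (Function.update v (Sum.inr 0) 0) (Sum.inr 1) 0) ∘ Sum.inl = v ∘ Sum.inl := by
    funext i
    simp [Function.update]
  rw [h1]
  simp
  ring

theorem exists_two_part (F : Type*) [Field F] [Fintype F] (h2 : (2 : F) ≠ 0) :
    ∃ (k r : ℕ) (lam : F), 1 ≤ k ∧ Odd r ∧ Fintype.card F - 1 = 2 ^ k * r ∧ orderOf lam = 2 ^ k ∧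
      ¬ IsSquare lam := by
  classical
  have hcard := card_odd_of_two_ne_zero h2
  have hcard1 : 1 < Fintype.card F := Fintype.one_lt_card
  have hne : Fintype.card F - 1 ≠ 0 := by omega
  obtain ⟨k, r, hr, hkr⟩ := Nat.exists_eq_two_pow_mul_odd hne
  have hk : 1 ≤ k := by
    by_contra hk0
    have : k = 0 := by omega
    subst this
    rw [pow_zero, one_mul] at hkr
    obtain ⟨t, ht⟩ := hr
    omega
  obtain ⟨g0, hg0⟩ := IsCyclic.exists_ofOrder_eq_natCard (α := Fˣ)
  have hcardU : Nat.card Fˣ = Fintype.card F - 1 := by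
    rw [Nat.card_eq_fintype_card, Fintype.card_units]
  rw [hcardU, hkr] at hg0
  have hr0 : r ≠ 0 := by
    rintro rfl
    exact (Nat.not_odd_iff_even.mpr (by decide : Even 0)) hr
  have hord : orderOf (g0 ^ r) = 2 ^ k := by
    rw [orderOf_pow_of_dvd hr0 (by rw [hg0]; exact Dvd.intro_left _ rfl), hg0,
      Nat.mul_div_cancel _ (Nat.pos_of_ne_zero hr0)]
  refine ⟨k, r, ((g0 ^ r : Fˣ) : F), hk, hr, hkr, ?_, ?_⟩
  · rw [orderOf_units, hord]
  · rintro ⟨μ, hμ⟩
    have hμ0 : μ ≠ 0 := by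
      rintro rfl
      rw [mul_zero] at hμ
      exact (Units.ne_zero _) hμ
    have h3 : μ ^ (Fintype.card F - 1) = 1 := FiniteField.pow_card_sub_one_eq_one μ hμ0
    have h4 : ((g0 ^ r : Fˣ) : F) ^ (2 ^ (k - 1) * r) = 1 := by
      rw [hμ, ← pow_two, ← pow_mul]
      have : 2 * (2 ^ (k - 1) * r) = 2 ^ k * r := by
        rw [← mul_assoc, ← pow_succ']
        congr 2
        omega
      rw [this, ← hkr, h3]
    have h5 : orderOf ((g0 ^ r : Fˣ) : F) ∣ 2 ^ (k - 1) * r := orderOf_dvd_of_pow_eq_one h4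
    rw [orderOf_units, hord] at h5
    have h6 : 2 ^ k = 2 ^ (k - 1) * 2 := by
      rw [← pow_succ]
      congr 1
      omega
    rw [h6] at h5
    have h7 : 2 ∣ r := (Nat.mul_dvd_mul_iff_left (pow_pos (by norm_num) _)).mp h5
    obtain ⟨t, ht⟩ := hr
    omega

end Cfsg.Agent.Lib.Helper16
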