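import Mathlib
import Cfsg.Agent.Lib.Helper16.SpinD3

set_option autoImplicit false
set_option linter.unusedSectionVars false
set_option linter.unusedSimpArgs false

namespace Cfsg.Agent.Lib.Helper16

open Matrix Cfsg.Agent.Lib.helper6

theorem nonsq_mul_nonsq {F : Type*} [Field F] [Fintype F] {a b : F}
    (hna : ¬ IsSquare a) (hnb : ¬ IsSquare b) : IsSquare (a * b) := by
  classical
  have ha : a ≠ 0 := by rintro rfl; exact hna (IsSquare.zero)
  have hb : b ≠ 0 := by rintro rfl; exact hnb (IsSquare.zero)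
  rw [← quadraticChar_one_iff_isSquare (mul_ne_zero ha hb), map_mul,
    quadraticChar_neg_one_iff_not_isSquare.mpr hna, quadraticChar_neg_one_iff_not_isSquare.mpr hnb]
  norm_num

theorem nonsq_inv {F : Type*} [Field F] {a : F} (hna : ¬ IsSquare a) : ¬ IsSquare a⁻¹ := by
  rintro ⟨s, hs⟩
  apply hna
  refine ⟨s⁻¹, ?_⟩
  rw [← mul_inv, ← hs, inv_inv]

variable {ι : Type} [Fintype ι] [DecidableEq ι] {F : Type*} [Field F] [Fintype F]

theorem exists_spin_char (h2 : (2 : F) ≠ 0) (Q : QuadraticForm F (ι → F)) :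
    ∃ χ : ↥(Cfsg.isometryGroup F ⇑Q) →* ℤˣ, ∀ (u v : ι → F) (hu : Q u ≠ 0) (hv : Q v ≠ 0),
      ¬ IsSquare (Q u * Q v) → χ (reflG Q u hu) * χ (reflG Q v hv) = -1 := by
  classical
  obtain ⟨k, r, lam, hk, hr, hq, hord, hnsq⟩ := exists_two_part F h2
  have hlam0 : lam ≠ 0 := by rintro rfl; exact hnsq IsSquare.zero
  let χ' := spinSign (⇑(bigQ Q)) (1 : F)
  have hw1 : bigQ Q (hypVec ι 1 (-1)) ≠ 0 := by
    rw [bigQ_hypVec]; simp
  have hw2 : bigQ Q (hypVec ι 1 (-lam)) ≠ 0 := by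
    rw [bigQ_hypVec]; simpa using hlam0
  have hkey : χ' (reflG (bigQ Q) _ hw1) * χ' (reflG (bigQ Q) _ hw2) = -1 := by
    rw [← map_mul]
    apply spinSign_hyp (⇑(bigQ Q)) (Sum.inr 0) (Sum.inr 1) (by simp) (bigQ_hQab Q)
      (fun v => QuadraticMap.map_neg _ v) (map_zero _) 1 one_ne_zero h2 k r hk hr hq lam hord
    rw [iso_mul_coe, reflG_coe, reflG_coe, ← dlam_eq Q lam hlam0]
  have hconj : ∀ (x y : ↥(Cfsg.isometryGroup F ⇑(bigQ Q))), IsConj x y → χ' x = χ' y := by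
    intro x y hxy
    obtain ⟨c, hc⟩ := isConj_iff.mp hxy
    rw [← hc, map_mul, map_mul, map_inv, mul_comm, ← mul_assoc, inv_mul_cancel, one_mul]
  refine ⟨χ'.comp (embO Q), ?_⟩
  intro u v hu hv hnsquv
  have hu' : bigQ Q (Sum.elim u 0) ≠ 0 := by rw [bigQ_inl]; exact hu
  have hv' : bigQ Q (Sum.elim v 0) ≠ 0 := by rw [bigQ_inl]; exact hv
  rw [MonoidHom.comp_apply, MonoidHom.comp_apply, embO_refl Q u hu hu', embO_refl Q v hv hv']
  have hclass : ∀ (w : ι → F) (hw : Q w ≠ 0) (hw' : bigQ Q (Sum.elim w 0) ≠ 0),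
      (IsSquare (-(Q w)) → χ' (reflG (bigQ Q) _ hw') = χ' (reflG (bigQ Q) _ hw1)) ∧
      (¬ IsSquare (-(Q w)) → χ' (reflG (bigQ Q) _ hw') = χ' (reflG (bigQ Q) _ hw2)) := by
    intro w hw hw'
    constructor
    · rintro ⟨s, hs⟩
      apply hconj
      apply reflG_isConj_sq h2 (bigQ Q) _ _ hw' hw1 s
      rw [bigQ_inl, bigQ_hypVec]
      linear_combination -hs
    · intro hns
      have h1 : IsSquare (-(Q w) * lam⁻¹) := nonsq_mul_nonsq hns (nonsq_inv hnsq)
      obtain ⟨s, hs⟩ := h1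
      apply hconj
      apply reflG_isConj_sq h2 (bigQ Q) _ _ hw' hw2 s
      rw [bigQ_inl, bigQ_hypVec]
      have : -(Q w) = s * s * lam := by
        rw [← hs, mul_assoc, inv_mul_cancel₀ hlam0, mul_one]
      linear_combination -this
  by_cases hsu : IsSquare (-(Q u))
  · have hsv : ¬ IsSquare (-(Q v)) := by
      intro hsv
      apply hnsquv
      have := hsu.mul hsv
      rwa [neg_mul_neg] at this
    rw [(hclass u hu hu').1 hsu, (hclass v hv hv').2 hsv]
    exact hkey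
  · have hsv : IsSquare (-(Q v)) := by
      by_contra hsv
      apply hnsquv
      have := nonsq_mul_nonsq hsu hsv
      rwa [neg_mul_neg] at this
    rw [(hclass u hu hu').2 hsu, (hclass v hv hv').1 hsv, mul_comm]
    exact hkey

end Cfsg.Agent.Lib.Helper16
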