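import Mathlib
import Cfsg.Agent.Lib.Helper16.SpinD4

set_option autoImplicit false
set_option linter.unusedSectionVars false
set_option linter.unusedSimpArgs false

namespace Cfsg.Agent.Lib.Helper16

open Matrix Cfsg.Agent.Lib.helper6

theorem isSquare_mul_of_sq {F : Type*} [Field F] {a P : F} (ha : IsSquare a) (ha0 : a ≠ 0) :
    IsSquare (a * P) ↔ IsSquare P := by
  obtain ⟨s, hs⟩ := ha
  have hs0 : s ≠ 0 := by rintro rfl; rw [mul_zero] at hs; exact ha0 hs
  constructor
  · rintro ⟨t, ht⟩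
    refine ⟨t / s, ?_⟩
    field_simp
    linear_combination ht - P * hs
  · rintro ⟨t, ht⟩
    exact ⟨s * t, by rw [hs, ht]; ring⟩

theorem isSquare_mul_of_nonsq {F : Type*} [Field F] [Fintype F] {a P : F} (ha : ¬ IsSquare a)
    (hP : P ≠ 0) : IsSquare (a * P) ↔ ¬ IsSquare P := by
  constructor
  · rintro ⟨s, hs⟩ ⟨t, ht⟩
    have ht0 : t ≠ 0 := by rintro rfl; rw [mul_zero] at ht; exact hP ht
    apply ha
    refine ⟨s / t, ?_⟩
    field_simp
    linear_combination hs - a * ht
  · intro hPn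
    exact nonsq_mul_nonsq ha hPn

variable {ι : Type} [Fintype ι] [DecidableEq ι] {F : Type*} [Field F]

open Classical in
noncomputable def reflG' (Q : QuadraticForm F (ι → F)) (v : ι → F) : ↥(Cfsg.isometryGroup F ⇑Q) :=
  if h : Q v ≠ 0 then reflG Q v h else 1

theorem reflG'_eq (Q : QuadraticForm F (ι → F)) (v : ι → F) (h : Q v ≠ 0) :
    reflG' Q v = reflG Q v h := by
  unfold reflG'
  rw [dif_pos h]

theorem prod_reflG'_coe (Q : QuadraticForm F (ι → F)) (vs : List (ι → F)) (hvs : ∀ v ∈ vs, Q v ≠ 0) :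
    ((((vs.map (reflG' Q)).prod : ↥(Cfsg.isometryGroup F ⇑Q)) : Matrix.GeneralLinearGroup ι F) :
      Matrix ι ι F) = (vs.map (fun v => Cfsg.reflectionMatrix ⇑Q v)).prod := by
  induction vs with
  | nil => rfl
  | cons v vs ih =>
    rw [List.map_cons, List.prod_cons, List.map_cons, List.prod_cons, iso_mul_coe,
      ih (fun w hw => hvs w (List.mem_cons_of_mem _ hw)),
      reflG'_eq Q v (hvs v List.mem_cons_self), reflG_coe]

theorem prod_Q_ne_zero (Q : QuadraticForm F (ι → F)) (vs : List (ι → F)) (hvs : ∀ v ∈ vs, Q v ≠ 0) :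
    (vs.map (fun v => Q v)).prod ≠ 0 := by
  induction vs with
  | nil => simp
  | cons v vs ih =>
    rw [List.map_cons, List.prod_cons]
    exact mul_ne_zero (hvs v List.mem_cons_self) (ih (fun w hw => hvs w (List.mem_cons_of_mem _ hw)))

noncomputable def isoDet (Q : (ι → F) → F) : ↥(Cfsg.isometryGroup F Q) →* Fˣ :=
  Matrix.GeneralLinearGroup.det.comp (Subgroup.subtype _)

theorem isoDet_coe (Q : (ι → F) → F) (g : ↥(Cfsg.isometryGroup F Q)) :
    ((isoDet Q g : Fˣ) : F) = ((g : Matrix.GeneralLinearGroup ι F) : Matrix ι ι F).det := rfl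

theorem isoDet_reflG (Q : QuadraticForm F (ι → F)) (v : ι → F) (h : Q v ≠ 0) :
    isoDet (⇑Q) (reflG Q v h) = -1 := by
  apply Units.ext
  rw [isoDet_coe, reflG_coe, refl_det Q v h]
  simp

theorem isoDet_prod (Q : QuadraticForm F (ι → F)) (vs : List (ι → F)) (hvs : ∀ v ∈ vs, Q v ≠ 0) :
    isoDet (⇑Q) (vs.map (reflG' Q)).prod = (-1) ^ vs.length := by
  induction vs with
  | nil => simp
  | cons v vs ih =>
    rw [List.map_cons, List.prod_cons, map_mul, ih (fun w hw => hvs w (List.mem_cons_of_mem _ hw)),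
      reflG'_eq Q v (hvs v List.mem_cons_self), isoDet_reflG, List.length_cons, pow_succ']

end Cfsg.Agent.Lib.Helper16
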