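import Mathlib
import Cfsg.Agent.Lib.Helper16.SpinE1

set_option autoImplicit false
set_option linter.unusedSectionVars false
set_option linter.unusedSimpArgs false

namespace Cfsg.Agent.Lib.Helper16

open Matrix Cfsg.Agent.Lib.helper6

variable {ι : Type} [Fintype ι] [DecidableEq ι] {F : Type*} [Field F] [Fintype F]

open Classical in
noncomputable def sqSign (x : F) : ℤˣ := if IsSquare x then 1 else -1

theorem sqSign_mul {x y : F} (hx : x ≠ 0) (hy : y ≠ 0) : sqSign (x * y) = sqSign x * sqSign y := by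
  classical
  unfold sqSign
  by_cases h1 : IsSquare x
  · rw [if_pos h1, one_mul]
    by_cases h2 : IsSquare y
    · rw [if_pos h2, if_pos ((isSquare_mul_of_sq h1 hx).mpr h2)]
    · rw [if_neg h2, if_neg (fun h => h2 ((isSquare_mul_of_sq h1 hx).mp h))]
  · rw [if_neg h1]
    by_cases h2 : IsSquare y
    · rw [if_pos h2, if_neg (fun h => ((isSquare_mul_of_nonsq h1 hy).mp h) h2)]
      simp
    · rw [if_neg h2, if_pos ((isSquare_mul_of_nonsq h1 hy).mpr h2)]
      simp

theorem spin_char_formula (h2 : (2 : F) ≠ 0) (Q : QuadraticForm F (ι → F)) :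
    ∃ (χ : ↥(Cfsg.isometryGroup F ⇑Q) →* ℤˣ) (κ : ℤˣ), ∀ (v : ι → F) (hv : Q v ≠ 0),
      χ (reflG Q v hv) = κ * sqSign (Q v) := by
  classical
  obtain ⟨χ, hχ⟩ := exists_spin_char h2 Q
  have hsq : ∀ (v : ι → F) (hv : Q v ≠ 0), χ (reflG Q v hv) * χ (reflG Q v hv) = 1 := by
    intro v hv
    rw [← map_mul, reflG_mul_self, map_one]
  have hpair : ∀ (u v : ι → F) (hu : Q u ≠ 0) (hv : Q v ≠ 0),
      χ (reflG Q u hu) * χ (reflG Q v hv) = sqSign (Q u * Q v) := by
    intro u v hu hv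
    by_cases hs : IsSquare (Q u * Q v)
    · unfold sqSign
      rw [if_pos hs]
      obtain ⟨t, ht⟩ := hs
      have hconj : IsConj (reflG Q u hu) (reflG Q v hv) := by
        apply reflG_isConj_sq h2 Q u v hu hv (t / Q v)
        field_simp
        linear_combination ht
      obtain ⟨c, hc⟩ := isConj_iff.mp hconj
      have : χ (reflG Q u hu) = χ (reflG Q v hv) := by
        rw [← hc, map_mul, map_mul, map_inv, mul_comm, ← mul_assoc, inv_mul_cancel, one_mul]
      rw [this, hsq]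
    · unfold sqSign
      rw [if_neg hs]
      exact hχ u v hu hv hs
  refine ⟨χ, ?_⟩
  by_cases hex : ∃ v₀ : ι → F, Q v₀ ≠ 0
  · obtain ⟨v₀, hv₀⟩ := hex
    refine ⟨χ (reflG Q v₀ hv₀) * sqSign (Q v₀), ?_⟩
    intro v hv
    have h1 := hpair v v₀ hv hv₀
    rw [sqSign_mul hv hv₀] at h1
    calc χ (reflG Q v hv) = χ (reflG Q v hv) * (χ (reflG Q v₀ hv₀) * χ (reflG Q v₀ hv₀)) := by
          rw [hsq, mul_one]
      _ = (χ (reflG Q v hv) * χ (reflG Q v₀ hv₀)) * χ (reflG Q v₀ hv₀) := by rw [mul_assoc]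
      _ = χ (reflG Q v₀ hv₀) * sqSign (Q v₀) * sqSign (Q v) := by
          rw [h1]
          rw [mul_comm (sqSign (Q v)), mul_comm _ (χ (reflG Q v₀ hv₀)), mul_assoc]
  · refine ⟨1, ?_⟩
    intro v hv
    exact absurd ⟨v, hv⟩ hex

theorem int_units_sq (κ : ℤˣ) : κ * κ = 1 := Int.units_mul_self κ

theorem master_forward (h2 : (2 : F) ≠ 0) (Q : QuadraticForm F (ι → F))
    (vs : List (ι → F)) (hvs : ∀ v ∈ vs, Q v ≠ 0)
    (hmem : (vs.map (reflG' Q)).prod ∈ Cfsg.Omega F ⇑Q) :
    Even vs.length ∧ IsSquare (vs.map (fun v => Q v)).prod := by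
  classical
  have heven : Even vs.length := by
    have h1 : isoDet (⇑Q) (vs.map (reflG' Q)).prod = 1 :=
      MonoidHom.mem_ker.mp (omega_le_ker (⇑Q) (isoDet (⇑Q)) hmem)
    rw [isoDet_prod Q vs hvs] at h1
    have hne : (-1 : Fˣ) ≠ 1 := by
      intro h
      have h3 := congrArg Units.val h
      simp only [Units.val_neg, Units.val_one] at h3
      apply h2
      linear_combination -h3
    exact (neg_one_pow_eq_one_iff_even hne).mp h1
  refine ⟨heven, ?_⟩
  obtain ⟨χ, κ, hχ⟩ := spin_char_formula h2 Q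
  have hprod : ∀ (ws : List (ι → F)), (∀ v ∈ ws, Q v ≠ 0) →
      χ (ws.map (reflG' Q)).prod = κ ^ ws.length * sqSign (ws.map (fun v => Q v)).prod := by
    intro ws
    induction ws with
    | nil =>
      intro _
      simp [sqSign]
    | cons v ws ih =>
      intro hws
      have hv := hws v List.mem_cons_self
      have hws' : ∀ w ∈ ws, Q w ≠ 0 := fun w hw => hws w (List.mem_cons_of_mem _ hw)
      rw [List.map_cons, List.prod_cons, map_mul, ih hws', reflG'_eq Q v hv, hχ v hv,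
        List.map_cons, List.prod_cons, sqSign_mul hv (prod_Q_ne_zero Q ws hws'), List.length_cons,
        pow_succ]
      rw [mul_mul_mul_comm, mul_comm κ]
  have h1 : χ (vs.map (reflG' Q)).prod = 1 :=
    MonoidHom.mem_ker.mp (omega_le_ker (⇑Q) χ hmem)
  rw [hprod vs hvs] at h1
  obtain ⟨m, hm⟩ := heven
  have hκ : κ ^ vs.length = 1 := by
    rw [hm, ← two_mul, pow_mul, pow_two, int_units_sq, one_pow]
  rw [hκ, one_mul] at h1
  unfold sqSign at h1
  by_contra hns
  rw [if_neg hns] at h1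
  exact absurd h1 (by decide)

end Cfsg.Agent.Lib.Helper16
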