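import Mathlib
import Cfsg.Agent.Lib.Helper16.SpinE2

set_option autoImplicit false
set_option linter.unusedSectionVars false
set_option linter.unusedSimpArgs false

namespace Cfsg.Agent.Lib.Helper16

open Matrix Cfsg.Agent.Lib.helper6

variable {ι : Type} [Fintype ι] [DecidableEq ι] {F : Type*} [Field F] [Fintype F]

theorem master_backward (h2 : (2 : F) ≠ 0) (Q : QuadraticForm F (ι → F))
    (vs : List (ι → F)) (hvs : ∀ v ∈ vs, Q v ≠ 0)
    (heven : Even vs.length) (hsq : IsSquare (vs.map (fun v => Q v)).prod) :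
    (vs.map (reflG' Q)).prod ∈ Cfsg.Omega F ⇑Q := by
  classical
  let π : ↥(Cfsg.isometryGroup F ⇑Q) →* Abelianization ↥(Cfsg.isometryGroup F ⇑Q) := Abelianization.of
  have hker : Cfsg.Omega F ⇑Q = π.ker := (Abelianization.ker_of _).symm
  rw [hker, MonoidHom.mem_ker]
  have hπsq : ∀ (v : ι → F) (hv : Q v ≠ 0), π (reflG Q v hv) * π (reflG Q v hv) = 1 := by
    intro v hv
    rw [← map_mul, reflG_mul_self, map_one]
  have hπconj : ∀ (u v : ι → F) (hu : Q u ≠ 0) (hv : Q v ≠ 0), IsSquare (Q u * Q v) →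
      π (reflG Q u hu) = π (reflG Q v hv) := by
    intro u v hu hv hs
    obtain ⟨t, ht⟩ := hs
    have hconj : IsConj (reflG Q u hu) (reflG Q v hv) := by
      apply reflG_isConj_sq h2 Q u v hu hv (t / Q v)
      field_simp
      linear_combination ht
    obtain ⟨c, hc⟩ := isConj_iff.mp hconj
    rw [← hc, map_mul, map_mul, map_inv, mul_comm, ← mul_assoc, inv_mul_cancel, one_mul]
  obtain ⟨A, hA2, hA⟩ : ∃ A : Abelianization ↥(Cfsg.isometryGroup F ⇑Q), A * A = 1 ∧
      ∀ (v : ι → F) (hv : Q v ≠ 0), IsSquare (Q v) → π (reflG Q v hv) = A := by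
    by_cases hex : ∃ v₀ : ι → F, Q v₀ ≠ 0 ∧ IsSquare (Q v₀)
    · obtain ⟨v₀, hv₀, hs₀⟩ := hex
      refine ⟨π (reflG Q v₀ hv₀), hπsq v₀ hv₀, ?_⟩
      intro v hv hs
      exact hπconj v v₀ hv hv₀ (hs.mul hs₀)
    · refine ⟨1, one_mul 1, ?_⟩
      intro v hv hs
      exact absurd ⟨v, hv, hs⟩ hex
  obtain ⟨B, hB2, hB⟩ : ∃ B : Abelianization ↥(Cfsg.isometryGroup F ⇑Q), B * B = 1 ∧
      ∀ (v : ι → F) (hv : Q v ≠ 0), ¬ IsSquare (Q v) → π (reflG Q v hv) = B := by
    by_cases hex : ∃ v₀ : ι → F, Q v₀ ≠ 0 ∧ ¬ IsSquare (Q v₀)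
    · obtain ⟨v₀, hv₀, hs₀⟩ := hex
      refine ⟨π (reflG Q v₀ hv₀), hπsq v₀ hv₀, ?_⟩
      intro v hv hs
      exact hπconj v v₀ hv hv₀ (nonsq_mul_nonsq hs hs₀)
    · refine ⟨1, one_mul 1, ?_⟩
      intro v hv hs
      exact absurd ⟨v, hv, hs⟩ hex
  have hprod : ∀ (ws : List (ι → F)), (∀ v ∈ ws, Q v ≠ 0) →
      ∃ x y : ℕ, x + y = ws.length ∧ π (ws.map (reflG' Q)).prod = A ^ x * B ^ y ∧
        (IsSquare (ws.map (fun v => Q v)).prod ↔ Even y) := by
    intro ws
    induction ws with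
    | nil =>
      intro _
      exact ⟨0, 0, rfl, by simp, by simp⟩
    | cons v ws ih =>
      intro hws
      have hv := hws v List.mem_cons_self
      have hws' : ∀ w ∈ ws, Q w ≠ 0 := fun w hw => hws w (List.mem_cons_of_mem _ hw)
      obtain ⟨x, y, hxy, hp, hiff⟩ := ih hws'
      by_cases hs : IsSquare (Q v)
      · refine ⟨x + 1, y, by rw [List.length_cons]; omega, ?_, ?_⟩
        · rw [List.map_cons, List.prod_cons, map_mul, hp, reflG'_eq Q v hv, hA v hv hs, pow_succ']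
          rw [mul_assoc]
        · rw [List.map_cons, List.prod_cons, isSquare_mul_of_sq hs hv]
          exact hiff
      · refine ⟨x, y + 1, by rw [List.length_cons]; omega, ?_, ?_⟩
        · rw [List.map_cons, List.prod_cons, map_mul, hp, reflG'_eq Q v hv, hB v hv hs, pow_succ']
          rw [mul_left_comm]
        · rw [List.map_cons, List.prod_cons, isSquare_mul_of_nonsq hs (prod_Q_ne_zero Q ws hws'),
            hiff, Nat.even_add_one]
  obtain ⟨x, y, hxy, hp, hiff⟩ := hprod vs hvs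
  have hy : Even y := hiff.mp hsq
  have hx : Even x := by
    rw [← hxy] at heven
    exact (Nat.even_add.mp heven).mpr hy
  obtain ⟨x', rfl⟩ := hx
  obtain ⟨y', rfl⟩ := hy
  rw [hp, ← two_mul, ← two_mul, pow_mul, pow_mul, pow_two, pow_two, hA2, hB2, one_pow, one_pow, one_mul]

theorem master (h2 : (2 : F) ≠ 0) (Q : QuadraticForm F (ι → F))
    (g : ↥(Cfsg.isometryGroup F ⇑Q)) (vs : List (ι → F)) (hvs : ∀ v ∈ vs, Q v ≠ 0)
    (hg : ((g : Matrix.GeneralLinearGroup ι F) : Matrix ι ι F) =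
      (vs.map (fun v => Cfsg.reflectionMatrix ⇑Q v)).prod) :
    g ∈ Cfsg.Omega F ⇑Q ↔ (Even vs.length ∧ IsSquare (vs.map (fun v => Q v)).prod) := by
  have hgeq : g = (vs.map (reflG' Q)).prod := by
    apply iso_ext'
    rw [hg, prod_reflG'_coe Q vs hvs]
  rw [hgeq]
  constructor
  · exact master_forward h2 Q vs hvs
  · rintro ⟨h1, h3⟩
    exact master_backward h2 Q vs hvs h1 h3

end Cfsg.Agent.Lib.Helper16
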