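import Mathlib
import Cfsg.Agent.Lib.Helper16.SpinF1

set_option autoImplicit false
set_option linter.unusedSectionVars false
set_option linter.unusedSimpArgs false

namespace Cfsg.Agent.Lib.Helper16

open Matrix Cfsg.Agent.Lib.helper6

variable {ι : Type} [Fintype ι] [DecidableEq ι] {F : Type*} [Field F]

theorem negPairs_list (Q : QuadraticForm F (ι → F)) {m : ℕ} (pa pb : Fin m → ι)
    (hab : ∀ j, pa j ≠ pb j)
    (hpa : ∀ j x, QuadraticMap.polar (⇑Q) (Pi.single (pa j) 1) x = x (pb j))
    (hpb : ∀ j x, QuadraticMap.polar (⇑Q) (Pi.single (pb j) 1) x = x (pa j))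
    (hQa : ∀ j, Q (Pi.single (pa j) 1) = 0) (hQb : ∀ j, Q (Pi.single (pb j) 1) = 0)
    (idx : ι → ℕ) (hia : ∀ j, idx (pa j) = j) (hib : ∀ j, idx (pb j) = j) :
    ∀ i : ℕ, i ≤ m → ∃ vs : List (ι → F), (∀ v ∈ vs, Q v ≠ 0) ∧ vs.length = 2 * i ∧
      (vs.map (fun v => Q v)).prod = (-1) ^ i ∧
      (vs.map (fun v => Cfsg.reflectionMatrix ⇑Q v)).prod =
        Matrix.diagonal (fun k => if ∃ j : Fin m, (j : ℕ) < i ∧ (k = pa j ∨ k = pb j)
          then (-1 : F) else 1) := by
  classical
  intro i
  induction i with
  | zero =>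
    intro _
    refine ⟨[], by simp, rfl, by simp, ?_⟩
    simp
  | succ i ih =>
    intro hi
    obtain ⟨vs, hvs, hlen, hprod, hmat⟩ := ih (by omega)
    let j0 : Fin m := ⟨i, by omega⟩
    obtain ⟨h1, h2, h3⟩ := negPair Q (pa j0) (pb j0) (hab j0) (hpa j0) (hpb j0) (hQa j0) (hQb j0)
    refine ⟨vs ++ [Pi.single (pa j0) 1 - Pi.single (pb j0) 1, Pi.single (pa j0) 1 + Pi.single (pb j0) 1],
      ?_, ?_, ?_, ?_⟩
    · intro v hv
      rw [List.mem_append] at hv
      rcases hv with hv | hv
      · exact hvs v hv
      · simp only [List.mem_cons, List.not_mem_nil, or_false] at hv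
        rcases hv with rfl | rfl
        · rw [h1]; simp
        · rw [h2]; simp
    · rw [List.length_append, hlen]
      simp
      ring
    · rw [List.map_append, List.prod_append, hprod]
      simp only [List.map_cons, List.map_nil, List.prod_cons, List.prod_nil, mul_one]
      rw [h1, h2, pow_succ]
      ring
    · rw [List.map_append, List.prod_append, hmat]
      simp only [List.map_cons, List.map_nil, List.prod_cons, List.prod_nil, mul_one]
      rw [h3, Matrix.diagonal_mul_diagonal]
      congr 1
      funext k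
      by_cases hk : k = pa j0 ∨ k = pb j0
      · rw [if_pos hk]
        have hidx : idx k = i := by
          rcases hk with rfl | rfl
          · rw [hia]
          · rw [hib]
        have hnot : ¬ ∃ j : Fin m, (j : ℕ) < i ∧ (k = pa j ∨ k = pb j) := by
          rintro ⟨j, hj, hkj⟩
          have : idx k = j := by
            rcases hkj with rfl | rfl
            · rw [hia]
            · rw [hib]
          omega
        have hyes : ∃ j : Fin m, (j : ℕ) < i + 1 ∧ (k = pa j ∨ k = pb j) := ⟨j0, by simp [j0], hk⟩
        rw [if_neg hnot, if_pos hyes]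
        ring
      · rw [if_neg hk, mul_one]
        have hiff : (∃ j : Fin m, (j : ℕ) < i ∧ (k = pa j ∨ k = pb j)) ↔
            (∃ j : Fin m, (j : ℕ) < i + 1 ∧ (k = pa j ∨ k = pb j)) := by
          constructor
          · rintro ⟨j, hj, hkj⟩
            exact ⟨j, by omega, hkj⟩
          · rintro ⟨j, hj, hkj⟩
            refine ⟨j, ?_, hkj⟩
            by_contra hcon
            have hji : (j : ℕ) = i := by omega
            have : j = j0 := Fin.ext hji
            rw [this] at hkj
            exact hk hkj
        by_cases hex : ∃ j : Fin m, (j : ℕ) < i ∧ (k = pa j ∨ k = pb j)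
        · rw [if_pos hex, if_pos (hiff.mp hex)]
        · rw [if_neg hex, if_neg (fun h => hex (hiff.mpr h))]

end Cfsg.Agent.Lib.Helper16
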