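import Mathlib
import Cfsg.Agent.Lib.Helper16.SpinF2

set_option autoImplicit false
set_option linter.unusedSectionVars false
set_option linter.unusedSimpArgs false

namespace Cfsg.Agent.Lib.Helper16

open Matrix Cfsg.Agent.Lib.helper6

theorem odd_pow_mod_four (q i : ℕ) (hq : Odd q) :
    q ^ i % 4 = 1 ↔ (Even i ∨ q % 4 = 1) := by
  have hq4 : q % 4 = 1 ∨ q % 4 = 3 := by
    obtain ⟨t, rfl⟩ := hq
    omega
  have hsq : q ^ 2 % 4 = 1 := by
    rw [Nat.pow_mod]
    rcases hq4 with h | h <;> rw [h]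
  rcases Nat.even_or_odd i with he | ho
  · obtain ⟨k, rfl⟩ := he
    have : q ^ (k + k) % 4 = 1 := by
      rw [← two_mul, pow_mul, Nat.pow_mod, hsq]
      simp
    simp [this]
  · obtain ⟨k, rfl⟩ := ho
    have h1 : q ^ (2 * k + 1) % 4 = q % 4 := by
      rw [pow_succ, pow_mul, Nat.mul_mod, Nat.pow_mod, hsq]
      simp
    rw [h1]
    constructor
    · intro h; right; exact h
    · rintro (h | h)
      · exact absurd h (by rw [Nat.not_even_iff_odd]; exact ⟨k, rfl⟩)
      · exact h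

theorem neg_one_pow_isSquare_iff {F : Type*} [Field F] [Fintype F] {q : ℕ}
    (hF : Fintype.card F = q) (hq : Odd q) (i : ℕ) :
    IsSquare ((-1 : F) ^ i) ↔ q ^ i % 4 = 1 := by
  rw [odd_pow_mod_four q i hq]
  rcases Nat.even_or_odd i with he | ho
  · rw [he.neg_one_pow]
    simp [he]
  · rw [ho.neg_one_pow, FiniteField.isSquare_neg_one_iff, hF]
    have hq4 : q % 4 = 1 ∨ q % 4 = 3 := by
      obtain ⟨t, rfl⟩ := hq
      omega
    have hne : ¬ Even i := by rw [Nat.not_even_iff_odd]; exact ho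
    constructor
    · intro h
      right
      rcases hq4 with h1 | h1
      · exact h1
      · exact absurd h1 h
    · rintro (h | h)
      · exact absurd h hne
      · rw [h]; decide

variable {ι : Type} [Fintype ι] [DecidableEq ι] {F : Type*} [Field F] [Fintype F]

theorem negPairs_iff (h2 : (2 : F) ≠ 0) (Q : QuadraticForm F (ι → F)) {m : ℕ} (pa pb : Fin m → ι)
    (hab : ∀ j, pa j ≠ pb j)
    (hpa : ∀ j x, QuadraticMap.polar (⇑Q) (Pi.single (pa j) 1) x = x (pb j))
    (hpb : ∀ j x, QuadraticMap.polar (⇑Q) (Pi.single (pb j) 1) x = x (pa j))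
    (hQa : ∀ j, Q (Pi.single (pa j) 1) = 0) (hQb : ∀ j, Q (Pi.single (pb j) 1) = 0)
    (idx : ι → ℕ) (hia : ∀ j, idx (pa j) = j) (hib : ∀ j, idx (pb j) = j)
    (i : ℕ) (hi : i ≤ m) (hidx : ∀ k, idx k < i → ∃ j : Fin m, k = pa j ∨ k = pb j) :
    (∃ g : ↥(Cfsg.isometryGroup F ⇑Q), g ∈ Cfsg.Omega F ⇑Q ∧
      ((g : Matrix.GeneralLinearGroup ι F) : Matrix ι ι F) =
        Matrix.diagonal (fun k => if idx k < i then (-1 : F) else 1)) ↔ IsSquare ((-1 : F) ^ i) := by
  classical
  obtain ⟨vs, hvs, hlen, hprod, hmat⟩ := negPairs_list Q pa pb hab hpa hpb hQa hQb idx hia hib i hi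
  have hdiag : (fun k => if idx k < i then (-1 : F) else 1) =
      (fun k => if ∃ j : Fin m, (j : ℕ) < i ∧ (k = pa j ∨ k = pb j) then (-1 : F) else 1) := by
    funext k
    have hiff : idx k < i ↔ ∃ j : Fin m, (j : ℕ) < i ∧ (k = pa j ∨ k = pb j) := by
      constructor
      · intro h
        obtain ⟨j, hj⟩ := hidx k h
        refine ⟨j, ?_, hj⟩
        rcases hj with rfl | rfl
        · rw [hia] at h; exact h
        · rw [hib] at h; exact h
      · rintro ⟨j, hj, hkj⟩
        rcases hkj with rfl | rfl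
        · rw [hia]; exact hj
        · rw [hib]; exact hj
    by_cases h : idx k < i
    · rw [if_pos h, if_pos (hiff.mp h)]
    · rw [if_neg h, if_neg (fun h' => h (hiff.mpr h'))]
  rw [hdiag, ← hmat]
  have hevenlen : Even vs.length := by rw [hlen]; exact even_two_mul i
  constructor
  · rintro ⟨g, hgΩ, hg⟩
    have := (master h2 Q g vs hvs hg).mp hgΩ
    rw [hprod] at this
    exact this.2
  · intro hsq
    refine ⟨(vs.map (reflG' Q)).prod, ?_, prod_reflG'_coe Q vs hvs⟩
    apply master_backward h2 Q vs hvs hevenlen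
    rw [hprod]
    exact hsq

end Cfsg.Agent.Lib.Helper16
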