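import Mathlib
import Cfsg.Agent.Lib.Helper16.SpinF3

set_option autoImplicit false
set_option linter.unusedSectionVars false
set_option linter.unusedSimpArgs false

namespace Cfsg.Agent.Lib.Helper16

open Matrix

def qfOfEq {F M : Type*} [Field F] [AddCommGroup M] [Module F M] (E : QuadraticForm F M) (f : M → F)
    (h : ∀ v, E v = f v) : QuadraticForm F M where
  toFun := f
  toFun_smul a x := by rw [← h, ← h, QuadraticMap.map_smul]
  exists_companion' := ⟨E.exists_companion.choose, fun x y => by
    rw [← h, ← h, ← h]; exact E.exists_companion.choose_spec x y⟩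

theorem qfOfEq_coe {F M : Type*} [Field F] [AddCommGroup M] [Module F M] (E : QuadraticForm F M)
    (f : M → F) (h : ∀ v, E v = f v) : ⇑(qfOfEq E f h) = f := rfl

noncomputable def qfPlus (m : ℕ) (F : Type*) [Field F] : QuadraticForm F (Fin m ⊕ Fin m → F) :=
  qfOfEq (∑ i : Fin m, QuadraticMap.linMulLin (LinearMap.proj (Sum.inl i)) (LinearMap.proj (Sum.inr i)))
    (Cfsg.quadFormPlus m F) (by
      intro v
      simp [Cfsg.quadFormPlus, _root_.sum_apply])

theorem qfPlus_coe (m : ℕ) (F : Type*) [Field F] : ⇑(qfPlus m F) = Cfsg.quadFormPlus m F := rfl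

theorem polar_plus (m : ℕ) (F : Type*) [Field F] (u x : Fin m ⊕ Fin m → F) :
    QuadraticMap.polar (Cfsg.quadFormPlus m F) u x =
      ∑ i : Fin m, (u (Sum.inl i) * x (Sum.inr i) + x (Sum.inl i) * u (Sum.inr i)) := by
  unfold QuadraticMap.polar Cfsg.quadFormPlus
  rw [← Finset.sum_sub_distrib, ← Finset.sum_sub_distrib]
  apply Finset.sum_congr rfl
  intro i _
  simp only [Pi.add_apply]
  ring

end Cfsg.Agent.Lib.Helper16
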