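import Mathlib
import Cfsg.Agent.Lib.Helper16.SpinG

set_option autoImplicit false
set_option linter.unusedSectionVars false
set_option linter.unusedSimpArgs false

namespace Cfsg.Agent.Lib.Helper16

open Matrix

noncomputable def qfOdd (m : ℕ) (F : Type*) [Field F] : QuadraticForm F (Unit ⊕ (Fin m ⊕ Fin m) → F) :=
  qfOfEq (QuadraticMap.sq.comp (LinearMap.proj (Sum.inl ())) +
      ∑ i : Fin m, QuadraticMap.linMulLin (LinearMap.proj (Sum.inr (Sum.inl i)))
        (LinearMap.proj (Sum.inr (Sum.inr i))))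
    (Cfsg.quadFormOdd m F) (by
      intro v
      simp [Cfsg.quadFormOdd, _root_.sum_apply, pow_two])

theorem qfOdd_coe (m : ℕ) (F : Type*) [Field F] : ⇑(qfOdd m F) = Cfsg.quadFormOdd m F := rfl

theorem polar_odd (m : ℕ) (F : Type*) [Field F] (u x : Unit ⊕ (Fin m ⊕ Fin m) → F) :
    QuadraticMap.polar (Cfsg.quadFormOdd m F) u x =
      2 * u (Sum.inl ()) * x (Sum.inl ()) +
      ∑ i : Fin m, (u (Sum.inr (Sum.inl i)) * x (Sum.inr (Sum.inr i)) +
        x (Sum.inr (Sum.inl i)) * u (Sum.inr (Sum.inr i))) := by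
  unfold QuadraticMap.polar Cfsg.quadFormOdd
  have : ∀ (A B C a b c : F), (A + a) - (B + b) - (C + c) = (A - B - C) + (a - b - c) := by
    intro A B C a b c; ring
  rw [this, ← Finset.sum_sub_distrib, ← Finset.sum_sub_distrib]
  congr 1
  · simp only [Pi.add_apply]
    ring
  · apply Finset.sum_congr rfl
    intro i _
    simp only [Pi.add_apply]
    ring

noncomputable def qfMinus (m : ℕ) (F : Type*) [Field F] (a b : F) :
    QuadraticForm F ((Fin m ⊕ Fin m) ⊕ Fin 2 → F) :=
  qfOfEq ((∑ i : Fin m, QuadraticMap.linMulLin (LinearMap.proj (Sum.inl (Sum.inl i)))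
        (LinearMap.proj (Sum.inl (Sum.inr i)))) +
      (QuadraticMap.sq.comp (LinearMap.proj (Sum.inr 0)) +
        a • QuadraticMap.linMulLin (LinearMap.proj (Sum.inr 0)) (LinearMap.proj (Sum.inr 1)) +
        b • QuadraticMap.sq.comp (LinearMap.proj (Sum.inr 1))))
    (Cfsg.quadFormMinus m F a b) (by
      intro v
      simp [Cfsg.quadFormMinus, _root_.sum_apply, pow_two]
      ring)

theorem qfMinus_coe (m : ℕ) (F : Type*) [Field F] (a b : F) :
    ⇑(qfMinus m F a b) = Cfsg.quadFormMinus m F a b := rfl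

theorem polar_minus' (m : ℕ) (F : Type*) [Field F] (a b : F) (u x : (Fin m ⊕ Fin m) ⊕ Fin 2 → F) :
    QuadraticMap.polar (Cfsg.quadFormMinus m F a b) u x =
      ∑ i : Fin m, (u (Sum.inl (Sum.inl i)) * x (Sum.inl (Sum.inr i)) +
        x (Sum.inl (Sum.inl i)) * u (Sum.inl (Sum.inr i))) +
      (2 * u (Sum.inr 0) * x (Sum.inr 0) + a * (u (Sum.inr 0) * x (Sum.inr 1) + x (Sum.inr 0) * u (Sum.inr 1))
        + 2 * b * u (Sum.inr 1) * x (Sum.inr 1)) := by
  unfold QuadraticMap.polar Cfsg.quadFormMinus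
  have : ∀ (A B C a b c : F), (A + a) - (B + b) - (C + c) = (A - B - C) + (a - b - c) := by
    intro A B C a b c; ring
  rw [this, ← Finset.sum_sub_distrib, ← Finset.sum_sub_distrib]
  congr 1
  · apply Finset.sum_congr rfl
    intro i _
    simp only [Pi.add_apply]
    ring
  · simp only [Pi.add_apply]
    ring

end Cfsg.Agent.Lib.Helper16
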