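import Cfsg.Agent.Lib.Helper16.QuadClass
set_option autoImplicit false

namespace Cfsg.Agent.Lib.Helper16

open Module

universe u v

section
variable {F : Type u} [Field F] {V : Type v} [AddCommGroup V] [Module F V]

theorem quad_add (Q : QuadraticForm F V) (x y : V) : Q (x + y) = Q x + Q y + QuadraticMap.polar ⇑Q x y := by
  unfold QuadraticMap.polar
  ring

theorem polar_self' (Q : QuadraticForm F V) (x : V) : QuadraticMap.polar ⇑Q x x = 2 * Q x := by
  rw [QuadraticMap.polar_self, two_nsmul, two_mul]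

theorem polarBilin_comp_subtype (Q : QuadraticForm F V) (W : Submodule F V) (a b : W) :
    QuadraticMap.polarBilin (Q.comp W.subtype) a b = QuadraticMap.polarBilin Q (a : V) (b : V) := by
  simp only [QuadraticMap.polarBilin_apply_apply]
  unfold QuadraticMap.polar
  simp only [QuadraticMap.comp_apply, Submodule.subtype_apply, Submodule.coe_add]

theorem polar_comp_subtype (Q : QuadraticForm F V) (W : Submodule F V) (a b : W) :
    QuadraticMap.polar ⇑(Q.comp W.subtype) a b = QuadraticMap.polar ⇑Q (a : V) (b : V) := by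
  have := polarBilin_comp_subtype Q W a b
  rwa [QuadraticMap.polarBilin_apply_apply, QuadraticMap.polarBilin_apply_apply] at this

theorem hyp_pair (Q : QuadraticForm F V) (hQ : (QuadraticMap.polarBilin Q).Nondegenerate) {e : V} (he : e ≠ 0)
    (hQe : Q e = 0) : ∃ f : V, Q f = 0 ∧ QuadraticMap.polar ⇑Q e f = 1 := by
  have : ∃ f₀ : V, QuadraticMap.polarBilin Q e f₀ ≠ 0 := by
    by_contra hcon
    push Not at hcon
    exact he (hQ.1 e hcon)
  obtain ⟨f₀, hf₀⟩ := this
  rw [QuadraticMap.polarBilin_apply_apply] at hf₀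
  obtain ⟨f₁, h1⟩ : ∃ f₁ : V, QuadraticMap.polar ⇑Q e f₁ = 1 := by
    refine ⟨(QuadraticMap.polar ⇑Q e f₀)⁻¹ • f₀, ?_⟩
    rw [QuadraticMap.polar_smul_right, smul_eq_mul, inv_mul_cancel₀ hf₀]
  have h2 : QuadraticMap.polar ⇑Q f₁ e = 1 := by rw [QuadraticMap.polar_comm, h1]
  refine ⟨f₁ + (- Q f₁) • e, ?_, ?_⟩
  · rw [quad_add, QuadraticMap.map_smul, hQe, QuadraticMap.polar_smul_right, h2]
    simp
  · rw [QuadraticMap.polar_add_right, QuadraticMap.polar_smul_right, polar_self', hQe, h1]
    simp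

noncomputable def perp2 (Q : QuadraticForm F V) (e f : V) : Submodule F V :=
  LinearMap.ker ((QuadraticMap.polarBilin Q e).prod (QuadraticMap.polarBilin Q f))

theorem polar_prod_apply (Q : QuadraticForm F V) (e f v : V) :
    ((QuadraticMap.polarBilin Q e).prod (QuadraticMap.polarBilin Q f)) v =
      (QuadraticMap.polar ⇑Q e v, QuadraticMap.polar ⇑Q f v) := rfl

theorem mem_perp2 (Q : QuadraticForm F V) (e f v : V) :
    v ∈ perp2 Q e f ↔ QuadraticMap.polar ⇑Q e v = 0 ∧ QuadraticMap.polar ⇑Q f v = 0 := by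
  unfold perp2
  rw [LinearMap.mem_ker, polar_prod_apply, Prod.mk_eq_zero]

theorem finrank_perp2 [FiniteDimensional F V] (Q : QuadraticForm F V) {e f : V} (hQe : Q e = 0) (hQf : Q f = 0)
    (hef : QuadraticMap.polar ⇑Q e f = 1) : finrank F (perp2 Q e f) + 2 = finrank F V := by
  have hfe : QuadraticMap.polar ⇑Q f e = 1 := by rw [QuadraticMap.polar_comm, hef]
  have hsurj : Function.Surjective ((QuadraticMap.polarBilin Q e).prod (QuadraticMap.polarBilin Q f)) := by
    rintro ⟨α, β⟩
    refine ⟨β • e + α • f, ?_⟩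
    rw [polar_prod_apply]
    simp only [QuadraticMap.polar_add_right,
      QuadraticMap.polar_smul_right, QuadraticMap.polar_self, hQe, hQf, hef, hfe, smul_eq_mul]
    simp
  have h1 := LinearMap.finrank_range_add_finrank_ker ((QuadraticMap.polarBilin Q e).prod (QuadraticMap.polarBilin Q f))
  rw [LinearMap.range_eq_top.mpr hsurj, finrank_top, Module.finrank_prod, Module.finrank_self] at h1
  unfold perp2
  omega

theorem perp2_nondeg (Q : QuadraticForm F V) (hQ : (QuadraticMap.polarBilin Q).Nondegenerate) {e f : V}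
    (hQe : Q e = 0) (hQf : Q f = 0) (hef : QuadraticMap.polar ⇑Q e f = 1) :
    (QuadraticMap.polarBilin (Q.comp (perp2 Q e f).subtype)).Nondegenerate := by
  have hfe : QuadraticMap.polar ⇑Q f e = 1 := by rw [QuadraticMap.polar_comm, hef]
  have key : ∀ w : perp2 Q e f, (∀ u : perp2 Q e f, QuadraticMap.polar ⇑Q (w : V) (u : V) = 0) → w = 0 := by
    intro w hw
    apply Subtype.ext
    apply hQ.1 (w : V)
    intro v
    rw [QuadraticMap.polarBilin_apply_apply]
    obtain ⟨hwe, hwf⟩ := (mem_perp2 Q e f w).mp w.2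
    rw [QuadraticMap.polar_comm] at hwe hwf
    set u : V := v - QuadraticMap.polar ⇑Q v f • e - QuadraticMap.polar ⇑Q v e • f with hu
    have humem : u ∈ perp2 Q e f := by
      rw [mem_perp2]
      constructor
      · rw [hu, QuadraticMap.polar_sub_right, QuadraticMap.polar_sub_right, QuadraticMap.polar_smul_right,
          QuadraticMap.polar_smul_right, polar_self', hQe, hef, QuadraticMap.polar_comm ⇑Q e v]
        simp
      · rw [hu, QuadraticMap.polar_sub_right, QuadraticMap.polar_sub_right, QuadraticMap.polar_smul_right,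
          QuadraticMap.polar_smul_right, polar_self', hQf, hfe, QuadraticMap.polar_comm ⇑Q f v]
        simp
    have hv : v = u + QuadraticMap.polar ⇑Q v f • e + QuadraticMap.polar ⇑Q v e • f := by
      rw [hu]; abel
    rw [hv, QuadraticMap.polar_add_right, QuadraticMap.polar_add_right, QuadraticMap.polar_smul_right,
      QuadraticMap.polar_smul_right, hwe, hwf, hw ⟨u, humem⟩]
    simp
  constructor
  · intro w hw
    apply key w
    intro u
    have := hw u
    rwa [polarBilin_comp_subtype, QuadraticMap.polarBilin_apply_apply] at this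
  · intro w hw
    apply key w
    intro u
    have := hw u
    rwa [polarBilin_comp_subtype, QuadraticMap.polarBilin_apply_apply, QuadraticMap.polar_comm] at this

theorem singular_exists_odd [Fintype F] [FiniteDimensional F V] (h2 : (2 : F) ≠ 0) (Q : QuadraticForm F V)
    (hQ : (QuadraticMap.polarBilin Q).Nondegenerate) (hd : 3 ≤ finrank F V) : ∃ e : V, e ≠ 0 ∧ Q e = 0 := by
  have : Invertible (2 : F) := invertibleOfNonzero h2
  have hS' : LinearMap.IsSymm (QuadraticMap.polarBilin Q) := ⟨fun x y => by simpa using QuadraticMap.polar_comm Q x y⟩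
  obtain ⟨v, hv⟩ := LinearMap.BilinForm.exists_orthogonal_basis hS'
  have hne : ∀ i, Q (v i) ≠ 0 := by
    intro i h0
    have := LinearMap.IsOrthoᵢ.not_isOrtho_basis_self_of_separatingLeft hv hQ.1 i
    apply this
    rw [QuadraticMap.polarBilin_apply_apply, polar_self', h0, mul_zero]
  set i₀ : Fin (finrank F V) := ⟨0, by omega⟩
  set i₁ : Fin (finrank F V) := ⟨1, by omega⟩
  set i₂ : Fin (finrank F V) := ⟨2, by omega⟩
  have h01 : i₀ ≠ i₁ := by intro h; have := congrArg Fin.val h; simp [i₀, i₁] at this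
  have h02 : i₀ ≠ i₂ := by intro h; have := congrArg Fin.val h; simp [i₀, i₂] at this
  have h12 : i₁ ≠ i₂ := by intro h; have := congrArg Fin.val h; simp [i₁, i₂] at this
  have p01 : QuadraticMap.polar ⇑Q (v i₀) (v i₁) = 0 := hv h01
  have p02 : QuadraticMap.polar ⇑Q (v i₀) (v i₂) = 0 := hv h02
  have p12 : QuadraticMap.polar ⇑Q (v i₁) (v i₂) = 0 := hv h12
  have ha : -(Q (v i₀)) / Q (v i₂) ≠ 0 := div_ne_zero (neg_ne_zero.mpr (hne i₀)) (hne i₂)
  have hb : -(Q (v i₁)) / Q (v i₂) ≠ 0 := div_ne_zero (neg_ne_zero.mpr (hne i₁)) (hne i₂)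
  obtain ⟨s, t, hst⟩ := exists_sq_sum h2 ha hb
  have hQe : Q (s • v i₀ + t • v i₁ + v i₂) = 0 := by
    rw [quad_add, quad_add, QuadraticMap.map_smul, QuadraticMap.map_smul, QuadraticMap.polar_add_left,
      QuadraticMap.polar_smul_left, QuadraticMap.polar_smul_left, QuadraticMap.polar_smul_left,
      QuadraticMap.polar_smul_right, p01, p02, p12]
    have h3 := hne i₂
    field_simp at hst
    simp only [smul_eq_mul]
    linear_combination (-1 : F) * hst
  refine ⟨s • v i₀ + t • v i₁ + v i₂, ?_, hQe⟩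
  intro h0
  have h4 : QuadraticMap.polar ⇑Q (s • v i₀ + t • v i₁ + v i₂) (v i₂) = 0 := by
    rw [h0]; simp [QuadraticMap.polar]
  rw [QuadraticMap.polar_add_left, QuadraticMap.polar_add_left, QuadraticMap.polar_smul_left,
    QuadraticMap.polar_smul_left, p02, p12, polar_self'] at h4
  simp only [smul_eq_mul, mul_zero, zero_add] at h4
  exact (mul_ne_zero h2 (hne i₂)) h4

theorem singular_exists_even [Finite F] [FiniteDimensional F V] (h2 : (2 : F) = 0) (Q : QuadraticForm F V)
    (hQ : (QuadraticMap.polarBilin Q).Nondegenerate) (hd : 3 ≤ finrank F V) : ∃ e : V, e ≠ 0 ∧ Q e = 0 := by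
  have hchar : ringChar F = 2 := by
    have : CharP F 2 := CharTwo.of_one_ne_zero_of_two_eq_zero one_ne_zero h2
    exact ringChar.eq F 2
  have hnt : Nontrivial V := Module.nontrivial_of_finrank_pos (R := F) (by omega)
  obtain ⟨x, hx⟩ := exists_ne (0 : V)
  by_cases hQx : Q x = 0
  · exact ⟨x, hx, hQx⟩
  have hfr := LinearMap.BilinForm.finrank_orthogonal hQ (F ∙ x)
  rw [finrank_span_singleton hx] at hfr
  have hnle : ¬ (LinearMap.BilinForm.orthogonal (QuadraticMap.polarBilin Q) (F ∙ x) ≤ F ∙ x) := by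
    intro hle
    have := Submodule.finrank_mono hle
    rw [finrank_span_singleton hx] at this
    omega
  obtain ⟨z, hz, hzW⟩ := SetLike.not_le_iff_exists.mp hnle
  have hxz : QuadraticMap.polar ⇑Q x z = 0 := hz x (Submodule.mem_span_singleton_self x)
  obtain ⟨s, hs⟩ := FiniteField.isSquare_of_char_two hchar (Q z / Q x)
  have hQe : Q (s • x + z) = 0 := by
    rw [quad_add, QuadraticMap.map_smul, QuadraticMap.polar_smul_left, hxz, ← hs, smul_eq_mul,
      div_mul_cancel₀ _ hQx]
    simp only [smul_eq_mul, mul_zero, add_zero]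
    linear_combination Q z * h2
  refine ⟨s • x + z, ?_, hQe⟩
  intro h0
  apply hzW
  have : z = (-s) • x := by
    rw [neg_smul]
    exact eq_neg_of_add_eq_zero_right h0
  rw [this]
  exact Submodule.smul_mem _ _ (Submodule.mem_span_singleton_self x)

theorem singular_exists [Fintype F] [FiniteDimensional F V] (Q : QuadraticForm F V)
    (hQ : (QuadraticMap.polarBilin Q).Nondegenerate) (hd : 3 ≤ finrank F V) : ∃ e : V, e ≠ 0 ∧ Q e = 0 := by
  by_cases h2 : (2 : F) = 0
  · exact singular_exists_even h2 Q hQ hd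
  · exact singular_exists_odd h2 Q hQ hd

theorem exists_hyp_split [Fintype F] [FiniteDimensional F V] (Q : QuadraticForm F V)
    (hQ : (QuadraticMap.polarBilin Q).Nondegenerate) (hd : 3 ≤ finrank F V) :
    ∃ e f : V, Q e = 0 ∧ Q f = 0 ∧ QuadraticMap.polar ⇑Q e f = 1 := by
  obtain ⟨e, he, hQe⟩ := singular_exists Q hQ hd
  obtain ⟨f, hQf, hef⟩ := hyp_pair Q hQ he hQe
  exact ⟨e, f, hQe, hQf, hef⟩

theorem li_of_dual {ι : Type*} [Fintype ι] [DecidableEq ι] (B : LinearMap.BilinForm F V) (v w : ι → V) (d : ι → F)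
    (hd : ∀ j, d j ≠ 0) (h : ∀ i j, B (v i) (w j) = if i = j then d j else 0) : LinearIndependent F v := by
  rw [Fintype.linearIndependent_iff]
  intro c hc j
  have h1 := congrArg (fun x => B x (w j)) hc
  simp only [map_sum, LinearMap.sum_apply, map_smul, LinearMap.smul_apply, h, smul_eq_mul, mul_ite, mul_zero,
    Finset.sum_ite_eq', Finset.mem_univ, if_true, map_zero, LinearMap.zero_apply] at h1
  exact (mul_eq_zero.mp h1).resolve_right (hd j)

end

end Cfsg.Agent.Lib.Helper16
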