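import Mathlib
import Cfsg.Agent.S2616
import Cfsg.Agent.Lib.Helper16.SpinG2

set_option autoImplicit false
set_option linter.unusedSectionVars false
set_option linter.unusedSimpArgs false
set_option linter.unusedVariables false
set_option linter.unusedTactic false

namespace Cfsg.Agent.Lib.Helper16.OSemi

open Matrix Module Cfsg.Agent.Lib.Helper16

universe u

variable {F : Type u} [Field F]

theorem qf_ext_basis {V : Type*} [AddCommGroup V] [Module F V] {κ : Type*} [Fintype κ]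
    (b : Basis κ F V) (Q₁ Q₂ : QuadraticForm F V)
    (hpol : ∀ i j, QuadraticMap.polar ⇑Q₁ (b i) (b j) = QuadraticMap.polar ⇑Q₂ (b i) (b j))
    (hval : ∀ i, Q₁ (b i) = Q₂ (b i)) (v : V) : Q₁ v = Q₂ v := by
  classical
  have hB : QuadraticMap.polarBilin Q₁ = QuadraticMap.polarBilin Q₂ := by
    apply LinearMap.BilinForm.ext_basis b
    intro i j
    rw [QuadraticMap.polarBilin_apply_apply, QuadraticMap.polarBilin_apply_apply]
    exact hpol i j
  have hv : v ∈ Submodule.span F (Set.range b) := by rw [b.span_eq]; trivial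
  induction hv using Submodule.span_induction with
  | mem x hx =>
    obtain ⟨i, rfl⟩ := hx
    exact hval i
  | zero => simp
  | add x y _ _ hx hy =>
    have e1 := QuadraticMap.map_add Q₁ x y
    have e2 := QuadraticMap.map_add Q₂ x y
    rw [e1, e2, hx, hy]
    congr 1
    rw [← QuadraticMap.polarBilin_apply_apply, ← QuadraticMap.polarBilin_apply_apply, hB]
  | smul a x _ hx =>
    rw [QuadraticMap.map_smul, QuadraticMap.map_smul, hx]

theorem equivFun_symm_single {V : Type*} [AddCommGroup V] [Module F V] {κ : Type*} [Fintype κ]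
    [DecidableEq κ] (b : Basis κ F V) (k : κ) : b.equivFun.symm (Pi.single k 1) = b k := by
  rw [LinearEquiv.symm_apply_eq]
  funext j
  rw [Basis.equivFun_self, Pi.single_apply]
  simp only [eq_comm]

theorem classify_plus {V : Type*} [AddCommGroup V] [Module F V] {m : ℕ} (Q : QuadraticForm F V)
    (b : Basis (Fin m ⊕ Fin m) F V)
    (h0 : ∀ i, Q (b (Sum.inl i)) = 0 ∧ Q (b (Sum.inr i)) = 0)
    (h1 : ∀ i j, QuadraticMap.polar ⇑Q (b (Sum.inl i)) (b (Sum.inr j)) = if i = j then 1 else 0)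
    (h2 : ∀ i j, QuadraticMap.polar ⇑Q (b (Sum.inl i)) (b (Sum.inl j)) = 0 ∧
      QuadraticMap.polar ⇑Q (b (Sum.inr i)) (b (Sum.inr j)) = 0) :
    ∃ Φ : (Fin m ⊕ Fin m → F) ≃ₗ[F] V, ∀ v, Q (Φ v) = Cfsg.quadFormPlus m F v := by
  classical
  refine ⟨b.equivFun.symm, ?_⟩
  intro v
  have key := qf_ext_basis (Pi.basisFun F (Fin m ⊕ Fin m)) (Q.comp b.equivFun.symm.toLinearMap)
    (qfPlus m F) ?_ ?_ v
  · exact key
  · intro k l
    have hL : QuadraticMap.polar ⇑(Q.comp b.equivFun.symm.toLinearMap)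
        (Pi.basisFun F (Fin m ⊕ Fin m) k) (Pi.basisFun F (Fin m ⊕ Fin m) l)
        = QuadraticMap.polar ⇑Q (b k) (b l) := by
      unfold QuadraticMap.polar
      simp only [QuadraticMap.comp_apply, LinearEquiv.coe_coe, Pi.basisFun_apply, map_add,
        equivFun_symm_single]
    rw [hL, qfPlus_coe, polar_plus]
    simp only [Pi.basisFun_apply]
    rcases k with i | i <;> rcases l with j | j
    · rw [(h2 i j).1]
      simp [Pi.single_apply]
    · rw [h1 i j]
      simp [Pi.single_apply, eq_comm]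
    · rw [QuadraticMap.polar_comm, h1 j i]
      simp [Pi.single_apply, eq_comm]
    · rw [(h2 i j).2]
      simp [Pi.single_apply]
  · intro k
    show Q (b.equivFun.symm (Pi.basisFun F (Fin m ⊕ Fin m) k)) = Cfsg.quadFormPlus m F _
    rw [Pi.basisFun_apply, equivFun_symm_single]
    unfold Cfsg.quadFormPlus
    rcases k with i | i
    · rw [(h0 i).1]
      simp [Pi.single_apply]
    · rw [(h0 i).2]
      simp [Pi.single_apply]


theorem classify_minus {V : Type*} [AddCommGroup V] [Module F V] {k : ℕ} (Q : QuadraticForm F V)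
    (b : Basis ((Fin k ⊕ Fin k) ⊕ Fin 2) F V) (ζ : F)
    (h0 : ∀ i, Q (b (Sum.inl (Sum.inl i))) = 0 ∧ Q (b (Sum.inl (Sum.inr i))) = 0)
    (h1 : ∀ i j, QuadraticMap.polar ⇑Q (b (Sum.inl (Sum.inl i))) (b (Sum.inl (Sum.inr j)))
      = if i = j then 1 else 0)
    (h2 : ∀ i j, QuadraticMap.polar ⇑Q (b (Sum.inl (Sum.inl i))) (b (Sum.inl (Sum.inl j))) = 0 ∧
      QuadraticMap.polar ⇑Q (b (Sum.inl (Sum.inr i))) (b (Sum.inl (Sum.inr j))) = 0)
    (h3 : ∀ i (t : Fin 2), QuadraticMap.polar ⇑Q (b (Sum.inl (Sum.inl i))) (b (Sum.inr t)) = 0 ∧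
      QuadraticMap.polar ⇑Q (b (Sum.inl (Sum.inr i))) (b (Sum.inr t)) = 0)
    (h4 : Q (b (Sum.inr 0)) = 1)
    (h5 : QuadraticMap.polar ⇑Q (b (Sum.inr 0)) (b (Sum.inr 1)) = 1)
    (h6 : Q (b (Sum.inr 1)) = ζ) :
    ∃ Φ : ((Fin k ⊕ Fin k) ⊕ Fin 2 → F) ≃ₗ[F] V, ∀ v, Q (Φ v) = Cfsg.quadFormMinus k F 1 ζ v := by
  classical
  refine ⟨b.equivFun.symm, ?_⟩
  intro v
  have key := qf_ext_basis (Pi.basisFun F ((Fin k ⊕ Fin k) ⊕ Fin 2))
    (Q.comp b.equivFun.symm.toLinearMap) (qfMinus k F 1 ζ) ?_ ?_ v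
  · exact key
  · intro x y
    have hL : QuadraticMap.polar ⇑(Q.comp b.equivFun.symm.toLinearMap)
        (Pi.basisFun F ((Fin k ⊕ Fin k) ⊕ Fin 2) x) (Pi.basisFun F ((Fin k ⊕ Fin k) ⊕ Fin 2) y)
        = QuadraticMap.polar ⇑Q (b x) (b y) := by
      unfold QuadraticMap.polar
      simp only [QuadraticMap.comp_apply, LinearEquiv.coe_coe, Pi.basisFun_apply, map_add,
        equivFun_symm_single]
    rw [hL, qfMinus_coe, polar_minus']
    simp only [Pi.basisFun_apply]
    rcases x with (i | i) | t <;> rcases y with (j | j) | t'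
    · rw [(h2 i j).1]
      simp [Pi.single_apply]
    · rw [h1 i j]
      simp [Pi.single_apply, eq_comm]
    · rw [(h3 i t').1]
      simp [Pi.single_apply]
    · rw [QuadraticMap.polar_comm, h1 j i]
      simp [Pi.single_apply, eq_comm]
    · rw [(h2 i j).2]
      simp [Pi.single_apply]
    · rw [(h3 i t').2]
      simp [Pi.single_apply]
    · rw [QuadraticMap.polar_comm, (h3 j t).1]
      simp [Pi.single_apply]
    · rw [QuadraticMap.polar_comm, (h3 j t).2]
      simp [Pi.single_apply]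
    · have ht : t = 0 ∨ t = 1 := by fin_cases t <;> simp
      have ht' : t' = 0 ∨ t' = 1 := by fin_cases t' <;> simp
      rcases ht with rfl | rfl <;> rcases ht' with rfl | rfl
      · rw [polar_self', h4]
        simp [Pi.single_apply]
      · rw [h5]
        simp [Pi.single_apply]
      · rw [QuadraticMap.polar_comm, h5]
        simp [Pi.single_apply]
      · rw [polar_self', h6]
        simp [Pi.single_apply]
  · intro x
    show Q (b.equivFun.symm (Pi.basisFun F ((Fin k ⊕ Fin k) ⊕ Fin 2) x)) = Cfsg.quadFormMinus k F 1 ζ _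
    rw [Pi.basisFun_apply, equivFun_symm_single]
    unfold Cfsg.quadFormMinus
    rcases x with (i | i) | t
    · rw [(h0 i).1]
      simp [Pi.single_apply]
    · rw [(h0 i).2]
      simp [Pi.single_apply]
    · have ht : t = 0 ∨ t = 1 := by fin_cases t <;> simp
      rcases ht with rfl | rfl
      · rw [h4]
        simp [Pi.single_apply]
      · rw [h6]
        simp [Pi.single_apply]


theorem classify [Finite F] {ι : Type} [Fintype ι] [DecidableEq ι] {m : ℕ} (hm : 1 ≤ m)
    (hcard : Fintype.card ι = 2 * m) (Q : QuadraticForm F (ι → F))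
    (hQ : (QuadraticMap.polarBilin Q).Nondegenerate) :
    (∃ Φ : (Fin m ⊕ Fin m → F) ≃ₗ[F] (ι → F), ∀ v, Q (Φ v) = Cfsg.quadFormPlus m F v) ∨
    (∃ ζ : F, (∀ t : F, t ^ 2 + t + ζ ≠ 0) ∧
      ∃ Φ : ((Fin (m - 1) ⊕ Fin (m - 1)) ⊕ Fin 2 → F) ≃ₗ[F] (ι → F),
        ∀ v, Q (Φ v) = Cfsg.quadFormMinus (m - 1) F 1 ζ v) := by
  have hV : finrank F (ι → F) = 2 * m := by
    rw [Module.finrank_fintype_fun_eq_card, hcard]
  rcases Cfsg.Agent.S2616.result hm hV Q hQ with ⟨b, h0, h1, h2⟩ | ⟨b, ζ, hζ, h0, h1, h2, h3, h4, h5, h6⟩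
  · left
    exact classify_plus Q b h0 h1 h2
  · right
    exact ⟨ζ, hζ, classify_minus Q b ζ h0 h1 h2 h3 h4 h5 h6⟩

end Cfsg.Agent.Lib.Helper16.OSemi
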