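import Mathlib
import Cfsg.Agent.S2624
import Cfsg.Agent.Lib.Helper16.ZeroCount

set_option autoImplicit false
set_option linter.unusedSectionVars false
set_option linter.unusedSimpArgs false
set_option linter.unusedVariables false
set_option linter.unusedTactic false

namespace Cfsg.Agent.Lib.Helper16.OSemi

open Matrix Module Cfsg.Agent.Lib.Helper16

universe u

variable {F : Type u} [Field F]

/-- number of solutions of `f w = c`. -/
noncomputable def cnt {W : Type*} (f : W → F) (c : F) : ℕ := Nat.card {w : W // f w = c}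

theorem cnt_congr {W W' : Type*} (e : W' ≃ W) (f : W → F) (f' : W' → F)
    (h : ∀ w', f (e w') = f' w') (c : F) : cnt f' c = cnt f c := by
  unfold cnt
  apply Nat.card_congr
  apply e.subtypeEquiv
  intro w'
  rw [h]

theorem cnt_total [Fintype F] {W : Type*} [Finite W] (f : W → F) :
    ∑ c : F, cnt f c = Nat.card W := by
  classical
  have : Fintype W := Fintype.ofFinite W
  unfold cnt
  simp only [Nat.card_eq_fintype_card, Fintype.card_subtype]
  rw [← Finset.card_eq_sum_card_fiberwise (f := f) (s := Finset.univ) (t := Finset.univ)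
    (fun _ _ => Finset.mem_univ _)]
  rw [Finset.card_univ]

theorem cnt_prod [Fintype F] {V W : Type*} [Finite V] [Fintype W] (Q : V → F) (g : W → F) (c : F) :
    cnt (fun p : V × W => Q p.1 + g p.2) c = ∑ w : W, cnt Q (c - g w) := by
  classical
  have : Fintype V := Fintype.ofFinite V
  unfold cnt
  simp only [Nat.card_eq_fintype_card, Fintype.card_subtype]
  rw [Finset.card_eq_sum_card_fiberwise (f := fun p : V × W => p.2) (t := Finset.univ)
    (fun _ _ => Finset.mem_univ _)]
  apply Finset.sum_congr rfl
  intro w _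
  apply Finset.card_bij (fun p _ => p.1)
  · intro p hp
    simp only [Finset.mem_filter, Finset.mem_univ, true_and] at hp ⊢
    rw [← hp.2, ← hp.1]; ring
  · intro p hp p' hp' hpp
    simp only [Finset.mem_filter, Finset.mem_univ, true_and] at hp hp'
    exact Prod.ext hpp (hp.2.trans hp'.2.symm)
  · intro v hv
    simp only [Finset.mem_filter, Finset.mem_univ, true_and] at hv
    refine ⟨(v, w), ?_, rfl⟩
    simp only [Finset.mem_filter, Finset.mem_univ, true_and, and_true]
    rw [hv]; ring


/-- values `c ≠ 0` are all taken equally often by a nondegenerate even-dimensional form. -/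
theorem cnt_const [Fintype F] {ι : Type} [Fintype ι] [DecidableEq ι]
    (Q : QuadraticForm F (ι → F)) (hQ : (QuadraticMap.polarBilin Q).Nondegenerate)
    (hev : Even (Fintype.card ι)) (h2 : 2 ≤ Fintype.card ι) (c : F) (hc : c ≠ 0) :
    cnt (⇑Q) c = cnt (⇑Q) 1 := by
  classical
  obtain ⟨n, hn⟩ : ∃ n, n = Fintype.card ι := ⟨_, rfl⟩
  obtain ⟨e⟩ : Nonempty (ι ≃ Fin n) := ⟨Fintype.equivFinOfCardEq hn.symm⟩
  obtain ⟨L, hL⟩ : ∃ L : (Fin n → F) ≃ₗ[F] (ι → F), L = LinearEquiv.funCongrLeft F F e := ⟨_, rfl⟩
  obtain ⟨Q', hQ'⟩ : ∃ Q' : QuadraticForm F (Fin n → F), Q' = Q.comp L.toLinearMap := ⟨_, rfl⟩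
  have hQ'app : ∀ w, Q' w = Q (L w) := by
    intro w
    rw [hQ']
    rfl
  have hpol : ∀ x y, QuadraticMap.polar ⇑Q' x y = QuadraticMap.polar ⇑Q (L x) (L y) := by
    intro x y
    unfold QuadraticMap.polar
    rw [hQ'app, hQ'app, hQ'app, map_add]
  have hnd : (QuadraticMap.polarBilin Q').Nondegenerate := by
    constructor
    · intro x hx
      have h1 : L x = 0 := by
        apply hQ.1
        intro y'
        have := hx (L.symm y')
        rw [QuadraticMap.polarBilin_apply_apply, hpol, LinearEquiv.apply_symm_apply] at this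
        rw [QuadraticMap.polarBilin_apply_apply]
        exact this
      exact L.map_eq_zero_iff.mp h1
    · intro y hy
      have h1 : L y = 0 := by
        apply hQ.2
        intro x'
        have := hy (L.symm x')
        rw [QuadraticMap.polarBilin_apply_apply, hpol, LinearEquiv.apply_symm_apply] at this
        rw [QuadraticMap.polarBilin_apply_apply]
        exact this
      exact L.map_eq_zero_iff.mp h1
  obtain ⟨g, hg⟩ := Cfsg.Agent.S2624.result (by rw [hn]; exact h2) (by rw [hn]; exact hev) Q' hnd c hc
  symm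
  unfold cnt
  apply Nat.card_congr
  apply ((L.symm.trans g).trans L).toEquiv.subtypeEquiv
  intro v
  show Q v = 1 ↔ Q (L (g (L.symm v))) = c
  rw [← hQ'app, hg, hQ'app, LinearEquiv.apply_symm_apply]
  constructor
  · intro h; rw [h, mul_one]
  · intro h
    have : c * Q v = c * 1 := by rw [h, mul_one]
    exact mul_left_cancel₀ hc this

end Cfsg.Agent.Lib.Helper16.OSemi
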