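import Mathlib
import Cfsg.Agent.Lib.Helper16.OCnt1

set_option autoImplicit false
set_option linter.unusedSectionVars false
set_option linter.unusedSimpArgs false
set_option linter.unusedVariables false
set_option linter.unusedTactic false

namespace Cfsg.Agent.Lib.Helper16.OSemi

open Matrix Module Cfsg.Agent.Lib.Helper16

universe u

variable {F : Type u} [Field F]

/-- `Z + (q-1) N = q^n`. -/
theorem cnt_zero_one [Fintype F] {ι : Type} [Fintype ι] [DecidableEq ι]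
    (Q : QuadraticForm F (ι → F)) (hQ : (QuadraticMap.polarBilin Q).Nondegenerate)
    (hev : Even (Fintype.card ι)) (h2 : 2 ≤ Fintype.card ι) :
    cnt (⇑Q) 0 + (Fintype.card F - 1) * cnt (⇑Q) 1 = Fintype.card F ^ Fintype.card ι := by
  classical
  have h1 := cnt_total (F := F) (W := ι → F) (⇑Q)
  rw [Nat.card_eq_fintype_card, Fintype.card_fun, ← Finset.add_sum_erase Finset.univ _
    (Finset.mem_univ (0 : F))] at h1
  have h3 : ∑ c ∈ Finset.univ.erase (0 : F), cnt (⇑Q) c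
      = ∑ c ∈ Finset.univ.erase (0 : F), cnt (⇑Q) 1 := by
    apply Finset.sum_congr rfl
    intro c hc
    exact cnt_const Q hQ hev h2 c (Finset.ne_of_mem_erase hc)
  rw [h3, Finset.sum_const, Finset.card_erase_of_mem (Finset.mem_univ _), Finset.card_univ,
    smul_eq_mul] at h1
  exact h1

/-- zero count of an orthogonal sum. -/
theorem cnt_sum_zero [Fintype F] {ι : Type} [Fintype ι] [DecidableEq ι]
    (Q : QuadraticForm F (ι → F)) (hQ : (QuadraticMap.polarBilin Q).Nondegenerate)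
    (hev : Even (Fintype.card ι)) (h2 : 2 ≤ Fintype.card ι) {W : Type*} [Fintype W] (g : W → F) :
    cnt (fun p : (ι → F) × W => Q p.1 + g p.2) 0
      = cnt g 0 * cnt (⇑Q) 0 + (Fintype.card W - cnt g 0) * cnt (⇑Q) 1 := by
  classical
  rw [cnt_prod]
  have h1 : ∀ w : W, cnt (⇑Q) (0 - g w) = if g w = 0 then cnt (⇑Q) 0 else cnt (⇑Q) 1 := by
    intro w
    by_cases h : g w = 0
    · rw [if_pos h, h, sub_zero]
    · rw [if_neg h]
      exact cnt_const Q hQ hev h2 _ (by rw [zero_sub]; exact neg_ne_zero.mpr h)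
  rw [Finset.sum_congr rfl (fun w _ => h1 w), Finset.sum_ite, Finset.sum_const, Finset.sum_const,
    smul_eq_mul, smul_eq_mul]
  have h3 : (Finset.univ.filter (fun w : W => g w = 0)).card = cnt g 0 := by
    unfold cnt
    rw [Nat.card_eq_fintype_card, Fintype.card_subtype]
  have h4 : (Finset.univ.filter (fun w : W => ¬ g w = 0)).card = Fintype.card W - cnt g 0 := by
    have h5 := Finset.card_filter_add_card_filter_not (s := (Finset.univ : Finset W))
      (fun w : W => g w = 0)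
    rw [Finset.card_univ] at h5
    rw [← h3]
    omega
  rw [h3, h4]


/-- type of an even-dimensional form: `q Z = q^{2m} + s (q^{m+1} - q^m)`. -/
def IsType [Fintype F] {W : Type*} (f : W → F) (m : ℕ) (s : ℤ) : Prop :=
  (Fintype.card F : ℤ) * cnt f 0 = (Fintype.card F : ℤ) ^ (2 * m)
    + s * ((Fintype.card F : ℤ) ^ (m + 1) - (Fintype.card F : ℤ) ^ m)

theorem isType_congr [Fintype F] {W W' : Type*} (e : W' ≃ W) (f : W → F) (f' : W' → F)
    (h : ∀ w', f (e w') = f' w') (m : ℕ) (s : ℤ) : IsType f m s ↔ IsType f' m s := by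
  unfold IsType
  rw [cnt_congr e f f' h 0]

theorem isType_unique [Fintype F] {W : Type*} (f : W → F) (m : ℕ) (h1 : IsType f m 1)
    (h2 : IsType f m (-1)) : False := by
  unfold IsType at h1 h2
  have hq : (2 : ℤ) ≤ (Fintype.card F : ℤ) := by exact_mod_cast Fintype.one_lt_card
  have h3 : (Fintype.card F : ℤ) ^ (m + 1) - (Fintype.card F : ℤ) ^ m = 0 := by linarith
  have h4 : (Fintype.card F : ℤ) ^ m * ((Fintype.card F : ℤ) - 1) = 0 := by
    rw [← h3]; ring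
  rcases mul_eq_zero.mp h4 with h | h
  · have : (0 : ℤ) < (Fintype.card F : ℤ) ^ m := by positivity
    omega
  · omega

theorem isType_plus [Fintype F] (m : ℕ) : IsType (Cfsg.quadFormPlus m F) m 1 := by
  classical
  unfold IsType
  have h1 := zeros_plus (F := F) m (W := PUnit.{u+1}) (fun _ => 0)
  have h2 : Fintype.card {p : (Fin m ⊕ Fin m → F) × PUnit.{u+1} //
      Cfsg.quadFormPlus m F p.1 + (fun _ => (0 : F)) p.2 = 0} = cnt (Cfsg.quadFormPlus m F) 0 := by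
    rw [← Nat.card_eq_fintype_card]
    unfold cnt
    apply Nat.card_congr
    exact ⟨fun p => ⟨p.1.1, by have := p.2; simpa using this⟩,
      fun v => ⟨(v.1, PUnit.unit), by simpa using v.2⟩, fun p => rfl, fun v => rfl⟩
  have h3 : Fintype.card {w : PUnit.{u+1} // (fun _ => (0 : F)) w = 0} = 1 := by
    rw [Fintype.card_eq_one_iff]
    exact ⟨⟨PUnit.unit, rfl⟩, fun y => Subtype.ext rfl⟩
  rw [h2, h3] at h1
  rw [h1]
  simp only [Fintype.card_punit, Nat.cast_one, mul_one, one_mul]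
  ring


/-- splitting the minus-type space. -/
def splitMinus (k : ℕ) (F : Type u) :
    ((Fin k ⊕ Fin k) ⊕ Fin 2 → F) ≃ (Fin k ⊕ Fin k → F) × (F × F) where
  toFun v := (fun i => v (Sum.inl i), (v (Sum.inr 0), v (Sum.inr 1)))
  invFun p := Sum.elim p.1 (fun t => if t = 0 then p.2.1 else p.2.2)
  left_inv v := by
    funext x
    rcases x with i | t
    · rfl
    · have ht : t = 0 ∨ t = 1 := by fin_cases t <;> simp
      rcases ht with rfl | rfl
      · simp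
      · simp
  right_inv p := by
    rcases p with ⟨v, x, y⟩
    simp

theorem splitMinus_quad (k : ℕ) (a c : F) (v : (Fin k ⊕ Fin k) ⊕ Fin 2 → F) :
    Cfsg.quadFormMinus k F a c v = Cfsg.quadFormPlus k F (splitMinus k F v).1
      + ((splitMinus k F v).2.1 ^ 2 + a * (splitMinus k F v).2.1 * (splitMinus k F v).2.2
        + c * (splitMinus k F v).2.2 ^ 2) := rfl

theorem isType_minus [Fintype F] (k : ℕ) (a c : F)
    (hac : ∀ z₁ z₂ : F, z₁ ^ 2 + a * z₁ * z₂ + c * z₂ ^ 2 = 0 → z₁ = 0 ∧ z₂ = 0) :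
    IsType (Cfsg.quadFormMinus k F a c) (k + 1) (-1) := by
  classical
  unfold IsType
  have h1 := zeros_plus (F := F) k (W := F × F)
    (fun w => w.1 ^ 2 + a * w.1 * w.2 + c * w.2 ^ 2)
  have h2 : Fintype.card {p : (Fin k ⊕ Fin k → F) × (F × F) //
      Cfsg.quadFormPlus k F p.1 + (fun w : F × F => w.1 ^ 2 + a * w.1 * w.2 + c * w.2 ^ 2) p.2 = 0}
      = cnt (Cfsg.quadFormMinus k F a c) 0 := by
    rw [← Nat.card_eq_fintype_card]
    unfold cnt
    symm
    apply Nat.card_congr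
    apply (splitMinus k F).subtypeEquiv
    intro v
    rw [splitMinus_quad]
  have h3 : Fintype.card {w : F × F // (fun w : F × F => w.1 ^ 2 + a * w.1 * w.2 + c * w.2 ^ 2) w = 0}
      = 1 := by
    rw [Fintype.card_eq_one_iff]
    refine ⟨⟨(0, 0), by simp⟩, ?_⟩
    rintro ⟨⟨x, y⟩, h⟩
    apply Subtype.ext
    obtain ⟨hx, hy⟩ := hac x y h
    simp only [Prod.mk.injEq]
    exact ⟨hx, hy⟩
  rw [h2, h3] at h1
  rw [h1]
  simp only [Fintype.card_prod, Nat.cast_mul, Nat.cast_one, mul_one]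
  ring


theorem isType_N1 [Fintype F] {ι : Type} [Fintype ι] [DecidableEq ι]
    (Q : QuadraticForm F (ι → F)) (hQ : (QuadraticMap.polarBilin Q).Nondegenerate)
    (m : ℕ) (hm : 1 ≤ m) (hcard : Fintype.card ι = 2 * m) (s : ℤ) (hs : IsType (⇑Q) m s) :
    (Fintype.card F : ℤ) * cnt (⇑Q) 1
      = (Fintype.card F : ℤ) ^ (2 * m) - s * (Fintype.card F : ℤ) ^ m := by
  have h1 := cnt_zero_one Q hQ (by rw [hcard]; exact even_two_mul m) (by omega)
  rw [hcard] at h1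
  unfold IsType at hs
  have hq : 1 ≤ Fintype.card F := Fintype.card_pos
  have hq2 : (2 : ℤ) ≤ (Fintype.card F : ℤ) := by exact_mod_cast Fintype.one_lt_card
  have h2 : (cnt (⇑Q) 0 : ℤ) + ((Fintype.card F : ℤ) - 1) * cnt (⇑Q) 1
      = (Fintype.card F : ℤ) ^ (2 * m) := by
    have := congrArg (fun x : ℕ => (x : ℤ)) h1
    simp only [Nat.cast_add, Nat.cast_mul, Nat.cast_pow, Nat.cast_sub hq, Nat.cast_one] at this
    exact this
  have h3 : ((Fintype.card F : ℤ) - 1) * ((Fintype.card F : ℤ) * cnt (⇑Q) 1)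
      = ((Fintype.card F : ℤ) - 1) * ((Fintype.card F : ℤ) ^ (2 * m) - s * (Fintype.card F : ℤ) ^ m) := by
    have h4 : (Fintype.card F : ℤ) ^ (m + 1) = (Fintype.card F : ℤ) * (Fintype.card F : ℤ) ^ m := by
      rw [pow_succ]; ring
    rw [h4] at hs
    linear_combination (Fintype.card F : ℤ) * h2 - hs
  exact mul_left_cancel₀ (by omega) h3

theorem isType_sum [Fintype F] {ι : Type} [Fintype ι] [DecidableEq ι]
    (Q : QuadraticForm F (ι → F)) (hQ : (QuadraticMap.polarBilin Q).Nondegenerate)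
    (m₁ : ℕ) (hm₁ : 1 ≤ m₁) (hcard : Fintype.card ι = 2 * m₁) (s₁ : ℤ) (hs₁ : IsType (⇑Q) m₁ s₁)
    {W : Type*} [Fintype W] (g : W → F) (m₂ : ℕ) (hW : Fintype.card W = Fintype.card F ^ (2 * m₂))
    (s₂ : ℤ) (hs₂ : IsType g m₂ s₂) :
    IsType (fun p : (ι → F) × W => Q p.1 + g p.2) (m₁ + m₂) (s₁ * s₂) := by
  classical
  have hN := isType_N1 Q hQ m₁ hm₁ hcard s₁ hs₁
  have hC := cnt_sum_zero Q hQ (by rw [hcard]; exact even_two_mul m₁) (by omega) g
  have hle : cnt g 0 ≤ Fintype.card W := by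
    unfold cnt
    rw [Nat.card_eq_fintype_card]
    exact Fintype.card_subtype_le _
  unfold IsType at hs₁ hs₂ ⊢
  obtain ⟨q, hq⟩ : ∃ q : ℤ, q = (Fintype.card F : ℤ) := ⟨_, rfl⟩
  rw [← hq] at hs₁ hs₂ hN ⊢
  have hq0 : q ≠ 0 := by
    rw [hq]
    have : 0 < Fintype.card F := Fintype.card_pos
    exact_mod_cast this.ne'
  have hC' : (cnt (fun p : (ι → F) × W => Q p.1 + g p.2) 0 : ℤ)
      = (cnt g 0 : ℤ) * cnt (⇑Q) 0 + ((q ^ m₂) ^ 2 - cnt g 0) * cnt (⇑Q) 1 := by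
    rw [hC]
    push_cast [Nat.cast_sub hle]
    rw [hW]
    push_cast
    rw [← hq]
    ring
  have hp1 : q ^ (2 * m₁) = (q ^ m₁) ^ 2 := by rw [← pow_mul, mul_comm]
  have hp2 : q ^ (2 * m₂) = (q ^ m₂) ^ 2 := by rw [← pow_mul, mul_comm]
  have hp3 : q ^ (m₁ + 1) = q * q ^ m₁ := by rw [pow_succ]; ring
  have hp4 : q ^ (m₂ + 1) = q * q ^ m₂ := by rw [pow_succ]; ring
  have hp5 : q ^ (2 * (m₁ + m₂)) = (q ^ m₁ * q ^ m₂) ^ 2 := by rw [← pow_add, ← pow_mul, mul_comm]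
  have hp6 : q ^ (m₁ + m₂ + 1) = q * (q ^ m₁ * q ^ m₂) := by rw [pow_succ, pow_add]; ring
  have hp7 : q ^ (m₁ + m₂) = q ^ m₁ * q ^ m₂ := pow_add q m₁ m₂
  rw [hp1, hp3] at hs₁
  rw [hp2, hp4] at hs₂
  rw [hp1] at hN
  rw [hp5, hp6, hp7]
  apply mul_left_cancel₀ hq0
  rw [hC']
  obtain ⟨a, ha⟩ : ∃ a, a = q ^ m₁ := ⟨_, rfl⟩
  obtain ⟨b, hb⟩ : ∃ b, b = q ^ m₂ := ⟨_, rfl⟩
  rw [← ha] at hs₁ hN ⊢
  rw [← hb] at hs₂ ⊢
  calc q * (q * ((cnt g 0 : ℤ) * cnt (⇑Q) 0 + (b ^ 2 - cnt g 0) * cnt (⇑Q) 1))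
      = (q * cnt g 0) * (q * cnt (⇑Q) 0) + (q * b ^ 2 - q * cnt g 0) * (q * cnt (⇑Q) 1) := by ring
    _ = (b ^ 2 + s₂ * (q * b - b)) * (a ^ 2 + s₁ * (q * a - a))
        + (q * b ^ 2 - (b ^ 2 + s₂ * (q * b - b))) * (a ^ 2 - s₁ * a) := by rw [hs₁, hs₂, hN]
    _ = q * ((a * b) ^ 2 + s₁ * s₂ * (q * (a * b) - a * b)) := by ring

end Cfsg.Agent.Lib.Helper16.OSemi
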