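import Mathlib
import Cfsg.Agent.Lib.Helper16.OCnt2

set_option autoImplicit false
set_option linter.unusedSectionVars false
set_option linter.unusedSimpArgs false
set_option linter.unusedVariables false
set_option linter.unusedTactic false

namespace Cfsg.Agent.Lib.Helper16.OSemi

open Matrix Module Cfsg.Agent.Lib.Helper16

universe u

variable {F : Type u} [Field F]

/-- a fixed-point-free isometry of prime order `r` forces `r ∣ #{Q = 1}`. -/
theorem dvd_cnt_one_of_fpf [Fintype F] {ι : Type} [Fintype ι] [DecidableEq ι]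
    (Q : (ι → F) → F) (hQ0 : Q 0 = 0) (B : Matrix ι ι F) (hBQ : ∀ v, Q (B *ᵥ v) = Q v) (r : ℕ)
    [Fact r.Prime]
    (hBr : B ^ r = 1) (hfpf : ∀ v, B *ᵥ v = v → v = 0) : r ∣ cnt Q 1 := by
  classical
  have hr : r.Prime := Fact.out
  obtain ⟨s, hs⟩ : ∃ s, r = s + 1 := ⟨r - 1, by have := hr.pos; omega⟩
  have h1 : B ^ s * B = 1 := by rw [← pow_succ, ← hs, hBr]
  have h2 : B * B ^ s = 1 := by rw [← pow_succ', ← hs, hBr]
  have hBiQ : ∀ v, Q (B ^ s *ᵥ v) = Q v := by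
    intro v
    have := hBQ (B ^ s *ᵥ v)
    rw [Matrix.mulVec_mulVec, h2, Matrix.one_mulVec] at this
    exact this.symm
  let σ : Equiv.Perm {v : ι → F // Q v = 1} :=
    ⟨fun v => ⟨B *ᵥ v.1, by rw [hBQ]; exact v.2⟩, fun v => ⟨B ^ s *ᵥ v.1, by rw [hBiQ]; exact v.2⟩,
      fun v => Subtype.ext (by
        show B ^ s *ᵥ (B *ᵥ v.1) = v.1
        rw [Matrix.mulVec_mulVec, h1, Matrix.one_mulVec]),
      fun v => Subtype.ext (by
        show B *ᵥ (B ^ s *ᵥ v.1) = v.1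
        rw [Matrix.mulVec_mulVec, h2, Matrix.one_mulVec])⟩
  have hσpow : ∀ (j : ℕ) (v : {v : ι → F // Q v = 1}), ((σ ^ j) v).1 = B ^ j *ᵥ v.1 := by
    intro j
    induction j with
    | zero => intro v; rw [pow_zero, pow_zero, Matrix.one_mulVec]; rfl
    | succ j ih =>
      intro v
      rw [pow_succ, Equiv.Perm.mul_apply, ih, pow_succ, ← Matrix.mulVec_mulVec]
      rfl
  have hσr : σ ^ r ^ 1 = 1 := by
    rw [pow_one]
    ext v : 1
    apply Subtype.ext
    rw [hσpow, hBr, Matrix.one_mulVec]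
    rfl
  unfold cnt
  rw [Nat.card_eq_fintype_card]
  by_contra hnd
  obtain ⟨v, hv⟩ := Equiv.Perm.exists_fixed_point_of_prime hnd hσr
  have h3 : B *ᵥ v.1 = v.1 := congrArg Subtype.val hv
  have h4 := hfpf v.1 h3
  have h5 := v.2
  rw [h4] at h5
  rw [hQ0] at h5
  exact zero_ne_one h5


theorem type_of_fpf [Fintype F] {ι : Type} [Fintype ι] [DecidableEq ι]
    (Q : QuadraticForm F (ι → F)) (hQ : (QuadraticMap.polarBilin Q).Nondegenerate)
    (m : ℕ) (hm : 1 ≤ m) (hcard : Fintype.card ι = 2 * m) (s : ℤ) (hs : IsType (⇑Q) m s)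
    (B : Matrix ι ι F) (hBQ : ∀ v, Q (B *ᵥ v) = Q v) (r : ℕ) [Fact r.Prime]
    (hBr : B ^ r = 1) (hfpf : ∀ v, B *ᵥ v = v → v = 0) (hrq : ¬ r ∣ Fintype.card F) :
    ((Fintype.card F : ℕ) : ZMod r) ^ m = (s : ZMod r) := by
  have h1 := dvd_cnt_one_of_fpf (⇑Q) (QuadraticMap.map_zero Q) B hBQ r hBr hfpf
  have h2 := isType_N1 Q hQ m hm hcard s hs
  have h3 := congrArg (fun x : ℤ => (x : ZMod r)) h2
  simp only [Int.cast_mul, Int.cast_natCast, Int.cast_sub, Int.cast_pow] at h3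
  have h4 : ((cnt (⇑Q) 1 : ℕ) : ZMod r) = 0 := (ZMod.natCast_eq_zero_iff _ _).mpr h1
  rw [h4, mul_zero] at h3
  have hx : ((Fintype.card F : ℕ) : ZMod r) ≠ 0 := by
    intro h
    exact hrq ((ZMod.natCast_eq_zero_iff _ _).mp h)
  have h5 : ((Fintype.card F : ℕ) : ZMod r) ^ m * (((Fintype.card F : ℕ) : ZMod r) ^ m - (s : ZMod r)) = 0 := by
    rw [h3]; ring
  rcases mul_eq_zero.mp h5 with h | h
  · exact absurd h (pow_ne_zero m hx)
  · exact sub_eq_zero.mp h


theorem nt_plus (r : ℕ) (x : ZMod r) (i m : ℕ) (hi : i = orderOf x)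
    (hx : x ^ m = 1) : ¬ (Even i ∧ Odd (2 * m / i)) := by
  rintro ⟨-, hodd⟩
  have h1 : i ∣ m := by rw [hi]; exact orderOf_dvd_of_pow_eq_one hx
  obtain ⟨c, rfl⟩ := h1
  rcases Nat.eq_zero_or_pos i with h0 | h0
  · rw [h0] at hodd
    simp at hodd
  · have : 2 * (i * c) / i = 2 * c := by
      rw [show 2 * (i * c) = i * (2 * c) by ring, Nat.mul_div_cancel_left _ h0]
    rw [this] at hodd
    exact (Nat.not_odd_iff_even.mpr (even_two_mul c)) hodd

theorem nt_minus (r : ℕ) [Fact r.Prime] (hr2 : r ≠ 2) (x : ZMod r) (i m : ℕ) (hi : i = orderOf x)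
    (hx : x ^ m = -1) : Even i ∧ Odd (2 * m / i) := by
  have hr : r.Prime := Fact.out
  have hne : (-1 : ZMod r) ≠ 1 := by
    intro h
    have h2 : (2 : ZMod r) = 0 := by
      have : (1 : ZMod r) + 1 = 0 := by nth_rewrite 1 [← h]; ring
      rw [← this]; norm_num
    have h3 : ((2 : ℕ) : ZMod r) = 0 := by exact_mod_cast h2
    rw [ZMod.natCast_eq_zero_iff] at h3
    exact hr2 ((Nat.prime_dvd_prime_iff_eq hr Nat.prime_two).mp h3)
  have h2m : x ^ (2 * m) = 1 := by rw [mul_comm, pow_mul, hx]; ring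
  have hd : i ∣ 2 * m := by rw [hi]; exact orderOf_dvd_of_pow_eq_one h2m
  have hnd : ¬ i ∣ m := by
    intro h
    rw [hi] at h
    have := orderOf_dvd_iff_pow_eq_one.mp h
    rw [hx] at this
    exact hne this
  have hev : Even i := by
    by_contra hodd
    rw [Nat.not_even_iff_odd] at hodd
    have hcop : Nat.Coprime i 2 := Nat.Coprime.symm (Nat.coprime_two_left.mpr hodd)
    exact hnd (hcop.dvd_of_dvd_mul_left hd)
  refine ⟨hev, ?_⟩
  obtain ⟨c, hc⟩ := hd
  have hi0 : 0 < i := by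
    rcases Nat.eq_zero_or_pos i with h0 | h0
    · exfalso; apply hnd; rw [h0, zero_mul] at hc; rw [h0]; omega
    · exact h0
  rw [hc, Nat.mul_div_cancel_left _ hi0]
  by_contra hodd
  rw [Nat.not_odd_iff_even] at hodd
  obtain ⟨d, hd⟩ := hodd
  apply hnd
  refine ⟨d, ?_⟩
  rw [hd] at hc
  have : 2 * m = 2 * (i * d) := by rw [hc]; ring
  omega

end Cfsg.Agent.Lib.Helper16.OSemi
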