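import Mathlib
import Cfsg.Prelude.Def_ClassicalGeometry
import Cfsg.Agent.Lib.helper6.Quad
import Cfsg.Agent.Lib.Helper16.SpinA

set_option autoImplicit false
set_option linter.unusedSectionVars false
set_option linter.unusedSimpArgs false
set_option linter.unusedVariables false

namespace Cfsg.Agent.Lib.Helper16.CDG

open Matrix Cfsg.Agent.Lib.helper6

variable {ι : Type} [Fintype ι] [DecidableEq ι] {F : Type*} [Field F]

theorem refl_self' (Q : QuadraticForm F (ι → F)) (v : ι → F) (hv : Q v ≠ 0) :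
    Cfsg.reflectionMatrix ⇑Q v *ᵥ v = -v := by
  rw [reflectionMatrix_mulVec, QuadraticMap.polar_self]
  simp only [nsmul_eq_mul, Nat.cast_ofNat, smul_eq_mul]
  rw [show (Q v)⁻¹ * (2 * Q v) = 2 by field_simp]
  module

theorem refl_fix_polar (Q : QuadraticForm F (ι → F)) (v : ι → F) (x : ι → F)
    (h : QuadraticMap.polar (⇑Q) v x = 0) : Cfsg.reflectionMatrix ⇑Q v *ᵥ x = x := by
  rw [reflectionMatrix_mulVec, h, mul_zero, zero_smul, sub_zero]


theorem mem_iso (Q : QuadraticForm F (ι → F)) (g : Matrix.GeneralLinearGroup (ι) F) :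
    g ∈ Cfsg.isometryGroup F ⇑Q ↔ ∀ x, Q ((g : Matrix (ι) (ι) F) *ᵥ x) = Q x := by
  constructor
  · intro h x
    exact h x x
  · intro h x _
    exact h x

theorem refl_sq (Q : QuadraticForm F (ι → F)) (u : ι → F) (hu : Q u ≠ 0) :
    Cfsg.reflectionMatrix ⇑Q u * Cfsg.reflectionMatrix ⇑Q u = 1 := by
  rw [Matrix.ext_iff_mulVec]
  intro x
  rw [← Matrix.mulVec_mulVec, Matrix.one_mulVec, reflectionMatrix_mulVec, reflectionMatrix_mulVec]
  have h1 : QuadraticMap.polar (⇑Q) u (x - ((Q u)⁻¹ * QuadraticMap.polar (⇑Q) u x) • u)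
      = - QuadraticMap.polar (⇑Q) u x := by
    rw [QuadraticMap.polar_sub_right, QuadraticMap.polar_smul_right, QuadraticMap.polar_self]
    simp only [smul_eq_mul, nsmul_eq_mul, Nat.cast_ofNat]
    field_simp
    ring
  rw [h1]
  module

/-- The reflection along `u` as an element of the isometry group. -/
noncomputable def refl (Q : QuadraticForm F (ι → F)) (u : ι → F) (hu : Q u ≠ 0) :
    ↥(Cfsg.isometryGroup F ⇑Q) :=
  ⟨⟨Cfsg.reflectionMatrix ⇑Q u, Cfsg.reflectionMatrix ⇑Q u, refl_sq Q u hu, refl_sq Q u hu⟩,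
    (mem_iso Q _).mpr (fun x => Cfsg.Agent.Lib.Helper16.refl_pres Q u hu x)⟩

theorem refl_coe (Q : QuadraticForm F (ι → F)) (u : ι → F) (hu : Q u ≠ 0) :
    ((refl Q u hu : Matrix.GeneralLinearGroup (ι) F) : Matrix (ι) (ι) F)
      = Cfsg.reflectionMatrix ⇑Q u := rfl

/-- The set of reflections inside the isometry group. -/
def Rset (Q : QuadraticForm F (ι → F)) : Set ↥(Cfsg.isometryGroup F ⇑Q) :=
  {g | ∃ v : ι → F, Q v ≠ 0 ∧
    ((g : Matrix.GeneralLinearGroup (ι) F) : Matrix (ι) (ι) F) = Cfsg.reflectionMatrix ⇑Q v}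

theorem refl_mem (Q : QuadraticForm F (ι → F)) (u : ι → F) (hu : Q u ≠ 0) :
    refl Q u hu ∈ Rset Q := ⟨u, hu, rfl⟩

theorem iso_ext (Q : QuadraticForm F (ι → F)) (g h : ↥(Cfsg.isometryGroup F ⇑Q))
    (hgh : ((g : Matrix.GeneralLinearGroup (ι) F) : Matrix (ι) (ι) F)
      = ((h : Matrix.GeneralLinearGroup (ι) F) : Matrix (ι) (ι) F)) : g = h :=
  Subtype.ext (Units.ext hgh)

theorem Rset_sq (Q : QuadraticForm F (ι → F)) (r : ↥(Cfsg.isometryGroup F ⇑Q)) (hr : r ∈ Rset Q) :
    r * r = 1 := by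
  obtain ⟨u, hu, hru⟩ := hr
  apply iso_ext
  show ((r : Matrix.GeneralLinearGroup (ι) F) : Matrix (ι) (ι) F) *
    ((r : Matrix.GeneralLinearGroup (ι) F) : Matrix (ι) (ι) F) = 1
  rw [hru, refl_sq Q u hu]

theorem Rset_inv (Q : QuadraticForm F (ι → F)) (r : ↥(Cfsg.isometryGroup F ⇑Q)) (hr : r ∈ Rset Q) :
    r⁻¹ = r := inv_eq_of_mul_eq_one_left (Rset_sq Q r hr)

theorem polar_iso (Q : QuadraticForm F (ι → F)) (g : ↥(Cfsg.isometryGroup F ⇑Q)) (x y : ι → F) :
    QuadraticMap.polar (⇑Q) (((g : Matrix.GeneralLinearGroup (ι) F) : Matrix (ι) (ι) F) *ᵥ x)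
      (((g : Matrix.GeneralLinearGroup (ι) F) : Matrix (ι) (ι) F) *ᵥ y)
      = QuadraticMap.polar (⇑Q) x y := by
  have h := (mem_iso Q g.1).mp g.2
  unfold QuadraticMap.polar
  rw [← Matrix.mulVec_add, h, h, h]

theorem mul_mulVec (Q : QuadraticForm F (ι → F)) (g h : ↥(Cfsg.isometryGroup F ⇑Q)) (x : ι → F) :
    (((g * h : ↥(Cfsg.isometryGroup F ⇑Q)) : Matrix.GeneralLinearGroup (ι) F) : Matrix (ι) (ι) F) *ᵥ x
      = ((g : Matrix.GeneralLinearGroup (ι) F) : Matrix (ι) (ι) F) *ᵥ
        (((h : Matrix.GeneralLinearGroup (ι) F) : Matrix (ι) (ι) F) *ᵥ x) := by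
  rw [Matrix.mulVec_mulVec]; rfl


abbrev perp (Q : QuadraticForm F (ι → F)) (W : Submodule F (ι → F)) : Submodule F (ι → F) :=
  LinearMap.BilinForm.orthogonal (QuadraticMap.polarBilin Q) W

theorem mem_perp (Q : QuadraticForm F (ι → F)) (W : Submodule F (ι → F)) (x : ι → F) :
    x ∈ perp Q W ↔ ∀ w ∈ W, QuadraticMap.polar (⇑Q) w x = 0 :=
  LinearMap.BilinForm.mem_orthogonal_iff

theorem polarBilin_isRefl (Q : QuadraticForm F (ι → F)) :
    LinearMap.BilinForm.IsRefl (QuadraticMap.polarBilin Q) := by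
  intro x y h
  show QuadraticMap.polar (⇑Q) y x = 0
  rw [QuadraticMap.polar_comm]; exact h

theorem exists_aniso (Q : QuadraticForm F (ι → F)) (hQ : (QuadraticMap.polarBilin Q).Nondegenerate)
    (W : Submodule F (ι → F)) (hW : W ⊓ perp Q W = ⊥) (hWtop : W ≠ ⊤) :
    ∃ v ∈ perp Q W, Q v ≠ 0 := by
  by_contra hcon
  push Not at hcon
  apply hWtop
  have hle : perp Q W ≤ perp Q (perp Q W) := by
    intro x hx
    rw [mem_perp]
    intro y hy
    unfold QuadraticMap.polar
    rw [hcon _ (Submodule.add_mem _ hy hx), hcon y hy, hcon x hx]; ring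
  have hpp : perp Q (perp Q W) = W :=
    LinearMap.BilinForm.orthogonal_orthogonal hQ (polarBilin_isRefl Q) W
  rw [hpp] at hle
  have hbot : perp Q W = ⊥ := by
    rw [eq_bot_iff, ← hW]
    exact le_inf hle le_rfl
  have hfr := LinearMap.BilinForm.finrank_orthogonal (B := QuadraticMap.polarBilin Q) hQ W
  have h0 : Module.finrank F ↥(perp Q W) = 0 := by rw [hbot]; exact finrank_bot F _
  have hle' := Submodule.finrank_le W
  apply Submodule.eq_top_of_finrank_eq
  have : Module.finrank F ↥(perp Q W) = Module.finrank F (ι → F) - Module.finrank F ↥W := hfr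
  omega

theorem Q_sub (Q : QuadraticForm F (ι → F)) (a b : ι → F) :
    Q (a - b) = Q a + Q b - QuadraticMap.polar (⇑Q) a b := by
  have h1 : Q (a + -b) = Q a + Q (-b) + QuadraticMap.polar (⇑Q) a (-b) := by
    unfold QuadraticMap.polar; ring
  rw [sub_eq_add_neg, h1, QuadraticMap.map_neg, QuadraticMap.polar_neg_right]; ring

theorem refl_swap_sub (Q : QuadraticForm F (ι → F)) (v w : ι → F) (hvw : Q w = Q v)
    (h : Q (w - v) ≠ 0) : Cfsg.reflectionMatrix ⇑Q (w - v) *ᵥ w = v := by
  rw [reflectionMatrix_mulVec]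
  have h1 : QuadraticMap.polar (⇑Q) (w - v) w = Q (w - v) := by
    have e1 : Q (w - v) = Q w + Q v - QuadraticMap.polar (⇑Q) w v := Q_sub Q w v
    rw [QuadraticMap.polar_sub_left, QuadraticMap.polar_self, e1, hvw, QuadraticMap.polar_comm (⇑Q) v w]
    simp only [nsmul_eq_mul, Nat.cast_ofNat]
    ring
  rw [h1, inv_mul_cancel₀ h, one_smul]
  abel

theorem refl_swap_add (Q : QuadraticForm F (ι → F)) (v w : ι → F) (hvw : Q w = Q v)
    (h : Q (w + v) ≠ 0) : Cfsg.reflectionMatrix ⇑Q (w + v) *ᵥ w = -v := by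
  rw [reflectionMatrix_mulVec]
  have h1 : QuadraticMap.polar (⇑Q) (w + v) w = Q (w + v) := by
    have e1 : Q (w + v) = Q w + Q v + QuadraticMap.polar (⇑Q) w v := by
      unfold QuadraticMap.polar; ring
    rw [QuadraticMap.polar_add_left, QuadraticMap.polar_self, e1, hvw, QuadraticMap.polar_comm (⇑Q) v w]
    simp only [nsmul_eq_mul, Nat.cast_ofNat]
    ring
  rw [h1, inv_mul_cancel₀ h, one_smul]
  abel

theorem sub_or_add_aniso (h2 : (2 : F) ≠ 0) (Q : QuadraticForm F (ι → F)) (v w : ι → F)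
    (hvw : Q w = Q v) (hv : Q v ≠ 0) : Q (w - v) ≠ 0 ∨ Q (w + v) ≠ 0 := by
  by_contra hcon
  push Not at hcon
  have e1 : Q (w + v) = Q w + Q v + QuadraticMap.polar (⇑Q) w v := by
    unfold QuadraticMap.polar; ring
  have e2 : Q (w - v) = Q w + Q v - QuadraticMap.polar (⇑Q) w v := Q_sub Q w v
  have : 2 * 2 * Q v = 0 := by
    linear_combination hcon.1 + hcon.2 - e1 - e2 - 2 * hvw
  rcases mul_eq_zero.mp this with h | h
  · exact h2 ((mul_self_eq_zero).mp h)
  · exact hv h

theorem nondeg_sup (h2 : (2 : F) ≠ 0) (Q : QuadraticForm F (ι → F)) (W : Submodule F (ι → F))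
    (hW : W ⊓ perp Q W = ⊥) (v : ι → F) (hv : v ∈ perp Q W) (hQv : Q v ≠ 0) :
    (W ⊔ Submodule.span F {v}) ⊓ perp Q (W ⊔ Submodule.span F {v}) = ⊥ ∧ W < W ⊔ Submodule.span F {v} := by
  constructor
  · rw [eq_bot_iff]
    rintro z ⟨hz1, hz2'⟩
    obtain ⟨a, ha, b, hb, rfl⟩ := Submodule.mem_sup.mp hz1
    obtain ⟨c, rfl⟩ := Submodule.mem_span_singleton.mp hb
    have hz2 : a + c • v ∈ perp Q (W ⊔ Submodule.span F {v}) := hz2'
    rw [mem_perp] at hz2 hv
    have hvv := hz2 v (Submodule.mem_sup_right (Submodule.mem_span_singleton_self v))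
    rw [QuadraticMap.polar_add_right, QuadraticMap.polar_smul_right, QuadraticMap.polar_self,
      QuadraticMap.polar_comm, hv a ha] at hvv
    simp only [smul_eq_mul, nsmul_eq_mul, Nat.cast_ofNat, zero_add] at hvv
    have hc : c = 0 := by
      rcases mul_eq_zero.mp hvv with h | h
      · exact h
      · rcases mul_eq_zero.mp h with h' | h'
        · exact absurd h' h2
        · exact absurd h' hQv
    subst hc
    rw [zero_smul, add_zero] at hz2 ⊢
    rw [← hW]
    refine ⟨ha, ?_⟩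
    show a ∈ perp Q W
    rw [mem_perp]
    intro w hw
    exact hz2 w (Submodule.mem_sup_left hw)
  · refine lt_of_le_of_ne le_sup_left ?_
    intro heq
    have hvW : v ∈ W := by
      rw [heq]
      exact Submodule.mem_sup_right (Submodule.mem_span_singleton_self v)
    have : v ∈ W ⊓ perp Q W := ⟨hvW, hv⟩
    rw [hW, Submodule.mem_bot] at this
    rw [this, QuadraticMap.map_zero] at hQv
    exact hQv rfl


theorem refl_fix (Q : QuadraticForm F (ι → F)) (W : Submodule F (ι → F)) (u : ι → F)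
    (hu : Q u ≠ 0) (huW : u ∈ perp Q W) (x : ι → F) (hx : x ∈ W) :
    Cfsg.reflectionMatrix ⇑Q u *ᵥ x = x := by
  apply refl_fix_polar Q u
  rw [QuadraticMap.polar_comm]
  exact (mem_perp Q W u).mp huW x hx

theorem fix_sup (W : Submodule F (ι → F)) (v : ι → F) (M : Matrix (ι) (ι) F)
    (hW : ∀ w ∈ W, M *ᵥ w = w) (hv : M *ᵥ v = v) : ∀ w ∈ W ⊔ Submodule.span F {v}, M *ᵥ w = w := by
  intro z hz
  obtain ⟨a, ha, b, hb, rfl⟩ := Submodule.mem_sup.mp hz
  obtain ⟨c, rfl⟩ := Submodule.mem_span_singleton.mp hb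
  rw [Matrix.mulVec_add, Matrix.mulVec_smul, hW a ha, hv]

theorem cd_aux (h2 : (2 : F) ≠ 0) (Q : QuadraticForm F (ι → F))
    (hQ : (QuadraticMap.polarBilin Q).Nondegenerate) :
    ∀ (k : ℕ) (W : Submodule F (ι → F)), W ⊓ perp Q W = ⊥ →
      Module.finrank F (ι → F) ≤ Module.finrank F W + k →
      ∀ g : ↥(Cfsg.isometryGroup F ⇑Q),
        (∀ w ∈ W, ((g : Matrix.GeneralLinearGroup (ι) F) : Matrix (ι) (ι) F) *ᵥ w = w) →
        g ∈ Subgroup.closure (Rset Q) := by
  intro k
  induction k with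
  | zero =>
    intro W _ hfr g hg
    have hW : W = ⊤ := by
      apply Submodule.eq_top_of_finrank_eq
      have := Submodule.finrank_le W
      omega
    have : g = 1 := by
      apply iso_ext
      rw [Matrix.ext_iff_mulVec]
      intro x
      rw [hg x (hW ▸ Submodule.mem_top)]
      show x = (1 : Matrix (ι) (ι) F) *ᵥ x
      rw [Matrix.one_mulVec]
    rw [this]
    exact Subgroup.one_mem _
  | succ k ih =>
    intro W hWnd hfr g hg
    by_cases hWtop : W = ⊤
    · have : g = 1 := by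
        apply iso_ext
        rw [Matrix.ext_iff_mulVec]
        intro x
        rw [hg x (hWtop ▸ Submodule.mem_top)]
        show x = (1 : Matrix (ι) (ι) F) *ᵥ x
        rw [Matrix.one_mulVec]
      rw [this]
      exact Subgroup.one_mem _
    · obtain ⟨v, hvW, hQv⟩ := exists_aniso Q hQ W hWnd hWtop
      set w := ((g : Matrix.GeneralLinearGroup (ι) F) : Matrix (ι) (ι) F) *ᵥ v with hw
      have hQw : Q w = Q v := (mem_iso Q g.1).mp g.2 v
      have hwW : w ∈ perp Q W := by
        rw [mem_perp]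
        intro x hx
        rw [← hg x hx, hw, polar_iso]
        exact (mem_perp Q W v).mp hvW x hx
      obtain ⟨hnd', hlt⟩ := nondeg_sup h2 Q W hWnd v hvW hQv
      have hfr' : Module.finrank F (ι → F) ≤ Module.finrank F ↥(W ⊔ Submodule.span F {v}) + k := by
        have := Submodule.finrank_lt_finrank_of_lt hlt
        omega
      rcases sub_or_add_aniso h2 Q v w hQw hQv with hsub | hadd
      · -- one reflection
        have hr := refl_mem Q (w - v) hsub
        have hg' : refl Q (w - v) hsub * g ∈ Subgroup.closure (Rset Q) := by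
          apply ih _ hnd' hfr'
          apply fix_sup
          · intro x hx
            rw [mul_mulVec, hg x hx, refl_coe]
            exact refl_fix Q W _ hsub (Submodule.sub_mem _ hwW hvW) x hx
          · rw [mul_mulVec, ← hw, refl_coe]
            exact refl_swap_sub Q v w hQw hsub
        have : g = refl Q (w - v) hsub * (refl Q (w - v) hsub * g) := by
          rw [← mul_assoc, Rset_sq Q _ hr, one_mul]
        rw [this]
        exact Subgroup.mul_mem _ (Subgroup.subset_closure hr) hg'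
      · -- two reflections
        have hr1 := refl_mem Q (w + v) hadd
        have hr2 := refl_mem Q v hQv
        have hg' : refl Q v hQv * (refl Q (w + v) hadd * g) ∈ Subgroup.closure (Rset Q) := by
          apply ih _ hnd' hfr'
          apply fix_sup
          · intro x hx
            rw [mul_mulVec, mul_mulVec, hg x hx, refl_coe, refl_coe,
              refl_fix Q W _ hadd (Submodule.add_mem _ hwW hvW) x hx]
            exact refl_fix Q W _ hQv hvW x hx
          · rw [mul_mulVec, mul_mulVec, ← hw, refl_coe, refl_coe, refl_swap_add Q v w hQw hadd,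
              Matrix.mulVec_neg, refl_self' Q v hQv, neg_neg]
        have : g = refl Q (w + v) hadd * (refl Q v hQv * (refl Q v hQv * (refl Q (w + v) hadd * g))) := by
          rw [← mul_assoc (refl Q v hQv), Rset_sq Q _ hr2, one_mul, ← mul_assoc, Rset_sq Q _ hr1, one_mul]
        rw [this]
        exact Subgroup.mul_mem _ (Subgroup.subset_closure hr1)
          (Subgroup.mul_mem _ (Subgroup.subset_closure hr2) hg')

/-- Cartan–Dieudonné (weak form, odd characteristic): the isometry group is generated by reflections. -/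
theorem cartan_dieudonne (h2 : (2 : F) ≠ 0) (Q : QuadraticForm F (ι → F))
    (hQ : (QuadraticMap.polarBilin Q).Nondegenerate) : Subgroup.closure (Rset Q) = ⊤ := by
  rw [eq_top_iff]
  intro g _
  apply cd_aux h2 Q hQ (Module.finrank F (ι → F)) ⊥
  · simp
  · omega
  · intro w hw
    rw [Submodule.mem_bot] at hw
    rw [hw, Matrix.mulVec_zero]

end Cfsg.Agent.Lib.Helper16.CDG
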