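import Mathlib
import Cfsg.Agent.Lib.Helper16.SpinG
import Cfsg.Agent.Lib.Helper16.CDG

set_option autoImplicit false
set_option linter.unusedSectionVars false
set_option linter.unusedSimpArgs false
set_option linter.unusedVariables false

namespace Cfsg.Agent.Lib.Helper16

open Matrix Module Cfsg.Agent.Lib.helper6

variable {ι₁ ι₂ : Type} [Fintype ι₁] [DecidableEq ι₁] [Fintype ι₂] [DecidableEq ι₂]
  {F : Type*} [Field F]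

noncomputable def sumQF (Q₁ : QuadraticForm F (ι₁ → F)) (Q₂ : QuadraticForm F (ι₂ → F)) :
    QuadraticForm F (ι₁ ⊕ ι₂ → F) :=
  qfOfEq (Q₁.comp (LinearMap.funLeft F F (Sum.inl : ι₁ → ι₁ ⊕ ι₂)) +
      Q₂.comp (LinearMap.funLeft F F (Sum.inr : ι₂ → ι₁ ⊕ ι₂)))
    (fun v => Q₁ (v ∘ Sum.inl) + Q₂ (v ∘ Sum.inr)) (by
      intro v
      rfl)

theorem sumQF_coe (Q₁ : QuadraticForm F (ι₁ → F)) (Q₂ : QuadraticForm F (ι₂ → F)) :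
    ⇑(sumQF Q₁ Q₂) = fun v : ι₁ ⊕ ι₂ → F => Q₁ (v ∘ Sum.inl) + Q₂ (v ∘ Sum.inr) := rfl

theorem sumQF_apply (Q₁ : QuadraticForm F (ι₁ → F)) (Q₂ : QuadraticForm F (ι₂ → F))
    (v : ι₁ ⊕ ι₂ → F) : sumQF Q₁ Q₂ v = Q₁ (v ∘ Sum.inl) + Q₂ (v ∘ Sum.inr) := rfl

theorem sumQF_polar (Q₁ : QuadraticForm F (ι₁ → F)) (Q₂ : QuadraticForm F (ι₂ → F))
    (x y : ι₁ ⊕ ι₂ → F) :
    QuadraticMap.polar (⇑(sumQF Q₁ Q₂)) x y =
      QuadraticMap.polar (⇑Q₁) (x ∘ Sum.inl) (y ∘ Sum.inl) +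
      QuadraticMap.polar (⇑Q₂) (x ∘ Sum.inr) (y ∘ Sum.inr) := by
  unfold QuadraticMap.polar
  rw [sumQF_apply, sumQF_apply, sumQF_apply]
  have h1 : (x + y) ∘ Sum.inl = x ∘ Sum.inl + y ∘ (Sum.inl : ι₁ → ι₁ ⊕ ι₂) := rfl
  have h2 : (x + y) ∘ Sum.inr = x ∘ Sum.inr + y ∘ (Sum.inr : ι₂ → ι₁ ⊕ ι₂) := rfl
  rw [h1, h2]
  ring

theorem sumQF_nondeg (Q₁ : QuadraticForm F (ι₁ → F)) (Q₂ : QuadraticForm F (ι₂ → F))
    (h₁ : (QuadraticMap.polarBilin Q₁).Nondegenerate)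
    (h₂ : (QuadraticMap.polarBilin Q₂).Nondegenerate) :
    (QuadraticMap.polarBilin (sumQF Q₁ Q₂)).Nondegenerate := by
  have hleft : ∀ x : ι₁ ⊕ ι₂ → F,
      (∀ y, QuadraticMap.polarBilin (sumQF Q₁ Q₂) x y = 0) → x = 0 := by
    intro x hx
    have e1 : x ∘ Sum.inl = 0 := by
      apply h₁.1
      intro y
      have := hx (Sum.elim y 0)
      rw [QuadraticMap.polarBilin_apply_apply, sumQF_polar] at this
      rw [QuadraticMap.polarBilin_apply_apply]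
      have h0 : (Sum.elim y (0 : ι₂ → F)) ∘ Sum.inr = 0 := rfl
      have h1 : (Sum.elim y (0 : ι₂ → F)) ∘ Sum.inl = y := rfl
      rw [h0, h1] at this
      simpa using this
    have e2 : x ∘ Sum.inr = 0 := by
      apply h₂.1
      intro y
      have := hx (Sum.elim 0 y)
      rw [QuadraticMap.polarBilin_apply_apply, sumQF_polar] at this
      rw [QuadraticMap.polarBilin_apply_apply]
      have h0 : (Sum.elim (0 : ι₁ → F) y) ∘ Sum.inl = 0 := rfl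
      have h1 : (Sum.elim (0 : ι₁ → F) y) ∘ Sum.inr = y := rfl
      rw [h0, h1] at this
      simpa using this
    funext k
    rcases k with i | j
    · exact congrFun e1 i
    · exact congrFun e2 j
  refine ⟨hleft, ?_⟩
  intro y hy
  apply hleft
  intro x
  have := hy x
  rw [QuadraticMap.polarBilin_apply_apply] at this ⊢
  rw [QuadraticMap.polar_comm]; exact this

def blkL (ι₁ ι₂ : Type) [Fintype ι₁] [DecidableEq ι₁] [Fintype ι₂] [DecidableEq ι₂]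
    (F : Type*) [Field F] : Matrix ι₁ ι₁ F →* Matrix (ι₁ ⊕ ι₂) (ι₁ ⊕ ι₂) F where
  toFun M := Matrix.fromBlocks M 0 0 1
  map_one' := Matrix.fromBlocks_one
  map_mul' A B := by
    rw [Matrix.fromBlocks_multiply]
    simp

theorem blkL_mulVec (M : Matrix ι₁ ι₁ F) (x : ι₁ ⊕ ι₂ → F) :
    blkL ι₁ ι₂ F M *ᵥ x = Sum.elim (M *ᵥ (x ∘ Sum.inl)) (x ∘ Sum.inr) := by
  show Matrix.fromBlocks M 0 0 1 *ᵥ x = _
  rw [Matrix.fromBlocks_mulVec]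
  simp

noncomputable def embL (Q₁ : QuadraticForm F (ι₁ → F)) (Q₂ : QuadraticForm F (ι₂ → F)) :
    ↥(Cfsg.isometryGroup F ⇑Q₁) →* ↥(Cfsg.isometryGroup F ⇑(sumQF Q₁ Q₂)) :=
  MonoidHom.codRestrict ((Units.map (blkL ι₁ ι₂ F)).comp (Subgroup.subtype _)) _ (by
    intro g
    rw [mem_iso_iff]
    intro x
    show sumQF Q₁ Q₂ (blkL ι₁ ι₂ F ((g : GL ι₁ F) : Matrix ι₁ ι₁ F) *ᵥ x) = sumQF Q₁ Q₂ x
    rw [blkL_mulVec, sumQF_apply, sumQF_apply]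
    have e1 : (Sum.elim (((g : GL ι₁ F) : Matrix ι₁ ι₁ F) *ᵥ (x ∘ Sum.inl)) (x ∘ Sum.inr)) ∘ Sum.inl
        = ((g : GL ι₁ F) : Matrix ι₁ ι₁ F) *ᵥ (x ∘ Sum.inl) := rfl
    have e2 : (Sum.elim (((g : GL ι₁ F) : Matrix ι₁ ι₁ F) *ᵥ (x ∘ Sum.inl)) (x ∘ Sum.inr)) ∘ Sum.inr
        = x ∘ Sum.inr := rfl
    rw [e1, e2, iso_pres (⇑Q₁) g])

theorem embL_coe (Q₁ : QuadraticForm F (ι₁ → F)) (Q₂ : QuadraticForm F (ι₂ → F))
    (g : ↥(Cfsg.isometryGroup F ⇑Q₁)) :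
    ((embL Q₁ Q₂ g : GL (ι₁ ⊕ ι₂) F) : Matrix (ι₁ ⊕ ι₂) (ι₁ ⊕ ι₂) F)
      = Matrix.fromBlocks ((g : GL ι₁ F) : Matrix ι₁ ι₁ F) 0 0 1 := rfl

theorem sumQF_inl (Q₁ : QuadraticForm F (ι₁ → F)) (Q₂ : QuadraticForm F (ι₂ → F)) (u : ι₁ → F) :
    sumQF Q₁ Q₂ (Sum.elim u 0) = Q₁ u := by
  rw [sumQF_apply]
  have h0 : (Sum.elim u (0 : ι₂ → F)) ∘ Sum.inr = 0 := rfl
  have h1 : (Sum.elim u (0 : ι₂ → F)) ∘ Sum.inl = u := rfl
  rw [h0, h1, QuadraticMap.map_zero, add_zero]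

theorem embL_refl_coe (Q₁ : QuadraticForm F (ι₁ → F)) (Q₂ : QuadraticForm F (ι₂ → F))
    (u : ι₁ → F) :
    Matrix.fromBlocks (Cfsg.reflectionMatrix ⇑Q₁ u) 0 0 (1 : Matrix ι₂ ι₂ F)
      = Cfsg.reflectionMatrix ⇑(sumQF Q₁ Q₂) (Sum.elim u 0) := by
  rw [Matrix.ext_iff_mulVec]
  intro x
  have := blkL_mulVec (ι₂ := ι₂) (Cfsg.reflectionMatrix ⇑Q₁ u) x
  rw [show blkL ι₁ ι₂ F (Cfsg.reflectionMatrix ⇑Q₁ u)
    = Matrix.fromBlocks (Cfsg.reflectionMatrix ⇑Q₁ u) 0 0 1 from rfl] at this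
  rw [this, reflectionMatrix_mulVec, reflectionMatrix_mulVec, sumQF_inl, sumQF_polar]
  have h0 : (Sum.elim u (0 : ι₂ → F)) ∘ Sum.inr = 0 := rfl
  have h1 : (Sum.elim u (0 : ι₂ → F)) ∘ Sum.inl = u := rfl
  rw [h0, h1, QuadraticMap.polar_zero_left, add_zero]
  funext i
  rcases i with i | j
  · simp
  · simp

end Cfsg.Agent.Lib.Helper16
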