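import Mathlib
import Cfsg.Agent.Lib.Helper16.OClass1
import Cfsg.Agent.Lib.Helper16.OType1
import Cfsg.Agent.Lib.Helper16.SumQF

set_option autoImplicit false
set_option linter.unusedSectionVars false
set_option linter.unusedSimpArgs false
set_option linter.unusedVariables false
set_option linter.unusedTactic false

namespace Cfsg.Agent.Lib.Helper16.OSemi

open Matrix Module Cfsg.Agent.Lib.Helper16

universe u

variable {F : Type u} [Field F]

theorem aniso_of_irred (ζ : F) (hζ : ∀ t : F, t ^ 2 + t + ζ ≠ 0) :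
    ∀ z₁ z₂ : F, z₁ ^ 2 + 1 * z₁ * z₂ + ζ * z₂ ^ 2 = 0 → z₁ = 0 ∧ z₂ = 0 := by
  intro z₁ z₂ h
  by_cases h2 : z₂ = 0
  · rw [h2] at h
    simp only [mul_zero, add_zero, ne_eq, OfNat.ofNat_ne_zero, not_false_eq_true, zero_pow] at h
    exact ⟨pow_eq_zero_iff (two_ne_zero) |>.mp h, h2⟩
  · exfalso
    apply hζ (z₁ / z₂)
    field_simp
    linear_combination h

/-- nondegeneracy transports along a linear equivalence. -/
theorem nondeg_of_equiv {V V' : Type*} [AddCommGroup V] [Module F V] [AddCommGroup V']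
    [Module F V'] (Q : QuadraticForm F V) (Q' : QuadraticForm F V') (Φ : V' ≃ₗ[F] V)
    (h : ∀ v, Q (Φ v) = Q' v) (hQ : (QuadraticMap.polarBilin Q).Nondegenerate) :
    (QuadraticMap.polarBilin Q').Nondegenerate := by
  have hpol : ∀ x y, QuadraticMap.polar ⇑Q' x y = QuadraticMap.polar ⇑Q (Φ x) (Φ y) := by
    intro x y
    unfold QuadraticMap.polar
    rw [← h, ← h, ← h, map_add]
  constructor
  · intro x hx
    have h1 : Φ x = 0 := by
      apply hQ.1
      intro y'
      have := hx (Φ.symm y')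
      rw [QuadraticMap.polarBilin_apply_apply, hpol, LinearEquiv.apply_symm_apply] at this
      rw [QuadraticMap.polarBilin_apply_apply]
      exact this
    exact Φ.map_eq_zero_iff.mp h1
  · intro y hy
    have h1 : Φ y = 0 := by
      apply hQ.2
      intro x'
      have := hy (Φ.symm x')
      rw [QuadraticMap.polarBilin_apply_apply, hpol, LinearEquiv.apply_symm_apply] at this
      rw [QuadraticMap.polarBilin_apply_apply]
      exact this
    exact Φ.map_eq_zero_iff.mp h1

theorem isType_of_equiv [Fintype F] {V V' : Type*} [AddCommGroup V] [Module F V] [AddCommGroup V']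
    [Module F V'] (Q : V → F) (Q' : V' → F) (Φ : V' ≃ₗ[F] V)
    (h : ∀ v, Q (Φ v) = Q' v) (m : ℕ) (s : ℤ) : IsType Q m s ↔ IsType Q' m s :=
  isType_congr Φ.toEquiv Q Q' h m s

theorem to_std_plus [Fintype F] {ι : Type} [Fintype ι] [DecidableEq ι] (Qf : QuadraticForm F (ι → F))
    (hnd : (QuadraticMap.polarBilin Qf).Nondegenerate) (m : ℕ) (hm : 1 ≤ m)
    (hcard : Fintype.card ι = 2 * m) (ht : IsType (⇑Qf) m 1) :
    ∃ Φ : (Fin m ⊕ Fin m → F) ≃ₗ[F] (ι → F), ∀ v, Qf (Φ v) = Cfsg.quadFormPlus m F v := by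
  rcases classify hm hcard Qf hnd with h | ⟨ζ, hζ, Φ, hΦ⟩
  · exact h
  · exfalso
    have h1 := isType_minus (m - 1) 1 ζ (aniso_of_irred ζ hζ)
    rw [show m - 1 + 1 = m by omega] at h1
    have h2 := (isType_of_equiv (⇑Qf) _ Φ hΦ m (-1)).mpr h1
    exact isType_unique _ m ht h2

/-- an isometry given as a linear equivalence, as an element of the isometry group. -/
theorem iso_of_equiv {κ : Type} [Fintype κ] [DecidableEq κ] (Q : (κ → F) → F)
    (T : (κ → F) ≃ₗ[F] (κ → F)) (hT : ∀ v, Q (T v) = Q v) :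
    ∃ B : ↥(Cfsg.isometryGroup F Q), ∀ v, ((B : GL κ F) : Matrix κ κ F) *ᵥ v = T v := by
  have h1 : LinearMap.toMatrix' T.toLinearMap * LinearMap.toMatrix' T.symm.toLinearMap = 1 := by
    rw [← LinearMap.toMatrix'_comp, LinearEquiv.comp_coe, LinearEquiv.symm_trans_self,
      LinearEquiv.refl_toLinearMap, LinearMap.toMatrix'_id]
  have h2 : LinearMap.toMatrix' T.symm.toLinearMap * LinearMap.toMatrix' T.toLinearMap = 1 :=
    mul_eq_one_comm.mp h1
  have hmv : ∀ v, LinearMap.toMatrix' T.toLinearMap *ᵥ v = T v := by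
    intro v
    rw [← Matrix.toLin'_apply, Matrix.toLin'_toMatrix']
    rfl
  refine ⟨⟨⟨LinearMap.toMatrix' T.toLinearMap, LinearMap.toMatrix' T.symm.toLinearMap, h1, h2⟩, ?_⟩,
    hmv⟩
  rw [mem_iso_iff]
  intro v
  show Q (LinearMap.toMatrix' T.toLinearMap *ᵥ v) = Q v
  rw [hmv, hT]

end Cfsg.Agent.Lib.Helper16.OSemi
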