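import Mathlib
import Cfsg.Prelude.Def_LieTypeDatum

set_option autoImplicit false
set_option linter.unusedSectionVars false

namespace Cfsg.Agent.Lib.Helper16.PG

open Matrix

universe u

section
variable {F : Type u} [Field F]
variable {a b : Type} [Fintype a] [DecidableEq a] [Fintype b] [DecidableEq b]

/-- conjugation by an invertible rectangular matrix. -/
noncomputable def conjGL (P : Matrix a b F) (Pi : Matrix b a F) (h1 : P * Pi = 1) (h2 : Pi * P = 1) :
    GL a F ≃* GL b F where
  toFun h := ⟨Pi * (h : Matrix a a F) * P, Pi * ((h⁻¹ : GL a F) : Matrix a a F) * P, by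
      calc Pi * (h : Matrix a a F) * P * (Pi * ((h⁻¹ : GL a F) : Matrix a a F) * P)
          = Pi * ((h : Matrix a a F) * (P * Pi) * ((h⁻¹ : GL a F) : Matrix a a F)) * P := by
            simp only [Matrix.mul_assoc]
        _ = 1 := by
            rw [h1, Matrix.mul_one, ← Units.val_mul, mul_inv_cancel, Units.val_one, Matrix.mul_one, h2], by
      calc Pi * ((h⁻¹ : GL a F) : Matrix a a F) * P * (Pi * (h : Matrix a a F) * P)
          = Pi * (((h⁻¹ : GL a F) : Matrix a a F) * (P * Pi) * (h : Matrix a a F)) * P := by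
            simp only [Matrix.mul_assoc]
        _ = 1 := by
            rw [h1, Matrix.mul_one, ← Units.val_mul, inv_mul_cancel, Units.val_one, Matrix.mul_one, h2]⟩
  invFun h := ⟨P * (h : Matrix b b F) * Pi, P * ((h⁻¹ : GL b F) : Matrix b b F) * Pi, by
      calc P * (h : Matrix b b F) * Pi * (P * ((h⁻¹ : GL b F) : Matrix b b F) * Pi)
          = P * ((h : Matrix b b F) * (Pi * P) * ((h⁻¹ : GL b F) : Matrix b b F)) * Pi := by
            simp only [Matrix.mul_assoc]
        _ = 1 := by
            rw [h2, Matrix.mul_one, ← Units.val_mul, mul_inv_cancel, Units.val_one, Matrix.mul_one, h1], by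
      calc P * ((h⁻¹ : GL b F) : Matrix b b F) * Pi * (P * (h : Matrix b b F) * Pi)
          = P * (((h⁻¹ : GL b F) : Matrix b b F) * (Pi * P) * (h : Matrix b b F)) * Pi := by
            simp only [Matrix.mul_assoc]
        _ = 1 := by
            rw [h2, Matrix.mul_one, ← Units.val_mul, inv_mul_cancel, Units.val_one, Matrix.mul_one, h1]⟩
  left_inv h := by
    apply Units.ext
    show P * (Pi * (h : Matrix a a F) * P) * Pi = h
    calc P * (Pi * (h : Matrix a a F) * P) * Pi = (P * Pi) * (h : Matrix a a F) * (P * Pi) := by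
          simp only [Matrix.mul_assoc]
      _ = h := by rw [h1, Matrix.one_mul, Matrix.mul_one]
  right_inv h := by
    apply Units.ext
    show Pi * (P * (h : Matrix b b F) * Pi) * P = h
    calc Pi * (P * (h : Matrix b b F) * Pi) * P = (Pi * P) * (h : Matrix b b F) * (Pi * P) := by
          simp only [Matrix.mul_assoc]
      _ = h := by rw [h2, Matrix.one_mul, Matrix.mul_one]
  map_mul' h k := by
    apply Units.ext
    show Pi * ((h : Matrix a a F) * (k : Matrix a a F)) * P = Pi * (h : Matrix a a F) * P * (Pi * (k : Matrix a a F) * P)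
    calc Pi * ((h : Matrix a a F) * (k : Matrix a a F)) * P
        = Pi * ((h : Matrix a a F) * 1 * (k : Matrix a a F)) * P := by rw [Matrix.mul_one]
      _ = _ := by rw [← h1]; simp only [Matrix.mul_assoc]

theorem conjGL_val (P : Matrix a b F) (Pi : Matrix b a F) (h1 : P * Pi = 1) (h2 : Pi * P = 1) (h : GL a F) :
    ((conjGL P Pi h1 h2 h : GL b F) : Matrix b b F) = Pi * (h : Matrix a a F) * P := rfl

theorem conjGL_symm_val (P : Matrix a b F) (Pi : Matrix b a F) (h1 : P * Pi = 1) (h2 : Pi * P = 1) (h : GL b F) :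
    (((conjGL P Pi h1 h2).symm h : GL a F) : Matrix a a F) = P * (h : Matrix b b F) * Pi := rfl

theorem conjGL_scalars (P : Matrix a b F) (Pi : Matrix b a F) (h1 : P * Pi = 1) (h2 : Pi * P = 1) (h : GL a F) :
    conjGL P Pi h1 h2 h ∈ Cfsg.Geo.scalars b F ↔ h ∈ Cfsg.Geo.scalars a F := by
  rw [Cfsg.Geo.mem_scalars_iff, Cfsg.Geo.mem_scalars_iff, conjGL_val]
  constructor
  · rintro ⟨c, hc⟩
    refine ⟨c, ?_⟩
    have h3 : P * (Pi * (h : Matrix a a F) * P) * Pi = P * ((c : F) • (1 : Matrix b b F)) * Pi := by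
      rw [hc]
    have h4 : P * (Pi * (h : Matrix a a F) * P) * Pi = (P * Pi) * (h : Matrix a a F) * (P * Pi) := by
      simp only [Matrix.mul_assoc]
    rw [h4, h1, Matrix.one_mul, Matrix.mul_one, Matrix.mul_smul, Matrix.mul_one, Matrix.smul_mul, h1] at h3
    exact h3
  · rintro ⟨c, hc⟩
    refine ⟨c, ?_⟩
    rw [hc, Matrix.mul_smul, Matrix.mul_one, Matrix.smul_mul, h2]

/-- conjugate subgroups have isomorphic projective quotients. -/
theorem projQuot_congr (P : Matrix a b F) (Pi : Matrix b a F) (h1 : P * Pi = 1) (h2 : Pi * P = 1)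
    (H : Subgroup (GL a F)) (H' : Subgroup (GL b F))
    (hH : ∀ h : GL a F, h ∈ H ↔ conjGL P Pi h1 h2 h ∈ H') :
    Nonempty (Cfsg.projQuot H ≃* Cfsg.projQuot H') := by
  let e : ↥H →* ↥H' :=
    { toFun := fun h => ⟨conjGL P Pi h1 h2 h.1, (hH h.1).mp h.2⟩
      map_one' := by
        apply Subtype.ext
        exact map_one (conjGL P Pi h1 h2)
      map_mul' := by
        intro x y
        apply Subtype.ext
        exact map_mul (conjGL P Pi h1 h2) x.1 y.1 }
  let ψ : ↥H →* Cfsg.projQuot H' := (QuotientGroup.mk' _).comp e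
  have hsurj : Function.Surjective ψ := by
    intro x
    induction x using QuotientGroup.induction_on with
    | H h' =>
      have hmem : (conjGL P Pi h1 h2).symm h'.1 ∈ H := by
        rw [hH, MulEquiv.apply_symm_apply]
        exact h'.2
      refine ⟨⟨(conjGL P Pi h1 h2).symm h'.1, hmem⟩, ?_⟩
      show QuotientGroup.mk (e ⟨(conjGL P Pi h1 h2).symm h'.1, hmem⟩) = QuotientGroup.mk h'
      congr 1
      apply Subtype.ext
      show conjGL P Pi h1 h2 ((conjGL P Pi h1 h2).symm h'.1) = h'.1
      rw [MulEquiv.apply_symm_apply]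
  have hker : ψ.ker = (Cfsg.Geo.scalars a F).subgroupOf H := by
    ext x
    rw [MonoidHom.mem_ker, Subgroup.mem_subgroupOf]
    show QuotientGroup.mk (e x) = 1 ↔ _
    rw [QuotientGroup.eq_one_iff, Subgroup.mem_subgroupOf]
    exact conjGL_scalars P Pi h1 h2 x.1
  have e1 : ↥H ⧸ ψ.ker ≃* Cfsg.projQuot H' := QuotientGroup.quotientKerEquivOfSurjective ψ hsurj
  have e2 : ↥H ⧸ ψ.ker ≃* ↥H ⧸ (Cfsg.Geo.scalars a F).subgroupOf H :=
    QuotientGroup.quotientMulEquivOfEq hker
  exact ⟨e2.symm.trans e1⟩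

end

end Cfsg.Agent.Lib.Helper16.PG
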