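import Mathlib
import Cfsg.Prelude.Def_LieTypeDatum
import Cfsg.Agent.Lib.Helper16.PG5
import Cfsg.Agent.Lib.Helper16.PG4
import Cfsg.Agent.Lib.Helper16.OStd
import Cfsg.Agent.S2620
import Cfsg.Agent.S2621

set_option autoImplicit false
set_option linter.unusedSectionVars false

namespace Cfsg.Agent.Lib.Helper16.PG

open Matrix Module

universe u

section
variable {F : Type u} [Field F]

/-- the quadratic form with symmetric Gram matrix `M`: `v ↦ vᵀ M v`. -/
noncomputable def gramQ {ι : Type} [Fintype ι] [DecidableEq ι] (M : Matrix ι ι F) : QuadraticForm F (ι → F) :=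
  LinearMap.BilinMap.toQuadraticMap (Matrix.toLinearMap₂' F M : LinearMap.BilinForm F (ι → F))

theorem gramQ_apply {ι : Type} [Fintype ι] [DecidableEq ι] (M : Matrix ι ι F) (v : ι → F) :
    gramQ M v = bilM M v v := by
  unfold gramQ bilM
  rw [LinearMap.BilinMap.toQuadraticMap_apply, Matrix.toLinearMap₂'_apply']

theorem bilM_add_left {ι : Type} [Fintype ι] (M : Matrix ι ι F) (u u' v : ι → F) :
    bilM M (u + u') v = bilM M u v + bilM M u' v := by
  unfold bilM; rw [add_dotProduct]

theorem bilM_add_right {ι : Type} [Fintype ι] (M : Matrix ι ι F) (u v v' : ι → F) :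
    bilM M u (v + v') = bilM M u v + bilM M u v' := by
  unfold bilM; rw [Matrix.mulVec_add, dotProduct_add]

theorem bilM_symm {ι : Type} [Fintype ι] (M : Matrix ι ι F) (hM : Mᵀ = M) (u v : ι → F) :
    bilM M u v = bilM M v u := by
  unfold bilM
  rw [Matrix.dotProduct_mulVec, dotProduct_comm, ← Matrix.mulVec_transpose, hM]

theorem gramQ_polar {ι : Type} [Fintype ι] [DecidableEq ι] (M : Matrix ι ι F) (hM : Mᵀ = M) (u v : ι → F) :
    QuadraticMap.polar (gramQ M) u v = 2 * bilM M u v := by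
  unfold QuadraticMap.polar
  rw [gramQ_apply, gramQ_apply, gramQ_apply, bilM_add_left, bilM_add_right, bilM_add_right,
    bilM_symm M hM v u]
  ring

theorem gramQ_nondeg {ι : Type} [Fintype ι] [DecidableEq ι] (h2 : (2 : F) ≠ 0) (M : Matrix ι ι F)
    (hM : Mᵀ = M) (hdet : IsUnit M) :
    (QuadraticMap.polarBilin (gramQ M)).Nondegenerate := by
  have hleft : ∀ u, (∀ v, QuadraticMap.polarBilin (gramQ M) u v = 0) → u = 0 := by
    intro u hu
    have h1 : ∀ v, bilM M u v = 0 := by
      intro v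
      have := hu v
      rw [QuadraticMap.polarBilin_apply_apply, gramQ_polar M hM] at this
      exact (mul_eq_zero.mp this).resolve_left h2
    have h3 : Matrix.vecMul u M = 0 := by
      funext j
      have := h1 (Pi.single j 1)
      unfold bilM at this
      rw [Matrix.dotProduct_mulVec] at this
      simpa using this
    obtain ⟨U, hU⟩ := hdet
    have h4 : Matrix.vecMul (Matrix.vecMul u M) ((U⁻¹ : (Matrix ι ι F)ˣ) : Matrix ι ι F) = 0 := by
      rw [h3, Matrix.zero_vecMul]
    rw [Matrix.vecMul_vecMul, ← hU, Units.mul_inv, Matrix.vecMul_one] at h4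
    exact h4
  refine ⟨hleft, ?_⟩
  intro v hv
  apply hleft
  intro u
  rw [QuadraticMap.polarBilin_apply_apply, QuadraticMap.polar_comm]
  exact hv u

/-- for a symmetric Gram matrix in odd characteristic, similarities of the bilinear form and of the
quadratic form agree. -/
theorem bilSim_eq_quadSim {ι : Type} [Fintype ι] [DecidableEq ι] (h2 : (2 : F) ≠ 0) (M : Matrix ι ι F)
    (hM : Mᵀ = M) :
    Cfsg.Geo.similarityGroup (bilM M) = Cfsg.Geo.quadSimilarityGroup (fun v => gramQ M v) := by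
  ext h
  constructor
  · rintro ⟨c, hc⟩
    refine ⟨c, fun v => ?_⟩
    show gramQ M _ = _ * gramQ M v
    rw [gramQ_apply, gramQ_apply]
    exact hc v v
  · rintro ⟨c, hc⟩
    refine ⟨c, fun u v => ?_⟩
    have h1 : ∀ w, bilM M ((h : Matrix ι ι F) *ᵥ w) ((h : Matrix ι ι F) *ᵥ w) = (c : F) * bilM M w w := by
      intro w
      have := hc w
      simp only [gramQ_apply] at this
      exact this
    have h3 := h1 (u + v)
    rw [Matrix.mulVec_add, bilM_add_left, bilM_add_right, bilM_add_right, h1 u, h1 v,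
      bilM_symm M hM ((h : Matrix ι ι F) *ᵥ v) ((h : Matrix ι ι F) *ᵥ u),
      bilM_add_left, bilM_add_right, bilM_add_right, bilM_symm M hM v u] at h3
    have h4 : 2 * bilM M ((h : Matrix ι ι F) *ᵥ u) ((h : Matrix ι ι F) *ᵥ v) = 2 * ((c : F) * bilM M u v) := by
      linear_combination h3
    exact mul_left_cancel₀ h2 h4

/-- equivalent quadratic forms (up to a scalar) have isomorphic projective similarity groups. -/
theorem pgo_congr {a b : Type} [Fintype a] [DecidableEq a] [Fintype b] [DecidableEq b]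
    (Q : (a → F) → F) (Q' : (b → F) → F) (T : (b → F) ≃ₗ[F] (a → F)) (c₀ : F) (hc₀ : c₀ ≠ 0)
    (hT : ∀ v, Q (T v) = c₀ * Q' v) :
    Nonempty (Cfsg.PGO F Q ≃* Cfsg.PGO F Q') := by
  set P : Matrix a b F := LinearMap.toMatrix' T.toLinearMap with hP
  set Pi : Matrix b a F := LinearMap.toMatrix' T.symm.toLinearMap with hPi
  have h1 : P * Pi = 1 := by
    rw [hP, hPi, ← LinearMap.toMatrix'_comp, LinearEquiv.comp_coe, LinearEquiv.symm_trans_self,
      LinearEquiv.refl_toLinearMap, LinearMap.toMatrix'_id]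
  have h2 : Pi * P = 1 := by
    rw [hP, hPi, ← LinearMap.toMatrix'_comp, LinearEquiv.comp_coe, LinearEquiv.self_trans_symm,
      LinearEquiv.refl_toLinearMap, LinearMap.toMatrix'_id]
  have hPv : ∀ v, P *ᵥ v = T v := by
    intro v
    rw [hP, LinearMap.toMatrix'_mulVec]
    rfl
  have hPiv : ∀ v, Pi *ᵥ v = T.symm v := by
    intro v
    rw [hPi, LinearMap.toMatrix'_mulVec]
    rfl
  apply projQuot_congr P Pi h1 h2
  intro h
  constructor
  · rintro ⟨c, hc⟩
    refine ⟨c, fun v => ?_⟩
    rw [conjGL_val]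
    have h3 : Q (T ((Pi * (h : Matrix a a F) * P) *ᵥ v)) = c₀ * Q' ((Pi * (h : Matrix a a F) * P) *ᵥ v) := hT _
    have h4 : T ((Pi * (h : Matrix a a F) * P) *ᵥ v) = (h : Matrix a a F) *ᵥ (T v) := by
      rw [← hPv, Matrix.mulVec_mulVec, ← Matrix.mul_assoc, ← Matrix.mul_assoc, h1, Matrix.one_mul,
        ← Matrix.mulVec_mulVec, hPv]
    rw [h4, hc, hT] at h3
    have h5 : c₀ * Q' ((Pi * (h : Matrix a a F) * P) *ᵥ v) = c₀ * ((c : F) * Q' v) := by
      rw [← h3]; ring
    exact mul_left_cancel₀ hc₀ h5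
  · rintro ⟨c, hc⟩
    refine ⟨c, fun u => ?_⟩
    have h3 := hc (T.symm u)
    rw [conjGL_val] at h3
    have h4 : T ((Pi * (h : Matrix a a F) * P) *ᵥ (T.symm u)) = (h : Matrix a a F) *ᵥ u := by
      rw [← hPv, Matrix.mulVec_mulVec, ← Matrix.mul_assoc, ← Matrix.mul_assoc, h1, Matrix.one_mul,
        ← Matrix.mulVec_mulVec, hPv, LinearEquiv.apply_symm_apply]
    have h5 := hT ((Pi * (h : Matrix a a F) * P) *ᵥ (T.symm u))
    rw [h4, h3] at h5
    have h6 := hT (T.symm u)
    rw [LinearEquiv.apply_symm_apply] at h6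
    rw [h5, h6]
    ring

end

end Cfsg.Agent.Lib.Helper16.PG
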