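import Mathlib
import Cfsg.Prelude.Def_LieTypeDatum
import Cfsg.Agent.Lib.Helper16.PG6

set_option autoImplicit false
set_option linter.unusedSectionVars false

namespace Cfsg.Agent.Lib.Helper16.PG

open Matrix Module Cfsg.Agent.Lib.Helper16.OSemi

universe u

section
variable {F : Type u} [Field F]

theorem two_ne_zero_of_odd_card [Fintype F] (hodd : Odd (Fintype.card F)) : (2 : F) ≠ 0 := by
  intro h
  have h1 : ringChar F = 2 := CharP.ringChar_of_prime_eq_zero Nat.prime_two (by exact_mod_cast h)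
  have h2 := FiniteField.even_card_of_char_two h1
  rw [Nat.odd_iff] at hodd
  omega

theorem gramQ_one_polar_basis {n : ℕ} (i j : Fin n) :
    QuadraticMap.polar (gramQ (1 : Matrix (Fin n) (Fin n) F)) (Pi.single i 1) (Pi.single j 1) =
      if i = j then 2 else 0 := by
  rw [gramQ_polar _ Matrix.transpose_one]
  unfold bilM
  rw [Matrix.one_mulVec, single_dotProduct, one_mul, Pi.single_apply]
  by_cases h : i = j
  · subst h; simp
  · simp [h, Ne.symm h]

theorem isSquare_det_two (n m : ℕ) (hn : n = 2 * m) :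
    IsSquare (Matrix.of (fun i j : Fin n => if i = j then (2 : F) else 0)).det := by
  have : (Matrix.of (fun i j : Fin n => if i = j then (2 : F) else 0)) = Matrix.diagonal (fun _ => (2 : F)) := by
    ext i j
    simp [Matrix.diagonal_apply]
  rw [this, Matrix.det_diagonal, Finset.prod_const, Finset.card_univ, Fintype.card_fin, hn]
  exact ⟨2 ^ m, by rw [← pow_add]; congr 1; omega⟩

theorem polar_of_equiv {V V' : Type*} [AddCommGroup V] [Module F V] [AddCommGroup V'] [Module F V']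
    (Q : V → F) (Q' : V' → F) (Φ : V' ≃ₗ[F] V) (h : ∀ v, Q (Φ v) = Q' v) (x y : V') :
    QuadraticMap.polar Q' x y = QuadraticMap.polar Q (Φ x) (Φ y) := by
  unfold QuadraticMap.polar
  rw [← h, ← h, ← h, map_add]

theorem dot_type [Fintype F] {q : ℕ} (hF : Fintype.card F = q) (hq : Odd q) {m : ℕ} (hm : 1 ≤ m) (n : ℕ)
    (hn : n = 2 * m) :
    (Even (m * (q - 1) / 2) →
      ∃ Φ : (Fin m ⊕ Fin m → F) ≃ₗ[F] (Fin n → F),
        ∀ v, gramQ (1 : Matrix (Fin n) (Fin n) F) (Φ v) = Cfsg.quadFormPlus m F v) ∧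
    (¬ Even (m * (q - 1) / 2) →
      ∃ ζ : F, (∀ t : F, t ^ 2 + t + ζ ≠ 0) ∧
        ∃ Φ : ((Fin (m - 1) ⊕ Fin (m - 1)) ⊕ Fin 2 → F) ≃ₗ[F] (Fin n → F),
          ∀ v, gramQ (1 : Matrix (Fin n) (Fin n) F) (Φ v) = Cfsg.quadFormMinus (m - 1) F 1 ζ v) := by
  have h2 : (2 : F) ≠ 0 := two_ne_zero_of_odd_card (by rw [hF]; exact hq)
  have hnd := gramQ_nondeg h2 (1 : Matrix (Fin n) (Fin n) F) Matrix.transpose_one isUnit_one
  have hcard : Fintype.card (Fin n) = 2 * m := by rw [Fintype.card_fin, hn]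
  have hsq := isSquare_det_two (F := F) n m hn
  have key := classify hm hcard (gramQ (1 : Matrix (Fin n) (Fin n) F)) hnd
  constructor
  · intro hev
    rcases key with h | ⟨ζ, hζ, Φ, hΦ⟩
    · exact h
    · exfalso
      let b : Basis (Fin n) F ((Fin (m - 1) ⊕ Fin (m - 1)) ⊕ Fin 2 → F) := (Pi.basisFun F (Fin n)).map Φ.symm
      have h1 := Cfsg.Agent.S2621.result hF hq hm 1 ζ (aniso_of_irred ζ hζ) b
      have h3 : (Matrix.of (fun i j : Fin n => QuadraticMap.polar (Cfsg.quadFormMinus (m - 1) F 1 ζ) (b i) (b j))) =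
          Matrix.of (fun i j : Fin n => if i = j then (2 : F) else 0) := by
        ext i j
        rw [Matrix.of_apply, Matrix.of_apply,
          polar_of_equiv (fun v => gramQ (1 : Matrix (Fin n) (Fin n) F) v) _ Φ hΦ]
        show QuadraticMap.polar (gramQ (1 : Matrix (Fin n) (Fin n) F)) (Φ (b i)) (Φ (b j)) = _
        have hb : ∀ k, Φ (b k) = Pi.single k 1 := by
          intro k
          show Φ (((Pi.basisFun F (Fin n)).map Φ.symm) k) = _
          rw [Basis.map_apply, LinearEquiv.apply_symm_apply, Pi.basisFun_apply]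
        rw [hb, hb, gramQ_one_polar_basis]
      rw [h3] at h1
      exact h1.mp hsq hev
  · intro hodd
    rcases key with ⟨Φ, hΦ⟩ | h
    · exfalso
      let b : Basis (Fin n) F (Fin m ⊕ Fin m → F) := (Pi.basisFun F (Fin n)).map Φ.symm
      have h1 := Cfsg.Agent.S2620.result hF hq hm b
      have h3 : (Matrix.of (fun i j : Fin n => QuadraticMap.polar (Cfsg.quadFormPlus m F) (b i) (b j))) =
          Matrix.of (fun i j : Fin n => if i = j then (2 : F) else 0) := by
        ext i j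
        rw [Matrix.of_apply, Matrix.of_apply,
          polar_of_equiv (fun v => gramQ (1 : Matrix (Fin n) (Fin n) F) v) _ Φ hΦ]
        show QuadraticMap.polar (gramQ (1 : Matrix (Fin n) (Fin n) F)) (Φ (b i)) (Φ (b j)) = _
        have hb : ∀ k, Φ (b k) = Pi.single k 1 := by
          intro k
          show Φ (((Pi.basisFun F (Fin n)).map Φ.symm) k) = _
          rw [Basis.map_apply, LinearEquiv.apply_symm_apply, Pi.basisFun_apply]
        rw [hb, hb, gramQ_one_polar_basis]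
      rw [h3] at h1
      exact hodd (h1.mp hsq)
    · exact h

/-- `C_{Inndiag}(ι)` for `PSL_n`, `n = 2m`, `q` odd. -/
theorem cent_iota_odd [Fintype F] (hodd : Odd (Fintype.card F)) {n m : ℕ} (hm : 2 ≤ m) (hnm : n = 2 * m)
    (ι : MulAut (Matrix.ProjectiveSpecialLinearGroup (Fin n) F)) (hι : Cfsg.IsInverseTransposeAutPSL ι) :
    (Even (n * (Fintype.card F - 1) / 4) →
      Nonempty (↥(Cfsg.inndiagPSL n F ⊓ Subgroup.centralizer {ι}) ≃* Cfsg.PGO F (Cfsg.quadFormPlus m F))) ∧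
    (¬ Even (n * (Fintype.card F - 1) / 4) → ∃ a b : F,
      (∀ z₁ z₂ : F, z₁ ^ 2 + a * z₁ * z₂ + b * z₂ ^ 2 = 0 → z₁ = 0 ∧ z₂ = 0) ∧
      Nonempty (↥(Cfsg.inndiagPSL n F ⊓ Subgroup.centralizer {ι}) ≃*
        Cfsg.PGO F (Cfsg.quadFormMinus (m - 1) F a b))) := by
  have h2 : (2 : F) ≠ 0 := two_ne_zero_of_odd_card hodd
  have hι' : ι = Phi n F 1 * iota n F := by
    rw [map_one, one_mul]
    exact (isInvTranspose_iff ι).mp hι
  subst hι'
  obtain ⟨e0⟩ := cent_graph_equiv (1 : GL (Fin n) F)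
  have h1 : ((1⁻¹ : GL (Fin n) F) : Matrix (Fin n) (Fin n) F) = 1 := by
    rw [inv_one, Units.val_one]
  rw [h1, bilSim_eq_quadSim h2 _ Matrix.transpose_one] at e0
  have hdiv : n * (Fintype.card F - 1) / 4 = m * (Fintype.card F - 1) / 2 := by
    rw [hnm, mul_assoc, show (4 : ℕ) = 2 * 2 from rfl, Nat.mul_div_mul_left _ _ (by norm_num : 0 < 2)]
  rw [hdiv]
  obtain ⟨hplus, hminus⟩ := dot_type (F := F) rfl hodd (by omega : 1 ≤ m) n hnm
  constructor
  · intro hev
    obtain ⟨Φ, hΦ⟩ := hplus hev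
    obtain ⟨e1⟩ := pgo_congr (fun v => gramQ (1 : Matrix (Fin n) (Fin n) F) v) (Cfsg.quadFormPlus m F) Φ 1 one_ne_zero
      (by intro v; rw [one_mul]; exact hΦ v)
    exact ⟨e0.trans e1⟩
  · intro hne
    obtain ⟨ζ, hζ, Φ, hΦ⟩ := hminus hne
    refine ⟨1, ζ, aniso_of_irred ζ hζ, ?_⟩
    obtain ⟨e1⟩ := pgo_congr (fun v => gramQ (1 : Matrix (Fin n) (Fin n) F) v) (Cfsg.quadFormMinus (m - 1) F 1 ζ) Φ 1
      one_ne_zero (by intro v; rw [one_mul]; exact hΦ v)
    exact ⟨e0.trans e1⟩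

end

end Cfsg.Agent.Lib.Helper16.PG
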