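import Mathlib

set_option autoImplicit false
set_option linter.unusedSectionVars false
set_option linter.unusedSimpArgs false
set_option linter.unusedVariables false
set_option linter.unusedTactic false

namespace Cfsg.Agent.Lib.Helper16.FCR


theorem exists_idem_pow {R : Type*} [CommRing R] [Finite R] (x : R) :
    ∃ m, 1 ≤ m ∧ x ^ m * x ^ m = x ^ m := by
  obtain ⟨i, j, hij, hpow⟩ : ∃ i j : ℕ, i < j ∧ x ^ i = x ^ j := by
    have hni : ¬ Function.Injective (fun n : ℕ => x ^ n) := not_injective_infinite_finite _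
    rw [Function.Injective] at hni
    simp only [not_forall] at hni
    obtain ⟨a, b, hab, hne⟩ := hni
    rcases Nat.lt_or_gt_of_ne hne with h | h
    · exact ⟨a, b, h, hab⟩
    · exact ⟨b, a, h, hab.symm⟩
  obtain ⟨r, hr0, hr⟩ : ∃ r, 1 ≤ r ∧ j = i + r := ⟨j - i, by omega, by omega⟩
  have hstep : ∀ t : ℕ, ∀ a : ℕ, i ≤ a → x ^ (a + r * t) = x ^ a := by
    intro t
    induction t with
    | zero => intro a _; simp
    | succ t ih =>
      intro a ha
      have h1 : a + r * (t + 1) = (a + r * t) + r := by ring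
      obtain ⟨b, rfl⟩ : ∃ b, a = i + b := ⟨a - i, by omega⟩
      have h2 : x ^ (i + b + r * t + r) = x ^ (i + b + r * t) := by
        have : i + b + r * t + r = (i + r) + (b + r * t) := by ring
        rw [this, pow_add, ← hr, ← hpow, ← pow_add]
        congr 1
        ring
      rw [h1, h2]
      exact ih (i + b) ha
  refine ⟨r * (i + 1), Nat.mul_pos hr0 (Nat.succ_pos i), ?_⟩
  rw [← pow_add]
  have h3 : r * (i + 1) + r * (i + 1) = r * (i + 1) + r * (i + 1) := rfl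
  have h4 := hstep (i + 1) (r * (i + 1)) (by nlinarith)
  exact h4

theorem isUnit_or_isNilpotent_of_idem {R : Type*} [CommRing R] [Finite R]
    (hid : ∀ e : R, e * e = e → e = 0 ∨ e = 1) (x : R) : IsUnit x ∨ IsNilpotent x := by
  obtain ⟨m, hm, hx⟩ := exists_idem_pow x
  rcases hid _ hx with h | h
  · right
    exact ⟨m, h⟩
  · left
    obtain ⟨s, rfl⟩ : ∃ s, m = s + 1 := ⟨m - 1, by omega⟩
    rw [pow_succ] at h
    exact IsUnit.of_mul_eq_one _ (by rw [mul_comm]; exact h)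



variable {K : Type*} [Field K] {R : Type*} [CommRing R] [Algebra K R]

theorem h90_local [Nontrivial R] (σ : K →+* K) (θ₀ : K) (hθ₀ : σ θ₀ ≠ θ₀)
    (τ : R →+* R) (hττ : ∀ r, τ (τ r) = r)
    (hτK : ∀ a : K, τ (algebraMap K R a) = algebraMap K R (σ a))
    (hloc : ∀ x : R, IsUnit x ∨ IsNilpotent x) (c : R) (hc : τ c * c = 1) :
    ∃ d, IsUnit d ∧ c * τ d = d := by
  have key : ∀ a : K, c * τ (algebraMap K R a + c * algebraMap K R (σ a))
      = algebraMap K R a + c * algebraMap K R (σ a) := by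
    intro a
    rw [map_add, map_mul, hτK, hτK]
    have : σ (σ a) = a := by
      have h1 := hτK (σ a)
      have h2 := hττ (algebraMap K R a)
      rw [hτK, hτK] at h2
      exact (algebraMap K R).injective h2
    rw [this]
    linear_combination (algebraMap K R a) * hc
  rcases hloc (algebraMap K R 1 + c * algebraMap K R (σ 1)) with h1 | h1
  · exact ⟨_, h1, key 1⟩
  rcases hloc (algebraMap K R θ₀ + c * algebraMap K R (σ θ₀)) with h2 | h2
  · exact ⟨_, h2, key θ₀⟩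
  exfalso
  rw [map_one, map_one, map_one, mul_one] at h1
  have h3 : IsNilpotent ((algebraMap K R θ₀ + c * algebraMap K R (σ θ₀))
      - algebraMap K R (σ θ₀) * (1 + c)) :=
    (Commute.all _ _).isNilpotent_sub h2 ((Commute.all _ _).isNilpotent_mul_left h1)
  have h4 : (algebraMap K R θ₀ + c * algebraMap K R (σ θ₀)) - algebraMap K R (σ θ₀) * (1 + c)
      = algebraMap K R (θ₀ - σ θ₀) := by
    rw [map_sub]; ring
  rw [h4] at h3
  have h5 : IsUnit (algebraMap K R (θ₀ - σ θ₀)) := by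
    apply IsUnit.map
    exact IsUnit.mk0 _ (sub_ne_zero.mpr (Ne.symm hθ₀))
  obtain ⟨n, hn⟩ := h3
  have h6 := h5.pow n
  rw [hn] at h6
  exact not_isUnit_zero h6
  

theorem norm_surj_local [Finite R] [Nontrivial R] (σ : K →+* K) (θ₀ : K) (hθ₀ : σ θ₀ ≠ θ₀)
    (τ : R →+* R) (hττ : ∀ r, τ (τ r) = r)
    (hτK : ∀ a : K, τ (algebraMap K R a) = algebraMap K R (σ a))
    (hloc : ∀ x : R, IsUnit x ∨ IsNilpotent x) (y : R) (hy : IsUnit y) (hτy : τ y = y) :
    ∃ c, τ c * c = y := by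
  classical
  obtain ⟨tU, htU⟩ : ∃ tU : Rˣ →* Rˣ, ∀ u : Rˣ, ((tU u : Rˣ) : R) = τ (u : R) :=
    ⟨Units.map τ.toMonoidHom, fun u => rfl⟩
  obtain ⟨N, hN⟩ : ∃ N : Rˣ →* Rˣ, ∀ u, N u = tU u * u := ⟨tU * MonoidHom.id _, fun u => rfl⟩
  obtain ⟨D, hD⟩ : ∃ D : Rˣ →* Rˣ, ∀ u, D u = u / tU u := ⟨MonoidHom.id _ / tU, fun u => rfl⟩
  have htt : ∀ u, tU (tU u) = u := by
    intro u
    apply Units.ext
    rw [htU, htU, hττ]
  have h1 : N.ker = D.range := by
    ext c
    rw [MonoidHom.mem_ker, MonoidHom.mem_range]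
    constructor
    · intro hc
      have hc' : τ (c : R) * (c : R) = 1 := by
        have := congrArg Units.val hc
        rw [hN, Units.val_mul, htU, Units.val_one] at this
        exact this
      obtain ⟨d, hdu, hd⟩ := h90_local σ θ₀ hθ₀ τ hττ hτK hloc (c : R) hc'
      refine ⟨hdu.unit, ?_⟩
      rw [hD, div_eq_iff_eq_mul]
      apply Units.ext
      rw [Units.val_mul, htU, IsUnit.unit_spec]
      exact hd.symm
    · rintro ⟨d, rfl⟩
      rw [hN, hD, map_div, htt]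
      rw [div_mul_div_comm, mul_comm, div_self']
  have h2 : N.range ≤ D.ker := by
    rintro _ ⟨u, rfl⟩
    rw [MonoidHom.mem_ker, hD, hN, map_mul, htt, mul_comm, div_self']
  have h3 : Nat.card N.ker * Nat.card N.range = Nat.card Rˣ := by
    rw [← Subgroup.index_ker]
    exact Subgroup.card_mul_index _
  have h4 : Nat.card D.ker * Nat.card D.range = Nat.card Rˣ := by
    rw [← Subgroup.index_ker]
    exact Subgroup.card_mul_index _
  have h5 : Nat.card D.ker ≤ Nat.card N.range := by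
    rw [h1] at h3
    have hpos : 0 < Nat.card D.range := Nat.card_pos
    have : Nat.card D.range * Nat.card N.range = Nat.card D.range * Nat.card D.ker := by
      rw [h3, mul_comm, h4]
    exact le_of_eq (Nat.eq_of_mul_eq_mul_left hpos this).symm
  have h6 : N.range = D.ker := Subgroup.eq_of_le_of_card_ge h2 h5
  have h7 : hy.unit ∈ D.ker := by
    rw [MonoidHom.mem_ker, hD, div_eq_one]
    apply Units.ext
    rw [htU, IsUnit.unit_spec, hτy]
  rw [← h6] at h7
  obtain ⟨c, hc⟩ := h7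
  refine ⟨(c : R), ?_⟩
  have := congrArg Units.val hc
  rw [hN, Units.val_mul, htU, IsUnit.unit_spec] at this
  exact this




/-- the property proved by induction -/
def Good (R : Type*) [CommRing R] (τ : R →+* R) : Prop :=
  (∀ y : R, IsUnit y → τ y = y → ∃ c, τ c * c = y) ∧
    (∀ y : R, τ y * y = 1 → ∃ c, IsUnit c ∧ y * τ c = c)

theorem span_le_comap (τ : R →+* R) (e : R) (hτe : τ e = e) :
    Ideal.span {e} ≤ Ideal.comap τ (Ideal.span {e}) := by
  intro x hx
  rw [Ideal.mem_comap]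
  obtain ⟨r, rfl⟩ := Ideal.mem_span_singleton'.mp hx
  rw [map_mul, hτe]
  exact Ideal.mem_span_singleton'.mpr ⟨τ r, rfl⟩

noncomputable def quotTau (τ : R →+* R) (e : R) (hτe : τ e = e) :
    R ⧸ Ideal.span {e} →+* R ⧸ Ideal.span {e} :=
  Ideal.quotientMap (Ideal.span {e}) τ (span_le_comap τ e hτe)

theorem quotTau_mk (τ : R →+* R) (e : R) (hτe : τ e = e) (x : R) :
    quotTau τ e hτe (Ideal.Quotient.mk _ x) = Ideal.Quotient.mk _ (τ x) := by
  unfold quotTau
  rw [Ideal.quotientMap_mk]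

theorem quotTau_invol (τ : R →+* R) (hττ : ∀ r, τ (τ r) = r) (e : R) (hτe : τ e = e)
    (x : R ⧸ Ideal.span {e}) : quotTau τ e hτe (quotTau τ e hτe x) = x := by
  obtain ⟨x, rfl⟩ := Ideal.Quotient.mk_surjective x
  rw [quotTau_mk, quotTau_mk, hττ]

theorem quotTau_alg (σ : K →+* K) (τ : R →+* R)
    (hτK : ∀ a : K, τ (algebraMap K R a) = algebraMap K R (σ a)) (e : R) (hτe : τ e = e) (a : K) :
    quotTau τ e hτe (algebraMap K (R ⧸ Ideal.span {e}) a)
      = algebraMap K (R ⧸ Ideal.span {e}) (σ a) := by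
  have h1 : ∀ b : K, algebraMap K (R ⧸ Ideal.span {e}) b
      = Ideal.Quotient.mk (Ideal.span {e}) (algebraMap K R b) := fun b => rfl
  rw [h1, h1, quotTau_mk, hτK]

theorem card_quot_lt [Finite R] (e : R) (he : e ≠ 0) :
    Nat.card (R ⧸ Ideal.span {e}) < Nat.card R := by
  classical
  have := Fintype.ofFinite R
  have := Fintype.ofFinite (R ⧸ Ideal.span {e})
  rw [Nat.card_eq_fintype_card, Nat.card_eq_fintype_card]
  apply Fintype.card_lt_of_surjective_not_injective (Ideal.Quotient.mk (Ideal.span {e}))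
    Ideal.Quotient.mk_surjective
  intro hinj
  apply he
  apply hinj
  rw [map_zero, Ideal.Quotient.eq_zero_iff_mem]
  exact Ideal.mem_span_singleton_self e

theorem transfer (τ : R →+* R) (e : R) (hee : e * e = e) (hτe : τ e = e)
    (hτe' : τ (1 - e) = 1 - e)
    (h1 : Good (R ⧸ Ideal.span {e}) (quotTau τ e hτe))
    (h2 : Good (R ⧸ Ideal.span {1 - e}) (quotTau τ (1 - e) hτe')) : Good R τ := by
  have H0 : e * (1 - e) = 0 := by rw [mul_sub, mul_one, hee, sub_self]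
  have H1 : (1 - e) * (1 - e) = 1 - e := by
    have : (1 - e) * (1 - e) = 1 - e - e + e * e := by ring
    rw [this, hee]; ring
  constructor
  · intro y hy hτy
    obtain ⟨c₁, hc₁⟩ := h1.1 (Ideal.Quotient.mk _ y) (hy.map _) (by rw [quotTau_mk, hτy])
    obtain ⟨c₂, hc₂⟩ := h2.1 (Ideal.Quotient.mk _ y) (hy.map _) (by rw [quotTau_mk, hτy])
    obtain ⟨c₁, rfl⟩ := Ideal.Quotient.mk_surjective c₁
    obtain ⟨c₂, rfl⟩ := Ideal.Quotient.mk_surjective c₂
    rw [quotTau_mk, ← map_mul, Ideal.Quotient.eq, Ideal.mem_span_singleton'] at hc₁ hc₂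
    obtain ⟨r₁, hr₁⟩ := hc₁
    obtain ⟨r₂, hr₂⟩ := hc₂
    refine ⟨c₁ * (1 - e) + c₂ * e, ?_⟩
    rw [map_add, map_mul, map_mul, hτe, hτe']
    linear_combination (τ c₁ * c₁) * H1 + (τ c₂ * c₂) * hee + (τ c₁ * c₂ + τ c₂ * c₁) * H0
      - (1 - e) * hr₁ - e * hr₂ + (r₁ + r₂) * H0
  · intro y hy
    obtain ⟨c₁, hu₁, hc₁⟩ := h1.2 (Ideal.Quotient.mk _ y) (by rw [quotTau_mk, ← map_mul, hy, map_one])
    obtain ⟨c₂, hu₂, hc₂⟩ := h2.2 (Ideal.Quotient.mk _ y) (by rw [quotTau_mk, ← map_mul, hy, map_one])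
    obtain ⟨d₁, hd₁⟩ := hu₁.exists_right_inv
    obtain ⟨d₂, hd₂⟩ := hu₂.exists_right_inv
    obtain ⟨c₁, rfl⟩ := Ideal.Quotient.mk_surjective c₁
    obtain ⟨c₂, rfl⟩ := Ideal.Quotient.mk_surjective c₂
    obtain ⟨d₁, rfl⟩ := Ideal.Quotient.mk_surjective d₁
    obtain ⟨d₂, rfl⟩ := Ideal.Quotient.mk_surjective d₂
    rw [quotTau_mk, ← map_mul, Ideal.Quotient.eq, Ideal.mem_span_singleton'] at hc₁ hc₂
    rw [← map_mul, ← map_one (Ideal.Quotient.mk _), Ideal.Quotient.eq, Ideal.mem_span_singleton'] at hd₁ hd₂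
    obtain ⟨r₁, hr₁⟩ := hc₁
    obtain ⟨r₂, hr₂⟩ := hc₂
    obtain ⟨s₁, hs₁⟩ := hd₁
    obtain ⟨s₂, hs₂⟩ := hd₂
    refine ⟨c₁ * (1 - e) + c₂ * e, ?_, ?_⟩
    · apply IsUnit.of_mul_eq_one (d₁ * (1 - e) + d₂ * e)
      linear_combination (c₁ * d₁) * H1 + (c₂ * d₂) * hee + (c₁ * d₂ + c₂ * d₁) * H0
        - (1 - e) * hs₁ - e * hs₂ + (s₁ + s₂) * H0
    · rw [map_add, map_mul, map_mul, hτe, hτe']
      linear_combination - (1 - e) * hr₁ - e * hr₂ + (r₁ + r₂) * H0


end Cfsg.Agent.Lib.Helper16.FCR
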