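import Mathlib
import Cfsg.Agent.Lib.Helper16.FCR1

set_option autoImplicit false
set_option linter.unusedSectionVars false
set_option linter.unusedSimpArgs false
set_option linter.unusedVariables false
set_option linter.unusedTactic false

namespace Cfsg.Agent.Lib.Helper16.FCR

universe u v

variable {K : Type v} [Field K]

theorem good_of_swap {R : Type*} [CommRing R] (τ : R →+* R) (e : R) (hee : e * e = e)
    (hτe : τ e = 1 - e) : Good R τ := by
  have H0 : e * (1 - e) = 0 := by rw [mul_sub, mul_one, hee, sub_self]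
  have hτe' : τ (1 - e) = e := by rw [map_sub, map_one, hτe]; ring
  constructor
  · intro y hy hτy
    refine ⟨y * e + (1 - e), ?_⟩
    rw [map_add, map_mul, hτe, hτe', hτy]
    linear_combination (y * y + 1) * H0 + 2 * y * hee
  · intro y hy
    refine ⟨e + y * (1 - e), ?_, ?_⟩
    · apply IsUnit.of_mul_eq_one (e + τ y * (1 - e))
      have H1 : (1 - e) * (1 - e) = 1 - e := by
        have : (1 - e) * (1 - e) = 1 - e - e + e * e := by ring
        rw [this, hee]; ring
      linear_combination hee + (τ y + y) * H0 + (y * τ y) * H1 + (1 - e) * hy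
    · rw [map_add, map_mul, hτe, hτe']
      linear_combination e * hy

theorem fcr_aux (σ : K →+* K) (θ₀ : K) (hθ₀ : σ θ₀ ≠ θ₀) :
    ∀ n : ℕ, ∀ (R : Type u) [CommRing R] [Algebra K R] [Finite R] (τ : R →+* R)
      (hττ : ∀ r, τ (τ r) = r)
      (hτK : ∀ a : K, τ (algebraMap K R a) = algebraMap K R (σ a)), Nat.card R = n → Good R τ := by
  intro n
  induction n using Nat.strong_induction_on with
  | _ n ih =>
    intro R _ _ _ τ hττ hτK hcard
    by_cases hsub : Subsingleton R
    · exact ⟨fun y _ _ => ⟨0, Subsingleton.elim _ _⟩, fun y _ => ⟨1, isUnit_one, Subsingleton.elim _ _⟩⟩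
    have hnt : Nontrivial R := not_subsingleton_iff_nontrivial.mp hsub
    by_cases hinv : ∃ e : R, e * e = e ∧ e ≠ 0 ∧ e ≠ 1 ∧ τ e = e
    · obtain ⟨e, hee, he0, he1, hτe⟩ := hinv
      have hτe' : τ (1 - e) = 1 - e := by rw [map_sub, map_one, hτe]
      have he1' : 1 - e ≠ 0 := sub_ne_zero.mpr (Ne.symm he1)
      have hf1 : Finite (R ⧸ Ideal.span {e}) := Quotient.finite _
      have hf2 : Finite (R ⧸ Ideal.span {1 - e}) := Quotient.finite _
      apply transfer τ e hee hτe hτe'
      · exact ih _ (by rw [← hcard]; exact card_quot_lt e he0) (R ⧸ Ideal.span {e}) (quotTau τ e hτe)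
          (quotTau_invol τ hττ e hτe) (quotTau_alg σ τ hτK e hτe) rfl
      · exact ih _ (by rw [← hcard]; exact card_quot_lt (1 - e) he1') (R ⧸ Ideal.span {1 - e})
          (quotTau τ (1 - e) hτe') (quotTau_invol τ hττ (1 - e) hτe') (quotTau_alg σ τ hτK (1 - e) hτe') rfl
    by_cases hid : ∃ e : R, e * e = e ∧ e ≠ 0 ∧ e ≠ 1
    · obtain ⟨e, hee, he0, he1⟩ := hid
      have hτee : τ e * τ e = τ e := by rw [← map_mul, hee]
      have h1 : (e * τ e) * (e * τ e) = e * τ e := by
        have : (e * τ e) * (e * τ e) = (e * e) * (τ e * τ e) := by ring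
        rw [this, hee, hτee]
      have h2 : τ (e * τ e) = e * τ e := by rw [map_mul, hττ, mul_comm]
      have h3 : e * τ e = 0 := by
        by_contra h0
        have h4 : e * τ e = 1 := by
          by_contra h5
          exact hinv ⟨e * τ e, h1, h0, h5, h2⟩
        apply he1
        have : e = e * (e * τ e) := by rw [h4, mul_one]
        rw [← mul_assoc, hee, h4] at this
        exact this
      have h6 : (e + τ e) * (e + τ e) = e + τ e := by
        have : (e + τ e) * (e + τ e) = e * e + τ e * τ e + 2 * (e * τ e) := by ring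
        rw [this, hee, hτee, h3]; ring
      have h7 : τ (e + τ e) = e + τ e := by rw [map_add, hττ, add_comm]
      have h8 : e + τ e ≠ 0 := by
        intro h0
        apply he0
        have : e * (e + τ e) = 0 := by rw [h0, mul_zero]
        rw [mul_add, hee, h3, add_zero] at this
        exact this
      have h9 : e + τ e = 1 := by
        by_contra h5
        exact hinv ⟨e + τ e, h6, h8, h5, h7⟩
      exact good_of_swap τ e hee (by rw [← h9]; ring)
    · have hid' : ∀ e : R, e * e = e → e = 0 ∨ e = 1 := by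
        intro e hee
        by_contra hcon
        rw [not_or] at hcon
        exact hid ⟨e, hee, hcon.1, hcon.2⟩
      have hloc := isUnit_or_isNilpotent_of_idem hid'
      constructor
      · intro y hy hτy
        exact norm_surj_local σ θ₀ hθ₀ τ hττ hτK hloc y hy hτy
      · intro y hy
        exact h90_local σ θ₀ hθ₀ τ hττ hτK hloc y hy

theorem fcr (σ : K →+* K) (θ₀ : K) (hθ₀ : σ θ₀ ≠ θ₀) (R : Type u) [CommRing R] [Algebra K R]
    [Finite R] (τ : R →+* R) (hττ : ∀ r, τ (τ r) = r)
    (hτK : ∀ a : K, τ (algebraMap K R a) = algebraMap K R (σ a)) : Good R τ :=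
  fcr_aux σ θ₀ hθ₀ _ R τ hττ hτK rfl

end Cfsg.Agent.Lib.Helper16.FCR
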