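import Mathlib
import Cfsg.Agent.Lib.Helper16.FCR2

set_option autoImplicit false
set_option linter.unusedSectionVars false
set_option linter.unusedSimpArgs false
set_option linter.unusedVariables false
set_option linter.unusedTactic false

namespace Cfsg.Agent.Lib.Helper16.FCR

open Polynomial

universe u v

variable {K : Type v} [Field K] {E : Type u} [Ring E] [Algebra K E]

theorem adj_zero' (adj : E → E) (hadd : ∀ a b, adj (a + b) = adj a + adj b) : adj 0 = 0 := by
  have := hadd 0 0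
  rw [add_zero] at this
  exact left_eq_add.mp this

theorem adj_pow' (adj : E → E) (hmul : ∀ a b, adj (a * b) = adj b * adj a) (hone : adj 1 = 1)
    (x : E) (k : ℕ) : adj (x ^ k) = (adj x) ^ k := by
  induction k with
  | zero => rw [pow_zero, pow_zero, hone]
  | succ k ih => rw [pow_succ, hmul, ih, pow_succ']

theorem adj_aeval (σ : K →+* K) (adj : E → E) (hadd : ∀ a b, adj (a + b) = adj a + adj b)
    (hmul : ∀ a b, adj (a * b) = adj b * adj a) (hsmul : ∀ (c : K) a, adj (c • a) = σ c • adj a)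
    (hone : adj 1 = 1) (T : E) (p : K[X]) :
    adj (aeval T p) = aeval (adj T) (p.map σ) := by
  induction p using Polynomial.induction_on' with
  | add p q hp hq => rw [map_add, hadd, hp, hq, Polynomial.map_add, map_add]
  | monomial k a =>
    rw [Polynomial.map_monomial, aeval_monomial, aeval_monomial, ← Algebra.smul_def,
      ← Algebra.smul_def, hsmul, adj_pow' adj hmul hone]

theorem key [Finite E] (σ : K →+* K) (hσσ : ∀ a, σ (σ a) = a) (θ₀ : K) (hθ₀ : σ θ₀ ≠ θ₀)
    (adj : E → E) (hadd : ∀ a b, adj (a + b) = adj a + adj b)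
    (hmul : ∀ a b, adj (a * b) = adj b * adj a) (hsmul : ∀ (c : K) a, adj (c • a) = σ c • adj a)
    (hone : adj 1 = 1) (T : E) (g : K[X]) (hg : adj T = aeval T g) (hTT : adj (adj T) = T) :
    (IsUnit T → adj T = T → ∃ c : K[X], adj (aeval T c) * aeval T c = T) ∧
    (adj T * T = 1 → ∃ c : K[X], IsUnit (aeval T c) ∧ T * adj (aeval T c) = aeval T c) := by
  classical
  have hadj : ∀ p : K[X], adj (aeval T p) = aeval T ((p.map σ).comp g) := by
    intro p
    rw [adj_aeval σ adj hadd hmul hsmul hone, hg, aeval_comp]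
  have hadj2 : ∀ p : K[X], adj (adj (aeval T p)) = aeval T p := by
    intro p
    rw [adj_aeval σ adj hadd hmul hsmul hone, adj_aeval σ adj hadd hmul hsmul hone, hTT,
      Polynomial.map_map]
    have : σ.comp σ = RingHom.id K := RingHom.ext hσσ
    rw [this, Polynomial.map_id]
  obtain ⟨f, hf⟩ : ∃ f : K[X] →+* E, ∀ p, f p = aeval T p := ⟨(aeval T : K[X] →ₐ[K] E).toRingHom, fun p => rfl⟩
  obtain ⟨φ, hφ⟩ : ∃ φ : K[X] →+* K[X], ∀ p, φ p = (p.map σ).comp g :=
    ⟨(Polynomial.compRingHom g).comp (Polynomial.mapRingHom σ), fun p => rfl⟩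
  have hI : RingHom.ker f ≤ Ideal.comap φ (RingHom.ker f) := by
    intro p hp
    rw [Ideal.mem_comap, RingHom.mem_ker, hf, hφ, ← hadj]
    rw [RingHom.mem_ker, hf] at hp
    rw [hp, adj_zero' adj hadd]
  obtain ⟨ev, hev, hevinj⟩ : ∃ ev : K[X] ⧸ RingHom.ker f →+* E,
      (∀ p, ev (Ideal.Quotient.mk _ p) = aeval T p) ∧ Function.Injective ev :=
    ⟨RingHom.kerLift f, fun p => by rw [RingHom.kerLift_mk, hf], RingHom.kerLift_injective f⟩
  obtain ⟨τ, hτ⟩ : ∃ τ : K[X] ⧸ RingHom.ker f →+* K[X] ⧸ RingHom.ker f,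
      ∀ p, τ (Ideal.Quotient.mk _ p) = Ideal.Quotient.mk _ (φ p) :=
    ⟨Ideal.quotientMap (RingHom.ker f) φ hI, fun p => Ideal.quotientMap_mk⟩
  have hevτ : ∀ r, ev (τ r) = adj (ev r) := by
    intro r
    obtain ⟨p, rfl⟩ := Ideal.Quotient.mk_surjective r
    rw [hτ, hev, hev, hφ, hadj]
  have hττ : ∀ r, τ (τ r) = r := by
    intro r
    apply hevinj
    rw [hevτ, hevτ]
    obtain ⟨p, rfl⟩ := Ideal.Quotient.mk_surjective r
    rw [hev, hadj2]
  have hτK : ∀ a : K, τ (algebraMap K (K[X] ⧸ RingHom.ker f) a)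
      = algebraMap K (K[X] ⧸ RingHom.ker f) (σ a) := by
    intro a
    have h1 : ∀ b : K, algebraMap K (K[X] ⧸ RingHom.ker f) b
        = Ideal.Quotient.mk (RingHom.ker f) (C b) := fun b => rfl
    rw [h1, h1, hτ, hφ, Polynomial.map_C, Polynomial.C_comp]
  have hfin : Finite (K[X] ⧸ RingHom.ker f) := Finite.of_injective ev hevinj
  have hgood := fcr σ θ₀ hθ₀ (K[X] ⧸ RingHom.ker f) τ hττ hτK
  have hXτ : ev (τ (Ideal.Quotient.mk _ X)) = adj T := by
    rw [hevτ, hev, aeval_X]
  constructor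
  · intro hTu hTadj
    obtain ⟨u, hu⟩ := hTu
    obtain ⟨k, hk, hpow⟩ : ∃ k, 1 ≤ k ∧ T ^ k = 1 := by
      have hfo : IsOfFinOrder u := isOfFinOrder_of_finite u
      refine ⟨orderOf u, hfo.orderOf_pos, ?_⟩
      rw [← hu, ← Units.val_pow_eq_pow_val, pow_orderOf_eq_one, Units.val_one]
    obtain ⟨s, rfl⟩ : ∃ s, k = s + 1 := ⟨k - 1, by omega⟩
    have hyu : IsUnit (Ideal.Quotient.mk (RingHom.ker f) X) := by
      apply IsUnit.of_mul_eq_one (Ideal.Quotient.mk (RingHom.ker f) (X ^ s))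
      apply hevinj
      rw [map_mul, hev, hev, map_one, aeval_X, map_pow, aeval_X, ← pow_succ', hpow]
    have hyτ : τ (Ideal.Quotient.mk (RingHom.ker f) X) = Ideal.Quotient.mk (RingHom.ker f) X := by
      apply hevinj
      rw [hXτ, hev, aeval_X, hTadj]
    obtain ⟨c, hc⟩ := hgood.1 _ hyu hyτ
    obtain ⟨c, rfl⟩ := Ideal.Quotient.mk_surjective c
    refine ⟨c, ?_⟩
    have := congrArg ev hc
    rw [map_mul, hevτ, hev, hev, aeval_X] at this
    exact this
  · intro hTT1
    have hy : τ (Ideal.Quotient.mk (RingHom.ker f) X) * Ideal.Quotient.mk (RingHom.ker f) X = 1 := by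
      apply hevinj
      rw [map_mul, hXτ, hev, aeval_X, map_one, hTT1]
    obtain ⟨c, hcu, hc⟩ := hgood.2 _ hy
    obtain ⟨c, rfl⟩ := Ideal.Quotient.mk_surjective c
    refine ⟨c, ?_, ?_⟩
    · have := hcu.map ev
      rw [hev] at this
      exact this
    · have := congrArg ev hc
      rw [map_mul, hevτ, hev, hev, aeval_X] at this
      exact this

end Cfsg.Agent.Lib.Helper16.FCR
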