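import Mathlib
import Cfsg.Agent.Lib.Helper16.FCR2

set_option autoImplicit false
set_option linter.unusedSectionVars false
set_option linter.unusedSimpArgs false
set_option linter.unusedVariables false
set_option linter.unusedTactic false

namespace Cfsg.Agent.Lib.Helper16.FCR

universe u

theorem h90_local' {R : Type*} [CommRing R] [Nontrivial R]
    (τ : R →+* R) (hττ : ∀ r, τ (τ r) = r) (θ : R) (hθ : IsUnit (θ - τ θ))
    (hloc : ∀ x : R, IsUnit x ∨ IsNilpotent x) (c : R) (hc : τ c * c = 1) :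
    ∃ d, IsUnit d ∧ c * τ d = d := by
  have key : ∀ a : R, c * τ (a + c * τ a) = a + c * τ a := by
    intro a
    rw [map_add, map_mul, hττ]
    linear_combination a * hc
  rcases hloc (1 + c * τ 1) with h1 | h1
  · exact ⟨_, h1, key 1⟩
  rcases hloc (θ + c * τ θ) with h2 | h2
  · exact ⟨_, h2, key θ⟩
  exfalso
  rw [map_one, mul_one] at h1
  have h3 : IsNilpotent ((θ + c * τ θ) - τ θ * (1 + c)) :=
    (Commute.all _ _).isNilpotent_sub h2 ((Commute.all _ _).isNilpotent_mul_left h1)
  have h4 : (θ + c * τ θ) - τ θ * (1 + c) = θ - τ θ := by ring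
  rw [h4] at h3
  obtain ⟨n, hn⟩ := h3
  have h6 := hθ.pow n
  rw [hn] at h6
  exact not_isUnit_zero h6

theorem norm_surj_local' {R : Type*} [CommRing R] [Finite R] [Nontrivial R]
    (τ : R →+* R) (hττ : ∀ r, τ (τ r) = r) (θ : R) (hθ : IsUnit (θ - τ θ))
    (hloc : ∀ x : R, IsUnit x ∨ IsNilpotent x) (y : R) (hy : IsUnit y) (hτy : τ y = y) :
    ∃ c, τ c * c = y := by
  classical
  obtain ⟨tU, htU⟩ : ∃ tU : Rˣ →* Rˣ, ∀ u : Rˣ, ((tU u : Rˣ) : R) = τ (u : R) :=
    ⟨Units.map τ.toMonoidHom, fun u => rfl⟩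
  obtain ⟨N, hN⟩ : ∃ N : Rˣ →* Rˣ, ∀ u, N u = tU u * u := ⟨tU * MonoidHom.id _, fun u => rfl⟩
  obtain ⟨D, hD⟩ : ∃ D : Rˣ →* Rˣ, ∀ u, D u = u / tU u := ⟨MonoidHom.id _ / tU, fun u => rfl⟩
  have htt : ∀ u, tU (tU u) = u := by
    intro u
    apply Units.ext
    rw [htU, htU, hττ]
  have h1 : N.ker = D.range := by
    ext c
    rw [MonoidHom.mem_ker, MonoidHom.mem_range]
    constructor
    · intro hc
      have hc' : τ (c : R) * (c : R) = 1 := by
        have := congrArg Units.val hc
        rw [hN, Units.val_mul, htU, Units.val_one] at this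
        exact this
      obtain ⟨d, hdu, hd⟩ := h90_local' τ hττ θ hθ hloc (c : R) hc'
      refine ⟨hdu.unit, ?_⟩
      rw [hD, div_eq_iff_eq_mul]
      apply Units.ext
      rw [Units.val_mul, htU, IsUnit.unit_spec]
      exact hd.symm
    · rintro ⟨d, rfl⟩
      rw [hN, hD, map_div, htt]
      rw [div_mul_div_comm, mul_comm, div_self']
  have h2 : N.range ≤ D.ker := by
    rintro _ ⟨u, rfl⟩
    rw [MonoidHom.mem_ker, hD, hN, map_mul, htt, mul_comm, div_self']
  have h3 : Nat.card N.ker * Nat.card N.range = Nat.card Rˣ := by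
    rw [← Subgroup.index_ker]
    exact Subgroup.card_mul_index _
  have h4 : Nat.card D.ker * Nat.card D.range = Nat.card Rˣ := by
    rw [← Subgroup.index_ker]
    exact Subgroup.card_mul_index _
  have h5 : Nat.card D.ker ≤ Nat.card N.range := by
    rw [h1] at h3
    have hpos : 0 < Nat.card D.range := Nat.card_pos
    have : Nat.card D.range * Nat.card N.range = Nat.card D.range * Nat.card D.ker := by
      rw [h3, mul_comm, h4]
    exact le_of_eq (Nat.eq_of_mul_eq_mul_left hpos this).symm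
  have h6 : N.range = D.ker := Subgroup.eq_of_le_of_card_ge h2 h5
  have h7 : hy.unit ∈ D.ker := by
    rw [MonoidHom.mem_ker, hD, div_eq_one]
    apply Units.ext
    rw [htU, IsUnit.unit_spec, hτy]
  rw [← h6] at h7
  obtain ⟨c, hc⟩ := h7
  refine ⟨(c : R), ?_⟩
  have := congrArg Units.val hc
  rw [hN, Units.val_mul, htU, IsUnit.unit_spec] at this
  exact this

theorem quotTau_isUnit {R : Type*} [CommRing R] (τ : R →+* R) (e : R) (hτe : τ e = e) (θ : R)
    (hθ : IsUnit (θ - τ θ)) :
    IsUnit (Ideal.Quotient.mk (Ideal.span {e}) θ - quotTau τ e hτe (Ideal.Quotient.mk _ θ)) := by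
  rw [quotTau_mk, ← map_sub]
  exact hθ.map _

theorem fcr_aux' :
    ∀ n : ℕ, ∀ (R : Type u) [CommRing R] [Finite R] (τ : R →+* R)
      (hττ : ∀ r, τ (τ r) = r) (θ : R) (hθ : IsUnit (θ - τ θ)), Nat.card R = n → Good R τ := by
  intro n
  induction n using Nat.strong_induction_on with
  | _ n ih =>
    intro R _ _ τ hττ θ hθ hcard
    by_cases hsub : Subsingleton R
    · exact ⟨fun y _ _ => ⟨0, Subsingleton.elim _ _⟩, fun y _ => ⟨1, isUnit_one, Subsingleton.elim _ _⟩⟩
    have hnt : Nontrivial R := not_subsingleton_iff_nontrivial.mp hsub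
    by_cases hinv : ∃ e : R, e * e = e ∧ e ≠ 0 ∧ e ≠ 1 ∧ τ e = e
    · obtain ⟨e, hee, he0, he1, hτe⟩ := hinv
      have hτe' : τ (1 - e) = 1 - e := by rw [map_sub, map_one, hτe]
      have he1' : 1 - e ≠ 0 := sub_ne_zero.mpr (Ne.symm he1)
      have hf1 : Finite (R ⧸ Ideal.span {e}) := Quotient.finite _
      have hf2 : Finite (R ⧸ Ideal.span {1 - e}) := Quotient.finite _
      apply transfer τ e hee hτe hτe'
      · exact ih _ (by rw [← hcard]; exact card_quot_lt e he0) (R ⧸ Ideal.span {e}) (quotTau τ e hτe)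
          (quotTau_invol τ hττ e hτe) _ (quotTau_isUnit τ e hτe θ hθ) rfl
      · exact ih _ (by rw [← hcard]; exact card_quot_lt (1 - e) he1') (R ⧸ Ideal.span {1 - e})
          (quotTau τ (1 - e) hτe') (quotTau_invol τ hττ (1 - e) hτe') _
          (quotTau_isUnit τ (1 - e) hτe' θ hθ) rfl
    by_cases hid : ∃ e : R, e * e = e ∧ e ≠ 0 ∧ e ≠ 1
    · obtain ⟨e, hee, he0, he1⟩ := hid
      have hτee : τ e * τ e = τ e := by rw [← map_mul, hee]
      have h1 : (e * τ e) * (e * τ e) = e * τ e := by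
        have : (e * τ e) * (e * τ e) = (e * e) * (τ e * τ e) := by ring
        rw [this, hee, hτee]
      have h2 : τ (e * τ e) = e * τ e := by rw [map_mul, hττ, mul_comm]
      have h3 : e * τ e = 0 := by
        by_contra h0
        have h4 : e * τ e = 1 := by
          by_contra h5
          exact hinv ⟨e * τ e, h1, h0, h5, h2⟩
        apply he1
        have : e = e * (e * τ e) := by rw [h4, mul_one]
        rw [← mul_assoc, hee, h4] at this
        exact this
      have h6 : (e + τ e) * (e + τ e) = e + τ e := by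
        have : (e + τ e) * (e + τ e) = e * e + τ e * τ e + 2 * (e * τ e) := by ring
        rw [this, hee, hτee, h3]; ring
      have h7 : τ (e + τ e) = e + τ e := by rw [map_add, hττ, add_comm]
      have h8 : e + τ e ≠ 0 := by
        intro h0
        apply he0
        have : e * (e + τ e) = 0 := by rw [h0, mul_zero]
        rw [mul_add, hee, h3, add_zero] at this
        exact this
      have h9 : e + τ e = 1 := by
        by_contra h5
        exact hinv ⟨e + τ e, h6, h8, h5, h7⟩
      exact good_of_swap τ e hee (by rw [← h9]; ring)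
    · have hid' : ∀ e : R, e * e = e → e = 0 ∨ e = 1 := by
        intro e hee
        by_contra hcon
        rw [not_or] at hcon
        exact hid ⟨e, hee, hcon.1, hcon.2⟩
      have hloc := isUnit_or_isNilpotent_of_idem hid'
      constructor
      · intro y hy hτy
        exact norm_surj_local' τ hττ θ hθ hloc y hy hτy
      · intro y hy
        exact h90_local' τ hττ θ hθ hloc y hy

theorem fcr' (R : Type u) [CommRing R] [Finite R] (τ : R →+* R) (hττ : ∀ r, τ (τ r) = r)
    (θ : R) (hθ : IsUnit (θ - τ θ)) : Good R τ :=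
  fcr_aux' _ R τ hττ θ hθ rfl

/-- relative version: `θ - τ θ` is invertible modulo a `τ`-fixed idempotent `e`. -/
theorem fcr_rel (R : Type u) [CommRing R] [Finite R] (τ : R →+* R) (hττ : ∀ r, τ (τ r) = r)
    (e : R) (hee : e * e = e) (hτe : τ e = e) (θ y : R) (hθ : (θ - τ θ) * y = 1 - e) :
    (∀ T : R, IsUnit T → τ T = T → ∃ c, τ c * c = T * (1 - e) ∧ c * e = 0) ∧
    (∀ T : R, τ T * T = 1 → ∃ c d, c * d = 1 - e ∧ c * e = 0 ∧ T * τ c = c) := by
  have hf1 : Finite (R ⧸ Ideal.span {e}) := Quotient.finite _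
  have hθ' : IsUnit (Ideal.Quotient.mk (Ideal.span {e}) θ
      - quotTau τ e hτe (Ideal.Quotient.mk _ θ)) := by
    rw [quotTau_mk, ← map_sub]
    apply IsUnit.of_mul_eq_one (Ideal.Quotient.mk (Ideal.span {e}) y)
    rw [← map_mul, hθ, ← map_one (Ideal.Quotient.mk (Ideal.span {e})), Ideal.Quotient.eq,
      Ideal.mem_span_singleton']
    exact ⟨-1, by ring⟩
  have hgood := fcr' (R ⧸ Ideal.span {e}) (quotTau τ e hτe) (quotTau_invol τ hττ e hτe) _ hθ'
  have H0 : e * (1 - e) = 0 := by rw [mul_sub, mul_one, hee, sub_self]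
  have H1 : (1 - e) * (1 - e) = 1 - e := by
    have : (1 - e) * (1 - e) = 1 - e - e + e * e := by ring
    rw [this, hee]; ring
  constructor
  · intro T hT hτT
    obtain ⟨c, hc⟩ := hgood.1 (Ideal.Quotient.mk _ T) (hT.map _) (by rw [quotTau_mk, hτT])
    obtain ⟨c, rfl⟩ := Ideal.Quotient.mk_surjective c
    rw [quotTau_mk, ← map_mul, Ideal.Quotient.eq, Ideal.mem_span_singleton'] at hc
    obtain ⟨z, hz⟩ := hc
    refine ⟨c * (1 - e), ?_, ?_⟩
    · rw [map_mul, map_sub, map_one, hτe]
      linear_combination (τ c * c) * H1 - (1 - e) * hz + z * H0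
    · linear_combination c * H0
  · intro T hT
    obtain ⟨c, hcu, hc⟩ := hgood.2 (Ideal.Quotient.mk _ T) (by rw [quotTau_mk, ← map_mul, hT, map_one])
    obtain ⟨d, hd⟩ := hcu.exists_right_inv
    obtain ⟨c, rfl⟩ := Ideal.Quotient.mk_surjective c
    obtain ⟨d, rfl⟩ := Ideal.Quotient.mk_surjective d
    rw [quotTau_mk, ← map_mul, Ideal.Quotient.eq, Ideal.mem_span_singleton'] at hc
    rw [← map_mul, ← map_one (Ideal.Quotient.mk _), Ideal.Quotient.eq, Ideal.mem_span_singleton'] at hd
    obtain ⟨z, hz⟩ := hc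
    obtain ⟨w, hw⟩ := hd
    refine ⟨c * (1 - e), d * (1 - e), ?_, ?_, ?_⟩
    · linear_combination (c * d) * H1 - (1 - e) * hw + w * H0
    · linear_combination c * H0
    · rw [map_mul, map_sub, map_one, hτe]
      linear_combination - (1 - e) * hz + z * H0

end Cfsg.Agent.Lib.Helper16.FCR
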