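import Mathlib
import Cfsg.Agent.Lib.Helper16.FCR3
import Cfsg.Agent.Lib.Helper16.FCR4

set_option autoImplicit false
set_option linter.unusedSectionVars false
set_option linter.unusedSimpArgs false
set_option linter.unusedVariables false
set_option linter.unusedTactic false

namespace Cfsg.Agent.Lib.Helper16.FCR

universe u

variable {E : Type u} [Ring E]

theorem adj_neg' (adj : E → E) (hadd : ∀ a b, adj (a + b) = adj a + adj b) (a : E) :
    adj (-a) = -adj a := by
  have := hadd a (-a)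
  rw [add_neg_cancel, adj_zero' adj hadd] at this
  exact eq_neg_of_add_eq_zero_right this.symm

theorem adj_sub' (adj : E → E) (hadd : ∀ a b, adj (a + b) = adj a + adj b) (a b : E) :
    adj (a - b) = adj a - adj b := by
  rw [sub_eq_add_neg, hadd, adj_neg' adj hadd, ← sub_eq_add_neg]

theorem adj_mem_closure (adj : E → E) (hadd : ∀ a b, adj (a + b) = adj a + adj b)
    (hmul : ∀ a b, adj (a * b) = adj b * adj a) (hone : adj 1 = 1)
    (S : Set E) (hS : ∀ a ∈ S, adj a ∈ S) {x : E} (hx : x ∈ Subring.closure S) :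
    adj x ∈ Subring.closure S := by
  induction hx using Subring.closure_induction with
  | mem x hx => exact Subring.subset_closure (hS x hx)
  | zero => rw [adj_zero' adj hadd]; exact zero_mem _
  | one => rw [hone]; exact one_mem _
  | add x y hx hy h1 h2 => rw [hadd]; exact add_mem h1 h2
  | neg x hx h1 => rw [adj_neg' adj hadd]; exact neg_mem h1
  | mul x y hx hy h1 h2 => rw [hmul]; exact mul_mem h2 h1

theorem adj_adj_closure (adj : E → E) (hadd : ∀ a b, adj (a + b) = adj a + adj b)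
    (hmul : ∀ a b, adj (a * b) = adj b * adj a) (hone : adj 1 = 1)
    (S : Set E) (hSS : ∀ a ∈ S, adj (adj a) = a) {x : E} (hx : x ∈ Subring.closure S) :
    adj (adj x) = x := by
  induction hx using Subring.closure_induction with
  | mem x hx => exact hSS x hx
  | zero => rw [adj_zero' adj hadd, adj_zero' adj hadd]
  | one => rw [hone, hone]
  | add x y hx hy h1 h2 => rw [hadd, hadd, h1, h2]
  | neg x hx h1 => rw [adj_neg' adj hadd, adj_neg' adj hadd, h1]
  | mul x y hx hy h1 h2 => rw [hmul, hmul, h1, h2]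

theorem commute_closure (S : Set E) (hcomm : ∀ a ∈ S, ∀ b ∈ S, a * b = b * a) {x y : E}
    (hx : x ∈ Subring.closure S) (hy : y ∈ Subring.closure S) : x * y = y * x := by
  letI : CommRing (Subring.closure S) := Subring.closureCommRingOfComm hcomm
  have := mul_comm (⟨x, hx⟩ : Subring.closure S) ⟨y, hy⟩
  exact congrArg Subtype.val this

theorem key2 [Finite E] (adj : E → E)
    (hadd : ∀ a b, adj (a + b) = adj a + adj b) (hmul : ∀ a b, adj (a * b) = adj b * adj a)
    (hone : adj 1 = 1)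
    (S : Set E) (hcomm : ∀ a ∈ S, ∀ b ∈ S, a * b = b * a) (hS : ∀ a ∈ S, adj a ∈ S)
    (hSS : ∀ a ∈ S, adj (adj a) = a) (θ : E) (hθ : θ ∈ Subring.closure S) :
    ∃ k : ℕ, 1 ≤ k ∧ ((θ - adj θ) ^ k) * ((θ - adj θ) ^ k) = (θ - adj θ) ^ k ∧
      adj ((θ - adj θ) ^ k) = (θ - adj θ) ^ k ∧
      (∀ T ∈ Subring.closure S, IsUnit T → adj T = T →
        ∃ c ∈ Subring.closure S, adj c * c = T * (θ - adj θ) ^ k ∧
          c * (1 - (θ - adj θ) ^ k) = 0) ∧
      (∀ T ∈ Subring.closure S, adj T * T = 1 →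
        ∃ c ∈ Subring.closure S, ∃ d ∈ Subring.closure S, c * d = (θ - adj θ) ^ k ∧
          c * (1 - (θ - adj θ) ^ k) = 0 ∧ T * adj c = c) := by
  classical
  letI : CommRing (Subring.closure S) := Subring.closureCommRingOfComm hcomm
  have hmem := fun {x : E} (hx : x ∈ Subring.closure S) => adj_mem_closure adj hadd hmul hone S hS hx
  have hinv := fun {x : E} (hx : x ∈ Subring.closure S) => adj_adj_closure adj hadd hmul hone S hSS hx
  obtain ⟨τ, hτ⟩ : ∃ τ : Subring.closure S →+* Subring.closure S, ∀ x, (τ x : E) = adj x.1 := by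
    refine ⟨⟨⟨⟨fun x => ⟨adj x.1, hmem x.2⟩, ?_⟩, ?_⟩, ?_, ?_⟩, fun x => rfl⟩
    · apply Subtype.ext; exact hone
    · intro x y
      apply Subtype.ext
      show adj (x.1 * y.1) = adj x.1 * adj y.1
      rw [hmul]
      exact commute_closure S hcomm (hmem y.2) (hmem x.2)
    · apply Subtype.ext; exact adj_zero' adj hadd
    · intro x y
      apply Subtype.ext
      exact hadd x.1 y.1
  have hττ : ∀ r, τ (τ r) = r := by
    intro r
    apply Subtype.ext
    rw [hτ, hτ]
    exact hinv r.2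
  obtain ⟨D, hD⟩ : ∃ D : Subring.closure S, D = ⟨θ, hθ⟩ - τ ⟨θ, hθ⟩ := ⟨_, rfl⟩
  have hDval : D.1 = θ - adj θ := by
    rw [hD, AddSubgroupClass.coe_sub, hτ]
  obtain ⟨k, hk1, hk⟩ := exists_idem_pow D
  have hpowval : (D ^ k).1 = (θ - adj θ) ^ k := by rw [Subring.coe_pow, hDval]
  obtain ⟨s, rfl⟩ : ∃ s, k = s + 1 := ⟨k - 1, by omega⟩
  obtain ⟨e, he⟩ : ∃ e : Subring.closure S, e = 1 - D ^ (s + 1) := ⟨_, rfl⟩
  have hee : e * e = e := by
    rw [he]
    linear_combination hk
  have hτD : τ D = -D := by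
    rw [hD, map_sub, hττ]; ring
  have hτpow : τ (D ^ (s + 1)) * τ (D ^ (s + 1)) = τ (D ^ (s + 1)) := by rw [← map_mul, hk]
  have hfin : Finite (Subring.closure S) := Subtype.finite
  have hτe : τ e = e := by
    have h1 : τ (D ^ (s + 1)) = (-1) ^ (s + 1) * D ^ (s + 1) := by
      rw [map_pow, hτD, neg_pow]
    have h2 : τ (D ^ (s + 1)) = D ^ (s + 1) := by
      have h3 : τ (D ^ (s + 1)) = τ (D ^ (s + 1)) * τ (D ^ (s + 1)) := hτpow.symm
      rw [h3, h1]
      have h4 : ((-1 : Subring.closure S) ^ (s + 1)) * ((-1) ^ (s + 1)) = 1 := by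
        rw [← mul_pow]; simp
      linear_combination (D ^ (s + 1) * D ^ (s + 1)) * h4 + hk
    rw [he, map_sub, map_one, h2]
  have hθ' : (⟨θ, hθ⟩ - τ ⟨θ, hθ⟩) * (D ^ s) = 1 - e := by
    rw [← hD, he, ← pow_succ']; ring
  obtain ⟨H1, H2⟩ := fcr_rel (Subring.closure S) τ hττ e hee hτe ⟨θ, hθ⟩ (D ^ s) hθ'
  have h1e : (1 - e : Subring.closure S) = D ^ (s + 1) := by rw [he]; ring
  have heval : (e : E) = 1 - (θ - adj θ) ^ (s + 1) := by
    rw [he, AddSubgroupClass.coe_sub, Subring.coe_one, hpowval]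
  refine ⟨s + 1, hk1, ?_, ?_, ?_, ?_⟩
  · have := congrArg Subtype.val hk
    rw [Subring.coe_mul, hpowval] at this
    exact this
  · have h1 : τ (D ^ (s + 1)) = D ^ (s + 1) := by
      have : D ^ (s + 1) = 1 - e := h1e.symm
      rw [this, map_sub, map_one, hτe]
    have := congrArg Subtype.val h1
    rw [hτ, hpowval] at this
    exact this
  · intro T hT hTu hTadj
    have hTu' : IsUnit (⟨T, hT⟩ : Subring.closure S) := by
      obtain ⟨u, hu⟩ := hTu
      obtain ⟨j, hj, hpow⟩ : ∃ j, 1 ≤ j ∧ T ^ j = 1 := by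
        have hfo : IsOfFinOrder u := isOfFinOrder_of_finite u
        refine ⟨orderOf u, hfo.orderOf_pos, ?_⟩
        rw [← hu, ← Units.val_pow_eq_pow_val, pow_orderOf_eq_one, Units.val_one]
      obtain ⟨j, rfl⟩ : ∃ j', j = j' + 1 := ⟨j - 1, by omega⟩
      apply IsUnit.of_mul_eq_one (⟨T, hT⟩ ^ j)
      apply Subtype.ext
      rw [← pow_succ', Subring.coe_pow, Subring.coe_one]
      exact hpow
    obtain ⟨c, hc1, hc2⟩ := H1 ⟨T, hT⟩ hTu' (by apply Subtype.ext; rw [hτ]; exact hTadj)
    refine ⟨c.1, c.2, ?_, ?_⟩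
    · have := congrArg Subtype.val hc1
      rw [h1e, Subring.coe_mul, Subring.coe_mul, hτ, hpowval] at this
      exact this
    · have := congrArg Subtype.val hc2
      rw [Subring.coe_mul, heval, Subring.coe_zero] at this
      exact this
  · intro T hT hTT
    obtain ⟨c, d, hcd, hce, hTc⟩ := H2 ⟨T, hT⟩ (by
      apply Subtype.ext
      rw [Subring.coe_mul, hτ, Subring.coe_one]
      exact hTT)
    refine ⟨c.1, c.2, d.1, d.2, ?_, ?_, ?_⟩
    · have := congrArg Subtype.val hcd
      rw [h1e, Subring.coe_mul, hpowval] at this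
      exact this
    · have := congrArg Subtype.val hce
      rw [Subring.coe_mul, heval, Subring.coe_zero] at this
      exact this
    · have := congrArg Subtype.val hTc
      rw [Subring.coe_mul, hτ] at this
      exact this

end Cfsg.Agent.Lib.Helper16.FCR
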