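import Mathlib

set_option autoImplicit false
set_option linter.unusedSectionVars false
set_option linter.unusedSimpArgs false
set_option linter.unusedVariables false

namespace Cfsg.Agent.Lib.Helper16.Cay

variable {R : Type*} [CommRing R]

/-- the Cayley partner of `x` (when `1 + x` is a unit). -/
noncomputable def cay (x : R) : R := 2 * Ring.inverse (1 + x) - 1

theorem cay_rel (x : R) (hx : IsUnit (1 + x)) : (1 + x) * (1 + cay x) = 2 := by
  unfold cay
  have := Ring.mul_inverse_cancel (1 + x) hx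
  linear_combination 2 * this

theorem rel_unique (x y y' : R) (hx : IsUnit (1 + x)) (h : (1 + x) * (1 + y) = 2)
    (h' : (1 + x) * (1 + y') = 2) : y = y' := by
  have h1 : (1 + x) * (y - y') = 0 := by linear_combination h - h'
  have h2 := (hx.mul_right_eq_zero).mp h1
  exact sub_eq_zero.mp h2

theorem rel_skew_to_unitary (σ : R →+* R) (h2 : IsUnit (2 : R)) (x y : R) (hx : σ x = -x)
    (h : (1 + x) * (1 + y) = 2) : y * σ y = 1 ∧ IsUnit (1 + y) := by
  have hu : IsUnit ((1 + x) * (1 + y)) := by rw [h]; exact h2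
  have hu1 : IsUnit (1 + x) := isUnit_of_mul_isUnit_left hu
  have hu2 : IsUnit (1 + y) := isUnit_of_mul_isUnit_right hu
  refine ⟨?_, hu2⟩
  have hs : (1 - x) * (1 + σ y) = 2 := by
    have := congrArg σ h
    simp only [map_mul, map_add, map_one, hx, map_ofNat] at this
    linear_combination this
  have hu' : IsUnit ((1 - x) * (1 + σ y)) := by rw [hs]; exact h2
  have hu3 : IsUnit (1 - x) := isUnit_of_mul_isUnit_left hu'
  have h1 : y * (1 + x) = 1 - x := by linear_combination h
  have h3 : σ y * (1 - x) = 1 + x := by linear_combination hs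
  have key : ((1 + x) * (1 - x)) * (y * σ y - 1) = 0 := by
    linear_combination (σ y * (1 - x)) * h1 + (1 - x) * h3
  have := ((hu1.mul hu3).mul_right_eq_zero).mp key
  exact sub_eq_zero.mp this

theorem rel_unitary_to_skew (σ : R →+* R) (x y : R) (hy : y * σ y = 1)
    (h : (1 + y) * (1 + x) = 2) (hu : IsUnit (1 + y)) : σ x = -x := by
  have hs : (1 + σ y) * (1 + σ x) = 2 := by
    have := congrArg σ h
    simp only [map_mul, map_add, map_one, map_ofNat] at this
    exact this
  have h1 : x * (1 + y) = 1 - y := by linear_combination h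
  have h3 : σ x * (1 + σ y) = 1 - σ y := by linear_combination hs
  have key : (1 + y) * (σ x + x) = 0 := by
    linear_combination h1 + y * h3 - (1 + σ x) * hy
  have := (hu.mul_right_eq_zero).mp key
  exact eq_neg_of_add_eq_zero_left this

theorem cay_isUnit (h2 : IsUnit (2 : R)) (x : R) (hx : IsUnit (1 + x)) : IsUnit (1 + cay x) := by
  have h := cay_rel x hx
  have hu : IsUnit ((1 + x) * (1 + cay x)) := by rw [h]; exact h2
  exact isUnit_of_mul_isUnit_right hu

theorem cay_cay (h2 : IsUnit (2 : R)) (x : R) (hx : IsUnit (1 + x)) : cay (cay x) = x := by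
  have hu := cay_isUnit h2 x hx
  apply rel_unique (cay x) _ _ hu (cay_rel (cay x) hu)
  rw [mul_comm]
  exact cay_rel x hx

theorem cayley_card [Finite R] (σ : R →+* R) (h2 : IsUnit (2 : R))
    (hK : ∀ a : R, σ a = -a → IsUnit (1 + a))
    (hU : ∀ g : R, g * σ g = 1 → (IsUnit (1 + g) ↔ ¬ IsUnit (1 - g))) :
    Nat.card {g : R // g * σ g = 1} = 2 * Nat.card {a : R // σ a = -a} := by
  classical
  have e1 : {a : R // σ a = -a} ≃ {g : R // g * σ g = 1 ∧ IsUnit (1 + g)} :=
    { toFun := fun a => ⟨cay a.1,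
        rel_skew_to_unitary σ h2 a.1 (cay a.1) a.2 (cay_rel a.1 (hK a.1 a.2))⟩
      invFun := fun g => ⟨cay g.1,
        rel_unitary_to_skew σ (cay g.1) g.1 g.2.1 (cay_rel g.1 g.2.2) g.2.2⟩
      left_inv := fun a => Subtype.ext (cay_cay h2 a.1 (hK a.1 a.2))
      right_inv := fun g => Subtype.ext (cay_cay h2 g.1 g.2.2) }
  have e2 : {g : R // g * σ g = 1 ∧ ¬ IsUnit (1 + g)} ≃ {g : R // g * σ g = 1 ∧ IsUnit (1 + g)} :=
    { toFun := fun g => ⟨-g.1, by rw [map_neg, neg_mul_neg]; exact g.2.1, by
        have h := hU g.1 g.2.1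
        rw [← sub_eq_add_neg]
        by_contra hcon
        exact g.2.2 (h.mpr hcon)⟩
      invFun := fun g => ⟨-g.1, by rw [map_neg, neg_mul_neg]; exact g.2.1, by
        have h := hU g.1 g.2.1
        rw [← sub_eq_add_neg]
        exact h.mp g.2.2⟩
      left_inv := fun g => Subtype.ext (neg_neg _)
      right_inv := fun g => Subtype.ext (neg_neg _) }
  have e3 : {g : R // g * σ g = 1} ≃
      {g : R // g * σ g = 1 ∧ IsUnit (1 + g)} ⊕ {g : R // g * σ g = 1 ∧ ¬ IsUnit (1 + g)} :=
    (Equiv.sumCompl (fun x : {g : R // g * σ g = 1} => IsUnit (1 + x.1))).symm.trans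
      (Equiv.sumCongr
        (Equiv.subtypeSubtypeEquivSubtypeInter (fun g : R => g * σ g = 1) (fun g => IsUnit (1 + g)))
        (Equiv.subtypeSubtypeEquivSubtypeInter (fun g : R => g * σ g = 1)
          (fun g => ¬ IsUnit (1 + g))))
  rw [Nat.card_congr e3, Nat.card_sum, Nat.card_congr e2, ← Nat.card_congr e1]
  ring

end Cfsg.Agent.Lib.Helper16.Cay
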