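import Mathlib
import Cfsg.Agent.S2573
import Cfsg.Agent.S2571

set_option autoImplicit false
set_option linter.unusedSectionVars false
set_option linter.unusedSimpArgs false
set_option linter.unusedVariables false

namespace Cfsg.Agent.Lib.Helper16.RN

open Matrix Module

variable {ι : Type*} [Fintype ι] [DecidableEq ι] {F : Type*} [Field F]

/-- polynomial in `N` with coefficient vector `c`. -/
noncomputable def Psi (k : ℕ) (N : Matrix ι ι F) (c : Fin (k + 1) → F) : Matrix ι ι F :=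
  ∑ i : Fin (k + 1), c i • N ^ (i : ℕ)

theorem Psi_commute_of (k : ℕ) (N : Matrix ι ι F) (c : Fin (k + 1) → F) (M : Matrix ι ι F)
    (h : Commute M N) : Commute M (Psi k N c) := by
  unfold Psi
  apply Commute.sum_right
  intro i _
  exact (h.pow_right _).smul_right _

theorem Psi_commute (k : ℕ) (N : Matrix ι ι F) (c : Fin (k + 1) → F) : Commute (Psi k N c) N :=
  (Psi_commute_of k N c N (Commute.refl N)).symm

theorem Psi_commute_Psi (k : ℕ) (N : Matrix ι ι F) (c d : Fin (k + 1) → F) :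
    Commute (Psi k N c) (Psi k N d) :=
  Psi_commute_of k N d _ (Psi_commute k N c)

theorem Psi_split (k : ℕ) (N : Matrix ι ι F) (c : Fin (k + 1) → F) :
    Psi k N c = c 0 • 1 + N * ∑ i : Fin k, c i.succ • N ^ (i : ℕ) := by
  unfold Psi
  rw [Fin.sum_univ_succ, Finset.mul_sum]
  congr 1
  apply Finset.sum_congr rfl
  intro i _
  rw [Fin.val_succ, pow_succ', Matrix.mul_smul]

theorem Psi_tail_nilp (k : ℕ) (N : Matrix ι ι F) (hN : N ^ (k + 1) = 0) (c : Fin (k + 1) → F) :
    IsNilpotent (N * ∑ i : Fin k, c i.succ • N ^ (i : ℕ)) := by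
  refine ⟨k + 1, ?_⟩
  have hc : Commute N (∑ i : Fin k, c i.succ • N ^ (i : ℕ)) := by
    apply Commute.sum_right
    intro i _
    exact ((Commute.refl N).pow_right _).smul_right _
  rw [hc.mul_pow, hN, zero_mul]

theorem Psi_nilp (k : ℕ) (N : Matrix ι ι F) (hN : N ^ (k + 1) = 0) (c : Fin (k + 1) → F)
    (hc : c 0 = 0) : IsNilpotent (Psi k N c) := by
  rw [Psi_split, hc, zero_smul, zero_add]
  exact Psi_tail_nilp k N hN c

theorem Psi_isUnit (k : ℕ) (N : Matrix ι ι F) (hN : N ^ (k + 1) = 0) (c : Fin (k + 1) → F)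
    (hc : c 0 ≠ 0) : IsUnit (Psi k N c) := by
  rw [Psi_split]
  apply IsNilpotent.isUnit_add_left_of_commute (Psi_tail_nilp k N hN c)
  · have := (IsUnit.mk0 _ hc).map (algebraMap F (Matrix ι ι F))
    rwa [Algebra.algebraMap_eq_smul_one] at this
  · exact (Commute.one_right _).smul_right _

theorem Psi_not_isUnit [Nonempty ι] (k : ℕ) (N : Matrix ι ι F) (hN : N ^ (k + 1) = 0)
    (c : Fin (k + 1) → F) (hc : c 0 = 0) : ¬ IsUnit (Psi k N c) := by
  intro hu
  obtain ⟨j, hj⟩ := Psi_nilp k N hN c hc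
  have := hu.pow j
  rw [hj] at this
  exact not_isUnit_zero this

theorem Psi_mulVec (k : ℕ) (N : Matrix ι ι F) (c : Fin (k + 1) → F) (v : ι → F) :
    (Psi k N c) *ᵥ v = ∑ i : Fin (k + 1), c i • ((N ^ (i : ℕ)) *ᵥ v) := by
  unfold Psi
  rw [Matrix.sum_mulVec]
  apply Finset.sum_congr rfl
  intro i _
  rw [Matrix.smul_mulVec]

theorem Psi_add (k : ℕ) (N : Matrix ι ι F) (c d : Fin (k + 1) → F) :
    Psi k N (c + d) = Psi k N c + Psi k N d := by
  unfold Psi
  rw [← Finset.sum_add_distrib]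
  apply Finset.sum_congr rfl
  intro i _
  rw [Pi.add_apply, add_smul]

theorem Psi_neg (k : ℕ) (N : Matrix ι ι F) (c : Fin (k + 1) → F) :
    Psi k N (-c) = - Psi k N c := by
  unfold Psi
  rw [← Finset.sum_neg_distrib]
  apply Finset.sum_congr rfl
  intro i _
  rw [Pi.neg_apply, neg_smul]

theorem Psi_sub (k : ℕ) (N : Matrix ι ι F) (c d : Fin (k + 1) → F) :
    Psi k N (c - d) = Psi k N c - Psi k N d := by
  rw [sub_eq_add_neg, Psi_add, Psi_neg, ← sub_eq_add_neg]

theorem Psi_neg_arg (k : ℕ) (N : Matrix ι ι F) (c : Fin (k + 1) → F) :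
    Psi k (-N) c = Psi k N (fun i => (-1) ^ (i : ℕ) * c i) := by
  unfold Psi
  apply Finset.sum_congr rfl
  intro i _
  show c i • (-N) ^ (i : ℕ) = ((-1) ^ (i : ℕ) * c i) • N ^ (i : ℕ)
  rcases Nat.even_or_odd (i : ℕ) with h | h
  · rw [h.neg_pow, h.neg_one_pow, one_mul]
  · rw [h.neg_pow, h.neg_one_pow, smul_neg, neg_one_mul, neg_smul]

theorem mulVecLin_pow_apply (N : Matrix ι ι F) (j : ℕ) (v : ι → F) :
    ((Matrix.mulVecLin N) ^ j) v = (N ^ j) *ᵥ v := by
  induction j generalizing v with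
  | zero => simp
  | succ j ih =>
    rw [pow_succ, Module.End.mul_apply, ih, pow_succ, Matrix.mulVecLin_apply, Matrix.mulVec_mulVec]

theorem exists_cyclic (k : ℕ) (N : Matrix ι ι F) (hcard : Fintype.card ι = k + 1)
    (hnil : N ^ (k + 1) = 0) (hrank : N.rank = k) : ∃ v : ι → F, (N ^ k) *ᵥ v ≠ 0 := by
  set f := Matrix.mulVecLin N with hf
  have hker : finrank F (LinearMap.ker f) ≤ 1 := by
    have h4 := LinearMap.finrank_range_add_finrank_ker f
    have h5 : finrank F (LinearMap.range f) = k := hrank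
    rw [h5] at h4
    simp only [Module.finrank_fintype_fun_eq_card, hcard] at h4
    omega
  by_contra hcon
  push Not at hcon
  have h1 : LinearMap.ker (f ^ k) = ⊤ := by
    rw [LinearMap.ker_eq_top]
    apply LinearMap.ext
    intro v
    rw [mulVecLin_pow_apply, hcon v]
    rfl
  have h2 := Cfsg.Agent.S2573.finrank_ker_pow_le f k
  rw [h1, finrank_top] at h2
  simp only [Module.finrank_fintype_fun_eq_card, hcard] at h2
  have : k * finrank F (LinearMap.ker f) ≤ k * 1 := Nat.mul_le_mul_left _ hker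
  omega

theorem li_of_cyclic (k : ℕ) (N : Matrix ι ι F) (hnil : N ^ (k + 1) = 0) (v : ι → F)
    (hv : (N ^ k) *ᵥ v ≠ 0) :
    LinearIndependent F (fun i : Fin (k + 1) => (N ^ (i : ℕ)) *ᵥ v) := by
  have hfn : (Matrix.mulVecLin N) ^ (k + 1) = 0 := by
    apply LinearMap.ext
    intro x
    rw [mulVecLin_pow_apply, hnil, Matrix.zero_mulVec]
    rfl
  have h := Cfsg.Agent.S2571.li_iterates (Matrix.mulVecLin N) k hfn v
    (by rw [mulVecLin_pow_apply]; exact hv)
  have e : (fun i : Fin (k + 1) => ((Matrix.mulVecLin N) ^ (i : ℕ)) v)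
      = (fun i : Fin (k + 1) => (N ^ (i : ℕ)) *ᵥ v) := by
    funext i
    rw [mulVecLin_pow_apply]
  rw [e] at h
  exact h

theorem Psi_injective (k : ℕ) (N : Matrix ι ι F) (hnil : N ^ (k + 1) = 0) (v : ι → F)
    (hv : (N ^ k) *ᵥ v ≠ 0) : Function.Injective (Psi k N) := by
  intro c c' hcc
  have hli := li_of_cyclic k N hnil v hv
  have h2 := congrArg (fun M => M *ᵥ v) hcc
  simp only [Psi_mulVec] at h2
  have h3 : ∑ i : Fin (k + 1), (c i - c' i) • ((N ^ (i : ℕ)) *ᵥ v) = 0 := by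
    simp only [sub_smul, Finset.sum_sub_distrib]
    rw [h2, sub_self]
  have h4 := (Fintype.linearIndependent_iff.mp hli) (fun i => c i - c' i) h3
  funext i
  exact sub_eq_zero.mp (h4 i)

theorem exists_Psi_of_commute (k : ℕ) (N : Matrix ι ι F) (hcard : Fintype.card ι = k + 1)
    (hnil : N ^ (k + 1) = 0) (v : ι → F) (hv : (N ^ k) *ᵥ v ≠ 0) (G : Matrix ι ι F)
    (hg : Commute G N) : ∃ c, G = Psi k N c := by
  have hli := li_of_cyclic k N hnil v hv
  have hcard' : Fintype.card (Fin (k + 1)) = finrank F (ι → F) := by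
    rw [Module.finrank_fintype_fun_eq_card, hcard, Fintype.card_fin]
  set B := basisOfLinearIndependentOfCardEqFinrank hli hcard' with hB
  have hBapp : ∀ i, B i = (N ^ (i : ℕ)) *ᵥ v := by
    intro i
    rw [hB, coe_basisOfLinearIndependentOfCardEqFinrank]
  set c : Fin (k + 1) → F := fun i => B.repr (G *ᵥ v) i with hc
  have h1 : (Psi k N c) *ᵥ v = G *ᵥ v := by
    rw [Psi_mulVec]
    have := B.sum_repr (G *ᵥ v)
    simp only [hBapp] at this
    exact this
  have hpow : ∀ (M : Matrix ι ι F), Commute M N → ∀ (j : ℕ) (x : ι → F),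
      M *ᵥ ((N ^ j) *ᵥ x) = (N ^ j) *ᵥ (M *ᵥ x) := by
    intro M hM j x
    rw [Matrix.mulVec_mulVec, Matrix.mulVec_mulVec, (hM.pow_right j).eq]
  refine ⟨c, ?_⟩
  have : Matrix.toLin' (Psi k N c) = Matrix.toLin' G := by
    apply B.ext
    intro j
    rw [hBapp, Matrix.toLin'_apply, Matrix.toLin'_apply, hpow _ (Psi_commute k N c), hpow _ hg, h1]
  exact (Matrix.toLin'.injective this).symm

theorem commute_of_commute (k : ℕ) (N : Matrix ι ι F) (hcard : Fintype.card ι = k + 1)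
    (hnil : N ^ (k + 1) = 0) (v : ι → F) (hv : (N ^ k) *ᵥ v ≠ 0) (G H : Matrix ι ι F)
    (hg : Commute G N) (hh : Commute H N) : Commute G H := by
  obtain ⟨c, rfl⟩ := exists_Psi_of_commute k N hcard hnil v hv G hg
  obtain ⟨d, rfl⟩ := exists_Psi_of_commute k N hcard hnil v hv H hh
  exact Psi_commute_Psi k N c d

/-- the eigenvector: `w = N^k v` is killed by `N` and `Psi c w = c 0 • w`. -/
theorem Psi_mulVec_top (k : ℕ) (N : Matrix ι ι F) (hnil : N ^ (k + 1) = 0) (v : ι → F)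
    (c : Fin (k + 1) → F) : (Psi k N c) *ᵥ ((N ^ k) *ᵥ v) = c 0 • ((N ^ k) *ᵥ v) := by
  rw [Psi_mulVec, Fin.sum_univ_succ]
  have : ∑ i : Fin k, c i.succ • ((N ^ ((i.succ : Fin (k + 1)) : ℕ)) *ᵥ ((N ^ k) *ᵥ v)) = 0 := by
    apply Finset.sum_eq_zero
    intro i _
    rw [Matrix.mulVec_mulVec, ← pow_add, Fin.val_succ]
    have : (i : ℕ) + 1 + k = (k + 1) + (i : ℕ) := by omega
    rw [this, pow_add, hnil, zero_mul, Matrix.zero_mulVec, smul_zero]
  rw [this, add_zero]
  simp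

end Cfsg.Agent.Lib.Helper16.RN
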