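import Mathlib
import Cfsg.Agent.Lib.Helper16.RegNilp
import Cfsg.Agent.Lib.Helper16.Cayley

set_option autoImplicit false
set_option linter.unusedSectionVars false
set_option linter.unusedSimpArgs false
set_option linter.unusedVariables false
set_option linter.style.haveILetI false

namespace Cfsg.Agent.Lib.Helper16.RN

open Matrix Module

variable {ι : Type*} [Fintype ι] [DecidableEq ι] {F : Type*} [Field F]

theorem adj_pow (adj : Matrix ι ι F →ₗ[F] Matrix ι ι F)
    (hmul : ∀ a b, adj (a * b) = adj b * adj a) (hone : adj 1 = 1) (a : Matrix ι ι F) (j : ℕ) :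
    adj (a ^ j) = (adj a) ^ j := by
  induction j with
  | zero => rw [pow_zero, pow_zero, hone]
  | succ j ih => rw [pow_succ, hmul, ih, pow_succ']

theorem adj_Psi (adj : Matrix ι ι F →ₗ[F] Matrix ι ι F)
    (hmul : ∀ a b, adj (a * b) = adj b * adj a) (hone : adj 1 = 1) (k : ℕ) (N : Matrix ι ι F)
    (c : Fin (k + 1) → F) : adj (Psi k N c) = Psi k (adj N) c := by
  unfold Psi
  rw [map_sum]
  apply Finset.sum_congr rfl
  intro i _
  rw [map_smul, adj_pow adj hmul hone]

theorem adj_Psi_skew (adj : Matrix ι ι F →ₗ[F] Matrix ι ι F)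
    (hmul : ∀ a b, adj (a * b) = adj b * adj a) (hone : adj 1 = 1) (k : ℕ) (s : Matrix ι ι F)
    (hs : adj s = -s) (c : Fin (k + 1) → F) :
    adj (Psi k s c) = Psi k s (fun i => (-1) ^ (i : ℕ) * c i) := by
  rw [adj_Psi adj hmul hone, hs, Psi_neg_arg]

theorem mem_cen_iff (s z : Matrix ι ι F) :
    z ∈ Subalgebra.centralizer F ({s} : Set (Matrix ι ι F)) ↔ Commute z s := by
  rw [Subalgebra.mem_centralizer_iff]
  constructor
  · intro h
    exact (h s rfl).symm
  · intro h g hg
    rw [Set.mem_singleton_iff.mp hg]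
    exact h.eq.symm

@[reducible] noncomputable def cenComm (s : Matrix ι ι F)
    (hc : ∀ a b : Matrix ι ι F, Commute a s → Commute b s → Commute a b) :
    CommRing ↥(Subalgebra.centralizer F ({s} : Set (Matrix ι ι F))) :=
  { (inferInstance : Ring ↥(Subalgebra.centralizer F ({s} : Set (Matrix ι ι F)))) with
    mul_comm := fun a b => Subtype.ext
      (hc a.1 b.1 ((mem_cen_iff s a.1).mp a.2) ((mem_cen_iff s b.1).mp b.2)).eq }

theorem Psi_single (k : ℕ) (N : Matrix ι ι F) : Psi k N (Pi.single 0 1) = 1 := by
  unfold Psi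
  rw [Finset.sum_eq_single (0 : Fin (k + 1))]
  · simp
  · intro i _ hi
    rw [Pi.single_eq_of_ne hi, zero_smul]
  · intro h; exact absurd (Finset.mem_univ _) h

theorem card_even_vanish [Fintype F] (k : ℕ) :
    Nat.card {c : Fin (k + 1) → F // ∀ i : Fin (k + 1), Even (i : ℕ) → c i = 0}
      = Fintype.card F ^ ((k + 1) / 2) := by
  classical
  have e1 : {c : Fin (k + 1) → F // ∀ i : Fin (k + 1), Even (i : ℕ) → c i = 0}
      ≃ (Fin ((k + 1) / 2) → F) :=
    { toFun := fun c j => c.1 ⟨2 * (j : ℕ) + 1, by have := j.2; omega⟩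
      invFun := fun d => ⟨fun i => if h : Even (i : ℕ) then 0
          else d ⟨(i : ℕ) / 2, by
            have := i.2
            rw [Nat.not_even_iff_odd] at h
            obtain ⟨t, ht⟩ := h
            omega⟩, by
        intro i hi
        simp only [hi, dif_pos]⟩
      left_inv := by
        intro c
        apply Subtype.ext
        funext i
        by_cases h : Even (i : ℕ)
        · simp only [h, dif_pos]
          exact (c.2 i h).symm
        · simp only [h, dif_neg, not_false_eq_true]
          have e : (⟨2 * ((i : ℕ) / 2) + 1, by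
              have := i.2
              rw [Nat.not_even_iff_odd] at h
              obtain ⟨t, ht⟩ := h
              omega⟩ : Fin (k + 1)) = i := by
            apply Fin.ext
            rw [Nat.not_even_iff_odd] at h
            obtain ⟨t, ht⟩ := h
            simp only
            omega
          rw [e]
      right_inv := by
        intro d
        funext j
        have h : ¬ Even (2 * (j : ℕ) + 1) := by
          rw [Nat.not_even_iff_odd]
          exact ⟨j, rfl⟩
        simp only [h, dif_neg, not_false_eq_true]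
        have e : (⟨(2 * (j : ℕ) + 1) / 2, by have := j.2; omega⟩ : Fin ((k + 1) / 2)) = j := by
          apply Fin.ext
          simp only
          omega
        rw [e] }
  rw [Nat.card_congr e1, Nat.card_eq_fintype_card, Fintype.card_pi, Finset.prod_const,
    Finset.card_univ, Fintype.card_fin]


abbrev Cen (s : Matrix ι ι F) : Type _ := ↥(Subalgebra.centralizer F ({s} : Set (Matrix ι ι F)))

theorem card_unitary_commutant [Fintype F] (k : ℕ) (s : Matrix ι ι F)
    (hcard : Fintype.card ι = k + 1) (hnil : s ^ (k + 1) = 0) (hrank : s.rank = k)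
    (adj : Matrix ι ι F →ₗ[F] Matrix ι ι F)
    (hmul : ∀ a b, adj (a * b) = adj b * adj a) (hone : adj 1 = 1) (hs : adj s = -s)
    (h2 : (2 : F) ≠ 0) :
    Nat.card {g : Matrix ι ι F // Commute g s ∧ g * adj g = 1}
      = 2 * Fintype.card F ^ ((k + 1) / 2) := by
  classical
  obtain ⟨v, hv⟩ := exists_cyclic k s hcard hnil hrank
  have hc : ∀ a b : Matrix ι ι F, Commute a s → Commute b s → Commute a b :=
    fun a b ha hb => commute_of_commute k s hcard hnil v hv a b ha hb
  have hne : Nonempty ι := by
    rw [← Fintype.card_pos_iff, hcard]; omega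
  letI : CommRing (Cen s) := cenComm s hc
  have hadjmem : ∀ z : Matrix ι ι F, Commute z s → Commute (adj z) s := by
    intro z hz
    have h1 : adj (z * s) = adj (s * z) := by rw [hz.eq]
    rw [hmul, hmul, hs] at h1
    show adj z * s = s * adj z
    have h3 : -(s * adj z) = -(adj z * s) := by
      rw [← neg_mul, ← mul_neg]; exact h1
    exact (neg_injective h3).symm
  let σ : Cen s →+* Cen s :=
    { toFun := fun z => ⟨adj z.1, (mem_cen_iff s _).mpr (hadjmem z.1 ((mem_cen_iff s _).mp z.2))⟩
      map_one' := Subtype.ext hone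
      map_mul' := fun a b => Subtype.ext (by
        show adj (a.1 * b.1) = adj a.1 * adj b.1
        rw [hmul]
        exact (hc _ _ (hadjmem b.1 ((mem_cen_iff s _).mp b.2))
          (hadjmem a.1 ((mem_cen_iff s _).mp a.2))).eq)
      map_zero' := Subtype.ext (map_zero adj)
      map_add' := fun a b => Subtype.ext (map_add adj a.1 b.1) }
  have hσ : ∀ z : Cen s, ((σ z : Cen s) : Matrix ι ι F) = adj z.1 := fun z => rfl
  have hPsi : ∀ z : Cen s, ∃ c, z.1 = Psi k s c := fun z =>
    exists_Psi_of_commute k s hcard hnil v hv z.1 ((mem_cen_iff s _).mp z.2)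
  have hnilR : ∀ (z : Cen s) (c : Fin (k + 1) → F), z.1 = Psi k s c → c 0 = 0 → IsNilpotent z := by
    intro z c hz h0
    obtain ⟨j, hj⟩ := Psi_nilp k s hnil c h0
    refine ⟨j, Subtype.ext ?_⟩
    show ((z ^ j : Cen s) : Matrix ι ι F) = 0
    rw [SubmonoidClass.coe_pow]
    show z.1 ^ j = 0
    rw [hz, hj]
  have h2R : IsUnit (2 : Cen s) := by
    have : (2 : Cen s) = algebraMap F (Cen s) 2 := by
      rw [map_ofNat]
    rw [this]
    exact (IsUnit.mk0 _ h2).map _
  have hntR : Nontrivial (Cen s) := by
    refine ⟨⟨0, 1, fun h => ?_⟩⟩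
    have h1 : (0 : Matrix ι ι F) = 1 := congrArg Subtype.val h
    exact zero_ne_one h1
  have hK : ∀ a : Cen s, σ a = -a → IsUnit (1 + a) := by
    intro a ha
    obtain ⟨c, hc'⟩ := hPsi a
    have h1 : adj a.1 = -a.1 := congrArg Subtype.val ha
    rw [hc', adj_Psi_skew adj hmul hone k s hs, ← Psi_neg] at h1
    have h3 := congrFun (Psi_injective k s hnil v hv h1) 0
    have h0 : c 0 = 0 := by
      simp only [Fin.val_zero, pow_zero, one_mul, Pi.neg_apply] at h3
      have h4 : (2 : F) * c 0 = 0 := by linear_combination h3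
      exact (mul_eq_zero.mp h4).resolve_left h2
    exact (hnilR a c hc' h0).isUnit_one_add
  have hU : ∀ g : Cen s, g * σ g = 1 → (IsUnit (1 + g) ↔ ¬ IsUnit (1 - g)) := by
    intro g hg
    obtain ⟨c, hc'⟩ := hPsi g
    have h1 : g.1 * adj g.1 = 1 := congrArg Subtype.val hg
    have hc0 : c 0 * c 0 = 1 := by
      have h3 : (g.1 * adj g.1) *ᵥ ((s ^ k) *ᵥ v) = (1 : Matrix ι ι F) *ᵥ ((s ^ k) *ᵥ v) := by
        rw [h1]
      rw [← Matrix.mulVec_mulVec, hc', adj_Psi_skew adj hmul hone k s hs,
        Psi_mulVec_top k s hnil, Matrix.mulVec_smul, Psi_mulVec_top k s hnil, Matrix.one_mulVec,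
        smul_smul] at h3
      simp only [Fin.val_zero, pow_zero, one_mul] at h3
      have h4 : (c 0 * c 0 - 1) • ((s ^ k) *ᵥ v) = 0 := by
        rw [sub_smul, h3, one_smul, sub_self]
      have h5 := (smul_eq_zero.mp h4).resolve_right hv
      exact sub_eq_zero.mp h5
    have hcases : c 0 = 1 ∨ c 0 = -1 := by
      have h4 : (c 0 - 1) * (c 0 + 1) = 0 := by linear_combination hc0
      rcases mul_eq_zero.mp h4 with h | h
      · left; exact sub_eq_zero.mp h
      · right; exact eq_neg_of_add_eq_zero_left h
    rcases hcases with h1c | h1c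
    · have hν : IsNilpotent (1 - g) := by
        apply hnilR (1 - g) (Pi.single 0 1 - c)
        · show (1 : Matrix ι ι F) - g.1 = _
          rw [Psi_sub, Psi_single, hc']
        · simp [h1c]
      have hu : IsUnit (1 + g) := by
        have : 1 + g = 2 + -(1 - g) := by ring
        rw [this]
        exact hν.neg.isUnit_add_left_of_commute h2R (Commute.all _ _)
      have hnu : ¬ IsUnit (1 - g) := by
        intro hu'
        obtain ⟨j, hj⟩ := hν
        have := hu'.pow j
        rw [hj] at this
        exact not_isUnit_zero this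
      exact ⟨fun _ => hnu, fun _ => hu⟩
    · have hν : IsNilpotent (1 + g) := by
        apply hnilR (1 + g) (Pi.single 0 1 + c)
        · show (1 : Matrix ι ι F) + g.1 = _
          rw [Psi_add, Psi_single, hc']
        · simp [h1c]
      have hu : IsUnit (1 - g) := by
        have : 1 - g = 2 + -(1 + g) := by ring
        rw [this]
        exact hν.neg.isUnit_add_left_of_commute h2R (Commute.all _ _)
      have hnu : ¬ IsUnit (1 + g) := by
        intro hu'
        obtain ⟨j, hj⟩ := hν
        have := hu'.pow j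
        rw [hj] at this
        exact not_isUnit_zero this
      exact ⟨fun h => absurd h hnu, fun h => absurd hu h⟩
  have hmain := Cay.cayley_card σ h2R hK hU
  have e1 : {g : Matrix ι ι F // Commute g s ∧ g * adj g = 1} ≃ {g : Cen s // g * σ g = 1} :=
    { toFun := fun g => ⟨⟨g.1, (mem_cen_iff s _).mpr g.2.1⟩, Subtype.ext g.2.2⟩
      invFun := fun g => ⟨g.1.1, (mem_cen_iff s _).mp g.1.2, congrArg Subtype.val g.2⟩
      left_inv := fun g => rfl
      right_inv := fun g => rfl }
  have hskew : ∀ c : Fin (k + 1) → F,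
      adj (Psi k s c) = - Psi k s c ↔ ∀ i : Fin (k + 1), Even (i : ℕ) → c i = 0 := by
    intro c
    rw [adj_Psi_skew adj hmul hone k s hs, ← Psi_neg]
    constructor
    · intro h i hi
      have h3 := congrFun (Psi_injective k s hnil v hv h) i
      simp only [hi.neg_one_pow, one_mul, Pi.neg_apply] at h3
      have h4 : (2 : F) * c i = 0 := by linear_combination h3
      exact (mul_eq_zero.mp h4).resolve_left h2
    · intro h
      congr 1
      funext i
      rcases Nat.even_or_odd (i : ℕ) with hi | hi
      · rw [h i hi, Pi.neg_apply, h i hi]; simp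
      · rw [hi.neg_one_pow, Pi.neg_apply]; ring
  have e2 : {c : Fin (k + 1) → F // ∀ i : Fin (k + 1), Even (i : ℕ) → c i = 0}
      ≃ {a : Cen s // σ a = -a} :=
    Equiv.ofBijective
      (fun c => ⟨⟨Psi k s c.1, (mem_cen_iff s _).mpr (Psi_commute k s c.1)⟩,
        Subtype.ext ((hskew c.1).mpr c.2)⟩)
      ⟨by
        intro c c' hcc
        have h1 : Psi k s c.1 = Psi k s c'.1 := congrArg (fun z => z.1.1) hcc
        exact Subtype.ext (Psi_injective k s hnil v hv h1),
      by
        intro a
        obtain ⟨c, hc'⟩ := hPsi a.1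
        have h1 : adj a.1.1 = -a.1.1 := congrArg Subtype.val a.2
        rw [hc'] at h1
        refine ⟨⟨c, (hskew c).mp h1⟩, ?_⟩
        apply Subtype.ext
        apply Subtype.ext
        exact hc'.symm⟩
  rw [Nat.card_congr e1, hmain, ← Nat.card_congr e2, card_even_vanish]


end Cfsg.Agent.Lib.Helper16.RN
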