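import Mathlib
import Cfsg.Agent.Lib.Helper16.RegAdj

set_option autoImplicit false
set_option linter.unusedSectionVars false
set_option linter.unusedSimpArgs false
set_option linter.unusedVariables false

namespace Cfsg.Agent.Lib.Helper16.RN

open Matrix Module

variable {F : Type*} [Field F] {m : ℕ}

/-- the symplectic adjoint `a ↦ (-J) aᵀ J`. -/
noncomputable def spAdj (F : Type*) [Field F] (m : ℕ) :
    Matrix (Fin m ⊕ Fin m) (Fin m ⊕ Fin m) F →ₗ[F] Matrix (Fin m ⊕ Fin m) (Fin m ⊕ Fin m) F where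
  toFun a := (-Matrix.J (Fin m) F) * aᵀ * Matrix.J (Fin m) F
  map_add' a b := by
    rw [Matrix.transpose_add, Matrix.mul_add, Matrix.add_mul]
  map_smul' c a := by
    rw [Matrix.transpose_smul, Matrix.mul_smul, Matrix.smul_mul]
    rfl

theorem spAdj_apply (a : Matrix (Fin m ⊕ Fin m) (Fin m ⊕ Fin m) F) :
    spAdj F m a = (-Matrix.J (Fin m) F) * aᵀ * Matrix.J (Fin m) F := rfl

theorem J_mul_negJ : Matrix.J (Fin m) F * (-Matrix.J (Fin m) F) = 1 := by
  rw [mul_neg, Matrix.J_squared, neg_neg]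

theorem negJ_mul_J : (-Matrix.J (Fin m) F) * Matrix.J (Fin m) F = 1 := by
  rw [neg_mul, Matrix.J_squared, neg_neg]

theorem spAdj_mul (a b : Matrix (Fin m ⊕ Fin m) (Fin m ⊕ Fin m) F) :
    spAdj F m (a * b) = spAdj F m b * spAdj F m a := by
  simp only [spAdj_apply, Matrix.transpose_mul]
  have : (-Matrix.J (Fin m) F) * bᵀ * Matrix.J (Fin m) F * ((-Matrix.J (Fin m) F) * aᵀ * Matrix.J (Fin m) F)
      = (-Matrix.J (Fin m) F) * bᵀ * (Matrix.J (Fin m) F * (-Matrix.J (Fin m) F)) * aᵀ * Matrix.J (Fin m) F := by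
    simp only [Matrix.mul_assoc]
  rw [this, J_mul_negJ, Matrix.mul_one]
  simp only [Matrix.mul_assoc]

theorem spAdj_one : spAdj F m (1 : Matrix (Fin m ⊕ Fin m) (Fin m ⊕ Fin m) F) = 1 := by
  rw [spAdj_apply, Matrix.transpose_one, Matrix.mul_one, negJ_mul_J]

theorem spAdj_spAdj (a : Matrix (Fin m ⊕ Fin m) (Fin m ⊕ Fin m) F) :
    spAdj F m (spAdj F m a) = a := by
  simp only [spAdj_apply, Matrix.transpose_mul, Matrix.transpose_neg, Matrix.J_transpose,
    Matrix.transpose_transpose, neg_neg]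
  have : -Matrix.J (Fin m) F * (-Matrix.J (Fin m) F * (a * Matrix.J (Fin m) F)) * Matrix.J (Fin m) F
      = (Matrix.J (Fin m) F * Matrix.J (Fin m) F) * a * (Matrix.J (Fin m) F * Matrix.J (Fin m) F) := by
    simp only [Matrix.mul_assoc, neg_mul, mul_neg, neg_neg]
  rw [this, Matrix.J_squared]
  simp

theorem mem_sp_iff_adj (a : Matrix (Fin m ⊕ Fin m) (Fin m ⊕ Fin m) F) :
    a ∈ Matrix.symplecticGroup (Fin m) F ↔ a * spAdj F m a = 1 := by
  rw [SymplecticGroup.mem_iff, spAdj_apply]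
  constructor
  · intro h
    have : a * (-Matrix.J (Fin m) F * aᵀ * Matrix.J (Fin m) F)
        = -((a * Matrix.J (Fin m) F * aᵀ) * Matrix.J (Fin m) F) := by
      simp only [Matrix.mul_assoc, neg_mul, mul_neg]
    rw [this, h, Matrix.J_squared, neg_neg]
  · intro h
    have h1 : a * (-Matrix.J (Fin m) F * aᵀ * Matrix.J (Fin m) F)
        = -((a * Matrix.J (Fin m) F * aᵀ) * Matrix.J (Fin m) F) := by
      simp only [Matrix.mul_assoc, neg_mul, mul_neg]
    rw [h1] at h
    have h3 : (a * Matrix.J (Fin m) F * aᵀ) * (Matrix.J (Fin m) F * (-Matrix.J (Fin m) F))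
        = 1 * Matrix.J (Fin m) F := by
      rw [← h]
      simp only [Matrix.mul_assoc, neg_mul, mul_neg, neg_neg]
    rw [J_mul_negJ, Matrix.mul_one, Matrix.one_mul] at h3
    exact h3

theorem sp_reg_card [Fintype F] (h2 : (2 : F) ≠ 0) (hm : 1 ≤ m)
    (u : Matrix.symplecticGroup (Fin m) F)
    (hnil : ((u : Matrix (Fin m ⊕ Fin m) (Fin m ⊕ Fin m) F) - 1) ^ (2 * m) = 0)
    (hreg : ((u : Matrix (Fin m ⊕ Fin m) (Fin m ⊕ Fin m) F) - 1).rank = 2 * m - 1) :
    Nat.card ↥(Subgroup.centralizer ({u} : Set ↥(Matrix.symplecticGroup (Fin m) F)))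
      = 2 * Fintype.card F ^ m := by
  classical
  set U : Matrix (Fin m ⊕ Fin m) (Fin m ⊕ Fin m) F := u.1 with hU
  set V := spAdj F m U with hV
  have hUV : U * V = 1 := (mem_sp_iff_adj U).mp u.2
  have hVU : V * U = 1 := mul_eq_one_comm.mp hUV
  set N := U - 1 with hN
  set s := U - V with hs
  obtain ⟨k, hk⟩ : ∃ k, 2 * m = k + 1 := ⟨2 * m - 1, by omega⟩
  have hcard : Fintype.card (Fin m ⊕ Fin m) = k + 1 := by
    rw [Fintype.card_sum, Fintype.card_fin]; omega
  have hsadj : spAdj F m s = -s := by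
    rw [hs, map_sub, ← hV, spAdj_spAdj]; abel
  set E := (U + 1) * V with hE
  have hsEN : s = E * N := by
    rw [hE, hN, hs]
    have h1 : (U + 1) * V * (U - 1) = (U + 1) * (V * U - V) := by
      rw [Matrix.mul_assoc, mul_sub, mul_one]
    rw [h1, hVU, mul_sub, mul_one, add_mul, hUV, one_mul]
    abel
  have hcommUV : Commute U V := by
    show U * V = V * U
    rw [hUV, hVU]
  have hcommEN : Commute E N := by
    rw [hE, hN]
    apply Commute.mul_left
    · exact ((Commute.refl U).add_left (Commute.one_left U)).sub_right (Commute.one_right _)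
    · exact (hcommUV.symm).sub_right (Commute.one_right _)
  have hnil_s : s ^ (k + 1) = 0 := by
    rw [hsEN, hcommEN.mul_pow, ← hk, hnil, mul_zero]
  have hEunit : IsUnit E.det := by
    have hNnil : IsNilpotent N := ⟨2 * m, hnil⟩
    have h2M : IsUnit ((2 : F) • (1 : Matrix (Fin m ⊕ Fin m) (Fin m ⊕ Fin m) F)) := by
      have := (IsUnit.mk0 _ h2).map (algebraMap F (Matrix (Fin m ⊕ Fin m) (Fin m ⊕ Fin m) F))
      rwa [Algebra.algebraMap_eq_smul_one] at this
    have hU1 : IsUnit (U + 1) := by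
      have : U + 1 = (2 : F) • (1 : Matrix (Fin m ⊕ Fin m) (Fin m ⊕ Fin m) F) + N := by
        rw [hN, two_smul]; abel
      rw [this]
      exact hNnil.isUnit_add_left_of_commute h2M ((Commute.one_right _).smul_right _)
    have hVunit : IsUnit V := ⟨⟨V, U, hVU, hUV⟩, rfl⟩
    exact (Matrix.isUnit_iff_isUnit_det _).mp (hU1.mul hVunit)
  have hrank_s : s.rank = k := by
    rw [hsEN, Matrix.rank_mul_eq_right_of_isUnit_det _ _ hEunit, hreg]; omega
  have hmain := card_unitary_commutant k s hcard hnil_s hrank_s (spAdj F m) spAdj_mul spAdj_one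
    hsadj h2
  have hhalf : (k + 1) / 2 = m := by omega
  rw [hhalf] at hmain
  rw [← hmain]
  obtain ⟨v, hv⟩ := exists_cyclic k s hcard hnil_s hrank_s
  apply Nat.card_congr
  have hUs : Commute U s := by
    rw [hs]
    exact (Commute.refl U).sub_right hcommUV
  exact
    { toFun := fun g => ⟨(g.1 : Matrix (Fin m ⊕ Fin m) (Fin m ⊕ Fin m) F), by
        have hg := (Subgroup.mem_centralizer_iff.mp g.2) u rfl
        have hgU : U * (g.1 : Matrix (Fin m ⊕ Fin m) (Fin m ⊕ Fin m) F)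
            = (g.1 : Matrix (Fin m ⊕ Fin m) (Fin m ⊕ Fin m) F) * U := congrArg Subtype.val hg
        have hgV : V * (g.1 : Matrix (Fin m ⊕ Fin m) (Fin m ⊕ Fin m) F)
            = (g.1 : Matrix (Fin m ⊕ Fin m) (Fin m ⊕ Fin m) F) * V := by
          calc V * (g.1 : Matrix (Fin m ⊕ Fin m) (Fin m ⊕ Fin m) F)
              = V * ((g.1 : Matrix (Fin m ⊕ Fin m) (Fin m ⊕ Fin m) F) * U) * V := by
                rw [Matrix.mul_assoc, Matrix.mul_assoc, hUV, mul_one]
            _ = V * (U * (g.1 : Matrix (Fin m ⊕ Fin m) (Fin m ⊕ Fin m) F)) * V := by rw [hgU]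
            _ = (g.1 : Matrix (Fin m ⊕ Fin m) (Fin m ⊕ Fin m) F) * V := by
                rw [← Matrix.mul_assoc V U, hVU, one_mul]
        show (g.1 : Matrix (Fin m ⊕ Fin m) (Fin m ⊕ Fin m) F) * s
          = s * (g.1 : Matrix (Fin m ⊕ Fin m) (Fin m ⊕ Fin m) F)
        rw [hs, mul_sub, sub_mul, hgU, hgV],
        (mem_sp_iff_adj _).mp g.1.2⟩
      invFun := fun g => ⟨⟨g.1, (mem_sp_iff_adj _).mpr g.2.2⟩, by
        rw [Subgroup.mem_centralizer_iff]
        intro h hh
        rw [Set.mem_singleton_iff] at hh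
        subst hh
        apply Subtype.ext
        show U * g.1 = g.1 * U
        obtain ⟨c, hc⟩ := exists_Psi_of_commute k s hcard hnil_s v hv g.1 g.2.1
        rw [hc]
        exact (Psi_commute_of k s c U hUs).eq⟩
      left_inv := fun g => rfl
      right_inv := fun g => rfl }

end Cfsg.Agent.Lib.Helper16.RN
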