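import Mathlib
import Cfsg.Agent.Lib.Helper16.FCR5
import Cfsg.Agent.Lib.Helper16.SpSemi1
import Cfsg.Agent.Lib.Helper16.RegSp

set_option autoImplicit false
set_option linter.unusedSectionVars false
set_option linter.unusedSimpArgs false
set_option linter.unusedVariables false
set_option linter.unusedTactic false

namespace Cfsg.Agent.Lib.Helper16.SpSemi

open Matrix Module Polynomial Cfsg.Agent.Lib.Helper16.RN

universe u

variable {K : Type u} [Field K] {ι : Type} [Fintype ι] [DecidableEq ι]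

theorem aeval_eq_zero_of_pow (A : Matrix ι ι K) (N : ℕ) (hN : (N : K) ≠ 0)
    (hA : A ^ N = 1) (Q : K[X]) (k : ℕ) (hQ : (aeval A Q) ^ k = 0) : aeval A Q = 0 := by
  have hsep : (X ^ N - C (1 : K)).Separable := separable_X_pow_sub_C 1 hN one_ne_zero
  have hdvd : minpoly K A ∣ X ^ N - C 1 := by
    apply minpoly.dvd K A
    rw [map_sub, map_pow, aeval_X, aeval_C, map_one, hA, sub_self]
  have hsq : Squarefree (minpoly K A) := hsep.squarefree.squarefree_of_dvd hdvd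
  have h1 : minpoly K A ∣ Q ^ k := by
    apply minpoly.dvd K A
    rw [map_pow, hQ]
  have h2 : minpoly K A ∣ Q := hsq.isRadical k Q h1
  obtain ⟨R, hR⟩ := h2
  rw [hR, map_mul, minpoly.aeval, zero_mul]

theorem fitting_zero (A : Matrix ι ι K) (N : ℕ) (hN : (N : K) ≠ 0) (hA : A ^ N = 1)
    (k : ℕ) (hk : 1 ≤ k)
    (hidem : (A - A ^ (N - 1)) ^ k * (A - A ^ (N - 1)) ^ k = (A - A ^ (N - 1)) ^ k) :
    (A - A ^ (N - 1)) * (1 - (A - A ^ (N - 1)) ^ k) = 0 := by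
  obtain ⟨Q, hQ⟩ : ∃ Q : K[X], Q = (X - X ^ (N - 1)) * (1 - (X - X ^ (N - 1)) ^ k) := ⟨_, rfl⟩
  have h1 : aeval A Q = (A - A ^ (N - 1)) * (1 - (A - A ^ (N - 1)) ^ k) := by
    rw [hQ]
    simp only [map_mul, map_sub, map_pow, aeval_X, map_one]
  rw [← h1]
  apply aeval_eq_zero_of_pow A N hN hA Q k
  rw [h1]
  obtain ⟨D, hD⟩ : ∃ D, D = A - A ^ (N - 1) := ⟨_, rfl⟩
  rw [← hD] at hidem ⊢
  have hc : Commute D (1 - D ^ k) := by
    apply Commute.sub_right (Commute.one_right _)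
    exact (Commute.refl D).pow_right k
  rw [hc.mul_pow]
  obtain ⟨s, rfl⟩ : ∃ s, k = s + 1 := ⟨k - 1, by omega⟩
  rw [pow_succ (1 - D ^ (s + 1)), ← mul_assoc, mul_assoc (D ^ (s + 1))]
  have h0 : D ^ (s + 1) * (1 - D ^ (s + 1)) = 0 := by
    rw [mul_sub, mul_one, hidem, sub_self]
  have hc2 : Commute ((1 - D ^ (s + 1)) ^ s) (1 - D ^ (s + 1)) :=
    (Commute.refl _).pow_left s
  rw [hc2.eq, ← mul_assoc, h0, zero_mul]

section sp
variable {m : ℕ}

theorem J_spAdj (a : Matrix (Fin m ⊕ Fin m) (Fin m ⊕ Fin m) K) :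
    Matrix.J (Fin m) K * spAdj K m a = aᵀ * Matrix.J (Fin m) K := by
  rw [spAdj_apply, ← mul_assoc, ← mul_assoc, J_mul_negJ, one_mul]

theorem spAdj_eq_negJ (a : Matrix (Fin m ⊕ Fin m) (Fin m ⊕ Fin m) K) :
    spAdj K m a = (-Matrix.J (Fin m) K) * (aᵀ * Matrix.J (Fin m) K) := by
  rw [spAdj_apply, mul_assoc]

theorem J_nondeg (x : Fin m ⊕ Fin m → K) (h : ∀ y, x ⬝ᵥ Matrix.J (Fin m) K *ᵥ y = 0) : x = 0 := by
  have h1 : x ᵥ* Matrix.J (Fin m) K = 0 := by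
    funext i
    have := h (Pi.single i 1)
    rw [Matrix.dotProduct_mulVec] at this
    simpa using this
  have h2 := congrArg (fun v => v ᵥ* (-Matrix.J (Fin m) K)) h1
  simp only [Matrix.vecMul_vecMul, J_mul_negJ, Matrix.vecMul_one, Matrix.zero_vecMul] at h2
  exact h2

theorem J_alt (x : Fin m ⊕ Fin m → K) : x ⬝ᵥ Matrix.J (Fin m) K *ᵥ x = 0 := by
  simp only [Matrix.J, dotProduct, Matrix.mulVec, Fintype.sum_sum_type, Matrix.fromBlocks_apply₁₁,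
    Matrix.fromBlocks_apply₁₂, Matrix.fromBlocks_apply₂₁, Matrix.fromBlocks_apply₂₂,
    Matrix.zero_apply, zero_mul, Finset.sum_const_zero, zero_add, add_zero, Matrix.neg_apply,
    Matrix.one_apply, neg_mul, ite_mul, one_mul, Finset.sum_neg_distrib, Finset.sum_ite_eq,
    Finset.mem_univ, if_true, mul_neg]
  have : ∑ i, x (Sum.inl i) * x (Sum.inr i) = ∑ i, x (Sum.inr i) * x (Sum.inl i) :=
    Finset.sum_congr rfl (fun i _ => mul_comm _ _)
  rw [this]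
  ring

theorem piece_sp (T e₀ P : Matrix (Fin m ⊕ Fin m) (Fin m ⊕ Fin m) K) (he₀ : e₀ * e₀ = e₀)
    (hadj : spAdj K m e₀ = e₀) (hcomm : e₀ * T = T * e₀) (hT : T = spAdj K m P * P)
    (hTu : IsUnit T) :
    ∃ c₀, e₀ * c₀ = c₀ ∧ c₀ * e₀ = c₀ ∧ spAdj K m c₀ * c₀ = T * e₀ := by
  have heJ : e₀ᵀ * Matrix.J (Fin m) K = Matrix.J (Fin m) K * e₀ := by
    rw [← J_spAdj, hadj]
  have hJT : Matrix.J (Fin m) K * T = Pᵀ * Matrix.J (Fin m) K * P := by
    rw [hT, ← mul_assoc, J_spAdj]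
  obtain ⟨Ti, hTi⟩ := hTu.exists_right_inv
  have hnd : ∀ (M : Matrix (Fin m ⊕ Fin m) (Fin m ⊕ Fin m) K) (Mi : Matrix (Fin m ⊕ Fin m) (Fin m ⊕ Fin m) K),
      M * Mi = 1 → e₀ * M = M * e₀ → ∀ x : Fin m ⊕ Fin m → K, e₀ *ᵥ x = x →
      (∀ y : Fin m ⊕ Fin m → K, e₀ *ᵥ y = y → x ⬝ᵥ (Matrix.J (Fin m) K * M) *ᵥ y = 0) → x = 0 := by
    intro M Mi hM hc x hx h
    apply J_nondeg
    intro w
    have h1 := h (e₀ *ᵥ (Mi *ᵥ w)) (by rw [Matrix.mulVec_mulVec, he₀])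
    have hmat : Matrix.J (Fin m) K * M * e₀ * Mi = e₀ᵀ * Matrix.J (Fin m) K := by
      calc Matrix.J (Fin m) K * M * e₀ * Mi = Matrix.J (Fin m) K * (M * e₀) * Mi := by
            rw [mul_assoc (Matrix.J (Fin m) K) M e₀]
        _ = Matrix.J (Fin m) K * (e₀ * M) * Mi := by rw [hc]
        _ = Matrix.J (Fin m) K * e₀ * (M * Mi) := by simp only [mul_assoc]
        _ = e₀ᵀ * Matrix.J (Fin m) K := by rw [hM, mul_one, heJ]
    rw [Matrix.mulVec_mulVec, Matrix.mulVec_mulVec, hmat, ← Matrix.mulVec_mulVec,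
      Matrix.dotProduct_mulVec, Matrix.vecMul_transpose, hx] at h1
    exact h1
  obtain ⟨c₀, h1, h2, h3⟩ := piece (Matrix.J (Fin m) K) (Matrix.J (Fin m) K * T) e₀ he₀ J_alt
    (by
      intro x
      rw [hJT, bilin_congr]
      exact J_alt _)
    (by
      intro x hx h
      apply hnd 1 1 (one_mul 1) (by rw [mul_one, one_mul]) x hx
      intro y hy
      rw [mul_one]
      exact h y hy)
    (hnd T Ti hTi hcomm)
  refine ⟨c₀, h1, h2, ?_⟩
  have h4 : e₀ᵀ * (Matrix.J (Fin m) K * T) * e₀ = Matrix.J (Fin m) K * (T * e₀) := by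
    calc e₀ᵀ * (Matrix.J (Fin m) K * T) * e₀ = (e₀ᵀ * Matrix.J (Fin m) K) * T * e₀ := by
          simp only [mul_assoc]
      _ = Matrix.J (Fin m) K * (e₀ * T) * e₀ := by rw [heJ]; simp only [mul_assoc]
      _ = Matrix.J (Fin m) K * (T * (e₀ * e₀)) := by rw [hcomm]; simp only [mul_assoc]
      _ = Matrix.J (Fin m) K * (T * e₀) := by rw [he₀]
  calc spAdj K m c₀ * c₀ = (-Matrix.J (Fin m) K) * (c₀ᵀ * Matrix.J (Fin m) K * c₀) := by
        rw [spAdj_apply]; simp only [mul_assoc]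
    _ = (-Matrix.J (Fin m) K) * (Matrix.J (Fin m) K * (T * e₀)) := by rw [h3, h4]
    _ = T * e₀ := by rw [← mul_assoc, negJ_mul_J, one_mul]

end sp

end Cfsg.Agent.Lib.Helper16.SpSemi
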