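import Mathlib
import Cfsg.Agent.Lib.Helper16.SpSemi2

set_option autoImplicit false
set_option linter.unusedSectionVars false
set_option linter.unusedSimpArgs false
set_option linter.unusedVariables false
set_option linter.unusedTactic false

namespace Cfsg.Agent.Lib.Helper16.SpSemi

open Matrix Module Polynomial

universe u

variable {K : Type u} [Field K] {ι : Type} [Fintype ι] [DecidableEq ι]

theorem semi_common [Fintype K] (adj : Matrix ι ι K → Matrix ι ι K)
    (hadd : ∀ a b, adj (a + b) = adj a + adj b) (hmul : ∀ a b, adj (a * b) = adj b * adj a)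
    (hone : adj 1 = 1) (hinv : ∀ a, adj (adj a) = a)
    (hsmul : ∀ (a : K) x, adj (a • x) = a • adj x)
    (A B P : Matrix ι ι K) (hA : A * adj A = 1) (hB : B * adj B = 1) (hP : IsUnit P)
    (hPA : P * A = B * P) (N : ℕ) (hN : (N : K) ≠ 0) (hAN : A ^ N = 1) :
    ∃ (S : Set (Matrix ι ι K)) (T ε e c' : Matrix ι ι K) (k : ℕ),
      (∀ x ∈ Subring.closure S, ∀ y ∈ Subring.closure S, x * y = y * x) ∧
      (∀ x ∈ Subring.closure S, adj x ∈ Subring.closure S) ∧
      (∀ (a : K), ∀ x ∈ Subring.closure S, a • x ∈ Subring.closure S) ∧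
      A ∈ Subring.closure S ∧ T ∈ Subring.closure S ∧ c' ∈ Subring.closure S ∧
      T = adj P * P ∧ IsUnit T ∧ adj T = T ∧
      1 ≤ k ∧ ε = (A - adj A) ^ k ∧ e = 1 - ε ∧ ε * ε = ε ∧ adj ε = ε ∧
      (A - adj A) * e = 0 ∧ adj c' * c' = T * ε ∧ c' * e = 0 := by
  classical
  have hA' : adj A * A = 1 := mul_eq_one_comm.mp hA
  have hB' : adj B * B = 1 := mul_eq_one_comm.mp hB
  have hN0 : N ≠ 0 := by rintro rfl; simp at hN
  obtain ⟨N', rfl⟩ : ∃ N', N = N' + 1 := ⟨N - 1, by omega⟩
  have hAinv : adj A = A ^ (N' + 1 - 1) := by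
    rw [Nat.add_sub_cancel]
    calc adj A = adj A * (A * A ^ N') := by rw [← pow_succ', hAN, mul_one]
      _ = A ^ N' := by rw [← mul_assoc, hA', one_mul]
  obtain ⟨T, hT⟩ : ∃ T, T = adj P * P := ⟨_, rfl⟩
  have hTadj : adj T = T := by rw [hT, hmul, hinv]
  have hPB : adj P * B = A * adj P := by
    have h1 := congrArg adj hPA
    rw [hmul, hmul] at h1
    calc adj P * B = (A * adj A) * adj P * B := by rw [hA, one_mul]
      _ = A * (adj A * adj P) * B := by simp only [mul_assoc]
      _ = A * (adj P * adj B) * B := by rw [h1]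
      _ = A * adj P * (adj B * B) := by simp only [mul_assoc]
      _ = A * adj P := by rw [hB', mul_one]
  have hTA : T * A = A * T := by
    rw [hT, mul_assoc, hPA, ← mul_assoc, hPB, mul_assoc]
  have hTA' : T * adj A = adj A * T := by
    calc T * adj A = (adj A * A) * T * adj A := by rw [hA', one_mul]
      _ = adj A * (A * T) * adj A := by simp only [mul_assoc]
      _ = adj A * (T * A) * adj A := by rw [hTA]
      _ = adj A * T * (A * adj A) := by simp only [mul_assoc]
      _ = adj A * T := by rw [hA, mul_one]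
  obtain ⟨Pi, hPi⟩ := hP.exists_right_inv
  have hPi' : Pi * P = 1 := mul_eq_one_comm.mp hPi
  have hTu : IsUnit T := by
    apply IsUnit.of_mul_eq_one (Pi * adj Pi)
    rw [hT]
    calc adj P * P * (Pi * adj Pi) = adj P * (P * Pi) * adj Pi := by simp only [mul_assoc]
      _ = adj (Pi * P) := by rw [hPi, mul_one, hmul]
      _ = 1 := by rw [hPi', hone]
  obtain ⟨S, hSdef⟩ : ∃ S : Set (Matrix ι ι K),
      S = {x | x = A ∨ x = adj A ∨ x = T ∨ ∃ a : K, x = a • 1} := ⟨_, rfl⟩
  have hcomm : ∀ a ∈ S, ∀ b ∈ S, a * b = b * a := by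
    intro a ha b hb
    rw [hSdef] at ha hb
    rcases ha with rfl | rfl | rfl | ⟨a, rfl⟩ <;> rcases hb with rfl | rfl | rfl | ⟨b, rfl⟩
    · rfl
    · rw [hA, hA']
    · exact hTA.symm
    · rw [Matrix.mul_smul, Matrix.smul_mul, mul_one, one_mul]
    · rw [hA, hA']
    · rfl
    · exact hTA'.symm
    · rw [Matrix.mul_smul, Matrix.smul_mul, mul_one, one_mul]
    · exact hTA
    · exact hTA'
    · rfl
    · rw [Matrix.mul_smul, Matrix.smul_mul, mul_one, one_mul]
    · rw [Matrix.mul_smul, Matrix.smul_mul, mul_one, one_mul]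
    · rw [Matrix.mul_smul, Matrix.smul_mul, mul_one, one_mul]
    · rw [Matrix.mul_smul, Matrix.smul_mul, mul_one, one_mul]
    · rw [Matrix.smul_mul, Matrix.smul_mul, one_mul, one_mul, smul_comm]
  have hS : ∀ a ∈ S, adj a ∈ S := by
    intro a ha
    rw [hSdef] at ha ⊢
    rcases ha with rfl | rfl | rfl | ⟨a, rfl⟩
    · right; left; rfl
    · left; exact hinv _
    · right; right; left; exact hTadj
    · right; right; right; exact ⟨a, by rw [hsmul, hone]⟩
  have hSS : ∀ a ∈ S, adj (adj a) = a := fun a _ => hinv a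
  have hAS : A ∈ Subring.closure S := Subring.subset_closure (by rw [hSdef]; left; rfl)
  have hTS : T ∈ Subring.closure S :=
    Subring.subset_closure (by rw [hSdef]; right; right; left; rfl)
  have hscal : ∀ (a : K) x, x ∈ Subring.closure S → a • x ∈ Subring.closure S := by
    intro a x hx
    have h1 : a • x = (a • (1 : Matrix ι ι K)) * x := by
      rw [Matrix.smul_mul, one_mul]
    rw [h1]
    exact mul_mem (Subring.subset_closure (by rw [hSdef]; right; right; right; exact ⟨a, rfl⟩)) hx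
  obtain ⟨k, hk1, hidem, hadjε, H1, -⟩ := FCR.key2 adj hadd hmul hone S hcomm hS hSS A hAS
  have hfit : (A - adj A) * (1 - (A - adj A) ^ k) = 0 := by
    have := fitting_zero A (N' + 1) hN hAN k hk1 (by rw [← hAinv]; exact hidem)
    rw [← hAinv] at this
    exact this
  obtain ⟨c', hc'S, hF1, hc'e⟩ := H1 T hTS hTu hTadj
  exact ⟨S, T, (A - adj A) ^ k, 1 - (A - adj A) ^ k, c', k,
    fun x hx y hy => FCR.commute_closure S hcomm hx hy,
    fun x hx => FCR.adj_mem_closure adj hadd hmul hone S hS hx,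
    fun a x hx => hscal a x hx, hAS, hTS, hc'S, hT, hTu, hTadj, hk1, rfl, rfl, hidem, hadjε, hfit,
    hF1, hc'e⟩

end Cfsg.Agent.Lib.Helper16.SpSemi
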