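import Mathlib
import Cfsg.Agent.Lib.Helper16.SemiCommon

set_option autoImplicit false
set_option linter.unusedSectionVars false
set_option linter.unusedSimpArgs false
set_option linter.unusedVariables false
set_option linter.unusedTactic false

namespace Cfsg.Agent.Lib.Helper16.SpSemi

open Matrix Module Polynomial

universe u

variable {K : Type u} [Field K] {ι : Type} [Fintype ι] [DecidableEq ι]

theorem idem_factor (e : Matrix ι ι K) (he : e * e = e) {κ : Type} [Fintype κ] [DecidableEq κ]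
    (hκ : Fintype.card κ = finrank K (LinearMap.range (Matrix.toLin' e))) :
    ∃ (L : Matrix κ ι K) (R : Matrix ι κ K), L * R = 1 ∧ R * L = e := by
  classical
  obtain ⟨W, hW⟩ : ∃ W : Submodule K (ι → K), W = LinearMap.range (Matrix.toLin' e) := ⟨_, rfl⟩
  rw [← hW] at hκ
  have hmemW : ∀ x : ι → K, x ∈ W ↔ e *ᵥ x = x := by
    intro x
    rw [hW, LinearMap.mem_range]
    constructor
    · rintro ⟨v, rfl⟩
      rw [Matrix.toLin'_apply, Matrix.mulVec_mulVec, he]
    · intro h
      exact ⟨x, by rw [Matrix.toLin'_apply, h]⟩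
  obtain ⟨b⟩ : Nonempty (Basis κ K W) := by
    have b0 := Module.finBasis K W
    have hc : Fintype.card (Fin (finrank K W)) = Fintype.card κ := by
      rw [Fintype.card_fin, hκ]
    exact ⟨b0.reindex (Fintype.equivOfCardEq hc)⟩
  obtain ⟨pr, hpr⟩ : ∃ pr : (ι → K) →ₗ[K] W, ∀ x, (pr x : ι → K) = e *ᵥ x := by
    refine ⟨LinearMap.codRestrict W (Matrix.toLin' e) (fun x => ?_), fun x => rfl⟩
    rw [hW]; exact LinearMap.mem_range_self _ x
  obtain ⟨Ll, hLl⟩ : ∃ Ll : (ι → K) →ₗ[K] (κ → K), ∀ x, Ll x = b.equivFun (pr x) :=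
    ⟨b.equivFun.toLinearMap ∘ₗ pr, fun x => rfl⟩
  obtain ⟨Rl, hRl⟩ : ∃ Rl : (κ → K) →ₗ[K] (ι → K), ∀ y, Rl y = (b.equivFun.symm y : ι → K) :=
    ⟨W.subtype ∘ₗ b.equivFun.symm.toLinearMap, fun y => rfl⟩
  refine ⟨LinearMap.toMatrix' Ll, LinearMap.toMatrix' Rl, ?_, ?_⟩
  · rw [← LinearMap.toMatrix'_comp, ← LinearMap.toMatrix'_id]
    congr 1
    apply LinearMap.ext
    intro y
    rw [LinearMap.comp_apply, hLl, hRl, LinearMap.id_apply]
    have h1 : pr (b.equivFun.symm y : ι → K) = b.equivFun.symm y := by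
      apply Subtype.ext
      rw [hpr]
      exact (hmemW _).mp (b.equivFun.symm y).2
    rw [h1, LinearEquiv.apply_symm_apply]
  · rw [← LinearMap.toMatrix'_comp]
    have h2 : e = LinearMap.toMatrix' (Matrix.toLin' e) := (LinearMap.toMatrix'_toLin' e).symm
    conv_rhs => rw [h2]
    congr 1
    apply LinearMap.ext
    intro x
    rw [LinearMap.comp_apply, hLl, hRl, LinearEquiv.symm_apply_apply, hpr, Matrix.toLin'_apply]

theorem alt_rank_even (H ε : Matrix ι ι K) (hε : ε * ε = ε)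
    (halt : ∀ x : ι → K, x ⬝ᵥ H *ᵥ x = 0)
    (hnd : ∀ x : ι → K, ε *ᵥ x = x → (∀ y : ι → K, ε *ᵥ y = y → x ⬝ᵥ H *ᵥ y = 0) → x = 0) :
    ∃ k, finrank K (LinearMap.range (Matrix.toLin' ε)) = 2 * k := by
  classical
  obtain ⟨W, hW⟩ : ∃ W : Submodule K (ι → K), W = LinearMap.range (Matrix.toLin' ε) := ⟨_, rfl⟩
  rw [← hW]
  have hmemW : ∀ x : ι → K, x ∈ W ↔ ε *ᵥ x = x := by
    intro x
    rw [hW, LinearMap.mem_range]
    constructor
    · rintro ⟨v, rfl⟩
      rw [Matrix.toLin'_apply, Matrix.mulVec_mulVec, hε]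
    · intro h
      exact ⟨x, by rw [Matrix.toLin'_apply, h]⟩
  have hB : ∀ (x y : ι → K), Matrix.toBilin' H x y = x ⬝ᵥ H *ᵥ y :=
    fun x y => Matrix.toBilin'_apply' H x y
  have hal : ((Matrix.toBilin' H).restrict W).IsAlt := by
    intro x
    show Matrix.toBilin' H (x : ι → K) (x : ι → K) = 0
    rw [hB]; exact halt _
  have key : ∀ w : W, (∀ u : W, Matrix.toBilin' H (w : ι → K) (u : ι → K) = 0) → w = 0 := by
    intro w hw
    apply Subtype.ext
    apply hnd w.1 ((hmemW _).mp w.2)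
    intro y hy
    have := hw ⟨y, (hmemW _).mpr hy⟩
    rw [hB] at this
    exact this
  have hndW : ((Matrix.toBilin' H).restrict W).Nondegenerate := by
    constructor
    · intro w hw
      exact key w (fun u => hw u)
    · intro w hw
      apply key w
      intro u
      have h2 : Matrix.toBilin' H (u : ι → K) (w : ι → K) = 0 := hw u
      have h3 := hal.neg_eq u w
      have h4 : -(Matrix.toBilin' H (u : ι → K) (w : ι → K))
          = Matrix.toBilin' H (w : ι → K) (u : ι → K) := h3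
      rw [← h4, h2, neg_zero]
  exact alt_even (finrank K W) rfl _ hal hndW

end Cfsg.Agent.Lib.Helper16.SpSemi
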