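import Mathlib
import Cfsg.Agent.Lib.Helper16.SpReal1

set_option autoImplicit false
set_option linter.unusedSectionVars false
set_option linter.unusedSimpArgs false
set_option linter.unusedVariables false
set_option linter.unusedTactic false

namespace Cfsg.Agent.Lib.Helper16.SpSemi

open Matrix Module Polynomial

universe u

variable {K : Type u} [Field K] {ι : Type} [Fintype ι] [DecidableEq ι]

theorem bilin_congr' {κ : Type} [Fintype κ] (L : Matrix κ ι K) (M : Matrix κ κ K) (x y : ι → K) :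
    x ⬝ᵥ (Lᵀ * M * L) *ᵥ y = (L *ᵥ x) ⬝ᵥ M *ᵥ (L *ᵥ y) := by
  rw [← Matrix.mulVec_mulVec, ← Matrix.mulVec_mulVec, Matrix.dotProduct_mulVec,
    Matrix.vecMul_transpose]

/-- the skew, invariant, possibly degenerate form. -/
theorem exists_skew_invariant [Fintype K] (G P : Matrix ι ι K) (r : ℕ) (hrodd : Odd r)
    (hrF : (r : K) ≠ 0) (hG : G ^ r = 1) (hP : IsUnit P) (hGP : Gᵀ * P * G = P) :
    ∃ (H' ε e c d : Matrix ι ι K), ε + e = 1 ∧ ε * ε = ε ∧ ε * G = G * ε ∧ G * e = e ∧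
      (∃ u, (G - 1) * u = ε ∧ ε * u = u * ε) ∧
      H' = P * c ∧ d * c = ε ∧ c * e = 0 ∧ c * G = G * c ∧ H'ᵀ = -H' ∧ Gᵀ * H' * G = H' := by
  classical
  obtain ⟨Pi, hPi⟩ := hP.exists_right_inv
  have hPi' : Pi * P = 1 := mul_eq_one_comm.mp hPi
  have hr0 : r ≠ 0 := by rintro rfl; simp at hrF
  obtain ⟨r', rfl⟩ : ∃ r', r = r' + 1 := ⟨r - 1, by omega⟩
  obtain ⟨Gi, hGi⟩ : ∃ Gi, Gi = G ^ (r' + 1 - 1) := ⟨_, rfl⟩
  have hGGi : G * Gi = 1 := by rw [hGi, Nat.add_sub_cancel, ← pow_succ', hG]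
  have hGiG : Gi * G = 1 := mul_eq_one_comm.mp hGGi
  obtain ⟨dag, hdag⟩ : ∃ dag : Matrix ι ι K → Matrix ι ι K, ∀ a, dag a = Pi * aᵀ * P :=
    ⟨_, fun a => rfl⟩
  have hadd : ∀ a b, dag (a + b) = dag a + dag b := by
    intro a b; rw [hdag, hdag, hdag, Matrix.transpose_add, mul_add, add_mul]
  have hmul : ∀ a b, dag (a * b) = dag b * dag a := by
    intro a b
    rw [hdag, hdag, hdag, Matrix.transpose_mul]
    calc Pi * (bᵀ * aᵀ) * P = Pi * bᵀ * 1 * aᵀ * P := by rw [mul_one]; simp only [mul_assoc]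
      _ = Pi * bᵀ * P * (Pi * aᵀ * P) := by rw [← hPi]; simp only [mul_assoc]
  have hone : dag 1 = 1 := by rw [hdag, Matrix.transpose_one, mul_one, hPi']
  have hsmul : ∀ (a : K) x, dag (a • x) = a • dag x := by
    intro a x
    rw [hdag, hdag, Matrix.transpose_smul, Matrix.mul_smul, Matrix.smul_mul]
  obtain ⟨T, hT⟩ : ∃ T, T = Pi * Pᵀ := ⟨_, rfl⟩
  obtain ⟨Ti, hTi⟩ : ∃ Ti, Ti = Piᵀ * P := ⟨_, rfl⟩
  have hPiT : Pᵀ * Piᵀ = 1 := by rw [← Matrix.transpose_mul, hPi', Matrix.transpose_one]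
  have hPiT' : Piᵀ * Pᵀ = 1 := by rw [← Matrix.transpose_mul, hPi, Matrix.transpose_one]
  have hTTi : T * Ti = 1 := by
    rw [hT, hTi]
    calc Pi * Pᵀ * (Piᵀ * P) = Pi * (Pᵀ * Piᵀ) * P := by simp only [mul_assoc]
      _ = 1 := by rw [hPiT, mul_one, hPi']
  have hTiT : Ti * T = 1 := mul_eq_one_comm.mp hTTi
  have hdagdag : ∀ x, dag (dag x) = T * x * Ti := by
    intro x
    rw [hdag, hdag, Matrix.transpose_mul, Matrix.transpose_mul, Matrix.transpose_transpose, hT, hTi]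
    simp only [mul_assoc]
  have hdagG : dag G = Gi := by
    rw [hdag]
    calc Pi * Gᵀ * P = Pi * Gᵀ * P * (G * Gi) := by rw [hGGi, mul_one]
      _ = Pi * (Gᵀ * P * G) * Gi := by simp only [mul_assoc]
      _ = Gi := by rw [hGP, hPi', one_mul]
  have hdagGi : dag Gi = G := by
    have h1 : dag Gi * Gi = 1 := by
      calc dag Gi * Gi = dag Gi * dag G := by rw [hdagG]
        _ = dag (G * Gi) := (hmul _ _).symm
        _ = 1 := by rw [hGGi, hone]
    calc dag Gi = dag Gi * (Gi * G) := by rw [hGiG, mul_one]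
      _ = G := by rw [← mul_assoc, h1, one_mul]
  have hGiT : Giᵀ * Gᵀ = 1 := by rw [← Matrix.transpose_mul, hGGi, Matrix.transpose_one]
  have hGPT : Gᵀ * Pᵀ * G = Pᵀ := by
    have := congrArg Matrix.transpose hGP
    rw [Matrix.transpose_mul, Matrix.transpose_mul, Matrix.transpose_transpose] at this
    rw [← mul_assoc] at this
    exact this
  have hPG : P * G = Giᵀ * P := by
    calc P * G = (Giᵀ * Gᵀ) * P * G := by rw [hGiT, one_mul]
      _ = Giᵀ * (Gᵀ * P * G) := by simp only [mul_assoc]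
      _ = Giᵀ * P := by rw [hGP]
  have hPTG : Pᵀ * G = Giᵀ * Pᵀ := by
    calc Pᵀ * G = (Giᵀ * Gᵀ) * Pᵀ * G := by rw [hGiT, one_mul]
      _ = Giᵀ * (Gᵀ * Pᵀ * G) := by simp only [mul_assoc]
      _ = Giᵀ * Pᵀ := by rw [hGPT]
  have hGPi : G * Pi = Pi * Giᵀ := by
    calc G * Pi = (Pi * P) * G * Pi := by rw [hPi', one_mul]
      _ = Pi * (P * G) * Pi := by simp only [mul_assoc]
      _ = Pi * Giᵀ * (P * Pi) := by rw [hPG]; simp only [mul_assoc]
      _ = Pi * Giᵀ := by rw [hPi, mul_one]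
  have cGT : T * G = G * T := by
    rw [hT, mul_assoc, hPTG, ← mul_assoc, ← hGPi, mul_assoc]
  have conjcomm : ∀ (a ai x : Matrix ι ι K), a * ai = 1 → ai * a = 1 → a * x = x * a →
      ai * x = x * ai := by
    intro a ai x h1 h2 h
    calc ai * x = ai * x * (a * ai) := by rw [h1, mul_one]
      _ = ai * (x * a) * ai := by simp only [mul_assoc]
      _ = ai * (a * x) * ai := by rw [h]
      _ = (ai * a) * x * ai := by simp only [mul_assoc]
      _ = x * ai := by rw [h2, one_mul]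
  have cGiT : Gi * T = T * Gi := conjcomm G Gi T hGGi hGiG cGT.symm
  have cGTi : Ti * G = G * Ti := conjcomm T Ti G hTTi hTiT cGT
  have cGiTi : Ti * Gi = Gi * Ti := conjcomm T Ti Gi hTTi hTiT cGiT.symm
  have hdagT : dag T = Ti := by
    rw [hdag, hT, hTi, Matrix.transpose_mul, Matrix.transpose_transpose]
    calc Pi * (P * Piᵀ) * P = (Pi * P) * Piᵀ * P := by simp only [mul_assoc]
      _ = Piᵀ * P := by rw [hPi', one_mul]
  have hdagTi : dag Ti = T := by
    rw [hdag, hT, hTi, Matrix.transpose_mul, Matrix.transpose_transpose]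
    calc Pi * (Pᵀ * Pi) * P = Pi * Pᵀ * (Pi * P) := by simp only [mul_assoc]
      _ = Pi * Pᵀ := by rw [hPi', mul_one]
  obtain ⟨S, hSdef⟩ : ∃ S : Set (Matrix ι ι K),
      S = {x | x = G ∨ x = Gi ∨ x = T ∨ x = Ti ∨ ∃ a : K, x = a • 1} := ⟨_, rfl⟩
  have hsc : ∀ (a : K) (x : Matrix ι ι K), (a • (1 : Matrix ι ι K)) * x = x * (a • 1) := by
    intro a x
    rw [Matrix.mul_smul, Matrix.smul_mul, mul_one, one_mul]
  have hcomm : ∀ a ∈ S, ∀ b ∈ S, a * b = b * a := by
    intro a ha b hb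
    rw [hSdef] at ha hb
    rcases ha with rfl | rfl | rfl | rfl | ⟨a, rfl⟩ <;>
      rcases hb with rfl | rfl | rfl | rfl | ⟨b, rfl⟩
    · rfl
    · rw [hGGi, hGiG]
    · exact cGT.symm
    · exact cGTi.symm
    · exact (hsc _ _).symm
    · rw [hGGi, hGiG]
    · rfl
    · exact cGiT
    · exact cGiTi.symm
    · exact (hsc _ _).symm
    · exact cGT
    · exact cGiT.symm
    · rfl
    · rw [hTTi, hTiT]
    · exact (hsc _ _).symm
    · exact cGTi
    · exact cGiTi
    · rw [hTTi, hTiT]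
    · rfl
    · exact (hsc _ _).symm
    · exact hsc _ _
    · exact hsc _ _
    · exact hsc _ _
    · exact hsc _ _
    · exact hsc _ _
  have hS : ∀ a ∈ S, dag a ∈ S := by
    intro a ha
    rw [hSdef] at ha ⊢
    rcases ha with rfl | rfl | rfl | rfl | ⟨a, rfl⟩
    · right; left; exact hdagG
    · left; exact hdagGi
    · right; right; right; left; exact hdagT
    · right; right; left; exact hdagTi
    · right; right; right; right; exact ⟨a, by rw [hsmul, hone]⟩
  have hSS : ∀ a ∈ S, dag (dag a) = a := by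
    intro a ha
    rw [hSdef] at ha
    rcases ha with rfl | rfl | rfl | rfl | ⟨a, rfl⟩
    · rw [hdagG, hdagGi]
    · rw [hdagGi, hdagG]
    · rw [hdagT, hdagTi]
    · rw [hdagTi, hdagT]
    · rw [hsmul, hone, hsmul, hone]
  have hGS : G ∈ Subring.closure S := Subring.subset_closure (by rw [hSdef]; left; rfl)
  have hGiS : Gi ∈ Subring.closure S :=
    Subring.subset_closure (by rw [hSdef]; right; left; rfl)
  have hTS : T ∈ Subring.closure S :=
    Subring.subset_closure (by rw [hSdef]; right; right; left; rfl)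
  have hcl := fun {x y : Matrix ι ι K} (hx : x ∈ Subring.closure S)
    (hy : y ∈ Subring.closure S) => FCR.commute_closure S hcomm hx hy
  have hadjcl := fun {x : Matrix ι ι K} (hx : x ∈ Subring.closure S) =>
    FCR.adj_mem_closure dag hadd hmul hone S hS hx
  obtain ⟨k, hk1, hidem, hadjε, -, H2⟩ := FCR.key2 dag hadd hmul hone S hcomm hS hSS G hGS
  rw [hdagG] at hidem hadjε H2
  have hfit : (G - Gi) * (1 - (G - Gi) ^ k) = 0 := by
    have := fitting_zero G (r' + 1) hrF hG k hk1 (by rw [← hGi]; exact hidem)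
    rw [← hGi] at this
    exact this
  obtain ⟨ε, hε⟩ : ∃ ε, ε = (G - Gi) ^ k := ⟨_, rfl⟩
  obtain ⟨e, he⟩ : ∃ e, e = 1 - ε := ⟨_, rfl⟩
  rw [← hε] at hidem hadjε H2 hfit
  rw [← he] at H2 hfit
  have hεS : ε ∈ Subring.closure S := by rw [hε]; exact pow_mem (sub_mem hGS hGiS) k
  have heS : e ∈ Subring.closure S := by rw [he]; exact sub_mem (one_mem _) hεS
  have hεe : ε + e = 1 := by rw [he]; abel
  have hGe : G * e = Gi * e := by
    have := hfit
    rw [sub_mul, sub_eq_zero] at this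
    exact this
  have hGGe : G * (G * e) = e := by rw [hGe, ← mul_assoc, hGGi, one_mul]
  have hGe1 : G * e = e := by
    obtain ⟨j, hj⟩ := hrodd
    have h1 : ∀ i : ℕ, G ^ (2 * i) * e = e := by
      intro i
      induction i with
      | zero => rw [mul_zero, pow_zero, one_mul]
      | succ i ih =>
        have : 2 * (i + 1) = 2 * i + 1 + 1 := by ring
        rw [this, pow_succ, pow_succ, mul_assoc, mul_assoc, hGGe, ih]
    have h2 : G ^ (r' + 1) * e = G * e := by
      rw [hj, pow_succ, mul_assoc, hcl hGS heS, ← mul_assoc, h1, hcl heS hGS]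
    rw [← h2, hG, one_mul]
  have hnegT : dag (-T) * (-T) = 1 := by
    rw [FCR.adj_neg' dag hadd, hdagT, neg_mul_neg, hTiT]
  obtain ⟨c, hcS, d, hdS, hcd, hce, hTc⟩ := H2 (-T) (neg_mem hTS) hnegT
  have hdc : d * c = ε := by rw [hcl hdS hcS]; exact hcd
  obtain ⟨s, rfl⟩ : ∃ s, k = s + 1 := ⟨k - 1, by omega⟩
  obtain ⟨u, hu⟩ : ∃ u, u = (1 + Gi) * (G - Gi) ^ s := ⟨_, rfl⟩
  have huε : (G - 1) * u = ε := by
    rw [hu, hε, pow_succ', ← mul_assoc]
    congr 1
    rw [sub_mul, mul_add, mul_one, one_mul, hGGi]; abel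
  have huS : u ∈ Subring.closure S := by
    rw [hu]
    exact mul_mem (add_mem (one_mem _) hGiS) (pow_mem (sub_mem hGS hGiS) s)
  have hcT : cᵀ = P * dag c * Pi := by
    rw [hdag]
    calc cᵀ = (P * Pi) * cᵀ * (P * Pi) := by rw [hPi, one_mul, mul_one]
      _ = P * (Pi * cᵀ * P) * Pi := by simp only [mul_assoc]
  refine ⟨P * c, ε, e, c, d, hεe, hidem, hcl hεS hGS, hGe1, ⟨u, huε, hcl hεS huS⟩, rfl, hdc, hce,
    hcl hcS hGS, ?_, ?_⟩
  · rw [Matrix.transpose_mul, hcT]
    have h1 : T * dag c = -c := by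
      have := hTc
      rw [neg_mul] at this
      exact neg_eq_iff_eq_neg.mp this
    calc P * dag c * Pi * Pᵀ = P * (dag c * (Pi * Pᵀ)) := by simp only [mul_assoc]
      _ = P * (T * dag c) := by rw [← hT, hcl (hadjcl hcS) hTS]
      _ = -(P * c) := by rw [h1, mul_neg]
  · calc Gᵀ * (P * c) * G = Gᵀ * P * (c * G) := by simp only [mul_assoc]
      _ = (Gᵀ * P * G) * c := by rw [hcl hcS hGS]; simp only [mul_assoc]
      _ = P * c := by rw [hGP]

end Cfsg.Agent.Lib.Helper16.SpSemi
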