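import Mathlib
import Cfsg.Prelude.Def_LieTypeDatum
import Cfsg.Agent.Lib.Helper16.PG9
import Cfsg.Agent.Lib.Helper16.PG7
import Cfsg.Agent.Lib.Helper16.SpReal2

set_option autoImplicit false
set_option linter.unusedSectionVars false

namespace Cfsg.Agent.Lib.Helper16.PG

open Matrix Module Cfsg.Agent.Lib.Helper16.SpSemi

universe u

section
variable {F : Type u} [Field F]

/-- equivalent bilinear forms (up to a scalar) have isomorphic projective similarity groups. -/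
theorem bilSim_congr {a b : Type} [Fintype a] [DecidableEq a] [Fintype b] [DecidableEq b]
    (f : (a → F) → (a → F) → F) (f' : (b → F) → (b → F) → F) (T : (b → F) ≃ₗ[F] (a → F)) (c₀ : F) (hc₀ : c₀ ≠ 0)
    (hT : ∀ u v, f (T u) (T v) = c₀ * f' u v) :
    Nonempty (Cfsg.projQuot (Cfsg.Geo.similarityGroup f) ≃* Cfsg.projQuot (Cfsg.Geo.similarityGroup f')) := by
  set P : Matrix a b F := LinearMap.toMatrix' T.toLinearMap with hP
  set Pi : Matrix b a F := LinearMap.toMatrix' T.symm.toLinearMap with hPi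
  have h1 : P * Pi = 1 := by
    rw [hP, hPi, ← LinearMap.toMatrix'_comp, LinearEquiv.comp_coe, LinearEquiv.symm_trans_self,
      LinearEquiv.refl_toLinearMap, LinearMap.toMatrix'_id]
  have h2 : Pi * P = 1 := by
    rw [hP, hPi, ← LinearMap.toMatrix'_comp, LinearEquiv.comp_coe, LinearEquiv.self_trans_symm,
      LinearEquiv.refl_toLinearMap, LinearMap.toMatrix'_id]
  have hPv : ∀ v, P *ᵥ v = T v := by
    intro v
    rw [hP, LinearMap.toMatrix'_mulVec]
    rfl
  have key : ∀ (h : GL a F) (v : b → F), T ((Pi * (h : Matrix a a F) * P) *ᵥ v) = (h : Matrix a a F) *ᵥ (T v) := by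
    intro h v
    rw [← hPv, Matrix.mulVec_mulVec, ← Matrix.mul_assoc, ← Matrix.mul_assoc, h1, Matrix.one_mul,
      ← Matrix.mulVec_mulVec, hPv]
  apply projQuot_congr P Pi h1 h2
  intro h
  constructor
  · rintro ⟨c, hc⟩
    refine ⟨c, fun u v => ?_⟩
    rw [conjGL_val]
    have h3 := hT ((Pi * (h : Matrix a a F) * P) *ᵥ u) ((Pi * (h : Matrix a a F) * P) *ᵥ v)
    rw [key, key, hc, hT] at h3
    have h5 : c₀ * f' ((Pi * (h : Matrix a a F) * P) *ᵥ u) ((Pi * (h : Matrix a a F) * P) *ᵥ v) =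
        c₀ * ((c : F) * f' u v) := by
      rw [← h3]; ring
    exact mul_left_cancel₀ hc₀ h5
  · rintro ⟨c, hc⟩
    refine ⟨c, fun u v => ?_⟩
    have h3 := hc (T.symm u) (T.symm v)
    rw [conjGL_val] at h3
    have h5 := hT ((Pi * (h : Matrix a a F) * P) *ᵥ (T.symm u)) ((Pi * (h : Matrix a a F) * P) *ᵥ (T.symm v))
    rw [key, key, LinearEquiv.apply_symm_apply, LinearEquiv.apply_symm_apply, h3] at h5
    have h6 := hT (T.symm u) (T.symm v)
    rw [LinearEquiv.apply_symm_apply, LinearEquiv.apply_symm_apply] at h6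
    rw [h5, h6]
    ring

variable {n : ℕ}

/-- pull back a Gram matrix along a linear equivalence. -/
noncomputable def pullM {ι : Type} [Fintype ι] [DecidableEq ι] (T : (Fin n → F) ≃ₗ[F] (ι → F))
    (M₀ : Matrix ι ι F) : Matrix (Fin n) (Fin n) F :=
  (LinearMap.toMatrix' T.toLinearMap)ᵀ * M₀ * LinearMap.toMatrix' T.toLinearMap

theorem bilM_pullM {ι : Type} [Fintype ι] [DecidableEq ι] (T : (Fin n → F) ≃ₗ[F] (ι → F))
    (M₀ : Matrix ι ι F) (u v : Fin n → F) : bilM (pullM T M₀) u v = bilM M₀ (T u) (T v) := by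
  unfold bilM pullM
  rw [bilin_congr', LinearMap.toMatrix'_mulVec, LinearMap.toMatrix'_mulVec]
  rfl

theorem pullM_transpose {ι : Type} [Fintype ι] [DecidableEq ι] (T : (Fin n → F) ≃ₗ[F] (ι → F))
    (M₀ : Matrix ι ι F) : (pullM T M₀)ᵀ = pullM T M₀ᵀ := by
  unfold pullM
  rw [Matrix.transpose_mul, Matrix.transpose_mul, Matrix.transpose_transpose, Matrix.mul_assoc]

theorem isUnit_pullM {ι : Type} [Fintype ι] [DecidableEq ι] (T : (Fin n → F) ≃ₗ[F] (ι → F))
    (M₀ : Matrix ι ι F) (hM₀ : IsUnit M₀) : IsUnit (pullM T M₀) := by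
  set P : Matrix ι (Fin n) F := LinearMap.toMatrix' T.toLinearMap with hP
  set Pi : Matrix (Fin n) ι F := LinearMap.toMatrix' T.symm.toLinearMap with hPi
  have h1 : P * Pi = 1 := by
    rw [hP, hPi, ← LinearMap.toMatrix'_comp, LinearEquiv.comp_coe, LinearEquiv.symm_trans_self,
      LinearEquiv.refl_toLinearMap, LinearMap.toMatrix'_id]
  have h2 : Pi * P = 1 := by
    rw [hP, hPi, ← LinearMap.toMatrix'_comp, LinearEquiv.comp_coe, LinearEquiv.self_trans_symm,
      LinearEquiv.refl_toLinearMap, LinearMap.toMatrix'_id]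
  obtain ⟨U, hU⟩ := hM₀
  refine ⟨⟨pullM T M₀, Pi * ((U⁻¹ : (Matrix ι ι F)ˣ) : Matrix ι ι F) * Piᵀ, ?_, ?_⟩, rfl⟩
  · unfold pullM
    rw [← hP, ← hU]
    calc Pᵀ * (U : Matrix ι ι F) * P * (Pi * ((U⁻¹ : (Matrix ι ι F)ˣ) : Matrix ι ι F) * Piᵀ)
        = Pᵀ * ((U : Matrix ι ι F) * (P * Pi) * ((U⁻¹ : (Matrix ι ι F)ˣ) : Matrix ι ι F)) * Piᵀ := by
          simp only [Matrix.mul_assoc]
      _ = 1 := by
          rw [h1, Matrix.mul_one, Units.mul_inv, Matrix.mul_one, ← Matrix.transpose_mul, h2, Matrix.transpose_one]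
  · unfold pullM
    rw [← hP, ← hU]
    calc Pi * ((U⁻¹ : (Matrix ι ι F)ˣ) : Matrix ι ι F) * Piᵀ * (Pᵀ * (U : Matrix ι ι F) * P)
        = Pi * (((U⁻¹ : (Matrix ι ι F)ˣ) : Matrix ι ι F) * (Piᵀ * Pᵀ) * (U : Matrix ι ι F)) * P := by
          simp only [Matrix.mul_assoc]
      _ = 1 := by
          rw [← Matrix.transpose_mul, h1, Matrix.transpose_one, Matrix.mul_one, Units.inv_mul, Matrix.mul_one, h2]

/-- a linear automorphism as an element of `GL`. -/
theorem exists_gl_of_equiv (L : (Fin n → F) ≃ₗ[F] (Fin n → F)) :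
    ∃ k : GL (Fin n) F, ∀ v, (k : Matrix (Fin n) (Fin n) F) *ᵥ v = L v := by
  have h1 : LinearMap.toMatrix' L.toLinearMap * LinearMap.toMatrix' L.symm.toLinearMap = 1 := by
    rw [← LinearMap.toMatrix'_comp, LinearEquiv.comp_coe, LinearEquiv.symm_trans_self,
      LinearEquiv.refl_toLinearMap, LinearMap.toMatrix'_id]
  have h2 : LinearMap.toMatrix' L.symm.toLinearMap * LinearMap.toMatrix' L.toLinearMap = 1 := by
    rw [← LinearMap.toMatrix'_comp, LinearEquiv.comp_coe, LinearEquiv.self_trans_symm,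
      LinearEquiv.refl_toLinearMap, LinearMap.toMatrix'_id]
  refine ⟨⟨LinearMap.toMatrix' L.toLinearMap, LinearMap.toMatrix' L.symm.toLinearMap, h1, h2⟩, ?_⟩
  intro v
  show LinearMap.toMatrix' L.toLinearMap *ᵥ v = L v
  rw [LinearMap.toMatrix'_mulVec]
  rfl

/-- Gram matrices are determined by their bilinear forms. -/
theorem gram_ext (M M' : Matrix (Fin n) (Fin n) F) (h : ∀ u v, bilM M u v = bilM M' u v) : M = M' :=
  mat_ext_bilin M M' h

/-- conjugacy of graph automorphisms from an equivalence of bilinear forms. -/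
theorem conj_of_bil_equiv (U U' : GL (Fin n) F) (L : (Fin n → F) ≃ₗ[F] (Fin n → F)) (c : Fˣ)
    (h : ∀ u v, bilM (U' : Matrix (Fin n) (Fin n) F) u v = (c : F) * bilM (U : Matrix (Fin n) (Fin n) F) (L u) (L v)) :
    Cfsg.IsConjUnder (Cfsg.inndiagPSL n F) (Phi n F U⁻¹ * iota n F) (Phi n F U'⁻¹ * iota n F) := by
  rw [isConj_graph_iff, inv_inv, inv_inv]
  obtain ⟨k, hk⟩ := exists_gl_of_equiv L
  refine ⟨k, c, ?_⟩
  apply gram_ext
  intro u v
  rw [h]
  unfold bilM
  rw [Matrix.smul_mulVec, dotProduct_smul, smul_eq_mul, bilin_congr, hk, hk]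

/-- conversely, conjugate graph automorphisms have similar Gram forms. -/
theorem bil_equiv_of_conj (U U' : GL (Fin n) F)
    (h : Cfsg.IsConjUnder (Cfsg.inndiagPSL n F) (Phi n F U⁻¹ * iota n F) (Phi n F U'⁻¹ * iota n F)) :
    ∃ (k : GL (Fin n) F) (c : Fˣ), ∀ u v, bilM (U' : Matrix (Fin n) (Fin n) F) u v =
      (c : F) * bilM (U : Matrix (Fin n) (Fin n) F) ((k : Matrix (Fin n) (Fin n) F) *ᵥ u)
        ((k : Matrix (Fin n) (Fin n) F) *ᵥ v) := by
  rw [isConj_graph_iff, inv_inv, inv_inv] at h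
  obtain ⟨k, c, hk⟩ := h
  refine ⟨k, c, ?_⟩
  intro u v
  rw [hk]
  unfold bilM
  rw [Matrix.smul_mulVec, dotProduct_smul, smul_eq_mul, bilin_congr]

end

end Cfsg.Agent.Lib.Helper16.PG
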