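import Mathlib
import Cfsg.Prelude.Def_LieTypeDatum
import Cfsg.Agent.Lib.Helper16.PG10

set_option autoImplicit false
set_option linter.unusedSectionVars false

namespace Cfsg.Agent.Lib.Helper16.PG

open Matrix Module Cfsg.Agent.Lib.Helper16.SpSemi

universe u

section
variable {F : Type u} [Field F]

/-- the isometry group of a bilinear form. -/
def isoG {ι : Type} [Fintype ι] [DecidableEq ι] (f : (ι → F) → (ι → F) → F) : Subgroup (GL ι F) :=
  Cfsg.preserving (Units.coeHom (Matrix ι ι F)) f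

theorem mem_isoG_iff {ι : Type} [Fintype ι] [DecidableEq ι] (f : (ι → F) → (ι → F) → F) (h : GL ι F) :
    h ∈ isoG f ↔ ∀ u v, f ((h : Matrix ι ι F) *ᵥ u) ((h : Matrix ι ι F) *ᵥ v) = f u v := Iff.rfl

/-- scalar matrices in `GL ι F`. -/
noncomputable def scalG (ι : Type) [Fintype ι] [DecidableEq ι] (c : Fˣ) : GL ι F :=
  Units.map (Matrix.scalar ι : F →+* Matrix ι ι F).toMonoidHom c

theorem scalG_mem {ι : Type} [Fintype ι] [DecidableEq ι] (c : Fˣ) : scalG ι c ∈ Cfsg.Geo.scalars ι F := ⟨c, rfl⟩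

theorem scalG_val {ι : Type} [Fintype ι] [DecidableEq ι] (c : Fˣ) :
    ((scalG ι c : GL ι F) : Matrix ι ι F) = (c : F) • 1 := by
  show Matrix.scalar ι (c : F) = _
  rw [Matrix.smul_one_eq_diagonal]
  rfl

theorem char2_sq_eq_one [CharP F 2] (d : F) (h : d ^ 2 = 1) : d = 1 := by
  have h1 : (d + 1) ^ 2 = 0 := by
    have : (d + 1) ^ 2 = d ^ 2 + 2 * d + 1 := by ring
    rw [this, h, CharTwo.two_eq_zero, zero_mul, add_zero]
    exact CharTwo.add_self_eq_zero 1
  have h2 : d + 1 = 0 := pow_eq_zero_iff (two_ne_zero) |>.mp h1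
  have h3 : d = -1 := eq_neg_of_add_eq_zero_left h2
  rw [h3, CharTwo.neg_eq]

/-- in characteristic two over a finite field the projective similarity group of a non-zero bilinear
form is its isometry group. -/
theorem char2_projQuot_iso {ι : Type} [Fintype ι] [DecidableEq ι] [Fintype F] [CharP F 2]
    (f : (ι → F) → (ι → F) → F) (hf : ∀ (d : F) u v, f (d • u) (d • v) = d ^ 2 * f u v)
    (hne : ∃ u v, f u v ≠ 0) :
    Nonempty (↥(isoG f) ≃* Cfsg.projQuot (Cfsg.Geo.similarityGroup f)) := by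
  have hle : isoG f ≤ Cfsg.Geo.similarityGroup f := by
    intro h hh
    refine ⟨1, fun u v => ?_⟩
    rw [Units.val_one, one_mul]
    exact hh u v
  let ψ : ↥(isoG f) →* Cfsg.projQuot (Cfsg.Geo.similarityGroup f) :=
    (QuotientGroup.mk' _).comp (Subgroup.inclusion hle)
  have hinj : Function.Injective ψ := by
    rw [injective_iff_map_eq_one]
    intro x hx
    have h1 : Subgroup.inclusion hle x ∈ (Cfsg.Geo.scalars ι F).subgroupOf (Cfsg.Geo.similarityGroup f) :=
      (QuotientGroup.eq_one_iff _).mp hx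
    rw [Subgroup.mem_subgroupOf, Cfsg.Geo.mem_scalars_iff] at h1
    obtain ⟨d, hd⟩ := h1
    have hd' : ((x : GL ι F) : Matrix ι ι F) = (d : F) • 1 := hd
    obtain ⟨u, v, huv⟩ := hne
    have h3 := x.2 u v
    have h3' : f (((x : GL ι F) : Matrix ι ι F) *ᵥ u) (((x : GL ι F) : Matrix ι ι F) *ᵥ v) = f u v := h3
    rw [hd', Matrix.smul_mulVec, Matrix.smul_mulVec, Matrix.one_mulVec, Matrix.one_mulVec, hf] at h3'
    have h4 : (d : F) ^ 2 = 1 := by
      have : ((d : F) ^ 2 - 1) * f u v = 0 := by rw [sub_mul, one_mul, h3', sub_self]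
      rcases mul_eq_zero.mp this with h | h
      · exact sub_eq_zero.mp h
      · exact absurd h huv
    have h5 := char2_sq_eq_one (d : F) h4
    apply Subtype.ext
    apply Units.ext
    rw [hd', h5, one_smul]
    rfl
  have hsurj : Function.Surjective ψ := by
    intro x
    induction x using QuotientGroup.induction_on with
    | H g =>
      obtain ⟨c, hc⟩ := g.2
      obtain ⟨d, hd⟩ := FiniteField.isSquare_of_char_two (by rw [ringChar.eq F 2]) (c : F)
      have hd0 : d ≠ 0 := by
        rintro rfl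
        rw [mul_zero] at hd
        exact c.ne_zero hd
      set z : Fˣ := Units.mk0 d hd0 with hz
      have hmem : (g : GL ι F) * scalG ι z⁻¹ ∈ isoG f := by
        rw [mem_isoG_iff]
        intro u v
        have h1 : (((g : GL ι F) * scalG ι z⁻¹ : GL ι F) : Matrix ι ι F) = (d⁻¹ : F) • ((g : GL ι F) : Matrix ι ι F) := by
          rw [Units.val_mul, scalG_val, Matrix.mul_smul, Matrix.mul_one, hz]
          simp
        rw [h1, Matrix.smul_mulVec, Matrix.smul_mulVec, hf, hc, hd]
        field_simp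
      refine ⟨⟨(g : GL ι F) * scalG ι z⁻¹, hmem⟩, ?_⟩
      show QuotientGroup.mk (Subgroup.inclusion hle ⟨(g : GL ι F) * scalG ι z⁻¹, hmem⟩) = QuotientGroup.mk g
      rw [QuotientGroup.eq, Subgroup.mem_subgroupOf]
      have h2 : (((Subgroup.inclusion hle ⟨(g : GL ι F) * scalG ι z⁻¹, hmem⟩)⁻¹ * g :
          ↥(Cfsg.Geo.similarityGroup f)) : GL ι F) = scalG ι z := by
        show ((g : GL ι F) * scalG ι z⁻¹)⁻¹ * (g : GL ι F) = scalG ι z
        have : (scalG ι z⁻¹ : GL ι F) = (scalG ι z)⁻¹ := by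
          unfold scalG
          rw [map_inv]
        rw [this]
        group
      rw [h2]
      exact scalG_mem z
  exact ⟨MulEquiv.ofBijective ψ ⟨hinj, hsurj⟩⟩

end

end Cfsg.Agent.Lib.Helper16.PG
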