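import Mathlib
import Cfsg.Prelude.Def_LieTypeDatum
import Cfsg.Agent.Lib.Helper16.PG1

set_option autoImplicit false
set_option linter.unusedSectionVars false
set_option linter.unusedVariables false

namespace Cfsg.Agent.Lib.Helper16.PU

open Matrix Cfsg.Agent.Lib.Helper16.PG

universe u

section
variable {n : ℕ} {F : Type u} [Field F] {q : ℕ}

/-- the group of similitudes of the Hermitian form. -/
def simU (n : ℕ) (F : Type u) [Field F] (q : ℕ) : Subgroup (GL (Fin n) F) :=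
  Cfsg.Geo.similarityGroup (Cfsg.hermForm n F q)

theorem mem_SU_iff (s : SpecialLinearGroup (Fin n) F) :
    s ∈ Cfsg.SU n F q ↔ ∀ u v, Cfsg.hermForm n F q ((s : Matrix (Fin n) (Fin n) F) *ᵥ u)
      ((s : Matrix (Fin n) (Fin n) F) *ᵥ v) = Cfsg.hermForm n F q u v := Iff.rfl

theorem mem_simU_iff (X : GL (Fin n) F) :
    X ∈ simU n F q ↔ ∃ c : Fˣ, ∀ u v, Cfsg.hermForm n F q ((X : Matrix (Fin n) (Fin n) F) *ᵥ u)
      ((X : Matrix (Fin n) (Fin n) F) *ᵥ v) = (c : F) * Cfsg.hermForm n F q u v := Iff.rfl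

theorem conj_mem_SU (X : GL (Fin n) F) (hX : X ∈ simU n F q) (s : SpecialLinearGroup (Fin n) F)
    (hs : s ∈ Cfsg.SU n F q) : conjSL X s ∈ Cfsg.SU n F q := by
  rw [mem_SU_iff] at hs ⊢
  obtain ⟨c, hc⟩ := hX
  intro u v
  rw [conjSL_val]
  have h1 : ∀ w : Fin n → F, ((X : Matrix (Fin n) (Fin n) F) * (s : Matrix (Fin n) (Fin n) F) *
      ((X⁻¹ : GL (Fin n) F) : Matrix (Fin n) (Fin n) F)) *ᵥ w =
      (X : Matrix (Fin n) (Fin n) F) *ᵥ ((s : Matrix (Fin n) (Fin n) F) *ᵥ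
        (((X⁻¹ : GL (Fin n) F) : Matrix (Fin n) (Fin n) F) *ᵥ w)) := by
    intro w
    rw [Matrix.mulVec_mulVec, Matrix.mulVec_mulVec, Matrix.mul_assoc]
  rw [h1, h1, hc, hs]
  have h2 := hc (((X⁻¹ : GL (Fin n) F) : Matrix (Fin n) (Fin n) F) *ᵥ u)
    (((X⁻¹ : GL (Fin n) F) : Matrix (Fin n) (Fin n) F) *ᵥ v)
  rw [Matrix.mulVec_mulVec, Matrix.mulVec_mulVec, ← Units.val_mul, mul_inv_cancel, Units.val_one,
    Matrix.one_mulVec, Matrix.one_mulVec] at h2
  exact h2.symm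

/-- conjugation by a Hermitian similitude on `SU_n`. -/
noncomputable def conjSU (X : ↥(simU n F q)) : ↥(Cfsg.SU n F q) ≃* ↥(Cfsg.SU n F q) where
  toFun s := ⟨conjSL X.1 s.1, conj_mem_SU X.1 X.2 s.1 s.2⟩
  invFun s := ⟨conjSL (X⁻¹).1 s.1, conj_mem_SU (X⁻¹).1 (X⁻¹).2 s.1 s.2⟩
  left_inv s := by
    apply Subtype.ext
    show conjSL (X⁻¹).1 (conjSL X.1 s.1) = s.1
    have : conjSL (X⁻¹).1 (conjSL X.1 s.1) = (conjSLHom n F ((X⁻¹).1 * X.1)) s.1 := by
      rw [map_mul]; rfl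
    rw [this, Subgroup.coe_inv, inv_mul_cancel, map_one]
    rfl
  right_inv s := by
    apply Subtype.ext
    show conjSL X.1 (conjSL (X⁻¹).1 s.1) = s.1
    have : conjSL X.1 (conjSL (X⁻¹).1 s.1) = (conjSLHom n F (X.1 * (X⁻¹).1)) s.1 := by
      rw [map_mul]; rfl
    rw [this, Subgroup.coe_inv, mul_inv_cancel, map_one]
    rfl
  map_mul' s t := by
    apply Subtype.ext
    show conjSL X.1 (s.1 * t.1) = conjSL X.1 s.1 * conjSL X.1 t.1
    exact map_mul _ _ _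

theorem conjSU_val (X : ↥(simU n F q)) (s : ↥(Cfsg.SU n F q)) : (conjSU X s).1 = conjSL X.1 s.1 := rfl

noncomputable def conjSUHom (n : ℕ) (F : Type u) [Field F] (q : ℕ) :
    ↥(simU n F q) →* MulAut ↥(Cfsg.SU n F q) where
  toFun := conjSU
  map_one' := by
    apply MulEquiv.ext
    intro s
    apply Subtype.ext
    rw [conjSU_val]
    show (conjSLHom n F (1 : GL (Fin n) F)) s.1 = s.1
    rw [map_one]; rfl
  map_mul' := by
    intro X Y
    apply MulEquiv.ext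
    intro s
    apply Subtype.ext
    rw [MulAut.mul_apply, conjSU_val, conjSU_val, conjSU_val]
    show (conjSLHom n F (X.1 * Y.1)) s.1 = _
    rw [map_mul]; rfl

/-- the inner-diagonal automorphism of `PSU_n` induced by a Hermitian similitude. -/
noncomputable def PhiU (n : ℕ) (F : Type u) [Field F] (q : ℕ) :
    ↥(simU n F q) →* MulAut (Cfsg.PSU n F q) :=
  (autQuot ↥(Cfsg.SU n F q)).comp (conjSUHom n F q)

theorem PhiU_mk (X : ↥(simU n F q)) (s : ↥(Cfsg.SU n F q)) :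
    PhiU n F q X (QuotientGroup.mk s) = QuotientGroup.mk (conjSU X s) := rfl

theorem GU_le_simU : Cfsg.GU n F q ≤ simU n F q := by
  intro g hg
  refine ⟨1, fun u v => ?_⟩
  rw [Units.val_one, one_mul]
  exact hg u v

theorem isInnerDiagU_iff (β : MulAut (Cfsg.PSU n F q)) :
    Cfsg.IsInnerDiagonalAutPSU β ↔ ∃ g : ↥(simU n F q), g.1 ∈ Cfsg.GU n F q ∧ β = PhiU n F q g := by
  constructor
  · rintro ⟨g, hgU, hg⟩
    refine ⟨⟨g, GU_le_simU hgU⟩, hgU, ?_⟩
    apply MulEquiv.ext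
    intro x
    induction x using QuotientGroup.induction_on with
    | H s =>
      rw [PhiU_mk]
      exact hg s (conjSU ⟨g, GU_le_simU hgU⟩ s) rfl
  · rintro ⟨g, hgU, rfl⟩
    refine ⟨g.1, hgU, ?_⟩
    intro s s' hs
    rw [PhiU_mk]
    congr 1
    apply Subtype.ext
    apply Subtype.ext
    rw [conjSU_val, conjSL_val, hs]

end

end Cfsg.Agent.Lib.Helper16.PU
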