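import Mathlib
import Cfsg.Prelude.Def_Classical
import Cfsg.Prelude.Def_LieClassical

set_option autoImplicit false

open Matrix

namespace Cfsg.Agent.Lib.Helper16

section
variable {K : Type*} [Field K]

theorem exists_char_pow [Fintype K] {q : ℕ} (hK : Fintype.card K = q ^ 2) :
    ∃ (p a : ℕ), p.Prime ∧ CharP K p ∧ q = p ^ a := by
  obtain ⟨p, hp⟩ := CharP.exists K
  have hprime : p.Prime := CharP.char_is_prime K p
  obtain ⟨n, -, hn⟩ := FiniteField.card K p
  have hdvd : q ∣ p ^ (n : ℕ) := by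
    rw [← hn, hK]
    exact Dvd.intro_left (q ^ 1) (by ring)
  obtain ⟨a, -, ha⟩ := (Nat.dvd_prime_pow hprime).mp hdvd
  exact ⟨p, a, hprime, hp, ha⟩

def UMat {n : ℕ} (q : ℕ) (H : Matrix (Fin n) (Fin n) K) : Prop :=
  ∀ i j, ∑ l, H l i * (H l j) ^ q = if i = j then 1 else 0

theorem UMat_of_pres {n : ℕ} {q : ℕ} (hq : 0 < q) (H : Matrix (Fin n) (Fin n) K)
    (h : ∀ u v, Cfsg.hermForm n K q (H.mulVec u) (H.mulVec v) = Cfsg.hermForm n K q u v) : UMat q H := by
  intro i j
  have h1 := h (Pi.single i 1) (Pi.single j 1)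
  rw [Matrix.mulVec_single_one, Matrix.mulVec_single_one] at h1
  unfold Cfsg.hermForm at h1
  rw [show (∑ l, H l i * H l j ^ q) = ∑ l, (H.col i) l * (H.col j) l ^ q from rfl, h1]
  rw [Finset.sum_eq_single i]
  · by_cases hij : i = j
    · subst hij; simp
    · simp [hij, hq.ne']
  · intro l _ hl
    simp [hl]
  · intro h'; exact absurd (Finset.mem_univ i) h'

theorem pres_of_UMat {n : ℕ} {q p a : ℕ} (hp : p.Prime) [CharP K p] (hq : q = p ^ a) (H : Matrix (Fin n) (Fin n) K)
    (h : UMat q H) (u v : Fin n → K) :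
    Cfsg.hermForm n K q (H.mulVec u) (H.mulVec v) = Cfsg.hermForm n K q u v := by
  have : ExpChar K p := ExpChar.prime hp
  have hφ : ∀ x : K, x ^ q = iterateFrobenius K p a x := by
    intro x
    rw [iterateFrobenius_def, hq]
  unfold Cfsg.hermForm
  simp only [Matrix.mulVec, dotProduct, hφ, map_sum, map_mul]
  calc ∑ l, (∑ i, H l i * u i) * ∑ j, iterateFrobenius K p a (H l j) * iterateFrobenius K p a (v j)
      = ∑ l, ∑ i, ∑ j, (H l i * u i) * (iterateFrobenius K p a (H l j) * iterateFrobenius K p a (v j)) := by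
        simp only [Finset.sum_mul_sum]
    _ = ∑ i, ∑ j, ∑ l, (H l i * u i) * (iterateFrobenius K p a (H l j) * iterateFrobenius K p a (v j)) := by
        rw [Finset.sum_comm]
        apply Finset.sum_congr rfl
        intro i _
        rw [Finset.sum_comm]
    _ = ∑ i, ∑ j, (∑ l, H l i * (H l j) ^ q) * (u i * iterateFrobenius K p a (v j)) := by
        apply Finset.sum_congr rfl
        intro i _
        apply Finset.sum_congr rfl
        intro j _
        rw [Finset.sum_mul]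
        apply Finset.sum_congr rfl
        intro l _
        rw [hφ]
        ring
    _ = ∑ i, ∑ j, (if i = j then 1 else 0) * (u i * iterateFrobenius K p a (v j)) := by
        apply Finset.sum_congr rfl
        intro i _
        apply Finset.sum_congr rfl
        intro j _
        rw [h i j]
    _ = ∑ i, u i * iterateFrobenius K p a (v i) := by
        simp

theorem sub_pow_q (K₀ : Subfield K) [Fintype K₀] {q₀ r : ℕ} (hr : Odd r) (hK₀ : Fintype.card K₀ = q₀ ^ 2)
    (x : K) (hx : x ∈ K₀) : x ^ (q₀ ^ r) = x ^ q₀ := by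
  have h1 : x ^ (q₀ ^ 2) = x := by
    have := FiniteField.pow_card (⟨x, hx⟩ : K₀)
    rw [hK₀] at this
    have h2 := congrArg Subtype.val this
    simpa using h2
  have h2 : ∀ k : ℕ, x ^ ((q₀ ^ 2) ^ k) = x := by
    intro k
    induction k with
    | zero => simp
    | succ k ih => rw [pow_succ, pow_mul, ih, h1]
  obtain ⟨k, rfl⟩ := hr
  have : q₀ ^ (2 * k + 1) = (q₀ ^ 2) ^ k * q₀ := by ring
  rw [this, pow_mul, h2]

theorem UMat_map_iff (K₀ : Subfield K) [Fintype K₀] {q₀ r n : ℕ} (hr : Odd r) (hK₀ : Fintype.card K₀ = q₀ ^ 2)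
    (h : Matrix (Fin n) (Fin n) K₀) : UMat (q₀ ^ r) (h.map K₀.subtype) ↔ UMat q₀ h := by
  unfold UMat
  have key : ∀ i j, ∑ l, (h.map K₀.subtype) l i * ((h.map K₀.subtype) l j) ^ (q₀ ^ r) =
      K₀.subtype (∑ l, h l i * (h l j) ^ q₀) := by
    intro i j
    rw [map_sum]
    apply Finset.sum_congr rfl
    intro l _
    rw [Matrix.map_apply, Matrix.map_apply, map_mul, map_pow]
    have := sub_pow_q K₀ hr hK₀ (K₀.subtype (h l j)) (h l j).2
    rw [this]
  constructor
  · intro hU i j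
    have := hU i j
    rw [key] at this
    apply K₀.subtype_injective
    rw [this]
    by_cases hij : i = j <;> simp [hij]
  · intro hU i j
    rw [key, hU i j]
    by_cases hij : i = j <;> simp [hij]

theorem norm_surj {L : Type*} [Field L] [Fintype L] {s : ℕ} (hL : Fintype.card L = s ^ 2) (x : Lˣ)
    (hx : x ^ (s - 1) = 1) : ∃ μ : Lˣ, μ ^ (s + 1) = x := by
  have hs : 2 ≤ s := by
    by_contra hcon
    push Not at hcon
    have : 1 < Fintype.card L := Fintype.one_lt_card
    rw [hL] at this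
    interval_cases s <;> omega
  obtain ⟨t, rfl⟩ : ∃ t, s = t + 1 := ⟨s - 1, by omega⟩
  have hcard : Nat.card Lˣ = t * (t + 2) := by
    rw [Nat.card_units, Nat.card_eq_fintype_card, hL]
    have : (t + 1) ^ 2 = t * (t + 2) + 1 := by ring
    rw [this, Nat.add_sub_cancel]
  have hle : (powMonoidHom (t + 1 + 1) : Lˣ →* Lˣ).range ≤ (powMonoidHom (t + 1 - 1) : Lˣ →* Lˣ).ker := by
    rintro y ⟨μ, rfl⟩
    rw [MonoidHom.mem_ker, powMonoidHom_apply, powMonoidHom_apply, ← pow_mul, Nat.add_sub_cancel]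
    have : (t + 1 + 1) * t = Nat.card Lˣ := by rw [hcard]; ring
    rw [this]
    exact pow_card_eq_one'
  have hc1 : Nat.card (powMonoidHom (t + 1 + 1) : Lˣ →* Lˣ).range = t := by
    rw [IsCyclic.card_powMonoidHom_range, hcard]
    have : (t * (t + 2)).gcd (t + 1 + 1) = t + 2 := Nat.gcd_eq_right (Dvd.intro_left t rfl)
    rw [this]
    exact Nat.mul_div_cancel t (by omega)
  have hc2 : Nat.card (powMonoidHom (t + 1 - 1) : Lˣ →* Lˣ).ker = t := by
    rw [IsCyclic.card_powMonoidHom_ker, hcard, Nat.add_sub_cancel]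
    exact Nat.gcd_eq_right (Dvd.intro (t + 2) rfl)
  have heq := Subgroup.eq_of_le_of_card_ge hle (by rw [hc1, hc2])
  have hxk : x ∈ (powMonoidHom (t + 1 - 1) : Lˣ →* Lˣ).ker := by
    rw [MonoidHom.mem_ker, powMonoidHom_apply]; exact hx
  rw [← heq] at hxk
  obtain ⟨μ, hμ⟩ := hxk
  exact ⟨μ, hμ⟩

theorem UMat_smul_sum {n q : ℕ} (d : K) (H : Matrix (Fin n) (Fin n) K) (i j : Fin n) :
    ∑ l, (d • H) l i * ((d • H) l j) ^ q = d ^ (q + 1) * ∑ l, H l i * (H l j) ^ q := by
  rw [Finset.mul_sum]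
  apply Finset.sum_congr rfl
  intro l _
  simp only [Matrix.smul_apply, smul_eq_mul, mul_pow]
  ring

theorem mem_GU_iff_UMat {n q p a : ℕ} (hp : p.Prime) [CharP K p] (hq : q = p ^ a) (hq0 : 0 < q) (g : GL (Fin n) K) :
    g ∈ Cfsg.GU n K q ↔ UMat q (g : Matrix (Fin n) (Fin n) K) := by
  constructor
  · intro hg
    exact UMat_of_pres hq0 _ (fun u v => hg u v)
  · intro hU u v
    exact pres_of_UMat hp hq _ hU u v

theorem UMat_map_key (K₀ : Subfield K) [Fintype K₀] {q₀ r n : ℕ} (hr : Odd r) (hK₀ : Fintype.card K₀ = q₀ ^ 2)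
    (h : Matrix (Fin n) (Fin n) K₀) (i j : Fin n) :
    ∑ l, (h.map K₀.subtype) l i * ((h.map K₀.subtype) l j) ^ (q₀ ^ r) =
      K₀.subtype (∑ l, h l i * (h l j) ^ q₀) := by
  rw [map_sum]
  apply Finset.sum_congr rfl
  intro l _
  rw [Matrix.map_apply, Matrix.map_apply, map_mul, map_pow]
  have := sub_pow_q K₀ hr hK₀ (K₀.subtype (h l j)) (h l j).2
  rw [this]

end

end Cfsg.Agent.Lib.Helper16
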