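import Mathlib
import Cfsg.Prelude.Def_LieTypeDatum
import Cfsg.Agent.Lib.Helper16.PU1
import Cfsg.Agent.Lib.Helper16.UnitaryFixed
import Cfsg.Agent.Lib.Helper16.PG15

set_option autoImplicit false
set_option linter.unusedSectionVars false
set_option linter.unusedVariables false

namespace Cfsg.Agent.Lib.Helper16.PU

open Matrix Cfsg.Agent.Lib.Helper16.PG

universe u

section
variable {n : ℕ} {F : Type u} [Field F] {q : ℕ}

theorem exists_bar [Fintype F] (hF : Fintype.card F = q ^ 2) : ∃ σ : F ≃+* F, ∀ a, σ a = a ^ q := by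
  obtain ⟨p, a, hp, hchar, hq⟩ := Cfsg.Agent.Lib.Helper16.exists_char_pow hF
  have : ExpChar F p := ExpChar.prime hp
  refine ⟨iterateFrobeniusEquiv F p a, fun x => ?_⟩
  rw [iterateFrobeniusEquiv_def, hq]

theorem bar_bar [Fintype F] (hF : Fintype.card F = q ^ 2) (σ : F ≃+* F) (hσ : ∀ a, σ a = a ^ q) (x : F) :
    σ (σ x) = x := by
  rw [hσ, hσ, ← pow_mul, ← pow_two, ← hF, FiniteField.pow_card]

theorem herm_eq (σ : F ≃+* F) (hσ : ∀ a, σ a = a ^ q) (u v : Fin n → F) :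
    Cfsg.hermForm n F q u v = u ⬝ᵥ (⇑σ ∘ v) := by
  unfold Cfsg.hermForm dotProduct
  apply Finset.sum_congr rfl
  intro i _
  rw [Function.comp_apply, hσ]

theorem map_mulVec_comp (σ : F ≃+* F) (X : Matrix (Fin n) (Fin n) F) (v : Fin n → F) :
    ⇑σ ∘ (X *ᵥ v) = X.map ⇑σ *ᵥ (⇑σ ∘ v) := by
  funext i
  exact RingHom.map_mulVec (σ : F →+* F) X v i

theorem herm_mulVec (σ : F ≃+* F) (hσ : ∀ a, σ a = a ^ q) (X : Matrix (Fin n) (Fin n) F) (u v : Fin n → F) :
    Cfsg.hermForm n F q (X *ᵥ u) (X *ᵥ v) = u ⬝ᵥ ((Xᵀ * X.map ⇑σ) *ᵥ (⇑σ ∘ v)) := by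
  rw [herm_eq σ hσ, map_mulVec_comp, ← Matrix.mulVec_mulVec, Matrix.dotProduct_mulVec u Xᵀ,
    Matrix.vecMul_transpose]

theorem comp_single (σ : F ≃+* F) (j : Fin n) : ⇑σ ∘ (Pi.single j (1 : F)) = Pi.single j 1 := by
  funext i
  rw [Function.comp_apply, Pi.single_apply]
  split_ifs
  · exact map_one σ
  · exact map_zero σ

theorem comp_surj (σ : F ≃+* F) (w : Fin n → F) : ∃ v : Fin n → F, ⇑σ ∘ v = w :=
  ⟨⇑σ.symm ∘ w, by funext i; simp⟩

/-- matrix form of membership in the Hermitian similitude group. -/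
theorem mem_simU_iff_mat (σ : F ≃+* F) (hσ : ∀ a, σ a = a ^ q) (X : GL (Fin n) F) :
    X ∈ simU n F q ↔ ∃ c : Fˣ, (X : Matrix (Fin n) (Fin n) F)ᵀ * (X : Matrix (Fin n) (Fin n) F).map ⇑σ =
      (c : F) • 1 := by
  rw [mem_simU_iff]
  constructor
  · rintro ⟨c, hc⟩
    refine ⟨c, ?_⟩
    ext i j
    have h1 := hc (Pi.single i 1) (Pi.single j 1)
    rw [herm_mulVec σ hσ, herm_eq σ hσ, comp_single, Matrix.mulVec_single_one, single_one_dotProduct,
      single_one_dotProduct] at h1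
    rw [Matrix.smul_apply, Matrix.one_apply, smul_eq_mul]
    rw [Matrix.col_apply] at h1
    rw [h1, Pi.single_apply]
  · rintro ⟨c, hc⟩
    refine ⟨c, fun u v => ?_⟩
    rw [herm_mulVec σ hσ, hc, herm_eq σ hσ, Matrix.smul_mulVec, Matrix.one_mulVec, dotProduct_smul, smul_eq_mul]

theorem mem_GU_iff_mat (σ : F ≃+* F) (hσ : ∀ a, σ a = a ^ q) (X : GL (Fin n) F) :
    X ∈ Cfsg.GU n F q ↔ (X : Matrix (Fin n) (Fin n) F)ᵀ * (X : Matrix (Fin n) (Fin n) F).map ⇑σ = 1 := by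
  constructor
  · intro hX
    ext i j
    have h1 := hX (Pi.single i 1) (Pi.single j 1)
    have h1' : Cfsg.hermForm n F q ((X : Matrix (Fin n) (Fin n) F) *ᵥ Pi.single i 1)
      ((X : Matrix (Fin n) (Fin n) F) *ᵥ Pi.single j 1) = Cfsg.hermForm n F q (Pi.single i 1) (Pi.single j 1) := h1
    rw [herm_mulVec σ hσ, herm_eq σ hσ, comp_single, Matrix.mulVec_single_one, single_one_dotProduct,
      single_one_dotProduct] at h1'
    rw [Matrix.col_apply] at h1'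
    rw [h1', Pi.single_apply, Matrix.one_apply]
  · intro hX u v
    show Cfsg.hermForm n F q ((X : Matrix (Fin n) (Fin n) F) *ᵥ u) ((X : Matrix (Fin n) (Fin n) F) *ᵥ v) = _
    rw [herm_mulVec σ hσ, hX, herm_eq σ hσ, Matrix.one_mulVec]

theorem map_smul_one (σ : F ≃+* F) (c : F) :
    ((c • (1 : Matrix (Fin n) (Fin n) F)).map ⇑σ) = σ c • (1 : Matrix (Fin n) (Fin n) F) := by
  ext i j
  rw [Matrix.map_apply, Matrix.smul_apply, Matrix.smul_apply, Matrix.one_apply, smul_eq_mul, smul_eq_mul, map_mul]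
  split_ifs
  · rw [map_one]
  · rw [map_zero]

theorem map_map_bar [Fintype F] (hF : Fintype.card F = q ^ 2) (σ : F ≃+* F) (hσ : ∀ a, σ a = a ^ q)
    (X : Matrix (Fin n) (Fin n) F) : (X.map ⇑σ).map ⇑σ = X := by
  ext i j
  rw [Matrix.map_apply, Matrix.map_apply, bar_bar hF σ hσ]

/-- the multiplier of a Hermitian similitude is fixed by the involution. -/
theorem simU_mult_fixed [Fintype F] (hF : Fintype.card F = q ^ 2) (σ : F ≃+* F) (hσ : ∀ a, σ a = a ^ q)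
    (hn : 1 ≤ n) (X : Matrix (Fin n) (Fin n) F) (c : F) (hc : Xᵀ * X.map ⇑σ = c • 1) : σ c = c := by
  have h1 : ((Xᵀ * X.map ⇑σ).map ⇑σ)ᵀ = Xᵀ * X.map ⇑σ := by
    rw [Matrix.map_mul, map_map_bar hF σ hσ, Matrix.transpose_mul, Matrix.transpose_map, Matrix.transpose_transpose]
  rw [hc, map_smul_one, Matrix.transpose_smul, Matrix.transpose_one] at h1
  have h2 := congrFun (congrFun h1 ⟨0, by omega⟩) ⟨0, by omega⟩
  simpa using h2

theorem simU_factor [Fintype F] (hF : Fintype.card F = q ^ 2) (σ : F ≃+* F) (hσ : ∀ a, σ a = a ^ q)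
    (hn : 1 ≤ n) (X : GL (Fin n) F) (hX : X ∈ simU n F q) :
    ∃ (ν : Fˣ) (g : GL (Fin n) F), g ∈ Cfsg.GU n F q ∧ X = scalG (Fin n) ν * g := by
  obtain ⟨c, hc⟩ := (mem_simU_iff_mat σ hσ X).mp hX
  have hfix := simU_mult_fixed hF σ hσ hn _ _ hc
  have hq : 1 ≤ q := by
    rcases Nat.eq_zero_or_pos q with h0 | h0
    · have : 1 < Fintype.card F := Fintype.one_lt_card
      rw [hF, h0] at this
      omega
    · exact h0
  have hc1 : c ^ (q - 1) = 1 := by
    apply Units.ext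
    rw [Units.val_pow_eq_pow_val, Units.val_one]
    have h3 : (c : F) ^ q = c := by rw [← hσ]; exact hfix
    have h4 : (c : F) ^ (q - 1) * c = c := by
      rw [← pow_succ, Nat.sub_add_cancel hq, h3]
    have h5 : ((c : F) ^ (q - 1) - 1) * c = 0 := by rw [sub_mul, h4, one_mul, sub_self]
    rcases mul_eq_zero.mp h5 with h | h
    · exact sub_eq_zero.mp h
    · exact absurd h c.ne_zero
  obtain ⟨μ, hμ⟩ := Cfsg.Agent.Lib.Helper16.norm_surj hF c hc1
  refine ⟨μ, scalG (Fin n) μ⁻¹ * X, ?_, ?_⟩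
  · rw [mem_GU_iff_mat σ hσ, Units.val_mul, scalG_val, Matrix.smul_mul, Matrix.one_mul, Matrix.transpose_smul]
    have h6 : (((μ⁻¹ : Fˣ) : F) • (X : Matrix (Fin n) (Fin n) F)).map ⇑σ =
        σ ((μ⁻¹ : Fˣ) : F) • (X : Matrix (Fin n) (Fin n) F).map ⇑σ := by
      ext i j
      rw [Matrix.map_apply, Matrix.smul_apply, Matrix.smul_apply, Matrix.map_apply, smul_eq_mul, smul_eq_mul, map_mul]
    rw [h6, Matrix.smul_mul, Matrix.mul_smul, hc, smul_smul, smul_smul]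
    have h7 : σ ((μ⁻¹ : Fˣ) : F) * ((μ⁻¹ : Fˣ) : F) * (c : F) = 1 := by
      rw [hσ, ← hμ, Units.val_pow_eq_pow_val, Units.val_inv_eq_inv_val]
      have hμ0 : (μ : F) ≠ 0 := μ.ne_zero
      rw [pow_succ, inv_pow]
      field_simp
    rw [mul_comm ((μ⁻¹ : Fˣ) : F), h7, one_smul]
  · have : (scalG (Fin n) μ⁻¹ : GL (Fin n) F) = (scalG (Fin n) μ)⁻¹ := by
      unfold scalG
      rw [map_inv]
    rw [this, mul_inv_cancel_left]

theorem PhiU_scal (ν : Fˣ) (h : scalG (Fin n) ν ∈ simU n F q) :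
    PhiU n F q ⟨scalG (Fin n) ν, h⟩ = 1 := by
  apply MulEquiv.ext
  intro x
  induction x using QuotientGroup.induction_on with
  | H s =>
    rw [PhiU_mk]
    show _ = QuotientGroup.mk s
    congr 1
    apply Subtype.ext
    apply Subtype.ext
    rw [conjSU_val, conjSL_val]
    have h1 : ((scalG (Fin n) ν)⁻¹ : GL (Fin n) F) = scalG (Fin n) ν⁻¹ := by
      unfold scalG
      rw [map_inv]
    rw [h1, scalG_val, scalG_val, Matrix.smul_mul, Matrix.one_mul, Matrix.mul_smul, Matrix.mul_one, smul_smul,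
      Units.val_inv_eq_inv_val, inv_mul_cancel₀ ν.ne_zero, one_smul]

theorem inndiagU_eq_range [Fintype F] (hF : Fintype.card F = q ^ 2) (hn : 1 ≤ n) :
    Cfsg.inndiagPSU n F q = (PhiU n F q).range := by
  obtain ⟨σ, hσ⟩ := exists_bar hF
  unfold Cfsg.inndiagPSU Cfsg.autSubgroupOf
  have : {β : MulAut (Cfsg.PSU n F q) | Cfsg.IsInnerDiagonalAutPSU β} =
      ((PhiU n F q).range : Set (MulAut (Cfsg.PSU n F q))) := by
    ext β
    rw [Set.mem_ofPred_eq, isInnerDiagU_iff, SetLike.mem_coe, MonoidHom.mem_range]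
    constructor
    · rintro ⟨g, -, rfl⟩; exact ⟨g, rfl⟩
    · rintro ⟨X, rfl⟩
      obtain ⟨ν, g, hg, hX⟩ := simU_factor hF σ hσ hn X.1 X.2
      have hgs : g ∈ simU n F q := GU_le_simU hg
      have hνs : scalG (Fin n) ν ∈ simU n F q := by
        have : scalG (Fin n) ν = X.1 * g⁻¹ := by rw [hX, mul_inv_cancel_right]
        rw [this]
        exact Subgroup.mul_mem _ X.2 (Subgroup.inv_mem _ hgs)
      refine ⟨⟨g, hgs⟩, hg, ?_⟩
      have h1 : X = ⟨scalG (Fin n) ν, hνs⟩ * ⟨g, hgs⟩ := Subtype.ext hX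
      rw [h1, map_mul, PhiU_scal, one_mul]
  rw [this, Subgroup.closure_eq]

end

end Cfsg.Agent.Lib.Helper16.PU
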