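import Mathlib
import Cfsg.Prelude.Def_LieTypeDatum
import Cfsg.Agent.Lib.Helper16.PU2

set_option autoImplicit false
set_option linter.unusedSectionVars false
set_option linter.unusedVariables false

namespace Cfsg.Agent.Lib.Helper16.PU

open Matrix Cfsg.Agent.Lib.Helper16.PG

universe u

section
variable {n : ℕ} {F : Type u} [Field F] {q : ℕ}

theorem q_ge_two' [Fintype F] (hF : Fintype.card F = q ^ 2) : 2 ≤ q := by
  have h1 : 1 < Fintype.card F := Fintype.one_lt_card
  rw [hF] at h1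
  by_contra hlt
  have : q = 0 ∨ q = 1 := by omega
  rcases this with rfl | rfl <;> simp at h1

theorem exists_gen' [Fintype F] (hF : Fintype.card F = q ^ 2) :
    ∃ g : Fˣ, orderOf g = (q - 1) * (q + 1) := by
  classical
  have hq2 := q_ge_two' hF
  obtain ⟨g, hg⟩ := IsCyclic.exists_generator (α := Fˣ)
  have hcard : Fintype.card F - 1 = (q - 1) * (q + 1) := by
    rw [hF]
    obtain ⟨k, rfl⟩ : ∃ k, q = k + 1 := ⟨q - 1, by omega⟩
    have : (k + 1) ^ 2 = (k + 1 - 1) * (k + 1 + 1) + 1 := by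
      simp; ring
    omega
  refine ⟨g, ?_⟩
  rw [orderOf_eq_card_of_forall_mem_zpowers hg, Nat.card_eq_fintype_card, Fintype.card_units, hcard]

/-- a non-zero trace-zero element. -/
theorem exists_skew [Fintype F] (hF : Fintype.card F = q ^ 2) (σ : F ≃+* F) (hσ : ∀ a, σ a = a ^ q) :
    ∃ a : F, a ≠ 0 ∧ σ a = -a := by
  have hq2 := q_ge_two' hF
  obtain ⟨g, hg⟩ := exists_gen' hF
  have hne : σ (g : F) ≠ g := by
    intro h
    rw [hσ] at h
    have h1 : g ^ (q - 1) = 1 := by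
      apply Units.ext
      rw [Units.val_pow_eq_pow_val, Units.val_one]
      have h4 : (g : F) ^ (q - 1) * g = g := by
        rw [← pow_succ, Nat.sub_add_cancel (by omega), h]
      have h5 : ((g : F) ^ (q - 1) - 1) * g = 0 := by rw [sub_mul, h4, one_mul, sub_self]
      rcases mul_eq_zero.mp h5 with h' | h'
      · exact sub_eq_zero.mp h'
      · exact absurd h' g.ne_zero
    have h2 := orderOf_dvd_of_pow_eq_one h1
    rw [hg] at h2
    have h3 := Nat.le_of_dvd (by omega) h2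
    obtain ⟨k, rfl⟩ : ∃ k, q = k + 2 := ⟨q - 2, by omega⟩
    have h4 : (k + 2 - 1) * (k + 2 + 1) = (k + 1) * (k + 3) := by
      congr 1
    rw [h4] at h3
    have h5 : k + 2 - 1 = k + 1 := by omega
    rw [h5] at h3
    nlinarith
  refine ⟨(g : F) - σ g, sub_ne_zero.mpr (Ne.symm hne), ?_⟩
  rw [map_sub, bar_bar hF σ hσ]
  ring

/-- an element of norm `-1` whose square is not `1`. -/
theorem exists_mu [Fintype F] (hF : Fintype.card F = q ^ 2) (σ : F ≃+* F) (hσ : ∀ a, σ a = a ^ q) :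
    ∃ μ : F, μ * σ μ = -1 ∧ μ ^ 2 ≠ 1 := by
  have hq2 := q_ge_two' hF
  obtain ⟨g, hg⟩ := exists_gen' hF
  obtain ⟨p, a, hp, hchar, hqp⟩ := Cfsg.Agent.Lib.Helper16.exists_char_pow hF
  have hneg : ((-1 : Fˣ)) ^ (q - 1) = 1 := by
    by_cases h2 : (2 : F) = 0
    · have : (-1 : Fˣ) = 1 := by
        apply Units.ext
        rw [Units.val_neg, Units.val_one]
        linear_combination (-1 : F) * h2
      rw [this, one_pow]
    · have hp2 : p ≠ 2 := by
        rintro rfl
        exact h2 (CharTwo.two_eq_zero)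
      have hpodd : Odd p := hp.odd_of_ne_two hp2
      have hqodd : Odd q := by rw [hqp]; exact hpodd.pow
      have : Even (q - 1) := by
        obtain ⟨k, hk⟩ := hqodd
        exact ⟨k, by omega⟩
      exact this.neg_one_pow
  obtain ⟨μ₁, hμ₁⟩ := Cfsg.Agent.Lib.Helper16.norm_surj hF (-1 : Fˣ) hneg
  set ζ : Fˣ := g ^ (q - 1) with hζ
  have hζN : ζ ^ (q + 1) = 1 := by
    rw [hζ, ← pow_mul, ← hg, pow_orderOf_eq_one]
  have hζ2 : ζ ^ 2 ≠ 1 := by
    intro h
    rw [hζ, ← pow_mul] at h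
    have h2 := orderOf_dvd_of_pow_eq_one h
    rw [hg] at h2
    have h3 : q + 1 ∣ 2 := by
      have : (q - 1) * (q + 1) ∣ (q - 1) * 2 := h2
      exact Nat.dvd_of_mul_dvd_mul_left (by omega) this
    have := Nat.le_of_dvd (by norm_num) h3
    omega
  have key : ∀ μ : Fˣ, μ ^ (q + 1) = -1 → (μ : F) * σ μ = -1 := by
    intro μ hμ
    rw [hσ, ← pow_succ', ← Units.val_pow_eq_pow_val, hμ, Units.val_neg, Units.val_one]
  by_cases h : μ₁ ^ 2 = 1
  · refine ⟨((μ₁ * ζ : Fˣ) : F), key _ ?_, ?_⟩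
    · rw [mul_pow, hμ₁, hζN, mul_one]
    · intro h'
      apply hζ2
      have h'' : (μ₁ * ζ) ^ 2 = 1 := by
        apply Units.ext
        rw [Units.val_pow_eq_pow_val, Units.val_one]
        exact h'
      rw [mul_pow, h, one_mul] at h''
      exact h''
  · refine ⟨(μ₁ : F), key _ hμ₁, ?_⟩
    intro h'
    apply h
    apply Units.ext
    rw [Units.val_pow_eq_pow_val, Units.val_one]
    exact h'

end

end Cfsg.Agent.Lib.Helper16.PU
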