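import Mathlib
import Cfsg.Prelude.Def_LieTypeDatum
import Cfsg.Agent.Lib.Helper16.PU3

set_option autoImplicit false
set_option linter.unusedSectionVars false
set_option linter.unusedVariables false

namespace Cfsg.Agent.Lib.Helper16.PU

open Matrix Cfsg.Agent.Lib.Helper16.PG

universe u

section
variable {n : ℕ} {F : Type u} [Field F] {q : ℕ}

/-- the unitary transvection matrix `1 + a v v^*`. -/
def tvM (σ : F ≃+* F) (v : Fin n → F) (a : F) : Matrix (Fin n) (Fin n) F :=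
  1 + a • Matrix.vecMulVec v (⇑σ ∘ v)

theorem tvM_mulVec (σ : F ≃+* F) (v : Fin n → F) (a : F) (u : Fin n → F) :
    tvM σ v a *ᵥ u = u + (a * ((⇑σ ∘ v) ⬝ᵥ u)) • v := by
  unfold tvM
  rw [Matrix.add_mulVec, Matrix.one_mulVec, Matrix.smul_mulVec, Matrix.vecMulVec_mulVec, op_smul_eq_smul,
    smul_smul]

theorem tvM_det (σ : F ≃+* F) (v : Fin n → F) (a : F) :
    (tvM σ v a).det = 1 + a * ((⇑σ ∘ v) ⬝ᵥ v) := by
  unfold tvM
  have h1 : a • Matrix.vecMulVec v (⇑σ ∘ v) = Matrix.vecMulVec (a • v) (⇑σ ∘ v) := by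
    ext i j
    simp [Matrix.vecMulVec_apply, mul_assoc]
  rw [h1, Matrix.vecMulVec_eq Unit, Matrix.det_one_add_replicateCol_mul_replicateRow, dotProduct_smul, smul_eq_mul]

theorem comp_add (σ : F ≃+* F) (x y : Fin n → F) : ⇑σ ∘ (x + y) = ⇑σ ∘ x + ⇑σ ∘ y := by
  funext i; simp

theorem comp_smul (σ : F ≃+* F) (c : F) (x : Fin n → F) : ⇑σ ∘ (c • x) = σ c • (⇑σ ∘ x) := by
  funext i; simp

theorem herm_swap [Fintype F] (hF : Fintype.card F = q ^ 2) (σ : F ≃+* F) (hσ : ∀ a, σ a = a ^ q)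
    (x y : Fin n → F) : σ (x ⬝ᵥ (⇑σ ∘ y)) = y ⬝ᵥ (⇑σ ∘ x) := by
  have h1 := RingHom.map_dotProduct (σ : F →+* F) x (⇑σ ∘ y)
  have h2 : ⇑(σ : F →+* F) ∘ (⇑σ ∘ y) = y := by
    funext i
    simp only [Function.comp_apply, RingEquiv.coe_toRingHom]
    exact bar_bar hF σ hσ (y i)
  rw [h2] at h1
  rw [dotProduct_comm y]
  exact h1

/-- unitary transvections preserve the Hermitian form. -/
theorem tvM_pres [Fintype F] (hF : Fintype.card F = q ^ 2) (σ : F ≃+* F) (hσ : ∀ a, σ a = a ^ q)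
    (v : Fin n → F) (a : F) (hv : v ⬝ᵥ (⇑σ ∘ v) = 0) (ha : σ a = -a) (u w : Fin n → F) :
    Cfsg.hermForm n F q (tvM σ v a *ᵥ u) (tvM σ v a *ᵥ w) = Cfsg.hermForm n F q u w := by
  rw [herm_eq σ hσ, herm_eq σ hσ, tvM_mulVec, tvM_mulVec, comp_add, comp_smul, add_dotProduct, dotProduct_add,
    dotProduct_add, smul_dotProduct, smul_dotProduct, dotProduct_smul, dotProduct_smul, hv, map_mul, ha]
  have h1 : σ ((⇑σ ∘ v) ⬝ᵥ w) = v ⬝ᵥ (⇑σ ∘ w) := by
    rw [dotProduct_comm, herm_swap hF σ hσ, dotProduct_comm]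
  rw [h1, dotProduct_comm (⇑σ ∘ v) u]
  simp only [smul_eq_mul]
  ring

/-- the unitary transvection as an element of `SU_n`. -/
noncomputable def tvSU [Fintype F] (hF : Fintype.card F = q ^ 2) (σ : F ≃+* F) (hσ : ∀ a, σ a = a ^ q)
    (v : Fin n → F) (a : F) (hv : v ⬝ᵥ (⇑σ ∘ v) = 0) (ha : σ a = -a) : ↥(Cfsg.SU n F q) :=
  ⟨⟨tvM σ v a, by rw [tvM_det, dotProduct_comm, hv, mul_zero, add_zero]⟩,
    fun u w => tvM_pres hF σ hσ v a hv ha u w⟩

theorem tvSU_val [Fintype F] (hF : Fintype.card F = q ^ 2) (σ : F ≃+* F) (hσ : ∀ a, σ a = a ^ q)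
    (v : Fin n → F) (a : F) (hv : v ⬝ᵥ (⇑σ ∘ v) = 0) (ha : σ a = -a) :
    ((tvSU hF σ hσ v a hv ha).1 : Matrix (Fin n) (Fin n) F) = tvM σ v a := rfl

/-- a matrix commuting with a unitary transvection fixes its centre line. -/
theorem fix_line_of_comm (σ : F ≃+* F) (v : Fin n → F) (a : F) (ha : a ≠ 0)
    (Y : Matrix (Fin n) (Fin n) F) (hY : Y * tvM σ v a = tvM σ v a * Y) (w : Fin n → F)
    (hw : (⇑σ ∘ v) ⬝ᵥ w = 1) : ∃ l : F, Y *ᵥ v = l • v := by
  refine ⟨(⇑σ ∘ v) ⬝ᵥ (Y *ᵥ w), ?_⟩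
  have h1 := congrArg (fun M => M *ᵥ w) hY
  simp only [← Matrix.mulVec_mulVec, tvM_mulVec, hw, mul_one, Matrix.mulVec_add, Matrix.mulVec_smul] at h1
  have h2 : a • (Y *ᵥ v) = a • (((⇑σ ∘ v) ⬝ᵥ (Y *ᵥ w)) • v) := by
    rw [smul_smul]
    exact add_left_cancel h1
  exact smul_right_injective _ ha h2

/-- the isotropic vector `e_i + μ e_j`. -/
def isoV (i j : Fin n) (μ : F) : Fin n → F := Pi.single i 1 + μ • Pi.single j 1

theorem isoV_iso (σ : F ≃+* F) (i j : Fin n) (hij : i ≠ j) (μ : F) (hμ : μ * σ μ = -1) :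
    isoV i j μ ⬝ᵥ (⇑σ ∘ isoV i j μ) = 0 := by
  unfold isoV
  rw [comp_add, comp_smul, comp_single, comp_single]
  simp only [add_dotProduct, dotProduct_add, smul_dotProduct, dotProduct_smul, single_one_dotProduct,
    Pi.single_apply, smul_eq_mul]
  rw [if_pos trivial, if_neg hij, if_neg (Ne.symm hij)]
  linear_combination hμ

theorem isoV_dual (σ : F ≃+* F) (i j : Fin n) (hij : i ≠ j) (μ : F) :
    (⇑σ ∘ isoV i j μ) ⬝ᵥ (Pi.single i 1) = 1 := by
  unfold isoV
  rw [comp_add, comp_smul, comp_single, comp_single]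
  simp only [add_dotProduct, smul_dotProduct, single_one_dotProduct, Pi.single_apply, smul_eq_mul]
  rw [if_pos trivial, if_neg (Ne.symm hij)]
  ring

/-- a matrix fixing all lines `⟨e_i + μ e_j⟩` is scalar. -/
theorem scalar_of_fix_lines (hn : 3 ≤ n) (μ : F) (hμ0 : μ ≠ 0) (hμ2 : μ ^ 2 ≠ 1)
    (Y : Matrix (Fin n) (Fin n) F)
    (hY : ∀ i j : Fin n, i ≠ j → ∃ l : F, Y *ᵥ isoV i j μ = l • isoV i j μ) :
    ∃ d : F, Y = d • 1 := by
  have hent : ∀ i j : Fin n, i ≠ j → ∃ l : F, ∀ k, Y k i + μ * Y k j = l * ((if k = i then 1 else 0) + μ * (if k = j then 1 else 0)) := by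
    intro i j hij
    obtain ⟨l, hl⟩ := hY i j hij
    refine ⟨l, fun k => ?_⟩
    have h1 := congrFun hl k
    unfold isoV at h1
    rw [Matrix.mulVec_add, Matrix.mulVec_smul, Matrix.mulVec_single_one, Matrix.mulVec_single_one] at h1
    simp only [Pi.add_apply, Pi.smul_apply, Matrix.col_apply, smul_eq_mul, Pi.single_apply] at h1
    exact h1
  have hoff : ∀ k i : Fin n, k ≠ i → Y k i = 0 := by
    intro k i hki
    obtain ⟨j, hji, hjk⟩ : ∃ j : Fin n, j ≠ i ∧ j ≠ k := by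
      by_contra hcon
      push Not at hcon
      have h1 : ∀ j : Fin n, j = i ∨ j = k := by
        intro j
        by_cases h : j = i
        · left; exact h
        · right; exact hcon j h
      have h2 : Fintype.card (Fin n) ≤ 2 := by
        calc Fintype.card (Fin n) = (Finset.univ : Finset (Fin n)).card := rfl
          _ ≤ ({i, k} : Finset (Fin n)).card := by
            apply Finset.card_le_card
            intro j _
            rcases h1 j with h | h <;> simp [h]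
          _ ≤ 2 := Finset.card_le_two
      rw [Fintype.card_fin] at h2
      omega
    obtain ⟨l₁, h₁⟩ := hent i j (Ne.symm hji)
    obtain ⟨l₂, h₂⟩ := hent j i hji
    have e1 := h₁ k
    have e2 := h₂ k
    rw [if_neg hki, if_neg (Ne.symm hjk)] at e1
    rw [if_neg (Ne.symm hjk), if_neg hki] at e2
    have h3 : (1 - μ ^ 2) * Y k i = 0 := by linear_combination e1 - μ * e2
    rcases mul_eq_zero.mp h3 with h | h
    · exfalso; apply hμ2; linear_combination -h
    · exact h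
  have hdiag : ∀ i j : Fin n, Y i i = Y j j := by
    intro i j
    by_cases hij : i = j
    · rw [hij]
    obtain ⟨l, hl⟩ := hent i j hij
    have e1 := hl i
    have e2 := hl j
    rw [if_pos rfl, if_neg hij, hoff i j hij] at e1
    rw [if_neg (Ne.symm hij), if_pos rfl, hoff j i (Ne.symm hij)] at e2
    have h3 : Y i i = l := by linear_combination e1
    have h4 : μ * (Y j j - l) = 0 := by linear_combination e2
    rcases mul_eq_zero.mp h4 with h | h
    · exact absurd h hμ0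
    · rw [h3]; linear_combination -h
  refine ⟨Y ⟨0, by omega⟩ ⟨0, by omega⟩, ?_⟩
  ext k i
  rw [Matrix.smul_apply, Matrix.one_apply, smul_eq_mul]
  by_cases hki : k = i
  · rw [if_pos hki, mul_one, hki]
    exact hdiag _ _
  · rw [if_neg hki, mul_zero]
    exact hoff k i hki

end

end Cfsg.Agent.Lib.Helper16.PU
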