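import Mathlib
import Cfsg.Prelude.Def_LieTypeDatum
import Cfsg.Agent.Lib.Helper16.PU4
import Cfsg.Agent.Lib.Helper16.PG8

set_option autoImplicit false
set_option linter.unusedSectionVars false
set_option linter.unusedVariables false

namespace Cfsg.Agent.Lib.Helper16.PU

open Matrix Cfsg.Agent.Lib.Helper16.PG

universe u

section
variable {n : ℕ} {F : Type u} [Field F] {q : ℕ}

theorem scalar_of_comm_tv (σ : F ≃+* F) (hn : 3 ≤ n) (μ a : F) (hμ : μ * σ μ = -1) (hμ2 : μ ^ 2 ≠ 1)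
    (ha0 : a ≠ 0) (Y : Matrix (Fin n) (Fin n) F)
    (hY : ∀ i j : Fin n, i ≠ j → Y * tvM σ (isoV i j μ) a = tvM σ (isoV i j μ) a * Y) :
    ∃ d : F, Y = d • 1 := by
  have hμ0 : μ ≠ 0 := by
    rintro rfl
    rw [zero_mul] at hμ
    exact one_ne_zero (neg_eq_zero.mp hμ.symm)
  apply scalar_of_fix_lines hn μ hμ0 hμ2 Y
  intro i j hij
  exact fix_line_of_comm σ (isoV i j μ) a ha0 Y (hY i j hij) (Pi.single i 1) (isoV_dual σ i j hij μ)

theorem tv_nilp (σ : F ≃+* F) (v : Fin n → F) (a : F) (hv : v ⬝ᵥ (⇑σ ∘ v) = 0) :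
    (a • Matrix.vecMulVec v (⇑σ ∘ v)) * (a • Matrix.vecMulVec v (⇑σ ∘ v)) = 0 := by
  rw [Matrix.smul_mul, Matrix.mul_smul, Matrix.vecMulVec_mul_vecMulVec, dotProduct_comm, hv, zero_smul]
  ext i j
  simp

/-- the centre of `SU_n` consists of scalar matrices. -/
theorem center_SU_scalar [Fintype F] (hF : Fintype.card F = q ^ 2) (hn : 3 ≤ n)
    (z : ↥(Cfsg.SU n F q)) (hz : z ∈ Subgroup.center ↥(Cfsg.SU n F q)) :
    ∃ d : F, (z.1 : Matrix (Fin n) (Fin n) F) = d • 1 := by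
  obtain ⟨σ, hσ⟩ := exists_bar hF
  obtain ⟨a, ha0, ha⟩ := exists_skew hF σ hσ
  obtain ⟨μ, hμ, hμ2⟩ := exists_mu hF σ hσ
  apply scalar_of_comm_tv σ hn μ a hμ hμ2 ha0
  intro i j hij
  have h1 := (Subgroup.mem_center_iff.mp hz) (tvSU hF σ hσ (isoV i j μ) a (isoV_iso σ i j hij μ hμ) ha)
  have h2 := congrArg (fun s : ↥(Cfsg.SU n F q) => (s.1 : Matrix (Fin n) (Fin n) F)) h1
  exact h2.symm

/-- the kernel of `PhiU` is the group of scalar matrices. -/
theorem PhiU_eq_one_iff [Fintype F] (hF : Fintype.card F = q ^ 2) (hn : 3 ≤ n) (X : ↥(simU n F q)) :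
    PhiU n F q X = 1 ↔ X.1 ∈ Cfsg.Geo.scalars (Fin n) F := by
  constructor
  · intro h
    obtain ⟨σ, hσ⟩ := exists_bar hF
    obtain ⟨a, ha0, ha⟩ := exists_skew hF σ hσ
    obtain ⟨μ, hμ, hμ2⟩ := exists_mu hF σ hσ
    have hsc : ∃ d : F, (X.1 : Matrix (Fin n) (Fin n) F) = d • 1 := by
      apply scalar_of_comm_tv σ hn μ a hμ hμ2 ha0
      intro i j hij
      set v := isoV i j μ with hv
      have hiso := isoV_iso σ i j hij μ hμ
      set t := tvSU hF σ hσ v a hiso ha with ht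
      have h1 : PhiU n F q X (QuotientGroup.mk t) = QuotientGroup.mk t := by
        rw [h, MulAut.one_apply]
      rw [PhiU_mk, QuotientGroup.eq] at h1
      obtain ⟨d, hd⟩ := center_SU_scalar hF hn _ h1
      have h2 : (((conjSU X t)⁻¹ * t : ↥(Cfsg.SU n F q)).1 : Matrix (Fin n) (Fin n) F) =
          (((conjSU X t)⁻¹ : ↥(Cfsg.SU n F q)).1 : Matrix (Fin n) (Fin n) F) * tvM σ v a := rfl
      rw [h2] at hd
      have h3 : tvM σ v a = d • ((X.1 : Matrix (Fin n) (Fin n) F) * tvM σ v a *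
          ((X.1⁻¹ : GL (Fin n) F) : Matrix (Fin n) (Fin n) F)) := by
        have h4 : ((conjSU X t).1 : Matrix (Fin n) (Fin n) F) *
            ((((conjSU X t)⁻¹ : ↥(Cfsg.SU n F q)).1 : Matrix (Fin n) (Fin n) F) * tvM σ v a) =
            ((conjSU X t).1 : Matrix (Fin n) (Fin n) F) * (d • 1) := by rw [hd]
        rw [← Matrix.mul_assoc] at h4
        have h5 : ((conjSU X t).1 : Matrix (Fin n) (Fin n) F) *
            (((conjSU X t)⁻¹ : ↥(Cfsg.SU n F q)).1 : Matrix (Fin n) (Fin n) F) = 1 := by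
          have : (conjSU X t) * (conjSU X t)⁻¹ = 1 := mul_inv_cancel _
          have h6 := congrArg (fun s : ↥(Cfsg.SU n F q) => (s.1 : Matrix (Fin n) (Fin n) F)) this
          exact h6
        rw [h5, Matrix.one_mul, Matrix.mul_smul, Matrix.mul_one] at h4
        exact h4
      have hN := tv_nilp σ v a hiso
      obtain ⟨k, hki, hkj⟩ : ∃ k : Fin n, k ≠ i ∧ k ≠ j := by
        by_contra hcon
        push Not at hcon
        have h2 : Fintype.card (Fin n) ≤ 2 := by
          calc Fintype.card (Fin n) = (Finset.univ : Finset (Fin n)).card := rfl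
            _ ≤ ({i, j} : Finset (Fin n)).card := by
              apply Finset.card_le_card
              intro k _
              by_cases h : k = i
              · simp [h]
              · simp [hcon k h]
            _ ≤ 2 := Finset.card_le_two
        rw [Fintype.card_fin] at h2
        omega
      have hkk : (a • Matrix.vecMulVec v (⇑σ ∘ v)) k k = 0 := by
        rw [Matrix.smul_apply, Matrix.vecMulVec_apply, hv]
        unfold isoV
        simp [hki, hkj]
      have h7 := conj_nilp (X.1 : Matrix (Fin n) (Fin n) F) ((X.1⁻¹ : GL (Fin n) F) : Matrix (Fin n) (Fin n) F)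
        (a • Matrix.vecMulVec v (⇑σ ∘ v)) (a • Matrix.vecMulVec v (⇑σ ∘ v)) (gl_mul_inv X.1) (gl_inv_mul X.1)
        hN hN k hkk d h3.symm
      have h8 : (X.1 : Matrix (Fin n) (Fin n) F) * (a • Matrix.vecMulVec v (⇑σ ∘ v)) =
          (a • Matrix.vecMulVec v (⇑σ ∘ v)) * (X.1 : Matrix (Fin n) (Fin n) F) := by
        have h9 : (X.1 : Matrix (Fin n) (Fin n) F) * (a • Matrix.vecMulVec v (⇑σ ∘ v)) *
            ((X.1⁻¹ : GL (Fin n) F) : Matrix (Fin n) (Fin n) F) * (X.1 : Matrix (Fin n) (Fin n) F) =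
            (a • Matrix.vecMulVec v (⇑σ ∘ v)) * (X.1 : Matrix (Fin n) (Fin n) F) := by rw [h7]
        rw [Matrix.mul_assoc, gl_inv_mul, Matrix.mul_one] at h9
        exact h9
      unfold tvM
      rw [Matrix.mul_add, Matrix.add_mul, Matrix.mul_one, Matrix.one_mul, h8]
    obtain ⟨d, hd⟩ := hsc
    rw [Cfsg.Geo.mem_scalars_iff]
    have hd0 : d ≠ 0 := by
      rintro rfl
      have h3 := gl_mul_inv X.1
      rw [hd, zero_smul, Matrix.zero_mul] at h3
      have : Nonempty (Fin n) := ⟨⟨0, by omega⟩⟩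
      exact zero_ne_one h3
    exact ⟨Units.mk0 d hd0, hd⟩
  · intro h
    rw [Cfsg.Geo.mem_scalars_iff] at h
    obtain ⟨c, hc⟩ := h
    have h1 : X.1 = scalG (Fin n) c := by
      apply Units.ext
      rw [hc, scalG_val]
    have h2 : scalG (Fin n) c ∈ simU n F q := h1 ▸ X.2
    have h3 : X = ⟨scalG (Fin n) c, h2⟩ := Subtype.ext h1
    rw [h3, PhiU_scal]

end

end Cfsg.Agent.Lib.Helper16.PU
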