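import Mathlib
import Cfsg.Prelude.Def_LieTypeDatum
import Cfsg.Agent.Lib.Helper16.PU5

set_option autoImplicit false
set_option linter.unusedSectionVars false
set_option linter.unusedVariables false

namespace Cfsg.Agent.Lib.Helper16.PU

open Matrix Cfsg.Agent.Lib.Helper16.PG

universe u

section
variable {n : ℕ} {F : Type u} [Field F] {q : ℕ}

/-- entrywise field automorphism on `SL_n`. -/
noncomputable def mapSLEquiv (τ : F ≃+* F) : SpecialLinearGroup (Fin n) F ≃* SpecialLinearGroup (Fin n) F where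
  toFun := SpecialLinearGroup.map (τ : F →+* F)
  invFun := SpecialLinearGroup.map (τ.symm : F →+* F)
  left_inv s := by
    apply Subtype.ext
    ext i j
    simp [SpecialLinearGroup.map_apply_coe]
  right_inv s := by
    apply Subtype.ext
    ext i j
    simp [SpecialLinearGroup.map_apply_coe]
  map_mul' := map_mul _

theorem mapSLEquiv_val (τ : F ≃+* F) (s : SpecialLinearGroup (Fin n) F) :
    ((mapSLEquiv τ s : SpecialLinearGroup (Fin n) F) : Matrix (Fin n) (Fin n) F) =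
      (s : Matrix (Fin n) (Fin n) F).map ⇑τ := rfl

theorem herm_comp (τ : F ≃+* F) (x y : Fin n → F) :
    Cfsg.hermForm n F q (⇑τ ∘ x) (⇑τ ∘ y) = τ (Cfsg.hermForm n F q x y) := by
  unfold Cfsg.hermForm
  rw [map_sum]
  apply Finset.sum_congr rfl
  intro i _
  rw [map_mul, map_pow]
  rfl

theorem herm_map_mulVec (τ : F ≃+* F) (M : Matrix (Fin n) (Fin n) F) (u v : Fin n → F) :
    Cfsg.hermForm n F q (M.map ⇑τ *ᵥ u) (M.map ⇑τ *ᵥ v) =
      τ (Cfsg.hermForm n F q (M *ᵥ (⇑τ.symm ∘ u)) (M *ᵥ (⇑τ.symm ∘ v))) := by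
  have hu : u = ⇑τ ∘ (⇑τ.symm ∘ u) := by funext i; simp
  have hv : v = ⇑τ ∘ (⇑τ.symm ∘ v) := by funext i; simp
  conv_lhs => rw [hu, hv]
  rw [← map_mulVec_comp, ← map_mulVec_comp, herm_comp]

theorem map_mem_SU (τ : F ≃+* F) (s : SpecialLinearGroup (Fin n) F) (hs : s ∈ Cfsg.SU n F q) :
    mapSLEquiv τ s ∈ Cfsg.SU n F q := by
  rw [mem_SU_iff] at hs ⊢
  intro u v
  rw [mapSLEquiv_val, herm_map_mulVec, hs, ← herm_comp]
  congr 1 <;> funext i <;> simp

/-- entrywise field automorphism on `SU_n`. -/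
noncomputable def fieldSU (τ : F ≃+* F) : ↥(Cfsg.SU n F q) ≃* ↥(Cfsg.SU n F q) where
  toFun s := ⟨mapSLEquiv τ s.1, map_mem_SU τ s.1 s.2⟩
  invFun s := ⟨mapSLEquiv τ.symm s.1, map_mem_SU τ.symm s.1 s.2⟩
  left_inv s := by
    apply Subtype.ext
    exact (mapSLEquiv τ).left_inv s.1
  right_inv s := by
    apply Subtype.ext
    exact (mapSLEquiv τ).right_inv s.1
  map_mul' s t := by
    apply Subtype.ext
    exact map_mul (mapSLEquiv τ) s.1 t.1

theorem fieldSU_val (τ : F ≃+* F) (s : ↥(Cfsg.SU n F q)) :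
    ((fieldSU τ s).1 : Matrix (Fin n) (Fin n) F) = (s.1 : Matrix (Fin n) (Fin n) F).map ⇑τ := rfl

/-- the standard field automorphism of `PSU_n`. -/
noncomputable def fieldU (n : ℕ) (q : ℕ) (τ : F ≃+* F) : MulAut (Cfsg.PSU n F q) :=
  autQuot ↥(Cfsg.SU n F q) (fieldSU τ)

theorem fieldU_mk (τ : F ≃+* F) (s : ↥(Cfsg.SU n F q)) :
    fieldU n q τ (QuotientGroup.mk s) = QuotientGroup.mk (fieldSU τ s) := rfl

theorem isFieldAutU_iff (τ : F ≃+* F) (φ : MulAut (Cfsg.PSU n F q)) :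
    Cfsg.IsFieldAutPSUOf τ φ ↔ φ = fieldU n q τ := by
  constructor
  · intro h
    apply MulEquiv.ext
    intro x
    induction x using QuotientGroup.induction_on with
    | H s =>
      rw [fieldU_mk]
      exact h s (fieldSU τ s) rfl
  · rintro rfl
    intro s s' hs
    rw [fieldU_mk]
    congr 1
    apply Subtype.ext
    apply Subtype.ext
    rw [fieldSU_val, hs]

theorem fieldU_mul (τ₁ τ₂ : F ≃+* F) :
    fieldU n q (τ₂.trans τ₁) = (fieldU n q τ₁ * fieldU n q τ₂ : MulAut (Cfsg.PSU n F q)) := by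
  apply MulEquiv.ext
  intro x
  induction x using QuotientGroup.induction_on with
  | H s =>
    rw [MulAut.mul_apply, fieldU_mk, fieldU_mk, fieldU_mk]
    congr 1

theorem fieldU_refl : fieldU n q (RingEquiv.refl F) = (1 : MulAut (Cfsg.PSU n F q)) := by
  apply MulEquiv.ext
  intro x
  induction x using QuotientGroup.induction_on with
  | H s =>
    rw [MulAut.one_apply, fieldU_mk]
    congr 1

/-- entrywise field automorphism on `GL_n`. -/
noncomputable def mapGL (n : ℕ) (τ : F ≃+* F) : GL (Fin n) F →* GL (Fin n) F :=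
  Matrix.GeneralLinearGroup.map (τ : F →+* F)

theorem mapGL_val (τ : F ≃+* F) (X : GL (Fin n) F) :
    ((mapGL n τ X : GL (Fin n) F) : Matrix (Fin n) (Fin n) F) = (X : Matrix (Fin n) (Fin n) F).map ⇑τ := rfl

theorem mapGL_inv_val (τ : F ≃+* F) (X : GL (Fin n) F) :
    (((mapGL n τ X)⁻¹ : GL (Fin n) F) : Matrix (Fin n) (Fin n) F) =
      ((X⁻¹ : GL (Fin n) F) : Matrix (Fin n) (Fin n) F).map ⇑τ := by
  rw [← map_inv, mapGL_val]

theorem mapGL_mem_simU (τ : F ≃+* F) (X : GL (Fin n) F) (hX : X ∈ simU n F q) : mapGL n τ X ∈ simU n F q := by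
  obtain ⟨c, hc⟩ := hX
  refine ⟨Units.map (τ : F →* F) c, fun u v => ?_⟩
  rw [mapGL_val, herm_map_mulVec, hc, map_mul, ← herm_comp]
  congr 1
  congr 1 <;> funext i <;> simp

theorem field_conj (τ : F ≃+* F) (X : ↥(simU n F q)) :
    fieldU n q τ * PhiU n F q X = PhiU n F q ⟨mapGL n τ X.1, mapGL_mem_simU τ X.1 X.2⟩ * fieldU n q τ := by
  apply MulEquiv.ext
  intro x
  induction x using QuotientGroup.induction_on with
  | H s =>
    rw [MulAut.mul_apply, MulAut.mul_apply, PhiU_mk, fieldU_mk, fieldU_mk, PhiU_mk]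
    congr 1
    apply Subtype.ext
    apply Subtype.ext
    rw [fieldSU_val, conjSU_val, conjSL_val, conjSU_val, conjSL_val, Matrix.map_mul, Matrix.map_mul]
    show _ = ((mapGL n τ X.1 : GL (Fin n) F) : Matrix (Fin n) (Fin n) F) * _ *
      (((mapGL n τ X.1)⁻¹ : GL (Fin n) F) : Matrix (Fin n) (Fin n) F)
    rw [mapGL_inv_val, mapGL_val]
    rfl

end

end Cfsg.Agent.Lib.Helper16.PU
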