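import Mathlib
import Cfsg.Prelude.Def_LieTypeDatum
import Cfsg.Agent.Lib.Helper16.AP9
import Cfsg.Agent.Lib.Helper16.PU6
import Cfsg.Agent.Lib.Lead.SLn

set_option autoImplicit false
set_option linter.unusedSectionVars false
set_option linter.unusedVariables false

namespace Cfsg.Agent.Lib.Helper16.AP

open Matrix Cfsg.Agent.Lib.Helper16.PG
open scoped commutatorElement

universe u

section
variable {n : ℕ} {F : Type u} [Field F]

theorem tM_single_eq (i j : Fin n) (t : F) :
    tM (Pi.single i 1) (Pi.single j 1) t = 1 + Matrix.single i j t := by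
  ext k l
  rw [tM_single_apply, Matrix.add_apply, Matrix.one_apply, Matrix.single_apply]
  congr 1
  by_cases h : i = k ∧ j = l
  · rw [if_pos h, if_pos ⟨h.1.symm, h.2.symm⟩]
  · rw [if_neg h, if_neg (fun h' => h ⟨h'.1.symm, h'.2.symm⟩)]

theorem Xs_eq_transvection (i j : Fin n) (hij : i ≠ j) (t : F) :
    Xs i j hij t = Matrix.SpecialLinearGroup.transvection hij t := by
  apply Subtype.ext
  rw [Xs_val, tM_single_eq]
  rfl

theorem X_inj (i j : Fin n) (hij : i ≠ j) (t t' : F) (h : X i j hij t = X i j hij t') : t = t' := by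
  unfold X at h
  obtain ⟨r, -, hr⟩ := mk_eq_imp _ _ h
  rw [Xs_val, Xs_val] at hr
  have h1 := congrFun (congrFun hr i) i
  have h2 := congrFun (congrFun hr i) j
  rw [Matrix.smul_apply, tM_single_apply, tM_single_apply, if_pos rfl, if_neg (fun h => hij h.2), add_zero,
    if_neg (fun h => hij h.2), add_zero, smul_eq_mul, mul_one] at h1
  rw [Matrix.smul_apply, tM_single_apply, tM_single_apply, if_neg hij, if_pos ⟨rfl, rfl⟩, zero_add,
    if_pos ⟨rfl, rfl⟩, zero_add, h1, smul_eq_mul, one_mul] at h2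
  exact h2

theorem Xs_add (i j : Fin n) (hij : i ≠ j) (s t : F) : Xs i j hij s * Xs i j hij t = Xs i j hij (s + t) :=
  tS_add _ _ _ _ _

theorem Xs_zero (i j : Fin n) (hij : i ≠ j) : Xs (F := F) i j hij 0 = 1 := tS_zero _ _ _

theorem X_add (i j : Fin n) (hij : i ≠ j) (s t : F) : X i j hij (s + t) = X i j hij s * X i j hij t := by
  unfold X
  rw [← QuotientGroup.mk_mul, Xs_add]

theorem X_zero (i j : Fin n) (hij : i ≠ j) : X (F := F) i j hij 0 = 1 := by
  unfold X
  rw [Xs_zero]
  rfl

theorem X_comm (i j k : Fin n) (hij : i ≠ j) (hjk : j ≠ k) (hik : i ≠ k) (a b : F) :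
    X i k hik (a * b) = ⁅X i j hij a, X j k hjk b⁆ := by
  unfold X
  rw [Xs_eq_transvection, Xs_eq_transvection, Xs_eq_transvection,
    Cfsg.Agent.Lib.Lead.transvection_eq_commutator hik hij hjk a b]
  rfl

/-- two automorphisms agreeing on the elementary transvections are equal. -/
theorem aut_ext_X (hn : 2 ≤ n) (α β : MulAut (ProjectiveSpecialLinearGroup (Fin n) F))
    (h : ∀ (i j : Fin n) (hij : i ≠ j) (t : F), α (X i j hij t) = β (X i j hij t)) : α = β := by
  have : Nontrivial (Fin n) := Fin.nontrivial_iff_two_le.mpr hn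
  apply MulEquiv.ext
  intro x
  induction x using QuotientGroup.induction_on with
  | H s =>
    set f : SpecialLinearGroup (Fin n) F →* ProjectiveSpecialLinearGroup (Fin n) F :=
      α.toMonoidHom.comp (QuotientGroup.mk' _) with hf
    set g : SpecialLinearGroup (Fin n) F →* ProjectiveSpecialLinearGroup (Fin n) F :=
      β.toMonoidHom.comp (QuotientGroup.mk' _) with hg
    have h1 : Subgroup.closure {A : SpecialLinearGroup (Fin n) F |
        ∃ (i j : Fin n) (h : i ≠ j) (c : F), A = SpecialLinearGroup.transvection h c} ≤ f.eqLocus g := by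
      rw [Subgroup.closure_le]
      rintro _ ⟨i, j, hij, c, rfl⟩
      show α (QuotientGroup.mk _) = β (QuotientGroup.mk _)
      have := h i j hij c
      unfold X at this
      rw [Xs_eq_transvection] at this
      exact this
    rw [Cfsg.Agent.Lib.Lead.SL_closure_transvections] at h1
    exact h1 (Subgroup.mem_top s)

/-- the field automorphism of `PSL_n` attached to `τ`. -/
noncomputable def fieldL (n : ℕ) (τ : F ≃+* F) : MulAut (ProjectiveSpecialLinearGroup (Fin n) F) :=
  autQuot _ (Cfsg.Agent.Lib.Helper16.PU.mapSLEquiv τ)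

theorem fieldL_mk (τ : F ≃+* F) (s : SpecialLinearGroup (Fin n) F) :
    fieldL n τ (QuotientGroup.mk s) = QuotientGroup.mk (Cfsg.Agent.Lib.Helper16.PU.mapSLEquiv τ s) := rfl

theorem fieldL_X (τ : F ≃+* F) (i j : Fin n) (hij : i ≠ j) (t : F) :
    fieldL n τ (X i j hij t) = X i j hij (τ t) := by
  unfold X
  rw [fieldL_mk]
  congr 1
  apply Subtype.ext
  rw [Cfsg.Agent.Lib.Helper16.PU.mapSLEquiv_val, Xs_val, Xs_val]
  ext k l
  rw [Matrix.map_apply, tM_single_apply, tM_single_apply, map_add]
  congr 1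
  · split_ifs <;> simp
  · split_ifs <;> simp

theorem isStdField_iff (τ : F ≃+* F) (φ : MulAut (ProjectiveSpecialLinearGroup (Fin n) F)) :
    Cfsg.IsStdFieldAutPSL τ φ ↔ φ = fieldL n τ := by
  constructor
  · intro h
    apply MulEquiv.ext
    intro x
    induction x using QuotientGroup.induction_on with
    | H s =>
      rw [fieldL_mk]
      exact h s _ (Cfsg.Agent.Lib.Helper16.PU.mapSLEquiv_val τ s)
  · rintro rfl s s' hs
    rw [fieldL_mk]
    congr 1
    apply Subtype.ext
    rw [Cfsg.Agent.Lib.Helper16.PU.mapSLEquiv_val, hs]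

/-- the parameter map induced on a root subgroup. -/
noncomputable def lam (α : MulAut (ProjectiveSpecialLinearGroup (Fin n) F)) (hα : FixStd α) (i j : Fin n)
    (hij : i ≠ j) (t : F) : F :=
  Classical.choose ((mem_T_std_iff i j hij (α (X i j hij t))).mp (by
    rw [← hα i j hij]
    exact Subgroup.mem_map_of_mem _ (X_mem i j hij t)))

theorem lam_spec (α : MulAut (ProjectiveSpecialLinearGroup (Fin n) F)) (hα : FixStd α) (i j : Fin n)
    (hij : i ≠ j) (t : F) : α (X i j hij t) = X i j hij (lam α hα i j hij t) :=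
  Classical.choose_spec ((mem_T_std_iff i j hij (α (X i j hij t))).mp (by
    rw [← hα i j hij]
    exact Subgroup.mem_map_of_mem _ (X_mem i j hij t)))

theorem lam_add (α : MulAut (ProjectiveSpecialLinearGroup (Fin n) F)) (hα : FixStd α) (i j : Fin n)
    (hij : i ≠ j) (s t : F) : lam α hα i j hij (s + t) = lam α hα i j hij s + lam α hα i j hij t := by
  apply X_inj i j hij
  rw [← lam_spec, X_add, map_mul, lam_spec α hα, lam_spec α hα, ← X_add]

theorem lam_inj (α : MulAut (ProjectiveSpecialLinearGroup (Fin n) F)) (hα : FixStd α) (i j : Fin n)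
    (hij : i ≠ j) (s t : F) (h : lam α hα i j hij s = lam α hα i j hij t) : s = t := by
  apply X_inj i j hij
  apply α.injective
  rw [lam_spec α hα, lam_spec α hα, h]

theorem lam_zero (α : MulAut (ProjectiveSpecialLinearGroup (Fin n) F)) (hα : FixStd α) (i j : Fin n)
    (hij : i ≠ j) : lam α hα i j hij 0 = 0 := by
  apply X_inj i j hij
  rw [← lam_spec, X_zero, map_one]

theorem lam_surj (α : MulAut (ProjectiveSpecialLinearGroup (Fin n) F)) (hα : FixStd α) (i j : Fin n)
    (hij : i ≠ j) (u : F) : ∃ t : F, lam α hα i j hij t = u := by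
  have h1 : X i j hij u ∈ (T (stdF i j hij)).map α.toMonoidHom := by
    rw [hα i j hij]
    exact X_mem i j hij u
  obtain ⟨y, hy, hyu⟩ := h1
  obtain ⟨t, rfl⟩ := (mem_T_std_iff i j hij y).mp hy
  refine ⟨t, ?_⟩
  apply X_inj i j hij
  rw [← lam_spec]
  exact hyu

theorem lam_mul (α : MulAut (ProjectiveSpecialLinearGroup (Fin n) F)) (hα : FixStd α) (i j k : Fin n)
    (hij : i ≠ j) (hjk : j ≠ k) (hik : i ≠ k) (a b : F) :
    lam α hα i k hik (a * b) = lam α hα i j hij a * lam α hα j k hjk b := by
  apply X_inj i k hik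
  rw [← lam_spec, X_comm i j k hij hjk hik, map_commutatorElement, lam_spec α hα, lam_spec α hα, ← X_comm]

theorem lam_one_ne (α : MulAut (ProjectiveSpecialLinearGroup (Fin n) F)) (hα : FixStd α) (i j : Fin n)
    (hij : i ≠ j) : lam α hα i j hij 1 ≠ 0 := by
  intro h
  rw [← lam_zero α hα i j hij] at h
  exact one_ne_zero (lam_inj α hα i j hij _ _ h)

end

end Cfsg.Agent.Lib.Helper16.AP
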