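import Mathlib
import Cfsg.Prelude.Def_LieTypeDatum
import Cfsg.Agent.Lib.Helper16.AP10

set_option autoImplicit false
set_option linter.unusedSectionVars false
set_option linter.unusedVariables false

namespace Cfsg.Agent.Lib.Helper16.AP

open Matrix Cfsg.Agent.Lib.Helper16.PG
open scoped commutatorElement

universe u

section
variable {n : ℕ} {F : Type u} [Field F]

/-- total version of `lam`. -/
noncomputable def lamT (α : MulAut (ProjectiveSpecialLinearGroup (Fin n) F)) (hα : FixStd α) (i j : Fin n) : F → F :=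
  if hij : i ≠ j then lam α hα i j hij else fun _ => 0

theorem lamT_eq (α : MulAut (ProjectiveSpecialLinearGroup (Fin n) F)) (hα : FixStd α) (i j : Fin n) (hij : i ≠ j) :
    lamT α hα i j = lam α hα i j hij := by
  unfold lamT
  rw [dif_pos hij]

/-- B2: a normalised automorphism fixing the standard root subgroups is a field automorphism. -/
theorem eq_fieldL_of_normalised (hn : 3 ≤ n) (α : MulAut (ProjectiveSpecialLinearGroup (Fin n) F)) (hα : FixStd α)
    (h1 : ∀ (i j : Fin n) (hij : i ≠ j), α (X i j hij 1) = X i j hij 1) :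
    ∃ τ : F ≃+* F, α = fieldL n τ := by
  have hone : ∀ (i j : Fin n) (hij : i ≠ j), lam α hα i j hij 1 = 1 := by
    intro i j hij
    apply X_inj i j hij
    rw [← lam_spec, h1]
  have hrow : ∀ i j k : Fin n, i ≠ j → i ≠ k → j ≠ k → lamT α hα i j = lamT α hα i k := by
    intro i j k hij hik hjk
    rw [lamT_eq α hα i j hij, lamT_eq α hα i k hik]
    funext a
    have := lam_mul α hα i j k hij hjk hik a 1
    rw [mul_one, hone, mul_one] at this
    exact this.symm
  have hcol : ∀ i j k : Fin n, i ≠ k → j ≠ k → i ≠ j → lamT α hα i k = lamT α hα j k := by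
    intro i j k hik hjk hij
    rw [lamT_eq α hα i k hik, lamT_eq α hα j k hjk]
    funext b
    have := lam_mul α hα i j k hij hjk hik 1 b
    rw [one_mul, hone, one_mul] at this
    exact this
  have hconst := frame_const hn (lamT α hα) hrow hcol
  have i₀ : Fin n := ⟨0, by omega⟩
  obtain ⟨i₁, hi₁, -⟩ := exists_third hn i₀ i₀
  set τf : F → F := lam α hα i₀ i₁ (Ne.symm hi₁) with hτf
  have hall : ∀ (i j : Fin n) (hij : i ≠ j), lam α hα i j hij = τf := by
    intro i j hij
    rw [hτf, ← lamT_eq, ← lamT_eq]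
    exact hconst i j i₀ i₁ hij (Ne.symm hi₁)
  have hmul : ∀ a b : F, τf (a * b) = τf a * τf b := by
    intro a b
    obtain ⟨k, hk0, hk1⟩ := exists_third hn i₀ i₁
    have := lam_mul α hα i₀ i₁ k (Ne.symm hi₁) (Ne.symm hk1) (Ne.symm hk0) a b
    rw [hall, hall, hall] at this
    exact this
  have hadd : ∀ a b : F, τf (a + b) = τf a + τf b := fun a b => lam_add α hα _ _ _ a b
  have hbij : Function.Bijective τf :=
    ⟨fun a b h => lam_inj α hα _ _ _ a b h, fun u => lam_surj α hα _ _ _ u⟩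
  let τh : F →+* F :=
    { toFun := τf
      map_one' := hone _ _ _
      map_mul' := hmul
      map_zero' := lam_zero α hα _ _ _
      map_add' := hadd }
  refine ⟨RingEquiv.ofBijective τh hbij, ?_⟩
  apply aut_ext_X (by omega : 2 ≤ n)
  intro i j hij t
  rw [lam_spec α hα, fieldL_X, hall]
  rfl

theorem Phi_X (g : GL (Fin n) F) (hvec : Fin n → F)
    (hg1 : ∀ i : Fin n, (g : Matrix (Fin n) (Fin n) F) *ᵥ Pi.single i 1 = hvec i • Pi.single i 1)
    (hg2 : ∀ j : Fin n, Pi.single j 1 ᵥ* ((g⁻¹ : GL (Fin n) F) : Matrix (Fin n) (Fin n) F) =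
      (hvec j)⁻¹ • Pi.single j 1) (i j : Fin n) (hij : i ≠ j) (t : F) :
    Phi n F g (X i j hij t) = X i j hij (hvec i * (hvec j)⁻¹ * t) := by
  have e : X i j hij t =
      QuotientGroup.mk (tS (stdF (F := F) i j hij).v (stdF (F := F) i j hij).φ (stdF (F := F) i j hij).h t) := rfl
  rw [e, Phi_tS]
  unfold X
  congr 1
  apply Subtype.ext
  rw [tS_val, Xs_val]
  show tM ((g : Matrix (Fin n) (Fin n) F) *ᵥ Pi.single i 1)
    (Pi.single j 1 ᵥ* ((g⁻¹ : GL (Fin n) F) : Matrix (Fin n) (Fin n) F)) t = _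
  rw [hg1, hg2, tM_smul_smul]

/-- a diagonal matrix acts on the elementary transvections by scaling the parameter. -/
theorem exists_diag (hvec : Fin n → F) (hne : ∀ i, hvec i ≠ 0) :
    ∃ g : GL (Fin n) F, ∀ (i j : Fin n) (hij : i ≠ j) (t : F),
      Phi n F g (X i j hij t) = X i j hij (hvec i * (hvec j)⁻¹ * t) := by
  have hdot : ∀ j : Fin n, (Pi.single j (1 : F)) ⬝ᵥ (hvec j • Pi.single j 1) = hvec j := by
    intro j
    rw [dotProduct_smul, single_dot_single, if_pos rfl, smul_eq_mul, mul_one]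
  obtain ⟨g, hg1, hg2⟩ := exists_gl_frame (fun i => hvec i • Pi.single i (1 : F)) (fun j => Pi.single j (1 : F))
    (by
      intro i j hij
      show (Pi.single j (1 : F)) ⬝ᵥ (hvec i • Pi.single i 1) = 0
      rw [dotProduct_smul, single_dot_single, if_neg (Ne.symm hij), smul_zero])
    (by
      intro j
      show (Pi.single j (1 : F)) ⬝ᵥ (hvec j • Pi.single j 1) ≠ 0
      rw [hdot]
      exact hne j)
  refine ⟨g, Phi_X g hvec hg1 ?_⟩
  intro j
  rw [hg2 j]
  show ((Pi.single j (1 : F)) ⬝ᵥ (hvec j • Pi.single j 1))⁻¹ • _ = _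
  rw [hdot]

theorem fixStd_of_X (α : MulAut (ProjectiveSpecialLinearGroup (Fin n) F)) (c : Fin n → Fin n → F)
    (hc : ∀ (i j : Fin n), i ≠ j → c i j ≠ 0)
    (h : ∀ (i j : Fin n) (hij : i ≠ j) (t : F), α (X i j hij t) = X i j hij (c i j * t)) : FixStd α := by
  intro i j hij
  ext x
  rw [Subgroup.mem_map, mem_T_std_iff]
  constructor
  · rintro ⟨y, hy, rfl⟩
    obtain ⟨t, rfl⟩ := (mem_T_std_iff i j hij y).mp hy
    exact ⟨_, h i j hij t⟩
  · rintro ⟨t, rfl⟩
    refine ⟨X i j hij ((c i j)⁻¹ * t), X_mem i j hij _, ?_⟩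
    show α _ = _
    rw [h, ← mul_assoc, mul_inv_cancel₀ (hc i j hij), one_mul]

theorem fixStd_mul (α β : MulAut (ProjectiveSpecialLinearGroup (Fin n) F)) (hα : FixStd α) (hβ : FixStd β) :
    FixStd (α * β) := by
  intro i j hij
  have : (α * β).toMonoidHom = α.toMonoidHom.comp β.toMonoidHom := rfl
  rw [this, ← Subgroup.map_map, hβ, hα]

theorem fixStd_inv (α : MulAut (ProjectiveSpecialLinearGroup (Fin n) F)) (hα : FixStd α) : FixStd α⁻¹ := by
  intro i j hij
  conv_lhs => rw [← hα i j hij]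
  exact map_map_inv α _

/-- B1: diagonal normalisation. -/
theorem exists_diag_normalise (hn : 3 ≤ n) (α : MulAut (ProjectiveSpecialLinearGroup (Fin n) F)) (hα : FixStd α) :
    ∃ g : GL (Fin n) F, FixStd ((Phi n F g)⁻¹ * α) ∧
      ∀ (i j : Fin n) (hij : i ≠ j), ((Phi n F g)⁻¹ * α) (X i j hij 1) = X i j hij 1 := by
  have f₀ : Fin n := ⟨0, by omega⟩
  -- the constants
  set c : Fin n → Fin n → F := fun i j => lamT α hα i j 1 with hc
  have hcne : ∀ i j : Fin n, i ≠ j → c i j ≠ 0 := by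
    intro i j hij
    show lamT α hα i j 1 ≠ 0
    rw [lamT_eq α hα i j hij]
    exact lam_one_ne α hα i j hij
  have hcmul : ∀ i j k : Fin n, i ≠ j → j ≠ k → i ≠ k → c i k = c i j * c j k := by
    intro i j k hij hjk hik
    show lamT α hα i k 1 = lamT α hα i j 1 * lamT α hα j k 1
    rw [lamT_eq α hα i j hij, lamT_eq α hα i k hik, lamT_eq α hα j k hjk]
    have := lam_mul α hα i j k hij hjk hik 1 1
    rwa [mul_one] at this
  have hcinv : ∀ i j : Fin n, i ≠ j → c i j * c j i = 1 := by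
    intro i j hij
    obtain ⟨k, hki, hkj⟩ := exists_third hn i j
    have e1 := hcmul i j k hij (Ne.symm hkj) (Ne.symm hki)
    have e2 := hcmul j i k (Ne.symm hij) (Ne.symm hki) (Ne.symm hkj)
    have e3 : (c i j * c j i - 1) * c i k = 0 := by
      rw [sub_mul, one_mul, mul_assoc, ← e2, ← e1, sub_self]
    rcases mul_eq_zero.mp e3 with h | h
    · exact sub_eq_zero.mp h
    · exact absurd h (hcne i k (Ne.symm hki))
  set hvec : Fin n → F := fun i => if i = f₀ then 1 else c i f₀ with hhvec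
  have hvne : ∀ i, hvec i ≠ 0 := by
    intro i
    show (if i = f₀ then 1 else c i f₀) ≠ 0
    by_cases hi : i = f₀
    · rw [if_pos hi]; exact one_ne_zero
    · rw [if_neg hi]; exact hcne i f₀ hi
  have hch : ∀ i j : Fin n, i ≠ j → c i j * hvec j = hvec i := by
    intro i j hij
    show c i j * (if j = f₀ then 1 else c j f₀) = if i = f₀ then 1 else c i f₀
    by_cases hj : j = f₀
    · have hi : i ≠ f₀ := fun h => hij (h.trans hj.symm)
      rw [if_pos hj, if_neg hi, mul_one, hj]
    · rw [if_neg hj]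
      by_cases hi : i = f₀
      · rw [if_pos hi, hi]
        exact hcinv f₀ j (Ne.symm hj)
      · rw [if_neg hi]
        exact (hcmul i j f₀ hij hj hi).symm
  obtain ⟨g, hg⟩ := exists_diag hvec hvne
  have hginv : ∀ (i j : Fin n) (hij : i ≠ j) (t : F),
      (Phi n F g)⁻¹ (X i j hij t) = X i j hij (hvec j * (hvec i)⁻¹ * t) := by
    intro i j hij t
    rw [MulAut.inv_apply, MulEquiv.symm_apply_eq, hg]
    congr 1
    field_simp [hvne i, hvne j]
  have hfix : FixStd (Phi n F g) :=
    fixStd_of_X _ (fun i j => hvec i * (hvec j)⁻¹) (fun i j _ => mul_ne_zero (hvne i) (inv_ne_zero (hvne j))) hg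
  refine ⟨g, fixStd_mul _ _ (fixStd_inv _ hfix) hα, ?_⟩
  intro i j hij
  rw [MulAut.mul_apply, lam_spec α hα, hginv]
  congr 1
  have h1 : lam α hα i j hij 1 = c i j := by
    show _ = lamT α hα i j 1
    rw [lamT_eq α hα i j hij]
  rw [h1, ← hch i j hij]
  field_simp [hvne i, hvne j, hcne i j hij]

end

end Cfsg.Agent.Lib.Helper16.AP
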