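import Mathlib
import Cfsg.Prelude.Def_LieTypeDatum
import Cfsg.Agent.Lib.Helper16.AP11

set_option autoImplicit false
set_option linter.unusedSectionVars false
set_option linter.unusedVariables false

namespace Cfsg.Agent.Lib.Helper16.AP

open Matrix Cfsg.Agent.Lib.Helper16.PG

universe u

section
variable {n : ℕ} {F : Type u} [Field F] [Fintype F]

/-- the structure of `Aut(PSL_n(q))` for `n ≥ 3`. -/
theorem aut_PSL_ge3 (hn : 3 ≤ n) (β : MulAut (ProjectiveSpecialLinearGroup (Fin n) F)) :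
    ∃ (g : GL (Fin n) F) (τ : F ≃+* F) (ε : MulAut (ProjectiveSpecialLinearGroup (Fin n) F)),
      (ε = 1 ∨ ε = iota n F) ∧ β = Phi n F g * fieldL n τ * ε := by
  have hβ : PermT β := fun fl => aut_T hn β fl
  have hβ' : PermT β⁻¹ := fun fl => aut_T hn β⁻¹ fl
  obtain ⟨ε, a, b, hε, hfr⟩ := exists_frameImg hn β hβ hβ'
  obtain ⟨g₁, h1⟩ := fixStd_of_frameImg hn (β * ε) a b hfr
  obtain ⟨g₂, h2, h3⟩ := exists_diag_normalise hn _ h1
  obtain ⟨τ, h4⟩ := eq_fieldL_of_normalised hn _ h2 h3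
  refine ⟨g₁ * g₂, τ, ε, hε, ?_⟩
  have hεε : ε * ε = 1 := by
    rcases hε with rfl | rfl
    · exact one_mul 1
    · exact iota_sq
  rw [map_mul, ← h4]
  simp only [mul_assoc, mul_inv_cancel_left, hεε, mul_one]

end

end Cfsg.Agent.Lib.Helper16.AP
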