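import Mathlib
import Cfsg.Prelude.Def_LieTypeDatum
import Cfsg.Agent.Lib.Helper16.AP12

set_option autoImplicit false
set_option linter.unusedSectionVars false
set_option linter.unusedVariables false

namespace Cfsg.Agent.Lib.Helper16.AP

open Matrix Cfsg.Agent.Lib.Helper16.PG

universe u

section
variable {n : ℕ} {F : Type u} [Field F]

theorem tM_trace (v φ : Fin n → F) (h : φ ⬝ᵥ v = 0) (t : F) : (tM v φ t).trace = (n : F) := by
  unfold tM
  rw [Matrix.trace_add, Matrix.trace_one, Matrix.trace_smul, Matrix.trace_vecMulVec, dotProduct_comm, h, smul_zero,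
    add_zero, Fintype.card_fin]

theorem scalar_one_two (v φ v' φ' : Fin 2 → F) (s u r : F) (h : φ ⬝ᵥ v = 0) (h' : φ' ⬝ᵥ v' = 0) (hr2 : r ^ 2 = 1)
    (hr : r • tM v φ s = tM v' φ' u) : r = 1 := by
  have h1 := congrArg Matrix.trace hr
  rw [Matrix.trace_smul, tM_trace v φ h, tM_trace v' φ' h', smul_eq_mul] at h1
  have h2 : (r - 1) * ((2 : ℕ) : F) = 0 := by
    rw [sub_mul, one_mul, h1, sub_self]
  rcases mul_eq_zero.mp h2 with h3 | h3
  · exact sub_eq_zero.mp h3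
  · have h4 : (r - 1) ^ 2 = 0 := by
      have : (r - 1) ^ 2 = r ^ 2 + 1 - r * ((2 : ℕ) : F) := by push_cast; ring
      rw [this, hr2, h3, mul_zero, sub_zero]
      have : (1 : F) + 1 = ((2 : ℕ) : F) := by push_cast; ring
      rw [this, h3]
    exact sub_eq_zero.mp ((pow_eq_zero_iff (two_ne_zero)).mp h4)

theorem par_of_T_eq2 (fl fl' : Flag 2 F) (h : T fl = T fl') : par fl.v fl'.v ∧ par fl.φ fl'.φ := by
  have h1 : (QuotientGroup.mk (tS fl'.v fl'.φ fl'.h 1) : ProjectiveSpecialLinearGroup (Fin 2) F) ∈ T fl := by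
    rw [h]; exact mk_tS_mem fl' 1
  rw [mem_T_iff] at h1
  obtain ⟨t, ht⟩ := h1
  obtain ⟨r, hr2, hr⟩ := mk_eq_imp _ _ ht
  rw [tS_val, tS_val] at hr
  have hr1 := scalar_one_two _ _ _ _ _ _ r fl'.h fl.h hr2 hr
  rw [hr1, one_smul] at hr
  unfold tM at hr
  have h2 : Matrix.vecMulVec fl'.v fl'.φ = t • Matrix.vecMulVec fl.v fl.φ := by
    have := add_left_cancel hr
    rwa [one_smul] at this
  exact par_of_vmv_eq fl'.v fl'.φ fl.v fl.φ fl'.hv fl'.hφ t h2

/-- in dimension two, two non-zero vectors in the kernel of a non-zero form are parallel. -/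
theorem par_of_ker2 (φ v v' : Fin 2 → F) (hφ : φ ≠ 0) (hv : v ≠ 0) (hv' : v' ≠ 0) (h : φ ⬝ᵥ v = 0)
    (h' : φ ⬝ᵥ v' = 0) : par v v' := by
  rw [dotProduct, Fin.sum_univ_two] at h h'
  have hD : v 0 * v' 1 - v 1 * v' 0 = 0 := by
    by_contra hD
    apply hφ
    have e0 : φ 0 * (v 0 * v' 1 - v 1 * v' 0) = 0 := by linear_combination v' 1 * h - v 1 * h'
    have e1 : φ 1 * (v 0 * v' 1 - v 1 * v' 0) = 0 := by linear_combination v 0 * h' - v' 0 * h
    funext i
    fin_cases i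
    · exact (mul_eq_zero.mp e0).resolve_right hD
    · exact (mul_eq_zero.mp e1).resolve_right hD
  by_cases hv0 : v 0 = 0
  · have hv1 : v 1 ≠ 0 := by
      intro hv1
      apply hv
      funext i
      fin_cases i
      · exact hv0
      · exact hv1
    have hv'0 : v' 0 = 0 := by
      rw [hv0, zero_mul, zero_sub, neg_eq_zero] at hD
      exact (mul_eq_zero.mp hD).resolve_left hv1
    have hv'1 : v' 1 ≠ 0 := by
      intro hv'1
      apply hv'
      funext i
      fin_cases i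
      · exact hv'0
      · exact hv'1
    refine ⟨v' 1 / v 1, div_ne_zero hv'1 hv1, ?_⟩
    funext i
    fin_cases i
    · show v' 0 = v' 1 / v 1 * v 0
      rw [hv'0, hv0, mul_zero]
    · show v' 1 = v' 1 / v 1 * v 1
      field_simp
  · have hv'0 : v' 0 ≠ 0 := by
      intro hv'0
      apply hv'
      have : v' 1 = 0 := by
        rw [hv'0, mul_zero, sub_zero] at hD
        exact (mul_eq_zero.mp hD).resolve_left hv0
      funext i
      fin_cases i
      · exact hv'0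
      · exact this
    refine ⟨v' 0 / v 0, div_ne_zero hv'0 hv0, ?_⟩
    funext i
    fin_cases i
    · show v' 0 = v' 0 / v 0 * v 0
      field_simp
    · show v' 1 = v' 0 / v 0 * v 1
      field_simp
      linear_combination hD

theorem par_φ_of_par_v2 (fl fl' : Flag 2 F) (h : par fl.v fl'.v) : par fl.φ fl'.φ := by
  apply par_of_ker2 fl.v fl.φ fl'.φ fl.hv fl.hφ fl'.hφ
  · rw [dotProduct_comm]; exact fl.h
  · obtain ⟨c, hc, hcv⟩ := h
    have h1 := fl'.h
    rw [hcv, dotProduct_smul, smul_eq_mul] at h1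
    rw [dotProduct_comm]
    exact (mul_eq_zero.mp h1).resolve_left hc

end

section
variable {F : Type u} [Field F] [Fintype F]

theorem fst_two : fst (le_refl 2) = (0 : Fin 2) := rfl
theorem lst_two : lst (le_refl 2) = (1 : Fin 2) := rfl

theorem Ubar_eq_T2 : Ubar 2 F = T (std0 (F := F) (le_refl 2)) := by
  ext x
  rw [mem_Ubar_iff, mem_T_iff]
  constructor
  · rintro ⟨u, hu, rfl⟩
    refine ⟨(u : Matrix (Fin 2) (Fin 2) F) 0 1, ?_⟩
    congr 1
    apply Subtype.ext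
    rw [tS_val]
    show _ = tM (Pi.single (fst (le_refl 2)) 1) (Pi.single (lst (le_refl 2)) 1) _
    rw [fst_two, lst_two]
    ext i j
    rw [tM_single_apply]
    fin_cases i <;> fin_cases j
    · simpa using hu.2 0
    · simp
    · simpa using hu.1 1 0 (by decide)
    · simpa using hu.2 1
  · rintro ⟨t, rfl⟩
    exact ⟨_, isUT_tM_single _ _ (fst_lt_lst (le_refl 2)) t, rfl⟩

open scoped Pointwise

theorem aut_T_std2 (α : MulAut (ProjectiveSpecialLinearGroup (Fin 2) F)) :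
    ∃ fl' : Flag 2 F, (T (std0 (F := F) (le_refl 2))).map α.toMonoidHom = T fl' := by
  obtain ⟨p, _, f, hp, hF⟩ := FiniteField.card' F
  have : Fact p.Prime := ⟨hp⟩
  have hf : 1 ≤ (f : ℕ) := f.2
  have hP1 : IsPGroup p ↥(Ubar 2 F) := Ubar_isPGroup hp hF
  have hP2 : ¬ p ∣ (Ubar 2 F).index := Ubar_index_not_dvd hp hf hF (by omega)
  set S₀ : Sylow p (ProjectiveSpecialLinearGroup (Fin 2) F) := hP1.toSylow hP2 with hS₀
  obtain ⟨g, hg⟩ := MulAction.exists_smul_eq (ProjectiveSpecialLinearGroup (Fin 2) F) S₀ (α • S₀)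
  have h1 := congrArg (fun P : Sylow p (ProjectiveSpecialLinearGroup (Fin 2) F) => P.toSubgroup) hg
  simp only [Sylow.coe_subgroup_smul, Sylow.pointwise_smul_def] at h1
  have hS₀c : (S₀ : Subgroup (ProjectiveSpecialLinearGroup (Fin 2) F)) = Ubar 2 F := IsPGroup.toSylow_coe hP1 hP2
  rw [hS₀c] at h1
  induction g using QuotientGroup.induction_on with
  | H s =>
    rw [conj_mk_eq_Phi] at h1
    have h2 : (Ubar 2 F).map (Phi 2 F (Matrix.SpecialLinearGroup.toGL s)).toMonoidHom = (Ubar 2 F).map α.toMonoidHom := h1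
    refine ⟨gFlag (Matrix.SpecialLinearGroup.toGL s) (std0 (le_refl 2)), ?_⟩
    rw [← map_Phi_T, ← Ubar_eq_T2, h2]

theorem aut_T2 (α : MulAut (ProjectiveSpecialLinearGroup (Fin 2) F)) : PermT α := by
  intro fl
  obtain ⟨g₀, hg1, hg2⟩ := exists_gl_flag (le_refl 2) fl
  have h1 : T fl = (T (std0 (F := F) (le_refl 2))).map (Phi 2 F g₀).toMonoidHom := by
    rw [map_Phi_T]
    exact (T_eq_of_eq _ _ hg1 hg2).symm
  obtain ⟨fl', hfl'⟩ := aut_T_std2 (α * Phi 2 F g₀)
  refine ⟨fl', ?_⟩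
  rw [h1, Subgroup.map_map]
  exact hfl'

end

section
variable {n : ℕ} {F : Type u} [Field F]

theorem fixStd_of_frameImg' (α : MulAut (ProjectiveSpecialLinearGroup (Fin n) F))
    (a b : Fin n → (Fin n → F)) (h : FrameImg α a b) (hd : ∀ j, b j ⬝ᵥ a j ≠ 0) :
    ∃ g : GL (Fin n) F, FixStd ((Phi n F g)⁻¹ * α) := by
  obtain ⟨g, hg1, hg2⟩ := exists_gl_frame a b (fun i j hij => frameImg_dot_zero α a b h i j hij) hd
  refine ⟨g, ?_⟩
  intro i j hij
  obtain ⟨fl, h1, h2, h3⟩ := h i j hij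
  have h4 : (T (stdF i j hij)).map (Phi n F g).toMonoidHom = T fl := by
    rw [map_Phi_T]
    apply T_eq_of_par
    · show par ((g : Matrix (Fin n) (Fin n) F) *ᵥ Pi.single i 1) fl.v
      rw [hg1, h1]
      exact par_refl _
    · show par (Pi.single j 1 ᵥ* ((g⁻¹ : GL (Fin n) F) : Matrix (Fin n) (Fin n) F)) fl.φ
      rw [hg2, h2]
      apply par_symm
      exact ⟨_, inv_ne_zero (hd j), rfl⟩
  have : ((Phi n F g)⁻¹ * α).toMonoidHom = ((Phi n F g)⁻¹).toMonoidHom.comp α.toMonoidHom := rfl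
  rw [this, ← Subgroup.map_map, h3, ← h4, map_map_inv]

end

section
variable {F : Type u} [Field F]

/-- normalisation in dimension two. -/
theorem exists_fixStd2 (α : MulAut (ProjectiveSpecialLinearGroup (Fin 2) F)) (hα : PermT α) :
    ∃ g : GL (Fin 2) F, FixStd ((Phi 2 F g)⁻¹ * α) := by
  have h01 : (0 : Fin 2) ≠ 1 := by decide
  have h10 : (1 : Fin 2) ≠ 0 := by decide
  obtain ⟨fl₀, hfl₀⟩ := hα (stdF 0 1 h01)
  obtain ⟨fl₁, hfl₁⟩ := hα (stdF 1 0 h10)
  have hnp : ¬ par fl₀.v fl₁.v := by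
    intro hp
    have h1 := inj_map α _ _ _ _ hfl₀ hfl₁ hp (par_φ_of_par_v2 _ _ hp)
    have h2 := (par_of_T_eq2 _ _ h1).1
    exact h01 ((par_single_iff 0 1).mp h2)
  have hd0 : fl₁.φ ⬝ᵥ fl₀.v ≠ 0 := by
    intro h0
    exact hnp (par_of_ker2 fl₁.φ fl₀.v fl₁.v fl₁.hφ fl₀.hv fl₁.hv h0 fl₁.h)
  have hd1 : fl₀.φ ⬝ᵥ fl₁.v ≠ 0 := by
    intro h0
    exact hnp (par_of_ker2 fl₀.φ fl₀.v fl₁.v fl₀.hφ fl₀.hv fl₁.hv fl₀.h h0)
  apply fixStd_of_frameImg' α ![fl₀.v, fl₁.v] ![fl₁.φ, fl₀.φ]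
  · intro i j hij
    fin_cases i <;> fin_cases j
    · exact absurd rfl hij
    · exact ⟨fl₀, rfl, rfl, hfl₀⟩
    · exact ⟨fl₁, rfl, rfl, hfl₁⟩
    · exact absurd rfl hij
  · intro j
    fin_cases j
    · exact hd0
    · exact hd1

end

end Cfsg.Agent.Lib.Helper16.AP
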