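import Mathlib
import Cfsg.Prelude.Def_LieTypeDatum
import Cfsg.Agent.Lib.Helper16.AP13

set_option autoImplicit false
set_option linter.unusedSectionVars false
set_option linter.unusedVariables false

namespace Cfsg.Agent.Lib.Helper16.AP

open Matrix Cfsg.Agent.Lib.Helper16.PG

universe u

section
variable {F : Type u} [Field F]

theorem tM01 (t : F) : tM (Pi.single (0 : Fin 2) (1 : F)) (Pi.single 1 1) t = !![1, t; 0, 1] := by
  ext i j
  rw [tM_single_apply]
  fin_cases i <;> fin_cases j <;> simp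

theorem tM10 (t : F) : tM (Pi.single (1 : Fin 2) (1 : F)) (Pi.single 0 1) t = !![1, 0; t, 1] := by
  ext i j
  rw [tM_single_apply]
  fin_cases i <;> fin_cases j <;> simp

theorem w_rel (t s : F) (ht : t ≠ 0) :
    !![1, t; 0, 1] * !![1, 0; -t⁻¹, 1] * !![1, t; 0, 1] * !![1, s; 0, 1] =
      !![1, 0; -(s * (t⁻¹) ^ 2), 1] * (!![1, t; 0, 1] * !![1, 0; -t⁻¹, 1] * !![1, t; 0, 1]) := by
  simp only [Matrix.mul_fin_two]
  ext i j
  fin_cases i <;> fin_cases j <;> dsimp <;> field_simp <;> ring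

theorem key2 (r a u c d : F) (hc : c ≠ 0)
    (hr : r • (!![1, a; 0, 1] * !![1, 0; u, 1] * !![1, a; 0, 1] * !![1, c; 0, 1]) =
      !![1, 0; d, 1] * (!![1, a; 0, 1] * !![1, 0; u, 1] * !![1, a; 0, 1])) :
    1 + a * u = 0 ∧ u * c = d * a := by
  simp only [Matrix.mul_fin_two] at hr
  have h00 := congrFun (congrFun hr 0) 0
  have h01 := congrFun (congrFun hr 0) 1
  have h10 := congrFun (congrFun hr 1) 0
  have h11 := congrFun (congrFun hr 1) 1
  dsimp at h00 h01 h10 h11
  have he : 1 + a * u = 0 := by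
    by_contra he
    have hr1 : r = 1 := by
      have : (r - 1) * (1 + a * u) = 0 := by linear_combination h00
      rcases mul_eq_zero.mp this with h | h
      · exact sub_eq_zero.mp h
      · exact absurd h he
    rw [hr1] at h01
    have : c * (1 + a * u) = 0 := by linear_combination h01
    rcases mul_eq_zero.mp this with h | h
    · exact hc h
    · exact he h
  refine ⟨he, ?_⟩
  have hu : u ≠ 0 := by
    rintro rfl
    rw [mul_zero, add_zero] at he
    exact one_ne_zero he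
  have hr1 : r = 1 := by
    have : (r - 1) * u = 0 := by linear_combination h10 + d * he
    rcases mul_eq_zero.mp this with h | h
    · exact sub_eq_zero.mp h
    · exact absurd h hu
  rw [hr1] at h11
  linear_combination h11 + a * d * he

theorem h01' : (0 : Fin 2) ≠ 1 := by decide
theorem h10' : (1 : Fin 2) ≠ 0 := by decide

/-- the fundamental relation in `PSL_2`. -/
theorem X_w_rel (t s : F) (ht : t ≠ 0) :
    X 0 1 h01' t * X 1 0 h10' (-t⁻¹) * X 0 1 h01' t * X 0 1 h01' s =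
      X 1 0 h10' (-(s * (t⁻¹) ^ 2)) * (X 0 1 h01' t * X 1 0 h10' (-t⁻¹) * X 0 1 h01' t) := by
  unfold X
  simp only [← QuotientGroup.mk_mul]
  congr 1
  apply Subtype.ext
  simp only [Matrix.SpecialLinearGroup.coe_mul, Xs_val, tM01, tM10]
  exact w_rel t s ht

theorem lam_neg {n : ℕ} (α : MulAut (ProjectiveSpecialLinearGroup (Fin n) F)) (hα : FixStd α) (i j : Fin n)
    (hij : i ≠ j) (t : F) : lam α hα i j hij (-t) = - lam α hα i j hij t := by
  have h := lam_add α hα i j hij t (-t)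
  rw [add_neg_cancel, lam_zero] at h
  exact eq_neg_of_add_eq_zero_right h.symm

theorem lam_ne_zero {n : ℕ} (α : MulAut (ProjectiveSpecialLinearGroup (Fin n) F)) (hα : FixStd α) (i j : Fin n)
    (hij : i ≠ j) (t : F) (ht : t ≠ 0) : lam α hα i j hij t ≠ 0 := by
  intro h
  rw [← lam_zero α hα i j hij] at h
  exact ht (lam_inj α hα i j hij _ _ h)

theorem rel2 (α : MulAut (ProjectiveSpecialLinearGroup (Fin 2) F)) (hα : FixStd α) (t s : F) (ht : t ≠ 0)
    (hs : s ≠ 0) :
    1 + lam α hα 0 1 h01' t * lam α hα 1 0 h10' (-t⁻¹) = 0 ∧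
      lam α hα 1 0 h10' (-t⁻¹) * lam α hα 0 1 h01' s =
        lam α hα 1 0 h10' (-(s * (t⁻¹) ^ 2)) * lam α hα 0 1 h01' t := by
  have h := congrArg α (X_w_rel t s ht)
  simp only [map_mul, lam_spec α hα] at h
  unfold X at h
  simp only [← QuotientGroup.mk_mul] at h
  obtain ⟨r, -, hr⟩ := mk_eq_imp _ _ h
  simp only [Matrix.SpecialLinearGroup.coe_mul, Xs_val, tM01, tM10] at hr
  exact key2 r _ _ _ _ (lam_ne_zero α hα 0 1 h01' s hs) hr

end

section
variable {F : Type u} [Field F] [Fintype F]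

theorem mult_of_rel (lm mu : F → F) (hadd : ∀ a b : F, lm (a + b) = lm a + lm b)
    (hadd' : ∀ a b : F, mu (a + b) = mu a + mu b) (hne : ∀ t : F, t ≠ 0 → lm t ≠ 0)
    (hlm0 : lm 0 = 0) (hmu0 : mu 0 = 0) (hone : lm 1 = 1)
    (hrel : ∀ t s : F, t ≠ 0 → s ≠ 0 → 1 + lm t * mu (-t⁻¹) = 0 ∧
      mu (-t⁻¹) * lm s = mu (-(s * (t⁻¹) ^ 2)) * lm t) :
    (∀ s : F, mu s = lm s) ∧ ∀ a b : F, lm (a * b) = lm a * lm b := by
  have hmuneg : ∀ s : F, mu (-s) = - mu s := by
    intro s
    have h := hadd' s (-s)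
    rw [add_neg_cancel, hmu0] at h
    exact eq_neg_of_add_eq_zero_right h.symm
  have hmu_eq : ∀ s : F, mu s = lm s := by
    intro s
    by_cases hs : s = 0
    · rw [hs, hlm0, hmu0]
    · obtain ⟨e1, e2⟩ := hrel 1 s one_ne_zero hs
      rw [inv_one, hone] at e1
      rw [inv_one, one_pow, mul_one, hone] at e2
      have e3 : mu (-1) = -1 := by linear_combination e1
      rw [e3, mul_one, hmuneg] at e2
      linear_combination e2
  refine ⟨hmu_eq, ?_⟩
  have hinv : ∀ t : F, t ≠ 0 → lm t * lm t⁻¹ = 1 := by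
    intro t ht
    obtain ⟨e1, -⟩ := hrel t 1 ht one_ne_zero
    rw [hmuneg, hmu_eq] at e1
    linear_combination -e1
  have hsq : ∀ t s : F, lm (t ^ 2 * s) = lm t ^ 2 * lm s := by
    intro t s
    by_cases ht : t = 0
    · rw [ht, hlm0]; simp [hlm0]
    by_cases hs : s = 0
    · rw [hs, mul_zero, hlm0, mul_zero]
    have hts : t ^ 2 * s ≠ 0 := mul_ne_zero (pow_ne_zero 2 ht) hs
    obtain ⟨-, e2⟩ := hrel t (t ^ 2 * s) ht hts
    have e3 : t ^ 2 * s * t⁻¹ ^ 2 = s := by field_simp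
    rw [e3, hmuneg, hmuneg, hmu_eq, hmu_eq] at e2
    have e5 := hinv t ht
    have hlt : lm t ≠ 0 := hne t ht
    have e6 : lm t⁻¹ = (lm t)⁻¹ := eq_inv_of_mul_eq_one_right e5
    rw [e6] at e2
    field_simp at e2
    linear_combination -e2
  have hsq1 : ∀ t : F, lm (t ^ 2) = lm t ^ 2 := by
    intro t
    have := hsq t 1
    rwa [mul_one, hone, mul_one] at this
  intro a b
  by_cases h2 : (2 : F) = 0
  · have hch : ringChar F = 2 := by
      apply CharP.ringChar_of_prime_eq_zero Nat.prime_two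
      exact_mod_cast h2
    obtain ⟨r, hr⟩ := FiniteField.isSquare_of_char_two hch a
    have hr' : a = r ^ 2 := by rw [hr, sq]
    rw [hr', hsq, hsq1]
  · have e1 := hsq1 (a + b)
    have e2 : (a + b) ^ 2 = a ^ 2 + (a * b + a * b) + b ^ 2 := by ring
    rw [e2, hadd, hadd, hadd, hadd, hsq1, hsq1] at e1
    have e3 : (2 : F) * (lm (a * b) - lm a * lm b) = 0 := by linear_combination e1
    rcases mul_eq_zero.mp e3 with h | h
    · exact absurd h h2
    · exact sub_eq_zero.mp h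

theorem eq_fieldL_of_normalised2 (α : MulAut (ProjectiveSpecialLinearGroup (Fin 2) F)) (hα : FixStd α)
    (h1 : α (X 0 1 h01' 1) = X 0 1 h01' 1) : ∃ τ : F ≃+* F, α = fieldL 2 τ := by
  have hone : lam α hα 0 1 h01' 1 = 1 := by
    apply X_inj 0 1 h01'
    rw [← lam_spec, h1]
  obtain ⟨hmu_eq, hmul⟩ := mult_of_rel (lam α hα 0 1 h01') (lam α hα 1 0 h10')
    (fun a b => lam_add α hα _ _ _ a b) (fun a b => lam_add α hα _ _ _ a b)
    (fun t ht => lam_ne_zero α hα _ _ _ t ht) (lam_zero α hα _ _ _) (lam_zero α hα _ _ _) hone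
    (fun t s ht hs => rel2 α hα t s ht hs)
  have hbij : Function.Bijective (lam α hα 0 1 h01') :=
    ⟨fun a b h => lam_inj α hα _ _ _ a b h, fun u => lam_surj α hα _ _ _ u⟩
  let τh : F →+* F :=
    { toFun := lam α hα 0 1 h01'
      map_one' := hone
      map_mul' := hmul
      map_zero' := lam_zero α hα _ _ _
      map_add' := fun a b => lam_add α hα _ _ _ a b }
  refine ⟨RingEquiv.ofBijective τh hbij, ?_⟩
  apply aut_ext_X (le_refl 2)
  intro i j hij t
  rw [lam_spec α hα, fieldL_X]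
  congr 1
  fin_cases i <;> fin_cases j
  · exact absurd rfl hij
  · rfl
  · exact hmu_eq t
  · exact absurd rfl hij

/-- the structure of `Aut(PSL_2(q))`. -/
theorem aut_PSL_two (β : MulAut (ProjectiveSpecialLinearGroup (Fin 2) F)) :
    ∃ (g : GL (Fin 2) F) (τ : F ≃+* F), β = Phi 2 F g * fieldL 2 τ := by
  obtain ⟨g₁, h1⟩ := exists_fixStd2 β (aut_T2 β)
  set α := (Phi 2 F g₁)⁻¹ * β with hα
  set c : F := lam α h1 0 1 h01' 1 with hc
  have hcne : c ≠ 0 := lam_one_ne α h1 0 1 h01'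
  obtain ⟨g₂, hg₂⟩ := exists_diag (![c, 1] : Fin 2 → F) (by
    intro i
    fin_cases i
    · exact hcne
    · exact one_ne_zero)
  have hfix : FixStd (Phi 2 F g₂) :=
    fixStd_of_X _ (fun i j => (![c, 1] : Fin 2 → F) i * ((![c, 1] : Fin 2 → F) j)⁻¹) (by
      intro i j _
      apply mul_ne_zero
      · fin_cases i
        · exact hcne
        · exact one_ne_zero
      · apply inv_ne_zero
        fin_cases j
        · exact hcne
        · exact one_ne_zero) hg₂
  have h2 : FixStd ((Phi 2 F g₂)⁻¹ * α) := fixStd_mul _ _ (fixStd_inv _ hfix) h1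
  have h3 : ((Phi 2 F g₂)⁻¹ * α) (X 0 1 h01' 1) = X 0 1 h01' 1 := by
    rw [MulAut.mul_apply, lam_spec α h1, MulAut.inv_apply, MulEquiv.symm_apply_eq, hg₂]
    congr 1
    show c = c * (1 : F)⁻¹ * 1
    rw [inv_one, mul_one, mul_one]
  obtain ⟨τ, h4⟩ := eq_fieldL_of_normalised2 _ h2 h3
  refine ⟨g₁ * g₂, τ, ?_⟩
  rw [map_mul, ← h4, hα]
  simp only [mul_assoc, mul_inv_cancel_left]

end

end Cfsg.Agent.Lib.Helper16.AP
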