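import Mathlib
import Cfsg.Prelude.Def_LieTypeDatum
import Cfsg.Agent.Lib.Helper16.AP14

set_option autoImplicit false
set_option linter.unusedSectionVars false
set_option linter.unusedVariables false

namespace Cfsg.Agent.Lib.Helper16.AP

open Matrix Cfsg.Agent.Lib.Helper16.PG

universe u

section
variable {n : ℕ} {F : Type u} [Field F] [Fintype F]

/-- the structure of `Aut(PSL_n(q))`, `n ≥ 2`. -/
theorem aut_PSL_struct (hn : 2 ≤ n) (β : MulAut (ProjectiveSpecialLinearGroup (Fin n) F)) :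
    ∃ (g : GL (Fin n) F) (τ : F ≃+* F) (ε : MulAut (ProjectiveSpecialLinearGroup (Fin n) F)),
      (ε = 1 ∨ ε = iota n F) ∧ β = Phi n F g * fieldL n τ * ε := by
  rcases Nat.lt_or_ge 2 n with h3 | h2
  · exact aut_PSL_ge3 h3 β
  · obtain rfl : n = 2 := le_antisymm h2 hn
    obtain ⟨g, τ, h⟩ := aut_PSL_two β
    exact ⟨g, τ, 1, Or.inl rfl, by rw [mul_one]; exact h⟩

theorem S2690_aux (hn : 2 ≤ n) (β : MulAut (ProjectiveSpecialLinearGroup (Fin n) F)) :
    ∃ (δ φ γ : MulAut (Matrix.ProjectiveSpecialLinearGroup (Fin n) F)) (σ : F ≃+* F),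
      Cfsg.IsInnerDiagonalAutPSL δ ∧ Cfsg.IsStdFieldAutPSL σ φ ∧
        (γ = 1 ∨ Cfsg.IsInverseTransposeAutPSL γ) ∧ β = δ * φ * γ := by
  obtain ⟨g, τ, ε, hε, h⟩ := aut_PSL_struct hn β
  refine ⟨Phi n F g, fieldL n τ, ε, τ, (isInnerDiag_iff _).mpr ⟨g, rfl⟩, (isStdField_iff τ _).mpr rfl, ?_, h⟩
  rcases hε with h1 | h1
  · exact Or.inl h1
  · exact Or.inr ((isInvTranspose_iff ε).mpr h1)

theorem isInduced_Phi_fieldL (g : GL (Fin n) F) (τ : F ≃+* F) :
    Cfsg.IsInducedBySemilinearPSL g τ (Phi n F g * fieldL n τ) := by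
  intro s s' hs
  rw [MulAut.mul_apply, fieldL_mk, Phi_mk]
  congr 1
  apply Subtype.ext
  rw [conjSL_val, Cfsg.Agent.Lib.Helper16.PU.mapSLEquiv_val, hs]

theorem S2689_aux (hn : 2 ≤ n) :
    Cfsg.gammaPSL n F ⊔ Cfsg.autSubgroupOf (fun β : Matrix.ProjectiveSpecialLinearGroup (Fin n) F ≃*
      Matrix.ProjectiveSpecialLinearGroup (Fin n) F => Cfsg.IsInverseTransposeAutPSL β) = ⊤ := by
  rw [eq_top_iff]
  intro β _
  obtain ⟨g, τ, ε, hε, h⟩ := aut_PSL_struct hn β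
  rw [h]
  apply Subgroup.mul_mem
  · apply Subgroup.mem_sup_left
    unfold Cfsg.gammaPSL Cfsg.autSubgroupOf
    apply Subgroup.subset_closure
    exact ⟨g, τ, isInduced_Phi_fieldL g τ⟩
  · apply Subgroup.mem_sup_right
    rcases hε with h1 | h1
    · rw [h1]; exact Subgroup.one_mem _
    · unfold Cfsg.autSubgroupOf
      apply Subgroup.subset_closure
      exact (isInvTranspose_iff ε).mpr h1

end

end Cfsg.Agent.Lib.Helper16.AP
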