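import Mathlib
import Cfsg.Prelude.Def_LieTypeDatum
import Cfsg.Agent.Lib.Helper16.AP15

set_option autoImplicit false
set_option linter.unusedSectionVars false
set_option linter.unusedVariables false

namespace Cfsg.Agent.Lib.Helper16.AP

open Matrix Cfsg.Agent.Lib.Helper16.PG

universe u

section
variable {n : ℕ} {F : Type u} [Field F]

theorem fieldL_mul (τ₁ τ₂ : F ≃+* F) :
    fieldL n (τ₂.trans τ₁) = (fieldL n τ₁ * fieldL n τ₂ : MulAut (ProjectiveSpecialLinearGroup (Fin n) F)) := by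
  apply MulEquiv.ext
  intro x
  induction x using QuotientGroup.induction_on with
  | H s =>
    rw [MulAut.mul_apply, fieldL_mk, fieldL_mk, fieldL_mk]
    congr 1

theorem fieldL_refl : fieldL n (RingEquiv.refl F) = (1 : MulAut (ProjectiveSpecialLinearGroup (Fin n) F)) := by
  apply MulEquiv.ext
  intro x
  induction x using QuotientGroup.induction_on with
  | H s =>
    rw [MulAut.one_apply, fieldL_mk]
    congr 1

/-- the field automorphisms as a homomorphism. -/
noncomputable def fieldLHom (n : ℕ) (F : Type u) [Field F] :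
    RingAut F →* MulAut (ProjectiveSpecialLinearGroup (Fin n) F) where
  toFun := fieldL n
  map_one' := fieldL_refl
  map_mul' τ₁ τ₂ := fieldL_mul τ₁ τ₂

theorem fieldLHom_apply (τ : RingAut F) : fieldLHom n F τ = fieldL n τ := rfl

theorem fieldL_Phi (τ : F ≃+* F) (g : GL (Fin n) F) :
    fieldL n τ * Phi n F g = Phi n F (Cfsg.Agent.Lib.Helper16.PU.mapGL n τ g) * fieldL n τ := by
  apply MulEquiv.ext
  intro x
  induction x using QuotientGroup.induction_on with
  | H s =>
    rw [MulAut.mul_apply, MulAut.mul_apply, Phi_mk, fieldL_mk, fieldL_mk, Phi_mk]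
    congr 1
    apply Subtype.ext
    rw [Cfsg.Agent.Lib.Helper16.PU.mapSLEquiv_val, conjSL_val, conjSL_val, Matrix.map_mul, Matrix.map_mul,
      Cfsg.Agent.Lib.Helper16.PU.mapGL_inv_val, Cfsg.Agent.Lib.Helper16.PU.mapGL_val,
      Cfsg.Agent.Lib.Helper16.PU.mapSLEquiv_val]

theorem iota_fieldL (τ : F ≃+* F) :
    iota n F * fieldL n τ = fieldL n τ * iota n F := by
  apply MulEquiv.ext
  intro x
  induction x using QuotientGroup.induction_on with
  | H s =>
    rw [MulAut.mul_apply, MulAut.mul_apply, fieldL_mk, iota_mk, iota_mk, fieldL_mk]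
    congr 1
    apply Subtype.ext
    rw [invT_val, Cfsg.Agent.Lib.Helper16.PU.mapSLEquiv_val, invT_val, ← map_inv,
      Cfsg.Agent.Lib.Helper16.PU.mapSLEquiv_val, Matrix.transpose_map]

theorem scalar_one_of_tM (hn : 2 ≤ n) (v φ v' φ' : Fin n → F) (s u r : F) (h : φ ⬝ᵥ v = 0) (h' : φ' ⬝ᵥ v' = 0)
    (hrn : r ^ n = 1) (hr : r • tM v φ s = tM v' φ' u) : r = 1 := by
  rcases Nat.lt_or_ge 2 n with h3 | h2
  · exact scalar_one_of_single h3 v φ v' φ' s u r h' hr
  · obtain rfl : n = 2 := le_antisymm h2 hn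
    exact scalar_one_two v φ v' φ' s u r h h' hrn hr

theorem vmv_single_ne (i j : Fin n) : Matrix.vecMulVec (Pi.single i (1 : F)) (Pi.single j (1 : F)) ≠ 0 := by
  intro h
  have := congrFun (congrFun h i) j
  rw [Matrix.vecMulVec_apply, Pi.single_eq_same, Pi.single_eq_same, one_mul] at this
  exact one_ne_zero this

/-- a field automorphism of `PSL_n` which is inner-diagonal is trivial. -/
theorem fieldL_eq_Phi (hn : 2 ≤ n) (τ : F ≃+* F) (g : GL (Fin n) F) (h : fieldL n τ = Phi n F g) (t : F) :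
    τ t = t := by
  have hij : fst hn ≠ lst hn := fst_ne_lst hn
  set i := fst hn
  set j := lst hn
  have key : ∀ t : F, (τ t) • Matrix.vecMulVec (Pi.single i (1 : F)) (Pi.single j (1 : F)) =
      t • Matrix.vecMulVec ((g : Matrix (Fin n) (Fin n) F) *ᵥ Pi.single i 1)
        (Pi.single j 1 ᵥ* ((g⁻¹ : GL (Fin n) F) : Matrix (Fin n) (Fin n) F)) := by
    intro t
    have h1 := DFunLike.congr_fun h (X i j hij t)
    rw [fieldL_X] at h1
    have e : X i j hij t =
        QuotientGroup.mk (tS (stdF (F := F) i j hij).v (stdF (F := F) i j hij).φ (stdF (F := F) i j hij).h t) := rfl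
    rw [e, Phi_tS] at h1
    unfold X at h1
    obtain ⟨r, hrn, hr⟩ := mk_eq_imp _ _ h1
    rw [Xs_val, tS_val] at hr
    have hr1 := scalar_one_of_tM hn _ _ _ _ _ _ r (stdF (F := F) i j hij).h (gFlag g (stdF i j hij)).h hrn hr
    rw [hr1, one_smul] at hr
    unfold tM at hr
    exact add_left_cancel hr
  have k1 := key 1
  rw [map_one, one_smul, one_smul] at k1
  have kt := key t
  rw [← k1] at kt
  have h2 : (τ t - t) • Matrix.vecMulVec (Pi.single i (1 : F)) (Pi.single j (1 : F)) = 0 := by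
    rw [sub_smul, kt, sub_self]
  rcases smul_eq_zero.mp h2 with h3 | h3
  · exact sub_eq_zero.mp h3
  · exact absurd h3 (vmv_single_ne i j)

theorem fixStd_fieldL (τ : F ≃+* F) : FixStd (fieldL n τ) := by
  intro i j hij
  ext x
  rw [Subgroup.mem_map, mem_T_std_iff]
  constructor
  · rintro ⟨y, hy, rfl⟩
    obtain ⟨t, rfl⟩ := (mem_T_std_iff i j hij y).mp hy
    exact ⟨_, fieldL_X τ i j hij t⟩
  · rintro ⟨t, rfl⟩
    refine ⟨X i j hij (τ.symm t), X_mem i j hij _, ?_⟩
    show fieldL n τ _ = _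
    rw [fieldL_X, RingEquiv.apply_symm_apply]

/-- a graph-field automorphism is not inner-diagonal (`n ≥ 3`). -/
theorem fieldL_iota_ne_Phi (hn : 3 ≤ n) (τ : F ≃+* F) (g : GL (Fin n) F) :
    fieldL n τ * iota n F ≠ Phi n F g := by
  intro h
  have hmap : ∀ (i j : Fin n) (hij : i ≠ j),
      T (gFlag g (stdF i j hij)) = T (stdF (F := F) j i (Ne.symm hij)) := by
    intro i j hij
    rw [← map_Phi_T, ← h]
    have : (fieldL n τ * iota n F).toMonoidHom = (fieldL n τ).toMonoidHom.comp (iota n F).toMonoidHom := rfl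
    rw [this, ← Subgroup.map_map, map_iota_T, swap_stdF, fixStd_fieldL τ j i (Ne.symm hij)]
  have i₀ : Fin n := ⟨0, by omega⟩
  obtain ⟨j, hj, -⟩ := exists_third hn i₀ i₀
  obtain ⟨k, hk0, hkj⟩ := exists_third hn i₀ j
  have h1 := (par_of_T_eq hn _ _ (hmap i₀ j (Ne.symm hj))).1
  have h2 := (par_of_T_eq hn _ _ (hmap i₀ k (Ne.symm hk0))).1
  have h3 : par (Pi.single j (1 : F)) (Pi.single k 1) := par_trans (par_symm h1) h2
  exact hkj ((par_single_iff j k).mp h3).symm

end

section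
variable {n : ℕ} {F : Type u} [Field F] [Fintype F]

theorem Phi_range_normal (hn : 2 ≤ n) : ((Phi n F).range).Normal := by
  constructor
  rintro _ ⟨g, rfl⟩ β
  obtain ⟨h, τ, ε, hε, rfl⟩ := aut_PSL_struct hn β
  have h1 : ∃ g' : GL (Fin n) F, ε * Phi n F g * ε⁻¹ = Phi n F g' := by
    rcases hε with rfl | rfl
    · exact ⟨g, by rw [one_mul, inv_one, mul_one]⟩
    · exact ⟨gTI n F g, by rw [iota_mul_Phi, mul_assoc, mul_inv_cancel, mul_one]⟩
  obtain ⟨g', hg'⟩ := h1
  have h2 : fieldL n τ * Phi n F g' * (fieldL n τ)⁻¹ = Phi n F (Cfsg.Agent.Lib.Helper16.PU.mapGL n τ g') := by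
    rw [fieldL_Phi, mul_assoc, mul_inv_cancel, mul_one]
  refine ⟨h * Cfsg.Agent.Lib.Helper16.PU.mapGL n τ g' * h⁻¹, ?_⟩
  rw [map_mul, map_mul, ← h2, ← hg', map_inv]
  simp only [mul_assoc, _root_.mul_inv_rev]

end

end Cfsg.Agent.Lib.Helper16.AP
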