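import Mathlib
import Cfsg.Prelude.Def_LieTypeDatum
import Cfsg.Prelude.Def_KGroupFacts
import Cfsg.Agent.Lib.Helper16.AP16

set_option autoImplicit false
set_option linter.unusedSectionVars false
set_option linter.unusedVariables false

namespace Cfsg.Agent.Lib.Helper16.AP

open Matrix Cfsg.Agent.Lib.Helper16.PG

universe u

section
variable {n : ℕ} {F : Type u} [Field F]

/-- the powers of the inverse transpose, as a homomorphism from `C_2`. -/
noncomputable def iotaHom (n : ℕ) (F : Type u) [Field F] :
    Multiplicative (ZMod 2) →* MulAut (ProjectiveSpecialLinearGroup (Fin n) F) where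
  toFun e := if Multiplicative.toAdd e = 0 then 1 else iota n F
  map_one' := by simp
  map_mul' := by
    intro a b
    have h : ∀ x y : ZMod 2, (if x + y = 0 then (1 : MulAut (ProjectiveSpecialLinearGroup (Fin n) F)) else iota n F) =
        (if x = 0 then 1 else iota n F) * (if y = 0 then 1 else iota n F) := by
      intro x y
      have h01 : ∀ z : ZMod 2, z = 0 ∨ z = 1 := by decide
      have h1 : (1 : ZMod 2) ≠ 0 := by decide
      have h2 : (1 : ZMod 2) + 1 = 0 := by decide
      rcases h01 x with rfl | rfl <;> rcases h01 y with rfl | rfl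
      · rw [add_zero, if_pos rfl, one_mul]
      · rw [zero_add, if_neg h1, if_pos rfl, one_mul]
      · rw [add_zero, if_neg h1, if_pos rfl, mul_one]
      · rw [h2, if_pos rfl, if_neg h1, iota_sq]
    exact h _ _

theorem iotaHom_one : iotaHom n F (Multiplicative.ofAdd 1) = iota n F := by
  show (if Multiplicative.toAdd (Multiplicative.ofAdd (1 : ZMod 2)) = 0 then
    (1 : MulAut (ProjectiveSpecialLinearGroup (Fin n) F)) else iota n F) = _
  rw [if_neg]
  show ¬ ((1 : ZMod 2) = 0)
  decide

theorem iotaHom_cases (e : Multiplicative (ZMod 2)) :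
    (e = 1 ∧ iotaHom n F e = 1) ∨ (e = Multiplicative.ofAdd 1 ∧ iotaHom n F e = iota n F) := by
  have h : ∀ x : ZMod 2, x = 0 ∨ x = 1 := by decide
  rcases h (Multiplicative.toAdd e) with h0 | h1
  · left
    have : e = 1 := by
      rw [← ofAdd_toAdd e, h0]; rfl
    exact ⟨this, by rw [this, map_one]⟩
  · right
    have : e = Multiplicative.ofAdd 1 := by
      rw [← ofAdd_toAdd e, h1]
    exact ⟨this, by rw [this, iotaHom_one]⟩

/-- field and graph automorphisms together. -/
noncomputable def fgHom (n : ℕ) (F : Type u) [Field F] :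
    RingAut F × Multiplicative (ZMod 2) →* MulAut (ProjectiveSpecialLinearGroup (Fin n) F) :=
  MonoidHom.noncommCoprod (fieldLHom n F) (iotaHom n F) (by
    intro τ e
    rcases iotaHom_cases (n := n) (F := F) e with ⟨-, h⟩ | ⟨-, h⟩
    · rw [h]; exact Commute.one_right _
    · rw [h, fieldLHom_apply]
      exact (iota_fieldL τ).symm)

theorem fgHom_apply (τ : RingAut F) (e : Multiplicative (ZMod 2)) :
    fgHom n F (τ, e) = fieldL n τ * iotaHom n F e := rfl

end

section
variable {n : ℕ} {F : Type u} [Field F] [Fintype F]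

theorem fgHom_mem_range_iff (hn : 3 ≤ n) (x : RingAut F × Multiplicative (ZMod 2)) :
    fgHom n F x ∈ (Phi n F).range ↔ x = 1 := by
  obtain ⟨τ, e⟩ := x
  constructor
  · rintro ⟨g, hg⟩
    rw [fgHom_apply] at hg
    rcases iotaHom_cases (n := n) (F := F) e with ⟨he, h⟩ | ⟨he, h⟩
    · rw [h, mul_one] at hg
      have : τ = 1 := by
        apply RingEquiv.ext
        intro t
        exact fieldL_eq_Phi (by omega) τ g hg.symm t
      rw [this, he]
      rfl
    · rw [h] at hg
      exact absurd hg.symm (fieldL_iota_ne_Phi hn τ g)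
  · intro h
    rw [h, map_one]
    exact Subgroup.one_mem _

theorem exists_fgHom (hn : 3 ≤ n) (β : MulAut (ProjectiveSpecialLinearGroup (Fin n) F)) :
    ∃ (g : GL (Fin n) F) (x : RingAut F × Multiplicative (ZMod 2)), β = Phi n F g * fgHom n F x := by
  obtain ⟨g, τ, ε, hε, h⟩ := aut_PSL_struct (by omega) β
  rcases hε with rfl | rfl
  · refine ⟨g, (τ, 1), ?_⟩
    rw [fgHom_apply, map_one, mul_one]
    rw [mul_one] at h
    exact h
  · refine ⟨g, (τ, Multiplicative.ofAdd 1), ?_⟩
    rw [fgHom_apply, iotaHom_one, ← mul_assoc]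
    exact h

end

end Cfsg.Agent.Lib.Helper16.AP
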