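import Mathlib
import Cfsg.Prelude.Def_LieTypeDatum
import Cfsg.Prelude.Def_KGroupFacts
import Cfsg.Agent.Lib.Helper16.AP17

set_option autoImplicit false
set_option linter.unusedSectionVars false
set_option linter.unusedVariables false

namespace Cfsg.Agent.Lib.Helper16.AP

open Matrix Cfsg.Agent.Lib.Helper16.PG

universe u

section
variable {F : Type u} [Field F] [Fintype F] {p f : ℕ} [Fact p.Prime]

/-- the automorphism group of a finite field is cyclic of order `f`. -/
theorem galF_cyclic_card (hF : Fintype.card F = p ^ f) :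
    IsCyclic (RingAut F) ∧ Nat.card (RingAut F) = f := by
  have : CharP F p := charP_of_card_eq_prime_pow hF
  let _ : Algebra (ZMod p) F := ZMod.algebra F p
  let e1 : (F ≃ₐ[ZMod p] F) →* RingAut F :=
    { toFun := fun σ => σ.toRingEquiv
      map_one' := rfl
      map_mul' := fun _ _ => rfl }
  have hinj : Function.Injective e1 := by
    intro σ τ h
    apply AlgEquiv.ext
    intro x
    exact DFunLike.congr_fun h x
  have hsurj : Function.Surjective e1 := by
    intro σ
    refine ⟨AlgEquiv.ofRingEquiv (f := σ) (fun x => ?_), ?_⟩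
    · have := RingHom.ext_zmod ((σ : F →+* F).comp (algebraMap (ZMod p) F)) (algebraMap (ZMod p) F)
      exact DFunLike.congr_fun this x
    · apply RingEquiv.ext
      intro x
      rfl
  constructor
  · exact isCyclic_of_surjective e1 hsurj
  · have h1 : Nat.card (RingAut F) = Nat.card (F ≃ₐ[ZMod p] F) :=
      (Nat.card_congr (Equiv.ofBijective e1 ⟨hinj, hsurj⟩)).symm
    rw [h1, IsGalois.card_aut_eq_finrank]
    have h2 := Module.card_eq_pow_finrank (K := ZMod p) (V := F)
    rw [ZMod.card, hF] at h2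
    exact (Nat.pow_right_injective (Fact.out : p.Prime).two_le h2).symm

end

section
variable {n : ℕ} {F : Type u} [Field F] [Fintype F]

theorem psi_bijective (hn : 3 ≤ n) [hN : ((Phi n F).range).Normal] :
    Function.Bijective ((QuotientGroup.mk' (Phi n F).range).comp (fgHom n F)) := by
  constructor
  · rw [injective_iff_map_eq_one]
    intro x hx
    rw [MonoidHom.comp_apply, QuotientGroup.mk'_apply, QuotientGroup.eq_one_iff] at hx
    exact (fgHom_mem_range_iff hn x).mp hx
  · intro y
    induction y using QuotientGroup.induction_on with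
    | H β =>
      obtain ⟨g, x, rfl⟩ := exists_fgHom hn β
      refine ⟨x, ?_⟩
      rw [MonoidHom.comp_apply, QuotientGroup.mk'_apply, QuotientGroup.mk_mul]
      have : ((Phi n F g : MulAut (ProjectiveSpecialLinearGroup (Fin n) F)) :
          MulAut (ProjectiveSpecialLinearGroup (Fin n) F) ⧸ (Phi n F).range) = 1 :=
        (QuotientGroup.eq_one_iff _).mpr ⟨g, rfl⟩
      rw [this, one_mul]

/-- `Aut / Inndiag ≅ Gal(F) × C_2`. -/
noncomputable def psiEquiv (hn : 3 ≤ n) [hN : ((Phi n F).range).Normal] :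
    RingAut F × Multiplicative (ZMod 2) ≃* MulAut (ProjectiveSpecialLinearGroup (Fin n) F) ⧸ (Phi n F).range :=
  MulEquiv.ofBijective _ (psi_bijective hn)

/-- the projection of `Aut(PSL_n)` onto `Gal(F) × C_2`. -/
noncomputable def Theta (hn : 3 ≤ n) [hN : ((Phi n F).range).Normal] :
    MulAut (ProjectiveSpecialLinearGroup (Fin n) F) →* RingAut F × Multiplicative (ZMod 2) :=
  (psiEquiv hn).symm.toMonoidHom.comp (QuotientGroup.mk' (Phi n F).range)

theorem Theta_eq_one_iff (hn : 3 ≤ n) [hN : ((Phi n F).range).Normal]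
    (β : MulAut (ProjectiveSpecialLinearGroup (Fin n) F)) : Theta hn β = 1 ↔ β ∈ (Phi n F).range := by
  unfold Theta
  rw [MonoidHom.comp_apply, MulEquiv.coe_toMonoidHom, MulEquiv.map_eq_one_iff, QuotientGroup.mk'_apply,
    QuotientGroup.eq_one_iff]

theorem Theta_surjective (hn : 3 ≤ n) [hN : ((Phi n F).range).Normal] :
    Function.Surjective (Theta (n := n) (F := F) hn) := by
  unfold Theta
  exact (psiEquiv hn).symm.surjective.comp (QuotientGroup.mk'_surjective _)

theorem Inn_le_ker_Theta (hn : 3 ≤ n) [hN : ((Phi n F).range).Normal] :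
    Cfsg.Inn (ProjectiveSpecialLinearGroup (Fin n) F) ≤ (Theta hn).ker := by
  rintro _ ⟨k, rfl⟩
  rw [MonoidHom.mem_ker, Theta_eq_one_iff]
  induction k using QuotientGroup.induction_on with
  | H s => exact ⟨_, (conj_mk_eq_Phi s).symm⟩

/-- the induced map on `Out`. -/
noncomputable def ThetaOut (hn : 3 ≤ n) [hN : ((Phi n F).range).Normal] :
    Cfsg.Out (ProjectiveSpecialLinearGroup (Fin n) F) →* RingAut F × Multiplicative (ZMod 2) :=
  QuotientGroup.lift (Cfsg.Inn (ProjectiveSpecialLinearGroup (Fin n) F)) (Theta hn) (Inn_le_ker_Theta hn)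

theorem ThetaOut_mk (hn : 3 ≤ n) [hN : ((Phi n F).range).Normal]
    (β : MulAut (ProjectiveSpecialLinearGroup (Fin n) F)) :
    ThetaOut hn (QuotientGroup.mk β) = Theta hn β := rfl

theorem ThetaOut_surjective (hn : 3 ≤ n) [hN : ((Phi n F).range).Normal] :
    Function.Surjective (ThetaOut (n := n) (F := F) hn) := by
  intro y
  obtain ⟨β, hβ⟩ := Theta_surjective hn y
  exact ⟨QuotientGroup.mk β, hβ⟩

/-- the diagonal outer automorphisms. -/
noncomputable def DOut (n : ℕ) (F : Type u) [Field F] :
    GL (Fin n) F →* Cfsg.Out (ProjectiveSpecialLinearGroup (Fin n) F) :=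
  (QuotientGroup.mk' (Cfsg.Inn (ProjectiveSpecialLinearGroup (Fin n) F))).comp (Phi n F)

theorem ThetaOut_ker (hn : 3 ≤ n) [hN : ((Phi n F).range).Normal] :
    (ThetaOut (n := n) (F := F) hn).ker = (DOut n F).range := by
  ext x
  induction x using QuotientGroup.induction_on with
  | H β =>
    rw [MonoidHom.mem_ker, ThetaOut_mk, Theta_eq_one_iff, MonoidHom.mem_range]
    constructor
    · rintro ⟨g, rfl⟩
      exact ⟨g, rfl⟩
    · rintro ⟨g, hg⟩
      have h1 : (QuotientGroup.mk (Phi n F g) : Cfsg.Out (ProjectiveSpecialLinearGroup (Fin n) F)) =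
          QuotientGroup.mk β := hg
      rw [QuotientGroup.eq] at h1
      obtain ⟨k, hk⟩ := h1
      induction k using QuotientGroup.induction_on with
      | H s =>
        rw [conj_mk_eq_Phi] at hk
        refine ⟨g * Matrix.SpecialLinearGroup.toGL s, ?_⟩
        rw [map_mul, hk, mul_inv_cancel_left]

theorem det_ker_le_DOut_ker : (Matrix.GeneralLinearGroup.det : GL (Fin n) F →* Fˣ).ker ≤ (DOut n F).ker := by
  intro g hg
  rw [MonoidHom.mem_ker] at hg
  have h1 : g ∈ Set.range (Matrix.SpecialLinearGroup.toGL : SpecialLinearGroup (Fin n) F → GL (Fin n) F) := by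
    rw [Matrix.SpecialLinearGroup.range_toGL]
    exact hg
  obtain ⟨s, rfl⟩ := h1
  rw [MonoidHom.mem_ker]
  unfold DOut
  rw [MonoidHom.comp_apply, QuotientGroup.mk'_apply, QuotientGroup.eq_one_iff]
  exact ⟨QuotientGroup.mk s, conj_mk_eq_Phi s⟩

theorem det_scalGL (c : Fˣ) : Matrix.GeneralLinearGroup.det (scalGL n c) = c ^ n := by
  apply Units.ext
  rw [Matrix.GeneralLinearGroup.val_det_apply, scalGL_val, Matrix.det_smul, Matrix.det_one, mul_one, Fintype.card_fin,
    Units.val_pow_eq_pow_val]

theorem det_toGL (s : SpecialLinearGroup (Fin n) F) :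
    Matrix.GeneralLinearGroup.det (Matrix.SpecialLinearGroup.toGL s) = 1 := by
  apply Units.ext
  rw [Matrix.GeneralLinearGroup.val_det_apply, Units.val_one]
  exact s.2

theorem DOut_eq_one_iff (g : GL (Fin n) F) :
    DOut n F g = 1 ↔ ∃ c : Fˣ, Matrix.GeneralLinearGroup.det g = c ^ n := by
  unfold DOut
  rw [MonoidHom.comp_apply, QuotientGroup.mk'_apply, QuotientGroup.eq_one_iff]
  constructor
  · rintro ⟨k, hk⟩
    induction k using QuotientGroup.induction_on with
    | H s =>
      rw [conj_mk_eq_Phi] at hk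
      obtain ⟨c, hc⟩ := (Phi_eq_iff _ _).mp hk.symm
      refine ⟨c, ?_⟩
      rw [hc, map_mul, det_toGL, one_mul, det_scalGL]
  · rintro ⟨c, hc⟩
    have h1 : Matrix.GeneralLinearGroup.det (g * (scalGL n c)⁻¹) = 1 := by
      rw [map_mul, map_inv, det_scalGL, hc, mul_inv_cancel]
    have h2 : g * (scalGL n c)⁻¹ ∈
        Set.range (Matrix.SpecialLinearGroup.toGL : SpecialLinearGroup (Fin n) F → GL (Fin n) F) := by
      rw [Matrix.SpecialLinearGroup.range_toGL]
      exact h1
    obtain ⟨s, hs⟩ := h2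
    refine ⟨QuotientGroup.mk s, ?_⟩
    rw [conj_mk_eq_Phi, hs, map_mul, map_inv, Phi_scalGL, inv_one, mul_one]

end

end Cfsg.Agent.Lib.Helper16.AP
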