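import Mathlib
import Cfsg.Prelude.Def_LieTypeDatum
import Cfsg.Prelude.Def_KGroupFacts
import Cfsg.Agent.Lib.Helper16.AP18

set_option autoImplicit false
set_option linter.unusedSectionVars false
set_option linter.unusedVariables false

namespace Cfsg.Agent.Lib.Helper16.AP

open Matrix Cfsg.Agent.Lib.Helper16.PG

universe u

section
variable {n : ℕ} {F : Type u} [Field F] [Fintype F]

/-- the outer diagonal automorphism group of `PSL_n(q)` is cyclic of order `gcd(n, q - 1)`. -/
theorem DOut_range_cyclic_card (hn : 1 ≤ n) :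
    IsCyclic ↥(DOut n F).range ∧ Nat.card ↥(DOut n F).range = Nat.gcd n (Fintype.card F - 1) := by
  have : Nonempty (Fin n) := ⟨⟨0, by omega⟩⟩
  have hsurj : Function.Surjective (Matrix.GeneralLinearGroup.det : GL (Fin n) F →* Fˣ) :=
    Matrix.GeneralLinearGroup.det_surjective
  set D' : Fˣ →* Cfsg.Out (ProjectiveSpecialLinearGroup (Fin n) F) :=
    (Matrix.GeneralLinearGroup.det : GL (Fin n) F →* Fˣ).liftOfSurjective hsurj
      ⟨DOut n F, det_ker_le_DOut_ker⟩ with hD'def
  have hD' : ∀ g : GL (Fin n) F, D' (Matrix.GeneralLinearGroup.det g) = DOut n F g := by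
    intro g
    exact MonoidHom.liftOfRightInverse_comp_apply _ _ (Function.rightInverse_surjInv hsurj)
      ⟨DOut n F, det_ker_le_DOut_ker⟩ g
  have hrange : D'.range = (DOut n F).range := by
    ext x
    constructor
    · rintro ⟨u, rfl⟩
      obtain ⟨g, rfl⟩ := hsurj u
      exact ⟨g, (hD' g).symm⟩
    · rintro ⟨g, rfl⟩
      exact ⟨_, hD' g⟩
  have hker : D'.ker = (powMonoidHom n : Fˣ →* Fˣ).range := by
    ext u
    obtain ⟨g, rfl⟩ := hsurj u
    rw [MonoidHom.mem_ker, hD', DOut_eq_one_iff, MonoidHom.mem_range]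
    constructor
    · rintro ⟨c, hc⟩
      exact ⟨c, hc.symm⟩
    · rintro ⟨c, hc⟩
      exact ⟨c, hc.symm⟩
  rw [← hrange]
  constructor
  · exact isCyclic_of_surjective D'.rangeRestrict D'.rangeRestrict_surjective
  · rw [← Subgroup.index_ker, hker, IsCyclic.index_powMonoidHom_range, Nat.card_units, Nat.card_eq_fintype_card,
      Nat.gcd_comm]

end

section
variable {n : ℕ} {F : Type u} [Field F] [Fintype F] {p f : ℕ} [Fact p.Prime]

theorem S2601_aux (hf : 1 ≤ f) (hF : Fintype.card F = p ^ f) (hn : 3 ≤ n) :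
    ∃ φ : Cfsg.Out (Matrix.ProjectiveSpecialLinearGroup (Fin n) F) →* Multiplicative (ZMod f × ZMod 2),
      Function.Surjective φ ∧ IsCyclic φ.ker ∧ Nat.card φ.ker = Nat.gcd n (p ^ f - 1) := by
  have hN : ((Phi n F).range).Normal := Phi_range_normal (by omega)
  obtain ⟨hcyc, hcard⟩ := galF_cyclic_card hF
  have : NeZero f := ⟨by omega⟩
  have hcard' : Nat.card (RingAut F) = Nat.card (Multiplicative (ZMod f)) := by
    rw [hcard, Nat.card_eq_fintype_card, Fintype.card_multiplicative, ZMod.card]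
  let e₁ : RingAut F ≃* Multiplicative (ZMod f) := mulEquivOfCyclicCardEq hcard'
  let E : RingAut F × Multiplicative (ZMod 2) ≃* Multiplicative (ZMod f × ZMod 2) :=
    (MulEquiv.prodCongr e₁ (MulEquiv.refl _)).trans (MulEquiv.prodMultiplicative (G := ZMod f) (H := ZMod 2)).symm
  have hk : (E.toMonoidHom.comp (ThetaOut hn)).ker = (DOut n F).range := by
    rw [← ThetaOut_ker hn]
    ext x
    simp [MonoidHom.mem_ker]
  obtain ⟨h1, h2⟩ := DOut_range_cyclic_card (n := n) (F := F) (by omega)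
  refine ⟨E.toMonoidHom.comp (ThetaOut hn), E.surjective.comp (ThetaOut_surjective hn), ?_, ?_⟩
  · rw [hk]
    exact h1
  · rw [hk, h2, hF]

end

end Cfsg.Agent.Lib.Helper16.AP
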