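import Mathlib
import Cfsg.Prelude.Def_LieTypeDatum
import Cfsg.Prelude.Def_KGroupFacts
import Cfsg.Agent.Lib.Helper16.AP19

set_option autoImplicit false
set_option linter.unusedSectionVars false
set_option linter.unusedVariables false

namespace Cfsg.Agent.Lib.Helper16.AP

open Matrix Cfsg.Agent.Lib.Helper16.PG

universe u

section
variable {n : ℕ} {F : Type u} [Field F]

theorem ker_Phi : (Phi n F).ker = Subgroup.center (GL (Fin n) F) := by
  ext g
  rw [MonoidHom.mem_ker, Phi_eq_one_iff, Matrix.GeneralLinearGroup.center_eq_range_scalar]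
  constructor
  · rintro ⟨c, rfl⟩
    exact ⟨c, rfl⟩
  · rintro ⟨c, rfl⟩
    exact ⟨c, rfl⟩

theorem card_range_Phi : Nat.card ↥(Phi n F).range = Nat.card (Matrix.ProjGenLinGroup (Fin n) F) := by
  rw [← Subgroup.index_ker, ker_Phi]
  rfl

end

section
variable {n : ℕ} {F : Type u} [Field F] [Fintype F]

theorem psi2_bijective [hN : ((Phi 2 F).range).Normal] :
    Function.Bijective ((QuotientGroup.mk' (Phi 2 F).range).comp (fieldLHom 2 F)) := by
  constructor
  · rw [injective_iff_map_eq_one]
    intro τ hτ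
    rw [MonoidHom.comp_apply, QuotientGroup.mk'_apply, QuotientGroup.eq_one_iff] at hτ
    obtain ⟨g, hg⟩ := hτ
    apply RingEquiv.ext
    intro t
    exact fieldL_eq_Phi (le_refl 2) τ g hg.symm t
  · intro y
    induction y using QuotientGroup.induction_on with
    | H β =>
      obtain ⟨g, τ, rfl⟩ := aut_PSL_two β
      refine ⟨τ, ?_⟩
      rw [MonoidHom.comp_apply, QuotientGroup.mk'_apply, QuotientGroup.mk_mul]
      have : ((Phi 2 F g : MulAut (ProjectiveSpecialLinearGroup (Fin 2) F)) :
          MulAut (ProjectiveSpecialLinearGroup (Fin 2) F) ⧸ (Phi 2 F).range) = 1 :=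
        (QuotientGroup.eq_one_iff _).mpr ⟨g, rfl⟩
      rw [this, one_mul]
      rfl

theorem S0813_aux (p f : ℕ) [Fact p.Prime] (hf : 1 ≤ f) (hF : Fintype.card F = p ^ f) (n : ℕ) (hn : 2 ≤ n) :
    Nat.card (MulAut (Matrix.ProjectiveSpecialLinearGroup (Fin n) F)) =
      (if n = 2 then 1 else 2) * f * Nat.card (Matrix.ProjGenLinGroup (Fin n) F) := by
  have hN : ((Phi n F).range).Normal := Phi_range_normal hn
  obtain ⟨-, hcard⟩ := galF_cyclic_card hF
  have h1 := Subgroup.card_mul_index (Phi n F).range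
  rw [card_range_Phi] at h1
  rw [← h1]
  have hidx : (Phi n F).range.index = (if n = 2 then 1 else 2) * f := by
    rcases Nat.lt_or_ge 2 n with h3 | h2
    · rw [if_neg (by omega)]
      have e := psiEquiv (n := n) (F := F) h3
      show Nat.card (MulAut (ProjectiveSpecialLinearGroup (Fin n) F) ⧸ (Phi n F).range) = _
      rw [← Nat.card_congr e.toEquiv, Nat.card_prod, hcard, Nat.card_eq_fintype_card, Fintype.card_multiplicative,
        ZMod.card, mul_comm]
    · obtain rfl : n = 2 := le_antisymm h2 hn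
      rw [if_pos rfl, one_mul]
      have e := Equiv.ofBijective _ (psi2_bijective (F := F))
      show Nat.card (MulAut (ProjectiveSpecialLinearGroup (Fin 2) F) ⧸ (Phi 2 F).range) = _
      rw [← Nat.card_congr e, hcard]
  rw [hidx, mul_comm]

end

end Cfsg.Agent.Lib.Helper16.AP
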