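import Mathlib
import Cfsg.Agent.Lib.helper6.Disc

set_option autoImplicit false
set_option linter.unusedSectionVars false
set_option linter.unusedSimpArgs false
set_option linter.unusedVariables false
set_option linter.unusedTactic false

namespace Cfsg.Agent.Lib.Helper16.OSemi

open Module LinearMap Cfsg.Agent.Lib.helper6

universe u v

variable {F : Type u} [Field F]

/-- hyperbolic frames of a nondegenerate symmetric form of odd dimension over a finite field. -/
theorem hyp_frame [Fintype F] (h2 : (2 : F) ≠ 0) :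
    ∀ (m : ℕ) (V : Type v) [AddCommGroup V] [Module F V] [FiniteDimensional F V]
      (B : LinearMap.BilinForm F V), B.IsSymm → B.Nondegenerate → finrank F V = 2 * m + 1 →
      ∃ (e h : Fin m → V) (w : V), (∀ a b, B (e a) (e b) = 0) ∧ (∀ a b, B (h a) (h b) = 0) ∧
        (∀ a b, B (e a) (h b) = if a = b then 1 else 0) ∧ (∀ a, B w (e a) = 0) ∧
        (∀ a, B w (h a) = 0) ∧ B w w ≠ 0 := by
  intro m
  induction m with
  | zero =>
    intro V _ _ _ B hS hB hV
    have hpos : 0 < finrank F V := by omega
    obtain ⟨w, hw⟩ : ∃ w : V, w ≠ 0 := (Module.finrank_pos_iff_exists_ne_zero).mp hpos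
    refine ⟨Fin.elim0, Fin.elim0, w, fun a => a.elim0, fun a => a.elim0, fun a => a.elim0,
      fun a => a.elim0, fun a => a.elim0, ?_⟩
    intro hww
    apply hw
    apply hB.1
    intro y
    obtain ⟨c, rfl⟩ := (finrank_eq_one_iff_of_nonzero' w hw).mp (by omega) y
    rw [map_smul, smul_eq_mul, hww, mul_zero]
  | succ m ih =>
    intro V _ _ _ B hS hB hV
    obtain ⟨x, hx0, hxx⟩ := Disc.exists_isotropic_of_three_le h2 B hS hB (by omega)
    obtain ⟨y, hyy, hxy⟩ := Disc.exists_partner h2 B hS hB x hx0 hxx
    have hyx : B y x = 1 := by rw [hS.eq]; exact hxy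
    obtain ⟨π, hπ⟩ : ∃ π : V →ₗ[F] F × F, π = (B x).prod (B y) := ⟨_, rfl⟩
    obtain ⟨W, hW⟩ : ∃ W : Submodule F V, W = LinearMap.ker π := ⟨_, rfl⟩
    have hmemW : ∀ v, v ∈ W ↔ B x v = 0 ∧ B y v = 0 := by
      intro v
      rw [hW, LinearMap.mem_ker, hπ]
      show (B x v, B y v) = 0 ↔ _
      rw [Prod.mk_eq_zero]
    have hsurj : LinearMap.range π = ⊤ := by
      rw [LinearMap.range_eq_top]
      rintro ⟨a, b⟩
      refine ⟨a • y + b • x, ?_⟩
      rw [hπ]
      show (B x (a • y + b • x), B y (a • y + b • x)) = (a, b)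
      simp only [map_add, map_smul, smul_eq_mul, hxx, hxy, hyx, hyy, mul_zero, mul_one, add_zero,
        zero_add]
    have hdim : finrank F W = 2 * m + 1 := by
      have h1 := LinearMap.finrank_range_add_finrank_ker π
      rw [hsurj, finrank_top, Module.finrank_prod, Module.finrank_self, ← hW] at h1
      omega
    have hproj : ∀ v, v - B y v • x - B x v • y ∈ W := by
      intro v
      rw [hmemW]
      constructor
      · simp only [map_sub, map_smul, smul_eq_mul, hxx, hxy, mul_zero, mul_one, sub_zero, sub_self]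
      · simp only [map_sub, map_smul, smul_eq_mul, hyx, hyy, mul_zero, mul_one, sub_zero, sub_self]
    have hBW : (B.restrict W).Nondegenerate := by
      refine ((hS.restrict W).isRefl.nondegenerate_iff_separatingLeft).mpr ?_
      intro w hw
      apply Subtype.ext
      apply hB.1
      intro v
      have h1 : B (w : V) (v - B y v • x - B x v • y) = 0 := hw ⟨_, hproj v⟩
      have hwx : B (w : V) x = 0 := by rw [hS.eq]; exact ((hmemW _).mp w.2).1
      have hwy : B (w : V) y = 0 := by rw [hS.eq]; exact ((hmemW _).mp w.2).2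
      simp only [map_sub, map_smul, smul_eq_mul, hwx, hwy, mul_zero, sub_zero] at h1
      exact h1
    obtain ⟨e', h', w', hee, hhh, heh, hwe, hwh, hww⟩ := ih W (B.restrict W) (hS.restrict W) hBW hdim
    have hee' : ∀ a b, B (e' a : V) (e' b : V) = 0 := hee
    have hhh' : ∀ a b, B (h' a : V) (h' b : V) = 0 := hhh
    have heh' : ∀ a b, B (e' a : V) (h' b : V) = if a = b then 1 else 0 := heh
    have hwe' : ∀ a, B (w' : V) (e' a : V) = 0 := hwe
    have hwh' : ∀ a, B (w' : V) (h' a : V) = 0 := hwh
    have hww' : B (w' : V) (w' : V) ≠ 0 := hww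
    have hxW : ∀ v : W, B x (v : V) = 0 := fun v => ((hmemW _).mp v.2).1
    have hyW : ∀ v : W, B y (v : V) = 0 := fun v => ((hmemW _).mp v.2).2
    have hWx : ∀ v : W, B (v : V) x = 0 := fun v => by rw [hS.eq]; exact hxW v
    have hWy : ∀ v : W, B (v : V) y = 0 := fun v => by rw [hS.eq]; exact hyW v
    refine ⟨Fin.cons x (fun a => (e' a : V)), Fin.cons y (fun a => (h' a : V)), (w' : V),
      ?_, ?_, ?_, ?_, ?_, hww'⟩
    · intro a b
      refine Fin.cases ?_ (fun a => ?_) a <;> refine Fin.cases ?_ (fun b => ?_) b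
      · simp only [Fin.cons_zero]; exact hxx
      · simp only [Fin.cons_zero, Fin.cons_succ]; exact hxW _
      · simp only [Fin.cons_zero, Fin.cons_succ]; exact hWx _
      · simp only [Fin.cons_succ]; exact hee' a b
    · intro a b
      refine Fin.cases ?_ (fun a => ?_) a <;> refine Fin.cases ?_ (fun b => ?_) b
      · simp only [Fin.cons_zero]; exact hyy
      · simp only [Fin.cons_zero, Fin.cons_succ]; exact hyW _
      · simp only [Fin.cons_zero, Fin.cons_succ]; exact hWy _
      · simp only [Fin.cons_succ]; exact hhh' a b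
    · intro a b
      refine Fin.cases ?_ (fun a => ?_) a <;> refine Fin.cases ?_ (fun b => ?_) b
      · simp only [Fin.cons_zero, if_true]; exact hxy
      · simp only [Fin.cons_zero, Fin.cons_succ]
        rw [if_neg (Fin.succ_ne_zero b).symm]; exact hxW _
      · simp only [Fin.cons_zero, Fin.cons_succ]
        rw [if_neg (Fin.succ_ne_zero a)]; exact hWy _
      · simp only [Fin.cons_succ, Fin.succ_inj]; exact heh' a b
    · intro a
      refine Fin.cases ?_ (fun a => ?_) a
      · simp only [Fin.cons_zero]; exact hWx _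
      · simp only [Fin.cons_succ]; exact hwe' a
    · intro a
      refine Fin.cases ?_ (fun a => ?_) a
      · simp only [Fin.cons_zero]; exact hWy _
      · simp only [Fin.cons_succ]; exact hwh' a

end Cfsg.Agent.Lib.Helper16.OSemi
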