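import Mathlib
import Cfsg.Agent.Lib.Helper29.LeoFaithful
import Cfsg.Agent.Lib.helper15.BH.Defs

/-!
# Project BH, piece F1 : `central_of_index_one`
-/

set_option autoImplicit false
set_option linter.unusedVariables false
set_option linter.unusedSectionVars false
open scoped ComplexConjugate
open Classical

namespace Cfsg.Agent.Lib.helper15.BH

open Cfsg.Agent.Lib.helper7 Cfsg.Agent.Lib.helper2 Cfsg.Agent.Lib.Helper25 Cfsg.Agent.Lib.Helper29

universe u

section lin

variable {V : Type*} [AddCommGroup V] [Module ℂ V] [FiniteDimensional ℂ V]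

/-- an endomorphism of finite order all of whose powers have full trace is the identity -/
theorem bhf1_end_one (S : Module.End ℂ V) (o : ℕ) (ho : 0 < o) (hS : S ^ o = 1)
    (htr : ∀ k : ℕ, LinearMap.trace ℂ V (S ^ k) = (Module.finrank ℂ V : ℂ)) : S = 1 := by
  have ho' : (o : ℂ) ≠ 0 := Nat.cast_ne_zero.mpr ho.ne'
  set T : Module.End ℂ V := ∑ k ∈ Finset.range o, S ^ k with hT
  set P : Module.End ℂ V := (o : ℂ)⁻¹ • T with hP
  have hST : S * T = T := by
    rw [hT, Finset.mul_sum]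
    have h1 : ∑ k ∈ Finset.range o, S * S ^ k = ∑ k ∈ Finset.range o, S ^ (k + 1) :=
      Finset.sum_congr rfl (fun k _ => (pow_succ' S k).symm)
    rw [h1]
    have h2 := Finset.sum_range_succ' (fun k => S ^ k) o
    have h3 := Finset.sum_range_succ (fun k => S ^ k) o
    rw [h3, hS, pow_zero] at h2
    exact (add_right_cancel h2).symm
  have hSP : S * P = P := by
    rw [hP, mul_smul_comm, hST]
  have hSkP : ∀ k : ℕ, S ^ k * P = P := by
    intro k
    induction k with
    | zero => rw [pow_zero, one_mul]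
    | succ k ih => rw [pow_succ, mul_assoc, hSP, ih]
  have hPP : P * P = P := by
    have h1 : T * P = (o : ℂ) • P := by
      rw [hT, Finset.sum_mul, Finset.sum_congr rfl (fun k _ => hSkP k), Finset.sum_const,
        Finset.card_range, Nat.cast_smul_eq_nsmul]
    calc P * P = (o : ℂ)⁻¹ • (T * P) := by rw [hP, smul_mul_assoc]
      _ = P := by rw [h1, smul_smul, inv_mul_cancel₀ ho', one_smul]
  have htrP : LinearMap.trace ℂ V P = (Module.finrank ℂ V : ℂ) := by
    rw [hP, map_smul, hT, map_sum, Finset.sum_congr rfl (fun k _ => htr k), Finset.sum_const,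
      Finset.card_range, smul_eq_mul, nsmul_eq_mul]
    field_simp
  have hproj : LinearMap.IsProj (LinearMap.range P) P := by
    refine ⟨fun x => LinearMap.mem_range_self P x, ?_⟩
    rintro x ⟨y, rfl⟩
    show (P * P) y = P y
    rw [hPP]
  have h4 := hproj.trace
  rw [htrP] at h4
  have h5 : Module.finrank ℂ (LinearMap.range P) = Module.finrank ℂ V :=
    (Nat.cast_injective h4).symm
  have h6 : LinearMap.range P = ⊤ := Submodule.eq_top_of_finrank_eq h5
  have hP1 : P = 1 := by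
    apply LinearMap.ext
    intro v
    have : v ∈ LinearMap.range P := by rw [h6]; trivial
    obtain ⟨w, rfl⟩ := this
    show (P * P) w = P w
    rw [hPP]
  calc S = S * P := by rw [hP1, mul_one]
    _ = P := hSP
    _ = 1 := hP1

end lin

section rep

variable {G : Type*} [Group G] [Finite G] {V : Type*} [AddCommGroup V] [Module ℂ V]
  [FiniteDimensional ℂ V]

/-- an element whose powers have character values `μ ^ k · χ(1)` acts as the scalar `μ` -/
theorem bhf1_rep_scalar (ρ : Representation ℂ G V) (x : G) (μ : ℂ) (hμ : μ ≠ 0)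
    (h : ∀ k : ℕ, ρ.character (x ^ k) = μ ^ k * (Module.finrank ℂ V : ℂ)) :
    ρ x = μ • (1 : Module.End ℂ V) := by
  by_cases hn : Module.finrank ℂ V = 0
  · have : Subsingleton V := Module.finrank_zero_iff.mp hn
    apply LinearMap.ext
    intro v
    exact Subsingleton.elim _ _
  have hn' : (Module.finrank ℂ V : ℂ) ≠ 0 := Nat.cast_ne_zero.mpr hn
  have ho : 0 < orderOf x := orderOf_pos x
  have hμo : μ ^ orderOf x = 1 := by
    have h1 := h (orderOf x)
    rw [pow_orderOf_eq_one, Representation.char_one] at h1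
    have h2 : (1 - μ ^ orderOf x) * (Module.finrank ℂ V : ℂ) = 0 := by
      rw [sub_mul, one_mul, ← h1, sub_self]
    rcases mul_eq_zero.mp h2 with h3 | h3
    · exact (sub_eq_zero.mp h3).symm
    · exact absurd h3 hn'
  set S : Module.End ℂ V := μ⁻¹ • ρ x with hS
  have hSk : ∀ k : ℕ, S ^ k = (μ⁻¹) ^ k • ρ (x ^ k) := by
    intro k
    rw [hS, smul_pow, map_pow]
  have hS1 : S = 1 := by
    apply bhf1_end_one S (orderOf x) ho
    · rw [hSk, pow_orderOf_eq_one, map_one, inv_pow, hμo, inv_one, one_smul]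
    · intro k
      rw [hSk, map_smul]
      have : LinearMap.trace ℂ V (ρ (x ^ k)) = ρ.character (x ^ k) := rfl
      rw [this, h k, smul_eq_mul, inv_pow, ← mul_assoc, inv_mul_cancel₀ (pow_ne_zero k hμ),
        one_mul]
  have : ρ x = μ • S := by
    rw [hS, smul_smul, mul_inv_cancel₀ hμ, one_smul]
  rw [this, hS1]

end rep

section main

variable {G : Type u} [Group G] [Fintype G]
variable {p : ℕ} {C N P : Subgroup G} {hPC : P ≤ C} {π : ↥C →* ↥P}

/-- F1 : if `N = C`, a character whose restriction to `C` is irreducible has `[P, G]` in its kernel -/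
theorem central_of_index_one (h : LeoSetup p C N P hPC π) (hNC : Nat.card ↥N = Nat.card ↥C)
    (η : Cfsg.IrrCharacter G) (θ₁ : Cfsg.IrrCharacter ↥C) (hθ₁ : leoOm h θ₁ ≠ 1)
    (hmult : ∀ θ, leoM C (η : G → ℂ) θ = if θ ∈ leoOrb h θ₁ then 1 else 0) :
    ∀ x ∈ P, ∀ g : G, (η : G → ℂ) (x * g * x⁻¹ * g⁻¹) = (η : G → ℂ) 1 := by
  have : Fintype (Cfsg.IrrCharacter ↥C) := Fintype.ofFinite _
  -- the orbit is a singleton
  have hcard := leo_orbit_card h θ₁ hθ₁
  have hCpos : 0 < Nat.card ↥C := Nat.card_pos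
  have hone : (leoOrb h θ₁).card = 1 := by
    rw [hNC] at hcard
    have : (leoOrb h θ₁).card * Nat.card ↥C = 1 * Nat.card ↥C := by rw [hcard, one_mul]
    exact Nat.eq_of_mul_eq_mul_right hCpos this
  have horb : leoOrb h θ₁ = {θ₁} := by
    obtain ⟨a, ha⟩ := Finset.card_eq_one.mp hone
    have := self_mem_leoOrb h θ₁
    rw [ha, Finset.mem_singleton] at this
    rw [ha, this]
  -- the restriction of `η` to `C` is `θ₁`
  have hηchar : Cfsg.IsCharacter G (η : G → ℂ) := isCharacter_of_irr η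
  have hres : ∀ c : ↥C, (η : G → ℂ) (c : G) = (θ₁ : ↥C → ℂ) c := by
    intro c
    have h1 := congrFun (leo_res_expansion C (η : G → ℂ) hηchar) c
    rw [h1, Finset.sum_apply, Finset.sum_eq_single θ₁]
    · rw [hmult, horb, if_pos (Finset.mem_singleton_self _)]
      simp
    · intro θ _ hne
      rw [hmult, horb, if_neg (by rwa [Finset.mem_singleton])]
      simp
    · intro hθ
      exact absurd (Finset.mem_univ _) hθ
  intro x hx g
  obtain ⟨k, ρ, hρ, hχ⟩ := η.2
  set μ : ℂ := ((leoOm h θ₁ ⟨x, hx⟩ : ℂˣ) : ℂ) with hμ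
  have hμ0 : μ ≠ 0 := Units.ne_zero _
  have hdeg : (η : G → ℂ) 1 = (Module.finrank ℂ (Fin k → ℂ) : ℂ) := by
    rw [← hχ, Representation.char_one]
  have hpow : ∀ j : ℕ, ρ.character (x ^ j) = μ ^ j * (Module.finrank ℂ (Fin k → ℂ) : ℂ) := by
    intro j
    rw [hχ, ← hdeg]
    have hxj : x ^ j ∈ P := Subgroup.pow_mem P hx j
    have h1 := hres ⟨x ^ j, hPC hxj⟩
    have h2 := leoOm_apply_one h θ₁ ⟨x ^ j, hxj⟩
    have h3 : (Subgroup.inclusion hPC ⟨x ^ j, hxj⟩ : ↥C) = ⟨x ^ j, hPC hxj⟩ := rfl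
    rw [h3] at h2
    have h4 : (η : G → ℂ) 1 = (θ₁ : ↥C → ℂ) 1 := hres 1
    have h5 : (⟨x ^ j, hxj⟩ : ↥P) = (⟨x, hx⟩ : ↥P) ^ j := rfl
    show (η : G → ℂ) (x ^ j) = _
    rw [h4]
    change (η : G → ℂ) ((⟨x ^ j, hPC hxj⟩ : ↥C) : G) = _ at h1
    rw [show (η : G → ℂ) (x ^ j) = (η : G → ℂ) ((⟨x ^ j, hPC hxj⟩ : ↥C) : G) from rfl, h1, h2, h5,
      map_pow, Units.val_pow_eq_pow_val]
  have hsc := bhf1_rep_scalar ρ x μ hμ0 hpow
  have hcomm : ρ x * ρ g = ρ g * ρ x := by
    rw [hsc]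
    simp
  have hone : ρ (x * g * x⁻¹ * g⁻¹) = 1 := by
    rw [map_mul, map_mul, map_mul, hcomm, mul_assoc (ρ g), ← map_mul ρ x, mul_inv_cancel, map_one,
      mul_one, ← map_mul, mul_inv_cancel, map_one]
  show (η : G → ℂ) (x * g * x⁻¹ * g⁻¹) = (η : G → ℂ) 1
  rw [← hχ]
  show LinearMap.trace ℂ _ (ρ (x * g * x⁻¹ * g⁻¹)) = LinearMap.trace ℂ _ (ρ 1)
  rw [hone, map_one ρ]

end main

end Cfsg.Agent.Lib.helper15.BH
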