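import Mathlib
import Cfsg.Agent.Lib.helper7.BD.Defs
import Cfsg.Agent.Lib.helper7.BD.D1Defs
import Cfsg.Agent.Lib.Helper10.BDCHARS
import Cfsg.Agent.Lib.Helper13.BDKDN
import Cfsg.Agent.Lib.Helper24.CyclicInertial3
import Cfsg.Agent.Lib.Helper24.ExtFirstMain
import Cfsg.Agent.Lib.Helper24.StabIndex2
import Cfsg.Agent.S0908
import Cfsg.Agent.S0968

/-!
# Project BD, stage B, wave 4, piece ROOTEX : existence of the root data
-/

set_option autoImplicit false
set_option linter.unusedVariables false
set_option linter.unusedSectionVars false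
set_option linter.style.haveILetI false

namespace Cfsg.Agent.Lib.helper7.BD

open Cfsg.Agent.Lib.helper7

universe u

section root

variable {G : Type u} [Group G] [Fintype G] {M : Ideal Cfsg.AlgInt} {p : ℕ} [Fact p.Prime]
  {P : Sylow p G} {B : Set (Cfsg.IrrCharacter G)}
  {b : Set (Cfsg.IrrCharacter (Subgroup.centralizer ((P : Subgroup G) : Set G)))}
  {θ : Cfsg.IrrCharacter (Subgroup.centralizer ((P : Subgroup G) : Set G))} {T : Subgroup G}

/-- the stabilizer of a class function of `C_G(P)` in `N_G(P)`, as a subgroup -/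
def bd4rootex_T (P : Subgroup G) (f : ↥(Subgroup.centralizer (P : Set G)) → ℂ) : Subgroup G where
  carrier := {g | g ∈ Subgroup.normalizer (P : Set G) ∧
    ∀ c c' : ↥(Subgroup.centralizer (P : Set G)), (c' : G) = g * c * g⁻¹ → f c' = f c}
  one_mem' := by
    refine ⟨Subgroup.one_mem _, ?_⟩
    intro c c' h
    have : c' = c := by
      apply Subtype.ext
      rw [h, one_mul, inv_one, mul_one]
    rw [this]
  mul_mem' := by
    rintro g g' ⟨hg, hgf⟩ ⟨hg', hgf'⟩
    refine ⟨Subgroup.mul_mem _ hg hg', ?_⟩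
    intro c c' h
    have hn := Cfsg.Agent.Lib.Helper24.ci_normalizer_le P hg'
    have hmem : g' * (c : G) * g'⁻¹ ∈ Subgroup.centralizer (P : Set G) :=
      (Subgroup.mem_normalizer_iff.mp hn (c : G)).mp c.2
    have h1 := hgf' c ⟨_, hmem⟩ rfl
    have h2 := hgf ⟨_, hmem⟩ c' (by
      rw [h]
      show g * g' * (c : G) * (g * g')⁻¹ = g * (g' * (c : G) * g'⁻¹) * g⁻¹
      group)
    rw [h2, h1]
  inv_mem' := by
    rintro g ⟨hg, hgf⟩
    refine ⟨Subgroup.inv_mem _ hg, ?_⟩
    intro c c' h
    have := hgf c' c (by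
      rw [h]
      group)
    exact this.symm

theorem bd4rootex_mem_T (P : Subgroup G) (f : ↥(Subgroup.centralizer (P : Set G)) → ℂ) (g : G) :
    g ∈ bd4rootex_T P f ↔ (g ∈ Subgroup.normalizer (P : Set G) ∧
      ∀ c c' : ↥(Subgroup.centralizer (P : Set G)), (c' : G) = g * c * g⁻¹ → f c' = f c) :=
  Iff.rfl

/-- ROOTEX : existence of the root data -/
theorem root_exists (hM : Cfsg.IsPModular p M) (hdiv : p ∣ Nat.card G) (hsq : ¬ p ^ 2 ∣ Nat.card G)
    (B : Set (Cfsg.IrrCharacter G)) (hB : Cfsg.IsPBlock M B) (hd : 0 < Cfsg.blockDefect p B) :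
    ∃ (P : Sylow p G)
      (b : Set (Cfsg.IrrCharacter (Subgroup.centralizer ((P : Subgroup G) : Set G))))
      (θ : Cfsg.IrrCharacter (Subgroup.centralizer ((P : Subgroup G) : Set G))) (T : Subgroup G),
      RootHyp p M P B b θ T := by
  classical
  have hp : p.Prime := Fact.out
  haveI : Fintype (Cfsg.IrrCharacter G) := Fintype.ofFinite _
  obtain ⟨D, hD⟩ := Cfsg.Agent.Lib.Helper24.si_exists_defect hM B hB
  have hDcard := Cfsg.Agent.S0908.result p M hM B hB D hD
  have hfac : (Nat.card G).factorization p ≤ 1 := by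
    by_contra hlt
    apply hsq
    have h2 : 2 ≤ (Nat.card G).factorization p := by omega
    exact (pow_dvd_pow p h2).trans (Nat.ordProj_dvd _ _)
  have hdle : Cfsg.blockDefect p B ≤ (Nat.card G).factorization p := by
    unfold Cfsg.blockDefect
    exact Nat.sub_le _ _
  have hd1 : Cfsg.blockDefect p B = 1 := by omega
  rw [hd1, pow_one] at hDcard
  obtain ⟨P, hP⟩ := bdkdn_sylow p D hDcard hsq
  have hcardP : Nat.card P = p := by
    have : Nat.card ((P : Subgroup G)) = p := by rw [hP]; exact hDcard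
    exact this
  have hBP : Cfsg.IsDefectGroup p M B (P : Subgroup G) := by rw [hP]; exact hD
  have hPC : (P : Subgroup G) ≤ Subgroup.centralizer ((P : Subgroup G) : Set G) :=
    bdchars_le_centralizer (P : Subgroup G) hcardP
  have hPg : IsPGroup p (P : Subgroup G) := P.isPGroup'
  obtain ⟨b, hb, hbD, hind⟩ := Cfsg.Agent.Lib.Helper24.ef_exists hM (P : Subgroup G)
    (Subgroup.centralizer ((P : Subgroup G) : Set G)) hPg hPC le_rfl
    (Subgroup.centralizer_le_normalizer _) B hB hBP
  have hP' : IsPGroup p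
      ((P : Subgroup G).subgroupOf (Subgroup.centralizer ((P : Subgroup G) : Set G))) :=
    hPg.comap_subtype
  have hG' : (P : Subgroup G).subgroupOf (Subgroup.centralizer ((P : Subgroup G) : Set G)) ⊔
      Subgroup.centralizer
        (((P : Subgroup G).subgroupOf (Subgroup.centralizer ((P : Subgroup G) : Set G)) :
          Subgroup ↥(Subgroup.centralizer ((P : Subgroup G) : Set G))) :
            Set ↥(Subgroup.centralizer ((P : Subgroup G) : Set G))) = ⊤ := by
    have : Subgroup.centralizer
        (((P : Subgroup G).subgroupOf (Subgroup.centralizer ((P : Subgroup G) : Set G)) :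
          Subgroup ↥(Subgroup.centralizer ((P : Subgroup G) : Set G))) :
            Set ↥(Subgroup.centralizer ((P : Subgroup G) : Set G))) = ⊤ := by
      rw [eq_top_iff]
      intro c _
      rw [Subgroup.mem_centralizer_iff]
      intro y hy
      have hy' : (y : G) ∈ (P : Subgroup G) := hy
      have hc := c.2
      rw [Subgroup.mem_centralizer_iff] at hc
      apply Subtype.ext
      exact hc (y : G) hy'
    rw [this, sup_top_eq]
  obtain ⟨⟨θ, ⟨hθb, hθP⟩, _⟩, _, _⟩ := Cfsg.Agent.S0968.result p M hM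
    ((P : Subgroup G).subgroupOf (Subgroup.centralizer ((P : Subgroup G) : Set G))) hP' hG' b
    hb hbD
  refine ⟨P, b, θ, bd4rootex_T (P : Subgroup G)
    (θ : ↥(Subgroup.centralizer ((P : Subgroup G) : Set G)) → ℂ), ?_⟩
  exact
    { hM := hM
      card_P := hcardP
      hB := hB
      hBP := hBP
      hind := hind
      hθ := hθb
      hθP := fun x hx => hθP x hx
      hT := fun g => bd4rootex_mem_T _ _ g }

end root

end Cfsg.Agent.Lib.helper7.BD
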