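import Mathlib
import Cfsg.Agent.Lib.helper7.BD.Defs
import Cfsg.Agent.Lib.helper7.BD.D1Defs
import Cfsg.Agent.Lib.helper7.Br.Defs
import Cfsg.Agent.Lib.Helper10.BDLINKB
import Cfsg.Agent.Lib.Helper13.BDQUOT
import Cfsg.Agent.Lib.helper2.BD2IDNZ

/-!
# Project BD, stage B, piece SIMP : a simple `N`-module on which the block idempotent of `b` does not vanish
-/

set_option autoImplicit false
set_option linter.unusedVariables false
set_option linter.unusedSectionVars false

namespace Cfsg.Agent.Lib.helper7.BD

open Cfsg.Agent.Lib.helper7 Cfsg.Agent.Lib.helper7.Br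

universe u v w


section abstract

variable {F : Type*} [Field F] {G : Type u} [Group G] {C N : Subgroup G} (hCN : C ≤ N) [Fintype ↥C]
  [Fintype ↥N]

theorem bd2simp_subOp_mul {S : Type*} [AddCommGroup S] [Module F S] (σ : Representation F ↥N S)
    (a a' : GA F ↥C) : subOp hCN σ (a * a') = subOp hCN σ a ∘ₗ subOp hCN σ a' := by
  have h := bdlinkb_act_mul (σ.comp (Subgroup.inclusion hCN)) a a'
  exact h

theorem bd2simp_subOp_sub {S : Type*} [AddCommGroup S] [Module F S] (σ : Representation F ↥N S)
    (J : Subrepresentation σ) (a : ↥C → F) (x : J.toSubmodule) :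
    ((subOp hCN J.toRepresentation a x : J.toSubmodule) : S) = subOp hCN σ a (x : S) := by
  unfold subOp
  simp only [LinearMap.sum_apply, LinearMap.smul_apply, Submodule.coe_sum, Submodule.coe_smul]
  rfl

theorem bd2simp_subOp_quot {S : Type v} [AddCommGroup S] [Module F S] (σ : Representation F ↥N S)
    (J : Subrepresentation σ) (a : ↥C → F) (x : S) :
    subOp hCN (bdquot_rep σ J) a (Submodule.Quotient.mk x) =
      Submodule.Quotient.mk (subOp hCN σ a x) := by
  unfold subOp
  simp only [LinearMap.sum_apply, LinearMap.smul_apply, bdquot_rep_mk]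
  have h1 : ∀ y : S, (Submodule.Quotient.mk y : S ⧸ J.toSubmodule) = J.toSubmodule.mkQ y :=
    fun y => rfl
  simp only [h1, map_sum, map_smul]

theorem bd2simp_descent (a : GA F ↥C) (ha : a * a = a) :
    ∀ (d : ℕ) (U : Type u) [AddCommGroup U] [Module F U] [FiniteDimensional F U]
      (ρ : Representation F ↥N U), Module.finrank F U = d → subOp hCN ρ a ≠ 0 →
      ∃ (S : Type u) (_ : AddCommGroup S) (_ : Module F S) (_ : FiniteDimensional F S)
        (σ : Representation F ↥N S), σ.IsIrreducible ∧ subOp hCN σ a ≠ 0 := by
  intro d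
  induction d using Nat.strong_induction_on with
  | _ d ih =>
    intro U _ _ _ ρ hd hE
    by_cases hirr : ρ.IsIrreducible
    · exact ⟨U, inferInstance, inferInstance, inferInstance, ρ, hirr, hE⟩
    · -- a proper nonzero subrepresentation
      have hnt : Nontrivial (Subrepresentation ρ) := by
        refine ⟨⊥, ⊤, ?_⟩
        intro h
        apply hE
        apply LinearMap.ext
        intro u
        have hu : u ∈ (⊤ : Subrepresentation ρ).toSubmodule := Submodule.mem_top
        rw [← h] at hu
        have hu0 : u = 0 := (Submodule.mem_bot F).1 hu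
        rw [hu0, map_zero, map_zero]
      have hex : ∃ J : Subrepresentation ρ, J ≠ ⊥ ∧ J ≠ ⊤ := by
        by_contra hcon
        apply hirr
        refine { exists_pair_ne := hnt.exists_pair_ne, eq_bot_or_eq_top := ?_ }
        intro J
        by_contra h
        rw [not_or] at h
        exact hcon ⟨J, h.1, h.2⟩
      obtain ⟨J, hJb, hJt⟩ := hex
      have hJb' : J.toSubmodule ≠ ⊥ := fun h => hJb (Subrepresentation.toSubmodule_injective h)
      have hJt' : J.toSubmodule ≠ ⊤ := fun h => hJt (Subrepresentation.toSubmodule_injective h)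
      have hidem : subOp hCN ρ a ∘ₗ subOp hCN ρ a = subOp hCN ρ a := by
        rw [← bd2simp_subOp_mul, ha]
      by_cases hJ : subOp hCN J.toRepresentation a = 0
      · -- the quotient
        have hlt : Module.finrank F (U ⧸ J.toSubmodule) < d := by
          rw [← hd]
          have h1 := Submodule.finrank_quotient_add_finrank J.toSubmodule
          have h2 : 0 < Module.finrank F J.toSubmodule := by
            rw [Module.finrank_pos_iff]
            exact (Submodule.nontrivial_iff_ne_bot).2 hJb'
          omega
        refine ih _ hlt (U ⧸ J.toSubmodule) (bdquot_rep ρ J) rfl ?_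
        intro hq
        apply hE
        apply LinearMap.ext
        intro u
        have h1 : subOp hCN ρ a u ∈ J.toSubmodule := by
          have h0 := LinearMap.congr_fun hq (Submodule.Quotient.mk u)
          have h00 := bd2simp_subOp_quot hCN ρ J a u
          rw [h00, LinearMap.zero_apply] at h0
          exact (Submodule.Quotient.mk_eq_zero _).1 h0
        have h2 := bd2simp_subOp_sub hCN ρ J a ⟨_, h1⟩
        rw [hJ] at h2
        have h3 : subOp hCN ρ a (subOp hCN ρ a u) = subOp hCN ρ a u := by
          rw [← LinearMap.comp_apply, hidem]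
        rw [LinearMap.zero_apply]
        rw [← h3]
        exact h2.symm
      · -- the subrepresentation
        have hlt : Module.finrank F J.toSubmodule < d := by
          rw [← hd]
          exact Submodule.finrank_lt hJt'
        exact ih _ hlt J.toSubmodule J.toRepresentation rfl hJ

/-- the regular representation on functions -/
noncomputable def bd2simp_reg (F : Type*) [Field F] (H : Type u) [Group H] :
    Representation F H (H → F) where
  toFun n := LinearMap.funLeft F F (fun x => n⁻¹ * x)
  map_one' := by
    apply LinearMap.ext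
    intro f
    funext x
    simp [LinearMap.funLeft_apply]
  map_mul' n n' := by
    apply LinearMap.ext
    intro f
    funext x
    simp [LinearMap.funLeft_apply, mul_assoc]

theorem bd2simp_reg_apply (H : Type u) [Group H] (n : H) (f : H → F) (x : H) :
    bd2simp_reg F H n f x = f (n⁻¹ * x) := rfl

theorem bd2simp_reg_ne (a : ↥C → F) (ha : a ≠ 0) : subOp hCN (bd2simp_reg F ↥N) a ≠ 0 := by
  classical
  intro h
  apply ha
  funext c
  have h1 := congrFun (LinearMap.congr_fun h (Pi.single (1 : ↥N) (1 : F))) (Subgroup.inclusion hCN c)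
  rw [LinearMap.zero_apply, Pi.zero_apply] at h1
  unfold subOp at h1
  rw [LinearMap.sum_apply, Finset.sum_apply] at h1
  rw [Finset.sum_eq_single c] at h1
  · rw [LinearMap.smul_apply, Pi.smul_apply, bd2simp_reg_apply, inv_mul_cancel, Pi.single_eq_same,
      smul_eq_mul, mul_one] at h1
    exact h1
  · intro c' _ hc'
    rw [LinearMap.smul_apply, Pi.smul_apply, bd2simp_reg_apply, Pi.single_apply, if_neg, smul_zero]
    intro h2
    apply hc'
    have h3 : Subgroup.inclusion hCN c = Subgroup.inclusion hCN c' := by
      rw [inv_mul_eq_one] at h2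
      exact h2.symm
    exact (Subgroup.inclusion_injective hCN h3).symm
  · intro h2
    exact absurd (Finset.mem_univ c) h2

end abstract

section root

variable {G : Type u} [Group G] [Fintype G] {M : Ideal Cfsg.AlgInt} {p : ℕ} [Fact p.Prime]
  {P : Sylow p G} {B : Set (Cfsg.IrrCharacter G)}
  {b : Set (Cfsg.IrrCharacter (Subgroup.centralizer ((P : Subgroup G) : Set G)))}
  {θ : Cfsg.IrrCharacter (Subgroup.centralizer ((P : Subgroup G) : Set G))} {T : Subgroup G}

variable [Fintype ↥(Subgroup.centralizer ((P : Subgroup G) : Set G))]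
  [Fintype ↥(Subgroup.normalizer ((P : Subgroup G) : Set G))]

/-- M2 = SIMP : a simple `N`-module on which the block idempotent of `b` does not vanish -/
theorem root_exists_simple (h : RootHyp p M P B b θ T) (hMp : M.IsPrime) :
    ∃ (S : Type u) (_ : AddCommGroup S) (_ : Module (h7_resRing M hMp) S)
      (_ : FiniteDimensional (h7_resRing M hMp) S)
      (σ : Representation (h7_resRing M hMp) ↥(Subgroup.normalizer ((P : Subgroup G) : Set G)) S),
      σ.IsIrreducible ∧
      subOp (Subgroup.centralizer_le_normalizer ((P : Subgroup G) : Set G)) σ (eBar hMp b) ≠ 0 := by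
  have hb : Cfsg.IsPBlock M b := h.hind.1
  have hne : eBar hMp b ≠ 0 := eBar_ne_zero h.hM b hb
  have hidem : eBar hMp b * eBar hMp b = eBar hMp b := eBar_idem hMp b hb
  have hreg := bd2simp_reg_ne (F := h7_resRing M hMp)
    (Subgroup.centralizer_le_normalizer ((P : Subgroup G) : Set G)) (eBar hMp b) hne
  exact bd2simp_descent (Subgroup.centralizer_le_normalizer ((P : Subgroup G) : Set G))
    (eBar hMp b) hidem _ _ (bd2simp_reg (h7_resRing M hMp) _) rfl hreg

end root

end Cfsg.Agent.Lib.helper7.BD
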