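import Mathlib
import Cfsg.Agent.Lib.helper15.PSL.Defs

/-!
# Project PSL (S4504), piece SINGSUM2 : core (SINGSUM and CENPROD as hypotheses)
-/

set_option autoImplicit false
set_option linter.unusedVariables false
set_option linter.unusedSectionVars false
open scoped ComplexConjugate
open Classical

namespace Cfsg.Agent.Lib.helper15.PSL

open Cfsg.Agent.Lib.helper7 Cfsg.Agent.Lib.helper7.BR Cfsg.Agent.Lib.helper2 Cfsg.Agent.Lib.Helper25
  Cfsg.Agent.Lib.Helper29 Cfsg.Agent.Lib.helper15.BH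

universe u

variable {G : Type u} [Group G] [Fintype G] {p : ℕ} [Fact p.Prime]

/-- `P ∩ Z(G) = 1` when `|P| = p` and `p ∤ |Z(G)|` -/
theorem pslsingsum2_inter {P : Sylow p G} (hP : Nat.card ↥(P : Subgroup G) = p)
    (hZ : ¬ p ∣ Nat.card ↥(Subgroup.center G)) (y : G) (hyP : y ∈ (P : Subgroup G))
    (hyZ : y ∈ Subgroup.center G) : y = 1 := by
  have hpp := (Fact.out : p.Prime)
  by_contra hy
  have h1 : orderOf y ∣ p := by
    have := Subgroup.orderOf_dvd_natCard (P : Subgroup G) hyP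
    rwa [hP] at this
  have h2 : orderOf y ∣ Nat.card ↥(Subgroup.center G) :=
    Subgroup.orderOf_dvd_natCard (Subgroup.center G) hyZ
  rcases (Nat.dvd_prime hpp).mp h1 with h3 | h3
  · exact hy (orderOf_eq_one_iff.mp h3)
  · rw [h3] at h2
    exact hZ h2

/-- `p ∣ o(x ζ)` iff `x ≠ 1` for `x ∈ P`, `ζ ∈ Z(G)` -/
theorem pslsingsum2_dvd_iff {P : Sylow p G} (hP : Nat.card ↥(P : Subgroup G) = p)
    (hZ : ¬ p ∣ Nat.card ↥(Subgroup.center G)) (x : G) (hx : x ∈ (P : Subgroup G)) (ζ : G)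
    (hζ : ζ ∈ Subgroup.center G) : p ∣ orderOf (x * ζ) ↔ x ≠ 1 := by
  have hpp := (Fact.out : p.Prime)
  constructor
  · rintro h rfl
    rw [one_mul] at h
    exact hZ (h.trans (Subgroup.orderOf_dvd_natCard (Subgroup.center G) hζ))
  · intro hx1
    have hcomm : Commute x ζ := (Subgroup.mem_center_iff.mp hζ) x
    have hpow : x ^ orderOf (x * ζ) * ζ ^ orderOf (x * ζ) = 1 := by
      rw [← hcomm.mul_pow, pow_orderOf_eq_one]
    have h1 : x ^ orderOf (x * ζ) = 1 := by
      apply pslsingsum2_inter hP hZ _ (pow_mem hx _)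
      have : x ^ orderOf (x * ζ) = (ζ ^ orderOf (x * ζ))⁻¹ := eq_inv_of_mul_eq_one_left hpow
      rw [this]
      exact inv_mem (pow_mem hζ _)
    have h2 : orderOf x ∣ orderOf (x * ζ) := orderOf_dvd_of_pow_eq_one h1
    have h3 : orderOf x ∣ p := by
      have := Subgroup.orderOf_dvd_natCard (P : Subgroup G) hx
      rwa [hP] at this
    rcases (Nat.dvd_prime hpp).mp h3 with h4 | h4
    · exact absurd (orderOf_eq_one_iff.mp h4) hx1
    · rwa [h4] at h2

/-- SINGSUM2, core -/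
theorem pslsingsum2_core {P : Sylow p G} (hP : Nat.card ↥(P : Subgroup G) = p) (F : G → ℂ)
    (hSS : ∑ g : G, (if p ∣ orderOf g then F g else 0) =
      ((nrm P).index : ℂ) * ∑ c : ↥(cen P), (if p ∣ orderOf (c : G) then F (c : G) else 0))
    (hCP : ¬ p ∣ Nat.card ↥(Subgroup.center G) ∧
      ∀ c ∈ cen P, ∃ x ∈ (P : Subgroup G), ∃ ζ ∈ Subgroup.center G, c = x * ζ) :
    ∑ g : G, (if p ∣ orderOf g then F g else 0) =
      ((nrm P).index : ℂ) * ∑ x : ↥(P : Subgroup G), ∑ ζ : ↥(Subgroup.center G),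
        (if (x : G) = 1 then 0 else F ((x : G) * (ζ : G))) := by
  obtain ⟨hZ, hsurj⟩ := hCP
  have hcyc : IsCyclic ↥(P : Subgroup G) := isCyclic_of_prime_card (p := p) hP
  have hPC : (P : Subgroup G) ≤ cen P := by
    intro x hx
    rw [Subgroup.mem_centralizer_iff]
    intro y hy
    have hmc : IsMulCommutative ↥(P : Subgroup G) := IsCyclic.isMulCommutative
    have := isMulCommutative_iff.mp hmc ⟨y, hy⟩ ⟨x, hx⟩
    exact congrArg Subtype.val this
  have hZC : Subgroup.center G ≤ cen P := Subgroup.center_le_centralizer _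
  let φ : ↥(P : Subgroup G) × ↥(Subgroup.center G) → ↥(cen P) :=
    fun xz => ⟨(xz.1 : G) * (xz.2 : G), mul_mem (hPC xz.1.2) (hZC xz.2.2)⟩
  have hφ : Function.Bijective φ := by
    constructor
    · rintro ⟨x, ζ⟩ ⟨x', ζ'⟩ h
      have h0 : (x : G) * (ζ : G) = (x' : G) * (ζ' : G) := congrArg Subtype.val h
      have h1 : (x' : G)⁻¹ * (x : G) = (ζ' : G) * (ζ : G)⁻¹ := by
        have : (x' : G)⁻¹ * ((x : G) * (ζ : G)) * (ζ : G)⁻¹ =
            (x' : G)⁻¹ * ((x' : G) * (ζ' : G)) * (ζ : G)⁻¹ := by rw [h0]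
        simpa [mul_assoc] using this
      have h2 : (x' : G)⁻¹ * (x : G) = 1 := by
        apply pslsingsum2_inter hP hZ _ (mul_mem (inv_mem x'.2) x.2)
        rw [h1]
        exact mul_mem ζ'.2 (inv_mem ζ.2)
      have h3 : (x : G) = (x' : G) := by
        have := eq_of_inv_mul_eq_one h2
        exact this.symm
      have h4 : (ζ : G) = (ζ' : G) := by
        rw [h3] at h0
        exact mul_left_cancel h0
      exact Prod.ext (Subtype.ext h3) (Subtype.ext h4)
    · rintro ⟨c, hc⟩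
      obtain ⟨x, hx, ζ, hζ, rfl⟩ := hsurj c hc
      exact ⟨(⟨x, hx⟩, ⟨ζ, hζ⟩), rfl⟩
  rw [hSS]
  congr 1
  rw [← Fintype.sum_bijective φ hφ
    (fun xz => if p ∣ orderOf ((φ xz : ↥(cen P)) : G) then F ((φ xz : ↥(cen P)) : G) else 0)
    (fun c => if p ∣ orderOf (c : G) then F (c : G) else 0) (fun _ => rfl)]
  rw [Fintype.sum_prod_type]
  apply Finset.sum_congr rfl
  intro x _
  apply Finset.sum_congr rfl
  intro ζ _
  have hiff := pslsingsum2_dvd_iff hP hZ (x : G) x.2 (ζ : G) ζ.2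
  show (if p ∣ orderOf ((x : G) * (ζ : G)) then F ((x : G) * (ζ : G)) else 0) = _
  by_cases hx1 : (x : G) = 1
  · rw [if_pos hx1, if_neg]
    rw [hiff]
    exact fun h => h hx1
  · rw [if_neg hx1, if_pos (hiff.mpr hx1)]

end Cfsg.Agent.Lib.helper15.PSL
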