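import Mathlib
import Cfsg.Agent.Lib.helper15.PSL.Defs
import Cfsg.Agent.Lib.Helper9.PSLSINGSUM
import Cfsg.Agent.Lib.Helper9.PSLCENPROD
import Cfsg.Agent.Lib.Helper16.PSLSINGSUM2core

/-!
# Project PSL (S4504), piece SINGSUM2 : the sum of a class function over the `p`-singular elements
-/

set_option autoImplicit false
set_option linter.unusedVariables false
set_option linter.unusedSectionVars false
open scoped ComplexConjugate
open Classical

namespace Cfsg.Agent.Lib.helper15.PSL

open Cfsg.Agent.Lib.helper7 Cfsg.Agent.Lib.helper7.BR Cfsg.Agent.Lib.helper2 Cfsg.Agent.Lib.Helper25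
  Cfsg.Agent.Lib.Helper29 Cfsg.Agent.Lib.helper15.BH

universe u

variable {G : Type u} [Group G] [Fintype G] {p : ℕ} [Fact p.Prime]

/-- SINGSUM2 : the sum of a class function over the `p`-singular elements, in the local configuration -/
theorem sing_sum_loc {f : ℕ} {P : Sylow p G} (hL : Loc p f P) (F : G → ℂ)
    (hF : Cfsg.IsClassFunction G F) :
    ∑ g : G, (if p ∣ orderOf g then F g else 0) =
      ((nrm P).index : ℂ) * ∑ x : ↥(P : Subgroup G), ∑ ζ : ↥(Subgroup.center G),
        (if (x : G) = 1 then 0 else F ((x : G) * (ζ : G))) :=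
  pslsingsum2_core hL.cardP F (sing_sum P hL.cardP F hF) (cen_prod hL)

end Cfsg.Agent.Lib.helper15.PSL
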