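import Mathlib
import Cfsg.Agent.Lib.helper7.BR.Defs

/-!
Project BR (S4701 / S0999), wave 1, piece SET2 (helper16): the order formula
`|G| = p q w (1 + n p)`.
-/

set_option autoImplicit false
set_option linter.unusedVariables false
set_option linter.unusedSectionVars false

namespace Cfsg.Agent.Lib.helper7.BR

open Classical
open Cfsg.Agent.Lib.Helper25

universe u

variable {G : Type u} [Group G] [Fintype G] {p : ℕ} [Fact p.Prime]

/-- `|N_G(P) : C_G(P)|` divides `p - 1` when `|P| = p`. -/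
theorem brset2_relIndex_dvd (P : Sylow p G) (hP : Nat.card ↥(P : Subgroup G) = p) :
    (cen P).relIndex (nrm P) ∣ p - 1 := by
  have hp : p.Prime := Fact.out
  have hcyc : IsCyclic ↥(P : Subgroup G) := isCyclic_of_prime_card hP
  have key := Subgroup.card_dvd_of_injective _
    (QuotientGroup.kerLift_injective (P : Subgroup G).normalizerMonoidHom)
  rw [Subgroup.normalizerMonoidHom_ker, ← Subgroup.index, ← Subgroup.relIndex] at key
  rw [hcyc.card_mulAut, hP, Nat.totient_prime hp] at key
  exact key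

/-- SET2 : the order formula `|G| = p q w (1 + n p)` with `q = |N : C| ∣ p - 1`, `|C| = p w`,
`|G : N| = 1 + n p`, `n ≥ 1`. (`N/C ↪ Aut(P)`, `|Aut(P)| = p - 1`; Sylow counting.) -/
theorem order_formula (P : Sylow p G) (hP : Nat.card ↥(P : Subgroup G) = p)
    (hPn : ¬ (P : Subgroup G).Normal) :
    ∃ q w n : ℕ, q ∣ p - 1 ∧ 1 ≤ q ∧ 1 ≤ w ∧ 1 ≤ n ∧
      (cen P).relIndex (nrm P) = q ∧ Nat.card ↥(cen P) = p * w ∧ Nat.card ↥(nrm P) = p * q * w ∧
      (nrm P).index = 1 + n * p ∧ (cen P).index = q * (1 + n * p) ∧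
      Nat.card G = p * q * w * (1 + n * p) := by
  have hp : p.Prime := Fact.out
  have hcyc : IsCyclic ↥(P : Subgroup G) := isCyclic_of_prime_card hP
  have hcomm : IsMulCommutative ↥(P : Subgroup G) := hcyc.isMulCommutative
  have hPC : (P : Subgroup G) ≤ cen P := Subgroup.le_centralizer (P : Subgroup G)
  have hCN : cen P ≤ nrm P := Subgroup.centralizer_le_normalizer _
  -- `w`
  have hpC : p ∣ Nat.card ↥(cen P) := by
    have := Subgroup.card_dvd_of_le hPC
    rwa [hP] at this
  obtain ⟨w, hw⟩ := hpC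
  have hC0 : Nat.card ↥(cen P) ≠ 0 := Nat.card_pos.ne'
  have hw1 : 1 ≤ w := by
    rcases Nat.eq_zero_or_pos w with h0 | h0
    · rw [h0, mul_zero] at hw; exact absurd hw hC0
    · exact h0
  -- `q`
  have hq0 : (cen P).relIndex (nrm P) ≠ 0 := by
    rw [Subgroup.relIndex]
    exact Subgroup.index_ne_zero_of_finite
  -- `|N| = |C| q`
  have hN : Nat.card ↥(nrm P) = Nat.card ↥(cen P) * (cen P).relIndex (nrm P) := by
    have h1 := Subgroup.card_mul_index ((cen P).subgroupOf (nrm P))
    have h2 : Nat.card ↥((cen P).subgroupOf (nrm P)) = Nat.card ↥(cen P) :=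
      Nat.card_congr (Subgroup.subgroupOfEquivOfLe hCN).toEquiv
    rw [h2] at h1
    rw [Subgroup.relIndex, h1]
  -- the number of Sylow subgroups
  have hidx : Nat.card (Sylow p G) = (nrm P).index := P.card_eq_index_normalizer
  have hmod : Nat.card (Sylow p G) ≡ 1 [MOD p] := card_sylow_modEq_one p G
  have hne1 : Nat.card (Sylow p G) ≠ 1 := by
    intro h1
    have hsub : Subsingleton (Sylow p G) := (Nat.card_eq_one_iff_unique.mp h1).1
    exact hPn (Sylow.normal_of_subsingleton P)
  have hpos : 0 < Nat.card (Sylow p G) := Nat.card_pos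
  -- `n`
  have hdvd : p ∣ Nat.card (Sylow p G) - 1 := (Nat.modEq_iff_dvd' hpos).mp hmod.symm
  obtain ⟨n, hn⟩ := hdvd
  have hn1 : 1 ≤ n := by
    rcases Nat.eq_zero_or_pos n with h0 | h0
    · rw [h0, mul_zero] at hn; omega
    · exact h0
  have hNidx : (nrm P).index = 1 + n * p := by
    rw [← hidx]
    have : p * n = n * p := mul_comm _ _
    omega
  have hCidx : (cen P).index = (cen P).relIndex (nrm P) * (1 + n * p) := by
    rw [← hNidx]
    exact (Subgroup.relIndex_mul_index hCN).symm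
  refine ⟨(cen P).relIndex (nrm P), w, n, brset2_relIndex_dvd P hP, Nat.pos_of_ne_zero hq0, hw1, hn1,
    rfl, hw, ?_, hNidx, hCidx, ?_⟩
  · rw [hN, hw]; ring
  · rw [← Subgroup.card_mul_index (nrm P), hN, hw, hNidx]; ring

end Cfsg.Agent.Lib.helper7.BR
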