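import Mathlib
import Cfsg.Agent.Lib.helper7.BR.Defs
import Cfsg.Agent.Lib.Helper16.BRSET2
import Cfsg.Agent.Lib.Helper1.BRSET3
import Cfsg.Agent.Lib.Helper28.BRN1a
import Cfsg.Agent.Lib.Helper28.BRN1b
import Cfsg.Agent.Lib.Helper28.BRN1c
import Cfsg.Agent.S0732

/-!
Project BR (S4701 / S0999), wave 1, piece N1d (helper16): the case `|G : N_G(P)| = 1 + p`.
-/

set_option autoImplicit false
set_option linter.unusedVariables false
set_option linter.unusedSectionVars false

namespace Cfsg.Agent.Lib.helper7.BR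

open Classical
open Cfsg.Agent.Lib.Helper25

universe u

variable {G : Type u} [Group G] [Fintype G] {p : ℕ} [Fact p.Prime]

/-- a surjective image of a perfect group is perfect -/
theorem brn1d_perfect_of_surj {G' : Type*} [Group G'] (hperf : commutator G = ⊤) (f : G →* G')
    (hf : Function.Surjective f) : commutator G' = ⊤ := by
  rw [commutator_def] at hperf ⊢
  have h := Subgroup.map_commutator (⊤ : Subgroup G) ⊤ f
  rw [hperf] at h
  rw [← Subgroup.map_top_of_surjective f hf, ← h]

/-- N1d : the case `n = 1`, via S0732 applied to the image of `G` in `Sym(Syl_p(G))`. -/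
theorem case_n_eq_one (hperf : commutator G = ⊤) (hbig : Nat.card G < p ^ 3) (P : Sylow p G)
    (hP : Nat.card ↥(P : Subgroup G) = p) (hPn : ¬ (P : Subgroup G).Normal)
    (hidx : (nrm P).index = 1 + p)
    (h2 : ∀ N : Subgroup G, N.Normal → Nat.card ↥N ≠ 2) :
    3 < p ∧ Nonempty (G ≃* Matrix.ProjectiveSpecialLinearGroup (Fin 2) (ZMod p)) := by
  have hp : p.Prime := Fact.out
  obtain ⟨q, w, n, hqdvd, hq1, hw1, hn1, hqrel, hC, hN, hNidx, hCidx, hGcard⟩ := order_formula P hP hPn
  -- `n = 1`
  have hn : n = 1 := by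
    rw [hidx] at hNidx
    have h1 : p = n * p := by omega
    have : 1 * p = n * p := by rw [one_mul]; exact h1
    exact (Nat.eq_of_mul_eq_mul_right hp.pos this).symm
  subst hn
  rw [one_mul] at hGcard
  -- `q ≥ 2`, `p ≥ 3`
  have hq2 : 2 ≤ q := by
    have := relIndex_ne_one hperf P hP
    rw [hqrel] at this
    omega
  have hp3 : 3 ≤ p := by
    have hle : q ≤ p - 1 := Nat.le_of_dvd (by have := hp.two_le; omega) hqdvd
    omega
  have hp2 : p ≠ 2 := by omega
  -- `q w < p`
  have hqw : q * w < p := by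
    by_contra hcon
    have hcon' : p ≤ q * w := Nat.le_of_not_lt hcon
    have h1 : p * (p * (1 + p)) ≤ p * (q * w * (1 + p)) :=
      Nat.mul_le_mul_left _ (Nat.mul_le_mul_right _ hcon')
    have h2' : p * (q * w * (1 + p)) = Nat.card G := by rw [hGcard]; ring
    have h3 : p ^ 3 < p * (p * (1 + p)) := by
      have : p * (p * (1 + p)) = p ^ 3 + p ^ 2 := by ring
      have hpos : 0 < p ^ 2 := pow_pos hp.pos 2
      omega
    omega
  -- the action on the Sylow subgroups
  haveI : Fintype (Sylow p G) := Fintype.ofFinite _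
  let φ : G →* Equiv.Perm (Sylow p G) := MulAction.toPermHom G (Sylow p G)
  obtain ⟨hKN, hKp⟩ := sylow_kernel P hP hPn
  have hα : Fintype.card (Sylow p G) = p + 1 := by
    rw [← Nat.card_eq_fintype_card, P.card_eq_index_normalizer]
    have : (nrm P).index = p + 1 := by rw [hidx, add_comm]
    exact this
  -- `|K|` divides `q w`
  have hKdvd : Nat.card ↥φ.ker ∣ q * w := by
    have h1 : Nat.card ↥φ.ker ∣ Nat.card ↥(nrm P) := Subgroup.card_dvd_of_le hKN
    rw [hN] at h1
    have hcop : Nat.Coprime (Nat.card ↥φ.ker) p :=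
      (Nat.Coprime.symm ((Nat.Prime.coprime_iff_not_dvd hp).mpr hKp))
    have h1' : Nat.card ↥φ.ker ∣ p * (q * w) := by rwa [mul_assoc] at h1
    exact hcop.dvd_of_dvd_mul_left h1'
  obtain ⟨d, hd⟩ := hKdvd
  have hKpos : 0 < Nat.card ↥φ.ker := Nat.card_pos
  have hdlt : d < p := by
    have : d ≤ q * w := by
      rw [hd]
      exact Nat.le_mul_of_pos_left d hKpos
    omega
  -- the order of the image
  have hcardR : Nat.card ↥φ.range * Nat.card ↥φ.ker = Nat.card G := by
    have h1 := Subgroup.card_eq_card_quotient_mul_card_subgroup φ.ker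
    have h2' : Nat.card (G ⧸ φ.ker) = Nat.card ↥φ.range :=
      Nat.card_congr (QuotientGroup.quotientKerEquivRange φ).toEquiv
    rw [h2'] at h1
    exact h1.symm
  have hR : Nat.card ↥φ.range = (p + 1) * p * d := by
    have h1 : Nat.card ↥φ.range * Nat.card ↥φ.ker = (p + 1) * p * d * Nat.card ↥φ.ker := by
      rw [hcardR, hGcard, mul_assoc p q w, hd]; ring
    exact Nat.eq_of_mul_eq_mul_right hKpos h1
  -- transitivity
  haveI : MulAction.IsPretransitive ↥φ.range (Sylow p G) := by
    constructor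
    intro P₁ P₂
    obtain ⟨g, hg⟩ := MulAction.exists_smul_eq G P₁ P₂
    exact ⟨⟨φ g, ⟨g, rfl⟩⟩, hg⟩
  -- the surjection onto the image
  have hsurj : Function.Surjective φ.rangeRestrict := φ.rangeRestrict_surjective
  rcases Cfsg.Agent.S0732.result hp hα φ.range hR hdlt with ⟨-, ⟨e⟩⟩ | ⟨h2d, ⟨e⟩⟩ | ⟨r, hr, hpr, -, e, he⟩
  · -- `PGL(2,p)` is not perfect
    exfalso
    apply pgl_not_perfect (p := p) hp2
    exact brn1d_perfect_of_surj hperf (e.toMonoidHom.comp φ.rangeRestrict)
      (e.surjective.comp hsurj)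
  · -- `PSL(2,p)`
    have hK2 : Nat.card ↥φ.ker * (p - 1) = 2 * (q * w) := by
      rw [← h2d, hd]; ring
    have hKle : Nat.card ↥φ.ker ≤ 2 := by
      by_contra hcon
      have hcon' : 3 ≤ Nat.card ↥φ.ker := by omega
      have h1 : 3 * (p - 1) ≤ Nat.card ↥φ.ker * (p - 1) := Nat.mul_le_mul_right _ hcon'
      omega
    have hKne2 : Nat.card ↥φ.ker ≠ 2 := h2 φ.ker (MonoidHom.normal_ker φ)
    have hK1 : Nat.card ↥φ.ker = 1 := by omega
    have hKbot : φ.ker = ⊥ := Subgroup.card_eq_one.mp hK1
    have hinj : Function.Injective φ := (MonoidHom.ker_eq_bot_iff φ).mp hKbot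
    refine ⟨?_, ⟨(MonoidHom.ofInjective hinj).trans e⟩⟩
    rw [hK1, one_mul] at hK2
    have : 4 ≤ 2 * (q * w) := by
      have : 2 * 1 ≤ q * w := Nat.mul_le_mul hq2 hw1
      omega
    omega
  · -- semi-affine: a perfect subgroup is trivial
    exfalso
    let ψ : Equiv.Perm (Sylow p G) →* Equiv.Perm (GaloisField 2 r) := (Equiv.permCongrHom e).toMonoidHom
    let H : Subgroup (Equiv.Perm (GaloisField 2 r)) := φ.range.map ψ
    have hH : H ≤ Cfsg.semiaffineGroup (GaloisField 2 r) := by
      rintro _ ⟨σ, hσ, rfl⟩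
      have := he ⟨σ, hσ⟩
      have e1 : ψ σ = e.symm.trans (Equiv.trans σ e) := by
        ext x
        rfl
      rw [e1]
      exact this
    -- `G → H` surjective
    let f : G →* ↥H := (ψ.subgroupMap φ.range).comp φ.rangeRestrict
    have hf : Function.Surjective f :=
      (ψ.subgroupMap_surjective φ.range).comp hsurj
    have hHperf : commutator ↥H = ⊤ := brn1d_perfect_of_surj hperf f hf
    have hHbot : H = ⊥ := semiaffine_perfect_bot H hH hHperf
    -- so the image of `G` is trivial, contradicting transitivity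
    have hRbot : φ.range = ⊥ := by
      have hinj : Function.Injective ψ := (Equiv.permCongrHom e).injective
      have : φ.range.map ψ = (⊥ : Subgroup _).map ψ := by rw [Subgroup.map_bot]; exact hHbot
      exact Subgroup.map_injective hinj this
    have hcard1 : Nat.card ↥φ.range = 1 := by rw [hRbot]; exact Subgroup.card_bot
    rw [hR] at hcard1
    have : 3 ≤ (p + 1) * p * d := by
      have hd0 : 0 < d := by
        rcases Nat.eq_zero_or_pos d with h0 | h0
        · rw [h0, mul_zero] at hcard1; omega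
        · exact h0
      calc 3 ≤ p := hp3
        _ ≤ (p + 1) * p * d := by
          have : p ≤ (p + 1) * p := Nat.le_mul_of_pos_left p (by omega)
          exact le_trans this (Nat.le_mul_of_pos_right _ hd0)
    omega

end Cfsg.Agent.Lib.helper7.BR
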