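import Mathlib

set_option autoImplicit false

namespace Cfsg.Agent.Lib.Helper16

open Module

theorem exists_algebra_of_card {K F : Type*} [Field K] [Fintype K] [Field F] [Fintype F] {q : ℕ}
    (hK : Fintype.card K = q ^ 2) (hF : Fintype.card F = q) :
    ∃ alg : Algebra F K, @Module.finrank F K _ _ (alg.toModule) = 2 := by
  obtain ⟨p, hp⟩ := CharP.exists F
  have hprime : Fact p.Prime := ⟨CharP.char_is_prime F p⟩
  let E := FiniteField.Extension F p 2
  have hfinE : Fintype E := Fintype.ofFinite E
  have hcardE : Fintype.card E = Fintype.card K := by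
    rw [hK, Fintype.card_eq_nat_card, FiniteField.natCard_extension, Nat.card_eq_fintype_card, hF]
  let e : E ≃+* K := FiniteField.ringEquivOfCardEq hcardE
  let alg : Algebra F K := ((e : E →+* K).comp (algebraMap F E)).toAlgebra
  refine ⟨alg, ?_⟩
  have h1 : Fintype.card K = Fintype.card F ^ @Module.finrank F K _ _ (alg.toModule) := by
    let := alg
    exact Module.card_eq_pow_finrank
  rw [hK, hF] at h1
  have hq : 2 ≤ q := by
    rw [← hF]
    exact Fintype.one_lt_card
  exact (Nat.pow_right_injective hq h1).symm


end Cfsg.Agent.Lib.Helper16
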