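import Cfsg.Agent.Lib.Helper16.Witt
import Cfsg.Prelude.Def_Classical
set_option autoImplicit false

namespace Cfsg.Agent.Lib.Helper16

open Module

universe u v

section
variable {F : Type u} [Field F] {V : Type v} [AddCommGroup V] [Module F V]

theorem polar_eq_zero_of_ts (Q : QuadraticForm F V) (U : Submodule F V) (hU : ∀ u ∈ U, Q u = 0) {x y : V}
    (hx : x ∈ U) (hy : y ∈ U) : QuadraticMap.polar ⇑Q x y = 0 := by
  unfold QuadraticMap.polar
  rw [hU _ (U.add_mem hx hy), hU x hx, hU y hy]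
  ring

theorem hypFam_cons' (Q : QuadraticForm F V) {e₀ f₀ : V} (hQe : Q e₀ = 0) (hQf : Q f₀ = 0)
    (hef : QuadraticMap.polar ⇑Q e₀ f₀ = 1) {k : ℕ} (e' f' : Fin k → perp2 Q e₀ f₀)
    (h : (∀ i, (Q.comp (perp2 Q e₀ f₀).subtype) (e' i) = 0 ∧ (Q.comp (perp2 Q e₀ f₀).subtype) (f' i) = 0) ∧
      (∀ i j, QuadraticMap.polar ⇑(Q.comp (perp2 Q e₀ f₀).subtype) (e' i) (f' j) = if i = j then 1 else 0) ∧
      (∀ i j, QuadraticMap.polar ⇑(Q.comp (perp2 Q e₀ f₀).subtype) (e' i) (e' j) = 0 ∧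
        QuadraticMap.polar ⇑(Q.comp (perp2 Q e₀ f₀).subtype) (f' i) (f' j) = 0)) :
    (∀ i, Q ((Fin.cons e₀ (fun i => (e' i : V)) : Fin (k + 1) → V) i) = 0 ∧
        Q ((Fin.cons f₀ (fun i => (f' i : V)) : Fin (k + 1) → V) i) = 0) ∧
      (∀ i j, QuadraticMap.polar ⇑Q ((Fin.cons e₀ (fun i => (e' i : V)) : Fin (k + 1) → V) i)
        ((Fin.cons f₀ (fun i => (f' i : V)) : Fin (k + 1) → V) j) = if i = j then 1 else 0) ∧
      (∀ i j, QuadraticMap.polar ⇑Q ((Fin.cons e₀ (fun i => (e' i : V)) : Fin (k + 1) → V) i)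
        ((Fin.cons e₀ (fun i => (e' i : V)) : Fin (k + 1) → V) j) = 0 ∧
        QuadraticMap.polar ⇑Q ((Fin.cons f₀ (fun i => (f' i : V)) : Fin (k + 1) → V) i)
        ((Fin.cons f₀ (fun i => (f' i : V)) : Fin (k + 1) → V) j) = 0) := by
  obtain ⟨hQef', hef', hee'⟩ := h
  have hfe : QuadraticMap.polar ⇑Q f₀ e₀ = 1 := by rw [QuadraticMap.polar_comm, hef]
  have hmem : ∀ w : perp2 Q e₀ f₀, QuadraticMap.polar ⇑Q e₀ (w : V) = 0 ∧ QuadraticMap.polar ⇑Q f₀ (w : V) = 0 :=
    fun w => (mem_perp2 Q e₀ f₀ w).mp w.2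
  have hmem' : ∀ w : perp2 Q e₀ f₀, QuadraticMap.polar ⇑Q (w : V) e₀ = 0 ∧ QuadraticMap.polar ⇑Q (w : V) f₀ = 0 := by
    intro w
    rw [QuadraticMap.polar_comm ⇑Q _ e₀, QuadraticMap.polar_comm ⇑Q _ f₀]
    exact hmem w
  refine ⟨?_, ?_, ?_⟩
  · intro i
    refine Fin.cases ?_ (fun i => ?_) i
    · simp only [Fin.cons_zero]
      exact ⟨hQe, hQf⟩
    · simp only [Fin.cons_succ]
      exact hQef' i
  · intro i j
    refine Fin.cases ?_ (fun i => ?_) i <;> refine Fin.cases ?_ (fun j => ?_) j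
    · simp only [Fin.cons_zero]
      simpa using hef
    · simp only [Fin.cons_zero, Fin.cons_succ]
      rw [(hmem (f' j)).1, if_neg (Fin.succ_ne_zero j).symm]
    · simp only [Fin.cons_zero, Fin.cons_succ]
      rw [(hmem' (e' i)).2, if_neg (Fin.succ_ne_zero i)]
    · simp only [Fin.cons_succ, Fin.succ_inj]
      rw [← polar_comp_subtype]
      exact hef' i j
  · intro i j
    refine Fin.cases ?_ (fun i => ?_) i <;> refine Fin.cases ?_ (fun j => ?_) j
    · simp only [Fin.cons_zero, polar_self', hQe, hQf, mul_zero, and_self]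
    · simp only [Fin.cons_zero, Fin.cons_succ]
      exact ⟨(hmem (e' j)).1, (hmem (f' j)).2⟩
    · simp only [Fin.cons_zero, Fin.cons_succ]
      exact ⟨(hmem' (e' i)).1, (hmem' (f' i)).2⟩
    · simp only [Fin.cons_succ]
      rw [← polar_comp_subtype, ← polar_comp_subtype]
      exact hee' i j


theorem hyp_of_ts : ∀ (m : ℕ) {V : Type v} [AddCommGroup V] [Module F V] [FiniteDimensional F V],
    finrank F V = 2 * m → ∀ Q : QuadraticForm F V, (QuadraticMap.polarBilin Q).Nondegenerate →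
    ∀ U : Submodule F V, (∀ u ∈ U, Q u = 0) → m ≤ finrank F U →
    ∃ e f : Fin m → V, (∀ i, Q (e i) = 0 ∧ Q (f i) = 0) ∧
      (∀ i j, QuadraticMap.polar ⇑Q (e i) (f j) = if i = j then 1 else 0) ∧
      (∀ i j, QuadraticMap.polar ⇑Q (e i) (e j) = 0 ∧ QuadraticMap.polar ⇑Q (f i) (f j) = 0) := by
  intro m
  induction m with
  | zero =>
    intro V _ _ _ _ Q _ U _ _
    exact ⟨Fin.elim0, Fin.elim0, fun i => i.elim0, fun i => i.elim0, fun i => i.elim0⟩
  | succ m ih =>
    intro V _ _ _ hV Q hQ U hU hdim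
    have hnt : Nontrivial U := Module.nontrivial_of_finrank_pos (R := F) (by omega)
    obtain ⟨e₀', he₀'⟩ := exists_ne (0 : U)
    set e₀ : V := e₀'.1 with he₀def
    have he₀U : e₀ ∈ U := e₀'.2
    have he₀ : e₀ ≠ 0 := fun h => he₀' (Subtype.ext h)
    have hQe : Q e₀ = 0 := hU e₀ he₀U
    obtain ⟨f₀, hQf, hef⟩ := hyp_pair Q hQ he₀ hQe
    have hfr := finrank_perp2 Q hQe hQf hef
    have hnd := perp2_nondeg Q hQ hQe hQf hef
    let ψ : U →ₗ[F] F := (QuadraticMap.polarBilin Q f₀).domRestrict U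
    have hψ : ∀ x : U, ψ x = QuadraticMap.polar ⇑Q f₀ (x : V) := fun x => rfl
    have hker : m ≤ finrank F (LinearMap.ker ψ) := by
      have h1 := LinearMap.finrank_range_add_finrank_ker ψ
      have h2 : finrank F (LinearMap.range ψ) ≤ 1 := by
        have := Submodule.finrank_le (LinearMap.range ψ)
        rwa [Module.finrank_self] at this
      omega
    have hmemW : ∀ x : LinearMap.ker ψ, ((x : U) : V) ∈ perp2 Q e₀ f₀ := by
      intro x
      rw [mem_perp2]
      refine ⟨polar_eq_zero_of_ts Q U hU he₀U x.1.2, ?_⟩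
      have := LinearMap.mem_ker.mp x.2
      rwa [hψ] at this
    let U' : Submodule F (perp2 Q e₀ f₀) := U.comap (perp2 Q e₀ f₀).subtype
    let j : LinearMap.ker ψ →ₗ[F] U' :=
      { toFun := fun x => ⟨⟨((x : U) : V), hmemW x⟩, x.1.2⟩
        map_add' := fun x y => rfl
        map_smul' := fun c x => rfl }
    have hjinj : Function.Injective j := by
      intro x y hxy
      have h1 := congrArg (fun z : U' => ((z : perp2 Q e₀ f₀) : V)) hxy
      exact Subtype.ext (Subtype.ext h1)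
    have hU'dim : m ≤ finrank F U' := le_trans hker (LinearMap.finrank_le_finrank_of_injective hjinj)
    have hU'ts : ∀ u ∈ U', (Q.comp (perp2 Q e₀ f₀).subtype) u = 0 := by
      intro u hu
      exact hU _ hu
    obtain ⟨e', f', h⟩ := ih (by omega) (Q.comp (perp2 Q e₀ f₀).subtype) hnd U' hU'ts hU'dim
    exact ⟨Fin.cons e₀ (fun i => (e' i : V)), Fin.cons f₀ (fun i => (f' i : V)), hypFam_cons' Q hQe hQf hef e' f' h⟩

theorem quad_ext_basis {ι : Type*} [Fintype ι] (b : Basis ι F V) (Q₁ Q₂ : QuadraticForm F V)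
    (hpol : ∀ x y, QuadraticMap.polar ⇑Q₁ x y = QuadraticMap.polar ⇑Q₂ x y) (hb : ∀ i, Q₁ (b i) = Q₂ (b i)) :
    ∀ v, Q₁ v = Q₂ v := by
  classical
  have key : ∀ (c : ι → F) (s : Finset ι), Q₁ (∑ i ∈ s, c i • b i) = Q₂ (∑ i ∈ s, c i • b i) := by
    intro c s
    induction s using Finset.induction_on with
    | empty => simp
    | insert a s ha ih =>
      rw [Finset.sum_insert ha, quad_add, quad_add, ih, hpol, QuadraticMap.map_smul, QuadraticMap.map_smul, hb]
  intro v
  rw [← b.sum_repr v]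
  exact key _ _

noncomputable def plusBeta (m : ℕ) (F : Type u) [Field F] : LinearMap.BilinForm F (Fin m ⊕ Fin m → F) :=
  Matrix.toLinearMap₂' F (Matrix.fromBlocks (0 : Matrix (Fin m) (Fin m) F) 1 0 0)

noncomputable def plusQ (m : ℕ) (F : Type u) [Field F] : QuadraticForm F (Fin m ⊕ Fin m → F) :=
  (plusBeta m F).toQuadraticMap

theorem plusBeta_apply {m : ℕ} (x y : Fin m ⊕ Fin m → F) :
    plusBeta m F x y = ∑ i, x (Sum.inl i) * y (Sum.inr i) := by
  unfold plusBeta
  rw [Matrix.toLinearMap₂'_apply']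
  simp [dotProduct, Matrix.mulVec, Matrix.fromBlocks, Fintype.sum_sum_type, Matrix.one_apply]

theorem plusQ_apply {m : ℕ} (x : Fin m ⊕ Fin m → F) : plusQ m F x = Cfsg.quadFormPlus m F x := by
  unfold plusQ Cfsg.quadFormPlus
  rw [LinearMap.BilinMap.toQuadraticMap_apply, plusBeta_apply]

theorem plusQ_polar {m : ℕ} (x y : Fin m ⊕ Fin m → F) :
    QuadraticMap.polar ⇑(plusQ m F) x y = ∑ i, (x (Sum.inl i) * y (Sum.inr i) + y (Sum.inl i) * x (Sum.inr i)) := by
  unfold plusQ
  rw [LinearMap.BilinMap.polar_toQuadraticMap, plusBeta_apply, plusBeta_apply, Finset.sum_add_distrib]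

theorem equivFun_basis_self {ι : Type*} [Fintype ι] [DecidableEq ι] (b : Basis ι F V) (k : ι) :
    b.equivFun (b k) = Pi.single k 1 := by
  ext j
  rw [Basis.equivFun_self, Pi.single_apply]
  simp only [eq_comm]

theorem exists_iso_plus [FiniteDimensional F V] {m : ℕ} (hV : finrank F V = 2 * m) (Q : QuadraticForm F V)
    (e f : Fin m → V) (hQef : ∀ i, Q (e i) = 0 ∧ Q (f i) = 0)
    (hef : ∀ i j, QuadraticMap.polar ⇑Q (e i) (f j) = if i = j then 1 else 0)
    (hee : ∀ i j, QuadraticMap.polar ⇑Q (e i) (e j) = 0 ∧ QuadraticMap.polar ⇑Q (f i) (f j) = 0) :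
    ∃ T : V ≃ₗ[F] (Fin m ⊕ Fin m → F), ∀ v, Cfsg.quadFormPlus m F (T v) = Q v := by
  set v : Fin m ⊕ Fin m → V := Sum.elim e f with hv
  set w : Fin m ⊕ Fin m → V := Sum.elim f e with hw
  have hdual : ∀ i j, QuadraticMap.polarBilin Q (v i) (w j) = if i = j then (1 : F) else 0 := by
    intro i j
    rw [QuadraticMap.polarBilin_apply_apply]
    rcases i with i | i <;> rcases j with j | j
    · simp only [hv, hw, Sum.elim_inl, hef i j, Sum.inl.injEq]
    · simp [hv, hw, (hee i j).1]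
    · simp [hv, hw, (hee i j).2]
    · simp only [hv, hw, Sum.elim_inr, Sum.inr.injEq]
      rw [QuadraticMap.polar_comm, hef j i]
      simp only [eq_comm]
  have hli := li_of_dual (QuadraticMap.polarBilin Q) v w (fun _ => 1) (fun _ => one_ne_zero) hdual
  have hcard : Fintype.card (Fin m ⊕ Fin m) = finrank F V := by
    rw [hV, Fintype.card_sum, Fintype.card_fin]; ring
  set b := basisOfLinearIndependentOfCardEqFinrank' v hli hcard with hb
  have hbv : ∀ k, b k = v k := by
    intro k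
    rw [hb, coe_basisOfLinearIndependentOfCardEqFinrank']
  refine ⟨b.equivFun, ?_⟩
  intro x
  rw [← plusQ_apply]
  have h1 := quad_ext_basis b ((plusQ m F).comp (b.equivFun : V →ₗ[F] (Fin m ⊕ Fin m → F))) Q ?_ ?_ x
  · exact h1
  · intro x y
    have h2 : QuadraticMap.polarBilin ((plusQ m F).comp (b.equivFun : V →ₗ[F] (Fin m ⊕ Fin m → F))) =
        QuadraticMap.polarBilin Q := by
      apply LinearMap.BilinForm.ext_basis b
      intro k l
      rw [QuadraticMap.polarBilin_apply_apply, QuadraticMap.polarBilin_apply_apply]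
      have h3 : QuadraticMap.polar ⇑((plusQ m F).comp (b.equivFun : V →ₗ[F] (Fin m ⊕ Fin m → F))) (b k) (b l) =
          QuadraticMap.polar ⇑(plusQ m F) (Pi.single k 1) (Pi.single l 1) := by
        unfold QuadraticMap.polar
        simp only [QuadraticMap.comp_apply, LinearEquiv.coe_coe, map_add, equivFun_basis_self]
      rw [h3, plusQ_polar, hbv, hbv]
      rcases k with k | k <;> rcases l with l | l
      · simp [hv, (hee k l).1]
      · simp only [hv, Sum.elim_inl, Sum.elim_inr, hef k l]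
        simp [Pi.single_apply, eq_comm]
      · simp only [hv, Sum.elim_inl, Sum.elim_inr]
        rw [QuadraticMap.polar_comm, hef l k]
        simp [Pi.single_apply, eq_comm]
      · simp [hv, (hee k l).2]
    have h4 := congrArg (fun B : LinearMap.BilinForm F V => B x y) h2
    simpa [QuadraticMap.polarBilin_apply_apply] using h4
  · intro k
    rw [QuadraticMap.comp_apply, LinearEquiv.coe_coe, equivFun_basis_self, plusQ_apply, hbv]
    unfold Cfsg.quadFormPlus
    rcases k with k | k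
    · simp [hv, (hQef k).1]
    · simp [hv, (hQef k).2]

theorem embed_isometry {ι : Type} [Fintype ι] [DecidableEq ι] (T : V ≃ₗ[F] (ι → F)) (Qt : (ι → F) → F)
    (QV : V → F) (hT : ∀ v, Qt (T v) = QV v) {G : Type*} [Group G] (ρ : G →* (V →ₗ[F] V))
    (hρ : ∀ g v, QV (ρ g v) = QV v) (hinj : Function.Injective ρ) :
    ∃ φ : G →* ↥(Cfsg.isometryGroup F Qt), Function.Injective φ := by
  let μ : G →* Matrix ι ι F :=
    { toFun := fun g => LinearMap.toMatrix' ((T : V →ₗ[F] (ι → F)) ∘ₗ ρ g ∘ₗ (T.symm : (ι → F) →ₗ[F] V))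
      map_one' := by
        rw [map_one]
        have : (T : V →ₗ[F] (ι → F)) ∘ₗ (1 : V →ₗ[F] V) ∘ₗ (T.symm : (ι → F) →ₗ[F] V) = LinearMap.id := by
          apply LinearMap.ext
          intro x
          simp
        rw [this, LinearMap.toMatrix'_id]
      map_mul' := by
        intro g h
        rw [← LinearMap.toMatrix'_comp]
        congr 1
        apply LinearMap.ext
        intro x
        simp [map_mul] }
  have hμ : ∀ g u, (μ g).mulVec u = T (ρ g (T.symm u)) := by
    intro g u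
    show (LinearMap.toMatrix' _).mulVec u = _
    rw [LinearMap.toMatrix'_mulVec]
    rfl
  have hmem : ∀ g, μ.toHomUnits g ∈ Cfsg.isometryGroup F Qt := by
    intro g u _
    show Qt ((μ g).mulVec u) = Qt u
    rw [hμ, hT, hρ, ← hT, LinearEquiv.apply_symm_apply]
  refine ⟨μ.toHomUnits.codRestrict (Cfsg.isometryGroup F Qt) hmem, ?_⟩
  intro g h hgh
  have h1 : μ g = μ h := by
    have := congrArg (fun z : ↥(Cfsg.isometryGroup F Qt) => ((z : Matrix.GeneralLinearGroup ι F) : Matrix ι ι F)) hgh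
    exact this
  apply hinj
  apply LinearMap.ext
  intro x
  have h2 := congrArg (fun M : Matrix ι ι F => M.mulVec (T x)) h1
  simp only [hμ, LinearEquiv.symm_apply_apply] at h2
  exact T.injective h2

end

end Cfsg.Agent.Lib.Helper16
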