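import Mathlib
import Cfsg.Prelude.Def_Classical
import Cfsg.Agent.Lib.Helper16.OrthEmbed
import Cfsg.Agent.Lib.Helper16.FieldExt

set_option autoImplicit false

namespace Cfsg.Agent.Lib.Helper16

open Module

universe u v

section
variable {F : Type u} [Field F]

noncomputable def minusBeta (k : ℕ) (a c : F) : LinearMap.BilinForm F ((Fin k ⊕ Fin k) ⊕ Fin 2 → F) :=
  Matrix.toLinearMap₂' F (Matrix.fromBlocks
    (Matrix.fromBlocks (0 : Matrix (Fin k) (Fin k) F) 1 0 0) (0 : Matrix (Fin k ⊕ Fin k) (Fin 2) F)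
    (0 : Matrix (Fin 2) (Fin k ⊕ Fin k) F) (!![1, a; 0, c] : Matrix (Fin 2) (Fin 2) F))

noncomputable def minusQ (k : ℕ) (a c : F) : QuadraticForm F ((Fin k ⊕ Fin k) ⊕ Fin 2 → F) :=
  (minusBeta k a c).toQuadraticMap

theorem minusBeta_apply {k : ℕ} (a c : F) (x y : (Fin k ⊕ Fin k) ⊕ Fin 2 → F) :
    minusBeta k a c x y = ∑ i, x (Sum.inl (Sum.inl i)) * y (Sum.inl (Sum.inr i))
      + (x (Sum.inr 0) * y (Sum.inr 0) + a * x (Sum.inr 0) * y (Sum.inr 1) + c * x (Sum.inr 1) * y (Sum.inr 1)) := by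
  unfold minusBeta
  rw [Matrix.toLinearMap₂'_apply']
  simp [dotProduct, Matrix.mulVec, Matrix.fromBlocks, Fintype.sum_sum_type, Matrix.one_apply, Fin.sum_univ_two]
  ring

theorem minusQ_apply {k : ℕ} (a c : F) (x : (Fin k ⊕ Fin k) ⊕ Fin 2 → F) :
    minusQ k a c x = Cfsg.quadFormMinus k F a c x := by
  unfold minusQ Cfsg.quadFormMinus
  rw [LinearMap.BilinMap.toQuadraticMap_apply, minusBeta_apply]
  ring

end

section
variable {F : Type u} {K : Type v} [Field F] [Field K]

theorem quadFormMinus_map (f : F →+* K) {k : ℕ} (a c : F) (x : (Fin k ⊕ Fin k) ⊕ Fin 2 → F) :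
    Cfsg.quadFormMinus k K (f a) (f c) (fun i => f (x i)) = f (Cfsg.quadFormMinus k F a c x) := by
  unfold Cfsg.quadFormMinus
  simp only [map_add, map_sum, map_mul, map_pow]

theorem ext_scalars_invariant {ι : Type*} [Fintype ι] [DecidableEq ι] (f : F →+* K)
    (QK : QuadraticForm K (ι → K)) (QF : (ι → F) → F)
    (hQ : ∀ u : ι → F, QK (fun i => f (u i)) = f (QF u))
    (g : Matrix ι ι F) (hg : ∀ u, QF (g.mulVec u) = QF u) (v : ι → K) :
    QK ((g.map f).mulVec v) = QK v := by
  have key : ∀ u : ι → F, QK ((g.map f).mulVec (fun i => f (u i))) = QK (fun i => f (u i)) := by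
    intro u
    have : (g.map f).mulVec (fun i => f (u i)) = fun i => f (g.mulVec u i) := by
      funext i
      simp only [Matrix.mulVec, dotProduct, Matrix.map_apply, map_sum, map_mul]
    rw [this, hQ, hQ, hg]
  set Q₁ : QuadraticForm K (ι → K) := QK.comp (Matrix.toLin' (g.map f)) with hQ₁
  have hQ₁app : ∀ w, Q₁ w = QK ((g.map f).mulVec w) := fun w => rfl
  have hsingle : ∀ i : ι, (Pi.basisFun K ι) i = fun j => f ((Pi.single i 1 : ι → F) j) := by
    intro i
    funext j
    rw [Pi.basisFun_apply]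
    by_cases h : j = i
    · subst h; simp
    · simp [h]
  have hb : ∀ i, Q₁ ((Pi.basisFun K ι) i) = QK ((Pi.basisFun K ι) i) := by
    intro i
    rw [hQ₁app, hsingle, key]
  have hadd : ∀ i j : ι, (Pi.basisFun K ι) i + (Pi.basisFun K ι) j
      = fun l => f ((Pi.single i 1 + Pi.single j 1 : ι → F) l) := by
    intro i j
    rw [hsingle, hsingle]
    funext l
    simp only [Pi.add_apply, map_add]
  have hpol : ∀ x y, QuadraticMap.polar ⇑Q₁ x y = QuadraticMap.polar ⇑QK x y := by
    have : QuadraticMap.polarBilin Q₁ = QuadraticMap.polarBilin QK := by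
      apply LinearMap.BilinForm.ext_basis (Pi.basisFun K ι)
      intro i j
      simp only [QuadraticMap.polarBilin_apply_apply, QuadraticMap.polar]
      rw [hb i, hb j, hQ₁app, hadd, key]
    intro x y
    have h := congrArg (fun B => B x y) this
    simpa using h
  exact quad_ext_basis (Pi.basisFun K ι) Q₁ QK hpol hb v

end

section
open Polynomial

theorem exists_root_of_aniso {F K : Type*} [Field F] [Fintype F] [Field K] [Fintype K] [Algebra F K]
    (hfr : finrank F K = 2) (a c : F)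
    (hac : ∀ z₁ z₂ : F, z₁ ^ 2 + a * z₁ * z₂ + c * z₂ ^ 2 = 0 → z₁ = 0 ∧ z₂ = 0) :
    ∃ r : K, r ^ 2 + algebraMap F K a * r + algebraMap F K c = 0 := by
  set p : F[X] := X ^ 2 + C a * X + C c with hp
  have hdeg : p.natDegree = 2 := by
    rw [hp]; compute_degree!
  have hirr : Irreducible p := by
    apply irreducible_of_degree_le_three_of_not_isRoot
    · rw [hdeg]; simp
    · intro x hx
      rw [IsRoot, hp] at hx
      simp only [eval_add, eval_pow, eval_X, eval_mul, eval_C] at hx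
      have := hac x 1 (by linear_combination hx)
      exact one_ne_zero this.2
  have hdvd : p ∣ X ^ (Nat.card F) ^ 2 - X := by
    rw [← hirr.natDegree_dvd_iff_dvd_X_pow_card_pow_sub_X, hdeg]
  have hcard : Fintype.card K = Nat.card F ^ 2 := by
    rw [Fintype.card_eq_nat_card, Module.natCard_eq_pow_finrank (K := F) (V := K), hfr]
  have hsplit : Splits ((X ^ Fintype.card K - X : F[X]).map (algebraMap F K)) :=
    (FiniteField.isSplittingField_sub K F).splits
  have hne : (X ^ Fintype.card K - X : F[X]).map (algebraMap F K) ≠ 0 := by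
    rw [Polynomial.map_sub, Polynomial.map_pow, map_X]
    exact FiniteField.X_pow_card_sub_X_ne_zero K Fintype.one_lt_card
  have hpsplit : Splits (p.map (algebraMap F K)) := by
    apply Splits.of_dvd hsplit hne
    rw [hcard]
    exact Polynomial.map_dvd _ hdvd
  have hdegK : (p.map (algebraMap F K)).degree ≠ 0 := by
    rw [degree_map, degree_eq_natDegree hirr.ne_zero, hdeg]
    norm_num
  obtain ⟨r, hr⟩ := hpsplit.exists_eval_eq_zero hdegK
  refine ⟨r, ?_⟩
  rw [hp] at hr
  simpa using hr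


theorem disc_ne_zero_of_aniso {F : Type*} [Field F] [Fintype F] (a c : F)
    (hac : ∀ z₁ z₂ : F, z₁ ^ 2 + a * z₁ * z₂ + c * z₂ ^ 2 = 0 → z₁ = 0 ∧ z₂ = 0) :
    a ^ 2 - 4 * c ≠ 0 := by
  intro h
  by_cases h2 : (2 : F) = 0
  · have h4 : (4 : F) = 0 := by
      have : (4 : F) = 2 * 2 := by norm_num
      rw [this, h2, mul_zero]
    rw [h4, zero_mul, sub_zero] at h
    have ha : a = 0 := pow_eq_zero_iff (two_ne_zero) |>.mp h
    have : CharP F 2 := CharTwo.of_one_ne_zero_of_two_eq_zero one_ne_zero h2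
    obtain ⟨s, hs⟩ := FiniteField.isSquare_of_char_two (ringChar.eq F 2) c
    have := hac s 1 (by rw [ha, hs]; linear_combination (s * s) * h2)
    exact one_ne_zero this.2
  · have := hac (-a) 2 (by linear_combination (-1 : F) * h)
    exact h2 this.2

section
variable {K : Type*} [Field K] {k : ℕ}

noncomputable def splitMap (k : ℕ) (r r' : K) :
    ((Fin k ⊕ Fin k) ⊕ Fin 2 → K) →ₗ[K] (Fin (k + 1) ⊕ Fin (k + 1) → K) :=
  LinearMap.pi (fun j => Sum.elim
    (Fin.snoc (α := fun _ => ((Fin k ⊕ Fin k) ⊕ Fin 2 → K) →ₗ[K] K)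
      (fun i => LinearMap.proj (Sum.inl (Sum.inl i)))
      (LinearMap.proj (Sum.inr 0) - r • LinearMap.proj (Sum.inr 1)))
    (Fin.snoc (α := fun _ => ((Fin k ⊕ Fin k) ⊕ Fin 2 → K) →ₗ[K] K)
      (fun i => LinearMap.proj (Sum.inl (Sum.inr i)))
      (LinearMap.proj (Sum.inr 0) - r' • LinearMap.proj (Sum.inr 1))) j)

theorem splitMap_inl_castSucc (r r' : K) (v : (Fin k ⊕ Fin k) ⊕ Fin 2 → K) (i : Fin k) :
    splitMap k r r' v (Sum.inl i.castSucc) = v (Sum.inl (Sum.inl i)) := by
  simp [splitMap]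

theorem splitMap_inr_castSucc (r r' : K) (v : (Fin k ⊕ Fin k) ⊕ Fin 2 → K) (i : Fin k) :
    splitMap k r r' v (Sum.inr i.castSucc) = v (Sum.inl (Sum.inr i)) := by
  simp [splitMap]

theorem splitMap_inl_last (r r' : K) (v : (Fin k ⊕ Fin k) ⊕ Fin 2 → K) :
    splitMap k r r' v (Sum.inl (Fin.last k)) = v (Sum.inr 0) - r * v (Sum.inr 1) := by
  simp [splitMap]

theorem splitMap_inr_last (r r' : K) (v : (Fin k ⊕ Fin k) ⊕ Fin 2 → K) :
    splitMap k r r' v (Sum.inr (Fin.last k)) = v (Sum.inr 0) - r' * v (Sum.inr 1) := by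
  simp [splitMap]

theorem splitMap_quad (r r' a c : K) (h1 : r + r' = -a) (h2 : r * r' = c)
    (v : (Fin k ⊕ Fin k) ⊕ Fin 2 → K) :
    Cfsg.quadFormPlus (k + 1) K (splitMap k r r' v) = Cfsg.quadFormMinus k K a c v := by
  unfold Cfsg.quadFormPlus Cfsg.quadFormMinus
  rw [Fin.sum_univ_castSucc]
  simp only [splitMap_inl_castSucc, splitMap_inr_castSucc, splitMap_inl_last, splitMap_inr_last]
  congr 1
  have ha : a = -(r + r') := by rw [h1, neg_neg]
  rw [ha, ← h2]
  ring

theorem splitMap_injective (r r' : K) (h : r ≠ r') : Function.Injective (splitMap k r r') := by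
  rw [← LinearMap.ker_eq_bot, LinearMap.ker_eq_bot']
  intro v hv
  have h1 : ∀ i, v (Sum.inl (Sum.inl i)) = 0 := by
    intro i
    rw [← splitMap_inl_castSucc r r' v i, hv]; rfl
  have h2 : ∀ i, v (Sum.inl (Sum.inr i)) = 0 := by
    intro i
    rw [← splitMap_inr_castSucc r r' v i, hv]; rfl
  have h3 : v (Sum.inr 0) - r * v (Sum.inr 1) = 0 := by
    rw [← splitMap_inl_last r r' v, hv]; rfl
  have h4 : v (Sum.inr 0) - r' * v (Sum.inr 1) = 0 := by
    rw [← splitMap_inr_last r r' v, hv]; rfl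
  have h5 : (r - r') * v (Sum.inr 1) = 0 := by linear_combination h4 - h3
  have h6 : v (Sum.inr 1) = 0 := by
    rcases mul_eq_zero.mp h5 with h5 | h5
    · exact absurd (sub_eq_zero.mp h5) h
    · exact h5
  have h7 : v (Sum.inr 0) = 0 := by
    rw [h6, mul_zero, sub_zero] at h3; exact h3
  funext x
  rcases x with (i | i) | j
  · exact h1 i
  · exact h2 i
  · fin_cases j
    · exact h7
    · exact h6

noncomputable def splitEquiv (k : ℕ) (r r' : K) (h : r ≠ r') :
    ((Fin k ⊕ Fin k) ⊕ Fin 2 → K) ≃ₗ[K] (Fin (k + 1) ⊕ Fin (k + 1) → K) :=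
  LinearEquiv.ofBijective (splitMap k r r') ⟨splitMap_injective r r' h, by
    rw [← LinearMap.injective_iff_surjective_of_finrank_eq_finrank]
    · exact splitMap_injective r r' h
    · rw [Module.finrank_fintype_fun_eq_card, Module.finrank_fintype_fun_eq_card]
      simp only [Fintype.card_sum, Fintype.card_fin]
      ring⟩

theorem splitEquiv_apply (r r' : K) (h : r ≠ r') (v : (Fin k ⊕ Fin k) ⊕ Fin 2 → K) :
    splitEquiv k r r' h v = splitMap k r r' v := rfl

end

end

end Cfsg.Agent.Lib.Helper16
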