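import Mathlib
import Cfsg.Agent.Lib.Helper16.SpinA

set_option autoImplicit false
set_option linter.unusedSectionVars false
set_option linter.unusedSimpArgs false

namespace Cfsg.Agent.Lib.Helper16

open Matrix

variable {ι : Type} [Fintype ι] [DecidableEq ι] {F : Type*} [Field F]

def permGL (F : Type*) [Field F] (σ : Equiv.Perm ι) : GL ι F :=
  ⟨σ.permMatrix F, σ⁻¹.permMatrix F,
    by rw [← Matrix.permMatrix_mul]; simp,
    by rw [← Matrix.permMatrix_mul]; simp⟩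

theorem permGL_mulVec (σ : Equiv.Perm ι) (v : ι → F) :
    ((permGL F σ : GL ι F) : Matrix ι ι F) *ᵥ v = v ∘ σ :=
  Matrix.permMatrix_mulVec σ

def permIso (Q : (ι → F) → F) (σ : Equiv.Perm ι) (h : ∀ v, Q (v ∘ σ) = Q v) :
    ↥(Cfsg.isometryGroup F Q) :=
  ⟨permGL F σ, by
    rw [mem_iso_iff]
    intro x
    rw [permGL_mulVec]
    exact h x⟩

theorem permIso_mulVec (Q : (ι → F) → F) (σ : Equiv.Perm ι) (h : ∀ v, Q (v ∘ σ) = Q v)
    (v : ι → F) :
    (((permIso Q σ h : ↥(Cfsg.isometryGroup F Q)) : GL ι F) : Matrix ι ι F) *ᵥ v = v ∘ σ :=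
  permGL_mulVec σ v

end Cfsg.Agent.Lib.Helper16
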