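import Mathlib

set_option autoImplicit false
set_option linter.unusedSectionVars false
set_option linter.unusedSimpArgs false

namespace Cfsg.Agent.Lib.Helper16

open Module

variable {F V : Type*} [Field F] [AddCommGroup V] [Module F V]

def TS (Q : QuadraticForm F V) (U : Submodule F V) : Prop := ∀ u ∈ U, Q u = 0

theorem TS.polar_eq_zero {Q : QuadraticForm F V} {U : Submodule F V} (h : TS Q U) {x y : V}
    (hx : x ∈ U) (hy : y ∈ U) : QuadraticMap.polar (⇑Q) x y = 0 := by
  unfold QuadraticMap.polar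
  rw [h _ (U.add_mem hx hy), h _ hx, h _ hy]; ring

theorem TS.mono {Q : QuadraticForm F V} {U W : Submodule F V} (h : TS Q W) (hUW : U ≤ W) : TS Q U :=
  fun u hu => h u (hUW hu)

theorem TS.le_orthogonal {Q : QuadraticForm F V} {U : Submodule F V} (h : TS Q U) :
    U ≤ LinearMap.BilinForm.orthogonal (QuadraticMap.polarBilin Q) U := by
  intro x hx y hy
  show QuadraticMap.polarBilin Q y x = 0
  rw [QuadraticMap.polarBilin_apply_apply]
  exact h.polar_eq_zero hy hx

theorem TS.sup {Q : QuadraticForm F V} {U W : Submodule F V} (hU : TS Q U) (hW : TS Q W)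
    (h : ∀ u ∈ U, ∀ w ∈ W, QuadraticMap.polar (⇑Q) u w = 0) : TS Q (U ⊔ W) := by
  intro z hz
  obtain ⟨u, hu, w, hw, rfl⟩ := Submodule.mem_sup.mp hz
  have : Q (u + w) = Q u + Q w + QuadraticMap.polar (⇑Q) u w := by
    unfold QuadraticMap.polar; ring
  rw [this, hU u hu, hW w hw, h u hu w hw]; ring

theorem TS.span_singleton {Q : QuadraticForm F V} {x : V} (hx : Q x = 0) :
    TS Q (Submodule.span F {x}) := by
  intro u hu
  obtain ⟨c, rfl⟩ := Submodule.mem_span_singleton.mp hu
  rw [QuadraticMap.map_smul, hx, smul_zero]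

theorem polarBilin_isRefl' (Q : QuadraticForm F V) : (QuadraticMap.polarBilin Q).IsRefl := by
  intro x y h
  rw [QuadraticMap.polarBilin_apply_apply] at h ⊢
  rw [QuadraticMap.polar_comm]; exact h

theorem orthogonal_sup' (B : LinearMap.BilinForm F V) (A C : Submodule F V) :
    B.orthogonal (A ⊔ C) = B.orthogonal A ⊓ B.orthogonal C := by
  ext x
  simp only [LinearMap.BilinForm.mem_orthogonal_iff, Submodule.mem_inf]
  constructor
  · intro h
    exact ⟨fun n hn => h n (Submodule.mem_sup_left hn), fun n hn => h n (Submodule.mem_sup_right hn)⟩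
  · rintro ⟨h1, h2⟩ n hn
    obtain ⟨a, ha, c, hc, rfl⟩ := Submodule.mem_sup.mp hn
    rw [map_add, LinearMap.add_apply, h1 a ha, h2 c hc, add_zero]

variable [FiniteDimensional F V]

theorem TS.finrank_le {Q : QuadraticForm F V} (hQ : (QuadraticMap.polarBilin Q).Nondegenerate)
    {m : ℕ} (hdim : finrank F V = 2 * m) {U : Submodule F V} (h : TS Q U) : finrank F U ≤ m := by
  have h1 := Submodule.finrank_mono h.le_orthogonal
  rw [LinearMap.BilinForm.finrank_orthogonal hQ, hdim] at h1
  omega

theorem TS.orthogonal_eq {Q : QuadraticForm F V} (hQ : (QuadraticMap.polarBilin Q).Nondegenerate)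
    {m : ℕ} (hdim : finrank F V = 2 * m) {U : Submodule F V} (h : TS Q U) (hU : finrank F U = m) :
    LinearMap.BilinForm.orthogonal (QuadraticMap.polarBilin Q) U = U := by
  symm
  apply Submodule.eq_of_le_of_finrank_le h.le_orthogonal
  rw [LinearMap.BilinForm.finrank_orthogonal hQ, hdim, hU]
  omega

theorem codim_one_sup {H W : Submodule F V} (hHW : H ≤ W) (hfin : finrank F H + 1 = finrank F W)
    {w : V} (hw : w ∈ W) (hwH : w ∉ H) : H ⊔ Submodule.span F {w} = W := by
  have hle : H ⊔ Submodule.span F {w} ≤ W :=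
    sup_le hHW ((Submodule.span_singleton_le_iff_mem _ _).mpr hw)
  apply Submodule.eq_of_le_of_finrank_le hle
  have hlt : H < H ⊔ Submodule.span F {w} := by
    apply lt_of_le_of_ne le_sup_left
    intro heq
    apply hwH
    rw [heq]
    exact Submodule.mem_sup_right (Submodule.mem_span_singleton_self w)
  have := Submodule.finrank_lt_finrank_of_lt hlt
  omega

theorem le_or_le_of_forall_mem {K W W' : Submodule F V} (h : ∀ u ∈ K, u ∈ W ∨ u ∈ W') :
    K ≤ W ∨ K ≤ W' := by
  by_contra hcon
  push Not at hcon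
  obtain ⟨h1, h2⟩ := hcon
  obtain ⟨u1, hu1K, hu1⟩ := SetLike.not_le_iff_exists.mp h1
  obtain ⟨u2, hu2K, hu2⟩ := SetLike.not_le_iff_exists.mp h2
  have hu1' : u1 ∈ W' := (h u1 hu1K).resolve_left hu1
  have hu2' : u2 ∈ W := (h u2 hu2K).resolve_right hu2
  rcases h (u1 + u2) (K.add_mem hu1K hu2K) with h3 | h3
  · apply hu1
    have : u1 = (u1 + u2) - u2 := by abel
    rw [this]
    exact W.sub_mem h3 hu2'
  · apply hu2
    have : u2 = (u1 + u2) - u1 := by abel
    rw [this]
    exact W'.sub_mem h3 hu1'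

end Cfsg.Agent.Lib.Helper16
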