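import Mathlib
import Cfsg.Agent.Lib.Helper16.TwoFam1

set_option autoImplicit false
set_option linter.unusedSectionVars false
set_option linter.unusedSimpArgs false

namespace Cfsg.Agent.Lib.Helper16

open Module

variable {F V : Type*} [Field F] [AddCommGroup V] [Module F V] [FiniteDimensional F V]

theorem adjacent_mem_or {Q : QuadraticForm F V} (hQ : (QuadraticMap.polarBilin Q).Nondegenerate)
    {m : ℕ} (hdim : finrank F V = 2 * m) (W W' : Submodule F V)
    (hW : TS Q W) (hW' : TS Q W') (dW : finrank F W = m) (dW' : finrank F W' = m)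
    (hadj : finrank F ↥(W ⊓ W') + 1 = m) (u : V) (hu : Q u = 0) (huWW : u ∈ W ⊔ W') :
    u ∈ W ∨ u ∈ W' := by
  obtain ⟨x, hx, x', hx', rfl⟩ := Submodule.mem_sup.mp huWW
  have hpol : QuadraticMap.polar (⇑Q) x x' = 0 := by
    have : Q (x + x') = Q x + Q x' + QuadraticMap.polar (⇑Q) x x' := by
      unfold QuadraticMap.polar; ring
    rw [this, hW x hx, hW' x' hx'] at hu
    simpa using hu
  by_contra hcon
  push Not at hcon
  obtain ⟨hc1, hc2⟩ := hcon
  have hx'W : x' ∉ W := fun h => hc1 (W.add_mem hx h)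
  have hxW' : x ∉ W' := fun h => hc2 (W'.add_mem h hx')
  have hxH : x ∉ W ⊓ W' := fun h => hxW' (Submodule.mem_inf.mp h).2
  have hWeq : (W ⊓ W') ⊔ Submodule.span F {x} = W :=
    codim_one_sup inf_le_left (by rw [dW]; exact hadj) hx hxH
  have hTS : TS Q (W ⊔ Submodule.span F {x'}) := by
    apply TS.sup hW (TS.span_singleton (hW' x' hx'))
    intro w hw y hy
    obtain ⟨c, rfl⟩ := Submodule.mem_span_singleton.mp hy
    rw [← hWeq] at hw
    obtain ⟨h, hh, z, hz, rfl⟩ := Submodule.mem_sup.mp hw
    obtain ⟨d, rfl⟩ := Submodule.mem_span_singleton.mp hz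
    rw [QuadraticMap.polar_add_left, QuadraticMap.polar_smul_right, QuadraticMap.polar_smul_right,
      QuadraticMap.polar_smul_left, hpol, hW'.polar_eq_zero (Submodule.mem_inf.mp hh).2 hx']
    simp
  have hlt : W < W ⊔ Submodule.span F {x'} := by
    apply lt_of_le_of_ne le_sup_left
    intro heq
    apply hx'W
    rw [heq]
    exact Submodule.mem_sup_right (Submodule.mem_span_singleton_self x')
  have h1 := Submodule.finrank_lt_finrank_of_lt hlt
  have h2 := hTS.finrank_le hQ hdim
  omega

theorem adjacent_inter {Q : QuadraticForm F V} (hQ : (QuadraticMap.polarBilin Q).Nondegenerate)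
    {m : ℕ} (hdim : finrank F V = 2 * m) (U W W' : Submodule F V)
    (hU : TS Q U) (hW : TS Q W) (hW' : TS Q W') (dU : finrank F U = m) (dW : finrank F W = m)
    (dW' : finrank F W' = m) (hadj : finrank F ↥(W ⊓ W') + 1 = m) :
    finrank F ↥(U ⊓ W) = finrank F ↥(U ⊓ W') + 1 ∨ finrank F ↥(U ⊓ W') = finrank F ↥(U ⊓ W) + 1 := by
  set B := QuadraticMap.polarBilin Q with hB
  set H := W ⊓ W' with hH
  have hWH : W ≤ LinearMap.BilinForm.orthogonal B H :=
    le_trans hW.le_orthogonal (LinearMap.BilinForm.orthogonal_le inf_le_left)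
  have hW'H : W' ≤ LinearMap.BilinForm.orthogonal B H :=
    le_trans hW'.le_orthogonal (LinearMap.BilinForm.orthogonal_le inf_le_right)
  have hsup : W ⊔ W' = LinearMap.BilinForm.orthogonal B H := by
    apply Submodule.eq_of_le_of_finrank_le (sup_le hWH hW'H)
    rw [LinearMap.BilinForm.finrank_orthogonal hQ, hdim]
    have := Submodule.finrank_sup_add_finrank_inf_eq W W'
    rw [← hH] at this
    omega
  have hUperp : LinearMap.BilinForm.orthogonal B U = U := hU.orthogonal_eq hQ hdim dU
  have hK : U ⊓ LinearMap.BilinForm.orthogonal B H = LinearMap.BilinForm.orthogonal B (U ⊔ H) := by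
    rw [orthogonal_sup', hUperp]
  have hfinK : finrank F ↥(U ⊓ LinearMap.BilinForm.orthogonal B H) = finrank F ↥(U ⊓ H) + 1 := by
    rw [hK, LinearMap.BilinForm.finrank_orthogonal hQ, hdim]
    have h1 := Submodule.finrank_sup_add_finrank_inf_eq U H
    have h2 : finrank F ↥(U ⊓ H) ≤ finrank F ↥H := Submodule.finrank_mono inf_le_right
    omega
  have hmem : ∀ u ∈ U ⊓ LinearMap.BilinForm.orthogonal B H, u ∈ W ∨ u ∈ W' := by
    intro u hu
    obtain ⟨hu1, hu2⟩ := Submodule.mem_inf.mp hu
    rw [← hsup] at hu2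
    exact adjacent_mem_or hQ hdim W W' hW hW' dW dW' hadj u (hU u hu1) hu2
  rcases le_or_le_of_forall_mem hmem with hle | hle
  · left
    have e1 : U ⊓ W = U ⊓ LinearMap.BilinForm.orthogonal B H :=
      le_antisymm (inf_le_inf_left U hWH) (le_inf inf_le_left hle)
    have e2 : U ⊓ W' = U ⊓ H := by
      apply le_antisymm
      · apply le_inf inf_le_left
        apply le_inf _ inf_le_right
        exact le_trans (inf_le_inf_left U hW'H) hle
      · exact inf_le_inf_left U inf_le_right
    rw [e1, e2, hfinK]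
  · right
    have e1 : U ⊓ W' = U ⊓ LinearMap.BilinForm.orthogonal B H :=
      le_antisymm (inf_le_inf_left U hW'H) (le_inf inf_le_left hle)
    have e2 : U ⊓ W = U ⊓ H := by
      apply le_antisymm
      · apply le_inf inf_le_left
        apply le_inf inf_le_right
        exact le_trans (inf_le_inf_left U hWH) hle
      · exact inf_le_inf_left U inf_le_left
    rw [e1, e2, hfinK]

end Cfsg.Agent.Lib.Helper16
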