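import Mathlib
import Cfsg.Agent.Lib.Helper16.TwoFam2

set_option autoImplicit false
set_option linter.unusedSectionVars false
set_option linter.unusedSimpArgs false

namespace Cfsg.Agent.Lib.Helper16

open Module

variable {F V : Type*} [Field F] [AddCommGroup V] [Module F V] [FiniteDimensional F V]

theorem finrank_inf_ker {W : Submodule F V} (f : Module.Dual F V) (w0 : V) (hw0 : w0 ∈ W)
    (hf : f w0 ≠ 0) : finrank F ↥(W ⊓ LinearMap.ker f) + 1 = finrank F W := by
  have hf0 : f ≠ 0 := by
    rintro rfl
    exact hf rfl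
  have h1 := Module.Dual.finrank_ker_add_one_of_ne_zero hf0
  have h2 := Submodule.finrank_sup_add_finrank_inf_eq W (LinearMap.ker f)
  have h3 : W ⊔ LinearMap.ker f = ⊤ := by
    apply Submodule.eq_top_of_finrank_eq
    have hlt : LinearMap.ker f < W ⊔ LinearMap.ker f := by
      apply lt_of_le_of_ne le_sup_right
      intro heq
      apply hf
      have : w0 ∈ LinearMap.ker f := by
        rw [heq]; exact Submodule.mem_sup_left hw0
      exact LinearMap.mem_ker.mp this
    have h4 := Submodule.finrank_lt_finrank_of_lt hlt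
    have h5 := Submodule.finrank_le (W ⊔ LinearMap.ker f)
    omega
  rw [h3, finrank_top] at h2
  omega

theorem exists_adjacent_closer {Q : QuadraticForm F V}
    (hQ : (QuadraticMap.polarBilin Q).Nondegenerate)
    {m : ℕ} (hdim : finrank F V = 2 * m) (X W : Submodule F V)
    (hX : TS Q X) (hW : TS Q W) (dX : finrank F X = m) (dW : finrank F W = m) (hne : X ≠ W) :
    ∃ W' : Submodule F V, TS Q W' ∧ finrank F W' = m ∧ finrank F ↥(W ⊓ W') + 1 = m ∧
      finrank F ↥(X ⊓ W') = finrank F ↥(X ⊓ W) + 1 := by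
  obtain ⟨x, hxX, hxW⟩ : ∃ x ∈ X, x ∉ W := by
    by_contra hcon
    push Not at hcon
    apply hne
    apply Submodule.eq_of_le_of_finrank_le hcon
    rw [dX, dW]
  have hx0 : x ≠ 0 := by
    rintro rfl
    exact hxW W.zero_mem
  have hWperp : LinearMap.BilinForm.orthogonal (QuadraticMap.polarBilin Q) W = W :=
    hW.orthogonal_eq hQ hdim dW
  obtain ⟨w0, hw0, hw0x⟩ : ∃ w0 ∈ W, QuadraticMap.polarBilin Q x w0 ≠ 0 := by
    by_contra hcon
    push Not at hcon
    apply hxW
    rw [← hWperp]
    intro w hw
    show QuadraticMap.polarBilin Q w x = 0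
    have := hcon w hw
    rw [QuadraticMap.polarBilin_apply_apply] at this ⊢
    rw [QuadraticMap.polar_comm]; exact this
  set f : Module.Dual F V := QuadraticMap.polarBilin Q x with hf
  set N := W ⊓ LinearMap.ker f with hN
  have hNfin : finrank F N + 1 = m := by
    rw [← dW]; exact finrank_inf_ker f w0 hw0 hw0x
  have hNx : N ⊓ Submodule.span F {x} = ⊥ := by
    rw [eq_bot_iff]
    intro y hy
    obtain ⟨hy1, hy2⟩ := Submodule.mem_inf.mp hy
    obtain ⟨c, rfl⟩ := Submodule.mem_span_singleton.mp hy2
    by_cases hc : c = 0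
    · rw [hc, zero_smul]; exact Submodule.zero_mem _
    · exfalso
      apply hxW
      have : c • x ∈ W := (Submodule.mem_inf.mp hy1).1
      have h2 := W.smul_mem c⁻¹ this
      rwa [smul_smul, inv_mul_cancel₀ hc, one_smul] at h2
  have hQx : Q x = 0 := hX x hxX
  have hTS' : TS Q (N ⊔ Submodule.span F {x}) := by
    apply TS.sup (hW.mono inf_le_left) (TS.span_singleton hQx)
    intro n hn y hy
    obtain ⟨c, rfl⟩ := Submodule.mem_span_singleton.mp hy
    have : f n = 0 := LinearMap.mem_ker.mp (Submodule.mem_inf.mp hn).2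
    rw [hf, QuadraticMap.polarBilin_apply_apply] at this
    rw [QuadraticMap.polar_smul_right, QuadraticMap.polar_comm, this, smul_zero]
  have dW' : finrank F ↥(N ⊔ Submodule.span F {x}) = m := by
    have h1 := Submodule.finrank_sup_add_finrank_inf_eq N (Submodule.span F {x})
    rw [hNx, finrank_bot, finrank_span_singleton hx0] at h1
    omega
  have hxW' : x ∈ N ⊔ Submodule.span F {x} :=
    Submodule.mem_sup_right (Submodule.mem_span_singleton_self x)
  have hadj : finrank F ↥(W ⊓ (N ⊔ Submodule.span F {x})) + 1 = m := by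
    have h1 : N ≤ W ⊓ (N ⊔ Submodule.span F {x}) := le_inf inf_le_left le_sup_left
    have h2 := Submodule.finrank_mono h1
    have h3 : finrank F ↥(W ⊓ (N ⊔ Submodule.span F {x})) ≤ finrank F W :=
      Submodule.finrank_mono inf_le_left
    have h4 : finrank F ↥(W ⊓ (N ⊔ Submodule.span F {x})) ≠ m := by
      intro h5
      have h6 : W ⊓ (N ⊔ Submodule.span F {x}) = W :=
        Submodule.eq_of_le_of_finrank_le inf_le_left (by rw [h5, dW])
      have h7 : W ≤ N ⊔ Submodule.span F {x} := by
        rw [← h6]; exact inf_le_right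
      have h8 : W = N ⊔ Submodule.span F {x} :=
        Submodule.eq_of_le_of_finrank_le h7 (by rw [dW', dW])
      apply hxW
      rw [h8]; exact hxW'
    omega
  refine ⟨N ⊔ Submodule.span F {x}, hTS', dW', hadj, ?_⟩
  have hle : (X ⊓ W) ⊔ Submodule.span F {x} ≤ X ⊓ (N ⊔ Submodule.span F {x}) := by
    apply sup_le
    · apply le_inf inf_le_left
      apply le_trans _ le_sup_left
      intro y hy
      obtain ⟨hy1, hy2⟩ := Submodule.mem_inf.mp hy
      apply Submodule.mem_inf.mpr
      refine ⟨hy2, ?_⟩
      rw [LinearMap.mem_ker, hf, QuadraticMap.polarBilin_apply_apply]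
      exact hX.polar_eq_zero hxX hy1
    · rw [Submodule.span_singleton_le_iff_mem]
      exact Submodule.mem_inf.mpr ⟨hxX, hxW'⟩
  have hlt : X ⊓ W < (X ⊓ W) ⊔ Submodule.span F {x} := by
    apply lt_of_le_of_ne le_sup_left
    intro heq
    apply hxW
    have : x ∈ X ⊓ W := by
      rw [heq]
      exact Submodule.mem_sup_right (Submodule.mem_span_singleton_self x)
    exact (Submodule.mem_inf.mp this).2
  have h1 := Submodule.finrank_lt_finrank_of_lt hlt
  have h2 := Submodule.finrank_mono hle
  rcases adjacent_inter hQ hdim X W (N ⊔ Submodule.span F {x}) hX hW hTS' dX dW dW' hadj with h | h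
  · omega
  · exact h

theorem two_families_parity {Q : QuadraticForm F V}
    (hQ : (QuadraticMap.polarBilin Q).Nondegenerate)
    {m : ℕ} (hdim : finrank F V = 2 * m) (U X : Submodule F V)
    (hU : TS Q U) (hX : TS Q X) (dU : finrank F U = m) (dX : finrank F X = m) :
    ∀ (k : ℕ) (W : Submodule F V), TS Q W → finrank F W = m → finrank F ↥(X ⊓ W) + k = m →
      Even (m + finrank F ↥(U ⊓ W) + finrank F ↥(W ⊓ X) + finrank F ↥(U ⊓ X)) := by
  intro k
  induction k with
  | zero =>
    intro W hW dW hk
    have h1 : X ⊓ W = X := Submodule.eq_of_le_of_finrank_le inf_le_left (by rw [dX]; omega)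
    have h2 : X ≤ W := by rw [← h1]; exact inf_le_right
    have h3 : X = W := Submodule.eq_of_le_of_finrank_le h2 (by rw [dX, dW])
    subst h3
    rw [inf_idem, dX]
    exact ⟨m + finrank F ↥(U ⊓ X), by ring⟩
  | succ k ih =>
    intro W hW dW hk
    have hne : X ≠ W := by
      rintro rfl
      rw [inf_idem, dX] at hk
      omega
    obtain ⟨W', hW', dW', hadj, hstep⟩ := exists_adjacent_closer hQ hdim X W hX hW dX dW hne
    have hih := ih W' hW' dW' (by omega)
    rw [inf_comm W' X, hstep] at hih
    rw [inf_comm W X]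
    rcases adjacent_inter hQ hdim U W W' hU hW hW' dU dW dW' hadj with h | h
    · rw [h]
      obtain ⟨t, ht⟩ := hih
      exact ⟨t, by omega⟩
    · rw [h] at hih
      obtain ⟨t, ht⟩ := hih
      exact ⟨t - 1, by omega⟩

theorem two_families_parity' {Q : QuadraticForm F V}
    (hQ : (QuadraticMap.polarBilin Q).Nondegenerate)
    {m : ℕ} (hdim : finrank F V = 2 * m) (U W X : Submodule F V)
    (hU : TS Q U) (hW : TS Q W) (hX : TS Q X) (dU : finrank F U = m) (dW : finrank F W = m)
    (dX : finrank F X = m) :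
    Even (m + finrank F ↥(U ⊓ W) + finrank F ↥(W ⊓ X) + finrank F ↥(U ⊓ X)) := by
  apply two_families_parity hQ hdim U X hU hX dU dX (m - finrank F ↥(X ⊓ W)) W hW dW
  have : finrank F ↥(X ⊓ W) ≤ finrank F W := Submodule.finrank_mono inf_le_right
  omega

end Cfsg.Agent.Lib.Helper16
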