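import Mathlib
import Cfsg.Agent.Lib.Helper16.TwoFam3
import Cfsg.Agent.Lib.Helper16.SpinA

set_option autoImplicit false
set_option linter.unusedSectionVars false
set_option linter.unusedSimpArgs false

namespace Cfsg.Agent.Lib.Helper16

open Module Matrix

variable {ι : Type} [Fintype ι] [DecidableEq ι] {F : Type*} [Field F]

theorem mulVecLin_GL_injective (g : GL ι F) :
    Function.Injective (Matrix.mulVecLin (g : Matrix ι ι F)) := by
  have : Function.Injective (g : Matrix ι ι F).mulVec :=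
    Matrix.mulVec_injective_iff_isUnit.mpr g.isUnit
  exact this

theorem finrank_map_GL (g : GL ι F) (U : Submodule F (ι → F)) :
    finrank F ↥(U.map (Matrix.mulVecLin (g : Matrix ι ι F))) = finrank F U :=
  (Submodule.equivMapOfInjective _ (mulVecLin_GL_injective g) U).finrank_eq.symm

theorem map_inf_GL (g : GL ι F) (U W : Submodule F (ι → F)) :
    (U ⊓ W).map (Matrix.mulVecLin (g : Matrix ι ι F))
      = U.map (Matrix.mulVecLin (g : Matrix ι ι F)) ⊓ W.map (Matrix.mulVecLin (g : Matrix ι ι F)) :=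
  Submodule.map_inf _ (mulVecLin_GL_injective g)

theorem map_mul_GL (g h : GL ι F) (U : Submodule F (ι → F)) :
    U.map (Matrix.mulVecLin ((g * h : GL ι F) : Matrix ι ι F))
      = (U.map (Matrix.mulVecLin (h : Matrix ι ι F))).map (Matrix.mulVecLin (g : Matrix ι ι F)) := by
  rw [Units.val_mul, Matrix.mulVecLin_mul, Submodule.map_comp]

theorem map_TS (Q : QuadraticForm F (ι → F)) (g : ↥(Cfsg.isometryGroup F ⇑Q))
    (U : Submodule F (ι → F)) (hU : TS Q U) :
    TS Q (U.map (Matrix.mulVecLin ((g : GL ι F) : Matrix ι ι F))) := by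
  intro y hy
  obtain ⟨x, hx, rfl⟩ := Submodule.mem_map.mp hy
  rw [Matrix.mulVecLin_apply, iso_pres (⇑Q) g]
  exact hU x hx

theorem finrank_pi_eq_two_mul {m : ℕ} (hcard : Fintype.card ι = 2 * m) :
    finrank F (ι → F) = 2 * m := by
  rw [Module.finrank_pi, hcard]

noncomputable def famChar (Q : QuadraticForm F (ι → F)) (m : ℕ) (E : Submodule F (ι → F))
    (g : ↥(Cfsg.isometryGroup F ⇑Q)) : ℤˣ :=
  (-1) ^ (m + finrank F ↥(E ⊓ E.map (Matrix.mulVecLin ((g : GL ι F) : Matrix ι ι F))))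

theorem famChar_mul (Q : QuadraticForm F (ι → F)) (hQ : (QuadraticMap.polarBilin Q).Nondegenerate)
    {m : ℕ} (hcard : Fintype.card ι = 2 * m) (E : Submodule F (ι → F)) (hE : TS Q E)
    (dE : finrank F E = m) (g h : ↥(Cfsg.isometryGroup F ⇑Q)) :
    famChar Q m E (g * h) = famChar Q m E g * famChar Q m E h := by
  unfold famChar
  have hdim := finrank_pi_eq_two_mul (F := F) hcard
  set gE := E.map (Matrix.mulVecLin ((g : GL ι F) : Matrix ι ι F)) with hgE
  set hE' := E.map (Matrix.mulVecLin ((h : GL ι F) : Matrix ι ι F)) with hhE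
  have e1 : E.map (Matrix.mulVecLin (((g * h : ↥(Cfsg.isometryGroup F ⇑Q)) : GL ι F) : Matrix ι ι F))
      = hE'.map (Matrix.mulVecLin ((g : GL ι F) : Matrix ι ι F)) := map_mul_GL g.1 h.1 E
  rw [e1]
  set ghE := hE'.map (Matrix.mulVecLin ((g : GL ι F) : Matrix ι ι F)) with hghE
  have hTSg : TS Q gE := map_TS Q g E hE
  have hTSh : TS Q hE' := map_TS Q h E hE
  have hTSgh : TS Q ghE := map_TS Q g hE' hTSh
  have dg : finrank F gE = m := by rw [hgE, finrank_map_GL, dE]
  have dh : finrank F hE' = m := by rw [hhE, finrank_map_GL, dE]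
  have dgh : finrank F ghE = m := by rw [hghE, finrank_map_GL, dh]
  have key := two_families_parity' hQ hdim E gE ghE hE hTSg hTSgh dE dg dgh
  have e2 : gE ⊓ ghE = (E ⊓ hE').map (Matrix.mulVecLin ((g : GL ι F) : Matrix ι ι F)) := by
    rw [map_inf_GL]
  rw [e2, finrank_map_GL] at key
  have hsq : (-1 : ℤˣ) ^ 2 = 1 := by decide
  rw [← pow_add, pow_eq_pow_mod _ hsq,
    pow_eq_pow_mod (m + finrank F ↥(E ⊓ gE) + (m + finrank F ↥(E ⊓ hE'))) hsq]
  congr 1
  obtain ⟨t, ht⟩ := key
  omega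

theorem famChar_one (Q : QuadraticForm F (ι → F)) {m : ℕ} (E : Submodule F (ι → F))
    (dE : finrank F E = m) : famChar Q m E 1 = 1 := by
  unfold famChar
  have : E.map (Matrix.mulVecLin (((1 : ↥(Cfsg.isometryGroup F ⇑Q)) : GL ι F) : Matrix ι ι F)) = E := by
    show E.map (Matrix.mulVecLin (1 : Matrix ι ι F)) = E
    rw [Matrix.mulVecLin_one, Submodule.map_id]
  rw [this, inf_idem, dE]
  exact Even.neg_one_pow ⟨m, rfl⟩

noncomputable def famCharHom (Q : QuadraticForm F (ι → F))
    (hQ : (QuadraticMap.polarBilin Q).Nondegenerate)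
    {m : ℕ} (hcard : Fintype.card ι = 2 * m) (E : Submodule F (ι → F)) (hE : TS Q E)
    (dE : finrank F E = m) : ↥(Cfsg.isometryGroup F ⇑Q) →* ℤˣ where
  toFun := famChar Q m E
  map_one' := famChar_one Q E dE
  map_mul' := famChar_mul Q hQ hcard E hE dE

theorem famChar_eq_one_iff (Q : QuadraticForm F (ι → F)) (m : ℕ) (E : Submodule F (ι → F))
    (g : ↥(Cfsg.isometryGroup F ⇑Q)) :
    famChar Q m E g = 1 ↔
      Even (m + finrank F ↥(E ⊓ E.map (Matrix.mulVecLin ((g : GL ι F) : Matrix ι ι F)))) := by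
  unfold famChar
  constructor
  · intro h
    by_contra hodd
    rw [Nat.not_even_iff_odd] at hodd
    rw [hodd.neg_one_pow] at h
    exact absurd h (by decide)
  · intro h
    exact h.neg_one_pow

theorem omega_famChar (Q : QuadraticForm F (ι → F))
    (hQ : (QuadraticMap.polarBilin Q).Nondegenerate)
    {m : ℕ} (hcard : Fintype.card ι = 2 * m) (E : Submodule F (ι → F)) (hE : TS Q E)
    (dE : finrank F E = m) (g : ↥(Cfsg.isometryGroup F ⇑Q)) (hg : g ∈ Cfsg.Omega F ⇑Q) :
    Even (m + finrank F ↥(E ⊓ E.map (Matrix.mulVecLin ((g : GL ι F) : Matrix ι ι F)))) := by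
  rw [← famChar_eq_one_iff]
  have h1 := Abelianization.commutator_subset_ker (famCharHom Q hQ hcard E hE dE) hg
  exact MonoidHom.mem_ker.mp h1

end Cfsg.Agent.Lib.Helper16
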