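import Mathlib
import Cfsg.Agent.Lib.Helper16.TwoFam4
import Cfsg.Agent.Lib.Helper16.SpinG
import Cfsg.Agent.Lib.Helper16.PermIso

set_option autoImplicit false
set_option linter.unusedSectionVars false
set_option linter.unusedSimpArgs false

namespace Cfsg.Agent.Lib.Helper16

open Module Matrix

variable {F : Type*} [Field F] {m : ℕ}

theorem qfPlus_nondeg (m : ℕ) (F : Type*) [Field F] :
    (QuadraticMap.polarBilin (qfPlus m F)).Nondegenerate := by
  have hleft : ∀ x : Fin m ⊕ Fin m → F,
      (∀ y, QuadraticMap.polarBilin (qfPlus m F) x y = 0) → x = 0 := by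
    intro x hx
    funext k
    rcases k with i | i
    · have := hx (Pi.single (Sum.inr i) 1)
      rw [QuadraticMap.polarBilin_apply_apply, qfPlus_coe, polar_plus] at this
      simpa [Pi.single_apply] using this
    · have := hx (Pi.single (Sum.inl i) 1)
      rw [QuadraticMap.polarBilin_apply_apply, qfPlus_coe, polar_plus] at this
      simpa [Pi.single_apply] using this
  refine ⟨hleft, ?_⟩
  intro y hy
  apply hleft
  intro x
  have := hy x
  rw [QuadraticMap.polarBilin_apply_apply] at this ⊢
  rw [QuadraticMap.polar_comm]; exact this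

noncomputable def EPlus (m : ℕ) (F : Type*) [Field F] : Submodule F (Fin m ⊕ Fin m → F) :=
  LinearMap.ker (LinearMap.funLeft F F (Sum.inr : Fin m → Fin m ⊕ Fin m))

theorem mem_EPlus (v : Fin m ⊕ Fin m → F) : v ∈ EPlus m F ↔ ∀ i, v (Sum.inr i) = 0 := by
  unfold EPlus
  rw [LinearMap.mem_ker]
  constructor
  · intro h i
    exact congrFun h i
  · intro h
    funext i
    exact h i

theorem EPlus_TS : TS (qfPlus m F) (EPlus m F) := by
  intro u hu
  rw [mem_EPlus] at hu
  show Cfsg.quadFormPlus m F u = 0
  unfold Cfsg.quadFormPlus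
  apply Finset.sum_eq_zero
  intro i _
  rw [hu i, mul_zero]

theorem EPlus_finrank : finrank F (EPlus m F) = m := by
  have h1 := LinearMap.finrank_range_add_finrank_ker
    (LinearMap.funLeft F F (Sum.inr : Fin m → Fin m ⊕ Fin m))
  have h2 : LinearMap.range (LinearMap.funLeft F F (Sum.inr : Fin m → Fin m ⊕ Fin m)) = ⊤ :=
    LinearMap.range_eq_top.mpr (LinearMap.funLeft_surjective_of_injective F F _ Sum.inr_injective)
  rw [h2, finrank_top, Module.finrank_pi, Module.finrank_pi] at h1
  simp only [Fintype.card_fin, Fintype.card_sum] at h1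
  unfold EPlus
  omega

theorem card_plus_index (m : ℕ) : Fintype.card (Fin m ⊕ Fin m) = 2 * m := by
  simp [two_mul]

end Cfsg.Agent.Lib.Helper16
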