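import Mathlib
import Cfsg.Agent.Lib.Helper16.OStd
import Cfsg.Agent.Lib.Helper16.PlusFam
import Cfsg.Agent.Lib.Helper16.MinusForm

set_option autoImplicit false
set_option linter.unusedSectionVars false
set_option linter.unusedSimpArgs false
set_option linter.unusedVariables false
set_option linter.unusedTactic false

namespace Cfsg.Agent.Lib.Helper16.OSemi

open Matrix Module Cfsg.Agent.Lib.Helper16

universe u

variable {F : Type u} [Field F]

theorem qfMinus_nondeg [Fintype F] (k : ℕ) (a c : F)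
    (hac : ∀ z₁ z₂ : F, z₁ ^ 2 + a * z₁ * z₂ + c * z₂ ^ 2 = 0 → z₁ = 0 ∧ z₂ = 0) :
    (QuadraticMap.polarBilin (qfMinus k F a c)).Nondegenerate := by
  have hdisc := disc_ne_zero_of_aniso a c hac
  have hleft : ∀ x : (Fin k ⊕ Fin k) ⊕ Fin 2 → F,
      (∀ y, QuadraticMap.polarBilin (qfMinus k F a c) x y = 0) → x = 0 := by
    intro x hx
    have h0 : 2 * x (Sum.inr 0) + a * x (Sum.inr 1) = 0 := by
      have := hx (Pi.single (Sum.inr 0) 1)
      rw [QuadraticMap.polarBilin_apply_apply, qfMinus_coe, polar_minus'] at this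
      simpa [Pi.single_apply] using this
    have h1 : a * x (Sum.inr 0) + 2 * c * x (Sum.inr 1) = 0 := by
      have := hx (Pi.single (Sum.inr 1) 1)
      rw [QuadraticMap.polarBilin_apply_apply, qfMinus_coe, polar_minus'] at this
      simpa [Pi.single_apply] using this
    have hx0 : x (Sum.inr 0) = 0 := by
      have : (a ^ 2 - 4 * c) * x (Sum.inr 0) = 0 := by linear_combination a * h1 - 2 * c * h0
      exact (mul_eq_zero.mp this).resolve_left hdisc
    have hx1 : x (Sum.inr 1) = 0 := by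
      have : (a ^ 2 - 4 * c) * x (Sum.inr 1) = 0 := by linear_combination a * h0 - 2 * h1
      exact (mul_eq_zero.mp this).resolve_left hdisc
    funext t
    rcases t with (i | i) | t
    · have := hx (Pi.single (Sum.inl (Sum.inr i)) 1)
      rw [QuadraticMap.polarBilin_apply_apply, qfMinus_coe, polar_minus'] at this
      simpa [Pi.single_apply] using this
    · have := hx (Pi.single (Sum.inl (Sum.inl i)) 1)
      rw [QuadraticMap.polarBilin_apply_apply, qfMinus_coe, polar_minus'] at this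
      simpa [Pi.single_apply] using this
    · have ht : t = 0 ∨ t = 1 := by fin_cases t <;> simp
      rcases ht with rfl | rfl
      · exact hx0
      · exact hx1
  refine ⟨hleft, ?_⟩
  intro y hy
  apply hleft
  intro x
  have := hy x
  rw [QuadraticMap.polarBilin_apply_apply] at this ⊢
  rw [QuadraticMap.polar_comm]; exact this

/-- matrices of a linear equivalence between coordinate spaces. -/
theorem conj_data {a b : Type} [Fintype a] [DecidableEq a] [Fintype b] [DecidableEq b]
    (Φ : (b → F) ≃ₗ[F] (a → F)) :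
    ∃ (M : Matrix a b F) (Mi : Matrix b a F), M * Mi = 1 ∧ Mi * M = 1 ∧
      (∀ v, M *ᵥ v = Φ v) ∧ (∀ v, Mi *ᵥ v = Φ.symm v) := by
  refine ⟨LinearMap.toMatrix' Φ.toLinearMap, LinearMap.toMatrix' Φ.symm.toLinearMap, ?_, ?_, ?_, ?_⟩
  · rw [← LinearMap.toMatrix'_comp, LinearEquiv.comp_coe, LinearEquiv.symm_trans_self,
      LinearEquiv.refl_toLinearMap, LinearMap.toMatrix'_id]
  · rw [← LinearMap.toMatrix'_comp, LinearEquiv.comp_coe, LinearEquiv.self_trans_symm,
      LinearEquiv.refl_toLinearMap, LinearMap.toMatrix'_id]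
  · intro v
    rw [← Matrix.toLin'_apply, Matrix.toLin'_toMatrix']
    rfl
  · intro v
    rw [← Matrix.toLin'_apply, Matrix.toLin'_toMatrix']
    rfl

theorem conj_pow {a b : Type} [Fintype a] [DecidableEq a] [Fintype b] [DecidableEq b]
    (M : Matrix a b F) (Mi : Matrix b a F) (h : M * Mi = 1) (A : Matrix a a F) (j : ℕ) :
    (Mi * A * M) ^ j * Mi = Mi * A ^ j := by
  induction j with
  | zero => rw [pow_zero, pow_zero, Matrix.one_mul, Matrix.mul_one]
  | succ j ih =>
    rw [pow_succ', Matrix.mul_assoc, ih, pow_succ']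
    calc Mi * A * M * (Mi * A ^ j) = Mi * A * (M * Mi) * A ^ j := by
          simp only [Matrix.mul_assoc]
      _ = Mi * (A * A ^ j) := by rw [h, Matrix.mul_one, Matrix.mul_assoc]

theorem iso_of_matrix {κ : Type} [Fintype κ] [DecidableEq κ] (Q : (κ → F) → F)
    (B : Matrix κ κ F) (r : ℕ) (hr : 0 < r) (hBr : B ^ r = 1) (hBQ : ∀ v, Q (B *ᵥ v) = Q v) :
    ∃ g : ↥(Cfsg.isometryGroup F Q), ((g : GL κ F) : Matrix κ κ F) = B ∧ g ^ r = 1 := by
  obtain ⟨s, rfl⟩ : ∃ s, r = s + 1 := ⟨r - 1, by omega⟩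
  have h1 : B * B ^ s = 1 := by rw [← pow_succ', hBr]
  have h2 : B ^ s * B = 1 := by rw [← pow_succ, hBr]
  refine ⟨⟨⟨B, B ^ s, h1, h2⟩, ?_⟩, rfl, ?_⟩
  · rw [mem_iso_iff]
    exact hBQ
  · apply Subtype.ext
    apply Units.ext
    rw [Subgroup.coe_pow, Units.val_pow_eq_pow_val]
    exact hBr

end Cfsg.Agent.Lib.Helper16.OSemi
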