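import Mathlib
import Cfsg.Agent.Lib.helper6.WittQuad
import Cfsg.Agent.Lib.Helper16.SpinA

set_option autoImplicit false
set_option linter.unusedSectionVars false
set_option linter.unusedSimpArgs false
set_option linter.unusedVariables false

namespace Cfsg.Agent.Lib.Helper16

open Matrix Module Cfsg.Agent.Lib.helper6

variable {ι : Type} [Fintype ι] [DecidableEq ι] {F : Type*} [Field F]

noncomputable def linEquivToGL (g : (ι → F) ≃ₗ[F] (ι → F)) : GL ι F :=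
  ⟨LinearMap.toMatrix' (g : (ι → F) →ₗ[F] (ι → F)),
    LinearMap.toMatrix' (g.symm : (ι → F) →ₗ[F] (ι → F)),
    by
      rw [← LinearMap.toMatrix'_comp]
      have : (g : (ι → F) →ₗ[F] (ι → F)) ∘ₗ (g.symm : (ι → F) →ₗ[F] (ι → F)) = LinearMap.id := by
        ext x; simp
      rw [this, LinearMap.toMatrix'_id],
    by
      rw [← LinearMap.toMatrix'_comp]
      have : (g.symm : (ι → F) →ₗ[F] (ι → F)) ∘ₗ (g : (ι → F) →ₗ[F] (ι → F)) = LinearMap.id := by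
        ext x; simp
      rw [this, LinearMap.toMatrix'_id]⟩

theorem linEquivToGL_mulVec (g : (ι → F) ≃ₗ[F] (ι → F)) (x : ι → F) :
    ((linEquivToGL g : GL ι F) : Matrix ι ι F) *ᵥ x = g x := by
  show LinearMap.toMatrix' (g : (ι → F) →ₗ[F] (ι → F)) *ᵥ x = g x
  rw [LinearMap.toMatrix'_mulVec]
  rfl

theorem witt_matrix (Q : QuadraticForm F (ι → F))
    (hQ : (QuadraticMap.polarBilin Q).Nondegenerate) (X Y : Submodule F (ι → F)) (φ : X ≃ₗ[F] Y)
    (hφ : ∀ x : X, Q (φ x : ι → F) = Q (x : ι → F)) :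
    ∃ g : ↥(Cfsg.isometryGroup F ⇑Q),
      (∀ x : X, ((g : GL ι F) : Matrix ι ι F) *ᵥ (x : ι → F) = (φ x : ι → F)) ∧
      X.map (Matrix.mulVecLin ((g : GL ι F) : Matrix ι ι F)) = Y := by
  obtain ⟨g0, hg0, hg0X⟩ := Witt.witt_quad Q hQ X Y φ hφ
  have hmem : linEquivToGL g0 ∈ Cfsg.isometryGroup F ⇑Q := by
    rw [mem_iso_iff]
    intro x
    rw [linEquivToGL_mulVec]
    exact hg0 x
  refine ⟨⟨linEquivToGL g0, hmem⟩, ?_, ?_⟩
  · intro x
    show ((linEquivToGL g0 : GL ι F) : Matrix ι ι F) *ᵥ (x : ι → F) = _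
    rw [linEquivToGL_mulVec]
    exact hg0X x
  · ext y
    simp only [Submodule.mem_map, Matrix.mulVecLin_apply]
    constructor
    · rintro ⟨x, hx, rfl⟩
      show ((linEquivToGL g0 : GL ι F) : Matrix ι ι F) *ᵥ x ∈ Y
      rw [linEquivToGL_mulVec, hg0X ⟨x, hx⟩]
      exact (φ ⟨x, hx⟩).2
    · intro hy
      refine ⟨(φ.symm ⟨y, hy⟩ : ι → F), (φ.symm ⟨y, hy⟩).2, ?_⟩
      show ((linEquivToGL g0 : GL ι F) : Matrix ι ι F) *ᵥ _ = y
      rw [linEquivToGL_mulVec, hg0X (φ.symm ⟨y, hy⟩)]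
      simp

end Cfsg.Agent.Lib.Helper16
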