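import Mathlib
import Cfsg.Agent.Lib.Helper16.SemiCommon
import Cfsg.Agent.Lib.Helper16.WittMat

set_option autoImplicit false
set_option linter.unusedSectionVars false
set_option linter.unusedSimpArgs false
set_option linter.unusedVariables false
set_option linter.unusedTactic false

namespace Cfsg.Agent.Lib.Helper16.OSemi

open Matrix Module Polynomial Cfsg.Agent.Lib.Helper16.SpSemi

variable {F : Type*} [Field F] {ι : Type} [Fintype ι] [DecidableEq ι]

theorem gram_data (Q : QuadraticForm F (ι → F))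
    (hQ : (QuadraticMap.polarBilin Q).Nondegenerate) :
    ∃ M Mi : Matrix ι ι F, M * Mi = 1 ∧ Mi * M = 1 ∧ Mᵀ = M ∧
      ∀ x y : ι → F, QuadraticMap.polar Q x y = x ⬝ᵥ M *ᵥ y := by
  obtain ⟨M, hM⟩ : ∃ M, M = LinearMap.BilinForm.toMatrix' (QuadraticMap.polarBilin Q) := ⟨_, rfl⟩
  have hpol : ∀ x y : ι → F, QuadraticMap.polar Q x y = x ⬝ᵥ M *ᵥ y := by
    intro x y
    rw [← Matrix.toBilin'_apply', hM, Matrix.toBilin'_toMatrix']
    rfl
  have hnd : M.Nondegenerate := by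
    rw [hM]
    exact LinearMap.BilinForm.nondegenerate_toMatrix'_iff.mpr hQ
  have hdet : IsUnit M.det := by
    rw [isUnit_iff_ne_zero]
    exact Matrix.nondegenerate_iff_det_ne_zero.mp hnd
  have hu : IsUnit M := (Matrix.isUnit_iff_isUnit_det M).mpr hdet
  obtain ⟨Mi, hMi⟩ := hu.exists_right_inv
  refine ⟨M, Mi, hMi, mul_eq_one_comm.mp hMi, ?_, hpol⟩
  ext i j
  rw [Matrix.transpose_apply, hM, LinearMap.BilinForm.toMatrix'_apply,
    LinearMap.BilinForm.toMatrix'_apply]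
  exact QuadraticMap.polar_comm _ _ _

theorem polar_pres (Q : QuadraticForm F (ι → F)) (g : Matrix ι ι F)
    (hg : ∀ x, Q (g *ᵥ x) = Q x) (x y : ι → F) :
    QuadraticMap.polar Q (g *ᵥ x) (g *ᵥ y) = QuadraticMap.polar Q x y := by
  unfold QuadraticMap.polar
  rw [← Matrix.mulVec_add, hg, hg, hg]

theorem o_conj_core [Fintype F] (Q : QuadraticForm F (ι → F))
    (hQ : (QuadraticMap.polarBilin Q).Nondegenerate) (A B P : Matrix ι ι F)
    (hAQ : ∀ x, Q (A *ᵥ x) = Q x) (hBQ : ∀ x, Q (B *ᵥ x) = Q x) (hP : IsUnit P)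
    (hPA : P * A = B * P) (N : ℕ) (hNodd : Odd N) (hN : (N : F) ≠ 0) (hAN : A ^ N = 1) :
    ∃ g : ↥(Cfsg.isometryGroup F ⇑Q),
      ((g : GL ι F) : Matrix ι ι F) * A = B * ((g : GL ι F) : Matrix ι ι F) := by
  classical
  obtain ⟨M, Mi, hMMi, hMiM, hMT, hpol⟩ := gram_data Q hQ
  obtain ⟨adj, hadjdef⟩ : ∃ adj : Matrix ι ι F → Matrix ι ι F, ∀ a, adj a = Mi * aᵀ * M :=
    ⟨_, fun a => rfl⟩
  have hMiT : Miᵀ = Mi := by
    have h1 : Miᵀ * M = 1 := by
      have := congrArg Matrix.transpose hMMi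
      rw [Matrix.transpose_mul, Matrix.transpose_one, hMT] at this
      exact this
    calc Miᵀ = Miᵀ * (M * Mi) := by rw [hMMi, mul_one]
      _ = Mi := by rw [← mul_assoc, h1, one_mul]
  have hadd : ∀ a b, adj (a + b) = adj a + adj b := by
    intro a b; rw [hadjdef, hadjdef, hadjdef, Matrix.transpose_add, mul_add, add_mul]
  have hmul : ∀ a b, adj (a * b) = adj b * adj a := by
    intro a b
    rw [hadjdef, hadjdef, hadjdef, Matrix.transpose_mul]
    calc Mi * (bᵀ * aᵀ) * M = Mi * bᵀ * 1 * aᵀ * M := by rw [mul_one]; simp only [mul_assoc]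
      _ = Mi * bᵀ * M * (Mi * aᵀ * M) := by rw [← hMMi]; simp only [mul_assoc]
  have hone : adj 1 = 1 := by rw [hadjdef, Matrix.transpose_one, mul_one, hMiM]
  have hinv : ∀ a, adj (adj a) = a := by
    intro a
    rw [hadjdef, hadjdef, Matrix.transpose_mul, Matrix.transpose_mul, Matrix.transpose_transpose,
      hMT, hMiT]
    calc Mi * (M * (a * Mi)) * M = (Mi * M) * a * (Mi * M) := by simp only [mul_assoc]
      _ = a := by rw [hMiM, one_mul, mul_one]
  have hsmul : ∀ (a : F) x, adj (a • x) = a • adj x := by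
    intro a x
    rw [hadjdef, hadjdef, Matrix.transpose_smul, Matrix.mul_smul, Matrix.smul_mul]
  have hMadj : ∀ a, M * adj a = aᵀ * M := by
    intro a
    rw [hadjdef, ← mul_assoc, ← mul_assoc, hMMi, one_mul]
  have hbil : ∀ (a : Matrix ι ι F) (x y : ι → F),
      QuadraticMap.polar Q (a *ᵥ x) y = QuadraticMap.polar Q x (adj a *ᵥ y) := by
    intro a x y
    rw [hpol, hpol, Matrix.mulVec_mulVec, hMadj, ← Matrix.mulVec_mulVec,
      Matrix.dotProduct_mulVec x aᵀ, Matrix.vecMul_transpose]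
  have hiso : ∀ a : Matrix ι ι F, (∀ x, Q (a *ᵥ x) = Q x) → a * adj a = 1 := by
    intro a ha
    apply mul_eq_one_comm.mp
    have h1 : aᵀ * M * a = M := by
      apply mat_ext_bilin
      intro x y
      rw [bilin_congr, ← hpol, ← hpol, polar_pres Q a ha]
    rw [hadjdef]
    calc Mi * aᵀ * M * a = Mi * (aᵀ * M * a) := by simp only [mul_assoc]
      _ = 1 := by rw [h1, hMiM]
  have hA := hiso A hAQ
  have hB := hiso B hBQ
  obtain ⟨S, T, ε, e, c', k, hcl, hadjcl, hscal, hAS, hTS, hc'S, hT, hTu, hTadj, hk1, hε, he,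
    hidem, hadjε, hfit, hF1, hc'e⟩ :=
    semi_common adj hadd hmul hone hinv hsmul A B P hA hB hP hPA N hN hAN
  have hA' : adj A * A = 1 := mul_eq_one_comm.mp hA
  have hadjAS : adj A ∈ Subring.closure S := hadjcl A hAS
  have hεS : ε ∈ Subring.closure S := by rw [hε]; exact pow_mem (sub_mem hAS hadjAS) k
  have heS : e ∈ Subring.closure S := by rw [he]; exact sub_mem (one_mem _) hεS
  have hεe : ε + e = 1 := by rw [he]; abel
  have hεe0 : ε * e = 0 := by rw [he, mul_sub, mul_one, hidem, sub_self]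
  have heε0 : e * ε = 0 := by rw [hcl e heS ε hεS]; exact hεe0
  have hAe : A * e = adj A * e := by
    have := hfit
    rw [sub_mul, sub_eq_zero] at this
    exact this
  have hAAe : A * (A * e) = e := by rw [hAe, ← mul_assoc, hA, one_mul]
  have hAe1 : A * e = e := by
    obtain ⟨j, hj⟩ := hNodd
    have h1 : ∀ i : ℕ, A ^ (2 * i) * e = e := by
      intro i
      induction i with
      | zero => rw [mul_zero, pow_zero, one_mul]
      | succ i ih =>
        have : 2 * (i + 1) = 2 * i + 1 + 1 := by ring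
        rw [this, pow_succ, pow_succ, mul_assoc, mul_assoc, hAAe, ih]
    have h2 : A ^ N * e = A * e := by
      rw [hj, pow_succ, mul_assoc, hcl A hAS e heS, ← mul_assoc, h1, hcl e heS A hAS]
    rw [← h2, hAN, one_mul]
  obtain ⟨Pi, hPi⟩ := hP.exists_right_inv
  have hPi' : Pi * P = 1 := mul_eq_one_comm.mp hPi
  obtain ⟨Ti, hTi⟩ := hTu.exists_left_inv
  have hTi' : T * Ti = 1 := mul_eq_one_comm.mp hTi
  have hadjTi : adj Ti = Ti := by
    have h1 : adj Ti * T = 1 := by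
      calc adj Ti * T = adj Ti * adj T := by rw [hTadj]
        _ = adj (T * Ti) := (hmul _ _).symm
        _ = 1 := by rw [hTi', hone]
    calc adj Ti = adj Ti * (T * Ti) := by rw [hTi', mul_one]
      _ = Ti := by rw [← mul_assoc, h1, one_mul]
  have hTicomm : ∀ x, x * T = T * x → x * Ti = Ti * x := by
    intro x hx
    calc x * Ti = (Ti * T) * x * Ti := by rw [hTi, one_mul]
      _ = Ti * (T * x) * Ti := by simp only [mul_assoc]
      _ = Ti * (x * T) * Ti := by rw [hx]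
      _ = Ti * x * (T * Ti) := by simp only [mul_assoc]
      _ = Ti * x := by rw [hTi', mul_one]
  have hac'S : adj c' ∈ Subring.closure S := hadjcl c' hc'S
  have hεc' : ε * c' = c' := by
    have h1 : c' * ε = c' := by
      calc c' * ε = c' * ε + c' * e := by rw [hc'e, add_zero]
        _ = c' := by rw [← mul_add, hεe, mul_one]
    rw [hcl ε hεS c' hc'S]; exact h1
  obtain ⟨d', hd'⟩ : ∃ d', d' = Ti * adj c' := ⟨_, rfl⟩
  have hd'c' : d' * c' = ε := by rw [hd', mul_assoc, hF1, ← mul_assoc, hTi, one_mul]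
  have hc'd' : c' * d' = ε := by
    rw [hd', ← mul_assoc, hTicomm c' (hcl c' hc'S T hTS), mul_assoc, hcl c' hc'S _ hac'S, hF1,
      ← mul_assoc, hTi, one_mul]
  have hd'A : d' * A = A * d' := by
    rw [hd', mul_assoc, hcl _ hac'S A hAS, ← mul_assoc, ← hTicomm A (hcl A hAS T hTS), mul_assoc]
  obtain ⟨S₀, hS₀⟩ : ∃ S₀, S₀ = P * d' := ⟨_, rfl⟩
  have hS₀A : S₀ * A = B * S₀ := by rw [hS₀, mul_assoc, hd'A, ← mul_assoc, hPA, mul_assoc]
  have hadjS₀ : adj S₀ * S₀ = ε := by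
    rw [hS₀, hmul]
    have h1 : adj d' = c' * Ti := by rw [hd', hmul, hinv, hadjTi]
    calc adj d' * adj P * (P * d') = adj d' * (adj P * P) * d' := by simp only [mul_assoc]
      _ = c' * Ti * T * (Ti * adj c') := by rw [← hT, h1, hd']
      _ = c' * (Ti * T) * (Ti * adj c') := by simp only [mul_assoc]
      _ = c' * d' := by rw [hTi, mul_one, hd']
      _ = ε := hc'd'
  have hpolS₀ : ∀ x y, QuadraticMap.polar Q (S₀ *ᵥ x) (S₀ *ᵥ y)
      = QuadraticMap.polar Q x (ε *ᵥ y) := by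
    intro x y
    rw [hbil, Matrix.mulVec_mulVec, hadjS₀]
  have hf : ∀ x, Q (S₀ *ᵥ (ε *ᵥ x)) = Q (ε *ᵥ x) := by
    obtain ⟨f, hfdef⟩ : ∃ f : (ι → F) → F, ∀ z, f z = Q (S₀ *ᵥ z) - Q z := ⟨_, fun z => rfl⟩
    have hfadd : ∀ z w, ε *ᵥ w = w → f (z + w) = f z + f w := by
      intro z w hw
      have h1 : Q (S₀ *ᵥ (z + w)) = Q (S₀ *ᵥ z) + Q (S₀ *ᵥ w)
          + QuadraticMap.polar Q (S₀ *ᵥ z) (S₀ *ᵥ w) := by
        rw [Matrix.mulVec_add]; unfold QuadraticMap.polar; ring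
      have h2 : Q (z + w) = Q z + Q w + QuadraticMap.polar Q z w := by
        unfold QuadraticMap.polar; ring
      rw [hfdef, hfdef, hfdef, h1, h2, hpolS₀, hw]; ring
    have hfA : ∀ z, f (A *ᵥ z) = f z := by
      intro z
      rw [hfdef, hfdef, Matrix.mulVec_mulVec, hS₀A, ← Matrix.mulVec_mulVec, hBQ, hAQ]
    have hfneg : ∀ z, f (-z) = f z := by
      intro z
      rw [hfdef, hfdef, Matrix.mulVec_neg, QuadraticMap.map_neg, QuadraticMap.map_neg]
    have hf2 : ∀ z, ε *ᵥ z = z → f z + f z = 0 := by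
      intro z hz
      have h1 := hfadd z z hz
      have h2 : f (z + z) = 4 * f z := by
        rw [hfdef, hfdef, ← two_smul F z, Matrix.mulVec_smul, QuadraticMap.map_smul,
          QuadraticMap.map_smul, smul_eq_mul, smul_eq_mul]
        ring
      rw [h2] at h1
      linear_combination h1
    have hfA1 : ∀ z, ε *ᵥ z = z → f ((A - 1) *ᵥ z) = 0 := by
      intro z hz
      have hAz : ε *ᵥ (A *ᵥ z) = A *ᵥ z := by
        rw [Matrix.mulVec_mulVec, hcl ε hεS A hAS, ← Matrix.mulVec_mulVec, hz]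
      have h1 : (A - 1) *ᵥ z = -z + A *ᵥ z := by
        rw [Matrix.sub_mulVec, Matrix.one_mulVec]; abel
      rw [h1, hfadd (-z) (A *ᵥ z) hAz, hfneg, hfA]
      exact hf2 z hz
    obtain ⟨s, rfl⟩ : ∃ s, k = s + 1 := ⟨k - 1, by omega⟩
    obtain ⟨u, hu⟩ : ∃ u, u = (1 + adj A) * (A - adj A) ^ s := ⟨_, rfl⟩
    have huε : (A - 1) * u = ε := by
      rw [hu, hε, pow_succ', ← mul_assoc]
      congr 1
      rw [sub_mul, mul_add, mul_one, one_mul, hA]; abel
    have huS : u ∈ Subring.closure S := by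
      rw [hu]
      exact mul_mem (add_mem (one_mem _) hadjAS) (pow_mem (sub_mem hAS hadjAS) s)
    intro x
    have h1 : ε *ᵥ x = (A - 1) *ᵥ (ε *ᵥ (u *ᵥ x)) := by
      rw [Matrix.mulVec_mulVec, Matrix.mulVec_mulVec, mul_assoc, hcl ε hεS u huS, ← mul_assoc, huε,
        hidem]
    have h2 := hfA1 (ε *ᵥ (u *ᵥ x)) (by rw [Matrix.mulVec_mulVec, hidem])
    rw [← h1, hfdef] at h2
    exact sub_eq_zero.mp h2
  obtain ⟨X, hX⟩ : ∃ X : Submodule F (ι → F), X = LinearMap.range (Matrix.toLin' ε) := ⟨_, rfl⟩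
  have hmemX : ∀ x : ι → F, x ∈ X ↔ ε *ᵥ x = x := by
    intro x
    rw [hX, LinearMap.mem_range]
    constructor
    · rintro ⟨v, rfl⟩
      rw [Matrix.toLin'_apply, Matrix.mulVec_mulVec, hidem]
    · intro h
      exact ⟨x, by rw [Matrix.toLin'_apply, h]⟩
  obtain ⟨fl, hfl⟩ : ∃ fl : X →ₗ[F] (ι → F), ∀ x : X, fl x = S₀ *ᵥ (x : ι → F) :=
    ⟨(Matrix.toLin' S₀).comp X.subtype, fun x => rfl⟩
  have hinj : Function.Injective fl := by
    rw [← LinearMap.ker_eq_bot, LinearMap.ker_eq_bot']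
    intro x hx
    rw [hfl] at hx
    apply Subtype.ext
    have hx1 := (hmemX _).mp x.2
    have h1 : d' *ᵥ (x : ι → F) = 0 := by
      have := congrArg (fun v => Pi *ᵥ v) hx
      simp only [hS₀, Matrix.mulVec_mulVec, ← mul_assoc, hPi', one_mul, Matrix.mulVec_zero] at this
      exact this
    have h2 := congrArg (fun v => c' *ᵥ v) h1
    simp only [Matrix.mulVec_mulVec, hc'd', Matrix.mulVec_zero, hx1] at h2
    exact h2
  obtain ⟨φ, hφ⟩ : ∃ φ : X ≃ₗ[F] LinearMap.range fl, ∀ x, (φ x : ι → F) = fl x :=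
    ⟨LinearEquiv.ofInjective fl hinj, fun x => rfl⟩
  obtain ⟨g, hg1, -⟩ := witt_matrix Q hQ X (LinearMap.range fl) φ (by
    intro x
    rw [hφ, hfl]
    have := hf x.1
    rw [(hmemX _).mp x.2] at this
    exact this)
  refine ⟨g, ?_⟩
  obtain ⟨G, hG⟩ : ∃ G : Matrix ι ι F, G = ((g : GL ι F) : Matrix ι ι F) := ⟨_, rfl⟩
  rw [← hG]
  have hGQ : ∀ x, Q (G *ᵥ x) = Q x := by rw [hG]; exact iso_pres Q g
  have hGX : ∀ x, G *ᵥ (ε *ᵥ x) = S₀ *ᵥ (ε *ᵥ x) := by
    intro x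
    have := hg1 ⟨ε *ᵥ x, (hmemX _).mpr (by rw [Matrix.mulVec_mulVec, hidem])⟩
    rw [hφ, hfl] at this
    rw [hG]; exact this
  apply Matrix.toLin'.injective
  apply LinearMap.ext
  intro v
  rw [Matrix.toLin'_apply, Matrix.toLin'_apply, ← Matrix.mulVec_mulVec, ← Matrix.mulVec_mulVec]
  have hv : v = ε *ᵥ v + e *ᵥ v := by rw [← Matrix.add_mulVec, hεe, Matrix.one_mulVec]
  have hp1 : G *ᵥ (A *ᵥ (ε *ᵥ v)) = B *ᵥ (G *ᵥ (ε *ᵥ v)) := by
    have h1 : A *ᵥ (ε *ᵥ v) = ε *ᵥ (A *ᵥ v) := by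
      rw [Matrix.mulVec_mulVec, Matrix.mulVec_mulVec, hcl A hAS ε hεS]
    rw [h1, hGX, hGX, ← h1, Matrix.mulVec_mulVec, hS₀A, ← Matrix.mulVec_mulVec]
  have hp2 : G *ᵥ (A *ᵥ (e *ᵥ v)) = B *ᵥ (G *ᵥ (e *ᵥ v)) := by
    rw [Matrix.mulVec_mulVec _ A e, hAe1]
    obtain ⟨w, hw⟩ : ∃ w, w = G *ᵥ (e *ᵥ v) := ⟨_, rfl⟩
    rw [← hw]
    have h1 : ∀ z, QuadraticMap.polar Q w (S₀ *ᵥ (ε *ᵥ z)) = 0 := by
      intro z
      rw [hw, ← hGX, polar_pres Q G hGQ]
      have h2 := hbil ε (e *ᵥ v) z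
      rw [hadjε, Matrix.mulVec_mulVec, hεe0, Matrix.zero_mulVec] at h2
      rw [← h2]
      exact QuadraticMap.polar_zero_left _ _
    obtain ⟨εB, hεB⟩ : ∃ εB, εB = P * ε * Pi := ⟨_, rfl⟩
    have h2 : ∀ z, εB *ᵥ z = S₀ *ᵥ (ε *ᵥ (c' *ᵥ (Pi *ᵥ z))) := by
      intro z
      simp only [Matrix.mulVec_mulVec]
      congr 1
      rw [hεB, hS₀]
      calc P * ε * Pi = P * (d' * c') * Pi := by rw [hd'c']
        _ = P * (d' * (ε * c')) * Pi := by rw [hεc']
        _ = P * d' * (ε * (c' * Pi)) := by simp only [mul_assoc]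
    have hadjεB : adj εB = εB := by
      have h3 : adj Pi * adj P = 1 := by rw [← hmul, hPi, hone]
      have h4 : ε * (adj P * P) = (adj P * P) * ε := by rw [← hT]; exact hcl ε hεS T hTS
      rw [hεB, hmul, hmul, hadjε]
      calc adj Pi * (ε * adj P) = adj Pi * (ε * adj P) * (P * Pi) := by rw [hPi, mul_one]
        _ = adj Pi * (ε * (adj P * P)) * Pi := by simp only [mul_assoc]
        _ = adj Pi * ((adj P * P) * ε) * Pi := by rw [h4]
        _ = (adj Pi * adj P) * P * ε * Pi := by simp only [mul_assoc]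
        _ = P * ε * Pi := by rw [h3, one_mul]
    have h3 : εB *ᵥ w = 0 := by
      apply hQ.1
      intro z
      show QuadraticMap.polar Q (εB *ᵥ w) z = 0
      rw [hbil, hadjεB, h2]
      exact h1 _
    have h4 : w = (P * e * Pi) *ᵥ w := by
      have : εB + P * e * Pi = 1 := by rw [hεB, ← add_mul, ← mul_add, hεe, mul_one, hPi]
      calc w = (εB + P * e * Pi) *ᵥ w := by rw [this, Matrix.one_mulVec]
        _ = _ := by rw [Matrix.add_mulVec, h3, zero_add]
    have h5 : B * (P * e * Pi) = P * e * Pi := by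
      rw [← mul_assoc, ← mul_assoc, ← hPA, mul_assoc P A e, hAe1]
    conv_rhs => rw [h4, Matrix.mulVec_mulVec, h5]
    exact h4
  conv_lhs => rw [hv]
  conv_rhs => rw [hv]
  rw [Matrix.mulVec_add, Matrix.mulVec_add, Matrix.mulVec_add, Matrix.mulVec_add, hp1, hp2]

theorem o_conj_iff {F : Type*} [Field F] [Fintype F] {p : ℕ} [Fact p.Prime] [CharP F p] {n : ℕ}
    (Q : QuadraticForm F (Fin n → F)) (hQ : (QuadraticMap.polarBilin Q).Nondegenerate)
    (A B : ↥(Cfsg.isometryGroup F ⇑Q)) (hodd : Odd (orderOf A)) (hA : (orderOf A).Coprime p) :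
    IsConj A B ↔ IsConj ((A : Matrix.GeneralLinearGroup (Fin n) F) : Matrix (Fin n) (Fin n) F)
      ((B : Matrix.GeneralLinearGroup (Fin n) F) : Matrix (Fin n) (Fin n) F) := by
  constructor
  · intro h
    obtain ⟨c, hc⟩ := isConj_iff.mp h
    have h1 : c * A = B * c := by rw [← hc]; group
    have h2 : c.1.1 * A.1.1 = B.1.1 * c.1.1 := by
      have := congrArg (fun x : ↥(Cfsg.isometryGroup F ⇑Q) => x.1.1) h1
      exact this
    exact ⟨c.1, h2⟩
  · rintro ⟨P, hP⟩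
    have hP' : P.1 * A.1.1 = B.1.1 * P.1 := hP
    obtain ⟨N, hN⟩ : ∃ N, N = orderOf A := ⟨_, rfl⟩
    have hAN : A.1.1 ^ N = 1 := by
      have h1 : A ^ N = 1 := by rw [hN]; exact pow_orderOf_eq_one A
      have := congrArg (fun x : ↥(Cfsg.isometryGroup F ⇑Q) => x.1.1) h1
      simp only [Subgroup.coe_pow, Units.val_pow_eq_pow_val, OneMemClass.coe_one, Units.val_one] at this
      exact this
    have hNF : (N : F) ≠ 0 := by
      intro h0
      rw [CharP.cast_eq_zero_iff F p] at h0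
      rw [← hN] at hA
      have h1 : p ∣ Nat.gcd N p := Nat.dvd_gcd h0 dvd_rfl
      rw [hA] at h1
      exact (Fact.out : p.Prime).one_lt.ne' (Nat.dvd_one.mp h1)
    rw [← hN] at hodd
    obtain ⟨g, hg⟩ := o_conj_core Q hQ A.1.1 B.1.1 P.1 (iso_pres Q A) (iso_pres Q B) P.isUnit hP' N
      hodd hNF hAN
    apply isConj_iff.mpr
    refine ⟨g, ?_⟩
    rw [mul_inv_eq_iff_eq_mul]
    apply Subtype.ext
    apply Units.ext
    exact hg

end Cfsg.Agent.Lib.Helper16.OSemi
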