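import Mathlib
import Cfsg.Agent.Lib.Helper16.OReal1
import Cfsg.Agent.Lib.Helper16.OReal2
import Cfsg.Agent.Lib.Helper16.OSemi1

set_option autoImplicit false
set_option linter.unusedSectionVars false
set_option linter.unusedSimpArgs false
set_option linter.unusedVariables false
set_option linter.unusedTactic false

namespace Cfsg.Agent.Lib.Helper16.OSemi

open Matrix Module Cfsg.Agent.Lib.Helper16.SpSemi

universe u

variable {F : Type u} [Field F] {m : ℕ}

/-- index type of the odd-dimensional orthogonal space. -/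
abbrev OI (m : ℕ) : Type := Unit ⊕ (Fin m ⊕ Fin m)

/-- "half Gram matrix" of `quadFormOdd`. -/
def S0 (F : Type u) [Field F] (m : ℕ) : Matrix (OI m) (OI m) F :=
  Matrix.fromBlocks 1 0 0 (Matrix.fromBlocks 0 ((2 : F)⁻¹ • 1) ((2 : F)⁻¹ • 1) 0)

/-- its inverse. -/
def S0i (F : Type u) [Field F] (m : ℕ) : Matrix (OI m) (OI m) F :=
  Matrix.fromBlocks 1 0 0 (Matrix.fromBlocks 0 ((2 : F) • 1) ((2 : F) • 1) 0)

theorem S0i_mul_S0 (h2 : (2 : F) ≠ 0) : S0i F m * S0 F m = 1 := by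
  unfold S0 S0i
  rw [Matrix.fromBlocks_multiply, Matrix.fromBlocks_multiply]
  simp only [mul_one, mul_zero, zero_mul, add_zero, zero_add, Matrix.smul_mul, Matrix.mul_smul,
    Matrix.mul_zero, Matrix.zero_mul, Matrix.mul_one, Matrix.one_mul,
    smul_smul, mul_inv_cancel₀ h2, inv_mul_cancel₀ h2, one_smul, Matrix.fromBlocks_one]

theorem S0_quad (h2 : (2 : F) ≠ 0) (v : OI m → F) :
    v ⬝ᵥ S0 F m *ᵥ v = Cfsg.quadFormOdd m F v := by
  unfold Cfsg.quadFormOdd
  simp only [S0, dotProduct, Matrix.mulVec, Fintype.sum_sum_type, Matrix.fromBlocks_apply₁₁,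
    Matrix.fromBlocks_apply₁₂, Matrix.fromBlocks_apply₂₁, Matrix.fromBlocks_apply₂₂,
    Matrix.zero_apply, zero_mul, Finset.sum_const_zero, zero_add, add_zero,
    Matrix.one_apply, Matrix.smul_apply, smul_eq_mul, ite_mul, one_mul, mul_ite, mul_one, mul_zero,
    Finset.sum_ite_eq, Finset.mem_univ, if_true,
    Finset.univ_unique, Finset.sum_singleton]
  rw [← Finset.sum_add_distrib]
  congr 1
  · ring
  · apply Finset.sum_congr rfl
    intro a _
    have : (2 : F)⁻¹ + 2⁻¹ = 1 := by field_simp; norm_num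
    linear_combination (v (Sum.inr (Sum.inl a)) * v (Sum.inr (Sum.inr a))) * this


theorem sym_bilin_comm {ι : Type} [Fintype ι] (H : Matrix ι ι F) (hsym : Hᵀ = H) (x y : ι → F) :
    x ⬝ᵥ H *ᵥ y = y ⬝ᵥ H *ᵥ x := by
  rw [Matrix.dotProduct_mulVec, ← Matrix.mulVec_transpose, hsym, dotProduct_comm]

theorem o_odd_conj [Fintype F] (h2 : (2 : F) ≠ 0) (G H : Matrix (OI m) (OI m) F)
    (hsym : Hᵀ = H) (hH : IsUnit H) (hinv : Gᵀ * H * G = H) (hGu : IsUnit G) :
    ∃ (M : Matrix (OI m) (OI m) F) (B : ↥(Cfsg.isometryGroup F (Cfsg.quadFormOdd m F))),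
      IsUnit M ∧ M * ((B : GL (OI m) F) : Matrix (OI m) (OI m) F) = G * M := by
  classical
  obtain ⟨B, hBdef⟩ : ∃ B : LinearMap.BilinForm F (OI m → F), B = Matrix.toBilin' H := ⟨_, rfl⟩
  have hBapp : ∀ x y, B x y = x ⬝ᵥ H *ᵥ y := by
    intro x y
    rw [hBdef, Matrix.toBilin'_apply']
  have hS : B.IsSymm := ⟨fun x y => by rw [hBapp, hBapp]; exact sym_bilin_comm H hsym x y⟩
  have hB : B.Nondegenerate := by
    rw [hBdef]
    apply Matrix.Nondegenerate.toBilin'
    rw [Matrix.nondegenerate_iff_det_ne_zero]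
    exact ((Matrix.isUnit_iff_isUnit_det H).mp hH).ne_zero
  have hfin : finrank F (OI m → F) = 2 * m + 1 := by
    rw [Module.finrank_fintype_fun_eq_card, Fintype.card_sum, Fintype.card_sum, Fintype.card_unit,
      Fintype.card_fin]
    omega
  obtain ⟨e, h, w, hee, hhh, heh, hwe, hwh, hww⟩ := hyp_frame h2 m (OI m → F) B hS hB hfin
  obtain ⟨d, hd⟩ : ∃ d, d = B w w := ⟨_, rfl⟩
  rw [← hd] at hww
  obtain ⟨col, hcol⟩ : ∃ col : OI m → (OI m → F),
      col = Sum.elim (fun _ => w) (Sum.elim e (fun a => (d * 2⁻¹) • h a)) := ⟨_, rfl⟩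
  obtain ⟨M, hM⟩ : ∃ M : Matrix (OI m) (OI m) F, M = Matrix.of (fun j k => col k j) := ⟨_, rfl⟩
  have hentry : ∀ k l, (Mᵀ * H * M) k l = B (col k) (col l) := by
    intro k l
    rw [hBdef, Matrix.toBilin'_apply, Matrix.mul_apply]
    simp only [Matrix.mul_apply, Matrix.transpose_apply, hM, Matrix.of_apply, Finset.sum_mul]
    exact Finset.sum_comm
  have hGram : Mᵀ * H * M = d • S0 F m := by
    ext k l
    rw [hentry, hcol]
    rcases k with ⟨⟩ | a | a <;> rcases l with ⟨⟩ | b | b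
    · simp only [Sum.elim_inl, S0, Matrix.smul_apply, Matrix.fromBlocks_apply₁₁, Matrix.one_apply,
        if_true, smul_eq_mul, mul_one]
      exact hd.symm
    · simp only [Sum.elim_inl, Sum.elim_inr, S0, Matrix.smul_apply, Matrix.fromBlocks_apply₁₂,
        Matrix.zero_apply, smul_zero]
      exact hwe b
    · simp only [Sum.elim_inl, Sum.elim_inr, S0, Matrix.smul_apply, Matrix.fromBlocks_apply₁₂,
        Matrix.zero_apply, smul_zero, map_smul, smul_eq_mul, hwh b, mul_zero]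
    · simp only [Sum.elim_inl, Sum.elim_inr, S0, Matrix.smul_apply, Matrix.fromBlocks_apply₂₁,
        Matrix.zero_apply, smul_zero]
      rw [hS.eq]; exact hwe a
    · simp only [Sum.elim_inl, Sum.elim_inr, S0, Matrix.smul_apply, Matrix.fromBlocks_apply₂₂,
        Matrix.fromBlocks_apply₁₁, Matrix.zero_apply, smul_zero]
      exact hee a b
    · simp only [Sum.elim_inl, Sum.elim_inr, S0, Matrix.smul_apply, Matrix.fromBlocks_apply₂₂,
        Matrix.fromBlocks_apply₁₂, Matrix.one_apply, map_smul, smul_eq_mul, heh a b]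
      split_ifs <;> ring
    · simp only [Sum.elim_inl, Sum.elim_inr, S0, Matrix.smul_apply, Matrix.fromBlocks_apply₂₁,
        Matrix.zero_apply, smul_zero, map_smul, LinearMap.smul_apply, smul_eq_mul]
      rw [hS.eq, hwh a, mul_zero, mul_zero]
    · simp only [Sum.elim_inl, Sum.elim_inr, S0, Matrix.smul_apply, Matrix.fromBlocks_apply₂₂,
        Matrix.fromBlocks_apply₂₁, Matrix.one_apply, map_smul, LinearMap.smul_apply, smul_eq_mul]
      rw [hS.eq, heh b a]
      by_cases hab : a = b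
      · rw [if_pos hab, if_pos hab.symm]; ring
      · rw [if_neg hab, if_neg (Ne.symm hab)]; ring
    · simp only [Sum.elim_inl, Sum.elim_inr, S0, Matrix.smul_apply, Matrix.fromBlocks_apply₂₂,
        Matrix.zero_apply, smul_zero, map_smul, LinearMap.smul_apply, smul_eq_mul, hhh a b,
        mul_zero]
  have hMu : IsUnit M := by
    rw [← Matrix.mulVec_injective_iff_isUnit]
    suffices hker : ∀ x : OI m → F, M *ᵥ x = 0 → x = 0 by
      intro x y hxy
      have : M *ᵥ (x - y) = 0 := by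
        rw [Matrix.mulVec_sub]
        exact sub_eq_zero.mpr hxy
      exact sub_eq_zero.mp (hker _ this)
    intro x hx
    have h1 : (Mᵀ * H * M) *ᵥ x = 0 := by
      rw [← Matrix.mulVec_mulVec, hx, Matrix.mulVec_zero]
    rw [hGram, Matrix.smul_mulVec] at h1
    have h3 : S0 F m *ᵥ x = 0 := by
      rcases smul_eq_zero.mp h1 with h | h
      · exact absurd h hww
      · exact h
    have h4 := congrArg (fun v => S0i F m *ᵥ v) h3
    simp only [Matrix.mulVec_mulVec, S0i_mul_S0 h2, Matrix.one_mulVec, Matrix.mulVec_zero] at h4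
    exact h4
  obtain ⟨Mi, hMi⟩ := hMu.exists_right_inv
  have hMi' : Mi * M = 1 := mul_eq_one_comm.mp hMi
  obtain ⟨Gi, hGi⟩ := hGu.exists_right_inv
  have hGi' : Gi * G = 1 := mul_eq_one_comm.mp hGi
  have hqM : ∀ v : OI m → F, (M *ᵥ v) ⬝ᵥ H *ᵥ (M *ᵥ v) = d * Cfsg.quadFormOdd m F v := by
    intro v
    rw [← bilin_congr', hGram, Matrix.smul_mulVec, dotProduct_smul, smul_eq_mul, S0_quad h2]
  have hqG : ∀ v : OI m → F, (G *ᵥ v) ⬝ᵥ H *ᵥ (G *ᵥ v) = v ⬝ᵥ H *ᵥ v := by
    intro v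
    rw [← bilin_congr', hinv]
  have hMB : M * (Mi * G * M) = G * M := by
    rw [← mul_assoc, ← mul_assoc, hMi, one_mul]
  have hpres : ∀ v : OI m → F, Cfsg.quadFormOdd m F ((Mi * G * M) *ᵥ v)
      = Cfsg.quadFormOdd m F v := by
    intro v
    have h1 := hqM ((Mi * G * M) *ᵥ v)
    rw [Matrix.mulVec_mulVec, hMB, ← Matrix.mulVec_mulVec, hqG, hqM] at h1
    exact (mul_left_cancel₀ hww h1).symm
  have hu1 : (Mi * G * M) * (Mi * Gi * M) = 1 := by
    calc (Mi * G * M) * (Mi * Gi * M) = Mi * G * (M * Mi) * Gi * M := by simp only [mul_assoc]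
      _ = Mi * (G * Gi) * M := by rw [hMi, mul_one]; simp only [mul_assoc]
      _ = 1 := by rw [hGi, mul_one, hMi']
  have hu2 : (Mi * Gi * M) * (Mi * G * M) = 1 := mul_eq_one_comm.mp hu1
  refine ⟨M, ⟨⟨Mi * G * M, Mi * Gi * M, hu1, hu2⟩, ?_⟩, hMu, hMB⟩
  rw [mem_iso_iff]
  exact hpres

end Cfsg.Agent.Lib.Helper16.OSemi
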