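import Mathlib
import Cfsg.Agent.Lib.Helper16.OReal5
import Cfsg.Agent.Lib.Helper16.OReal3

set_option autoImplicit false
set_option linter.unusedSectionVars false
set_option linter.unusedSimpArgs false
set_option linter.unusedVariables false
set_option linter.unusedTactic false

namespace Cfsg.Agent.Lib.Helper16.OSemi

open Matrix Module Polynomial Cfsg.Agent.Lib.Helper16.SpSemi

universe u

variable {K : Type u} [Field K] {ι : Type} [Fintype ι] [DecidableEq ι]

/-- a fixed-point-free semisimple `G` of odd order conjugate to its inverse transpose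
preserves a nondegenerate quadratic form (all characteristics). -/
theorem exists_invariant_qf [Fintype K] (G P : Matrix ι ι K) (r : ℕ) (hrodd : Odd r)
    (hrF : (r : K) ≠ 0) (hG : G ^ r = 1) (hP : IsUnit P) (hGP : Gᵀ * P * G = P)
    (hfpf : ∀ v, G *ᵥ v = v → v = 0) :
    ∃ Qf : QuadraticForm K (ι → K), (QuadraticMap.polarBilin Qf).Nondegenerate ∧
      ∀ v, Qf (G *ᵥ v) = Qf v := by
  classical
  obtain ⟨H', ε, e, c, d, A₀, hεe, hidem, hεG, hGe, -, hH', hdc, hce, hcG, hsym, hinv, hA₀inv,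
    hA₀sum, -⟩ := exists_quad_invariant G P r hrodd hrF hG hP hGP
  have he0 : e = 0 := by
    rw [Matrix.ext_iff_mulVec]
    intro x
    rw [Matrix.zero_mulVec]
    apply hfpf
    rw [Matrix.mulVec_mulVec, hGe]
  have hε1 : ε = 1 := by rw [← hεe, he0, add_zero]
  obtain ⟨Pinv, hPi⟩ := hP.exists_right_inv
  have hPi' : Pinv * P = 1 := mul_eq_one_comm.mp hPi
  have hH'inj : ∀ x : ι → K, H' *ᵥ x = 0 → x = 0 := by
    intro x hx
    have h1 : c *ᵥ x = 0 := by
      have := congrArg (fun v => Pinv *ᵥ v) hx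
      simp only [hH', Matrix.mulVec_mulVec, ← mul_assoc, hPi', one_mul, Matrix.mulVec_zero] at this
      exact this
    have h2 := congrArg (fun v => d *ᵥ v) h1
    simp only [Matrix.mulVec_mulVec, hdc, hε1, Matrix.one_mulVec, Matrix.mulVec_zero] at h2
    exact h2
  obtain ⟨Qf, hQf⟩ : ∃ Qf : QuadraticForm K (ι → K), Qf = (Matrix.toBilin' A₀).toQuadraticMap :=
    ⟨_, rfl⟩
  have hQfapp : ∀ v, Qf v = v ⬝ᵥ A₀ *ᵥ v := by
    intro v
    rw [hQf, LinearMap.BilinMap.toQuadraticMap_apply, Matrix.toBilin'_apply']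
  have hpol : ∀ x y, QuadraticMap.polar ⇑Qf x y = x ⬝ᵥ H' *ᵥ y := by
    intro x y
    rw [hQf, LinearMap.BilinMap.polar_toQuadraticMap, Matrix.toBilin'_apply',
      Matrix.toBilin'_apply', ← hA₀sum, Matrix.add_mulVec, dotProduct_add]
    congr 1
    rw [Matrix.dotProduct_mulVec, ← Matrix.mulVec_transpose, dotProduct_comm]
  have hsep : ∀ x : ι → K, (∀ y, QuadraticMap.polar ⇑Qf x y = 0) → x = 0 := by
    intro x hx
    apply hH'inj
    funext k
    have := hx (Pi.single k 1)
    rw [hpol, sym_bilin_comm H' hsym, single_one_dotProduct] at this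
    exact this
  refine ⟨Qf, ⟨fun x hx => hsep x hx, fun y hy => hsep y (fun x => ?_)⟩, ?_⟩
  · rw [QuadraticMap.polar_comm]
    exact hy x
  · intro v
    rw [hQfapp, hQfapp, ← bilin_congr', hA₀inv]

end Cfsg.Agent.Lib.Helper16.OSemi
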