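import Mathlib
import Cfsg.Agent.Lib.Helper16.OHelp
import Cfsg.Agent.Lib.Helper16.OReal6

set_option autoImplicit false
set_option linter.unusedSectionVars false
set_option linter.unusedSimpArgs false
set_option linter.unusedVariables false
set_option linter.unusedTactic false

namespace Cfsg.Agent.Lib.Helper16.OSemi

open Matrix Module Cfsg.Agent.Lib.Helper16

universe u

variable {F : Type u} [Field F]


/-- inclusion of the left summand of coordinates. -/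
def sumInlL (ι₁ ι₂ : Type) (F : Type u) [Field F] : (ι₁ → F) →ₗ[F] (ι₁ ⊕ ι₂ → F) where
  toFun v := Sum.elim v 0
  map_add' := by
    intro v w
    funext x
    rcases x with x | x <;> simp
  map_smul' := by
    intro c v
    funext x
    rcases x with x | x <;> simp

/-- inclusion of the right summand of coordinates. -/
def sumInrL (ι₁ ι₂ : Type) (F : Type u) [Field F] : (ι₂ → F) →ₗ[F] (ι₁ ⊕ ι₂ → F) where
  toFun v := Sum.elim 0 v
  map_add' := by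
    intro v w
    funext x
    rcases x with x | x <;> simp
  map_smul' := by
    intro c v
    funext x
    rcases x with x | x <;> simp

theorem sumInlL_apply (ι₁ ι₂ : Type) (F : Type u) [Field F] (v : ι₁ → F) :
    sumInlL ι₁ ι₂ F v = Sum.elim v (0 : ι₂ → F) := rfl

theorem sumInrL_apply (ι₁ ι₂ : Type) (F : Type u) [Field F] (v : ι₂ → F) :
    sumInrL ι₁ ι₂ F v = Sum.elim (0 : ι₁ → F) v := rfl

theorem sumInlL_injective (ι₁ ι₂ : Type) (F : Type u) [Field F] :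
    Function.Injective (sumInlL ι₁ ι₂ F) := by
  intro v w h
  funext x
  have := congrFun h (Sum.inl x)
  simpa [sumInlL_apply] using this

theorem sumInrL_injective (ι₁ ι₂ : Type) (F : Type u) [Field F] :
    Function.Injective (sumInrL ι₁ ι₂ F) := by
  intro v w h
  funext x
  have := congrFun h (Sum.inr x)
  simpa [sumInrL_apply] using this

/-- standard forms of prescribed type and dimension. -/
theorem exists_std_form [Fintype F] (k' : ℕ) (s'' : ℤ)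
    (h : s'' = 1 ∨ (s'' = -1 ∧ 1 ≤ k' ∧ ∃ a c : F,
      ∀ z₁ z₂ : F, z₁ ^ 2 + a * z₁ * z₂ + c * z₂ ^ 2 = 0 → z₁ = 0 ∧ z₂ = 0)) :
    ∃ (κ₁ : Type) (_ : Fintype κ₁) (_ : DecidableEq κ₁) (Q₁ : QuadraticForm F (κ₁ → F)),
      Fintype.card κ₁ = 2 * k' ∧ (QuadraticMap.polarBilin Q₁).Nondegenerate ∧
      IsType (⇑Q₁) k' s'' := by
  rcases h with rfl | ⟨rfl, hk, a, c, hac⟩
  · exact ⟨Fin k' ⊕ Fin k', inferInstance, inferInstance, qfPlus k' F, card_plus_index k',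
      qfPlus_nondeg k' F, isType_plus k'⟩
  · refine ⟨(Fin (k' - 1) ⊕ Fin (k' - 1)) ⊕ Fin 2, inferInstance, inferInstance,
      qfMinus (k' - 1) F a c, ?_, qfMinus_nondeg (k' - 1) a c hac, ?_⟩
    · rw [Fintype.card_sum, Fintype.card_sum, Fintype.card_fin, Fintype.card_fin]
      omega
    · have := isType_minus (k' - 1) a c hac
      rw [show k' - 1 + 1 = k' by omega] at this
      exact this

/-- classification, packaged. -/
theorem classify_pack [Fintype F] {ι : Type} [Fintype ι] [DecidableEq ι] {m : ℕ} (hm : 1 ≤ m)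
    (hcard : Fintype.card ι = 2 * m) (Qf : QuadraticForm F (ι → F))
    (hnd : (QuadraticMap.polarBilin Qf).Nondegenerate) :
    ∃ (κ : Type) (_ : Fintype κ) (_ : DecidableEq κ) (Q : QuadraticForm F (κ → F)) (s : ℤ)
      (Φ : (κ → F) ≃ₗ[F] (ι → F)), Fintype.card κ = 2 * m ∧ (s = 1 ∨ s = -1) ∧
      IsType (⇑Q) m s ∧ (∀ v, Qf (Φ v) = Q v) ∧
      (s = -1 → ∃ a c : F, ∀ z₁ z₂ : F, z₁ ^ 2 + a * z₁ * z₂ + c * z₂ ^ 2 = 0 → z₁ = 0 ∧ z₂ = 0) := by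
  rcases classify hm hcard Qf hnd with ⟨Φ, hΦ⟩ | ⟨ζ, hζ, Φ, hΦ⟩
  · exact ⟨Fin m ⊕ Fin m, inferInstance, inferInstance, qfPlus m F, 1, Φ, card_plus_index m,
      Or.inl rfl, isType_plus m, hΦ, fun h => absurd h (by norm_num)⟩
  · refine ⟨(Fin (m - 1) ⊕ Fin (m - 1)) ⊕ Fin 2, inferInstance, inferInstance,
      qfMinus (m - 1) F 1 ζ, -1, Φ, ?_, Or.inr rfl, ?_, hΦ,
      fun _ => ⟨1, ζ, aniso_of_irred ζ hζ⟩⟩
    · rw [Fintype.card_sum, Fintype.card_sum, Fintype.card_fin, Fintype.card_fin]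
      omega
    · have := isType_minus (m - 1) 1 ζ (aniso_of_irred ζ hζ)
      rw [show m - 1 + 1 = m by omega] at this
      exact this

/-- type of an orthogonal sum. -/
theorem isType_sumQF [Fintype F] {ι₁ ι₂ : Type} [Fintype ι₁] [DecidableEq ι₁] [Fintype ι₂]
    [DecidableEq ι₂] (Q₁ : QuadraticForm F (ι₁ → F)) (Q₂ : QuadraticForm F (ι₂ → F))
    (h₁ : (QuadraticMap.polarBilin Q₁).Nondegenerate) (m₁ m₂ : ℕ) (hm₁ : 1 ≤ m₁)
    (hc₁ : Fintype.card ι₁ = 2 * m₁) (hc₂ : Fintype.card ι₂ = 2 * m₂) (s₁ s₂ : ℤ)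
    (ht₁ : IsType (⇑Q₁) m₁ s₁) (ht₂ : IsType (⇑Q₂) m₂ s₂) :
    IsType (⇑(sumQF Q₁ Q₂)) (m₁ + m₂) (s₁ * s₂) := by
  have h := isType_sum Q₁ h₁ m₁ hm₁ hc₁ s₁ ht₁ (⇑Q₂) m₂ (by rw [Fintype.card_fun, hc₂]) s₂ ht₂
  refine (isType_congr (Equiv.sumArrowEquivProdArrow ι₁ ι₂ F) _ _ ?_ (m₁ + m₂) (s₁ * s₂)).mp h
  intro v
  rfl


theorem realize_std [Fintype F] (r : ℕ) [Fact r.Prime] (hr2 : r ≠ 2)
    (hrq : ¬ r ∣ Fintype.card F) (hrF : (r : F) ≠ 0)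
    {n'' m'' : ℕ} (hn'' : n'' = 2 * m'') (hm'' : 1 ≤ m'')
    (G P : Matrix (Fin n'') (Fin n'') F) (hG : G ^ r = 1) (hP : IsUnit P) (hGP : Gᵀ * P * G = P)
    (hfpf : ∀ v, G *ᵥ v = v → v = 0)
    (k' m : ℕ) (hmk : m = m'' + k')
    {κ : Type} [Fintype κ] [DecidableEq κ] (Qt : QuadraticForm F (κ → F)) (st : ℤ)
    (hst : st = 1 ∨ st = -1)
    (huniq : ∀ {ι : Type} [Fintype ι] [DecidableEq ι] (Qf : QuadraticForm F (ι → F)),
      (QuadraticMap.polarBilin Qf).Nondegenerate → Fintype.card ι = 2 * m → IsType (⇑Qf) m st →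
      ∃ Φ : (κ → F) ≃ₗ[F] (ι → F), ∀ v, Qf (Φ v) = Qt v)
    (han : st = -1 → ∃ a c : F,
      ∀ z₁ z₂ : F, z₁ ^ 2 + a * z₁ * z₂ + c * z₂ ^ 2 = 0 → z₁ = 0 ∧ z₂ = 0)
    (hT : k' = 0 → ∀ s' : ℤ, (s' = 1 ∨ s' = -1) →
      ((Fintype.card F : ℕ) : ZMod r) ^ m = (s' : ZMod r) → s' = st) :
    ∃ B : ↥(Cfsg.isometryGroup F ⇑Qt), B ^ r = 1 ∧
      (∃ J : (Fin n'' → F) →ₗ[F] (κ → F), Function.Injective J ∧
        ∀ v, ((B : GL κ F) : Matrix κ κ F) *ᵥ J v = J (G *ᵥ v)) ∧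
      (∃ (κ₁ : Type) (_ : Fintype κ₁) (J₂ : (κ₁ → F) →ₗ[F] (κ → F)), Fintype.card κ₁ = 2 * k' ∧
        Function.Injective J₂ ∧ ∀ w, ((B : GL κ F) : Matrix κ κ F) *ᵥ J₂ w = J₂ w) := by
  classical
  have hr : r.Prime := Fact.out
  have hrodd : Odd r := hr.odd_of_ne_two hr2
  obtain ⟨Qf'', hnd'', hinv''⟩ := exists_invariant_qf G P r hrodd hrF hG hP hGP hfpf
  have hcardn : Fintype.card (Fin n'') = 2 * m'' := by rw [Fintype.card_fin, hn'']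
  obtain ⟨κ'', hκF, hκD, Q'', s', Φ'', hcard'', hs'pm, hs'type, hΦ'', hs'an⟩ :=
    classify_pack hm'' hcardn Qf'' hnd''
  have hnd2 : (QuadraticMap.polarBilin Q'').Nondegenerate :=
    nondeg_of_equiv Qf'' Q'' Φ'' hΦ'' hnd''
  obtain ⟨M, Mi, hMMi, hMiM, hMv, hMiv⟩ := conj_data Φ''
  obtain ⟨B'', hB''⟩ : ∃ B'' : Matrix κ'' κ'' F, B'' = Mi * G * M := ⟨_, rfl⟩
  have hB''v : ∀ v, B'' *ᵥ v = Φ''.symm (G *ᵥ Φ'' v) := by
    intro v
    rw [hB'', ← Matrix.mulVec_mulVec, ← Matrix.mulVec_mulVec, hMv, hMiv]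
  have hB''r : B'' ^ r = 1 := by
    have h1 := conj_pow M Mi hMMi G r
    rw [hG, Matrix.mul_one, ← hB''] at h1
    calc B'' ^ r = B'' ^ r * (Mi * M) := by rw [hMiM, mul_one]
      _ = (B'' ^ r * Mi) * M := by rw [Matrix.mul_assoc]
      _ = 1 := by rw [h1, hMiM]
  have hQ''inv : ∀ w, Q'' (Φ''.symm w) = Qf'' w := by
    intro w
    rw [← hΦ'', LinearEquiv.apply_symm_apply]
  have hB''Q : ∀ v, Q'' (B'' *ᵥ v) = Q'' v := by
    intro v
    rw [hB''v, hQ''inv, hinv'', hΦ'']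
  have hB''fpf : ∀ v, B'' *ᵥ v = v → v = 0 := by
    intro v hv
    rw [hB''v, LinearEquiv.symm_apply_eq] at hv
    have := hfpf _ hv
    exact Φ''.map_eq_zero_iff.mp this
  have hxm'' := type_of_fpf Q'' hnd2 m'' hm'' hcard'' s' hs'type B'' hB''Q r hB''r hB''fpf hrq
  -- the complementary form
  obtain ⟨s'', hs''⟩ : ∃ s'' : ℤ, s'' = st * s' := ⟨_, rfl⟩
  have hss : s' * s'' = st := by
    rw [hs'']
    rcases hs'pm with h | h <;> rw [h] <;> ring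
  have hs''cases : s'' = 1 ∨ (s'' = -1 ∧ 1 ≤ k' ∧ ∃ a c : F,
      ∀ z₁ z₂ : F, z₁ ^ 2 + a * z₁ * z₂ + c * z₂ ^ 2 = 0 → z₁ = 0 ∧ z₂ = 0) := by
    by_cases h1 : s'' = 1
    · exact Or.inl h1
    · right
      have h2 : s'' = -1 := by
        rw [hs''] at h1 ⊢
        rcases hst with h | h <;> rcases hs'pm with h' | h' <;> rw [h, h'] at h1 ⊢ <;> simp at h1 ⊢
      refine ⟨h2, ?_, ?_⟩
      · by_contra hk
        have hk0 : k' = 0 := by omega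
        have hmm : m = m'' := by rw [hmk, hk0, add_zero]
        have := hT hk0 s' hs'pm (by rw [hmm]; exact hxm'')
        apply h1
        rw [hs'', this]
        rcases hst with h | h <;> rw [h] <;> norm_num
      · rcases hs'pm with h' | h'
        · apply han
          rw [hs'', h', mul_one] at h2
          exact h2
        · exact hs'an h'
  obtain ⟨κ₁, hκ₁F, hκ₁D, Q₁, hcard₁, hnd₁, htype₁⟩ := exists_std_form (F := F) k' s'' hs''cases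
  have hndsum := sumQF_nondeg Q'' Q₁ hnd2 hnd₁
  have hcardsum : Fintype.card (κ'' ⊕ κ₁) = 2 * m := by
    rw [Fintype.card_sum, hcard'', hcard₁, hmk]; ring
  have htypesum : IsType (⇑(sumQF Q'' Q₁)) m st := by
    have := isType_sumQF Q'' Q₁ hnd2 m'' k' hm'' hcard'' hcard₁ s' s'' hs'type htype₁
    rw [hss, ← hmk] at this
    exact this
  obtain ⟨Φ, hΦ⟩ := huniq (sumQF Q'' Q₁) hndsum hcardsum htypesum
  obtain ⟨N, Ni, hNNi, hNiN, hNv, hNiv⟩ := conj_data Φ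
  obtain ⟨Bb, hBb⟩ : ∃ Bb : Matrix (κ'' ⊕ κ₁) (κ'' ⊕ κ₁) F, Bb = blkL κ'' κ₁ F B'' := ⟨_, rfl⟩
  have hBbr : Bb ^ r = 1 := by rw [hBb, ← map_pow, hB''r, map_one]
  have hBbv : ∀ x, Bb *ᵥ x = Sum.elim (B'' *ᵥ (x ∘ Sum.inl)) (x ∘ Sum.inr) := by
    intro x
    rw [hBb, blkL_mulVec]
  have hBbQ : ∀ x, sumQF Q'' Q₁ (Bb *ᵥ x) = sumQF Q'' Q₁ x := by
    intro x
    rw [hBbv, sumQF_apply, sumQF_apply]
    have e1 : (Sum.elim (B'' *ᵥ (x ∘ Sum.inl)) (x ∘ Sum.inr)) ∘ Sum.inl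
        = B'' *ᵥ (x ∘ Sum.inl) := rfl
    have e2 : (Sum.elim (B'' *ᵥ (x ∘ Sum.inl)) (x ∘ Sum.inr)) ∘ Sum.inr = x ∘ Sum.inr := rfl
    rw [e1, e2, hB''Q]
  obtain ⟨Bf, hBf⟩ : ∃ Bf : Matrix κ κ F, Bf = Ni * Bb * N := ⟨_, rfl⟩
  have hBfv : ∀ v, Bf *ᵥ v = Φ.symm (Bb *ᵥ Φ v) := by
    intro v
    rw [hBf, ← Matrix.mulVec_mulVec, ← Matrix.mulVec_mulVec, hNv, hNiv]
  have hBfr : Bf ^ r = 1 := by
    have h1 := conj_pow N Ni hNNi Bb r
    rw [hBbr, Matrix.mul_one, ← hBf] at h1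
    calc Bf ^ r = Bf ^ r * (Ni * N) := by rw [hNiN, mul_one]
      _ = (Bf ^ r * Ni) * N := by rw [Matrix.mul_assoc]
      _ = 1 := by rw [h1, hNiN]
  have hQtinv : ∀ w, Qt (Φ.symm w) = sumQF Q'' Q₁ w := by
    intro w
    rw [← hΦ, LinearEquiv.apply_symm_apply]
  have hBfQ : ∀ v, Qt (Bf *ᵥ v) = Qt v := by
    intro v
    rw [hBfv, hQtinv, hBbQ, hΦ]
  obtain ⟨g, hg, hgr⟩ := iso_of_matrix (⇑Qt) Bf r hr.pos hBfr hBfQ
  refine ⟨g, hgr, ?_, ?_⟩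
  · -- intertwiner from the fixed-point-free part
    refine ⟨Φ.symm.toLinearMap ∘ₗ sumInlL κ'' κ₁ F ∘ₗ Φ''.symm.toLinearMap, ?_, ?_⟩
    · intro v w hvw
      have h1 := Φ.symm.injective hvw
      have h2 := sumInlL_injective κ'' κ₁ F h1
      exact Φ''.symm.injective h2
    · intro v
      rw [hg]
      simp only [LinearMap.comp_apply, LinearEquiv.coe_coe, sumInlL_apply]
      rw [hBfv, LinearEquiv.apply_symm_apply, hBbv]
      have e1 : (Sum.elim (Φ''.symm v) (0 : κ₁ → F)) ∘ Sum.inl = Φ''.symm v := rfl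
      have e2 : (Sum.elim (Φ''.symm v) (0 : κ₁ → F)) ∘ Sum.inr = 0 := rfl
      rw [e1, e2, hB''v, LinearEquiv.apply_symm_apply]
  · refine ⟨κ₁, hκ₁F, Φ.symm.toLinearMap ∘ₗ sumInrL κ'' κ₁ F, hcard₁, ?_, ?_⟩
    · intro v w hvw
      have h1 := Φ.symm.injective hvw
      exact sumInrL_injective κ'' κ₁ F h1
    · intro w
      rw [hg]
      simp only [LinearMap.comp_apply, LinearEquiv.coe_coe, sumInrL_apply]
      rw [hBfv, LinearEquiv.apply_symm_apply, hBbv]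
      have e1 : (Sum.elim (0 : κ'' → F) w) ∘ Sum.inl = 0 := rfl
      have e2 : (Sum.elim (0 : κ'' → F) w) ∘ Sum.inr = w := rfl
      rw [e1, e2, Matrix.mulVec_zero]

end Cfsg.Agent.Lib.Helper16.OSemi
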