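import Mathlib
import Cfsg.Agent.Lib.Helper16.SumQF
import Cfsg.Agent.Lib.Helper16.PermIso

set_option autoImplicit false
set_option linter.unusedSectionVars false
set_option linter.unusedSimpArgs false
set_option linter.unusedVariables false

namespace Cfsg.Agent.Lib.Helper16

open Matrix Module Cfsg.Agent.Lib.helper6
open scoped commutatorElement

variable {ι₁ ι₂ : Type} [Fintype ι₁] [DecidableEq ι₁] [Fintype ι₂] [DecidableEq ι₂]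
  {F : Type*} [Field F]

def blkR (ι₁ ι₂ : Type) [Fintype ι₁] [DecidableEq ι₁] [Fintype ι₂] [DecidableEq ι₂]
    (F : Type*) [Field F] : Matrix ι₂ ι₂ F →* Matrix (ι₁ ⊕ ι₂) (ι₁ ⊕ ι₂) F where
  toFun M := Matrix.fromBlocks 1 0 0 M
  map_one' := Matrix.fromBlocks_one
  map_mul' A B := by
    rw [Matrix.fromBlocks_multiply]
    simp

theorem blkR_mulVec (M : Matrix ι₂ ι₂ F) (x : ι₁ ⊕ ι₂ → F) :
    blkR ι₁ ι₂ F M *ᵥ x = Sum.elim (x ∘ Sum.inl) (M *ᵥ (x ∘ Sum.inr)) := by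
  show Matrix.fromBlocks 1 0 0 M *ᵥ x = _
  rw [Matrix.fromBlocks_mulVec]
  simp

noncomputable def embR (Q₁ : QuadraticForm F (ι₁ → F)) (Q₂ : QuadraticForm F (ι₂ → F)) :
    ↥(Cfsg.isometryGroup F ⇑Q₂) →* ↥(Cfsg.isometryGroup F ⇑(sumQF Q₁ Q₂)) :=
  MonoidHom.codRestrict ((Units.map (blkR ι₁ ι₂ F)).comp (Subgroup.subtype _)) _ (by
    intro g
    rw [mem_iso_iff]
    intro x
    show sumQF Q₁ Q₂ (blkR ι₁ ι₂ F ((g : GL ι₂ F) : Matrix ι₂ ι₂ F) *ᵥ x) = sumQF Q₁ Q₂ x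
    rw [blkR_mulVec, sumQF_apply, sumQF_apply]
    have e1 : (Sum.elim (x ∘ Sum.inl) (((g : GL ι₂ F) : Matrix ι₂ ι₂ F) *ᵥ (x ∘ Sum.inr))) ∘ Sum.inl
        = x ∘ Sum.inl := rfl
    have e2 : (Sum.elim (x ∘ Sum.inl) (((g : GL ι₂ F) : Matrix ι₂ ι₂ F) *ᵥ (x ∘ Sum.inr))) ∘ Sum.inr
        = ((g : GL ι₂ F) : Matrix ι₂ ι₂ F) *ᵥ (x ∘ Sum.inr) := rfl
    rw [e1, e2, iso_pres (⇑Q₂) g])

theorem embR_coe (Q₁ : QuadraticForm F (ι₁ → F)) (Q₂ : QuadraticForm F (ι₂ → F))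
    (g : ↥(Cfsg.isometryGroup F ⇑Q₂)) :
    ((embR Q₁ Q₂ g : GL (ι₁ ⊕ ι₂) F) : Matrix (ι₁ ⊕ ι₂) (ι₁ ⊕ ι₂) F)
      = Matrix.fromBlocks 1 0 0 ((g : GL ι₂ F) : Matrix ι₂ ι₂ F) := rfl

theorem sumComm_pres (Q : QuadraticForm F (ι₁ → F)) (v : ι₁ ⊕ ι₁ → F) :
    sumQF Q Q (v ∘ Equiv.sumComm ι₁ ι₁) = sumQF Q Q v := by
  rw [sumQF_apply, sumQF_apply, add_comm]
  rfl

noncomputable def swapIso (Q : QuadraticForm F (ι₁ → F)) :
    ↥(Cfsg.isometryGroup F ⇑(sumQF Q Q)) :=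
  permIso (⇑(sumQF Q Q)) (Equiv.sumComm ι₁ ι₁) (sumComm_pres Q)

theorem swap_embL (Q : QuadraticForm F (ι₁ → F)) (g : ↥(Cfsg.isometryGroup F ⇑Q)) :
    swapIso Q * embL Q Q g = embR Q Q g * swapIso Q := by
  apply iso_ext'
  rw [iso_mul_coe, iso_mul_coe, Matrix.ext_iff_mulVec]
  intro v
  rw [← Matrix.mulVec_mulVec, ← Matrix.mulVec_mulVec]
  unfold swapIso
  rw [permIso_mulVec, permIso_mulVec]
  have e1 : ((embL Q Q g : GL (ι₁ ⊕ ι₁) F) : Matrix (ι₁ ⊕ ι₁) (ι₁ ⊕ ι₁) F) *ᵥ v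
      = Sum.elim (((g : GL ι₁ F) : Matrix ι₁ ι₁ F) *ᵥ (v ∘ Sum.inl)) (v ∘ Sum.inr) :=
    blkL_mulVec _ v
  have e2 : ((embR Q Q g : GL (ι₁ ⊕ ι₁) F) : Matrix (ι₁ ⊕ ι₁) (ι₁ ⊕ ι₁) F) *ᵥ
      (v ∘ Equiv.sumComm ι₁ ι₁)
      = Sum.elim ((v ∘ Equiv.sumComm ι₁ ι₁) ∘ Sum.inl)
        (((g : GL ι₁ F) : Matrix ι₁ ι₁ F) *ᵥ ((v ∘ Equiv.sumComm ι₁ ι₁) ∘ Sum.inr)) :=
    blkR_mulVec _ _
  rw [e1, e2]
  funext k
  rcases k with i | i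
  · rfl
  · rfl

theorem sq_mem_omega (Q : QuadraticForm F (ι₁ → F))
    (hgen : Subgroup.closure (CDG.Rset Q) = ⊤) (y : ↥(Cfsg.isometryGroup F ⇑Q)) :
    y * y ∈ Cfsg.Omega F ⇑Q := by
  let π : ↥(Cfsg.isometryGroup F ⇑Q) →* Abelianization ↥(Cfsg.isometryGroup F ⇑Q) := Abelianization.of
  have hker : Cfsg.Omega F ⇑Q = π.ker := (Abelianization.ker_of _).symm
  rw [hker, MonoidHom.mem_ker, map_mul]
  have hy : y ∈ Subgroup.closure (CDG.Rset Q) := by rw [hgen]; exact Subgroup.mem_top _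
  induction hy using Subgroup.closure_induction with
  | mem r hr => rw [← map_mul, CDG.Rset_sq Q r hr, map_one]
  | one => simp
  | mul a b _ _ iha ihb =>
    rw [map_mul]
    calc π a * π b * (π a * π b) = (π a * π a) * (π b * π b) := by
          rw [mul_mul_mul_comm]
      _ = 1 := by rw [iha, ihb, one_mul]
  | inv a _ iha =>
    rw [map_inv, ← _root_.mul_inv_rev, iha, inv_one]

theorem double_mem_omega (Q : QuadraticForm F (ι₁ → F))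
    (hgen : Subgroup.closure (CDG.Rset (sumQF Q Q)) = ⊤) (g : ↥(Cfsg.isometryGroup F ⇑Q)) :
    embL Q Q g * embR Q Q g ∈ Cfsg.Omega F ⇑(sumQF Q Q) := by
  have h1 : embR Q Q g = swapIso Q * embL Q Q g * (swapIso Q)⁻¹ := by
    rw [swap_embL, mul_inv_cancel_right]
  have h2 : embL Q Q g * embR Q Q g = (embL Q Q g * embL Q Q g) * ⁅(embL Q Q g)⁻¹, swapIso Q⁆ := by
    rw [h1, commutatorElement_def]
    group
  rw [h2]
  exact Subgroup.mul_mem _ (sq_mem_omega _ hgen _)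
    (Subgroup.commutator_mem_commutator (Subgroup.mem_top _) (Subgroup.mem_top _))

end Cfsg.Agent.Lib.Helper16
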