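import Mathlib
import Cfsg.Prelude.Def_Classical
import Cfsg.Agent.Lib.Helper19.SO8.Defs
import Cfsg.Agent.Lib.Helper16.SumQF2
import Cfsg.Agent.Lib.Helper16.OEmbed

set_option autoImplicit false

/-!
# Project SO8 (designer helper19), row SUM: `oreal_sum` (helper16).
The orthogonal sum of two standard quadratic spaces carries the block-diagonal isometry `diag (g₁, g₂)`, of order
`lcm (orderOf g₁) (orderOf g₂)`.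
-/

namespace Cfsg.Agent.Lib.Helper19.SO8

open Polynomial Cfsg.Agent.Lib.Helper13.OTS

section so8sum

variable {ι₁ ι₂ : Type} [Fintype ι₁] [DecidableEq ι₁] [Fintype ι₂] [DecidableEq ι₂]
  {F : Type*} [Field F]

theorem so8sum_coe_mul (Q₁ : QuadraticForm F (ι₁ → F)) (Q₂ : QuadraticForm F (ι₂ → F))
    (g₁ : ↥(Cfsg.isometryGroup F ⇑Q₁)) (g₂ : ↥(Cfsg.isometryGroup F ⇑Q₂)) :
    (((Cfsg.Agent.Lib.Helper16.embL Q₁ Q₂ g₁ * Cfsg.Agent.Lib.Helper16.embR Q₁ Q₂ g₂ :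
        ↥(Cfsg.isometryGroup F ⇑(Cfsg.Agent.Lib.Helper16.sumQF Q₁ Q₂))) : GL (ι₁ ⊕ ι₂) F) :
        Matrix (ι₁ ⊕ ι₂) (ι₁ ⊕ ι₂) F)
      = Matrix.fromBlocks ((g₁ : GL ι₁ F) : Matrix ι₁ ι₁ F) 0 0 ((g₂ : GL ι₂ F) : Matrix ι₂ ι₂ F) := by
  rw [Subgroup.coe_mul, Units.val_mul, Cfsg.Agent.Lib.Helper16.embL_coe,
    Cfsg.Agent.Lib.Helper16.embR_coe, Matrix.fromBlocks_multiply]
  simp

theorem so8sum_coe_mul' (Q₁ : QuadraticForm F (ι₁ → F)) (Q₂ : QuadraticForm F (ι₂ → F))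
    (g₁ : ↥(Cfsg.isometryGroup F ⇑Q₁)) (g₂ : ↥(Cfsg.isometryGroup F ⇑Q₂)) :
    (((Cfsg.Agent.Lib.Helper16.embR Q₁ Q₂ g₂ * Cfsg.Agent.Lib.Helper16.embL Q₁ Q₂ g₁ :
        ↥(Cfsg.isometryGroup F ⇑(Cfsg.Agent.Lib.Helper16.sumQF Q₁ Q₂))) : GL (ι₁ ⊕ ι₂) F) :
        Matrix (ι₁ ⊕ ι₂) (ι₁ ⊕ ι₂) F)
      = Matrix.fromBlocks ((g₁ : GL ι₁ F) : Matrix ι₁ ι₁ F) 0 0 ((g₂ : GL ι₂ F) : Matrix ι₂ ι₂ F) := by
  rw [Subgroup.coe_mul, Units.val_mul, Cfsg.Agent.Lib.Helper16.embL_coe,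
    Cfsg.Agent.Lib.Helper16.embR_coe, Matrix.fromBlocks_multiply]
  simp

theorem so8sum_comm (Q₁ : QuadraticForm F (ι₁ → F)) (Q₂ : QuadraticForm F (ι₂ → F))
    (g₁ : ↥(Cfsg.isometryGroup F ⇑Q₁)) (g₂ : ↥(Cfsg.isometryGroup F ⇑Q₂)) :
    Commute (Cfsg.Agent.Lib.Helper16.embL Q₁ Q₂ g₁) (Cfsg.Agent.Lib.Helper16.embR Q₁ Q₂ g₂) := by
  show _ * _ = _ * _
  apply Subtype.ext
  apply Units.ext
  rw [so8sum_coe_mul, so8sum_coe_mul']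

/-- the block-diagonal embedding of the product of the two isometry groups -/
noncomputable def so8sum_phi (Q₁ : QuadraticForm F (ι₁ → F)) (Q₂ : QuadraticForm F (ι₂ → F)) :
    ↥(Cfsg.isometryGroup F ⇑Q₁) × ↥(Cfsg.isometryGroup F ⇑Q₂) →*
      ↥(Cfsg.isometryGroup F ⇑(Cfsg.Agent.Lib.Helper16.sumQF Q₁ Q₂)) :=
  MonoidHom.noncommCoprod (Cfsg.Agent.Lib.Helper16.embL Q₁ Q₂) (Cfsg.Agent.Lib.Helper16.embR Q₁ Q₂)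
    (fun g₁ g₂ => so8sum_comm Q₁ Q₂ g₁ g₂)

theorem so8sum_phi_apply (Q₁ : QuadraticForm F (ι₁ → F)) (Q₂ : QuadraticForm F (ι₂ → F))
    (x : ↥(Cfsg.isometryGroup F ⇑Q₁) × ↥(Cfsg.isometryGroup F ⇑Q₂)) :
    so8sum_phi Q₁ Q₂ x
      = Cfsg.Agent.Lib.Helper16.embL Q₁ Q₂ x.1 * Cfsg.Agent.Lib.Helper16.embR Q₁ Q₂ x.2 := rfl

theorem so8sum_phi_inj (Q₁ : QuadraticForm F (ι₁ → F)) (Q₂ : QuadraticForm F (ι₂ → F)) :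
    Function.Injective (so8sum_phi Q₁ Q₂) := by
  rw [injective_iff_map_eq_one]
  rintro ⟨g₁, g₂⟩ h
  have h' := congrArg (fun z : ↥(Cfsg.isometryGroup F ⇑(Cfsg.Agent.Lib.Helper16.sumQF Q₁ Q₂)) =>
    ((z : GL (ι₁ ⊕ ι₂) F) : Matrix (ι₁ ⊕ ι₂) (ι₁ ⊕ ι₂) F)) h
  simp only [so8sum_phi_apply] at h'
  rw [so8sum_coe_mul] at h'
  have h1 : ((1 : ↥(Cfsg.isometryGroup F ⇑(Cfsg.Agent.Lib.Helper16.sumQF Q₁ Q₂))) : GL (ι₁ ⊕ ι₂) F).val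
      = Matrix.fromBlocks (1 : Matrix ι₁ ι₁ F) 0 0 (1 : Matrix ι₂ ι₂ F) := by
    rw [Matrix.fromBlocks_one]
    rfl
  rw [h1, Matrix.fromBlocks_inj] at h'
  obtain ⟨ha, -, -, hb⟩ := h'
  refine Prod.ext ?_ ?_
  · apply Subtype.ext
    apply Units.ext
    exact ha
  · apply Subtype.ext
    apply Units.ext
    exact hb

end so8sum

/-- SUM [M]: `Cfsg.Agent.Lib.Helper16.sumQF Q₁ Q₂` on `ι₁ ⊕ ι₂` (Helper16/SumQF.lean: `sumQF_apply`, `sumQF_nondeg`; Helper16/OEmbed.lean: `OSemi.isType_sumQF`, needs `1 ≤ d₁`);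
the block matrix `Matrix.fromBlocks g₁ 0 0 g₂` (as in `Cfsg.Agent.Lib.helper8.OME.omeemb_psi`, helper14/OMEEMB.lean, `omeemb_mulVec_inl/inr`) is an isometry; the map
`(g₁, g₂) ↦ fromBlocks g₁ 0 0 g₂` is an injective homomorphism from the product, `orderOf_injective`, `Prod.orderOf`. -/
theorem oreal_sum {F : Type*} [Field F] [Fintype F] (d₁ d₂ : ℕ) (hd₁ : 1 ≤ d₁) (s₁ s₂ : ℤ) (N₁ N₂ : ℕ)
    (h₁ : OReal F d₁ s₁ N₁) (h₂ : OReal F d₂ s₂ N₂) :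
    OReal F (d₁ + d₂) (s₁ * s₂) (Nat.lcm N₁ N₂) := by
  obtain ⟨ι₁, i₁, j₁, Q₁, hQ₁, g₁, hg₁⟩ := h₁
  obtain ⟨ι₂, i₂, j₂, Q₂, hQ₂, g₂, hg₂⟩ := h₂
  refine ⟨ι₁ ⊕ ι₂, inferInstance, inferInstance, Cfsg.Agent.Lib.Helper16.sumQF Q₁ Q₂, ?_,
    so8sum_phi Q₁ Q₂ (g₁, g₂), ?_⟩
  · refine ⟨Cfsg.Agent.Lib.Helper16.sumQF_nondeg Q₁ Q₂ hQ₁.nd hQ₂.nd, ?_, ?_, ?_⟩
    · rw [Fintype.card_sum, hQ₁.card, hQ₂.card]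
      ring
    · exact Cfsg.Agent.Lib.Helper16.OSemi.isType_sumQF Q₁ Q₂ hQ₁.nd d₁ d₂ hd₁ hQ₁.card hQ₂.card
        s₁ s₂ hQ₁.ty hQ₂.ty
    · rcases hQ₁.eps with h | h <;> rcases hQ₂.eps with h' | h' <;> subst h <;> subst h' <;> simp
  · rw [orderOf_injective (so8sum_phi Q₁ Q₂) (so8sum_phi_inj Q₁ Q₂) (g₁, g₂), Prod.orderOf, hg₁, hg₂]

end Cfsg.Agent.Lib.Helper19.SO8
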