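import Mathlib
import Cfsg.Agent.Lib.Helper16.CDG

set_option autoImplicit false
set_option linter.unusedSectionVars false
set_option linter.unusedSimpArgs false
set_option linter.unusedVariables false

namespace Cfsg.Agent.Lib.Helper16.C2

open Matrix Module Cfsg.Agent.Lib.helper6 Cfsg.Agent.Lib.Helper16

variable {ι : Type} [Fintype ι] [DecidableEq ι] {F : Type*} [Field F]

theorem exists_sqrt [Finite F] [CharP F 2] (a : F) : ∃ s : F, s * s = a := by
  have : Fintype F := Fintype.ofFinite F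
  obtain ⟨s, hs⟩ := FiniteField.isSquare_of_char_two (ringChar.eq F 2) a
  exact ⟨s, hs.symm⟩

theorem polar_self2 [CharP F 2] (Q : QuadraticForm F (ι → F)) (x : ι → F) :
    QuadraticMap.polar (⇑Q) x x = 0 := by
  rw [QuadraticMap.polar_self]
  simp only [nsmul_eq_mul, Nat.cast_ofNat]
  rw [CharTwo.two_eq_zero, zero_mul]

theorem Q_add (Q : QuadraticForm F (ι → F)) (x y : ι → F) :
    Q (x + y) = Q x + Q y + QuadraticMap.polar (⇑Q) x y := by
  unfold QuadraticMap.polar; ring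

theorem Q_add_eq [CharP F 2] (Q : QuadraticForm F (ι → F)) (a b : ι → F) (hab : Q a = Q b) :
    Q (a + b) = QuadraticMap.polar (⇑Q) a b := by
  rw [Q_add, hab, CharTwo.add_self_eq_zero, zero_add]

theorem move_one [CharP F 2] (Q : QuadraticForm F (ι → F)) (a b : ι → F) (hab : Q a = Q b)
    (hB : QuadraticMap.polar (⇑Q) a b ≠ 0) :
    Q (a + b) ≠ 0 ∧ Cfsg.reflectionMatrix ⇑Q (a + b) *ᵥ a = b := by
  have h1 : Q (a + b) = QuadraticMap.polar (⇑Q) a b := Q_add_eq Q a b hab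
  refine ⟨by rw [h1]; exact hB, ?_⟩
  rw [reflectionMatrix_mulVec, h1, QuadraticMap.polar_add_left, QuadraticMap.polar_comm (⇑Q) b a,
    polar_self2, zero_add, inv_mul_cancel₀ hB, one_smul]
  have : a - (a + b) = -b := by abel
  rw [this]
  funext i
  simp only [Pi.neg_apply]
  exact CharTwo.neg_eq (b i)

theorem refl_fix_of_perp (Q : QuadraticForm F (ι → F)) (u x : ι → F)
    (h : QuadraticMap.polar (⇑Q) u x = 0) : Cfsg.reflectionMatrix ⇑Q u *ᵥ x = x :=
  CDG.refl_fix_polar Q u x h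

def FixPerp (Q : QuadraticForm F (ι → F)) (K : Submodule F (ι → F))
    (t : ↥(Cfsg.isometryGroup F ⇑Q)) : Prop :=
  ∀ x : ι → F, (∀ k ∈ K, QuadraticMap.polar (⇑Q) k x = 0) →
    ((t : GL ι F) : Matrix ι ι F) *ᵥ x = x

theorem FixPerp.mul {Q : QuadraticForm F (ι → F)} {K : Submodule F (ι → F)}
    {s t : ↥(Cfsg.isometryGroup F ⇑Q)} (hs : FixPerp Q K s) (ht : FixPerp Q K t) :
    FixPerp Q K (s * t) := by
  intro x hx
  rw [CDG.mul_mulVec, ht x hx, hs x hx]

theorem FixPerp.mono {Q : QuadraticForm F (ι → F)} {K K' : Submodule F (ι → F)}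
    {t : ↥(Cfsg.isometryGroup F ⇑Q)} (ht : FixPerp Q K t) (hKK : K ≤ K') : FixPerp Q K' t :=
  fun x hx => ht x (fun k hk => hx k (hKK hk))

theorem FixPerp.one (Q : QuadraticForm F (ι → F)) (K : Submodule F (ι → F)) :
    FixPerp Q K (1 : ↥(Cfsg.isometryGroup F ⇑Q)) := by
  intro x _
  show (1 : Matrix ι ι F) *ᵥ x = x
  rw [Matrix.one_mulVec]

theorem fixPerp_refl (Q : QuadraticForm F (ι → F)) (K : Submodule F (ι → F)) (u : ι → F)
    (hu : Q u ≠ 0) (huK : u ∈ K) : FixPerp Q K (CDG.refl Q u hu) := by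
  intro x hx
  rw [CDG.refl_coe]
  exact refl_fix_of_perp Q u x (hx u huK)

theorem move_one' [CharP F 2] (Q : QuadraticForm F (ι → F)) (K : Submodule F (ι → F))
    (a b : ι → F) (hba : b + a ∈ K) (hab : Q b = Q a)
    (hB : QuadraticMap.polar (⇑Q) b a ≠ 0) :
    ∃ t ∈ Subgroup.closure (CDG.Rset Q), ((t : GL ι F) : Matrix ι ι F) *ᵥ b = a ∧ FixPerp Q K t := by
  obtain ⟨h1, h2⟩ := move_one Q b a hab hB
  refine ⟨CDG.refl Q (b + a) h1, Subgroup.subset_closure (CDG.refl_mem Q _ h1), ?_, ?_⟩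
  · rw [CDG.refl_coe]; exact h2
  · exact fixPerp_refl Q K _ h1 hba

theorem move_two' [CharP F 2] (Q : QuadraticForm F (ι → F)) (K : Submodule F (ι → F))
    (a b w : ι → F) (hbw : b + w ∈ K) (hwa' : w + a ∈ K) (hab : Q b = Q a) (hwa : Q w = Q a)
    (h1 : QuadraticMap.polar (⇑Q) w a ≠ 0) (h2 : QuadraticMap.polar (⇑Q) b w ≠ 0) :
    ∃ t ∈ Subgroup.closure (CDG.Rset Q), ((t : GL ι F) : Matrix ι ι F) *ᵥ b = a ∧ FixPerp Q K t := by
  obtain ⟨t1, ht1, ht1b, ht1f⟩ := move_one' Q K w b hbw (by rw [hab, hwa]) h2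
  obtain ⟨t2, ht2, ht2b, ht2f⟩ := move_one' Q K a w hwa' hwa h1
  refine ⟨t2 * t1, Subgroup.mul_mem _ ht2 ht1, ?_, ht2f.mul ht1f⟩
  rw [CDG.mul_mulVec, ht1b, ht2b]

theorem exists_both_ne {K : Submodule F (ι → F)} (f g : (ι → F) →ₗ[F] F)
    (w1 w2 : ι → F) (hw1 : w1 ∈ K) (hw2 : w2 ∈ K) (h1 : f w1 ≠ 0) (h2 : g w2 ≠ 0) :
    ∃ w ∈ K, f w ≠ 0 ∧ g w ≠ 0 := by
  by_cases h3 : g w1 = 0
  · by_cases h4 : f w2 = 0
    · refine ⟨w1 + w2, K.add_mem hw1 hw2, ?_, ?_⟩
      · rw [map_add, h4, add_zero]; exact h1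
      · rw [map_add, h3, zero_add]; exact h2
    · exact ⟨w2, hw2, h4, h2⟩
  · exact ⟨w1, hw1, h1, h3⟩

theorem move_rad [Finite F] [CharP F 2] (Q : QuadraticForm F (ι → F)) (K : Submodule F (ι → F))
    (v : ι → F) (hv : Q v ≠ 0) (hvK : v ∈ K) (hvperp : ∀ k ∈ K, QuadraticMap.polar (⇑Q) v k = 0)
    (a b : ι → F) (ha : a ∈ K) (hb : b ∈ K) (hab : Q b = Q a)
    (hra : ∃ w ∈ K, QuadraticMap.polar (⇑Q) w a ≠ 0)
    (hrb : ∃ w ∈ K, QuadraticMap.polar (⇑Q) w b ≠ 0) :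
    ∃ t ∈ Subgroup.closure (CDG.Rset Q), ((t : GL ι F) : Matrix ι ι F) *ᵥ b = a ∧ FixPerp Q K t := by
  by_cases hB : QuadraticMap.polar (⇑Q) b a ≠ 0
  · exact move_one' Q K a b (K.add_mem hb ha) hab hB
  · obtain ⟨w1, hw1, hw1a⟩ := hra
    obtain ⟨w2, hw2, hw2b⟩ := hrb
    obtain ⟨w0, hw0, hw0a, hw0b⟩ := exists_both_ne
      ((QuadraticMap.polarBilin Q).flip a) ((QuadraticMap.polarBilin Q).flip b) w1 w2 hw1 hw2
      (by simpa using hw1a) (by simpa using hw2b)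
    simp only [LinearMap.flip_apply, QuadraticMap.polarBilin_apply_apply] at hw0a hw0b
    obtain ⟨s, hs⟩ := exists_sqrt ((Q a + Q w0) / Q v)
    have hQw : Q (w0 + s • v) = Q a := by
      rw [Q_add, QuadraticMap.map_smul, QuadraticMap.polar_smul_right,
        QuadraticMap.polar_comm (⇑Q) w0 v, hvperp w0 hw0, smul_zero, add_zero, smul_eq_mul, hs]
      field_simp
      rw [add_comm (Q a), ← add_assoc, CharTwo.add_self_eq_zero, zero_add]
    have hwK : w0 + s • v ∈ K := K.add_mem hw0 (K.smul_mem s hvK)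
    refine move_two' Q K a b (w0 + s • v) (K.add_mem hb hwK) (K.add_mem hwK ha) hab hQw ?_ ?_
    · rw [QuadraticMap.polar_add_left, QuadraticMap.polar_smul_left, hvperp a ha, smul_zero,
        add_zero]
      exact hw0a
    · rw [QuadraticMap.polar_add_right, QuadraticMap.polar_smul_right,
        QuadraticMap.polar_comm (⇑Q) b v, hvperp b hb, smul_zero, add_zero,
        QuadraticMap.polar_comm]
      exact hw0b

theorem move_hyp [Finite F] [CharP F 2] (Q : QuadraticForm F (ι → F)) (K : Submodule F (ι → F))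
    (v : ι → F) (hv : Q v ≠ 0) (hvK : v ∈ K) (hvperp : ∀ k ∈ K, QuadraticMap.polar (⇑Q) v k = 0)
    (y z z1 : ι → F) (hy : y ∈ K) (hz : z ∈ K) (hz1 : z1 ∈ K)
    (hyz : QuadraticMap.polar (⇑Q) y z = 1) (hyz1 : QuadraticMap.polar (⇑Q) y z1 = 1)
    (hQ : Q z1 = Q z) :
    ∃ t ∈ Subgroup.closure (CDG.Rset Q), ((t : GL ι F) : Matrix ι ι F) *ᵥ z1 = z ∧
      FixPerp Q (K ⊓ LinearMap.ker (QuadraticMap.polarBilin Q y)) t := by
  have hmemK2 : ∀ x ∈ K, QuadraticMap.polar (⇑Q) y x = 0 →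
      x ∈ K ⊓ LinearMap.ker (QuadraticMap.polarBilin Q y) := by
    intro x hx hyx
    refine Submodule.mem_inf.mpr ⟨hx, ?_⟩
    rw [LinearMap.mem_ker, QuadraticMap.polarBilin_apply_apply]
    exact hyx
  have hyv : QuadraticMap.polar (⇑Q) y v = 0 := by
    rw [QuadraticMap.polar_comm]; exact hvperp y hy
  by_cases hB : QuadraticMap.polar (⇑Q) z1 z ≠ 0
  · refine move_one' Q _ z z1 (hmemK2 _ (K.add_mem hz1 hz) ?_) hQ hB
    rw [QuadraticMap.polar_add_right, hyz, hyz1, CharTwo.add_self_eq_zero]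
  · push Not at hB
    obtain ⟨s, hs⟩ := exists_sqrt ((Q y + 1) / Q v)
    have hzy : QuadraticMap.polar (⇑Q) z y = 1 := by rw [QuadraticMap.polar_comm]; exact hyz
    have hvz : QuadraticMap.polar (⇑Q) v z = 0 := hvperp z hz
    have hQw : Q (z + y + s • v) = Q z := by
      rw [Q_add, Q_add, QuadraticMap.map_smul, QuadraticMap.polar_smul_right,
        QuadraticMap.polar_add_left, QuadraticMap.polar_comm (⇑Q) z v, hvz,
        hyv, hzy, smul_eq_mul, hs]
      field_simp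
      have h2 : (2 : F) = 0 := CharTwo.two_eq_zero
      linear_combination (Q y + 1) * h2
    have hwK : z + y + s • v ∈ K := K.add_mem (K.add_mem hz hy) (K.smul_mem s hvK)
    have hyw : QuadraticMap.polar (⇑Q) y (z + y + s • v) = 1 := by
      rw [QuadraticMap.polar_add_right, QuadraticMap.polar_add_right,
        QuadraticMap.polar_smul_right, hyv, hyz, polar_self2]
      simp
    refine move_two' Q _ z z1 (z + y + s • v) (hmemK2 _ (K.add_mem hz1 hwK) ?_)
      (hmemK2 _ (K.add_mem hwK hz) ?_) hQ hQw ?_ ?_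
    · rw [QuadraticMap.polar_add_right, hyz1, hyw, CharTwo.add_self_eq_zero]
    · rw [QuadraticMap.polar_add_right, hyw, hyz, CharTwo.add_self_eq_zero]
    · rw [QuadraticMap.polar_add_left, QuadraticMap.polar_add_left, QuadraticMap.polar_smul_left,
        hvz, polar_self2, hyz]
      simp
    · rw [QuadraticMap.polar_add_right, QuadraticMap.polar_add_right,
        QuadraticMap.polar_smul_right, hB, QuadraticMap.polar_comm (⇑Q) z1 y, hyz1,
        QuadraticMap.polar_comm (⇑Q) z1 v, hvperp z1 hz1]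
      simp

end Cfsg.Agent.Lib.Helper16.C2
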