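import Mathlib
import Cfsg.Agent.Lib.Helper16.Char2A
import Cfsg.Agent.Lib.Helper16.TwoFam1

set_option autoImplicit false
set_option linter.unusedSectionVars false
set_option linter.unusedSimpArgs false
set_option linter.unusedVariables false

namespace Cfsg.Agent.Lib.Helper16.C2

open Matrix Module Cfsg.Agent.Lib.helper6 Cfsg.Agent.Lib.Helper16

variable {ι : Type} [Fintype ι] [DecidableEq ι] {F : Type*} [Field F]

/-- the space of allowed directions: perpendicular to `W` and to `v`. -/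
noncomputable abbrev KK (Q : QuadraticForm F (ι → F)) (W : Submodule F (ι → F)) (v : ι → F) :
    Submodule F (ι → F) := CDG.perp Q (W ⊔ Submodule.span F {v})

theorem mem_KK (Q : QuadraticForm F (ι → F)) (W : Submodule F (ι → F)) (v x : ι → F) :
    x ∈ KK Q W v ↔ (∀ w ∈ W, QuadraticMap.polar (⇑Q) w x = 0) ∧ QuadraticMap.polar (⇑Q) v x = 0 := by
  rw [CDG.mem_perp]
  constructor
  · intro h
    exact ⟨fun w hw => h w (Submodule.mem_sup_left hw),
      h v (Submodule.mem_sup_right (Submodule.mem_span_singleton_self v))⟩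
  · rintro ⟨h1, h2⟩ w hw
    obtain ⟨a, ha, b, hb, rfl⟩ := Submodule.mem_sup.mp hw
    obtain ⟨c, rfl⟩ := Submodule.mem_span_singleton.mp hb
    rw [QuadraticMap.polar_add_left, QuadraticMap.polar_smul_left, h1 a ha, h2, smul_zero, add_zero]

theorem v_mem_KK [CharP F 2] (Q : QuadraticForm F (ι → F)) (W : Submodule F (ι → F)) (v : ι → F)
    (hvW : v ∈ CDG.perp Q W) : v ∈ KK Q W v := by
  rw [mem_KK]
  exact ⟨(CDG.mem_perp Q W v).mp hvW, polar_self2 Q v⟩

theorem fixPerp_KK_W (Q : QuadraticForm F (ι → F)) (W : Submodule F (ι → F)) (v : ι → F)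
    (K' : Submodule F (ι → F)) (hK' : K' ≤ KK Q W v)
    (t : ↥(Cfsg.isometryGroup F ⇑Q)) (ht : FixPerp Q K' t) :
    (∀ w ∈ W, ((t : GL ι F) : Matrix ι ι F) *ᵥ w = w) ∧ ((t : GL ι F) : Matrix ι ι F) *ᵥ v = v := by
  constructor
  · intro w hw
    apply ht
    intro k hk
    rw [QuadraticMap.polar_comm]
    exact ((mem_KK Q W v k).mp (hK' hk)).1 w hw
  · apply ht
    intro k hk
    rw [QuadraticMap.polar_comm]
    exact ((mem_KK Q W v k).mp (hK' hk)).2

theorem KK_radical (Q : QuadraticForm F (ι → F)) (hQ : (QuadraticMap.polarBilin Q).Nondegenerate)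
    (W : Submodule F (ι → F)) (hW : W ⊓ CDG.perp Q W = ⊥) (v : ι → F) (hvW : v ∈ CDG.perp Q W)
    (y : ι → F) (hy : y ∈ KK Q W v) (hyv : y ∉ Submodule.span F {v}) :
    ∃ w ∈ KK Q W v, QuadraticMap.polar (⇑Q) w y ≠ 0 := by
  by_contra hcon
  push Not at hcon
  apply hyv
  have h1 : y ∈ CDG.perp Q (KK Q W v) := by
    rw [CDG.mem_perp]; exact hcon
  have h2 : CDG.perp Q (KK Q W v) = W ⊔ Submodule.span F {v} :=
    LinearMap.BilinForm.orthogonal_orthogonal hQ (CDG.polarBilin_isRefl Q) _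
  rw [h2] at h1
  obtain ⟨a, ha, b, hb, hab⟩ := Submodule.mem_sup.mp h1
  obtain ⟨c, rfl⟩ := Submodule.mem_span_singleton.mp hb
  have hyW : y ∈ CDG.perp Q W := by
    rw [CDG.mem_perp]; exact ((mem_KK Q W v y).mp hy).1
  have ha' : a ∈ CDG.perp Q W := by
    have : a = y - c • v := by rw [← hab]; abel
    rw [this]
    exact Submodule.sub_mem _ hyW (Submodule.smul_mem _ c hvW)
  have ha0 : a = 0 := by
    have : a ∈ W ⊓ CDG.perp Q W := ⟨ha, ha'⟩
    rw [hW, Submodule.mem_bot] at this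
    exact this
  rw [← hab, ha0, zero_add]
  exact Submodule.smul_mem _ c (Submodule.mem_span_singleton_self v)

theorem KK_pres (Q : QuadraticForm F (ι → F)) (W : Submodule F (ι → F)) (v : ι → F)
    (g : ↥(Cfsg.isometryGroup F ⇑Q))
    (hgW : ∀ w ∈ W, ((g : GL ι F) : Matrix ι ι F) *ᵥ w = w)
    (hgv : ((g : GL ι F) : Matrix ι ι F) *ᵥ v = v) (x : ι → F) (hx : x ∈ KK Q W v) :
    ((g : GL ι F) : Matrix ι ι F) *ᵥ x ∈ KK Q W v := by
  rw [mem_KK] at hx ⊢
  constructor
  · intro w hw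
    rw [← hgW w hw, CDG.polar_iso]
    exact hx.1 w hw
  · rw [← hgv, CDG.polar_iso]
    exact hx.2

end Cfsg.Agent.Lib.Helper16.C2
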