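import Mathlib
import Cfsg.Agent.Lib.Helper16.Char2B

set_option autoImplicit false
set_option linter.unusedSectionVars false
set_option linter.unusedSimpArgs false
set_option linter.unusedVariables false

namespace Cfsg.Agent.Lib.Helper16.C2

open Matrix Module Cfsg.Agent.Lib.helper6 Cfsg.Agent.Lib.Helper16

variable {ι : Type} [Fintype ι] [DecidableEq ι] {F : Type*} [Field F]

theorem not_mem_of_perp (Q : QuadraticForm F (ι → F)) (W : Submodule F (ι → F))
    (hW : W ⊓ CDG.perp Q W = ⊥) (v : ι → F) (hvW : v ∈ CDG.perp Q W) (hv0 : v ≠ 0) : v ∉ W := by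
  intro h
  have : v ∈ W ⊓ CDG.perp Q W := ⟨h, hvW⟩
  rw [hW, Submodule.mem_bot] at this
  exact hv0 this

theorem finrank_sup_span_of_not_mem (W : Submodule F (ι → F)) (v : ι → F) (hv : v ∉ W) :
    finrank F ↥(W ⊔ Submodule.span F {v}) = finrank F W + 1 := by
  have hv0 : v ≠ 0 := by
    rintro rfl
    exact hv W.zero_mem
  have hdisj : W ⊓ Submodule.span F {v} = ⊥ := by
    rw [eq_bot_iff]
    intro x hx
    obtain ⟨hx1, hx2⟩ := Submodule.mem_inf.mp hx
    obtain ⟨c, rfl⟩ := Submodule.mem_span_singleton.mp hx2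
    by_cases hc : c = 0
    · rw [hc, zero_smul]; exact Submodule.zero_mem _
    · exfalso
      apply hv
      have := W.smul_mem c⁻¹ hx1
      rwa [smul_smul, inv_mul_cancel₀ hc, one_smul] at this
  have h1 := Submodule.finrank_sup_add_finrank_inf_eq W (Submodule.span F {v})
  rw [hdisj, finrank_bot, finrank_span_singleton hv0] at h1
  omega

theorem finrank_KK (Q : QuadraticForm F (ι → F)) (hQ : (QuadraticMap.polarBilin Q).Nondegenerate)
    (W : Submodule F (ι → F)) (v : ι → F) (hv : v ∉ W) :
    finrank F ↥(KK Q W v) = finrank F (ι → F) - (finrank F W + 1) := by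
  show finrank F ↥(LinearMap.BilinForm.orthogonal (QuadraticMap.polarBilin Q)
    (W ⊔ Submodule.span F {v})) = _
  rw [LinearMap.BilinForm.finrank_orthogonal hQ, finrank_sup_span_of_not_mem W v hv]

theorem mulVec_inj_iso (Q : QuadraticForm F (ι → F)) (g : ↥(Cfsg.isometryGroup F ⇑Q))
    (x y : ι → F) (h : ((g : GL ι F) : Matrix ι ι F) *ᵥ x = ((g : GL ι F) : Matrix ι ι F) *ᵥ y) :
    x = y :=
  (Matrix.mulVec_injective_iff_isUnit.mpr (g : GL ι F).isUnit) h

theorem nondeg_sup_pair [CharP F 2] (Q : QuadraticForm F (ι → F)) (W : Submodule F (ι → F))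
    (hW : W ⊓ CDG.perp Q W = ⊥) (y z : ι → F) (hy : y ∈ CDG.perp Q W) (hz : z ∈ CDG.perp Q W)
    (hyz : QuadraticMap.polar (⇑Q) y z = 1) :
    (W ⊔ Submodule.span F {y} ⊔ Submodule.span F {z}) ⊓
      CDG.perp Q (W ⊔ Submodule.span F {y} ⊔ Submodule.span F {z}) = ⊥ ∧
    finrank F W + 2 ≤ finrank F ↥(W ⊔ Submodule.span F {y} ⊔ Submodule.span F {z}) := by
  have hy' := (CDG.mem_perp Q W y).mp hy
  have hz' := (CDG.mem_perp Q W z).mp hz
  constructor
  · rw [eq_bot_iff]
    rintro x ⟨hx1, hx2'⟩
    have hx2 : x ∈ CDG.perp Q (W ⊔ Submodule.span F {y} ⊔ Submodule.span F {z}) := hx2'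
    obtain ⟨ab, hab, c, hc, rfl⟩ := Submodule.mem_sup.mp hx1
    obtain ⟨a, ha, b, hb, rfl⟩ := Submodule.mem_sup.mp hab
    obtain ⟨β, rfl⟩ := Submodule.mem_span_singleton.mp hb
    obtain ⟨γ, rfl⟩ := Submodule.mem_span_singleton.mp hc
    rw [CDG.mem_perp] at hx2
    have hzmem : z ∈ W ⊔ Submodule.span F {y} ⊔ Submodule.span F {z} :=
      Submodule.mem_sup_right (Submodule.mem_span_singleton_self z)
    have hymem : y ∈ W ⊔ Submodule.span F {y} ⊔ Submodule.span F {z} :=
      Submodule.mem_sup_left (Submodule.mem_sup_right (Submodule.mem_span_singleton_self y))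
    have e1 := hx2 z hzmem
    rw [QuadraticMap.polar_add_right, QuadraticMap.polar_add_right, QuadraticMap.polar_smul_right,
      QuadraticMap.polar_smul_right, polar_self2, QuadraticMap.polar_comm (⇑Q) z a, hz' a ha,
      QuadraticMap.polar_comm (⇑Q) z y, hyz] at e1
    simp only [smul_eq_mul, mul_one, mul_zero, zero_add, add_zero] at e1
    have e2 := hx2 y hymem
    rw [QuadraticMap.polar_add_right, QuadraticMap.polar_add_right, QuadraticMap.polar_smul_right,
      QuadraticMap.polar_smul_right, polar_self2, QuadraticMap.polar_comm (⇑Q) y a, hy' a ha,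
      hyz] at e2
    simp only [smul_eq_mul, mul_one, mul_zero, zero_add, add_zero] at e2
    subst e1 e2
    rw [zero_smul, zero_smul, add_zero, add_zero, Submodule.mem_bot]
    have : a ∈ W ⊓ CDG.perp Q W := by
      refine ⟨ha, ?_⟩
      show a ∈ CDG.perp Q W
      rw [CDG.mem_perp]
      intro w hw
      have := hx2 w (Submodule.mem_sup_left (Submodule.mem_sup_left hw))
      rwa [zero_smul, zero_smul, add_zero, add_zero] at this
    rw [hW, Submodule.mem_bot] at this
    exact this
  · have hyW : y ∉ W := by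
      intro h
      have := hz' y h
      rw [hyz] at this
      exact one_ne_zero this
    have h1 := finrank_sup_span_of_not_mem W y hyW
    have hzW : z ∉ W ⊔ Submodule.span F {y} := by
      intro h
      obtain ⟨a, ha, b, hb, hab⟩ := Submodule.mem_sup.mp h
      obtain ⟨β, rfl⟩ := Submodule.mem_span_singleton.mp hb
      have : QuadraticMap.polar (⇑Q) y z = 0 := by
        rw [← hab, QuadraticMap.polar_add_right, QuadraticMap.polar_smul_right, polar_self2,
          QuadraticMap.polar_comm (⇑Q) y a, hy' a ha]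
        simp
      rw [hyz] at this
      exact one_ne_zero this
    have h2 := finrank_sup_span_of_not_mem (W ⊔ Submodule.span F {y}) z hzW
    omega

end Cfsg.Agent.Lib.Helper16.C2
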