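import Mathlib
import Cfsg.Agent.Lib.Helper16.Char2C

set_option autoImplicit false
set_option linter.unusedSectionVars false
set_option linter.unusedSimpArgs false
set_option linter.unusedVariables false

namespace Cfsg.Agent.Lib.Helper16.C2

open Matrix Module Cfsg.Agent.Lib.helper6 Cfsg.Agent.Lib.Helper16

variable {ι : Type} [Fintype ι] [DecidableEq ι] {F : Type*} [Field F]

theorem stab_step [Finite F] [CharP F 2] (Q : QuadraticForm F (ι → F))
    (hQ : (QuadraticMap.polarBilin Q).Nondegenerate) (v : ι → F) (hv : Q v ≠ 0)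
    (W : Submodule F (ι → F)) (hW : W ⊓ CDG.perp Q W = ⊥) (hvW : v ∈ CDG.perp Q W)
    (hfin : finrank F W + 3 ≤ finrank F (ι → F)) (g : ↥(Cfsg.isometryGroup F ⇑Q))
    (hgW : ∀ w ∈ W, ((g : GL ι F) : Matrix ι ι F) *ᵥ w = w)
    (hgv : ((g : GL ι F) : Matrix ι ι F) *ᵥ v = v) :
    ∃ t ∈ Subgroup.closure (CDG.Rset Q), ∃ W₂ : Submodule F (ι → F),
      W₂ ⊓ CDG.perp Q W₂ = ⊥ ∧ v ∈ CDG.perp Q W₂ ∧ finrank F W + 2 ≤ finrank F W₂ ∧
      (∀ w ∈ W₂, (((t * g : ↥(Cfsg.isometryGroup F ⇑Q)) : GL ι F) : Matrix ι ι F) *ᵥ w = w) ∧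
      (((t * g : ↥(Cfsg.isometryGroup F ⇑Q)) : GL ι F) : Matrix ι ι F) *ᵥ v = v := by
  have hv0 : v ≠ 0 := by
    rintro rfl
    exact hv (QuadraticMap.map_zero _)
  have hvnW : v ∉ W := not_mem_of_perp Q W hW v hvW hv0
  have hvK : v ∈ KK Q W v := v_mem_KK Q W v hvW
  have hvperp : ∀ k ∈ KK Q W v, QuadraticMap.polar (⇑Q) v k = 0 :=
    fun k hk => ((mem_KK Q W v k).mp hk).2
  have hfK := finrank_KK Q hQ W v hvnW
  -- choose y
  obtain ⟨y, hyK, hyv⟩ : ∃ y ∈ KK Q W v, y ∉ Submodule.span F {v} := by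
    by_contra hcon
    push Not at hcon
    have hle : KK Q W v ≤ Submodule.span F {v} := hcon
    have := Submodule.finrank_mono hle
    rw [finrank_span_singleton hv0] at this
    omega
  obtain ⟨z', hz'K, hz'y⟩ := KK_radical Q hQ W hW v hvW y hyK hyv
  have hyz'0 : QuadraticMap.polar (⇑Q) y z' ≠ 0 := by
    rw [QuadraticMap.polar_comm]; exact hz'y
  set z := (QuadraticMap.polar (⇑Q) y z')⁻¹ • z' with hz
  have hzK : z ∈ KK Q W v := Submodule.smul_mem _ _ hz'K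
  have hyz : QuadraticMap.polar (⇑Q) y z = 1 := by
    rw [hz, QuadraticMap.polar_smul_right, smul_eq_mul, inv_mul_cancel₀ hyz'0]
  -- step 1
  set y1 := ((g : GL ι F) : Matrix ι ι F) *ᵥ y with hy1
  have hy1K : y1 ∈ KK Q W v := KK_pres Q W v g hgW hgv y hyK
  have hQy1 : Q y1 = Q y := iso_pres (⇑Q) g y
  have hy1v : y1 ∉ Submodule.span F {v} := by
    intro h
    obtain ⟨c, hc⟩ := Submodule.mem_span_singleton.mp h
    apply hyv
    have : y = c • v := by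
      apply mulVec_inj_iso Q g
      rw [Matrix.mulVec_smul, hgv, hc]
    rw [this]
    exact Submodule.smul_mem _ c (Submodule.mem_span_singleton_self v)
  obtain ⟨t1, ht1, ht1y, ht1f⟩ := move_rad Q (KK Q W v) v hv hvK hvperp y y1 hyK hy1K hQy1
    (KK_radical Q hQ W hW v hvW y hyK hyv) (KK_radical Q hQ W hW v hvW y1 hy1K hy1v)
  obtain ⟨ht1W, ht1v⟩ := fixPerp_KK_W Q W v (KK Q W v) le_rfl t1 ht1f
  have hg1W : ∀ w ∈ W, (((t1 * g : ↥(Cfsg.isometryGroup F ⇑Q)) : GL ι F) : Matrix ι ι F) *ᵥ w = w := by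
    intro w hw
    rw [CDG.mul_mulVec, hgW w hw, ht1W w hw]
  have hg1v : (((t1 * g : ↥(Cfsg.isometryGroup F ⇑Q)) : GL ι F) : Matrix ι ι F) *ᵥ v = v := by
    rw [CDG.mul_mulVec, hgv, ht1v]
  have hg1y : (((t1 * g : ↥(Cfsg.isometryGroup F ⇑Q)) : GL ι F) : Matrix ι ι F) *ᵥ y = y := by
    rw [CDG.mul_mulVec, ← hy1, ht1y]
  -- step 2
  set z1 := (((t1 * g : ↥(Cfsg.isometryGroup F ⇑Q)) : GL ι F) : Matrix ι ι F) *ᵥ z with hz1
  have hz1K : z1 ∈ KK Q W v := KK_pres Q W v (t1 * g) hg1W hg1v z hzK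
  have hQz1 : Q z1 = Q z := iso_pres (⇑Q) (t1 * g) z
  have hyz1 : QuadraticMap.polar (⇑Q) y z1 = 1 := by
    have := CDG.polar_iso Q (t1 * g) y z
    rw [hg1y, ← hz1, hyz] at this
    exact this
  obtain ⟨t2, ht2, ht2z, ht2f⟩ := move_hyp Q (KK Q W v) v hv hvK hvperp y z z1 hyK hzK hz1K
    hyz hyz1 hQz1
  obtain ⟨ht2W, ht2v⟩ := fixPerp_KK_W Q W v _ inf_le_left t2 ht2f
  have ht2y : ((t2 : GL ι F) : Matrix ι ι F) *ᵥ y = y := by
    apply ht2f
    intro k hk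
    have := (Submodule.mem_inf.mp hk).2
    rw [LinearMap.mem_ker, QuadraticMap.polarBilin_apply_apply] at this
    rw [QuadraticMap.polar_comm]; exact this
  refine ⟨t2 * t1, Subgroup.mul_mem _ ht2 ht1, W ⊔ Submodule.span F {y} ⊔ Submodule.span F {z},
    ?_, ?_, ?_, ?_, ?_⟩
  · exact (nondeg_sup_pair Q W hW y z (by
      rw [CDG.mem_perp]; exact ((mem_KK Q W v y).mp hyK).1) (by
      rw [CDG.mem_perp]; exact ((mem_KK Q W v z).mp hzK).1) hyz).1
  · rw [CDG.mem_perp]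
    intro w hw
    obtain ⟨ab, hab, c, hc, rfl⟩ := Submodule.mem_sup.mp hw
    obtain ⟨a, ha, b, hb, rfl⟩ := Submodule.mem_sup.mp hab
    obtain ⟨β, rfl⟩ := Submodule.mem_span_singleton.mp hb
    obtain ⟨γ, rfl⟩ := Submodule.mem_span_singleton.mp hc
    rw [QuadraticMap.polar_add_left, QuadraticMap.polar_add_left, QuadraticMap.polar_smul_left,
      QuadraticMap.polar_smul_left, (CDG.mem_perp Q W v).mp hvW a ha,
      QuadraticMap.polar_comm (⇑Q) y v, hvperp y hyK, QuadraticMap.polar_comm (⇑Q) z v,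
      hvperp z hzK]
    simp
  · exact (nondeg_sup_pair Q W hW y z (by
      rw [CDG.mem_perp]; exact ((mem_KK Q W v y).mp hyK).1) (by
      rw [CDG.mem_perp]; exact ((mem_KK Q W v z).mp hzK).1) hyz).2
  · have hmul : t2 * t1 * g = t2 * (t1 * g) := mul_assoc _ _ _
    rw [hmul]
    apply CDG.fix_sup
    · apply CDG.fix_sup
      · intro w hw
        rw [CDG.mul_mulVec, hg1W w hw, ht2W w hw]
      · rw [CDG.mul_mulVec, hg1y, ht2y]
    · rw [CDG.mul_mulVec, ← hz1, ht2z]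
  · have hmul : t2 * t1 * g = t2 * (t1 * g) := mul_assoc _ _ _
    rw [hmul, CDG.mul_mulVec, hg1v, ht2v]

end Cfsg.Agent.Lib.Helper16.C2
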