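import Mathlib
import Cfsg.Agent.Lib.Helper16.Char2D

set_option autoImplicit false
set_option linter.unusedSectionVars false
set_option linter.unusedSimpArgs false
set_option linter.unusedVariables false

namespace Cfsg.Agent.Lib.Helper16.C2

open Matrix Module Cfsg.Agent.Lib.helper6 Cfsg.Agent.Lib.Helper16

variable {ι : Type} [Fintype ι] [DecidableEq ι] {F : Type*} [Field F]

theorem eq_one_of_fix_top (Q : QuadraticForm F (ι → F)) (h : ↥(Cfsg.isometryGroup F ⇑Q))
    (Z : Submodule F (ι → F)) (hZ : Z = ⊤)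
    (hfix : ∀ w ∈ Z, ((h : GL ι F) : Matrix ι ι F) *ᵥ w = w) : h = 1 := by
  apply CDG.iso_ext
  rw [Matrix.ext_iff_mulVec]
  intro x
  rw [hfix x (hZ ▸ Submodule.mem_top)]
  show x = (1 : Matrix ι ι F) *ᵥ x
  rw [Matrix.one_mulVec]

theorem stab_final [Finite F] [CharP F 2] (Q : QuadraticForm F (ι → F))
    (hQ : (QuadraticMap.polarBilin Q).Nondegenerate) (v : ι → F) (hv : Q v ≠ 0)
    (W : Submodule F (ι → F)) (hW : W ⊓ CDG.perp Q W = ⊥) (hvW : v ∈ CDG.perp Q W)
    (hfin : finrank F (ι → F) ≤ finrank F W + 2) (g : ↥(Cfsg.isometryGroup F ⇑Q))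
    (hgW : ∀ w ∈ W, ((g : GL ι F) : Matrix ι ι F) *ᵥ w = w)
    (hgv : ((g : GL ι F) : Matrix ι ι F) *ᵥ v = v) :
    g ∈ Subgroup.closure (CDG.Rset Q) := by
  have hv0 : v ≠ 0 := by
    rintro rfl
    exact hv (QuadraticMap.map_zero _)
  have hvnW : v ∉ W := not_mem_of_perp Q W hW v hvW hv0
  have hvW' := (CDG.mem_perp Q W v).mp hvW
  -- choose v'
  obtain ⟨v', hv'W, hvv'⟩ : ∃ v' ∈ CDG.perp Q W, QuadraticMap.polar (⇑Q) v v' ≠ 0 := by
    by_contra hcon
    push Not at hcon
    apply hvnW
    have h1 : v ∈ CDG.perp Q (CDG.perp Q W) := by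
      rw [CDG.mem_perp]
      intro x hx
      rw [QuadraticMap.polar_comm]; exact hcon x hx
    have h2 : CDG.perp Q (CDG.perp Q W) = W :=
      LinearMap.BilinForm.orthogonal_orthogonal hQ (CDG.polarBilin_isRefl Q) _
    rwa [h2] at h1
  have hv'W' := (CDG.mem_perp Q W v').mp hv'W
  have hv'nmem : v' ∉ W ⊔ Submodule.span F {v} := by
    intro h
    obtain ⟨a, ha, b, hb, hab⟩ := Submodule.mem_sup.mp h
    obtain ⟨c, rfl⟩ := Submodule.mem_span_singleton.mp hb
    apply hvv'
    rw [← hab, QuadraticMap.polar_add_right, QuadraticMap.polar_smul_right, polar_self2,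
      QuadraticMap.polar_comm (⇑Q) v a, hvW' a ha]
    simp
  have htop : W ⊔ Submodule.span F {v} ⊔ Submodule.span F {v'} = ⊤ := by
    apply Submodule.eq_top_of_finrank_eq
    have h1 := finrank_sup_span_of_not_mem W v hvnW
    have h2 := finrank_sup_span_of_not_mem _ v' hv'nmem
    have h3 := Submodule.finrank_le (W ⊔ Submodule.span F {v} ⊔ Submodule.span F {v'})
    omega
  -- d = g v' - v' lies in span v
  set d := ((g : GL ι F) : Matrix ι ι F) *ᵥ v' - v' with hd
  have hdK : d ∈ KK Q W v := by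
    rw [mem_KK]
    constructor
    · intro w hw
      rw [hd, QuadraticMap.polar_sub_right, hv'W' w hw, sub_zero]
      have := CDG.polar_iso Q g w v'
      rw [hgW w hw] at this
      rw [this, hv'W' w hw]
    · rw [hd, QuadraticMap.polar_sub_right]
      have := CDG.polar_iso Q g v v'
      rw [hgv] at this
      rw [this, sub_self]
  have hKeq : KK Q W v = Submodule.span F {v} := by
    symm
    apply Submodule.eq_of_le_of_finrank_le
    · rw [Submodule.span_singleton_le_iff_mem]
      exact v_mem_KK Q W v hvW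
    · rw [finrank_KK Q hQ W v hvnW, finrank_span_singleton hv0]
      omega
  rw [hKeq] at hdK
  obtain ⟨α, hα⟩ := Submodule.mem_span_singleton.mp hdK
  have hgv' : ((g : GL ι F) : Matrix ι ι F) *ᵥ v' = v' + α • v := by
    rw [hα, hd]; abel
  have hQeq : α * (α * Q v + QuadraticMap.polar (⇑Q) v v') = 0 := by
    have h1 : Q (((g : GL ι F) : Matrix ι ι F) *ᵥ v') = Q v' := iso_pres (⇑Q) g v'
    rw [hgv', Q_add, QuadraticMap.map_smul, QuadraticMap.polar_smul_right,
      QuadraticMap.polar_comm (⇑Q) v' v] at h1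
    simp only [smul_eq_mul] at h1
    linear_combination h1
  rcases mul_eq_zero.mp hQeq with h0 | h1
  · -- g fixes v'
    have : g = 1 := by
      apply eq_one_of_fix_top Q g _ htop
      apply CDG.fix_sup
      · apply CDG.fix_sup _ _ _ hgW hgv
      · rw [hgv', h0, zero_smul, add_zero]
    rw [this]
    exact Subgroup.one_mem _
  · -- g = r_v
    have hr := CDG.refl_mem Q v hv
    have hrv : Cfsg.reflectionMatrix ⇑Q v *ᵥ v = v := refl_fix_of_perp Q v v (polar_self2 Q v)
    have hrg : CDG.refl Q v hv * g = 1 := by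
      apply eq_one_of_fix_top Q _ _ htop
      apply CDG.fix_sup
      · apply CDG.fix_sup
        · intro w hw
          rw [CDG.mul_mulVec, hgW w hw, CDG.refl_coe]
          exact refl_fix_of_perp Q v w (by rw [QuadraticMap.polar_comm]; exact hvW' w hw)
        · rw [CDG.mul_mulVec, hgv, CDG.refl_coe, hrv]
      · rw [CDG.mul_mulVec, hgv', CDG.refl_coe, Matrix.mulVec_add, Matrix.mulVec_smul, hrv,
          reflectionMatrix_mulVec]
        have hα' : α = (Q v)⁻¹ * QuadraticMap.polar (⇑Q) v v' := by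
          have h2 : α * Q v = QuadraticMap.polar (⇑Q) v v' := by
            have := CharTwo.add_eq_zero.mp h1
            exact this
          field_simp
          exact h2
        rw [← hα']
        abel
    have : g = CDG.refl Q v hv := by
      have h3 : g = (CDG.refl Q v hv)⁻¹ := eq_inv_of_mul_eq_one_right hrg
      rw [h3, CDG.Rset_inv Q _ hr]
    rw [this]
    exact Subgroup.subset_closure hr

end Cfsg.Agent.Lib.Helper16.C2
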