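import Mathlib
import Cfsg.Agent.Lib.Helper16.Char2E

set_option autoImplicit false
set_option linter.unusedSectionVars false
set_option linter.unusedSimpArgs false
set_option linter.unusedVariables false

namespace Cfsg.Agent.Lib.Helper16.C2

open Matrix Module Cfsg.Agent.Lib.helper6 Cfsg.Agent.Lib.Helper16

variable {ι : Type} [Fintype ι] [DecidableEq ι] {F : Type*} [Field F]

theorem stab_aux [Finite F] [CharP F 2] (Q : QuadraticForm F (ι → F))
    (hQ : (QuadraticMap.polarBilin Q).Nondegenerate) (v : ι → F) (hv : Q v ≠ 0) :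
    ∀ (k : ℕ) (W : Submodule F (ι → F)), W ⊓ CDG.perp Q W = ⊥ → v ∈ CDG.perp Q W →
      finrank F (ι → F) ≤ finrank F W + 2 * k + 2 →
      ∀ g : ↥(Cfsg.isometryGroup F ⇑Q),
        (∀ w ∈ W, ((g : GL ι F) : Matrix ι ι F) *ᵥ w = w) →
        ((g : GL ι F) : Matrix ι ι F) *ᵥ v = v → g ∈ Subgroup.closure (CDG.Rset Q) := by
  intro k
  induction k with
  | zero =>
    intro W hW hvW hfin g hgW hgv
    exact stab_final Q hQ v hv W hW hvW (by omega) g hgW hgv
  | succ k ih =>
    intro W hW hvW hfin g hgW hgv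
    by_cases hsmall : finrank F (ι → F) ≤ finrank F W + 2
    · exact stab_final Q hQ v hv W hW hvW hsmall g hgW hgv
    · obtain ⟨t, ht, W₂, hW₂, hvW₂, hfin₂, hfixW₂, hfixv⟩ :=
        stab_step Q hQ v hv W hW hvW (by omega) g hgW hgv
      have h1 := ih W₂ hW₂ hvW₂ (by omega) (t * g) hfixW₂ hfixv
      have : g = t⁻¹ * (t * g) := by group
      rw [this]
      exact Subgroup.mul_mem _ (Subgroup.inv_mem _ ht) h1

theorem stab_mem_closure [Finite F] [CharP F 2] (Q : QuadraticForm F (ι → F))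
    (hQ : (QuadraticMap.polarBilin Q).Nondegenerate) (v : ι → F) (hv : Q v ≠ 0)
    (g : ↥(Cfsg.isometryGroup F ⇑Q)) (hgv : ((g : GL ι F) : Matrix ι ι F) *ᵥ v = v) :
    g ∈ Subgroup.closure (CDG.Rset Q) := by
  apply stab_aux Q hQ v hv (finrank F (ι → F)) ⊥
  · simp
  · rw [CDG.mem_perp]
    intro w hw
    rw [Submodule.mem_bot] at hw
    rw [hw]
    simp
  · omega
  · intro w hw
    rw [Submodule.mem_bot] at hw
    rw [hw, Matrix.mulVec_zero]
  · exact hgv

end Cfsg.Agent.Lib.Helper16.C2
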