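import Mathlib
import Cfsg.Agent.Lib.Helper16.Char2F

set_option autoImplicit false
set_option linter.unusedSectionVars false
set_option linter.unusedSimpArgs false
set_option linter.unusedVariables false

namespace Cfsg.Agent.Lib.Helper16.C2

open Matrix Module Cfsg.Agent.Lib.helper6 Cfsg.Agent.Lib.Helper16

variable {ι : Type} [Fintype ι] [DecidableEq ι] {F : Type*} [Field F]

theorem not_mem_span_of_Q_eq [CharP F 2] (Q : QuadraticForm F (ι → F)) (u u' : ι → F)
    (hu : Q u ≠ 0) (hQ : Q u' = Q u) (hne : u' ≠ u) : u' ∉ Submodule.span F {u} := by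
  intro h
  obtain ⟨c, hc⟩ := Submodule.mem_span_singleton.mp h
  apply hne
  rw [← hc, QuadraticMap.map_smul, smul_eq_mul] at hQ
  have h1 : (c * c - 1) * Q u = 0 := by linear_combination hQ
  have h2 : c * c - 1 = 0 := by
    rcases mul_eq_zero.mp h1 with h | h
    · exact h
    · exact absurd h hu
  have h3 : (c + 1) * (c + 1) = 0 := by
    have h4 : (2 : F) = 0 := CharTwo.two_eq_zero
    linear_combination h2 + (c + 1) * h4
  have h5 : c + 1 = 0 := mul_self_eq_zero.mp h3
  have h6 : c = 1 := by
    have := CharTwo.add_eq_zero.mp h5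
    exact this
  rw [← hc, h6, one_smul]

theorem exists_pairing (Q : QuadraticForm F (ι → F))
    (hQ : (QuadraticMap.polarBilin Q).Nondegenerate) (u u' : ι → F)
    (h1 : u ∉ Submodule.span F {u'}) (h2 : u' ∉ Submodule.span F {u}) (α β : F) :
    ∃ w : ι → F, QuadraticMap.polar (⇑Q) w u = α ∧ QuadraticMap.polar (⇑Q) w u' = β := by
  have key : ∀ a b : ι → F, a ∉ Submodule.span F {b} →
      ∃ x : ι → F, QuadraticMap.polar (⇑Q) x b = 0 ∧ QuadraticMap.polar (⇑Q) x a ≠ 0 := by
    intro a b hab
    by_contra hcon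
    push Not at hcon
    apply hab
    have hle : CDG.perp Q (Submodule.span F {b}) ≤ CDG.perp Q (Submodule.span F {a}) := by
      intro x hx
      rw [CDG.mem_perp] at hx ⊢
      intro w hw
      obtain ⟨c, rfl⟩ := Submodule.mem_span_singleton.mp hw
      rw [QuadraticMap.polar_smul_left, QuadraticMap.polar_comm]
      rw [hcon x (by
        rw [QuadraticMap.polar_comm]
        exact hx b (Submodule.mem_span_singleton_self b)), smul_zero]
    have h3 := LinearMap.BilinForm.orthogonal_le (B := QuadraticMap.polarBilin Q) hle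
    rw [LinearMap.BilinForm.orthogonal_orthogonal hQ (CDG.polarBilin_isRefl Q),
      LinearMap.BilinForm.orthogonal_orthogonal hQ (CDG.polarBilin_isRefl Q)] at h3
    exact h3 (Submodule.mem_span_singleton_self a)
  obtain ⟨a, ha1, ha2⟩ := key u u' h1
  obtain ⟨b, hb1, hb2⟩ := key u' u h2
  refine ⟨(α * (QuadraticMap.polar (⇑Q) a u)⁻¹) • a + (β * (QuadraticMap.polar (⇑Q) b u')⁻¹) • b,
    ?_, ?_⟩
  · rw [QuadraticMap.polar_add_left, QuadraticMap.polar_smul_left, QuadraticMap.polar_smul_left,
      hb1, smul_zero, add_zero, smul_eq_mul, mul_assoc, inv_mul_cancel₀ ha2, mul_one]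
  · rw [QuadraticMap.polar_add_left, QuadraticMap.polar_smul_left, QuadraticMap.polar_smul_left,
      ha1, smul_zero, zero_add, smul_eq_mul, mul_assoc, inv_mul_cancel₀ hb2, mul_one]

theorem exists_mid_A [CharP F 2] (Q : QuadraticForm F (ι → F))
    (hQ : (QuadraticMap.polarBilin Q).Nondegenerate) (u u' : ι → F)
    (h1 : u ∉ Submodule.span F {u'}) (h2 : u' ∉ Submodule.span F {u})
    (hQuu : Q u' = Q u) (hpol : QuadraticMap.polar (⇑Q) u' u = 0)
    (α : F) (hα0 : α ≠ 0) (hα1 : α ≠ 1) :
    ∃ w : ι → F, Q w = Q u ∧ QuadraticMap.polar (⇑Q) w u ≠ 0 ∧ QuadraticMap.polar (⇑Q) u' w ≠ 0 := by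
  obtain ⟨w0, hw0u, hw0u'⟩ := exists_pairing Q hQ u u' h1 h2 1 α
  have hα1' : 1 + α ≠ 0 := by
    intro h
    apply hα1
    have := CharTwo.add_eq_zero.mp h
    exact this.symm
  have hQs : Q (u + u') = 0 := by
    rw [Q_add, hQuu, QuadraticMap.polar_comm, hpol, add_zero, CharTwo.add_self_eq_zero]
  refine ⟨w0 + ((Q u + Q w0) / (1 + α)) • (u + u'), ?_, ?_, ?_⟩
  · rw [Q_add, QuadraticMap.map_smul, hQs, smul_zero, add_zero, QuadraticMap.polar_smul_right,
      QuadraticMap.polar_add_right, hw0u, hw0u', smul_eq_mul, div_mul_cancel₀ _ hα1',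
      add_comm (Q u), ← add_assoc, CharTwo.add_self_eq_zero, zero_add]
  · rw [QuadraticMap.polar_add_left, QuadraticMap.polar_smul_left, QuadraticMap.polar_add_left,
      polar_self2, hpol, add_zero, smul_zero, add_zero, hw0u]
    exact one_ne_zero
  · rw [QuadraticMap.polar_add_right, QuadraticMap.polar_smul_right, QuadraticMap.polar_add_right,
      polar_self2, hpol, add_zero, smul_zero, add_zero, QuadraticMap.polar_comm, hw0u']
    exact hα0

theorem finrank_span_three_le (a b c : ι → F) :
    finrank F ↥(Submodule.span F {a} ⊔ Submodule.span F {b} ⊔ Submodule.span F {c}) ≤ 3 := by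
  have h1 := Submodule.finrank_add_le_finrank_add_finrank
    (Submodule.span F {a} ⊔ Submodule.span F {b}) (Submodule.span F {c})
  have h2 := Submodule.finrank_add_le_finrank_add_finrank
    (Submodule.span F {a}) (Submodule.span F {b})
  have hs : ∀ x : ι → F, finrank F ↥(Submodule.span F {x}) ≤ 1 := by
    intro x
    by_cases hx : x = 0
    · rw [hx, Submodule.span_zero_singleton, finrank_bot]; omega
    · rw [finrank_span_singleton hx]
  have ha := hs a
  have hb := hs b
  have hc := hs c
  omega

theorem exists_mid_B [Finite F] [CharP F 2] (Q : QuadraticForm F (ι → F))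
    (hQ : (QuadraticMap.polarBilin Q).Nondegenerate) (u u' : ι → F)
    (h1 : u ∉ Submodule.span F {u'}) (h2 : u' ∉ Submodule.span F {u})
    (hQuu : Q u' = Q u) (hpol : QuadraticMap.polar (⇑Q) u' u = 0)
    (hn : 5 ≤ finrank F (ι → F)) :
    ∃ w : ι → F, Q w = Q u ∧ QuadraticMap.polar (⇑Q) w u ≠ 0 ∧ QuadraticMap.polar (⇑Q) u' w ≠ 0 := by
  obtain ⟨w0, hw0u, hw0u'⟩ := exists_pairing Q hQ u u' h1 h2 1 1
  set M := Submodule.span F {u} ⊔ Submodule.span F {u'} ⊔ Submodule.span F {w0} with hM
  have huM : u ∈ M :=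
    Submodule.mem_sup_left (Submodule.mem_sup_left (Submodule.mem_span_singleton_self u))
  have hu'M : u' ∈ M :=
    Submodule.mem_sup_left (Submodule.mem_sup_right (Submodule.mem_span_singleton_self u'))
  have hw0M : w0 ∈ M := Submodule.mem_sup_right (Submodule.mem_span_singleton_self w0)
  have hfinN : finrank F ↥(CDG.perp Q M) = finrank F (ι → F) - finrank F M :=
    LinearMap.BilinForm.finrank_orthogonal hQ M
  have hM3 : finrank F M ≤ 3 := finrank_span_three_le u u' w0
  obtain ⟨y1, hy1N, hQy1⟩ : ∃ y1 ∈ CDG.perp Q M, Q y1 ≠ 0 := by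
    by_contra hcon
    push Not at hcon
    have hle : CDG.perp Q M ≤ Submodule.span F {u + u'} := by
      intro x hx
      have hxM : x ∈ M := by
        have h3 : x ∈ CDG.perp Q (CDG.perp Q M) := by
          rw [CDG.mem_perp]
          intro y hy
          unfold QuadraticMap.polar
          rw [hcon _ (Submodule.add_mem _ hy hx), hcon y hy, hcon x hx]; ring
        have h4 : CDG.perp Q (CDG.perp Q M) = M :=
          LinearMap.BilinForm.orthogonal_orthogonal hQ (CDG.polarBilin_isRefl Q) _
        rwa [h4] at h3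
      obtain ⟨ab, hab, c', hc', hx'⟩ := Submodule.mem_sup.mp hxM
      obtain ⟨a', ha', b', hb', hab'⟩ := Submodule.mem_sup.mp hab
      obtain ⟨a, rfl⟩ := Submodule.mem_span_singleton.mp ha'
      obtain ⟨b, rfl⟩ := Submodule.mem_span_singleton.mp hb'
      obtain ⟨c, rfl⟩ := Submodule.mem_span_singleton.mp hc'
      rw [CDG.mem_perp] at hx
      have e1 := hx u huM
      rw [← hx', ← hab', QuadraticMap.polar_add_right, QuadraticMap.polar_add_right,
        QuadraticMap.polar_smul_right, QuadraticMap.polar_smul_right,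
        QuadraticMap.polar_smul_right, polar_self2, QuadraticMap.polar_comm (⇑Q) u u', hpol,
        QuadraticMap.polar_comm (⇑Q) u w0, hw0u] at e1
      simp only [smul_eq_mul, mul_zero, mul_one, zero_add] at e1
      have e2 := hx w0 hw0M
      rw [← hx', ← hab', QuadraticMap.polar_add_right, QuadraticMap.polar_add_right,
        QuadraticMap.polar_smul_right, QuadraticMap.polar_smul_right,
        QuadraticMap.polar_smul_right, polar_self2, hw0u, hw0u'] at e2
      simp only [smul_eq_mul, mul_zero, mul_one, add_zero] at e2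
      have hba : b = a := by
        have := CharTwo.add_eq_zero.mp e2
        exact this.symm
      rw [← hx', ← hab', e1, hba, zero_smul, add_zero, ← smul_add]
      exact Submodule.smul_mem _ a (Submodule.mem_span_singleton_self _)
    have h5 := Submodule.finrank_mono hle
    have h6 : finrank F ↥(Submodule.span F {u + u'}) ≤ 1 := by
      by_cases hx : u + u' = 0
      · rw [hx, Submodule.span_zero_singleton, finrank_bot]; omega
      · rw [finrank_span_singleton hx]
    omega
  have hy1' := (CDG.mem_perp Q M y1).mp hy1N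
  obtain ⟨s, hs⟩ := exists_sqrt ((Q u + Q w0) / Q y1)
  refine ⟨w0 + s • y1, ?_, ?_, ?_⟩
  · rw [Q_add, QuadraticMap.map_smul, QuadraticMap.polar_smul_right, hy1' w0 hw0M, smul_zero,
      add_zero, smul_eq_mul, hs, div_mul_cancel₀ _ hQy1, add_comm (Q u), ← add_assoc,
      CharTwo.add_self_eq_zero, zero_add]
  · rw [QuadraticMap.polar_add_left, QuadraticMap.polar_smul_left,
      QuadraticMap.polar_comm (⇑Q) y1 u, hy1' u huM, smul_zero, add_zero, hw0u]
    exact one_ne_zero
  · rw [QuadraticMap.polar_add_right, QuadraticMap.polar_smul_right, hy1' u' hu'M, smul_zero,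
      add_zero, QuadraticMap.polar_comm, hw0u']
    exact one_ne_zero

end Cfsg.Agent.Lib.Helper16.C2
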