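import Mathlib
import Cfsg.Agent.Lib.Helper16.Char2G

set_option autoImplicit false
set_option linter.unusedSectionVars false
set_option linter.unusedSimpArgs false
set_option linter.unusedVariables false

namespace Cfsg.Agent.Lib.Helper16.C2

open Matrix Module Cfsg.Agent.Lib.helper6 Cfsg.Agent.Lib.Helper16

variable {ι : Type} [Fintype ι] [DecidableEq ι] {F : Type*} [Field F]

theorem four_le_finrank [CharP F 2] (Q : QuadraticForm F (ι → F))
    (hQ : (QuadraticMap.polarBilin Q).Nondegenerate) (u u' : ι → F) (hu0 : u ≠ 0)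
    (h2 : u' ∉ Submodule.span F {u}) (hpol : QuadraticMap.polar (⇑Q) u' u = 0) :
    4 ≤ finrank F (ι → F) := by
  have h1 := finrank_sup_span_of_not_mem (Submodule.span F {u}) u' h2
  rw [finrank_span_singleton hu0] at h1
  have hle : Submodule.span F {u} ⊔ Submodule.span F {u'} ≤
      CDG.perp Q (Submodule.span F {u} ⊔ Submodule.span F {u'}) := by
    intro x hx
    rw [CDG.mem_perp]
    intro y hy
    obtain ⟨a', ha', b', hb', rfl⟩ := Submodule.mem_sup.mp hx
    obtain ⟨a, rfl⟩ := Submodule.mem_span_singleton.mp ha'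
    obtain ⟨b, rfl⟩ := Submodule.mem_span_singleton.mp hb'
    obtain ⟨c', hc', d', hd', rfl⟩ := Submodule.mem_sup.mp hy
    obtain ⟨c, rfl⟩ := Submodule.mem_span_singleton.mp hc'
    obtain ⟨d, rfl⟩ := Submodule.mem_span_singleton.mp hd'
    simp only [QuadraticMap.polar_add_left, QuadraticMap.polar_add_right,
      QuadraticMap.polar_smul_left, QuadraticMap.polar_smul_right, polar_self2, hpol,
      QuadraticMap.polar_comm (⇑Q) u u', smul_zero, add_zero]
  have h3 := Submodule.finrank_mono hle
  have h4 : finrank F ↥(CDG.perp Q (Submodule.span F {u} ⊔ Submodule.span F {u'}))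
      = finrank F (ι → F) - finrank F ↥(Submodule.span F {u} ⊔ Submodule.span F {u'}) :=
    LinearMap.BilinForm.finrank_orthogonal hQ _
  omega

theorem exists_ne_zero_one [Fintype F] (hF : Fintype.card F ≠ 2) : ∃ a : F, a ≠ 0 ∧ a ≠ 1 := by
  classical
  by_contra hcon
  push Not at hcon
  have hsub : (Finset.univ : Finset F) ⊆ {0, 1} := by
    intro x _
    by_cases hx : x = 0
    · simp [hx]
    · simp [hcon x hx]
  have h5 := Finset.card_le_card hsub
  have h6 : ({0, 1} : Finset F).card = 2 := Finset.card_pair zero_ne_one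
  rw [Finset.card_univ] at h5
  have h7 : 2 ≤ Fintype.card F := by
    have := Fintype.one_lt_card (α := F)
    omega
  omega

theorem trans_nonsing [Fintype F] [CharP F 2] (Q : QuadraticForm F (ι → F))
    (hQ : (QuadraticMap.polarBilin Q).Nondegenerate)
    (h : Fintype.card F ≠ 2 ∨ Fintype.card ι ≠ 4) (u u' : ι → F) (hu : Q u ≠ 0)
    (hQuu : Q u' = Q u) :
    ∃ t ∈ Subgroup.closure (CDG.Rset Q), ((t : GL ι F) : Matrix ι ι F) *ᵥ u' = u := by
  by_cases hB : QuadraticMap.polar (⇑Q) u' u ≠ 0
  · obtain ⟨t, ht, htu, _⟩ := move_one' Q ⊤ u u' Submodule.mem_top hQuu hB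
    exact ⟨t, ht, htu⟩
  · push Not at hB
    by_cases hne : u' = u
    · refine ⟨1, Subgroup.one_mem _, ?_⟩
      rw [hne]
      show (1 : Matrix ι ι F) *ᵥ u = u
      rw [Matrix.one_mulVec]
    · have hu0 : u ≠ 0 := by
        rintro rfl
        exact hu (QuadraticMap.map_zero _)
      have h2 : u' ∉ Submodule.span F {u} := not_mem_span_of_Q_eq Q u u' hu hQuu hne
      have h1 : u ∉ Submodule.span F {u'} :=
        not_mem_span_of_Q_eq Q u' u (by rw [hQuu]; exact hu) hQuu.symm (fun h => hne h.symm)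
      have h4 := four_le_finrank Q hQ u u' hu0 h2 hB
      have hmid : ∃ w : ι → F, Q w = Q u ∧ QuadraticMap.polar (⇑Q) w u ≠ 0 ∧
          QuadraticMap.polar (⇑Q) u' w ≠ 0 := by
        by_cases hF : Fintype.card F ≠ 2
        · obtain ⟨α, hα0, hα1⟩ := exists_ne_zero_one hF
          exact exists_mid_A Q hQ u u' h1 h2 hQuu hB α hα0 hα1
        · have hι : Fintype.card ι ≠ 4 := by
            rcases h with h | h
            · exact absurd h hF
            · exact h
          have hfr : finrank F (ι → F) = Fintype.card ι := Module.finrank_pi F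
          exact exists_mid_B Q hQ u u' h1 h2 hQuu hB (by omega)
      obtain ⟨w, hw1, hw2, hw3⟩ := hmid
      obtain ⟨t, ht, htu, _⟩ := move_two' Q ⊤ u u' w Submodule.mem_top Submodule.mem_top hQuu hw1
        hw2 hw3
      exact ⟨t, ht, htu⟩

theorem exists_nonsing [Nonempty ι] (Q : QuadraticForm F (ι → F))
    (hQ : (QuadraticMap.polarBilin Q).Nondegenerate) : ∃ v : ι → F, Q v ≠ 0 := by
  by_contra hcon
  push Not at hcon
  obtain ⟨i⟩ := ‹Nonempty ι›
  have h1 : (Pi.single i 1 : ι → F) = 0 := by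
    apply hQ.1
    intro y
    rw [QuadraticMap.polarBilin_apply_apply]
    unfold QuadraticMap.polar
    rw [hcon, hcon, hcon]; ring
  have := congrFun h1 i
  simp at this

theorem generation [Fintype F] [CharP F 2] (Q : QuadraticForm F (ι → F))
    (hQ : (QuadraticMap.polarBilin Q).Nondegenerate)
    (h : Fintype.card F ≠ 2 ∨ Fintype.card ι ≠ 4) :
    Subgroup.closure (CDG.Rset Q) = ⊤ := by
  rw [eq_top_iff]
  intro g _
  by_cases hι : Nonempty ι
  · obtain ⟨v, hv⟩ := exists_nonsing Q hQ
    set u' := ((g : GL ι F) : Matrix ι ι F) *ᵥ v with hu'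
    have hQu' : Q u' = Q v := iso_pres (⇑Q) g v
    obtain ⟨t, ht, htu⟩ := trans_nonsing Q hQ h v u' hv hQu'
    have h1 : t * g ∈ Subgroup.closure (CDG.Rset Q) := by
      apply stab_mem_closure Q hQ v hv
      rw [CDG.mul_mulVec, ← hu', htu]
    have : g = t⁻¹ * (t * g) := by group
    rw [this]
    exact Subgroup.mul_mem _ (Subgroup.inv_mem _ ht) h1
  · have : g = 1 := by
      apply CDG.iso_ext
      ext i j
      exact absurd ⟨i⟩ hι
    rw [this]
    exact Subgroup.one_mem _

end Cfsg.Agent.Lib.Helper16.C2
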