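import Mathlib
import Cfsg.Agent.Lib.Helper16.Char2H

set_option autoImplicit false
set_option linter.unusedSectionVars false
set_option linter.unusedSimpArgs false
set_option linter.unusedVariables false

namespace Cfsg.Agent.Lib.Helper16.C2

open Matrix Module Cfsg.Agent.Lib.helper6 Cfsg.Agent.Lib.Helper16
open scoped commutatorElement

variable {ι : Type} [Fintype ι] [DecidableEq ι] {F : Type*} [Field F]

theorem refl_conj_cdg (Q : QuadraticForm F (ι → F)) (h : ↥(Cfsg.isometryGroup F ⇑Q)) (u : ι → F)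
    (hu : Q u ≠ 0) (hu' : Q (((h : GL ι F) : Matrix ι ι F) *ᵥ u) ≠ 0) :
    h * CDG.refl Q u hu * h⁻¹ = CDG.refl Q (((h : GL ι F) : Matrix ι ι F) *ᵥ u) hu' := by
  have h1 := refl_conj Q h u hu hu'
  have e1 : CDG.refl Q u hu = reflG Q u hu := iso_ext' _ _ _ rfl
  have e2 : CDG.refl Q (((h : GL ι F) : Matrix ι ι F) *ᵥ u) hu' = reflG Q _ hu' := iso_ext' _ _ _ rfl
  rw [e1, e2, h1]

theorem refl_eq_of_matrix (Q : QuadraticForm F (ι → F)) (u u' : ι → F) (hu : Q u ≠ 0)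
    (hu' : Q u' ≠ 0) (h : Cfsg.reflectionMatrix ⇑Q u = Cfsg.reflectionMatrix ⇑Q u') :
    CDG.refl Q u hu = CDG.refl Q u' hu' := by
  apply CDG.iso_ext
  rw [CDG.refl_coe, CDG.refl_coe, h]

theorem exists_unit_scale [Finite F] [CharP F 2] (Q : QuadraticForm F (ι → F)) (u : ι → F)
    (hu : Q u ≠ 0) : ∃ u1 : ι → F, Q u1 = 1 ∧
      Cfsg.reflectionMatrix ⇑Q u1 = Cfsg.reflectionMatrix ⇑Q u := by
  obtain ⟨s, hs⟩ := exists_sqrt (Q u)⁻¹
  have hs0 : s ≠ 0 := by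
    rintro rfl
    rw [mul_zero] at hs
    exact (inv_ne_zero hu) hs.symm
  refine ⟨s • u, ?_, refl_smul Q u s hs0 hu⟩
  rw [QuadraticMap.map_smul, smul_eq_mul, hs, inv_mul_cancel₀ hu]

theorem refl_pair_mem_omega [Fintype F] [CharP F 2] (Q : QuadraticForm F (ι → F))
    (hQ : (QuadraticMap.polarBilin Q).Nondegenerate)
    (h : Fintype.card F ≠ 2 ∨ Fintype.card ι ≠ 4) (u v : ι → F) (hu : Q u ≠ 0) (hv : Q v ≠ 0) :
    CDG.refl Q u hu * CDG.refl Q v hv ∈ Cfsg.Omega F ⇑Q := by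
  obtain ⟨u1, hu1, hru⟩ := exists_unit_scale Q u hu
  obtain ⟨v1, hv1, hrv⟩ := exists_unit_scale Q v hv
  have hu1' : Q u1 ≠ 0 := by rw [hu1]; exact one_ne_zero
  have hv1' : Q v1 ≠ 0 := by rw [hv1]; exact one_ne_zero
  have eu : CDG.refl Q u hu = CDG.refl Q u1 hu1' := refl_eq_of_matrix Q u u1 hu hu1' hru.symm
  have ev : CDG.refl Q v hv = CDG.refl Q v1 hv1' := refl_eq_of_matrix Q v v1 hv hv1' hrv.symm
  obtain ⟨t, _, htv⟩ := trans_nonsing Q hQ h u1 v1 hu1' (by rw [hu1, hv1])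
  have hconj := refl_conj_cdg Q t v1 hv1' (by rw [htv]; exact hu1')
  have eu1 : CDG.refl Q u1 hu1' = t * CDG.refl Q v1 hv1' * t⁻¹ := by
    rw [hconj]
    apply CDG.iso_ext
    rw [CDG.refl_coe, CDG.refl_coe, htv]
  have hcomm : CDG.refl Q u hu * CDG.refl Q v hv = ⁅t, CDG.refl Q v1 hv1'⁆ := by
    rw [commutatorElement_def, eu, ev, eu1, CDG.Rset_inv Q _ (CDG.refl_mem Q v1 hv1')]
  rw [hcomm]
  exact Subgroup.commutator_mem_commutator (Subgroup.mem_top _) (Subgroup.mem_top _)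

def pairSet (Q : QuadraticForm F (ι → F)) : Set ↥(Cfsg.isometryGroup F ⇑Q) :=
  {g | ∃ u v : ι → F, Q u ≠ 0 ∧ Q v ≠ 0 ∧
    ((g : GL ι F) : Matrix ι ι F) = Cfsg.reflectionMatrix ⇑Q u * Cfsg.reflectionMatrix ⇑Q v}

theorem mem_pairSet_iff (Q : QuadraticForm F (ι → F)) (g : ↥(Cfsg.isometryGroup F ⇑Q)) :
    g ∈ pairSet Q ↔ ∃ (u v : ι → F) (hu : Q u ≠ 0) (hv : Q v ≠ 0),
      g = CDG.refl Q u hu * CDG.refl Q v hv := by
  constructor
  · rintro ⟨u, v, hu, hv, hg⟩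
    refine ⟨u, v, hu, hv, ?_⟩
    apply CDG.iso_ext
    rw [hg]
    rfl
  · rintro ⟨u, v, hu, hv, rfl⟩
    exact ⟨u, v, hu, hv, rfl⟩

theorem pairSet_conj (Q : QuadraticForm F (ι → F)) (g s : ↥(Cfsg.isometryGroup F ⇑Q))
    (hs : s ∈ pairSet Q) : g * s * g⁻¹ ∈ pairSet Q := by
  rw [mem_pairSet_iff] at hs ⊢
  obtain ⟨u, v, hu, hv, rfl⟩ := hs
  have hu' : Q (((g : GL ι F) : Matrix ι ι F) *ᵥ u) ≠ 0 := by rw [iso_pres (⇑Q) g]; exact hu
  have hv' : Q (((g : GL ι F) : Matrix ι ι F) *ᵥ v) ≠ 0 := by rw [iso_pres (⇑Q) g]; exact hv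
  refine ⟨_, _, hu', hv', ?_⟩
  rw [← refl_conj_cdg Q g u hu hu', ← refl_conj_cdg Q g v hv hv']
  group

theorem pair_closure_normal (Q : QuadraticForm F (ι → F)) :
    (Subgroup.closure (pairSet Q)).Normal := by
  constructor
  intro n hn g
  induction hn using Subgroup.closure_induction with
  | mem s hs => exact Subgroup.subset_closure (pairSet_conj Q g s hs)
  | one => simp
  | mul a b _ _ iha ihb =>
    have : g * (a * b) * g⁻¹ = (g * a * g⁻¹) * (g * b * g⁻¹) := by group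
    rw [this]
    exact Subgroup.mul_mem _ iha ihb
  | inv a _ iha =>
    have : g * a⁻¹ * g⁻¹ = (g * a * g⁻¹)⁻¹ := by group
    rw [this]
    exact Subgroup.inv_mem _ iha

theorem omega_eq_pair_closure [Fintype F] [CharP F 2] [Nonempty ι] (Q : QuadraticForm F (ι → F))
    (hQ : (QuadraticMap.polarBilin Q).Nondegenerate)
    (h : Fintype.card F ≠ 2 ∨ Fintype.card ι ≠ 4) :
    Cfsg.Omega F ⇑Q = Subgroup.closure (pairSet Q) := by
  apply le_antisymm
  · have hN : (Subgroup.closure (pairSet Q)).Normal := pair_closure_normal Q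
    obtain ⟨v0, hv0⟩ := exists_nonsing Q hQ
    apply Subgroup.Normal.commutator_le_of_self_sup_commutative_eq_top
      (H := Subgroup.zpowers (CDG.refl Q v0 hv0))
    · rw [eq_top_iff, ← generation Q hQ h, Subgroup.closure_le]
      intro r hr
      obtain ⟨u, hu, hru⟩ := hr
      have e1 : r = CDG.refl Q u hu := CDG.iso_ext Q _ _ hru
      have e2 : r = (CDG.refl Q u hu * CDG.refl Q v0 hv0) * CDG.refl Q v0 hv0 := by
        rw [mul_assoc, CDG.Rset_sq Q _ (CDG.refl_mem Q v0 hv0), mul_one, e1]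
      rw [e2]
      apply Subgroup.mul_mem
      · apply Subgroup.mem_sup_left
        apply Subgroup.subset_closure
        exact ⟨u, v0, hu, hv0, rfl⟩
      · apply Subgroup.mem_sup_right
        exact Subgroup.mem_zpowers _
    · infer_instance
  · rw [Subgroup.closure_le]
    intro s hs
    rw [mem_pairSet_iff] at hs
    obtain ⟨u, v, hu, hv, rfl⟩ := hs
    exact refl_pair_mem_omega Q hQ h u v hu hv

end Cfsg.Agent.Lib.Helper16.C2
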