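import Mathlib
import Cfsg.Agent.Lib.Helper16.TwoFam4
import Cfsg.Agent.Lib.Helper16.CDG

set_option autoImplicit false
set_option linter.unusedSectionVars false
set_option linter.unusedSimpArgs false

namespace Cfsg.Agent.Lib.Helper16

open Module Matrix Cfsg.Agent.Lib.helper6

variable {ι : Type} [Fintype ι] [DecidableEq ι] {F : Type*} [Field F]

theorem finrank_inf_refl (Q : QuadraticForm F (ι → F))
    (hQ : (QuadraticMap.polarBilin Q).Nondegenerate)
    {m : ℕ} (hcard : Fintype.card ι = 2 * m) (E : Submodule F (ι → F)) (hE : TS Q E)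
    (dE : finrank F E = m) (u : ι → F) (hu : Q u ≠ 0) :
    finrank F ↥(E ⊓ E.map (Matrix.mulVecLin (Cfsg.reflectionMatrix ⇑Q u))) + 1 = m := by
  have hdim := finrank_pi_eq_two_mul (F := F) hcard
  have huE : u ∉ E := fun h => hu (hE u h)
  have hEperp : LinearMap.BilinForm.orthogonal (QuadraticMap.polarBilin Q) E = E :=
    hE.orthogonal_eq hQ hdim dE
  obtain ⟨w0, hw0, hw0u⟩ : ∃ w0 ∈ E, QuadraticMap.polarBilin Q u w0 ≠ 0 := by
    by_contra hcon
    push Not at hcon
    apply huE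
    rw [← hEperp]
    intro w hw
    show QuadraticMap.polarBilin Q w u = 0
    have := hcon w hw
    rw [QuadraticMap.polarBilin_apply_apply] at this ⊢
    rw [QuadraticMap.polar_comm]; exact this
  have heq : E ⊓ E.map (Matrix.mulVecLin (Cfsg.reflectionMatrix ⇑Q u))
      = E ⊓ LinearMap.ker (QuadraticMap.polarBilin Q u) := by
    ext x
    simp only [Submodule.mem_inf, Submodule.mem_map, LinearMap.mem_ker,
      QuadraticMap.polarBilin_apply_apply, Matrix.mulVecLin_apply]
    constructor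
    · rintro ⟨hx, y, hy, hyx⟩
      refine ⟨hx, ?_⟩
      rw [reflectionMatrix_mulVec] at hyx
      have hc : ((Q u)⁻¹ * QuadraticMap.polar (⇑Q) u y) • u ∈ E := by
        have : ((Q u)⁻¹ * QuadraticMap.polar (⇑Q) u y) • u = y - x := by
          rw [← hyx]; abel
        rw [this]
        exact E.sub_mem hy hx
      have hc0 : (Q u)⁻¹ * QuadraticMap.polar (⇑Q) u y = 0 := by
        by_contra hne
        apply huE
        have := E.smul_mem ((Q u)⁻¹ * QuadraticMap.polar (⇑Q) u y)⁻¹ hc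
        rwa [smul_smul, inv_mul_cancel₀ hne, one_smul] at this
      rw [hc0, zero_smul, sub_zero] at hyx
      rw [← hyx]
      rcases mul_eq_zero.mp hc0 with h | h
      · exact absurd (inv_eq_zero.mp h) hu
      · exact h
    · rintro ⟨hx, hux⟩
      refine ⟨hx, x, hx, ?_⟩
      rw [reflectionMatrix_mulVec, hux, mul_zero, zero_smul, sub_zero]
  rw [heq, ← dE]
  exact finrank_inf_ker _ w0 hw0 hw0u

theorem famChar_refl (Q : QuadraticForm F (ι → F))
    (hQ : (QuadraticMap.polarBilin Q).Nondegenerate)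
    {m : ℕ} (hcard : Fintype.card ι = 2 * m) (E : Submodule F (ι → F)) (hE : TS Q E)
    (dE : finrank F E = m) (r : ↥(Cfsg.isometryGroup F ⇑Q)) (u : ι → F) (hu : Q u ≠ 0)
    (hr : ((r : GL ι F) : Matrix ι ι F) = Cfsg.reflectionMatrix ⇑Q u) :
    famChar Q m E r = -1 := by
  unfold famChar
  rw [hr]
  have := finrank_inf_refl Q hQ hcard E hE dE u hu
  apply Odd.neg_one_pow
  exact ⟨finrank F ↥(E ⊓ E.map (Matrix.mulVecLin (Cfsg.reflectionMatrix ⇑Q u))), by omega⟩

theorem famChar_det (h2 : (2 : F) ≠ 0) (Q : QuadraticForm F (ι → F))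
    (hQ : (QuadraticMap.polarBilin Q).Nondegenerate)
    {m : ℕ} (hcard : Fintype.card ι = 2 * m) (E : Submodule F (ι → F)) (hE : TS Q E)
    (dE : finrank F E = m) (g : ↥(Cfsg.isometryGroup F ⇑Q)) :
    (famChar Q m E g = 1 ∧ ((g : GL ι F) : Matrix ι ι F).det = 1) ∨
      (famChar Q m E g = -1 ∧ ((g : GL ι F) : Matrix ι ι F).det = -1) := by
  have hg : g ∈ Subgroup.closure (CDG.Rset Q) := by
    rw [CDG.cartan_dieudonne h2 Q hQ]; exact Subgroup.mem_top _
  induction hg using Subgroup.closure_induction with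
  | mem r hr =>
    obtain ⟨u, hu, hru⟩ := hr
    right
    refine ⟨famChar_refl Q hQ hcard E hE dE r u hu hru, ?_⟩
    rw [hru, refl_det Q u hu]
  | one =>
    left
    refine ⟨famChar_one Q E dE, ?_⟩
    show (1 : Matrix ι ι F).det = 1
    exact Matrix.det_one
  | mul a b _ _ iha ihb =>
    have hmul : famChar Q m E (a * b) = famChar Q m E a * famChar Q m E b :=
      famChar_mul Q hQ hcard E hE dE a b
    have hdet : (((a * b : ↥(Cfsg.isometryGroup F ⇑Q)) : GL ι F) : Matrix ι ι F).det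
        = ((a : GL ι F) : Matrix ι ι F).det * ((b : GL ι F) : Matrix ι ι F).det := by
      rw [iso_mul_coe, Matrix.det_mul]
    rw [hmul, hdet]
    rcases iha with ⟨h1, h3⟩ | ⟨h1, h3⟩ <;> rcases ihb with ⟨h4, h5⟩ | ⟨h4, h5⟩
    · left; rw [h1, h3, h4, h5]; simp
    · right; rw [h1, h3, h4, h5]; simp
    · right; rw [h1, h3, h4, h5]; simp
    · left; rw [h1, h3, h4, h5]; simp
  | inv a _ iha =>
    have hinv : famChar Q m E a⁻¹ = (famChar Q m E a)⁻¹ :=
      map_inv (famCharHom Q hQ hcard E hE dE) a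
    have hdet : (((a⁻¹ : ↥(Cfsg.isometryGroup F ⇑Q)) : GL ι F) : Matrix ι ι F).det
        = (((a : GL ι F) : Matrix ι ι F).det)⁻¹ := by
      show (((a : GL ι F)⁻¹ : GL ι F) : Matrix ι ι F).det = _
      rw [Matrix.coe_units_inv, Matrix.det_nonsing_inv, Ring.inverse_eq_inv']
    rw [hinv, hdet]
    rcases iha with ⟨h1, h3⟩ | ⟨h1, h3⟩
    · left; rw [h1, h3]; simp
    · right; rw [h1, h3]; simp [inv_neg]

end Cfsg.Agent.Lib.Helper16
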