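import Mathlib
import Cfsg.Agent.Lib.Helper16.Char2I
import Cfsg.Agent.Lib.Helper16.SumQF
import Cfsg.Agent.Lib.Helper16.FamRefl

set_option autoImplicit false
set_option linter.unusedSectionVars false
set_option linter.unusedSimpArgs false
set_option linter.unusedVariables false

namespace Cfsg.Agent.Lib.Helper16.C2

open Matrix Module Cfsg.Agent.Lib.helper6 Cfsg.Agent.Lib.Helper16
open scoped commutatorElement

variable {ι : Type} [Fintype ι] [DecidableEq ι] {F : Type*} [Field F]

theorem mem_omega_or [Fintype F] [CharP F 2] (Q : QuadraticForm F (ι → F))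
    (hQ : (QuadraticMap.polarBilin Q).Nondegenerate)
    (h : Fintype.card F ≠ 2 ∨ Fintype.card ι ≠ 4) (v0 : ι → F) (hv0 : Q v0 ≠ 0)
    (g : ↥(Cfsg.isometryGroup F ⇑Q)) :
    g ∈ Cfsg.Omega F ⇑Q ∨ g * CDG.refl Q v0 hv0 ∈ Cfsg.Omega F ⇑Q := by
  have hN : (Cfsg.Omega F ⇑Q).Normal := by
    show (commutator ↥(Cfsg.isometryGroup F ⇑Q)).Normal
    infer_instance
  set r0 := CDG.refl Q v0 hv0 with hr0
  have hr0sq : r0 * r0 = 1 := CDG.Rset_sq Q _ (CDG.refl_mem Q v0 hv0)
  have hr0inv : r0⁻¹ = r0 := CDG.Rset_inv Q _ (CDG.refl_mem Q v0 hv0)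
  have hg : g ∈ Subgroup.closure (CDG.Rset Q) := by
    rw [generation Q hQ h]; exact Subgroup.mem_top _
  induction hg using Subgroup.closure_induction with
  | mem r hr =>
    right
    obtain ⟨u, hu, hru⟩ := hr
    have e1 : r = CDG.refl Q u hu := CDG.iso_ext Q _ _ hru
    rw [e1]
    exact refl_pair_mem_omega Q hQ h u v0 hu hv0
  | one => left; exact Subgroup.one_mem _
  | mul a b _ _ iha ihb =>
    rcases iha with ha | ha <;> rcases ihb with hb | hb
    · left; exact Subgroup.mul_mem _ ha hb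
    · right
      rw [mul_assoc]
      exact Subgroup.mul_mem _ ha hb
    · right
      have : a * b * r0 = (a * r0) * (r0 * b * r0⁻¹) := by
        rw [hr0inv]
        calc a * b * r0 = a * (r0 * r0) * b * r0 := by rw [hr0sq, mul_one]
          _ = (a * r0) * (r0 * b * r0) := by group
      rw [this]
      exact Subgroup.mul_mem _ ha (hN.conj_mem b hb r0)
    · left
      have : a * b = (a * r0) * (r0 * (b * r0) * r0⁻¹) := by
        rw [hr0inv]
        calc a * b = a * (r0 * r0) * b * (r0 * r0) := by rw [hr0sq, mul_one, mul_one]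
          _ = (a * r0) * (r0 * (b * r0) * r0) := by group
      rw [this]
      exact Subgroup.mul_mem _ ha (hN.conj_mem _ hb r0)
  | inv a _ iha =>
    rcases iha with ha | ha
    · left; exact Subgroup.inv_mem _ ha
    · right
      have : a⁻¹ * r0 = r0 * (a * r0)⁻¹ * r0⁻¹ := by
        rw [hr0inv, _root_.mul_inv_rev, hr0inv]
        calc a⁻¹ * r0 = (r0 * r0) * a⁻¹ * r0 := by rw [hr0sq, one_mul]
          _ = r0 * (r0 * a⁻¹) * r0 := by group
      rw [this]
      exact hN.conj_mem _ (Subgroup.inv_mem _ ha) r0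

theorem ker_eq_omega [Fintype F] [CharP F 2] (Q : QuadraticForm F (ι → F))
    (hQ : (QuadraticMap.polarBilin Q).Nondegenerate)
    (h : Fintype.card F ≠ 2 ∨ Fintype.card ι ≠ 4)
    (χ : ↥(Cfsg.isometryGroup F ⇑Q) →* ℤˣ)
    (hχ : ∀ (u : ι → F) (hu : Q u ≠ 0), χ (CDG.refl Q u hu) = -1)
    (g : ↥(Cfsg.isometryGroup F ⇑Q)) : χ g = 1 ↔ g ∈ Cfsg.Omega F ⇑Q := by
  constructor
  · intro hg
    by_cases hι : Nonempty ι
    · obtain ⟨v0, hv0⟩ := exists_nonsing Q hQ
      rcases mem_omega_or Q hQ h v0 hv0 g with h1 | h1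
      · exact h1
      · exfalso
        have h2 : χ (g * CDG.refl Q v0 hv0) = 1 :=
          MonoidHom.mem_ker.mp (Abelianization.commutator_subset_ker χ h1)
        rw [map_mul, hg, hχ, one_mul] at h2
        exact absurd h2 (by decide)
    · have : g = 1 := by
        apply CDG.iso_ext
        ext i j
        exact absurd ⟨i⟩ hι
      rw [this]
      exact Subgroup.one_mem _
  · intro hg
    exact MonoidHom.mem_ker.mp (Abelianization.commutator_subset_ker χ hg)

end Cfsg.Agent.Lib.Helper16.C2
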