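import Mathlib
import Cfsg.Agent.Lib.Helper16.Char2J

set_option autoImplicit false
set_option linter.unusedSectionVars false
set_option linter.unusedSimpArgs false
set_option linter.unusedVariables false

namespace Cfsg.Agent.Lib.Helper16.C2

open Matrix Module Cfsg.Agent.Lib.helper6 Cfsg.Agent.Lib.Helper16

variable {ι : Type} [Fintype ι] [DecidableEq ι] {F : Type*} [Field F]

noncomputable def diagSub (ι : Type) (F : Type*) [Field F] : Submodule F (ι ⊕ ι → F) :=
  LinearMap.ker (LinearMap.funLeft F F (Sum.inl : ι → ι ⊕ ι) -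
    LinearMap.funLeft F F (Sum.inr : ι → ι ⊕ ι))

theorem mem_diagSub (v : ι ⊕ ι → F) : v ∈ diagSub ι F ↔ v ∘ Sum.inl = v ∘ Sum.inr := by
  unfold diagSub
  rw [LinearMap.mem_ker, LinearMap.sub_apply, sub_eq_zero]
  rfl

theorem diagSub_TS [CharP F 2] (Q : QuadraticForm F (ι → F)) : TS (sumQF Q Q) (diagSub ι F) := by
  intro u hu
  rw [mem_diagSub] at hu
  rw [sumQF_apply, hu, CharTwo.add_self_eq_zero]

theorem diagSub_finrank : finrank F (diagSub ι F) = Fintype.card ι := by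
  have h1 := LinearMap.finrank_range_add_finrank_ker
    (LinearMap.funLeft F F (Sum.inl : ι → ι ⊕ ι) - LinearMap.funLeft F F (Sum.inr : ι → ι ⊕ ι))
  have h2 : LinearMap.range (LinearMap.funLeft F F (Sum.inl : ι → ι ⊕ ι) -
      LinearMap.funLeft F F (Sum.inr : ι → ι ⊕ ι)) = ⊤ := by
    rw [LinearMap.range_eq_top]
    intro c
    refine ⟨Sum.elim c 0, ?_⟩
    rw [LinearMap.sub_apply]
    funext i
    simp [LinearMap.funLeft_apply]
  rw [h2, finrank_top, Module.finrank_pi, Module.finrank_pi] at h1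
  simp only [Fintype.card_sum] at h1
  unfold diagSub
  omega

theorem card_double (ι : Type) [Fintype ι] : Fintype.card (ι ⊕ ι) = 2 * Fintype.card ι := by
  rw [Fintype.card_sum]; ring

noncomputable def dickson [CharP F 2] (Q : QuadraticForm F (ι → F))
    (hQ : (QuadraticMap.polarBilin Q).Nondegenerate) : ↥(Cfsg.isometryGroup F ⇑Q) →* ℤˣ :=
  (famCharHom (sumQF Q Q) (sumQF_nondeg Q Q hQ hQ) (card_double ι) (diagSub ι F) (diagSub_TS Q)
    diagSub_finrank).comp (embL Q Q)

theorem dickson_refl [CharP F 2] (Q : QuadraticForm F (ι → F))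
    (hQ : (QuadraticMap.polarBilin Q).Nondegenerate) (u : ι → F) (hu : Q u ≠ 0) :
    dickson Q hQ (CDG.refl Q u hu) = -1 := by
  show famChar (sumQF Q Q) (Fintype.card ι) (diagSub ι F) (embL Q Q (CDG.refl Q u hu)) = -1
  apply famChar_refl (sumQF Q Q) (sumQF_nondeg Q Q hQ hQ) (card_double ι) (diagSub ι F)
    (diagSub_TS Q) diagSub_finrank _ (Sum.elim u 0) (by rw [sumQF_inl]; exact hu)
  rw [embL_coe, CDG.refl_coe, embL_refl_coe]

theorem dickson_eq_one_iff [Fintype F] [CharP F 2] (Q : QuadraticForm F (ι → F))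
    (hQ : (QuadraticMap.polarBilin Q).Nondegenerate)
    (h : Fintype.card F ≠ 2 ∨ Fintype.card ι ≠ 4) (g : ↥(Cfsg.isometryGroup F ⇑Q)) :
    dickson Q hQ g = 1 ↔ g ∈ Cfsg.Omega F ⇑Q :=
  ker_eq_omega Q hQ h (dickson Q hQ) (dickson_refl Q hQ) g

end Cfsg.Agent.Lib.Helper16.C2
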