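import Mathlib
import Cfsg.Agent.Lib.helper14.SimDiag

set_option autoImplicit false
set_option linter.unusedSectionVars false
set_option linter.unusedSimpArgs false
set_option linter.unusedVariables false

namespace Cfsg.Agent.Lib.Helper16.PGLI

open Matrix Module

variable {F : Type*} [Field F] {n : ℕ}

/-- standard diagonal involution with `s` leading `-1` entries. -/
def stdDiag (F : Type*) [Field F] (n s : ℕ) : Matrix (Fin n) (Fin n) F :=
  Matrix.diagonal (fun i => if i.val < s then (-1 : F) else 1)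

theorem stdDiag_sq (s : ℕ) : stdDiag F n s * stdDiag F n s = 1 := by
  unfold stdDiag
  rw [Matrix.diagonal_mul_diagonal, ← Matrix.diagonal_one]
  congr 1
  funext i
  by_cases h : i.val < s <;> simp [h]

theorem rank_stdDiag_sub (h2 : (2 : F) ≠ 0) (s : ℕ) (hs : s ≤ n) :
    (stdDiag F n s - 1).rank = s := by
  classical
  unfold stdDiag
  have h1 : (Matrix.diagonal (fun i : Fin n => if i.val < s then (-1 : F) else 1) - 1)
      = Matrix.diagonal (fun i : Fin n => if i.val < s then (-2 : F) else 0) := by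
    rw [← Matrix.diagonal_one, Matrix.diagonal_sub]
    congr 1
    funext i
    by_cases h : i.val < s
    · simp only [h, if_true]; ring
    · simp [h]
  rw [h1, Matrix.rank_diagonal]
  refine Eq.trans ?_ (Fintype.card_fin_lt_of_le hs)
  apply Fintype.card_congr
  refine Equiv.subtypeEquivRight ?_
  intro i
  by_cases h : i.val < s
  · simp only [h, if_true]
    constructor
    · intro _; trivial
    · intro _ h3
      apply h2
      rw [neg_eq_zero] at h3
      exact h3
  · simp [h]

theorem rank_stdDiag_add (h2 : (2 : F) ≠ 0) (s : ℕ) (hs : s ≤ n) :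
    (stdDiag F n s + 1).rank = n - s := by
  classical
  unfold stdDiag
  have h1 : (Matrix.diagonal (fun i : Fin n => if i.val < s then (-1 : F) else 1) + 1)
      = Matrix.diagonal (fun i : Fin n => if i.val < s then (0 : F) else 2) := by
    rw [← Matrix.diagonal_one, Matrix.diagonal_add]
    congr 1
    funext i
    by_cases h : i.val < s
    · simp only [h, if_true]; ring
    · simp only [h, if_false]; ring
  rw [h1, Matrix.rank_diagonal]
  have h3 : Fintype.card {i : Fin n // ¬ (i.val < s)} = n - s := by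
    rw [Fintype.card_subtype_compl, Fintype.card_fin_lt_of_le hs, Fintype.card_fin]
  rw [← h3]
  apply Fintype.card_congr
  refine Equiv.subtypeEquivRight ?_
  intro i
  by_cases h : i.val < s
  · simp [h]
  · simp only [h, if_false]
    constructor
    · intro _; exact fun h' => h' 
    · intro _; exact h2

/-- every involutory matrix is similar to a standard diagonal one. -/
theorem exists_stdDiag [Fintype F] (h2 : (2 : F) ≠ 0) (a : Matrix (Fin n) (Fin n) F) (ha : a * a = 1) :
    ∃ (s : ℕ) (Q : Matrix (Fin n) (Fin n) F), s ≤ n ∧ IsUnit Q.det ∧ a * Q = Q * stdDiag F n s := by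
  classical
  obtain ⟨P, χ, hP, hχ, hdiag⟩ := Cfsg.Agent.Lib.helper14.exists_simultaneous_diag h2 ({a} : Set _)
    (by
      intro x hx y hy
      rw [Set.mem_singleton_iff] at hx hy
      rw [hx, hy])
    (by
      intro x hx
      rw [Set.mem_singleton_iff] at hx
      rw [hx]; exact ha)
  obtain ⟨a', ha'⟩ : ∃ a' : ({a} : Set (Matrix (Fin n) (Fin n) F)), a'.1 = a := ⟨⟨a, rfl⟩, rfl⟩
  obtain ⟨χ', hχ'⟩ : ∃ χ' : Fin n → F, χ' = fun i => χ i a' := ⟨_, rfl⟩
  have hχ1 : ∀ i, χ' i = 1 ∨ χ' i = -1 := by
    intro i; rw [hχ']; exact hχ a' i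
  have hd : a * P = P * Matrix.diagonal χ' := by
    rw [hχ', ← ha']; exact hdiag a'
  obtain ⟨s, hs⟩ : ∃ s, s = Fintype.card {i : Fin n // χ' i = -1} := ⟨_, rfl⟩
  have hsn : s ≤ n := by
    rw [hs]
    calc Fintype.card {i : Fin n // χ' i = -1} ≤ Fintype.card (Fin n) := Fintype.card_subtype_le _
      _ = n := Fintype.card_fin n
  have hcard : Fintype.card {i : Fin n // i.val < s} = Fintype.card {i : Fin n // χ' i = -1} := by
    rw [Fintype.card_fin_lt_of_le hsn, hs]
  obtain ⟨e⟩ := Fintype.card_eq.mp hcard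
  obtain ⟨σ, hσ⟩ : ∃ σ : Equiv.Perm (Fin n), σ = e.extendSubtype := ⟨_, rfl⟩
  have hσ1 : ∀ i : Fin n, i.val < s → χ' (σ i) = -1 := by
    intro i hi
    rw [hσ]
    exact e.extendSubtype_mem i hi
  have hσ2 : ∀ i : Fin n, ¬ i.val < s → χ' (σ i) = 1 := by
    intro i hi
    have h3 : ¬ (χ' (σ i) = -1) := by
      rw [hσ]
      exact e.extendSubtype_not_mem i hi
    exact (hχ1 (σ i)).resolve_right h3
  refine ⟨s, P.submatrix id σ, hsn, ?_, ?_⟩
  · rw [Matrix.det_permute']
    apply IsUnit.mul _ hP
    rcases Int.units_eq_one_or (Equiv.Perm.sign σ) with h | h <;> simp [h]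
  · ext i j
    have h3 := congrFun (congrFun hd i) (σ j)
    rw [Matrix.mul_apply] at h3
    rw [Matrix.mul_apply]
    simp only [Matrix.submatrix_apply, id]
    rw [h3, Matrix.mul_diagonal, stdDiag, Matrix.mul_diagonal]
    simp only [Matrix.submatrix_apply, id]
    by_cases h : j.val < s
    · rw [hσ1 j h, if_pos h]
    · rw [hσ2 j h, if_neg h]

end Cfsg.Agent.Lib.Helper16.PGLI
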