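import Mathlib

set_option autoImplicit false
set_option linter.unusedSectionVars false
set_option linter.unusedSimpArgs false
set_option linter.unusedVariables false

namespace Cfsg.Agent.Lib.Helper16.PGLI

open Matrix Module Polynomial

section
variable {F : Type*} {L : Type*} {V : Type*} [Field F] [Field L] [Algebra F L] [AddCommGroup V]
  [Module F V]

/-- `V` seen as an `L`-module through an algebra map into its endomorphism ring. -/
def TwistMod (φ : L →ₐ[F] Module.End F V) : Type _ := V

instance twistAddCommGroup (φ : L →ₐ[F] Module.End F V) : AddCommGroup (TwistMod φ) :=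
  inferInstanceAs (AddCommGroup V)

instance twistModuleF (φ : L →ₐ[F] Module.End F V) : Module F (TwistMod φ) :=
  inferInstanceAs (Module F V)

instance twistModuleL (φ : L →ₐ[F] Module.End F V) : Module L (TwistMod φ) :=
  Module.compHom V (φ : L →+* Module.End F V)

theorem twist_smul (φ : L →ₐ[F] Module.End F V) (l : L) (v : TwistMod φ) :
    l • v = (φ l : V →ₗ[F] V) v := rfl

instance twistTower (φ : L →ₐ[F] Module.End F V) : IsScalarTower F L (TwistMod φ) :=
  ⟨fun c l v => by
    rw [twist_smul, twist_smul, map_smul]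
    rfl⟩

instance twistFinite [FiniteDimensional F V] (φ : L →ₐ[F] Module.End F V) :
    FiniteDimensional F (TwistMod φ) :=
  inferInstanceAs (FiniteDimensional F V)

theorem exists_twist_equiv [FiniteDimensional F L] [FiniteDimensional F V]
    (φ ψ : L →ₐ[F] Module.End F V) :
    ∃ e : V ≃ₗ[F] V, ∀ (l : L) (v : V), e (φ l v) = ψ l (e v) := by
  have h1 := Module.finrank_mul_finrank F L (TwistMod φ)
  have h2 := Module.finrank_mul_finrank F L (TwistMod ψ)
  have h3 : finrank F (TwistMod φ) = finrank F (TwistMod ψ) := rfl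
  have h4 : 0 < finrank F L := Module.finrank_pos
  have h5 : finrank L (TwistMod φ) = finrank L (TwistMod ψ) := by
    rw [← h1, ← h2] at h3
    exact Nat.eq_of_mul_eq_mul_left h4 h3
  have : FiniteDimensional L (TwistMod φ) := FiniteDimensional.right F L _
  have : FiniteDimensional L (TwistMod ψ) := FiniteDimensional.right F L _
  obtain ⟨e⟩ : Nonempty (TwistMod φ ≃ₗ[L] TwistMod ψ) := ⟨LinearEquiv.ofFinrankEq _ _ h5⟩
  refine ⟨e.restrictScalars F, ?_⟩
  intro l v
  exact e.map_smul l v

end

section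
variable {F : Type*} [Field F] {n : ℕ}

theorem exists_alghom (lam : F) (g : Module.End F (Fin n → F)) (hg : g * g = lam • 1) :
    ∃ φ : AdjoinRoot (X ^ 2 - C lam : F[X]) →ₐ[F] Module.End F (Fin n → F),
      φ (AdjoinRoot.root _) = g := by
  have h : ∀ a : F[X], a ∈ Ideal.span {(X ^ 2 - C lam : F[X])} → aeval g a = 0 := by
    intro a ha
    obtain ⟨b, rfl⟩ := Ideal.mem_span_singleton.mp ha
    rw [map_mul, map_sub, map_pow, aeval_X, aeval_C, sq, hg, Algebra.algebraMap_eq_smul_one,
      sub_self, zero_mul]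
  refine ⟨Ideal.Quotient.liftₐ (Ideal.span {(X ^ 2 - C lam : F[X])}) (aeval g) h, ?_⟩
  show aeval g X = g
  exact aeval_X _

theorem conj_of_sq_nonsquare (lam : F) (hlam : ¬ IsSquare lam) (A B : Matrix (Fin n) (Fin n) F)
    (hA : A * A = lam • 1) (hB : B * B = lam • 1) :
    ∃ Q : Matrix (Fin n) (Fin n) F, IsUnit Q.det ∧ A * Q = Q * B := by
  have hirr : Irreducible (X ^ 2 - C lam : F[X]) := by
    rw [X_pow_sub_C_irreducible_iff_of_prime Nat.prime_two]
    intro b hb
    exact hlam ⟨b, by rw [← hb, sq]⟩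
  have : Fact (Irreducible (X ^ 2 - C lam : F[X])) := ⟨hirr⟩
  have hmonic : (X ^ 2 - C lam : F[X]).Monic := monic_X_pow_sub_C lam (by norm_num)
  have : FiniteDimensional F (AdjoinRoot (X ^ 2 - C lam : F[X])) :=
    (AdjoinRoot.powerBasis' hmonic).finite
  have hMM : ∀ M : Matrix (Fin n) (Fin n) F, M * M = lam • 1 →
      Matrix.toLin' M * Matrix.toLin' M = lam • 1 := by
    intro M hM
    rw [Module.End.mul_eq_comp, ← Matrix.toLin'_mul, hM, map_smul, Matrix.toLin'_one]
    rfl
  obtain ⟨φA, hφA⟩ := exists_alghom lam (Matrix.toLin' A) (hMM A hA)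
  obtain ⟨φB, hφB⟩ := exists_alghom lam (Matrix.toLin' B) (hMM B hB)
  obtain ⟨e, he⟩ := exists_twist_equiv φB φA
  have he' : ∀ v, e (Matrix.toLin' B v) = Matrix.toLin' A (e v) := by
    intro v
    have := he (AdjoinRoot.root _) v
    rw [hφA, hφB] at this
    exact this
  refine ⟨LinearMap.toMatrix' e.toLinearMap, ?_, ?_⟩
  · have h1 : LinearMap.toMatrix' e.toLinearMap * LinearMap.toMatrix' e.symm.toLinearMap = 1 := by
      rw [← LinearMap.toMatrix'_comp, LinearEquiv.comp_coe, LinearEquiv.symm_trans_self,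
        LinearEquiv.refl_toLinearMap, LinearMap.toMatrix'_id]
    exact (Matrix.isUnit_iff_isUnit_det _).mp (IsUnit.of_mul_eq_one _ h1)
  · have h2 : A = LinearMap.toMatrix' (Matrix.toLin' A) := (LinearMap.toMatrix'_toLin' A).symm
    have h3 : B = LinearMap.toMatrix' (Matrix.toLin' B) := (LinearMap.toMatrix'_toLin' B).symm
    rw [h2, h3, ← LinearMap.toMatrix'_comp, ← LinearMap.toMatrix'_comp]
    congr 1
    apply LinearMap.ext
    intro v
    simp only [LinearMap.comp_apply, LinearEquiv.coe_coe]
    exact (he' v).symm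

end

end Cfsg.Agent.Lib.Helper16.PGLI
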