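import Mathlib
import Cfsg.Agent.Lib.Helper16.PGLInv1
import Cfsg.Agent.Lib.Helper16.PGLInv2

set_option autoImplicit false
set_option linter.unusedSectionVars false
set_option linter.unusedSimpArgs false
set_option linter.unusedVariables false

namespace Cfsg.Agent.Lib.Helper16.PGLI

open Matrix Module

variable {F : Type*} [Field F] {n : ℕ}

theorem rank_eq_of_intertwine (A B Q : Matrix (Fin n) (Fin n) F) (hQ : IsUnit Q.det)
    (h : A * Q = Q * B) : A.rank = B.rank := by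
  rw [← Matrix.rank_mul_eq_left_of_isUnit_det Q A hQ, h,
    Matrix.rank_mul_eq_right_of_isUnit_det Q B hQ]

theorem rank_neg' (A : Matrix (Fin n) (Fin n) F) : (-A).rank = A.rank := by
  have h : -A = (-1 : F) • A := by rw [neg_smul, one_smul]
  rw [h]
  exact Matrix.rank_smul_of_mem_nonZeroDivisors A
    (mem_nonZeroDivisors_of_ne_zero (neg_ne_zero.mpr one_ne_zero))

theorem smul_one_inj (hn : 0 < n) (a b : F) (h : a • (1 : Matrix (Fin n) (Fin n) F) = b • 1) :
    a = b := by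
  have := congrFun (congrFun h ⟨0, hn⟩) ⟨0, hn⟩
  simpa using this

theorem smul_unit_inj (hn : 0 < n) (Q : Matrix (Fin n) (Fin n) F) (hQ : IsUnit Q.det) (a b : F)
    (h : a • Q = b • Q) : a = b := by
  apply smul_one_inj hn
  have hQ' := (Matrix.isUnit_iff_isUnit_det Q).mpr hQ
  obtain ⟨u, rfl⟩ := hQ'
  have := congrArg (fun M => M * u.inv) h
  simp only [Matrix.smul_mul] at this
  rw [Units.inv_eq_val_inv, Units.mul_inv] at this
  exact this

/-- squaring an intertwining relation. -/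
theorem sq_rel (hn : 0 < n) (A B Q : Matrix (Fin n) (Fin n) F) (ζ α β : F) (hQ : IsUnit Q.det)
    (h : A * Q = ζ • (Q * B)) (hA : A * A = α • 1) (hB : B * B = β • 1) : α = ζ * ζ * β := by
  apply smul_unit_inj hn Q hQ
  have h1 : A * A * Q = (ζ * ζ) • (Q * (B * B)) := by
    rw [mul_assoc, h, Matrix.mul_smul, ← mul_assoc, h, Matrix.smul_mul, smul_smul, mul_assoc]
  rw [hA, hB, Matrix.smul_mul, one_mul, Matrix.mul_smul, mul_one, smul_smul] at h1
  exact h1

theorem stdDiag_zero : stdDiag F n 0 = 1 := by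
  unfold stdDiag
  rw [← Matrix.diagonal_one]
  congr 1

theorem stdDiag_full : stdDiag F n n = -1 := by
  unfold stdDiag
  rw [← Matrix.diagonal_one, Matrix.diagonal_neg]
  congr 1
  funext i
  simp [i.2]

theorem stdDiag_not_scalar (h2 : (2 : F) ≠ 0) (s : ℕ) (hs1 : 1 ≤ s) (hsn : s < n) (c : F) :
    stdDiag F n s ≠ c • 1 := by
  intro h
  have h1 := congrFun (congrFun h ⟨0, by omega⟩) ⟨0, by omega⟩
  have h3 := congrFun (congrFun h ⟨s, hsn⟩) ⟨s, hsn⟩
  unfold stdDiag at h1 h3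
  simp only [Matrix.diagonal_apply_eq, Matrix.smul_apply, Matrix.one_apply_eq, smul_eq_mul,
    mul_one] at h1 h3
  rw [if_pos (by show 0 < s; omega)] at h1
  rw [if_neg (by show ¬ s < s; omega)] at h3
  apply h2
  have : (2 : F) = 1 - (-1) := by ring
  rw [this, h1, h3, sub_self]

/-- the square case. -/
theorem square_case [Fintype F] (h2 : (2 : F) ≠ 0) (A : Matrix (Fin n) (Fin n) F) (μ : F) (hμ : μ ≠ 0)
    (hA : A * A = (μ * μ) • 1) (hns : ∀ c : F, A ≠ c • 1) :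
    ∃ (s : ℕ) (Q : Matrix (Fin n) (Fin n) F) (ζ : F), 1 ≤ s ∧ s ≤ n / 2 ∧ IsUnit Q.det ∧ ζ ≠ 0 ∧
      A * Q = ζ • (Q * stdDiag F n s) := by
  obtain ⟨a, ha⟩ : ∃ a, a = μ⁻¹ • A := ⟨_, rfl⟩
  have haA : A = μ • a := by rw [ha, smul_smul, mul_inv_cancel₀ hμ, one_smul]
  have haa : a * a = 1 := by
    rw [ha, Matrix.smul_mul, Matrix.mul_smul, hA, smul_smul, smul_smul]
    have : μ⁻¹ * μ⁻¹ * (μ * μ) = 1 := by field_simp
    rw [this, one_smul]
  have hnaa : (-a) * (-a) = 1 := by rw [neg_mul_neg, haa]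
  obtain ⟨s, Q, hsn, hQ, hQa⟩ := exists_stdDiag h2 a haa
  obtain ⟨s', Q', hsn', hQ', hQa'⟩ := exists_stdDiag h2 (-a) hnaa
  have hr1 : (a - 1).rank = s := by
    rw [rank_eq_of_intertwine (a - 1) (stdDiag F n s - 1) Q hQ (by
      rw [sub_mul, mul_sub, hQa, one_mul, mul_one]), rank_stdDiag_sub h2 s hsn]
  have hr2 : (a + 1).rank = n - s := by
    rw [rank_eq_of_intertwine (a + 1) (stdDiag F n s + 1) Q hQ (by
      rw [add_mul, mul_add, hQa, one_mul, mul_one]), rank_stdDiag_add h2 s hsn]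
  have hr3 : (-a - 1).rank = s' := by
    rw [rank_eq_of_intertwine (-a - 1) (stdDiag F n s' - 1) Q' hQ' (by
      rw [sub_mul, mul_sub, hQa', one_mul, mul_one]), rank_stdDiag_sub h2 s' hsn']
  have hr4 : s' = n - s := by
    rw [← hr3, ← hr2]
    have : -a - 1 = -(a + 1) := by abel
    rw [this, rank_neg']
  have hs0 : s ≠ 0 := by
    rintro rfl
    rw [stdDiag_zero, mul_one] at hQa
    have hQ'' := (Matrix.isUnit_iff_isUnit_det Q).mpr hQ
    obtain ⟨u, rfl⟩ := hQ''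
    have h3 := congrArg (fun M => M * u.inv) hQa
    simp only [mul_assoc] at h3
    rw [Units.inv_eq_val_inv, Units.mul_inv, mul_one] at h3
    apply hns μ
    rw [haA, h3]
  have hsn0 : s ≠ n := by
    rintro rfl
    rw [stdDiag_full, mul_neg, mul_one] at hQa
    have hQ'' := (Matrix.isUnit_iff_isUnit_det Q).mpr hQ
    obtain ⟨u, rfl⟩ := hQ''
    have h3 := congrArg (fun M => M * u.inv) hQa
    simp only [mul_assoc, neg_mul] at h3
    rw [Units.inv_eq_val_inv, Units.mul_inv, mul_one] at h3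
    apply hns (-μ)
    rw [haA, h3, smul_neg, neg_smul]
  by_cases hle : s ≤ n / 2
  · refine ⟨s, Q, μ, by omega, hle, hQ, hμ, ?_⟩
    rw [haA, Matrix.smul_mul, hQa]
  · refine ⟨s', Q', -μ, by omega, by omega, hQ', neg_ne_zero.mpr hμ, ?_⟩
    rw [← hQa', haA, Matrix.smul_mul, neg_smul, Matrix.neg_mul, smul_neg, neg_neg]

theorem stdDiag_unique (hn : 0 < n) (h2 : (2 : F) ≠ 0) (s s' : ℕ) (hs : s ≤ n / 2) (hs' : s' ≤ n / 2)
    (Q : Matrix (Fin n) (Fin n) F) (ζ : F) (hQ : IsUnit Q.det)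
    (h : stdDiag F n s * Q = ζ • (Q * stdDiag F n s')) : s = s' := by
  have h1 := sq_rel hn _ _ Q ζ 1 1 hQ h (by rw [one_smul]; exact stdDiag_sq s)
    (by rw [one_smul]; exact stdDiag_sq s')
  rw [mul_one] at h1
  have h3 : (ζ - 1) * (ζ + 1) = 0 := by linear_combination -h1
  have hsn : s ≤ n := by omega
  have hsn' : s' ≤ n := by omega
  rcases mul_eq_zero.mp h3 with h4 | h4
  · have h5 : ζ = 1 := sub_eq_zero.mp h4
    rw [h5, one_smul] at h
    have := rank_eq_of_intertwine (stdDiag F n s - 1) (stdDiag F n s' - 1) Q hQ (by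
      rw [sub_mul, mul_sub, h, one_mul, mul_one])
    rw [rank_stdDiag_sub h2 s hsn, rank_stdDiag_sub h2 s' hsn'] at this
    exact this
  · have h5 : ζ = -1 := eq_neg_of_add_eq_zero_left h4
    rw [h5, neg_smul, one_smul] at h
    have := rank_eq_of_intertwine (stdDiag F n s - 1) (-(stdDiag F n s' + 1)) Q hQ (by
      rw [sub_mul, mul_neg, mul_add, h, one_mul, mul_one]; abel)
    rw [rank_neg', rank_stdDiag_sub h2 s hsn, rank_stdDiag_add h2 s' hsn'] at this
    omega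

theorem nonsquare_ratio [Fintype F] (h2 : (2 : F) ≠ 0) (a b : F) (ha : ¬ IsSquare a)
    (hb : ¬ IsSquare b) : ∃ c : F, c ≠ 0 ∧ a = b * (c * c) := by
  classical
  have ha0 : a ≠ 0 := by
    rintro rfl
    exact ha ⟨0, by rw [mul_zero]⟩
  have hb0 : b ≠ 0 := by
    rintro rfl
    exact hb ⟨0, by rw [mul_zero]⟩
  have h1 : quadraticChar F (a * b) = 1 := by
    rw [map_mul, quadraticChar_neg_one_iff_not_isSquare.mpr ha,
      quadraticChar_neg_one_iff_not_isSquare.mpr hb]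
    norm_num
  obtain ⟨d, hd⟩ := (quadraticChar_one_iff_isSquare (mul_ne_zero ha0 hb0)).mp h1
  have hd0 : d ≠ 0 := by
    rintro rfl
    rw [mul_zero] at hd
    exact mul_ne_zero ha0 hb0 hd
  refine ⟨d / b, div_ne_zero hd0 hb0, ?_⟩
  have h3 : b * (d / b * (d / b)) = d * d / b := by field_simp
  rw [h3, ← hd, mul_div_assoc, div_self hb0, mul_one]

theorem nonsquare_case [Fintype F] (h2 : (2 : F) ≠ 0) (A E : Matrix (Fin n) (Fin n) F) (lam lam₀ : F)
    (hlam : ¬ IsSquare lam) (hlam₀ : ¬ IsSquare lam₀) (hA : A * A = lam • 1)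
    (hE : E * E = lam₀ • 1) :
    ∃ (Q : Matrix (Fin n) (Fin n) F) (ζ : F), IsUnit Q.det ∧ ζ ≠ 0 ∧ A * Q = ζ • (Q * E) := by
  obtain ⟨c, hc0, hc⟩ := nonsquare_ratio h2 lam lam₀ hlam hlam₀
  obtain ⟨a, ha⟩ : ∃ a, a = c⁻¹ • A := ⟨_, rfl⟩
  have haA : A = c • a := by rw [ha, smul_smul, mul_inv_cancel₀ hc0, one_smul]
  have haa : a * a = lam₀ • 1 := by
    rw [ha, Matrix.smul_mul, Matrix.mul_smul, hA, smul_smul, smul_smul, hc]
    congr 1
    field_simp
  obtain ⟨Q, hQ, hQa⟩ := conj_of_sq_nonsquare lam₀ hlam₀ a E haa hE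
  refine ⟨Q, c, hQ, hc0, ?_⟩
  rw [haA, Matrix.smul_mul, hQa]

theorem even_of_nonsquare (A : Matrix (Fin n) (Fin n) F) (lam : F) (hlam : ¬ IsSquare lam)
    (hA : A * A = lam • 1) : Even n := by
  by_contra hodd
  rw [Nat.not_even_iff_odd] at hodd
  obtain ⟨k, hk⟩ := hodd
  have hlam0 : lam ≠ 0 := by
    rintro rfl
    exact hlam ⟨0, by rw [mul_zero]⟩
  have h1 := congrArg Matrix.det hA
  rw [Matrix.det_mul, Matrix.det_smul, Matrix.det_one, mul_one, Fintype.card_fin] at h1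
  have h4 : lam ^ n = lam * (lam ^ k * lam ^ k) := by rw [hk]; ring
  rw [h4] at h1
  apply hlam
  refine ⟨A.det / lam ^ k, ?_⟩
  have h3 : lam ^ k ≠ 0 := pow_ne_zero _ hlam0
  have h5 : A.det / lam ^ k * (A.det / lam ^ k) = A.det * A.det / (lam ^ k * lam ^ k) := by
    field_simp
  rw [h5, h1, mul_div_assoc, div_self (mul_ne_zero h3 h3), mul_one]

theorem exists_sq_eq (lam₀ : F) (hn : Even n) :
    ∃ E : Matrix (Fin n) (Fin n) F, E * E = lam₀ • 1 := by
  obtain ⟨m, hm⟩ := hn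
  have hcard : Fintype.card (Fin m ⊕ Fin m) = Fintype.card (Fin n) := by
    rw [Fintype.card_sum, Fintype.card_fin, Fintype.card_fin, hm]
  obtain ⟨e⟩ := Fintype.card_eq.mp hcard
  refine ⟨Matrix.reindex e e (Matrix.fromBlocks 0 (lam₀ • 1) 1 0), ?_⟩
  rw [Matrix.reindex_apply, Matrix.submatrix_mul_equiv, Matrix.fromBlocks_multiply]
  simp only [zero_mul, mul_zero, zero_add, add_zero, mul_one, one_mul]
  have h1 : (Matrix.fromBlocks (lam₀ • (1 : Matrix (Fin m) (Fin m) F)) 0 0 (lam₀ • 1))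
      = lam₀ • (1 : Matrix (Fin m ⊕ Fin m) (Fin m ⊕ Fin m) F) := by
    rw [← Matrix.fromBlocks_one, Matrix.fromBlocks_smul, smul_zero]
  rw [h1]
  ext i j
  simp only [Matrix.submatrix_apply, Matrix.smul_apply, Matrix.one_apply, EmbeddingLike.apply_eq_iff_eq]

end Cfsg.Agent.Lib.Helper16.PGLI
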