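import Mathlib
import Cfsg.Agent.Lib.Helper16.PGLInv3
import Cfsg.Agent.Lib.Helper16.OStd

set_option autoImplicit false
set_option linter.unusedSectionVars false
set_option linter.unusedSimpArgs false
set_option linter.unusedVariables false
set_option linter.unusedTactic false

namespace Cfsg.Agent.Lib.Helper16.OSemi

open Matrix Module Cfsg.Agent.Lib.Helper16

universe u

variable {F : Type u} [Field F]

/-- the Artin–Schreier map in characteristic two. -/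
def asHom (h2 : (2 : F) = 0) : F →+ F where
  toFun z := z ^ 2 + z
  map_zero' := by simp
  map_add' := by
    intro x y
    have : (x + y) ^ 2 = x ^ 2 + y ^ 2 + 2 * (x * y) := by ring
    rw [this, h2]
    ring

theorem asHom_apply (h2 : (2 : F) = 0) (z : F) : asHom h2 z = z ^ 2 + z := rfl

theorem asHom_index [Finite F] (h2 : (2 : F) = 0) : (asHom h2).range.index = 2 := by
  rw [AddSubgroup.index_range]
  rw [Nat.card_eq_two_iff]
  have h0 : (0 : F) ∈ (asHom h2).ker := by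
    rw [AddMonoidHom.mem_ker, map_zero]
  have h1 : (1 : F) ∈ (asHom h2).ker := by
    rw [AddMonoidHom.mem_ker, asHom_apply, one_pow, one_add_one_eq_two, h2]
  refine ⟨⟨0, h0⟩, ⟨1, h1⟩, ?_, ?_⟩
  · intro h
    have := congrArg Subtype.val h
    exact zero_ne_one this
  · ext ⟨z, hz⟩
    simp only [Set.mem_insert_iff, Set.mem_singleton_iff, Set.mem_univ, iff_true, Subtype.mk.injEq]
    rw [AddMonoidHom.mem_ker, asHom_apply] at hz
    have h3 : z * (z + 1) = 0 := by rw [← hz]; ring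
    rcases mul_eq_zero.mp h3 with h | h
    · exact Or.inl h
    · right
      have : z = -1 := eq_neg_of_add_eq_zero_left h
      rw [this]
      have h4 : (-1 : F) = 1 := by
        rw [neg_eq_iff_add_eq_zero, one_add_one_eq_two, h2]
      exact h4

theorem as_sum [Finite F] (h2 : (2 : F) = 0) (w₁ w₂ : F) (h₁ : ∀ z : F, z ^ 2 + z ≠ w₁)
    (h₂ : ∀ z : F, z ^ 2 + z ≠ w₂) : ∃ z : F, z ^ 2 + z = w₁ + w₂ := by
  have h := AddSubgroup.add_mem_iff_of_index_two (asHom_index h2) (a := w₁) (b := w₂)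
  have hn₁ : w₁ ∉ (asHom h2).range := by
    rintro ⟨z, hz⟩
    exact h₁ z hz
  have hn₂ : w₂ ∉ (asHom h2).range := by
    rintro ⟨z, hz⟩
    exact h₂ z hz
  obtain ⟨z, hz⟩ := h.mpr ⟨fun h' => absurd h' hn₁, fun h' => absurd h' hn₂⟩
  exact ⟨z, hz⟩

/-- parameters of an isometry between two anisotropic planes over a finite field. -/
theorem plane_param [Fintype F] (a₁ c₁ a₂ c₂ : F)
    (h₁ : ∀ z₁ z₂ : F, z₁ ^ 2 + a₁ * z₁ * z₂ + c₁ * z₂ ^ 2 = 0 → z₁ = 0 ∧ z₂ = 0)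
    (h₂ : ∀ z₁ z₂ : F, z₁ ^ 2 + a₂ * z₁ * z₂ + c₂ * z₂ ^ 2 = 0 → z₁ = 0 ∧ z₂ = 0) :
    ∃ u v : F, v ≠ 0 ∧ 2 * u + a₂ * v = a₁ ∧ u ^ 2 + a₂ * u * v + c₂ * v ^ 2 = c₁ := by
  by_cases h2 : (2 : F) = 0
  · -- characteristic two
    have hchar : ringChar F = 2 := CharP.ringChar_of_prime_eq_zero Nat.prime_two (by exact_mod_cast h2)
    have hane : ∀ a c : F, (∀ z₁ z₂ : F, z₁ ^ 2 + a * z₁ * z₂ + c * z₂ ^ 2 = 0 → z₁ = 0 ∧ z₂ = 0) →
        a ≠ 0 := by
      intro a c h ha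
      obtain ⟨s, hs⟩ := FiniteField.isSquare_of_char_two hchar c
      have := (h s 1 (by rw [ha, hs]; linear_combination (s * s) * h2)).2
      exact one_ne_zero this
    have hw : ∀ a c : F, (∀ z₁ z₂ : F, z₁ ^ 2 + a * z₁ * z₂ + c * z₂ ^ 2 = 0 → z₁ = 0 ∧ z₂ = 0) →
        ∀ z : F, z ^ 2 + z ≠ c / a ^ 2 := by
      intro a c h z hz
      have ha := hane a c h
      have hc : c = a ^ 2 * (z ^ 2 + z) := by rw [hz]; field_simp
      have := (h (a * z) 1 (by rw [hc]; linear_combination (a ^ 2 * z ^ 2 + a ^ 2 * z) * h2)).2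
      exact one_ne_zero this
    have ha₁ := hane a₁ c₁ h₁
    have ha₂ := hane a₂ c₂ h₂
    obtain ⟨z, hz⟩ := as_sum h2 _ _ (hw a₁ c₁ h₁) (hw a₂ c₂ h₂)
    refine ⟨a₁ * z, a₁ / a₂, div_ne_zero ha₁ ha₂, ?_, ?_⟩
    · rw [mul_div_cancel₀ _ ha₂]
      linear_combination (a₁ * z) * h2
    · have hz' : z ^ 2 + z = c₁ / a₁ ^ 2 + c₂ / a₂ ^ 2 := hz
      have e1 : (a₁ * z) ^ 2 + a₂ * (a₁ * z) * (a₁ / a₂) + c₂ * (a₁ / a₂) ^ 2
          = a₁ ^ 2 * (z ^ 2 + z) + a₁ ^ 2 * (c₂ / a₂ ^ 2) := by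
        field_simp
      rw [e1, hz']
      have e2 : a₁ ^ 2 * (c₁ / a₁ ^ 2 + c₂ / a₂ ^ 2) + a₁ ^ 2 * (c₂ / a₂ ^ 2)
          = c₁ + 2 * (a₁ ^ 2 * (c₂ / a₂ ^ 2)) := by
        field_simp
        ring
      rw [e2, h2, zero_mul, add_zero]
  · -- odd characteristic
    have hns : ∀ a c : F, (∀ z₁ z₂ : F, z₁ ^ 2 + a * z₁ * z₂ + c * z₂ ^ 2 = 0 → z₁ = 0 ∧ z₂ = 0) →
        ¬ IsSquare (a ^ 2 - 4 * c) := by
      intro a c h hsq
      obtain ⟨d, hd⟩ := hsq
      have := (h ((d - a) / 2) 1 (by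
        field_simp
        linear_combination hd.symm)).2   -- placeholder
      exact one_ne_zero this
    obtain ⟨w, hw0, hw⟩ := PGLI.nonsquare_ratio h2 _ _ (hns a₁ c₁ h₁) (hns a₂ c₂ h₂)
    refine ⟨(a₁ - a₂ * w) / 2, w, hw0, ?_, ?_⟩
    · field_simp
      ring
    · have h4 : (4 : F) ≠ 0 := by
        have : (4 : F) = 2 * 2 := by norm_num
        rw [this]
        exact mul_ne_zero h2 h2
      apply mul_left_cancel₀ h4
      field_simp
      linear_combination hw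


/-- change of the anisotropic plane inside the minus-type form. -/
theorem minus_change [Fintype F] (k : ℕ) (a₁ c₁ a₂ c₂ : F)
    (h₁ : ∀ z₁ z₂ : F, z₁ ^ 2 + a₁ * z₁ * z₂ + c₁ * z₂ ^ 2 = 0 → z₁ = 0 ∧ z₂ = 0)
    (h₂ : ∀ z₁ z₂ : F, z₁ ^ 2 + a₂ * z₁ * z₂ + c₂ * z₂ ^ 2 = 0 → z₁ = 0 ∧ z₂ = 0) :
    ∃ Ψ : ((Fin k ⊕ Fin k) ⊕ Fin 2 → F) ≃ₗ[F] ((Fin k ⊕ Fin k) ⊕ Fin 2 → F),
      ∀ w, Cfsg.quadFormMinus k F a₂ c₂ (Ψ w) = Cfsg.quadFormMinus k F a₁ c₁ w := by
  obtain ⟨u, v, hv, hp1, hp2⟩ := plane_param a₁ c₁ a₂ c₂ h₁ h₂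
  obtain ⟨L, hL⟩ : ∃ L : ((Fin k ⊕ Fin k) ⊕ Fin 2 → F) →ₗ[F] ((Fin k ⊕ Fin k) ⊕ Fin 2 → F),
      ∀ w, L w = Sum.elim (fun j => w (Sum.inl j))
        ![w (Sum.inr 0) + u * w (Sum.inr 1), v * w (Sum.inr 1)] := by
    refine ⟨{ toFun := fun w => Sum.elim (fun j => w (Sum.inl j))
                ![w (Sum.inr 0) + u * w (Sum.inr 1), v * w (Sum.inr 1)],
              map_add' := ?_, map_smul' := ?_ }, fun w => rfl⟩
    · intro x y
      funext t
      rcases t with j | t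
      · rfl
      · have ht : t = 0 ∨ t = 1 := by fin_cases t <;> simp
        rcases ht with rfl | rfl
        · show (x + y) (Sum.inr 0) + u * (x + y) (Sum.inr 1)
            = (x (Sum.inr 0) + u * x (Sum.inr 1)) + (y (Sum.inr 0) + u * y (Sum.inr 1))
          rw [Pi.add_apply, Pi.add_apply]
          ring
        · show v * (x + y) (Sum.inr 1) = v * x (Sum.inr 1) + v * y (Sum.inr 1)
          rw [Pi.add_apply]
          ring
    · intro c x
      funext t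
      rcases t with j | t
      · rfl
      · have ht : t = 0 ∨ t = 1 := by fin_cases t <;> simp
        rcases ht with rfl | rfl
        · show (c • x) (Sum.inr 0) + u * (c • x) (Sum.inr 1)
            = c * (x (Sum.inr 0) + u * x (Sum.inr 1))
          rw [Pi.smul_apply, Pi.smul_apply, smul_eq_mul, smul_eq_mul]
          ring
        · show v * (c • x) (Sum.inr 1) = c * (v * x (Sum.inr 1))
          rw [Pi.smul_apply, smul_eq_mul]
          ring
  have hLl : ∀ w j, L w (Sum.inl j) = w (Sum.inl j) := by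
    intro w j
    rw [hL]
    rfl
  have hL0 : ∀ w, L w (Sum.inr 0) = w (Sum.inr 0) + u * w (Sum.inr 1) := by
    intro w
    rw [hL]
    rfl
  have hL1 : ∀ w, L w (Sum.inr 1) = v * w (Sum.inr 1) := by
    intro w
    rw [hL]
    rfl
  have hinj : Function.Injective L := by
    rw [injective_iff_map_eq_zero]
    intro w hw
    have e1 : w (Sum.inr 1) = 0 := by
      have := hL1 w
      rw [hw] at this
      exact (mul_eq_zero.mp this.symm).resolve_left hv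
    have e0 : w (Sum.inr 0) = 0 := by
      have := hL0 w
      rw [hw, e1, mul_zero, add_zero] at this
      exact this.symm
    funext t
    rcases t with j | t
    · have := hLl w j
      rw [hw] at this
      exact this.symm
    · have ht : t = 0 ∨ t = 1 := by fin_cases t <;> simp
      rcases ht with rfl | rfl
      · exact e0
      · exact e1
  refine ⟨LinearEquiv.ofInjectiveEndo L hinj, ?_⟩
  intro w
  rw [LinearEquiv.coe_ofInjectiveEndo]
  unfold Cfsg.quadFormMinus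
  rw [hL0, hL1]
  simp only [hLl]
  linear_combination (w (Sum.inr 0) * w (Sum.inr 1)) * hp1 + (w (Sum.inr 1)) ^ 2 * hp2

theorem to_std_minus [Fintype F] {ι : Type} [Fintype ι] [DecidableEq ι]
    (Qf : QuadraticForm F (ι → F))
    (hnd : (QuadraticMap.polarBilin Qf).Nondegenerate) (m : ℕ) (hm : 1 ≤ m)
    (hcard : Fintype.card ι = 2 * m) (ht : IsType (⇑Qf) m (-1)) (a c : F)
    (hac : ∀ z₁ z₂ : F, z₁ ^ 2 + a * z₁ * z₂ + c * z₂ ^ 2 = 0 → z₁ = 0 ∧ z₂ = 0) :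
    ∃ Φ : ((Fin (m - 1) ⊕ Fin (m - 1)) ⊕ Fin 2 → F) ≃ₗ[F] (ι → F),
      ∀ v, Qf (Φ v) = Cfsg.quadFormMinus (m - 1) F a c v := by
  rcases classify hm hcard Qf hnd with ⟨Φ, hΦ⟩ | ⟨ζ, hζ, Φ, hΦ⟩
  · exfalso
    have h1 := isType_plus (F := F) m
    have h2 := (isType_of_equiv (⇑Qf) _ Φ hΦ m 1).mpr h1
    exact isType_unique _ m h2 ht
  · obtain ⟨Ψ, hΨ⟩ := minus_change (m - 1) a c 1 ζ hac (aniso_of_irred ζ hζ)
    refine ⟨Ψ.trans Φ, ?_⟩
    intro v
    rw [LinearEquiv.trans_apply, hΦ, hΨ]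

end Cfsg.Agent.Lib.Helper16.OSemi
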