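import Mathlib
import Cfsg.Agent.Lib.Helper1.ODN.Defs
import Cfsg.Agent.Lib.Helper24.ODNFROZEN
import Cfsg.Agent.Lib.Helper1.ODNGLUE
import Cfsg.Agent.Lib.helper8.ODNSISO
import Cfsg.Agent.Lib.helper17.ONENDPERPS
import Cfsg.Agent.Lib.Helper18.ONETYCLASS
import Cfsg.Agent.Lib.helper6.PlusCoords

/-!
# Project ODN, row UDISCA (`odn_udisc_a`) (helper16): invariant nondegenerate subspaces of type `(1, 2^e)` are isometric
when `ker (x - 1) / rad` is a line.
-/

set_option autoImplicit false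
set_option linter.unusedVariables false

namespace Cfsg.Agent.Lib.Helper1.ODN

open Polynomial Module Cfsg.Agent.Lib.Helper13.S5955 Cfsg.Agent.Lib.helper15.S5972 Cfsg.Agent.Lib.Helper18.ONE

/-- two nondegenerate `2e`-spaces with totally singular `e`-subspaces are isometric -/
theorem odnudisca_hyp_iso {F : Type*} [Field F] (h2 : (2 : F) ≠ 0) {V : Type*} [AddCommGroup V]
    [Module F V] [FiniteDimensional F V] (B : LinearMap.BilinForm F V)
    (hsymm : ∀ u v, B u v = B v u) (e : ℕ)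
    (H₁ H₂ U₁ U₂ : Submodule F V) (hH₁ : SND B H₁) (hH₂ : SND B H₂)
    (hU₁ : U₁ ≤ H₁) (hU₂ : U₂ ≤ H₂) (hs₁ : ∀ u ∈ U₁, B u u = 0) (hs₂ : ∀ u ∈ U₂, B u u = 0)
    (hd₁ : finrank F U₁ = e) (hd₂ : finrank F U₂ = e) (hD₁ : finrank F H₁ = 2 * e)
    (hD₂ : finrank F H₂ = 2 * e) : SIso B H₁ H₂ := by
  have key : ∀ (H U : Submodule F V), SND B H → U ≤ H → (∀ u ∈ U, B u u = 0) → finrank F U = e →
      finrank F H = 2 * e →
      ∃ T : ↥H ≃ₗ[F] (Fin e ⊕ Fin e → F), ∀ v : ↥H,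
        Cfsg.quadFormPlus e F (T v) = B (v : V) (v : V) := by
    intro H U hH hU hs hd hD
    have hnd := onetyclass_nd h2 B hsymm H hH
    have hU' : ∀ u ∈ U.comap H.subtype, onetyclass_Q B H u = 0 := by
      intro u hu
      rw [onetyclass_Q_apply]
      exact hs _ hu
    have hdim' : finrank F ↥(U.comap H.subtype) = e := by
      rw [← hd]
      exact (Submodule.comapSubtypeEquivOfLe hU).finrank_eq
    obtain ⟨T, hT⟩ := Cfsg.Agent.Lib.helper6.Plus.exists_hyp_coords (onetyclass_Q B H) hnd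
      (U.comap H.subtype) hU' e hdim' hD
    exact ⟨T, fun v => by rw [hT, onetyclass_Q_apply]⟩
  obtain ⟨T₁, hT₁⟩ := key H₁ U₁ hH₁ hU₁ hs₁ hd₁ hD₁
  obtain ⟨T₂, hT₂⟩ := key H₂ U₂ hH₂ hU₂ hs₂ hd₂ hD₂
  refine ⟨T₁.trans T₂.symm, fun w => ?_⟩
  have h1 : T₂ ((T₁.trans T₂.symm) w) = T₁ w := by simp
  calc B (((T₁.trans T₂.symm) w : ↥H₂) : V) (((T₁.trans T₂.symm) w : ↥H₂) : V)
      = Cfsg.quadFormPlus e F (T₂ ((T₁.trans T₂.symm) w)) := (hT₂ _).symm
    _ = Cfsg.quadFormPlus e F (T₁ w) := by rw [h1]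
    _ = B (w : V) (w : V) := hT₁ w

/-- lines spanned by vectors of proportional-by-a-square norms are isometric -/
theorem odnudisca_line_iso {F : Type*} [Field F] {V : Type*} [AddCommGroup V] [Module F V]
    (B : LinearMap.BilinForm F V) (v₁ v₂ : V) (t : F) (ht : t ≠ 0) (hv₁ : v₁ ≠ 0) (hv₂ : v₂ ≠ 0)
    (hB : B v₁ v₁ = t * t * B v₂ v₂) :
    SIso B (Submodule.span F {v₁}) (Submodule.span F {v₂}) := by
  have hspan : Submodule.span F {t • v₂} = Submodule.span F {v₂} :=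
    Submodule.span_singleton_smul_eq (IsUnit.mk0 t ht) v₂
  rw [← hspan]
  have htv : t • v₂ ≠ 0 := smul_ne_zero ht hv₂
  refine ⟨(LinearEquiv.toSpanNonzeroSingleton F V v₁ hv₁).symm.trans
    (LinearEquiv.toSpanNonzeroSingleton F V (t • v₂) htv), fun w => ?_⟩
  set a : F := (LinearEquiv.toSpanNonzeroSingleton F V v₁ hv₁).symm w with ha
  have hw : (w : V) = a • v₁ :=
    (LinearEquiv.toSpanNonzeroSingleton_symm_apply_smul F V v₁ hv₁ w).symm
  have he : ((((LinearEquiv.toSpanNonzeroSingleton F V v₁ hv₁).symm.trans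
      (LinearEquiv.toSpanNonzeroSingleton F V (t • v₂) htv)) w :
        ↥(Submodule.span F {t • v₂})) : V) = a • (t • v₂) := by
    rw [LinearEquiv.trans_apply, LinearEquiv.toSpanNonzeroSingleton_apply]
  rw [he, hw]
  simp only [map_smul, LinearMap.smul_apply, smul_eq_mul]
  rw [hB]
  ring

/-- the structure of one subspace -/
theorem odnudisca_struct {F : Type*} [Field F] (h2 : (2 : F) ≠ 0) {V : Type*} [AddCommGroup V]
    [Module F V] [FiniteDimensional F V] (B : LinearMap.BilinForm F V)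
    (hsymm : ∀ u v, B u v = B v u) (N : Module.End F V) (W : Submodule F V) (hW : SND B W)
    (hNW : ∀ w ∈ W, N w ∈ W) (e : ℕ) (hd : finrank F W = 2 * e + 1)
    (hk : finrank F ↥(W ⊓ LinearMap.ker N) = e + 1) (hs : ∀ w ∈ W, N (N w) = 0)
    (horth : ∀ u : V, ∀ v ∈ LinearMap.ker N, B (N u) v = 0) :
    ∃ v ∈ W ⊓ LinearMap.ker N, B v v ≠ 0 ∧ ∃ H U : Submodule F V, SND B H ∧
      finrank F H = 2 * e ∧ U ≤ H ∧ (∀ u ∈ U, B u u = 0) ∧ finrank F U = e ∧
      SOrth B (Submodule.span F {v}) H ∧ Disjoint (Submodule.span F {v}) H ∧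
      Submodule.span F {v} ⊔ H = W := by
  classical
  -- a nonsingular vector of `W ⊓ K`
  have hex : ∃ v ∈ W ⊓ LinearMap.ker N, B v v ≠ 0 := by
    by_contra hcon
    push_neg at hcon
    have hti : STI B (W ⊓ LinearMap.ker N) := onetyclass_sti h2 B hsymm _ hcon
    have hle : W ⊓ LinearMap.ker N ≤ W ⊓ B.orthogonal (W ⊓ LinearMap.ker N) := by
      intro k hk'
      refine Submodule.mem_inf.mpr ⟨(Submodule.mem_inf.mp hk').1, ?_⟩
      rw [h5_mem_orth]
      intro u hu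
      exact hti u hu k hk'
    have h1 := Submodule.finrank_mono hle
    have h3 := h5_finrank_perp B W (W ⊓ LinearMap.ker N) hW inf_le_left
    omega
  obtain ⟨v, hvT, hvv⟩ := hex
  have hvW : v ∈ W := (Submodule.mem_inf.mp hvT).1
  have hvK : v ∈ LinearMap.ker N := (Submodule.mem_inf.mp hvT).2
  have hv0 : v ≠ 0 := by
    rintro rfl
    apply hvv
    simp
  refine ⟨v, hvT, hvv, ?_⟩
  -- the line
  have hLW : Submodule.span F {v} ≤ W := by
    rw [Submodule.span_singleton_le_iff_mem]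
    exact hvW
  have hL : SND B (Submodule.span F {v}) := by
    intro u hu hall
    obtain ⟨a, rfl⟩ := Submodule.mem_span_singleton.mp hu
    have h1 := hall v (Submodule.mem_span_singleton_self v)
    rw [map_smul, LinearMap.smul_apply, smul_eq_mul] at h1
    rcases mul_eq_zero.mp h1 with h | h
    · rw [h, zero_smul]
    · exact absurd h hvv
  obtain ⟨hdisj, hsup, hHnd, hHorth, hHdim⟩ := nd_perp_symm B hsymm W (Submodule.span F {v}) hW hLW hL
  have hL1 : finrank F ↥(Submodule.span F {v}) = 1 := finrank_span_singleton hv0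
  -- the image of `N`
  have hUW : W.map N ≤ W := by
    rintro _ ⟨w, hw, rfl⟩
    exact hNW w hw
  have hUK : W.map N ≤ LinearMap.ker N := by
    rintro _ ⟨w, hw, rfl⟩
    exact LinearMap.mem_ker.mpr (hs w hw)
  have hUdim : finrank F ↥(W.map N) = e := by
    have h1 := LinearMap.finrank_range_add_finrank_ker (N.domRestrict W)
    rw [LinearMap.range_domRestrict, LinearMap.ker_domRestrict] at h1
    have h3 : (LinearMap.ker N).comap W.subtype = (W ⊓ LinearMap.ker N).comap W.subtype := by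
      ext u
      simp
    have h4 : finrank F ↥((W ⊓ LinearMap.ker N).comap W.subtype) = e + 1 := by
      rw [← hk]
      exact (Submodule.comapSubtypeEquivOfLe (inf_le_left : W ⊓ LinearMap.ker N ≤ W)).finrank_eq
    rw [h3, h4, hd] at h1
    omega
  refine ⟨W ⊓ B.orthogonal (Submodule.span F {v}), W.map N, hHnd, by omega, ?_, ?_, hUdim, hHorth,
    hdisj, hsup⟩
  · intro u hu
    refine Submodule.mem_inf.mpr ⟨hUW hu, ?_⟩
    rw [h5_mem_orth]
    intro l hl
    obtain ⟨a, rfl⟩ := Submodule.mem_span_singleton.mp hl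
    obtain ⟨w, hw, rfl⟩ := hu
    rw [map_smul, LinearMap.smul_apply, smul_eq_mul, hsymm, horth w v hvK, mul_zero]
  · rintro _ ⟨w, hw, rfl⟩
    exact horth w (N w) (LinearMap.mem_ker.mpr (hs w hw))

theorem odn_udisc_a {F : Type*} [Field F] [Fintype F] (h2 : (2 : F) ≠ 0) {ι : Type} [Fintype ι] [DecidableEq ι]
    (Q : QuadraticForm F (ι → F)) (hQ : (QuadraticMap.polarBilin Q).Nondegenerate) (x : Matrix ι ι F) (hdet : IsUnit x)
    (hx : ∀ v, Q (x.mulVec v) = Q v)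
    (hline : finrank F (LinearMap.ker (Matrix.toLin' x - 1)) =
      finrank F ↥(LinearMap.ker (Matrix.toLin' x - 1) ⊓ LinearMap.range (Matrix.toLin' x - 1)) + 1)
    (e : ℕ) (W₁ W₂ : Submodule F (ι → F))
    (h₁ : Cfsg.Geo.IsNondegenerateOn (QuadraticMap.polar (⇑Q)) W₁) (h₂ : Cfsg.Geo.IsNondegenerateOn (QuadraticMap.polar (⇑Q)) W₂)
    (hx₁ : W₁.map (Matrix.toLin' x) ≤ W₁) (hx₂ : W₂.map (Matrix.toLin' x) ≤ W₂)
    (hd₁ : finrank F W₁ = 2 * e + 1) (hd₂ : finrank F W₂ = 2 * e + 1)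
    (hk₁ : finrank F ↥(W₁ ⊓ LinearMap.ker (Matrix.toLin' x - 1)) = e + 1)
    (hk₂ : finrank F ↥(W₂ ⊓ LinearMap.ker (Matrix.toLin' x - 1)) = e + 1)
    (hs₁ : ∀ w ∈ W₁, (Matrix.toLin' x - 1) ((Matrix.toLin' x - 1) w) = 0)
    (hs₂ : ∀ w ∈ W₂, (Matrix.toLin' x - 1) ((Matrix.toLin' x - 1) w) = 0) :
    Cfsg.Geo.AreIsometricFor (⇑Q) W₁ W₂ := by
  classical
  have hsymm : ∀ u v, QuadraticMap.polarBilin Q u v = QuadraticMap.polarBilin Q v u :=
    fun u v => QuadraticMap.polar_comm Q u v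
  have hNv : ∀ v, (Matrix.toLin' x - 1) v = x.mulVec v - v := by
    intro v
    rw [LinearMap.sub_apply, Matrix.toLin'_apply, Module.End.one_apply]
  have hxB : ∀ u v, QuadraticMap.polarBilin Q (x.mulVec u) (x.mulVec v) =
      QuadraticMap.polarBilin Q u v := by
    intro u v
    show QuadraticMap.polar Q _ _ = QuadraticMap.polar Q u v
    unfold QuadraticMap.polar
    rw [← Matrix.mulVec_add, hx, hx, hx]
  have horth : ∀ u, ∀ v ∈ LinearMap.ker (Matrix.toLin' x - 1),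
      QuadraticMap.polarBilin Q ((Matrix.toLin' x - 1) u) v = 0 := by
    intro u v hv
    have hxv : x.mulVec v = v := by
      have h := LinearMap.mem_ker.mp hv
      rw [hNv] at h
      exact sub_eq_zero.mp h
    have h1 := hxB u v
    rw [hxv] at h1
    rw [hNv, map_sub, LinearMap.sub_apply, h1, sub_self]
  have hinv : ∀ W : Submodule F (ι → F), W.map (Matrix.toLin' x) ≤ W →
      ∀ w ∈ W, (Matrix.toLin' x - 1) w ∈ W := by
    intro W hW w hw
    rw [LinearMap.sub_apply, Module.End.one_apply]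
    exact W.sub_mem (hW (Submodule.mem_map_of_mem hw)) hw
  have hnd₁ := (odn_frozen h2 Q W₁ W₂).1.mp h₁
  have hnd₂ := (odn_frozen h2 Q W₂ W₁).1.mp h₂
  obtain ⟨v₁, hv₁T, hv₁v, H₁, U₁, hH₁, hD₁, hU₁, hS₁, hu₁, ho₁, hdj₁, hsup₁⟩ :=
    odnudisca_struct h2 (QuadraticMap.polarBilin Q) hsymm (Matrix.toLin' x - 1) W₁ hnd₁
      (hinv W₁ hx₁) e hd₁ hk₁ hs₁ horth
  obtain ⟨v₂, hv₂T, hv₂v, H₂, U₂, hH₂, hD₂, hU₂, hS₂, hu₂, ho₂, hdj₂, hsup₂⟩ :=
    odnudisca_struct h2 (QuadraticMap.polarBilin Q) hsymm (Matrix.toLin' x - 1) W₂ hnd₂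
      (hinv W₂ hx₂) e hd₂ hk₂ hs₂ horth
  have hv₁K := (Submodule.mem_inf.mp hv₁T).2
  have hv₂K := (Submodule.mem_inf.mp hv₂T).2
  have hv₁0 : v₁ ≠ 0 := by
    rintro rfl
    apply hv₁v
    simp
  have hv₂0 : v₂ ≠ 0 := by
    rintro rfl
    apply hv₂v
    simp
  -- the radical part
  have hR : ∀ u ∈ LinearMap.ker (Matrix.toLin' x - 1) ⊓ LinearMap.range (Matrix.toLin' x - 1),
      ∀ k ∈ LinearMap.ker (Matrix.toLin' x - 1), QuadraticMap.polarBilin Q u k = 0 := by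
    intro u hu k hk
    obtain ⟨u', rfl⟩ := LinearMap.mem_range.mp (Submodule.mem_inf.mp hu).2
    exact horth u' k hk
  have hv₂R : v₂ ∉ LinearMap.ker (Matrix.toLin' x - 1) ⊓ LinearMap.range (Matrix.toLin' x - 1) := by
    intro h
    exact hv₂v (hR v₂ h v₂ hv₂K)
  have hKeq : Submodule.span F {v₂} ⊔
      (LinearMap.ker (Matrix.toLin' x - 1) ⊓ LinearMap.range (Matrix.toLin' x - 1)) =
      LinearMap.ker (Matrix.toLin' x - 1) := by
    apply Submodule.eq_of_le_of_finrank_le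
    · apply sup_le
      · rw [Submodule.span_singleton_le_iff_mem]
        exact hv₂K
      · exact inf_le_left
    · have h1 := Submodule.finrank_sup_add_finrank_inf_eq (Submodule.span F {v₂})
        (LinearMap.ker (Matrix.toLin' x - 1) ⊓ LinearMap.range (Matrix.toLin' x - 1))
      have h3 : Submodule.span F {v₂} ⊓
          (LinearMap.ker (Matrix.toLin' x - 1) ⊓ LinearMap.range (Matrix.toLin' x - 1)) = ⊥ := by
        rw [← disjoint_iff]
        exact (Submodule.disjoint_span_singleton' hv₂0).mpr hv₂R |>.symm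
      rw [h3, finrank_bot, finrank_span_singleton hv₂0] at h1
      omega
  have hv₁mem : v₁ ∈ Submodule.span F {v₂} ⊔
      (LinearMap.ker (Matrix.toLin' x - 1) ⊓ LinearMap.range (Matrix.toLin' x - 1)) := by
    rw [hKeq]
    exact hv₁K
  obtain ⟨l, hl, u, hu, hlu⟩ := Submodule.mem_sup.mp hv₁mem
  obtain ⟨t, rfl⟩ := Submodule.mem_span_singleton.mp hl
  have huK := (Submodule.mem_inf.mp hu).1
  have hBv : QuadraticMap.polarBilin Q v₁ v₁ = t * t * QuadraticMap.polarBilin Q v₂ v₂ := by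
    rw [← hlu]
    simp only [map_add, map_smul, LinearMap.add_apply, LinearMap.smul_apply, smul_eq_mul]
    rw [hR u hu v₂ hv₂K, hsymm v₂ u, hR u hu v₂ hv₂K, hR u hu u huK]
    ring
  have ht : t ≠ 0 := by
    rintro rfl
    apply hv₁v
    rw [hBv]
    ring
  have hline_iso := odnudisca_line_iso (QuadraticMap.polarBilin Q) v₁ v₂ t ht hv₁0 hv₂0 hBv
  have hhyp_iso := odnudisca_hyp_iso h2 (QuadraticMap.polarBilin Q) hsymm e H₁ H₂ U₁ U₂ hH₁ hH₂
    hU₁ hU₂ hS₁ hS₂ hu₁ hu₂ hD₁ hD₂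
  have hglue := siso_sup h2 (QuadraticMap.polarBilin Q) hsymm _ _ _ _ ho₁ hdj₁ ho₂ hdj₂
    hline_iso hhyp_iso
  rw [hsup₁, hsup₂] at hglue
  exact (odn_frozen h2 Q W₁ W₂).2.1.mpr hglue

end Cfsg.Agent.Lib.Helper1.ODN
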