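import Mathlib
import Cfsg.Agent.Lib.Helper28.ONd2
import Cfsg.Agent.Lib.Helper28.OGenQ

set_option autoImplicit false
set_option linter.unusedSectionVars false
set_option linter.unusedVariables false

/-! Automorphisms of orthogonal groups, part 1: the unipotent radicals `Qe u`. -/

namespace Cfsg.Agent.Lib.Helper16.OA

open Matrix Cfsg.Agent.Lib.Helper28.HForm Cfsg.Agent.Lib.Helper28.OGen
  Cfsg.Agent.Lib.Helper28.OMax Cfsg.Agent.Lib.Helper28.OQ Cfsg.Agent.Lib.Helper28.OMax2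
  Cfsg.Agent.Lib.Helper28.OIwa Cfsg.Agent.Lib.Helper28.OIwa2 Cfsg.Agent.Lib.Helper28.ONd

variable {n : ℕ} {F : Type*} [Field F] {Q : (Fin n → F) → F}
  {f : (Fin n → F) → (Fin n → F) → F}

local notation:73 g:73 " ∙ " x:74 => Matrix.mulVec (Units.val g) x

/-- double perpendicular. -/
theorem dperp (hf : SymF f) (S : Submodule F (Fin n → F)) {v : Fin n → F}
    (h : ∀ y, (∀ s ∈ S, f s y = 0) → f v y = 0) : v ∈ S := by
  by_contra hv
  obtain ⟨y, hy1, hy2⟩ := dperp_s hf S v hv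
  exact hy2 (h y hy1)

theorem dperp_point (hf : SymF f) {u v : Fin n → F}
    (h : ∀ y, f y u = 0 → f y v = 0) : v ∈ Submodule.span F {u} := by
  apply dperp hf
  intro y hy
  rw [s_symm hf]
  apply h
  rw [s_symm hf]
  exact hy u (Submodule.mem_span_singleton_self u)

theorem dperp_line (hf : SymF f) {u w v : Fin n → F}
    (h : ∀ y, f y u = 0 → f y w = 0 → f y v = 0) : v ∈ Submodule.span F {u, w} := by
  apply dperp hf
  intro y hy
  rw [s_symm hf]
  apply h
  · rw [s_symm hf]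
    exact hy u (Submodule.subset_span (by simp))
  · rw [s_symm hf]
    exact hy w (Submodule.subset_span (by simp))

/-- a singular vector perpendicular to `u` outside its span, with a partner. -/
theorem exists_perp_out (hq : QF Q f) (vf : VFacts Q f) {u : Fin n → F} (hu : Q u = 0)
    (hu0 : u ≠ 0) : ∃ s, Q s = 0 ∧ f s u = 0 ∧ s ∉ Submodule.span F {u} := by
  have hf := hq.sym
  obtain ⟨u', hu', hu'u⟩ := hyp_partner_q hq u hu0 hu
  obtain ⟨s, s', hs, _, hsu', hsu, _, _, hs's⟩ := vf.hyp_perp u' u hu' hu (by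
    rw [hu'u]; exact one_ne_zero)
  refine ⟨s, hs, hsu, ?_⟩
  intro h
  obtain ⟨b, rfl⟩ := Submodule.mem_span_singleton.1 h
  rw [hf.smul_left, s_symm hf, hu'u, mul_one] at hsu'
  rw [hsu', zero_smul, f_zero_right hf] at hs's
  exact zero_ne_one hs's

section grp
variable {G : Subgroup (Matrix.GeneralLinearGroup (Fin n) F)}

/-- vectors fixed by all Siegel elements at `u` are multiples of `u`. -/
theorem rho_fixed (hq : QF Q f) (vf : VFacts Q f) (hG : SgGroupQ Q f G) {u v : Fin n → F}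
    (hu : Q u = 0) (hu0 : u ≠ 0)
    (h : ∀ (r : Matrix.GeneralLinearGroup (Fin n) F) (y : Fin n → F), f y u = 0 →
      IsRho Q f r u y → r ∙ v = v) : v ∈ Submodule.span F {u} := by
  have hf := hq.sym
  obtain ⟨s, hs, hsu, hsn⟩ := exists_perp_out hq vf hu hu0
  have key : ∀ y, f y u = 0 → f u v • y - f y v • u - (Q y * f u v) • u = 0 := by
    intro y hy
    obtain ⟨r, _, hr⟩ := isRho_ex hq vf hG u y hu hu0 hy
    have h1 := h r y hy hr
    rw [hr v] at h1
    have : f u v • y - f y v • u - (Q y * f u v) • u =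
        (v + f u v • y - f y v • u - (Q y * f u v) • u) - v := by module
    rw [this, h1, sub_self]
  have huv : f u v = 0 := by
    by_contra hne
    apply hsn
    have h1 := key s hsu
    rw [hs, zero_mul, zero_smul, sub_zero] at h1
    rw [Submodule.mem_span_singleton]
    refine ⟨(f u v)⁻¹ * f s v, ?_⟩
    have h2 : f u v • s = f s v • u := sub_eq_zero.1 h1
    rw [mul_smul, ← h2, smul_smul, inv_mul_cancel₀ hne, one_smul]
  apply dperp_point hf
  intro y hy
  have h1 := key y hy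
  rw [huv, zero_smul, mul_zero, zero_smul, sub_zero, zero_sub, neg_eq_zero] at h1
  rcases smul_eq_zero.1 h1 with h2 | h2
  · exact h2
  · exact absurd h2 hu0

/-- uniqueness of the parameter of a Siegel element modulo `u`. -/
theorem rho_param (hq : QF Q f) {u y y' : Fin n → F} (hu : Q u = 0) (hu0 : u ≠ 0)
    {r : Matrix.GeneralLinearGroup (Fin n) F}
    (hr : IsRho Q f r u y) (hr' : IsRho Q f r u y') : y - y' ∈ Submodule.span F {u} := by
  have hf := hq.sym
  obtain ⟨u', _, hu'u⟩ := hyp_partner_q hq u hu0 hu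
  have huu' : f u u' = 1 := by rw [s_symm hf, hu'u]
  have h1 := hr u'
  rw [hr' u', huu'] at h1
  rw [Submodule.mem_span_singleton]
  refine ⟨f y u' + Q y - f y' u' - Q y', ?_⟩
  have h2 : y - y' = (u' + (1 : F) • y - f y u' • u - (Q y * 1) • u)
      - (u' + (1 : F) • y' - f y' u' • u - (Q y' * 1) • u)
      + (f y u' + Q y - f y' u' - Q y') • u := by module
  rw [h2, ← h1, sub_self, zero_add]

/-- changing the parameter by a multiple of `u`. -/
theorem isRho_add_u (hq : QF Q f) {u y : Fin n → F} (hu : Q u = 0) (hyu : f y u = 0) (k : F)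
    {r : Matrix.GeneralLinearGroup (Fin n) F} (hr : IsRho Q f r u y) :
    IsRho Q f r u (y + k • u) := by
  have hf := hq.sym
  intro x
  rw [hr x, hf.add_left, hf.smul_left, hq.polar, hq.smul, hu, s_smul_right hf, hyu]
  module

/-- the unipotent radical of the stabiliser of the singular point `u`. -/
def Qe (hq : QF Q f) (G : Subgroup (Matrix.GeneralLinearGroup (Fin n) F)) (u : Fin n → F)
    (hu : Q u = 0) : Subgroup ↥G where
  carrier := {r | ∃ y, f y u = 0 ∧ IsRho Q f (r : Matrix.GeneralLinearGroup (Fin n) F) u y}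
  one_mem' := ⟨0, f_zero_left hq.sym u, isRho_one hq u⟩
  mul_mem' := by
    rintro a b ⟨y, hy, ha⟩ ⟨y', hy', hb⟩
    refine ⟨y + y', ?_, isRho_mul hq hu hy hy' ha hb⟩
    rw [hq.sym.add_left, hy, hy', add_zero]
  inv_mem' := by
    rintro a ⟨y, hy, ha⟩
    refine ⟨-y, ?_, isRho_inv hq hu hy ha⟩
    rw [f_neg_left hq.sym, hy, neg_zero]

theorem mem_Qe (hq : QF Q f) {u : Fin n → F} (hu : Q u = 0) (r : ↥G) :
    r ∈ Qe hq G u hu ↔ ∃ y, f y u = 0 ∧ IsRho Q f (r : Matrix.GeneralLinearGroup (Fin n) F) u y :=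
  Iff.rfl

theorem Qe_comm (hq : QF Q f) {u : Fin n → F} (hu : Q u = 0) {a b : ↥G}
    (ha : a ∈ Qe hq G u hu) (hb : b ∈ Qe hq G u hu) : a * b = b * a := by
  obtain ⟨y, hy, ha⟩ := ha
  obtain ⟨y', hy', hb⟩ := hb
  apply Subtype.ext
  have h1 := isRho_mul hq hu hy hy' ha hb
  have h2 := isRho_mul hq hu hy' hy hb ha
  rw [add_comm] at h2
  exact isRho_unique h1 h2

theorem Qe_conj (hq : QF Q f) (hG : SgGroupQ Q f G) {u : Fin n → F} (hu : Q u = 0) (g : ↥G)
    (hu' : Q ((g : Matrix.GeneralLinearGroup (Fin n) F) ∙ u) = 0) {r : ↥G}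
    (hr : r ∈ Qe hq G u hu) :
    g * r * g⁻¹ ∈ Qe hq G ((g : Matrix.GeneralLinearGroup (Fin n) F) ∙ u) hu' := by
  obtain ⟨y, hy, hr⟩ := hr
  refine ⟨(g : Matrix.GeneralLinearGroup (Fin n) F) ∙ y, ?_, ?_⟩
  · rw [iso_f hq g.1 (hG.iso g.1 g.2), hy]
  · exact isRho_conj hq (hG.iso g.1 g.2) hr

theorem isRho_pow (hq : QF Q f) {u y : Fin n → F} (hu : Q u = 0) (hyu : f y u = 0)
    {r : Matrix.GeneralLinearGroup (Fin n) F} (hr : IsRho Q f r u y) (k : ℕ) :
    IsRho Q f (r ^ k) u ((k : F) • y) := by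
  have hf := hq.sym
  induction k with
  | zero =>
    rw [pow_zero, Nat.cast_zero, zero_smul]
    exact isRho_one hq u
  | succ k ih =>
    rw [pow_succ, Nat.cast_succ, add_smul, one_smul]
    exact isRho_mul hq hu (by rw [hf.smul_left, hyu, mul_zero]) hyu ih hr

theorem Qe_pow_char (hq : QF Q f) (p : ℕ) [CharP F p] {u : Fin n → F} (hu : Q u = 0) {r : ↥G}
    (hr : r ∈ Qe hq G u hu) : r ^ p = 1 := by
  obtain ⟨y, hy, hr⟩ := hr
  apply Subtype.ext
  have h1 := isRho_pow hq hu hy hr p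
  rw [CharP.cast_eq_zero, zero_smul] at h1
  rw [Subgroup.coe_pow, Subgroup.coe_one]
  exact isRho_unique h1 (isRho_one hq u)

theorem Qe_isPGroup (hq : QF Q f) (p : ℕ) [Fact p.Prime] [CharP F p] {u : Fin n → F}
    (hu : Q u = 0) : IsPGroup p ↥(Qe hq G u hu) := by
  intro r
  refine ⟨1, ?_⟩
  rw [pow_one]
  apply Subtype.ext
  rw [Subgroup.coe_pow, Subgroup.coe_one]
  exact Qe_pow_char hq p hu r.2

end grp

end Cfsg.Agent.Lib.Helper16.OA
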