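import Mathlib
import Cfsg.Agent.Lib.Helper16.OA1

set_option autoImplicit false
set_option linter.unusedSectionVars false
set_option linter.unusedVariables false

/-! Automorphisms of orthogonal groups, part 2: kernels, centralisers, the centre. -/

namespace Cfsg.Agent.Lib.Helper16.OA

open Matrix Cfsg.Agent.Lib.Helper28.HForm Cfsg.Agent.Lib.Helper28.OGen
  Cfsg.Agent.Lib.Helper28.OMax Cfsg.Agent.Lib.Helper28.OQ Cfsg.Agent.Lib.Helper28.OMax2
  Cfsg.Agent.Lib.Helper28.OIwa Cfsg.Agent.Lib.Helper28.OIwa2 Cfsg.Agent.Lib.Helper28.ONd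

variable {n : ℕ} {F : Type*} [Field F] {Q : (Fin n → F) → F}
  {f : (Fin n → F) → (Fin n → F) → F}

local notation:73 g:73 " ∙ " x:74 => Matrix.mulVec (Units.val g) x

/-- an isometry fixing `u` and acting trivially on `u^⊥/u` is given by the Siegel formula. -/
theorem rho_of_kernel (hq : QF Q f) {u : Fin n → F} (hu : Q u = 0) (hu0 : u ≠ 0)
    (M : Matrix (Fin n) (Fin n) F) (hM : ∀ x, Q (M *ᵥ x) = Q x) (hMu : M *ᵥ u = u)
    (hMp : ∀ x, f x u = 0 → ∃ c : F, M *ᵥ x = x + c • u) :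
    ∃ y, f y u = 0 ∧ ∀ x, M *ᵥ x = x + f u x • y - f y x • u - (Q y * f u x) • u := by
  have hf := hq.sym
  have hMf : ∀ x y, f (M *ᵥ x) (M *ᵥ y) = f x y := by
    intro x y
    have h1 := hq.polar (M *ᵥ x) (M *ᵥ y)
    rw [← Matrix.mulVec_add, hM, hM, hM, hq.polar] at h1
    linear_combination -h1
  obtain ⟨u', hu', hu'u⟩ := hyp_partner_q hq u hu0 hu
  have huu' : f u u' = 1 := by rw [s_symm hf, hu'u]
  obtain ⟨y₀, hy₀⟩ : ∃ y₀, y₀ = M *ᵥ u' - u' := ⟨_, rfl⟩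
  have hMu' : M *ᵥ u' = u' + y₀ := by rw [hy₀]; abel
  have hy₀u : f y₀ u = 0 := by
    have h1 := hMf u' u
    rw [hMu, hMu', hf.add_left, hu'u] at h1
    linear_combination h1
  have hQy : Q y₀ + f y₀ u' = 0 := by
    have h1 := hM u'
    rw [hMu', hq.polar, hu', s_symm hf] at h1
    linear_combination h1
  refine ⟨y₀, hy₀u, ?_⟩
  intro x
  obtain ⟨a, ha⟩ : ∃ a, a = f x u' := ⟨_, rfl⟩
  obtain ⟨b, hb⟩ : ∃ b, b = f x u := ⟨_, rfl⟩
  obtain ⟨w, hw⟩ : ∃ w, w = x - a • u - b • u' := ⟨_, rfl⟩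
  have hx : x = a • u + b • u' + w := by rw [hw]; module
  have hwu : f w u = 0 := by
    rw [hw, f_sub_left hf, f_sub_left hf, hf.smul_left, hf.smul_left, f_sing hq hu, hu'u, ← hb]
    ring
  have hwu' : f w u' = 0 := by
    rw [hw, f_sub_left hf, f_sub_left hf, hf.smul_left, hf.smul_left, huu', f_sing hq hu', ← ha]
    ring
  obtain ⟨c, hc⟩ := hMp w hwu
  have hcv : c = - f w y₀ := by
    have h1 := hMf w u'
    rw [hc, hMu', hf.add_left, f_add_right hf, f_add_right hf, hwu', hf.smul_left, hf.smul_left,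
      huu', s_symm hf u y₀, hy₀u] at h1
    linear_combination h1
  have h1 : M *ᵥ x = a • u + b • (u' + y₀) + (w + c • u) := by
    rw [hx, Matrix.mulVec_add, Matrix.mulVec_add, Matrix.mulVec_smul, Matrix.mulVec_smul, hMu,
      hMu', hc]
  have h2 : f u x = b := by rw [s_symm hf, hb]
  have h3 : f y₀ x = b * f y₀ u' + f y₀ w := by
    rw [hx, f_add_right hf, f_add_right hf, s_smul_right hf, s_smul_right hf, hy₀u]
    ring
  have h4 : Q y₀ = - f y₀ u' := by linear_combination hQy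
  rw [h1, h2, h3, h4, hcv, s_symm hf w y₀]
  rw [hx]
  module

section grp
variable {G : Subgroup (Matrix.GeneralLinearGroup (Fin n) F)}

/-- a vector of non-zero norm perpendicular to `u`. -/
theorem exists_perp_nonsing (hq : QF Q f) (vf : VFacts Q f) {u : Fin n → F} (hu : Q u = 0)
    (hu0 : u ≠ 0) : ∃ y, f y u = 0 ∧ Q y = 1 := by
  have hf := hq.sym
  obtain ⟨u', hu', hu'u⟩ := hyp_partner_q hq u hu0 hu
  obtain ⟨s, s', hs, hs', _, hsu, _, hs'u, hs's⟩ := vf.hyp_perp u' u hu' hu (by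
    rw [hu'u]; exact one_ne_zero)
  refine ⟨s + s', ?_, ?_⟩
  · rw [hf.add_left, hsu, hs'u, add_zero]
  · rw [hq.polar, hs, hs', s_symm hf, hs's]
    ring

/-- an element of `G` centralising `Qe u` acts on `u` and on `u^⊥/u` by a sign. -/
theorem cent_Qe_aux (hq : QF Q f) (vf : VFacts Q f) (hG : SgGroupQ Q f G) {u : Fin n → F}
    (hu : Q u = 0) (hu0 : u ≠ 0) (g : ↥G)
    (hg : ∀ r ∈ Qe hq G u hu, g * r = r * g) :
    ∃ d : F, d * d = 1 ∧ (g : Matrix.GeneralLinearGroup (Fin n) F) ∙ u = d • u ∧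
      ∀ y, f y u = 0 → ∃ c : F, (g : Matrix.GeneralLinearGroup (Fin n) F) ∙ y = d • y + c • u := by
  have hf := hq.sym
  have hgiso := hG.iso g.1 g.2
  have hgf := iso_f hq g.1 hgiso
  -- `g u` is fixed by all Siegel elements at `u`
  have h1 : (g : Matrix.GeneralLinearGroup (Fin n) F) ∙ u ∈ Submodule.span F {u} := by
    apply rho_fixed hq vf hG hu hu0
    intro r y hy hr
    have hrG : r ∈ G := isRho_mem hq vf hG hr hu hu0 hy
    have h2 := hg ⟨r, hrG⟩ ⟨y, hy, hr⟩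
    have h3 : (g : Matrix.GeneralLinearGroup (Fin n) F) * r = r * g := congrArg Subtype.val h2
    have h4 : r ∙ ((g : Matrix.GeneralLinearGroup (Fin n) F) ∙ u) =
        (g : Matrix.GeneralLinearGroup (Fin n) F) ∙ (r ∙ u) := by
      rw [← Cfsg.Agent.S5643.mul_mv, ← Cfsg.Agent.S5643.mul_mv, h3]
    rw [h4, isRho_fix hr (f_sing hq hu) hy]
  obtain ⟨d, hd⟩ := Submodule.mem_span_singleton.1 h1
  have hd0 : d ≠ 0 := by
    rintro rfl
    rw [zero_smul] at hd
    have h2 := Cfsg.Agent.S5643.inv_mv (g : Matrix.GeneralLinearGroup (Fin n) F) u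
    rw [← hd, Matrix.mulVec_zero] at h2
    exact hu0 h2.symm
  have key : ∀ y, f y u = 0 → ∃ c : F,
      (g : Matrix.GeneralLinearGroup (Fin n) F) ∙ y = d⁻¹ • y + c • u := by
    intro y hy
    obtain ⟨r, hrG, hr⟩ := isRho_ex hq vf hG u y hu hu0 hy
    have h2 := hg ⟨r, hrG⟩ ⟨y, hy, hr⟩
    have h3 : (g : Matrix.GeneralLinearGroup (Fin n) F) * r *
        (g : Matrix.GeneralLinearGroup (Fin n) F)⁻¹ = r := by
      have : (g : Matrix.GeneralLinearGroup (Fin n) F) * r = r * g := congrArg Subtype.val h2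
      rw [this, mul_inv_cancel_right]
    have h4 := isRho_conj hq hgiso hr
    rw [h3, ← hd] at h4
    have h5 := isRho_smul hq d h4
    have h6 := rho_param hq hu hu0 h5 hr
    obtain ⟨c, hc⟩ := Submodule.mem_span_singleton.1 h6
    refine ⟨d⁻¹ * c, ?_⟩
    have h7 : (g : Matrix.GeneralLinearGroup (Fin n) F) ∙ y =
        d⁻¹ • (d • ((g : Matrix.GeneralLinearGroup (Fin n) F) ∙ y) - y) + d⁻¹ • y := by
      rw [smul_sub, smul_smul, inv_mul_cancel₀ hd0, one_smul]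
      abel
    rw [h7, ← hc, smul_smul]
    abel
  have hdd : d * d = 1 := by
    obtain ⟨y, hyu, hy⟩ := exists_perp_nonsing hq vf hu hu0
    obtain ⟨c, hc⟩ := key y hyu
    have h2 := hgiso y
    rw [hc, hq.polar, hq.smul, hq.smul, hu, hf.smul_left, s_smul_right hf, hyu, hy] at h2
    have h3 : d⁻¹ * d⁻¹ = 1 := by linear_combination h2
    have h4 : d * d * (d⁻¹ * d⁻¹) = 1 := by
      field_simp
    rw [h3, mul_one] at h4
    exact h4
  have hdi : d⁻¹ = d := by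
    field_simp
    rw [pow_two]
    exact hdd.symm
  refine ⟨d, hdd, hd.symm, ?_⟩
  intro y hy
  obtain ⟨c, hc⟩ := key y hy
  exact ⟨c, by rw [hc, hdi]⟩

/-- an element of `G` centralising `Qe u` is a Siegel element at `u` up to a scalar. -/
theorem cent_Qe (hq : QF Q f) (vf : VFacts Q f) (hG : SgGroupQ Q f G) {u : Fin n → F}
    (hu : Q u = 0) (hu0 : u ≠ 0) (g : ↥G)
    (hg : ∀ r ∈ Qe hq G u hu, g * r = r * g) :
    ∃ r ∈ Qe hq G u hu, ∃ d : F, d * d = 1 ∧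
      ∀ x, (g * r⁻¹ : ↥G).1 ∙ x = d • x := by
  have hf := hq.sym
  obtain ⟨d, hdd, hgu, hgp⟩ := cent_Qe_aux hq vf hG hu hu0 g hg
  have hgiso := hG.iso g.1 g.2
  obtain ⟨y, hyu, hy⟩ := rho_of_kernel hq hu hu0 (d • ((g : Matrix.GeneralLinearGroup (Fin n) F) :
    Matrix (Fin n) (Fin n) F)) (by
      intro x
      rw [Matrix.smul_mulVec, hq.smul, hgiso, hdd, one_mul]) (by
      rw [Matrix.smul_mulVec, hgu, smul_smul, hdd, one_smul]) (by
      intro x hx
      obtain ⟨c, hc⟩ := hgp x hx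
      refine ⟨d * c, ?_⟩
      rw [Matrix.smul_mulVec, hc, smul_add, smul_smul, smul_smul, hdd, one_smul])
  obtain ⟨r, hrG, hr⟩ := isRho_ex hq vf hG u y hu hu0 hyu
  refine ⟨⟨r, hrG⟩, ⟨y, hyu, hr⟩, d, hdd, ?_⟩
  intro x
  have h1 : ((g * (⟨r, hrG⟩ : ↥G)⁻¹ : ↥G) : Matrix.GeneralLinearGroup (Fin n) F) =
      (g : Matrix.GeneralLinearGroup (Fin n) F) * r⁻¹ := rfl
  rw [h1, Cfsg.Agent.S5643.mul_mv]
  have h2 := hy (r⁻¹ ∙ x)
  rw [← hr, Cfsg.Agent.S5643.inv_mv', Matrix.smul_mulVec] at h2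
  have h3 := congrArg (fun v => d • v) h2
  simp only [smul_smul, hdd, one_smul] at h3
  exact h3

end grp


/-- an element fixing all singular points is a scalar. -/
theorem scalar_of_hfix (hq : QF Q f) (vf : VFacts Q f) (g : Matrix.GeneralLinearGroup (Fin n) F)
    (hfix : ∀ u : Fin n → F, Q u = 0 → u ≠ 0 → ∃ b : F, g ∙ u = b • u) :
    ∃ d : F, ∀ x, g ∙ x = d • x := by
  have hf := hq.sym
  obtain ⟨u₀, hu₀, hu₀0⟩ := vf.sing
  obtain ⟨d, hd⟩ := hfix u₀ hu₀ hu₀0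
  have hsing : ∀ v : Fin n → F, Q v = 0 → g ∙ v = d • v := by
    intro v hv
    by_cases hv0 : v = 0
    · rw [hv0, Matrix.mulVec_zero, smul_zero]
    by_cases hs : v ∈ Submodule.span F {u₀}
    · obtain ⟨b, rfl⟩ := Submodule.mem_span_singleton.1 hs
      rw [Matrix.mulVec_smul, hd, smul_comm]
    obtain ⟨b', hb'⟩ := hfix v hv hv0
    by_cases huv : f u₀ v = 0
    · rw [hb', same_eig_q hq g hfix u₀ v d b' hu₀ hv huv hu₀0 hs hd hb']
    obtain ⟨s, s', hs1, _, hsu, hsv, _, _, hs's⟩ := vf.hyp_perp u₀ v hu₀ hv huv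
    have hs0 : s ≠ 0 := by
      rintro rfl
      rw [f_zero_right hf] at hs's
      exact zero_ne_one hs's
    have hsn : s ∉ Submodule.span F {u₀} := by
      intro h
      obtain ⟨b, rfl⟩ := Submodule.mem_span_singleton.1 h
      rw [hf.smul_left] at hsv
      rcases mul_eq_zero.1 hsv with hb | hb
      · rw [hb, zero_smul] at hs0
        exact hs0 rfl
      · exact huv hb
    have hvn : v ∉ Submodule.span F {s} := by
      intro h
      obtain ⟨b, rfl⟩ := Submodule.mem_span_singleton.1 h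
      apply huv
      rw [s_smul_right hf, s_symm hf, hsu, mul_zero]
    obtain ⟨bs, hbs⟩ := hfix s hs1 hs0
    have e1 := same_eig_q hq g hfix u₀ s d bs hu₀ hs1 (by rw [s_symm hf]; exact hsu) hu₀0 hsn hd hbs
    have e2 := same_eig_q hq g hfix s v bs b' hs1 hv hsv hs0 hvn hbs hb'
    rw [hb', ← e2, ← e1]
  obtain ⟨u', hu', hu'u⟩ := hyp_partner_q hq u₀ hu₀0 hu₀
  refine ⟨d, fun x => ?_⟩
  obtain ⟨y₁, y₂, hsum, h11, h22, _, _⟩ := vf.decomp u₀ (x - f x u₀ • u') hu₀ hu₀0 (by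
    rw [f_sub_left hf, hf.smul_left, hu'u]
    ring)
  have hx : x = y₁ + y₂ + f x u₀ • u' := by
    rw [hsum]
    abel
  rw [hx, Matrix.mulVec_add, Matrix.mulVec_add, Matrix.mulVec_smul, hsing y₁ h11, hsing y₂ h22,
    hsing u' hu']
  module

section grp2
variable {G : Subgroup (Matrix.GeneralLinearGroup (Fin n) F)}

/-- the centre of `G` consists of scalars `±1`. -/
theorem center_scalar (hq : QF Q f) (vf : VFacts Q f) (hG : SgGroupQ Q f G) (z : ↥G)
    (hz : z ∈ Subgroup.center ↥G) :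
    ∃ d : F, d * d = 1 ∧ ∀ x, (z : Matrix.GeneralLinearGroup (Fin n) F) ∙ x = d • x := by
  have hf := hq.sym
  have hfix : ∀ u : Fin n → F, Q u = 0 → u ≠ 0 →
      ∃ b : F, (z : Matrix.GeneralLinearGroup (Fin n) F) ∙ u = b • u := by
    intro u hu hu0
    obtain ⟨d, _, hd, _⟩ := cent_Qe_aux hq vf hG hu hu0 z (fun r _ =>
      ((Subgroup.mem_center_iff.1 hz) r).symm)
    exact ⟨d, hd⟩
  obtain ⟨d, hd⟩ := scalar_of_hfix hq vf z.1 hfix
  refine ⟨d, ?_, hd⟩
  obtain ⟨u₀, hu₀, hu₀0⟩ := vf.sing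
  obtain ⟨y, _, hy⟩ := exists_perp_nonsing hq vf hu₀ hu₀0
  have h1 := hG.iso z.1 z.2 y
  rw [hd, hq.smul, hy] at h1
  linear_combination h1

/-- scalars in `G` are central. -/
theorem scalar_mem_center (z : ↥G) (d : F)
    (hd : ∀ x, (z : Matrix.GeneralLinearGroup (Fin n) F) ∙ x = d • x) :
    z ∈ Subgroup.center ↥G := by
  rw [Subgroup.mem_center_iff]
  intro g
  apply Subtype.ext
  apply gl_ext
  intro x
  show (g.1 * z.1) ∙ x = (z.1 * g.1) ∙ x
  rw [Cfsg.Agent.S5643.mul_mv, Cfsg.Agent.S5643.mul_mv, hd, hd, Matrix.mulVec_smul]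

theorem pow_char_eq_one' (p : ℕ) [Fact p.Prime] [CharP F p] {b : F} (k : ℕ)
    (h : b ^ p ^ k = 1) : b = 1 := by
  have h4 : (b - 1) ^ p ^ k = 0 := by
    rw [sub_pow_char_pow, h, one_pow, sub_self]
  have := pow_eq_zero_iff (pow_ne_zero k (Fact.out : p.Prime).ne_zero) |>.mp h4
  exact sub_eq_zero.mp this

theorem pow_mv (g : Matrix.GeneralLinearGroup (Fin n) F) (d : F) (u : Fin n → F)
    (h : g ∙ u = d • u) (k : ℕ) : (g ^ k) ∙ u = d ^ k • u := by
  induction k with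
  | zero => rw [pow_zero, pow_zero, Units.val_one, Matrix.one_mulVec, one_smul]
  | succ k ih =>
    rw [pow_succ, Cfsg.Agent.S5643.mul_mv, h, Matrix.mulVec_smul, ih, smul_smul, pow_succ,
      mul_comm]

/-- a central element of `p`-power order is trivial. -/
theorem center_unip (hq : QF Q f) (vf : VFacts Q f) (hG : SgGroupQ Q f G) (p : ℕ) [Fact p.Prime]
    [CharP F p] (z : ↥G) (hz : z ∈ Subgroup.center ↥G) (k : ℕ) (hk : z ^ p ^ k = 1) : z = 1 := by
  obtain ⟨d, _, hd⟩ := center_scalar hq vf hG z hz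
  obtain ⟨u₀, _, hu₀0⟩ := vf.sing
  have h1 := pow_mv z.1 d u₀ (hd u₀) (p ^ k)
  have h2 : ((z ^ p ^ k : ↥G) : Matrix.GeneralLinearGroup (Fin n) F) = z.1 ^ p ^ k := rfl
  rw [← h2, hk] at h1
  have h3 : (1 : F) • u₀ = d ^ p ^ k • u₀ := by
    rw [one_smul, ← h1]
    show u₀ = (1 : Matrix (Fin n) (Fin n) F) *ᵥ u₀
    rw [Matrix.one_mulVec]
  have h4 : d ^ p ^ k = 1 := by
    have h5 : ((1 : F) - d ^ p ^ k) • u₀ = 0 := by rw [sub_smul, h3, sub_self]
    rcases smul_eq_zero.1 h5 with h6 | h6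
    · exact (sub_eq_zero.1 h6).symm
    · exact absurd h6 hu₀0
  have h5 := pow_char_eq_one' p k h4
  apply Subtype.ext
  apply gl_ext
  intro x
  rw [hd, h5, one_smul]
  show x = (1 : Matrix (Fin n) (Fin n) F) *ᵥ x
  rw [Matrix.one_mulVec]

/-- a `p`-element centralising `Qe u` lies in `Qe u`. -/
theorem cent_Qe_p (hq : QF Q f) (vf : VFacts Q f) (hG : SgGroupQ Q f G) (p : ℕ) [Fact p.Prime]
    [CharP F p] {u : Fin n → F} (hu : Q u = 0) (hu0 : u ≠ 0) (g : ↥G)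
    (hg : ∀ r ∈ Qe hq G u hu, g * r = r * g) (k : ℕ) (hk : g ^ p ^ k = 1) :
    g ∈ Qe hq G u hu := by
  cases k with
  | zero =>
    rw [pow_zero, pow_one] at hk
    rw [hk]
    exact Subgroup.one_mem _
  | succ k =>
  obtain ⟨r, hr, d, _, hd⟩ := cent_Qe hq vf hG hu hu0 g hg
  have hzc := scalar_mem_center (g * r⁻¹) d hd
  have hcomm : Commute g r⁻¹ := by
    have := hg r hr
    show g * r⁻¹ = r⁻¹ * g
    rw [eq_inv_mul_iff_mul_eq, ← mul_assoc, ← this, mul_inv_cancel_right]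
  have h1 : (g * r⁻¹) ^ p ^ (k + 1) = 1 := by
    rw [hcomm.mul_pow, hk, one_mul, inv_pow]
    have : r ^ p ^ (k + 1) = 1 := by
      have h2 : r ^ p = 1 := Qe_pow_char hq p hu hr
      rw [pow_succ, pow_mul', h2, one_pow]
    rw [this, inv_one]
  have h2 := center_unip hq vf hG p (g * r⁻¹) hzc (k + 1) h1
  have h3 : g = r := by
    rw [mul_inv_eq_one] at h2
    exact h2
  rw [h3]
  exact hr

end grp2

end Cfsg.Agent.Lib.Helper16.OA
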