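import Mathlib
import Cfsg.Agent.Lib.Helper16.OA2

set_option autoImplicit false
set_option linter.unusedSectionVars false
set_option linter.unusedVariables false

/-! Automorphisms of orthogonal groups, part 3: long root groups as centres of Sylow subgroups. -/

namespace Cfsg.Agent.Lib.Helper16.OA

open Matrix Cfsg.Agent.Lib.Helper28.HForm Cfsg.Agent.Lib.Helper28.OGen
  Cfsg.Agent.Lib.Helper28.OMax Cfsg.Agent.Lib.Helper28.OQ Cfsg.Agent.Lib.Helper28.OMax2
  Cfsg.Agent.Lib.Helper28.OIwa Cfsg.Agent.Lib.Helper28.OIwa2 Cfsg.Agent.Lib.Helper28.ONd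

variable {n : ℕ} {F : Type*} [Field F] {Q : (Fin n → F) → F}
  {f : (Fin n → F) → (Fin n → F) → F}

local notation:73 g:73 " ∙ " x:74 => Matrix.mulVec (Units.val g) x

section gen
variable {X : Type*} [Group X]

/-- the centre of a subgroup, as a subgroup of the ambient group. -/
def Zs (H : Subgroup X) : Subgroup X := H ⊓ Subgroup.centralizer (H : Set X)

theorem mem_Zs_iff (H : Subgroup X) (x : X) : x ∈ Zs H ↔ x ∈ H ∧ ∀ h ∈ H, h * x = x * h := by
  unfold Zs
  rw [Subgroup.mem_inf, Subgroup.mem_centralizer_iff]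
  rfl

theorem map_Zs (β : X ≃* X) (H : Subgroup X) :
    (Zs H).map β.toMonoidHom = Zs (H.map β.toMonoidHom) := by
  ext x
  rw [Subgroup.mem_map, mem_Zs_iff]
  constructor
  · rintro ⟨y, hy, rfl⟩
    rw [mem_Zs_iff] at hy
    refine ⟨Subgroup.mem_map_of_mem _ hy.1, ?_⟩
    rintro _ ⟨h, hh, rfl⟩
    show β h * β y = β y * β h
    rw [← map_mul, ← map_mul, hy.2 h hh]
  · rintro ⟨⟨y, hy, rfl⟩, hc⟩
    refine ⟨y, ?_, rfl⟩
    rw [mem_Zs_iff]
    refine ⟨hy, fun h hh => ?_⟩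
    have := hc (β h) (Subgroup.mem_map_of_mem _ hh)
    apply β.injective
    rw [map_mul, map_mul]
    exact this

theorem map_Zs_le {Y : Type*} [Group Y] (φ : X →* Y) (K : Subgroup X) :
    (Zs K).map φ ≤ Zs (K.map φ) := by
  rintro _ ⟨y, hy, rfl⟩
  have hy : y ∈ Zs K := hy
  rw [mem_Zs_iff] at hy ⊢
  refine ⟨Subgroup.mem_map_of_mem _ hy.1, ?_⟩
  rintro _ ⟨h, hh, rfl⟩
  rw [← map_mul, ← map_mul, hy.2 h hh]

theorem Zs_ne_bot (p : ℕ) [Fact p.Prime] (P : Subgroup X) [Finite ↥P] (hP : IsPGroup p ↥P)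
    (hne : ∃ x ∈ P, x ≠ 1) : ∃ z ∈ Zs P, z ≠ 1 := by
  obtain ⟨x, hx, hx1⟩ := hne
  have : Nontrivial ↥P := ⟨⟨⟨x, hx⟩, 1, fun h => hx1 (congrArg Subtype.val h)⟩⟩
  have h1 := hP.center_nontrivial
  obtain ⟨z, hz⟩ := exists_ne (1 : ↥(Subgroup.center ↥P))
  refine ⟨z.1.1, ?_, ?_⟩
  · rw [mem_Zs_iff]
    refine ⟨z.1.2, fun h hh => ?_⟩
    have h2 := (Subgroup.mem_center_iff.1 z.2) ⟨h, hh⟩
    exact congrArg Subtype.val h2
  · intro h
    apply hz
    apply Subtype.ext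
    apply Subtype.ext
    exact h

end gen

section grp
variable {G : Subgroup (Matrix.GeneralLinearGroup (Fin n) F)}

/-- the long root group of the totally singular line `⟨u, v⟩`. -/
def XL (hq : QF Q f) (G : Subgroup (Matrix.GeneralLinearGroup (Fin n) F)) (u v : Fin n → F)
    (hu : Q u = 0) (hv : Q v = 0) (huv : f u v = 0) : Subgroup ↥G where
  carrier := {t | ∃ c : F, IsRho Q f (t : Matrix.GeneralLinearGroup (Fin n) F) u (c • v)}
  one_mem' := ⟨0, by rw [zero_smul]; exact isRho_one hq u⟩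
  mul_mem' := by
    rintro a b ⟨c, ha⟩ ⟨c', hb⟩
    refine ⟨c + c', ?_⟩
    rw [add_smul]
    have hvu : f v u = 0 := by rw [s_symm hq.sym, huv]
    exact isRho_mul hq hu (by rw [hq.sym.smul_left, hvu, mul_zero])
      (by rw [hq.sym.smul_left, hvu, mul_zero]) ha hb
  inv_mem' := by
    rintro a ⟨c, ha⟩
    refine ⟨-c, ?_⟩
    rw [neg_smul]
    have hvu : f v u = 0 := by rw [s_symm hq.sym, huv]
    exact isRho_inv hq hu (by rw [hq.sym.smul_left, hvu, mul_zero]) ha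

theorem XL_le_Qe (hq : QF Q f) {u v : Fin n → F} (hu : Q u = 0) (hv : Q v = 0)
    (huv : f u v = 0) : XL hq G u v hu hv huv ≤ Qe hq G u hu := by
  rintro t ⟨c, ht⟩
  refine ⟨c • v, ?_, ht⟩
  rw [hq.sym.smul_left, s_symm hq.sym, huv, mul_zero]

theorem Qe_congr (hq : QF Q f) {u u' : Fin n → F} (h : u = u') (hu : Q u = 0) (hu' : Q u' = 0) :
    Qe hq G u hu = Qe hq G u' hu' := by
  subst h
  rfl

/-- the part of `Qe w` fixing `e`. -/
def Qe2 (hq : QF Q f) (G : Subgroup (Matrix.GeneralLinearGroup (Fin n) F)) (w e : Fin n → F)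
    (hw : Q w = 0) : Subgroup ↥G where
  carrier := {r | ∃ y, f y w = 0 ∧ f y e = 0 ∧
    IsRho Q f (r : Matrix.GeneralLinearGroup (Fin n) F) w y}
  one_mem' := ⟨0, f_zero_left hq.sym w, f_zero_left hq.sym e, isRho_one hq w⟩
  mul_mem' := by
    rintro a b ⟨y, hy, hye, ha⟩ ⟨y', hy', hye', hb⟩
    refine ⟨y + y', ?_, ?_, isRho_mul hq hw hy hy' ha hb⟩
    · rw [hq.sym.add_left, hy, hy', add_zero]
    · rw [hq.sym.add_left, hye, hye', add_zero]
  inv_mem' := by
    rintro a ⟨y, hy, hye, ha⟩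
    refine ⟨-y, ?_, ?_, isRho_inv hq hw hy ha⟩
    · rw [f_neg_left hq.sym, hy, neg_zero]
    · rw [f_neg_left hq.sym, hye, neg_zero]

theorem Qe2_le (hq : QF Q f) (w e : Fin n → F) (hw : Q w = 0) :
    Qe2 hq G w e hw ≤ Qe hq G w hw := by
  rintro r ⟨y, hy, _, hr⟩
  exact ⟨y, hy, hr⟩

theorem Qe2_fix (hq : QF Q f) {w e : Fin n → F} (hw : Q w = 0) (hwe : f w e = 0) {r : ↥G}
    (hr : r ∈ Qe2 hq G w e hw) : (r : Matrix.GeneralLinearGroup (Fin n) F) ∙ e = e := by
  obtain ⟨y, _, hye, hr⟩ := hr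
  exact isRho_fix hr hwe hye

theorem Qe2_normalizes (hq : QF Q f) (hG : SgGroupQ Q f G) {w e : Fin n → F} (hw : Q w = 0)
    (he : Q e = 0) (hwe : f w e = 0) :
    Qe2 hq G w e hw ≤ Subgroup.normalizer (Qe hq G e he : Set ↥G) := by
  intro g hg
  have key : ∀ g ∈ Qe2 hq G w e hw, ∀ h ∈ Qe hq G e he, g * h * g⁻¹ ∈ Qe hq G e he := by
    intro g hg h hh
    have h1 := Qe2_fix hq hw hwe hg
    have h2 := Qe_conj hq hG he g (by rw [h1]; exact he) hh
    rw [Qe_congr hq h1 _ he] at h2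
    exact h2
  rw [Subgroup.mem_normalizer_iff]
  intro h
  constructor
  · exact key g hg h
  · intro hh
    have h2 := key g⁻¹ (Subgroup.inv_mem _ hg) _ hh
    have e : g⁻¹ * (g * h * g⁻¹) * g⁻¹⁻¹ = h := by group
    rw [e] at h2
    exact h2

theorem R_isPGroup (hq : QF Q f) (hG : SgGroupQ Q f G) (p : ℕ) [Fact p.Prime] [CharP F p]
    {w e : Fin n → F} (hw : Q w = 0) (he : Q e = 0) (hwe : f w e = 0) :
    IsPGroup p ↥(Qe2 hq G w e hw ⊔ Qe hq G e he) := by
  apply IsPGroup.to_sup_of_normal_right' _ (Qe_isPGroup hq p he) (Qe2_normalizes hq hG hw he hwe)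
  exact (Qe_isPGroup hq p hw).to_le (Qe2_le hq w e hw)

/-- the action of `GL` on vectors. -/
@[reducible] def glAct (n : ℕ) (F : Type*) [Field F] :
    MulAction (Matrix.GeneralLinearGroup (Fin n) F) (Fin n → F) where
  smul g v := g ∙ v
  one_smul v := by
    show (1 : Matrix.GeneralLinearGroup (Fin n) F) ∙ v = v
    rw [Units.val_one, Matrix.one_mulVec]
  mul_smul g h v := Cfsg.Agent.S5643.mul_mv g h v

theorem exists_fixed_vector [Fintype F] (p : ℕ) [Fact p.Prime] [CharP F p] (hn : 1 ≤ n)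
    (P : Subgroup ↥G) (hP : IsPGroup p ↥P) :
    ∃ v : Fin n → F, v ≠ 0 ∧ ∀ g ∈ P, (g : Matrix.GeneralLinearGroup (Fin n) F) ∙ v = v := by
  classical
  let _ := glAct n F
  let _ : MulAction ↥G (Fin n → F) := Subgroup.instMulAction
  obtain ⟨k, hp, hF⟩ := FiniteField.card F p
  have hcard : p ∣ Nat.card (Fin n → F) := by
    rw [Nat.card_eq_fintype_card, Fintype.card_fun, hF, Fintype.card_fin, ← pow_mul]
    apply dvd_pow_self
    have : 0 < (k : ℕ) := k.pos
    have : 0 < (k : ℕ) * n := Nat.mul_pos this (by omega)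
    omega
  have h0 : (0 : Fin n → F) ∈ MulAction.fixedPoints ↥P (Fin n → F) := by
    intro g
    show ((g : ↥G) : Matrix.GeneralLinearGroup (Fin n) F) ∙ (0 : Fin n → F) = 0
    exact Matrix.mulVec_zero _
  obtain ⟨v, hv, hv0⟩ := hP.exists_fixed_point_of_prime_dvd_card_of_fixed_point
    (Fin n → F) hcard h0
  refine ⟨v, fun h => hv0 h.symm, fun g hg => ?_⟩
  exact hv ⟨g, hg⟩

end grp


section sylow
variable {G : Subgroup (Matrix.GeneralLinearGroup (Fin n) F)} [Fintype F]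

theorem sylow_fix_e (hq : QF Q f) (vf : VFacts Q f) (hG : SgGroupQ Q f G) (p : ℕ) [Fact p.Prime]
    [CharP F p] (hn : 1 ≤ n) {e : Fin n → F} (he : Q e = 0) (he0 : e ≠ 0)
    (P : Subgroup ↥G) (hP : IsPGroup p ↥P) (hQ : Qe hq G e he ≤ P) :
    ∀ g ∈ P, (g : Matrix.GeneralLinearGroup (Fin n) F) ∙ e = e := by
  obtain ⟨v, hv0, hv⟩ := exists_fixed_vector p hn P hP
  have h1 : v ∈ Submodule.span F {e} := by
    apply rho_fixed hq vf hG he he0
    intro r y hy hr
    have hrG : r ∈ G := isRho_mem hq vf hG hr he he0 hy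
    exact hv ⟨r, hrG⟩ (hQ ⟨y, hy, hr⟩)
  obtain ⟨k, hk⟩ := Submodule.mem_span_singleton.1 h1
  have hk0 : k ≠ 0 := by
    rintro rfl
    rw [zero_smul] at hk
    exact hv0 hk.symm
  intro g hg
  have h2 := hv g hg
  rw [← hk, Matrix.mulVec_smul] at h2
  exact smul_right_injective _ hk0 h2

theorem exists_perp_pair_out (hq : QF Q f) (vf : VFacts Q f) {e w : Fin n → F} (he : Q e = 0)
    (hw : Q w = 0) (hew : f e w = 0) (he0 : e ≠ 0) (hwn : w ∉ Submodule.span F {e}) :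
    ∃ y, Q y = 0 ∧ f y e = 0 ∧ f y w = 0 ∧ y ∉ Submodule.span F {e, w} := by
  have hf := hq.sym
  obtain ⟨z, w', hz, _, hze, hzw, hw'e, hw'w, hzw'⟩ := vf.perfect e w he hw hew he0 hwn
  refine ⟨z, hz, hze, hzw, ?_⟩
  intro h
  obtain ⟨a, b, hab⟩ := Submodule.mem_span_pair.1 h
  rw [← hab, hf.add_left, hf.smul_left, hf.smul_left, s_symm hf e w', hw'e, s_symm hf w w',
    hw'w] at hzw'
  have : (0 : F) = -1 := by
    rw [← hzw']
    ring
  have h1 : (1 : F) = 0 := by linear_combination this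
  exact one_ne_zero h1

theorem Zs_le_XL (hq : QF Q f) (vf : VFacts Q f) (hG : SgGroupQ Q f G) (p : ℕ) [Fact p.Prime]
    [CharP F p] {e w : Fin n → F} (he : Q e = 0) (hw : Q w = 0) (hew : f e w = 0)
    (he0 : e ≠ 0) (hwn : w ∉ Submodule.span F {e})
    (P : Subgroup ↥G) (hP : IsPGroup p ↥P)
    (hR : Qe2 hq G w e hw ⊔ Qe hq G e he ≤ P) : Zs P ≤ XL hq G e w he hw hew := by
  have hf := hq.sym
  have hwe : f w e = 0 := by rw [s_symm hf, hew]
  intro z hz
  rw [mem_Zs_iff] at hz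
  obtain ⟨k, hk⟩ := hP ⟨z, hz.1⟩
  have hk' : z ^ p ^ k = 1 := by
    have := congrArg Subtype.val hk
    simpa using this
  have h1 : z ∈ Qe hq G e he := by
    apply cent_Qe_p hq vf hG p he he0 z _ k hk'
    intro r hr
    exact (hz.2 r (hR (Subgroup.mem_sup_right hr))).symm
  obtain ⟨y, hye, hzr⟩ := h1
  -- commuting with `Qe2`
  have key : ∀ y', f y' w = 0 → f y' e = 0 →
      f w y • y' - f y' y • w - (Q y' * f w y) • w ∈ Submodule.span F {e} := by
    intro y' hy'w hy'e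
    have hw0 : w ≠ 0 := by
      rintro rfl
      exact hwn (Submodule.zero_mem _)
    obtain ⟨r, hrG, hr⟩ := isRho_ex hq vf hG w y' hw hw0 hy'w
    have hrm : (⟨r, hrG⟩ : ↥G) ∈ Qe2 hq G w e hw := ⟨y', hy'w, hy'e, hr⟩
    have h2 := hz.2 _ (hR (Subgroup.mem_sup_left hrm))
    have h3 : r * (z : Matrix.GeneralLinearGroup (Fin n) F) * r⁻¹ = z := by
      have : r * (z : Matrix.GeneralLinearGroup (Fin n) F) = z * r := congrArg Subtype.val h2
      rw [this, mul_inv_cancel_right]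
    have h4 := isRho_conj hq (hG.iso r hrG) hzr
    rw [h3, isRho_fix hr hwe hy'e] at h4
    have h5 := rho_param hq he he0 h4 hzr
    have h6 : r ∙ y - y = f w y • y' - f y' y • w - (Q y' * f w y) • w := by
      rw [hr y]
      abel
    rw [← h6]
    exact h5
  obtain ⟨y', _, hy'e, hy'w, hy'n⟩ := exists_perp_pair_out hq vf he hw hew he0 hwn
  have hwy : f w y = 0 := by
    by_contra hne
    apply hy'n
    have h2 := key y' hy'w hy'e
    obtain ⟨c, hc⟩ := Submodule.mem_span_singleton.1 h2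
    rw [Submodule.mem_span_pair]
    refine ⟨(f w y)⁻¹ * c, (f w y)⁻¹ * (f y' y + Q y' * f w y), ?_⟩
    have h3 : f w y • y' = c • e + (f y' y + Q y' * f w y) • w := by
      rw [hc]
      module
    rw [mul_smul, mul_smul, ← smul_add, ← h3, smul_smul, inv_mul_cancel₀ hne, one_smul]
  have hy2 : y ∈ Submodule.span F {e, w} := by
    apply dperp_line hf
    intro y'' h1 h2
    have h3 := key y'' h2 h1
    rw [hwy, zero_smul, mul_zero, zero_smul, sub_zero, zero_sub] at h3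
    obtain ⟨c, hc⟩ := Submodule.mem_span_singleton.1 h3
    by_contra hne
    apply hwn
    rw [Submodule.mem_span_singleton]
    refine ⟨-(f y'' y)⁻¹ * c, ?_⟩
    rw [mul_smul, hc, smul_neg, neg_smul, neg_neg, smul_smul, inv_mul_cancel₀ hne, one_smul]
  obtain ⟨a, b, hab⟩ := Submodule.mem_span_pair.1 hy2
  refine ⟨b, ?_⟩
  have h2 := isRho_add_u hq he hye (-a) hzr
  have h3 : y + -a • e = b • w := by
    rw [← hab]
    module
  rw [h3] at h2
  exact h2

theorem exists_ne_one_Qe (hq : QF Q f) (vf : VFacts Q f) (hG : SgGroupQ Q f G) {e : Fin n → F}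
    (he : Q e = 0) (he0 : e ≠ 0) : ∃ x ∈ Qe hq G e he, x ≠ 1 := by
  have hf := hq.sym
  obtain ⟨s, _, hse, hsn⟩ := exists_perp_out hq vf he he0
  obtain ⟨r, hrG, hr⟩ := isRho_ex hq vf hG e s he he0 hse
  refine ⟨⟨r, hrG⟩, ⟨s, hse, hr⟩, ?_⟩
  intro h
  have h1 : r = 1 := congrArg Subtype.val h
  rw [h1] at hr
  have h2 := rho_param hq he he0 hr (isRho_one hq e)
  rw [sub_zero] at h2
  exact hsn h2

theorem XL_le_Zs (hq : QF Q f) (vf : VFacts Q f) (hG : SgGroupQ Q f G) (p : ℕ) [Fact p.Prime]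
    [CharP F p] (hn : 1 ≤ n) {e w : Fin n → F} (he : Q e = 0) (hw : Q w = 0) (hew : f e w = 0)
    (he0 : e ≠ 0) (hwn : w ∉ Submodule.span F {e})
    (P : Subgroup ↥G) (hP : IsPGroup p ↥P)
    (hR : Qe2 hq G w e hw ⊔ Qe hq G e he ≤ P) : XL hq G e w he hw hew ≤ Zs P := by
  have hf := hq.sym
  have hwe : f w e = 0 := by rw [s_symm hf, hew]
  have hQP : Qe hq G e he ≤ P := le_trans le_sup_right hR
  have hfix := sylow_fix_e hq vf hG p hn he he0 P hP hQP
  -- a non-trivial central element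
  obtain ⟨x, hx, hx1⟩ := exists_ne_one_Qe hq vf hG (G := G) he he0
  have : Finite ↥P := inferInstance
  obtain ⟨z, hz, hz1⟩ := Zs_ne_bot p P hP ⟨x, hQP hx, hx1⟩
  obtain ⟨b, hzb⟩ := Zs_le_XL hq vf hG p he hw hew he0 hwn P hP hR hz
  have hb0 : b ≠ 0 := by
    rintro rfl
    rw [zero_smul] at hzb
    apply hz1
    apply Subtype.ext
    exact isRho_unique hzb (isRho_one hq e)
  rw [mem_Zs_iff] at hz
  -- every element of `P` fixes `w` modulo `e`
  have hgw : ∀ g ∈ P, ∃ c : F, (g : Matrix.GeneralLinearGroup (Fin n) F) ∙ w = w + c • e := by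
    intro g hg
    have h2 := hz.2 g hg
    have h3 : (g : Matrix.GeneralLinearGroup (Fin n) F) * z * (g : Matrix.GeneralLinearGroup (Fin n) F)⁻¹ = z := by
      have : (g : Matrix.GeneralLinearGroup (Fin n) F) * z = z * g := congrArg Subtype.val h2
      rw [this, mul_inv_cancel_right]
    have h4 := isRho_conj hq (hG.iso g.1 g.2) hzb
    rw [h3, hfix g hg, Matrix.mulVec_smul] at h4
    have h5 := rho_param hq he he0 h4 hzb
    obtain ⟨c, hc⟩ := Submodule.mem_span_singleton.1 h5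
    refine ⟨b⁻¹ * c, ?_⟩
    have h6 : (g : Matrix.GeneralLinearGroup (Fin n) F) ∙ w =
        w + b⁻¹ • (b • ((g : Matrix.GeneralLinearGroup (Fin n) F) ∙ w) - b • w) := by
      rw [smul_sub, smul_smul, smul_smul, inv_mul_cancel₀ hb0, one_smul, one_smul]
      abel
    rw [h6, ← hc, smul_smul]
  rintro t ⟨c, ht⟩
  rw [mem_Zs_iff]
  refine ⟨hQP (XL_le_Qe hq he hw hew ⟨c, ht⟩), fun g hg => ?_⟩
  obtain ⟨c', hc'⟩ := hgw g hg
  have h4 := isRho_conj hq (hG.iso g.1 g.2) ht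
  rw [hfix g hg, Matrix.mulVec_smul, hc', smul_add, smul_smul] at h4
  have h5 := isRho_add_u hq he (by
    rw [hf.add_left, hf.smul_left, hf.smul_left, hwe, f_sing hq he]
    ring) (-(c * c')) h4
  have h6 : c • w + (c * c') • e + -(c * c') • e = c • w := by module
  rw [h6] at h5
  have h7 : (g : Matrix.GeneralLinearGroup (Fin n) F) * t *
      (g : Matrix.GeneralLinearGroup (Fin n) F)⁻¹ = t := isRho_unique h5 ht
  apply Subtype.ext
  show (g : Matrix.GeneralLinearGroup (Fin n) F) * t = t * g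
  calc (g : Matrix.GeneralLinearGroup (Fin n) F) * t
      = (g : Matrix.GeneralLinearGroup (Fin n) F) * t *
        (g : Matrix.GeneralLinearGroup (Fin n) F)⁻¹ * g := by group
    _ = t * g := by rw [h7]

theorem Zs_sylow_eq (hq : QF Q f) (vf : VFacts Q f) (hG : SgGroupQ Q f G) (p : ℕ) [Fact p.Prime]
    [CharP F p] (hn : 1 ≤ n) {e w : Fin n → F} (he : Q e = 0) (hw : Q w = 0) (hew : f e w = 0)
    (he0 : e ≠ 0) (hwn : w ∉ Submodule.span F {e})
    (P : Subgroup ↥G) (hP : IsPGroup p ↥P)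
    (hR : Qe2 hq G w e hw ⊔ Qe hq G e he ≤ P) : Zs P = XL hq G e w he hw hew :=
  le_antisymm (Zs_le_XL hq vf hG p he hw hew he0 hwn P hP hR)
    (XL_le_Zs hq vf hG p hn he hw hew he0 hwn P hP hR)

end sylow

end Cfsg.Agent.Lib.Helper16.OA
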