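import Mathlib
import Cfsg.Agent.Lib.Helper16.OA3

set_option autoImplicit false
set_option linter.unusedSectionVars false
set_option linter.unusedVariables false

/-! Automorphisms of orthogonal groups, part 4: automorphisms permute the long root groups. -/

namespace Cfsg.Agent.Lib.Helper16.OA

open Matrix Cfsg.Agent.Lib.Helper28.HForm Cfsg.Agent.Lib.Helper28.OGen
  Cfsg.Agent.Lib.Helper28.OMax Cfsg.Agent.Lib.Helper28.OQ Cfsg.Agent.Lib.Helper28.OMax2
  Cfsg.Agent.Lib.Helper28.OIwa Cfsg.Agent.Lib.Helper28.OIwa2 Cfsg.Agent.Lib.Helper28.ONd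
open scoped Pointwise

variable {n : ℕ} {F : Type*} [Field F] {Q : (Fin n → F) → F}
  {f : (Fin n → F) → (Fin n → F) → F}

local notation:73 g:73 " ∙ " x:74 => Matrix.mulVec (Units.val g) x

variable {G : Subgroup (Matrix.GeneralLinearGroup (Fin n) F)}

/-- the projection to the central quotient. -/
def mkG (G : Subgroup (Matrix.GeneralLinearGroup (Fin n) F)) : ↥G →* ↥G ⧸ Subgroup.center ↥G :=
  QuotientGroup.mk' _

theorem mkG_surjective : Function.Surjective (mkG G) := QuotientGroup.mk'_surjective _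

theorem mkG_eq_iff (a b : ↥G) : mkG G a = mkG G b ↔ a⁻¹ * b ∈ Subgroup.center ↥G :=
  QuotientGroup.eq

theorem mkG_eq_one_iff (a : ↥G) : mkG G a = 1 ↔ a ∈ Subgroup.center ↥G :=
  QuotientGroup.eq_one_iff a

/-- the image of a long root group in the central quotient. -/
def Xb (hq : QF Q f) (G : Subgroup (Matrix.GeneralLinearGroup (Fin n) F)) (u v : Fin n → F)
    (hu : Q u = 0) (hv : Q v = 0) (huv : f u v = 0) : Subgroup (↥G ⧸ Subgroup.center ↥G) :=
  (XL hq G u v hu hv huv).map (mkG G)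

/-- the image of `Qe u` in the central quotient. -/
def Qb (hq : QF Q f) (G : Subgroup (Matrix.GeneralLinearGroup (Fin n) F)) (u : Fin n → F)
    (hu : Q u = 0) : Subgroup (↥G ⧸ Subgroup.center ↥G) :=
  (Qe hq G u hu).map (mkG G)

theorem XL_conj (hq : QF Q f) (hG : SgGroupQ Q f G) {u v : Fin n → F} (hu : Q u = 0)
    (hv : Q v = 0) (huv : f u v = 0) (g : ↥G)
    (hu' : Q ((g : Matrix.GeneralLinearGroup (Fin n) F) ∙ u) = 0)
    (hv' : Q ((g : Matrix.GeneralLinearGroup (Fin n) F) ∙ v) = 0)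
    (huv' : f ((g : Matrix.GeneralLinearGroup (Fin n) F) ∙ u)
      ((g : Matrix.GeneralLinearGroup (Fin n) F) ∙ v) = 0) :
    (XL hq G u v hu hv huv).map (MulAut.conj g).toMonoidHom =
      XL hq G ((g : Matrix.GeneralLinearGroup (Fin n) F) ∙ u)
        ((g : Matrix.GeneralLinearGroup (Fin n) F) ∙ v) hu' hv' huv' := by
  ext x
  constructor
  · rintro ⟨t, ⟨c, ht⟩, rfl⟩
    refine ⟨c, ?_⟩
    have h1 := isRho_conj hq (hG.iso g.1 g.2) ht
    rw [Matrix.mulVec_smul] at h1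
    exact h1
  · rintro ⟨c, hx⟩
    refine ⟨g⁻¹ * x * g, ⟨c, ?_⟩, ?_⟩
    · have h1 := isRho_conj hq (hG.iso (g⁻¹ : ↥G).1 (g⁻¹ : ↥G).2) hx
      have e1 : ((g⁻¹ : ↥G) : Matrix.GeneralLinearGroup (Fin n) F) =
          (g : Matrix.GeneralLinearGroup (Fin n) F)⁻¹ := rfl
      rw [e1, inv_inv, Cfsg.Agent.S5643.inv_mv, Matrix.mulVec_smul, Cfsg.Agent.S5643.inv_mv] at h1
      exact h1
    · show g * (g⁻¹ * x * g) * g⁻¹ = x
      group

theorem Xb_conj (hq : QF Q f) (hG : SgGroupQ Q f G) {u v : Fin n → F} (hu : Q u = 0)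
    (hv : Q v = 0) (huv : f u v = 0) (g : ↥G)
    (hu' : Q ((g : Matrix.GeneralLinearGroup (Fin n) F) ∙ u) = 0)
    (hv' : Q ((g : Matrix.GeneralLinearGroup (Fin n) F) ∙ v) = 0)
    (huv' : f ((g : Matrix.GeneralLinearGroup (Fin n) F) ∙ u)
      ((g : Matrix.GeneralLinearGroup (Fin n) F) ∙ v) = 0) :
    (Xb hq G u v hu hv huv).map (MulAut.conj (mkG G g)).toMonoidHom =
      Xb hq G ((g : Matrix.GeneralLinearGroup (Fin n) F) ∙ u)
        ((g : Matrix.GeneralLinearGroup (Fin n) F) ∙ v) hu' hv' huv' := by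
  unfold Xb
  rw [← XL_conj hq hG hu hv huv g hu' hv' huv', Subgroup.map_map, Subgroup.map_map]
  congr 1

theorem Qb_conj (hq : QF Q f) (hG : SgGroupQ Q f G) {u : Fin n → F} (hu : Q u = 0) (g : ↥G)
    (hu' : Q ((g : Matrix.GeneralLinearGroup (Fin n) F) ∙ u) = 0) :
    (Qb hq G u hu).map (MulAut.conj (mkG G g)).toMonoidHom =
      Qb hq G ((g : Matrix.GeneralLinearGroup (Fin n) F) ∙ u) hu' := by
  have key : (Qe hq G u hu).map (MulAut.conj g).toMonoidHom =
      Qe hq G ((g : Matrix.GeneralLinearGroup (Fin n) F) ∙ u) hu' := by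
    ext x
    constructor
    · rintro ⟨t, ht, rfl⟩
      exact Qe_conj hq hG hu g hu' ht
    · intro hx
      refine ⟨g⁻¹ * x * g, ?_, ?_⟩
      · have h1 := Qe_conj hq hG hu' g⁻¹ (by
          have e1 : ((g⁻¹ : ↥G) : Matrix.GeneralLinearGroup (Fin n) F) =
            (g : Matrix.GeneralLinearGroup (Fin n) F)⁻¹ := rfl
          rw [e1, Cfsg.Agent.S5643.inv_mv]
          exact hu) hx
        have e1 : ((g⁻¹ : ↥G) : Matrix.GeneralLinearGroup (Fin n) F) =
            (g : Matrix.GeneralLinearGroup (Fin n) F)⁻¹ := rfl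
        have e2 : ((g⁻¹ : ↥G) : Matrix.GeneralLinearGroup (Fin n) F) ∙
            ((g : Matrix.GeneralLinearGroup (Fin n) F) ∙ u) = u := by
          rw [e1, Cfsg.Agent.S5643.inv_mv]
        rw [Qe_congr hq e2 _ hu, inv_inv] at h1
        exact h1
      · show g * (g⁻¹ * x * g) * g⁻¹ = x
        group
  unfold Qb
  rw [← key, Subgroup.map_map, Subgroup.map_map]
  congr 1

section transfer
variable [Fintype F]

theorem Zs_map_mk_le (hq : QF Q f) (vf : VFacts Q f) (hG : SgGroupQ Q f G) (p : ℕ)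
    [Fact p.Prime] [CharP F p] (P : Subgroup ↥G) (hP : IsPGroup p ↥P) :
    Zs (P.map (mkG G)) ≤ (Zs P).map (mkG G) := by
  intro zb hzb
  rw [mem_Zs_iff] at hzb
  obtain ⟨⟨z, hz, rfl⟩, hc⟩ := hzb
  refine ⟨z, ?_, rfl⟩
  show z ∈ Zs P
  rw [mem_Zs_iff]
  refine ⟨hz, fun h hh => ?_⟩
  have h1 := hc _ (Subgroup.mem_map_of_mem _ hh)
  rw [← map_mul, ← map_mul, mkG_eq_iff] at h1
  have h2 : (h * z)⁻¹ * (z * h) ∈ P := mul_mem (inv_mem (mul_mem hh hz)) (mul_mem hz hh)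
  obtain ⟨k, hk⟩ := hP ⟨_, h2⟩
  have hk' : ((h * z)⁻¹ * (z * h)) ^ p ^ k = 1 := by
    have := congrArg Subtype.val hk
    simpa using this
  have h3 := center_unip hq vf hG p _ h1 k hk'
  have h4 : h * z * ((h * z)⁻¹ * (z * h)) = h * z * 1 := by rw [h3]
  rw [mul_one, mul_inv_cancel_left] at h4
  exact h4.symm

/-- automorphisms permute the images of the long root groups. -/
theorem aut_Xb (hq : QF Q f) (vf : VFacts Q f) (hG : SgGroupQ Q f G) (p : ℕ) [Fact p.Prime]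
    [CharP F p] (hn : 1 ≤ n) {e w : Fin n → F} (he : Q e = 0) (hw : Q w = 0) (hew : f e w = 0)
    (he0 : e ≠ 0) (hwn : w ∉ Submodule.span F {e}) (α : MulAut (↥G ⧸ Subgroup.center ↥G)) :
    ∃ (e' w' : Fin n → F) (he' : Q e' = 0) (hw' : Q w' = 0) (hew' : f e' w' = 0),
      e' ≠ 0 ∧ w' ∉ Submodule.span F {e'} ∧
      (Xb hq G e w he hw hew).map α.toMonoidHom = Xb hq G e' w' he' hw' hew' := by
  have hf := hq.sym
  have hwe : f w e = 0 := by rw [s_symm hf, hew]
  obtain ⟨P₁, hR⟩ := (R_isPGroup hq hG p hw he hwe).exists_le_sylow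
  set Pb : Sylow p (↥G ⧸ Subgroup.center ↥G) := P₁.mapSurjective mkG_surjective with hPb_def
  obtain ⟨xb, hx⟩ := MulAction.exists_smul_eq (↥G ⧸ Subgroup.center ↥G) Pb (α • Pb)
  have h1 := congrArg (fun P : Sylow p (↥G ⧸ Subgroup.center ↥G) => P.toSubgroup) hx
  simp only [Sylow.coe_subgroup_smul, Sylow.pointwise_smul_def] at h1
  obtain ⟨x, rfl⟩ := mkG_surjective xb
  have hPb : (Pb : Subgroup (↥G ⧸ Subgroup.center ↥G)) = P₁.toSubgroup.map (mkG G) := rfl
  have h2 : (Pb : Subgroup (↥G ⧸ Subgroup.center ↥G)).map (MulAut.conj (mkG G x)).toMonoidHom =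
      (Pb : Subgroup (↥G ⧸ Subgroup.center ↥G)).map α.toMonoidHom := h1
  have hZ : Zs (Pb : Subgroup (↥G ⧸ Subgroup.center ↥G)) = Xb hq G e w he hw hew := by
    rw [hPb]
    unfold Xb
    rw [← Zs_sylow_eq hq vf hG p hn he hw hew he0 hwn P₁ P₁.2 hR]
    exact le_antisymm (Zs_map_mk_le hq vf hG p _ P₁.2) (map_Zs_le _ _)
  have hxiso := hG.iso x.1 x.2
  have hxf := iso_f hq x.1 hxiso
  refine ⟨(x : Matrix.GeneralLinearGroup (Fin n) F) ∙ e, (x : Matrix.GeneralLinearGroup (Fin n) F) ∙ w,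
    by rw [hxiso, he], by rw [hxiso, hw], by rw [hxf, hew], ?_, ?_, ?_⟩
  · intro h
    apply he0
    have := Cfsg.Agent.S5643.inv_mv (x : Matrix.GeneralLinearGroup (Fin n) F) e
    rw [h, Matrix.mulVec_zero] at this
    exact this.symm
  · intro h
    apply hwn
    obtain ⟨c, hc⟩ := Submodule.mem_span_singleton.1 h
    rw [Submodule.mem_span_singleton]
    refine ⟨c, ?_⟩
    have h3 := congrArg (fun v => ((x : Matrix.GeneralLinearGroup (Fin n) F)⁻¹) ∙ v) hc
    simp only [Matrix.mulVec_smul, Cfsg.Agent.S5643.inv_mv] at h3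
    exact h3
  · rw [← hZ, map_Zs, ← h2, ← map_Zs, hZ, Xb_conj hq hG he hw hew x]

end transfer

end Cfsg.Agent.Lib.Helper16.OA
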