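import Mathlib
import Cfsg.Agent.Lib.Helper16.OA4

set_option autoImplicit false
set_option linter.unusedSectionVars false
set_option linter.unusedVariables false

/-! Automorphisms of orthogonal groups, part 5: totally singular lines and their root groups. -/

namespace Cfsg.Agent.Lib.Helper16.OA

open Matrix Cfsg.Agent.Lib.Helper28.HForm Cfsg.Agent.Lib.Helper28.OGen
  Cfsg.Agent.Lib.Helper28.OMax Cfsg.Agent.Lib.Helper28.OQ Cfsg.Agent.Lib.Helper28.OMax2
  Cfsg.Agent.Lib.Helper28.OIwa Cfsg.Agent.Lib.Helper28.OIwa2 Cfsg.Agent.Lib.Helper28.ONd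

variable {n : ℕ} {F : Type*} [Field F] {Q : (Fin n → F) → F}
  {f : (Fin n → F) → (Fin n → F) → F}

local notation:73 g:73 " ∙ " x:74 => Matrix.mulVec (Units.val g) x

/-- a totally singular line with a chosen basis. -/
structure TSL (Q : (Fin n → F) → F) (f : (Fin n → F) → (Fin n → F) → F) where
  u : Fin n → F
  v : Fin n → F
  hu : Q u = 0
  hv : Q v = 0
  huv : f u v = 0
  hu0 : u ≠ 0
  hvn : v ∉ Submodule.span F {u}

/-- the underlying subspace. -/
def TSL.L (l : TSL Q f) : Submodule F (Fin n → F) := Submodule.span F {l.u, l.v}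

theorem TSL.mem_L (l : TSL Q f) (x : Fin n → F) : x ∈ l.L ↔ ∃ a b : F, a • l.u + b • l.v = x :=
  Submodule.mem_span_pair

theorem TSL.u_mem (l : TSL Q f) : l.u ∈ l.L := Submodule.subset_span (by simp)
theorem TSL.v_mem (l : TSL Q f) : l.v ∈ l.L := Submodule.subset_span (by simp)

theorem TSL.hv0 (l : TSL Q f) : l.v ≠ 0 := by
  intro h
  apply l.hvn
  rw [h]
  exact Submodule.zero_mem _

theorem TSL.indep (l : TSL Q f) {a b : F} (h : a • l.u + b • l.v = 0) : a = 0 ∧ b = 0 :=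
  (LinearIndependent.pair_iff).1 (li2 l.u l.v l.hu0 l.hvn) a b h

theorem TSL.sing (hq : QF Q f) (l : TSL Q f) {x : Fin n → F} (hx : x ∈ l.L) : Q x = 0 := by
  obtain ⟨a, b, rfl⟩ := (l.mem_L x).1 hx
  rw [hq.polar, hq.smul, hq.smul, l.hu, l.hv, hq.sym.smul_left, s_smul_right hq.sym, l.huv]
  ring

theorem TSL.perp_self (hq : QF Q f) (l : TSL Q f) {x y : Fin n → F} (hx : x ∈ l.L)
    (hy : y ∈ l.L) : f x y = 0 := by
  have h1 := hq.polar x y
  rw [l.sing hq (l.L.add_mem hx hy), l.sing hq hx, l.sing hq hy] at h1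
  linear_combination -h1

theorem TSL.finrank_L (l : TSL Q f) : Module.finrank F l.L = 2 := by
  have h1 := finrank_span_eq_card (li2 l.u l.v l.hu0 l.hvn)
  have h2 : Set.range ![l.u, l.v] = {l.u, l.v} := by
    ext x
    simp only [Matrix.range_cons, Matrix.range_empty, Set.union_empty, Set.union_singleton,
      Set.mem_insert_iff, Set.mem_singleton_iff]
    tauto
  rw [h2] at h1
  rw [TSL.L, h1]
  simp

theorem TSL.eq_of_le (l l' : TSL Q f) (h : l.L ≤ l'.L) : l.L = l'.L := by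
  apply Submodule.eq_of_le_of_finrank_eq h
  rw [l.finrank_L, l'.finrank_L]

/-- a line through two independent vectors of a totally singular line. -/
def TSL.mk' (hq : QF Q f) (l : TSL Q f) (p r : Fin n → F) (hp : p ∈ l.L) (hr : r ∈ l.L)
    (hp0 : p ≠ 0) (hrn : r ∉ Submodule.span F {p}) : TSL Q f where
  u := p
  v := r
  hu := l.sing hq hp
  hv := l.sing hq hr
  huv := l.perp_self hq hp hr
  hu0 := hp0
  hvn := hrn

theorem TSL.mk'_L (hq : QF Q f) (l : TSL Q f) (p r : Fin n → F) (hp : p ∈ l.L) (hr : r ∈ l.L)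
    (hp0 : p ≠ 0) (hrn : r ∉ Submodule.span F {p}) :
    (l.mk' hq p r hp hr hp0 hrn).L = l.L := by
  apply TSL.eq_of_le
  unfold TSL.L
  rw [Submodule.span_le]
  intro x hx
  simp only [Set.mem_insert_iff, Set.mem_singleton_iff] at hx
  rcases hx with rfl | rfl
  · exact hp
  · exact hr

/-- every non-zero vector of a line is the first vector of a basis. -/
theorem TSL.exists_basis (hq : QF Q f) (l : TSL Q f) (p : Fin n → F) (hp : p ∈ l.L)
    (hp0 : p ≠ 0) : ∃ l' : TSL Q f, l'.u = p ∧ l'.L = l.L := by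
  by_cases h : l.u ∈ Submodule.span F {p}
  · have hv : l.v ∉ Submodule.span F {p} := by
      intro hv
      obtain ⟨a, ha⟩ := Submodule.mem_span_singleton.1 h
      obtain ⟨b, hb⟩ := Submodule.mem_span_singleton.1 hv
      have ha0 : a ≠ 0 := by
        rintro rfl
        rw [zero_smul] at ha
        exact l.hu0 ha.symm
      apply l.hvn
      rw [Submodule.mem_span_singleton]
      refine ⟨b * a⁻¹, ?_⟩
      rw [← ha, ← hb, smul_smul, mul_assoc, inv_mul_cancel₀ ha0, mul_one]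
    exact ⟨l.mk' hq p l.v hp l.v_mem hp0 hv, rfl, l.mk'_L hq _ _ _ _ _ _⟩
  · exact ⟨l.mk' hq p l.u hp l.u_mem hp0 h, rfl, l.mk'_L hq _ _ _ _ _ _⟩

/-- two lines meet. -/
def Meet (l l' : TSL Q f) : Prop := ∃ p, p ≠ 0 ∧ p ∈ l.L ∧ p ∈ l'.L

/-- two lines are perpendicular. -/
def PerpL (f : (Fin n → F) → (Fin n → F) → F) (l l' : TSL Q f) : Prop :=
  ∀ x ∈ l.L, ∀ y ∈ l'.L, f x y = 0

theorem perpL_iff (hf : SymF f) (l l' : TSL Q f) :
    PerpL f l l' ↔ f l.u l'.u = 0 ∧ f l.u l'.v = 0 ∧ f l.v l'.u = 0 ∧ f l.v l'.v = 0 := by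
  constructor
  · intro h
    exact ⟨h _ l.u_mem _ l'.u_mem, h _ l.u_mem _ l'.v_mem, h _ l.v_mem _ l'.u_mem,
      h _ l.v_mem _ l'.v_mem⟩
  · rintro ⟨h1, h2, h3, h4⟩ x hx y hy
    obtain ⟨a, b, rfl⟩ := (l.mem_L x).1 hx
    obtain ⟨c, d, rfl⟩ := (l'.mem_L y).1 hy
    simp only [hf.add_left, f_add_right hf, hf.smul_left, s_smul_right hf, h1, h2, h3, h4]
    ring

theorem Meet.symm {l l' : TSL Q f} (h : Meet l l') : Meet l' l := by
  obtain ⟨p, hp0, h1, h2⟩ := h
  exact ⟨p, hp0, h2, h1⟩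

theorem PerpL.symm (hf : SymF f) {l l' : TSL Q f} (h : PerpL f l l') : PerpL f l' l := by
  intro x hx y hy
  rw [s_symm hf]
  exact h y hy x hx

/-- the bivector operator of a line. -/
def Aop (f : (Fin n → F) → (Fin n → F) → F) (u v x : Fin n → F) : Fin n → F :=
  f u x • v - f v x • u

theorem isRho_sing_iff (hq : QF Q f) {u v : Fin n → F} (hv : Q v = 0) (c : F)
    (r : Matrix.GeneralLinearGroup (Fin n) F) :
    IsRho Q f r u (c • v) ↔ ∀ x, r ∙ x = x + c • Aop f u v x := by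
  have hf := hq.sym
  have e : ∀ x, x + f u x • (c • v) - f (c • v) x • u - (Q (c • v) * f u x) • u
      = x + c • Aop f u v x := by
    intro x
    unfold Aop
    rw [hf.smul_left, hq.smul, hv]
    module
  constructor
  · intro h x
    rw [h x, e]
  · intro h x
    rw [h x, e]

theorem Aop_change (hf : SymF f) (u v : Fin n → F) (a b c d : F) (x : Fin n → F) :
    Aop f (a • u + b • v) (c • u + d • v) x = (a * d - b * c) • Aop f u v x := by
  unfold Aop
  rw [hf.add_left, hf.add_left, hf.smul_left, hf.smul_left, hf.smul_left, hf.smul_left]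
  module

section grp
variable {G : Subgroup (Matrix.GeneralLinearGroup (Fin n) F)}

/-- the root group of a line, in `G`. -/
def TSL.XG (hq : QF Q f) (G : Subgroup (Matrix.GeneralLinearGroup (Fin n) F)) (l : TSL Q f) :
    Subgroup ↥G := XL hq G l.u l.v l.hu l.hv l.huv

/-- the root group of a line, in the central quotient. -/
def TSL.X (hq : QF Q f) (G : Subgroup (Matrix.GeneralLinearGroup (Fin n) F)) (l : TSL Q f) :
    Subgroup (↥G ⧸ Subgroup.center ↥G) := Xb hq G l.u l.v l.hu l.hv l.huv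

theorem TSL.mem_XG (hq : QF Q f) (l : TSL Q f) (t : ↥G) :
    t ∈ l.XG hq G ↔ ∃ c : F, ∀ x, (t : Matrix.GeneralLinearGroup (Fin n) F) ∙ x =
      x + c • Aop f l.u l.v x := by
  constructor
  · rintro ⟨c, hc⟩
    exact ⟨c, (isRho_sing_iff hq l.hv c _).1 hc⟩
  · rintro ⟨c, hc⟩
    exact ⟨c, (isRho_sing_iff hq l.hv c _).2 hc⟩

theorem XG_le_of_L_le (hq : QF Q f) (l l' : TSL Q f) (h : l.L ≤ l'.L) :
    l.XG hq G ≤ l'.XG hq G := by
  have hf := hq.sym
  obtain ⟨a, b, hab⟩ := (l'.mem_L _).1 (h l.u_mem)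
  obtain ⟨c, d, hcd⟩ := (l'.mem_L _).1 (h l.v_mem)
  intro t ht
  rw [TSL.mem_XG] at ht ⊢
  obtain ⟨k, hk⟩ := ht
  refine ⟨k * (a * d - b * c), fun x => ?_⟩
  rw [hk x, ← hab, ← hcd, Aop_change hf, smul_smul]

theorem XG_eq_of_L_eq (hq : QF Q f) (l l' : TSL Q f) (h : l.L = l'.L) :
    l.XG hq G = l'.XG hq G :=
  le_antisymm (XG_le_of_L_le hq l l' h.le) (XG_le_of_L_le hq l' l h.ge)

theorem X_eq_of_L_eq (hq : QF Q f) (l l' : TSL Q f) (h : l.L = l'.L) :
    l.X hq G = l'.X hq G := by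
  show (l.XG hq G).map (mkG G) = (l'.XG hq G).map (mkG G)
  rw [XG_eq_of_L_eq hq l l' h]

theorem XG_le_Qe (hq : QF Q f) (l : TSL Q f) : l.XG hq G ≤ Qe hq G l.u l.hu :=
  XL_le_Qe hq l.hu l.hv l.huv

/-- the standard element of a root group. -/
theorem TSL.exists_elt (hq : QF Q f) (vf : VFacts Q f) (hG : SgGroupQ Q f G) (l : TSL Q f)
    (c : F) : ∃ t : ↥G, ∀ x, (t : Matrix.GeneralLinearGroup (Fin n) F) ∙ x =
      x + c • Aop f l.u l.v x := by
  have hf := hq.sym
  obtain ⟨r, hrG, hr⟩ := isRho_ex hq vf hG l.u (c • l.v) l.hu l.hu0 (by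
    rw [hf.smul_left, s_symm hf, l.huv, mul_zero])
  exact ⟨⟨r, hrG⟩, (isRho_sing_iff hq l.hv c r).1 hr⟩

end grp

end Cfsg.Agent.Lib.Helper16.OA
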