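import Mathlib
import Cfsg.Agent.Lib.Helper16.OA5

set_option autoImplicit false
set_option linter.unusedSectionVars false
set_option linter.unusedVariables false

/-! Automorphisms of orthogonal groups, part 6: relations between long root groups. -/

namespace Cfsg.Agent.Lib.Helper16.OA

open Matrix Cfsg.Agent.Lib.Helper28.HForm Cfsg.Agent.Lib.Helper28.OGen
  Cfsg.Agent.Lib.Helper28.OMax Cfsg.Agent.Lib.Helper28.OQ Cfsg.Agent.Lib.Helper28.OMax2
  Cfsg.Agent.Lib.Helper28.OIwa Cfsg.Agent.Lib.Helper28.OIwa2 Cfsg.Agent.Lib.Helper28.ONd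

variable {n : ℕ} {F : Type*} [Field F] {Q : (Fin n → F) → F}
  {f : (Fin n → F) → (Fin n → F) → F}

local notation:73 g:73 " ∙ " x:74 => Matrix.mulVec (Units.val g) x

theorem Aop_add (hf : SymF f) (u v x y : Fin n → F) :
    Aop f u v (x + y) = Aop f u v x + Aop f u v y := by
  unfold Aop
  rw [f_add_right hf, f_add_right hf]
  module

theorem Aop_smul (hf : SymF f) (u v : Fin n → F) (c : F) (x : Fin n → F) :
    Aop f u v (c • x) = c • Aop f u v x := by
  unfold Aop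
  rw [s_smul_right hf, s_smul_right hf]
  module

theorem Aop_mem (l : TSL Q f) (x : Fin n → F) : Aop f l.u l.v x ∈ l.L := by
  unfold Aop
  exact l.L.sub_mem (l.L.smul_mem _ l.v_mem) (l.L.smul_mem _ l.u_mem)

theorem Aop_perp (hf : SymF f) (l : TSL Q f) {x : Fin n → F} (h1 : f l.u x = 0)
    (h2 : f l.v x = 0) : Aop f l.u l.v x = 0 := by
  unfold Aop
  rw [h1, h2, zero_smul, zero_smul, sub_zero]

theorem exists_Aop_v (hf : SymF f) (l : TSL Q f) : ∃ x, Aop f l.u l.v x = l.v := by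
  obtain ⟨z, hz⟩ := lin_solve hf _ (li2 l.u l.v l.hu0 l.hvn) ![1, 0]
  have h1 : f z l.u = 1 := by simpa using hz 0
  have h2 : f z l.v = 0 := by simpa using hz 1
  refine ⟨z, ?_⟩
  unfold Aop
  rw [s_symm hf, h1, s_symm hf l.v, h2]
  module

theorem exists_Aop_u (hf : SymF f) (l : TSL Q f) : ∃ x, Aop f l.u l.v x = l.u := by
  obtain ⟨z, hz⟩ := lin_solve hf _ (li2 l.u l.v l.hu0 l.hvn) ![0, -1]
  have h1 : f z l.u = 0 := by simpa using hz 0
  have h2 : f z l.v = -1 := by simpa using hz 1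
  refine ⟨z, ?_⟩
  unfold Aop
  rw [s_symm hf, h1, s_symm hf l.v, h2]
  module

theorem Aop_eq_zero_iff (hf : SymF f) (l : TSL Q f) (x : Fin n → F) :
    Aop f l.u l.v x = 0 ↔ f l.u x = 0 ∧ f l.v x = 0 := by
  constructor
  · intro h
    unfold Aop at h
    have h1 : (-(f l.v x)) • l.u + f l.u x • l.v = 0 := by
      rw [← h]
      module
    obtain ⟨h2, h3⟩ := l.indep h1
    exact ⟨h3, neg_eq_zero.1 h2⟩
  · rintro ⟨h1, h2⟩
    exact Aop_perp hf l h1 h2

section grp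
variable {G : Subgroup (Matrix.GeneralLinearGroup (Fin n) F)}

theorem XG_pow_char (hq : QF Q f) (p : ℕ) [CharP F p] (l : TSL Q f) {t : ↥G}
    (ht : t ∈ l.XG hq G) : t ^ p = 1 :=
  Qe_pow_char hq p l.hu (XG_le_Qe hq l ht)

/-- two elements of order dividing `p` with the same image in the central quotient coincide. -/
theorem lift_eq (hq : QF Q f) (vf : VFacts Q f) (hG : SgGroupQ Q f G) (p : ℕ) [Fact p.Prime]
    [CharP F p] {a b : ↥G} (ha : a ^ p = 1) (hb : b ^ p = 1) (h : mkG G a = mkG G b) :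
    a = b := by
  rw [mkG_eq_iff] at h
  have hc : Commute a (a⁻¹ * b) := (Subgroup.mem_center_iff.1 h) a
  have h1 : (a⁻¹ * b) ^ p ^ 1 = 1 := by
    rw [pow_one]
    have h2 : b = a * (a⁻¹ * b) := by group
    have h3 : b ^ p = a ^ p * (a⁻¹ * b) ^ p := by
      conv_lhs => rw [h2]
      exact hc.mul_pow p
    rw [hb, ha, one_mul] at h3
    exact h3.symm
  have h4 := center_unip hq vf hG p _ h 1 h1
  rw [inv_mul_eq_one] at h4
  exact h4

/-- commuting in the central quotient lifts for elements of order dividing `p`. -/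
theorem lift_comm (hq : QF Q f) (vf : VFacts Q f) (hG : SgGroupQ Q f G) (p : ℕ) [Fact p.Prime]
    [CharP F p] {a b : ↥G} (hb : b ^ p = 1)
    (h : mkG G a * mkG G b = mkG G b * mkG G a) : a * b = b * a := by
  have h1 : (a * b * a⁻¹) ^ p = 1 := by
    rw [conj_pow, hb, mul_one, mul_inv_cancel]
  have h2 : mkG G (a * b * a⁻¹) = mkG G b := by
    rw [map_mul, map_mul, h, map_inv, mul_inv_cancel_right]
  have h3 := lift_eq hq vf hG p h1 hb h2
  calc a * b = a * b * a⁻¹ * a := by group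
    _ = b * a := by rw [h3]

/-- elementwise commuting of two subgroups. -/
def Comm {X : Type*} [Group X] (A B : Subgroup X) : Prop := ∀ a ∈ A, ∀ b ∈ B, a * b = b * a

theorem comm_of_meet (hq : QF Q f) (l l' : TSL Q f) (h : Meet l l') :
    Comm (l.X hq G) (l'.X hq G) := by
  obtain ⟨p, hp0, h1, h2⟩ := h
  obtain ⟨m, hmu, hmL⟩ := l.exists_basis hq p h1 hp0
  obtain ⟨m', hmu', hmL'⟩ := l'.exists_basis hq p h2 hp0
  rw [← X_eq_of_L_eq hq m l hmL, ← X_eq_of_L_eq hq m' l' hmL']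
  rintro _ ⟨a, ha, rfl⟩ _ ⟨b, hb, rfl⟩
  have ha' := XG_le_Qe hq m ha
  have hb' := XG_le_Qe hq m' hb
  rw [Qe_congr hq hmu m.hu (l.sing hq h1)] at ha'
  rw [Qe_congr hq hmu' m'.hu (l.sing hq h1)] at hb'
  rw [← map_mul, ← map_mul, Qe_comm hq _ ha' hb']

theorem XG_comm_of_perp (hq : QF Q f) (l l' : TSL Q f) (h : PerpL f l l') {a b : ↥G}
    (ha : a ∈ l.XG hq G) (hb : b ∈ l'.XG hq G) : a * b = b * a := by
  have hf := hq.sym
  rw [TSL.mem_XG] at ha hb
  obtain ⟨c, hc⟩ := ha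
  obtain ⟨c', hc'⟩ := hb
  have h' := PerpL.symm hf h
  apply Subtype.ext
  apply gl_ext
  intro x
  show (a.1 * b.1) ∙ x = (b.1 * a.1) ∙ x
  rw [Cfsg.Agent.S5643.mul_mv, Cfsg.Agent.S5643.mul_mv, hc' x, hc x, hc, hc', Aop_add hf,
    Aop_add hf, Aop_smul hf, Aop_smul hf]
  have e1 : Aop f l.u l.v (Aop f l'.u l'.v x) = 0 :=
    Aop_perp hf l (h _ l.u_mem _ (Aop_mem l' x)) (h _ l.v_mem _ (Aop_mem l' x))
  have e2 : Aop f l'.u l'.v (Aop f l.u l.v x) = 0 :=
    Aop_perp hf l' (h' _ l'.u_mem _ (Aop_mem l x)) (h' _ l'.v_mem _ (Aop_mem l x))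
  rw [e1, e2]
  module

theorem comm_of_perp (hq : QF Q f) (l l' : TSL Q f) (h : PerpL f l l') :
    Comm (l.X hq G) (l'.X hq G) := by
  rintro _ ⟨a, ha, rfl⟩ _ ⟨b, hb, rfl⟩
  rw [← map_mul, ← map_mul, XG_comm_of_perp hq l l' h ha hb]

theorem meet_or_perp_of_comm (hq : QF Q f) (vf : VFacts Q f) (hG : SgGroupQ Q f G) (p : ℕ)
    [Fact p.Prime] [CharP F p] (l l' : TSL Q f) (h : Comm (l.X hq G) (l'.X hq G)) :
    Meet l l' ∨ PerpL f l l' := by
  have hf := hq.sym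
  by_contra hcon
  push Not at hcon
  obtain ⟨hnm, hnp⟩ := hcon
  obtain ⟨t, ht⟩ := l.exists_elt hq vf hG (G := G) 1
  obtain ⟨t', ht'⟩ := l'.exists_elt hq vf hG (G := G) 1
  have htX : t ∈ l.XG hq G := (l.mem_XG hq t).2 ⟨1, ht⟩
  have htX' : t' ∈ l'.XG hq G := (l'.mem_XG hq t').2 ⟨1, ht'⟩
  have h1 := h _ (Subgroup.mem_map_of_mem _ htX) _ (Subgroup.mem_map_of_mem _ htX')
  have h2 := lift_comm hq vf hG p (XG_pow_char hq p l' htX') h1
  have key : ∀ x, Aop f l.u l.v (Aop f l'.u l'.v x) = 0 := by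
    intro x
    have h3 : (t.1 * t'.1) ∙ x = (t'.1 * t.1) ∙ x := by
      have : t.1 * t'.1 = t'.1 * t.1 := congrArg Subtype.val h2
      rw [this]
    rw [Cfsg.Agent.S5643.mul_mv, Cfsg.Agent.S5643.mul_mv, ht' x, ht x, ht, ht', Aop_add hf,
      Aop_add hf, Aop_smul hf, Aop_smul hf] at h3
    have h4 : Aop f l.u l.v (Aop f l'.u l'.v x) = Aop f l'.u l'.v (Aop f l.u l.v x) := by
      have e : Aop f l.u l.v (Aop f l'.u l'.v x) =
          (x + (1:F) • Aop f l'.u l'.v x + (1:F) • (Aop f l.u l.v x +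
            (1:F) • Aop f l.u l.v (Aop f l'.u l'.v x))) - x - Aop f l'.u l'.v x
            - Aop f l.u l.v x := by module
      rw [e, h3]
      module
    by_contra hne
    apply hnm
    refine ⟨_, hne, Aop_mem l _, ?_⟩
    rw [h4]
    exact Aop_mem l' _
  apply hnp
  rw [perpL_iff hf]
  obtain ⟨x₁, hx₁⟩ := exists_Aop_u hf l'
  obtain ⟨x₂, hx₂⟩ := exists_Aop_v hf l'
  have k1 := key x₁
  have k2 := key x₂
  rw [hx₁, Aop_eq_zero_iff hf] at k1
  rw [hx₂, Aop_eq_zero_iff hf] at k2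
  exact ⟨k1.1, k2.1, k1.2, k2.2⟩

theorem comm_iff (hq : QF Q f) (vf : VFacts Q f) (hG : SgGroupQ Q f G) (p : ℕ)
    [Fact p.Prime] [CharP F p] (l l' : TSL Q f) :
    Comm (l.X hq G) (l'.X hq G) ↔ Meet l l' ∨ PerpL f l l' := by
  constructor
  · exact meet_or_perp_of_comm hq vf hG p l l'
  · rintro (h | h)
    · exact comm_of_meet hq l l' h
    · exact comm_of_perp hq l l' h

/-- equal root groups come from equal lines. -/
theorem L_le_of_X_le (hq : QF Q f) (vf : VFacts Q f) (hG : SgGroupQ Q f G) (p : ℕ)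
    [Fact p.Prime] [CharP F p] (l l' : TSL Q f) (h : l.X hq G ≤ l'.X hq G) : l.L = l'.L := by
  have hf := hq.sym
  obtain ⟨t, ht⟩ := l.exists_elt hq vf hG (G := G) 1
  have htX : t ∈ l.XG hq G := (l.mem_XG hq t).2 ⟨1, ht⟩
  obtain ⟨t', htX', ht'⟩ := h (Subgroup.mem_map_of_mem _ htX)
  have htX'' : t' ∈ l'.XG hq G := htX'
  have h1 := lift_eq hq vf hG p (XG_pow_char hq p l' htX'') (XG_pow_char hq p l htX) ht'
  rw [h1, TSL.mem_XG] at htX''
  obtain ⟨c, hc⟩ := htX''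
  have key : ∀ x, Aop f l.u l.v x ∈ l'.L := by
    intro x
    have h2 := hc x
    rw [ht x] at h2
    have h3 : Aop f l.u l.v x = c • Aop f l'.u l'.v x := by
      have e : Aop f l.u l.v x = (x + (1:F) • Aop f l.u l.v x) - x := by module
      rw [e, h2]
      module
    rw [h3]
    exact l'.L.smul_mem _ (Aop_mem l' x)
  apply TSL.eq_of_le
  unfold TSL.L
  rw [Submodule.span_le]
  intro y hy
  simp only [Set.mem_insert_iff, Set.mem_singleton_iff] at hy
  rcases hy with rfl | rfl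
  · obtain ⟨x, hx⟩ := exists_Aop_u hf l
    rw [← hx]
    exact key x
  · obtain ⟨x, hx⟩ := exists_Aop_v hf l
    rw [← hx]
    exact key x

theorem X_eq_iff (hq : QF Q f) (vf : VFacts Q f) (hG : SgGroupQ Q f G) (p : ℕ)
    [Fact p.Prime] [CharP F p] (l l' : TSL Q f) : l.X hq G = l'.X hq G ↔ l.L = l'.L :=
  ⟨fun h => L_le_of_X_le hq vf hG p l l' h.le, X_eq_of_L_eq hq l l'⟩

end grp

end Cfsg.Agent.Lib.Helper16.OA
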