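import Mathlib
import Cfsg.Agent.Lib.Helper16.OA6

set_option autoImplicit false
set_option linter.unusedSectionVars false
set_option linter.unusedVariables false

/-! Automorphisms of orthogonal groups, part 7: products of root elements. -/

namespace Cfsg.Agent.Lib.Helper16.OA

open Matrix Cfsg.Agent.Lib.Helper28.HForm Cfsg.Agent.Lib.Helper28.OGen
  Cfsg.Agent.Lib.Helper28.OMax Cfsg.Agent.Lib.Helper28.OQ Cfsg.Agent.Lib.Helper28.OMax2
  Cfsg.Agent.Lib.Helper28.OIwa Cfsg.Agent.Lib.Helper28.OIwa2 Cfsg.Agent.Lib.Helper28.ONd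

variable {n : ℕ} {F : Type*} [Field F] {Q : (Fin n → F) → F}
  {f : (Fin n → F) → (Fin n → F) → F}

local notation:73 g:73 " ∙ " x:74 => Matrix.mulVec (Units.val g) x

variable {G : Subgroup (Matrix.GeneralLinearGroup (Fin n) F)}

/-- the family of (images of) long root groups. -/
def Rfam (hq : QF Q f) (G : Subgroup (Matrix.GeneralLinearGroup (Fin n) F)) :
    Set (Subgroup (↥G ⧸ Subgroup.center ↥G)) := Set.range (fun l : TSL Q f => l.X hq G)

/-- all products lie in members of the family. -/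
def AllRoot {X : Type*} [Group X] (R : Set (Subgroup X)) (A B : Subgroup X) : Prop :=
  ∀ a ∈ A, ∀ b ∈ B, ∃ C ∈ R, a * b ∈ C

theorem perpL_congr {l l' m m' : TSL Q f} (h : m.L = l.L) (h' : m'.L = l'.L) :
    PerpL f m m' ↔ PerpL f l l' := by
  unfold PerpL
  rw [h, h']

theorem meet_congr {l l' m m' : TSL Q f} (h : m.L = l.L) (h' : m'.L = l'.L) :
    Meet m m' ↔ Meet l l' := by
  unfold Meet
  rw [h, h']

theorem allRoot_of_meet_perp (hq : QF Q f) (l l' : TSL Q f) (hm : Meet l l')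
    (hp : PerpL f l l') : AllRoot (Rfam hq G) (l.X hq G) (l'.X hq G) := by
  have hf := hq.sym
  obtain ⟨p, hp0, h1, h2⟩ := hm
  obtain ⟨m, hmu, hmL⟩ := l.exists_basis hq p h1 hp0
  obtain ⟨m', hmu', hmL'⟩ := l'.exists_basis hq p h2 hp0
  rw [← X_eq_of_L_eq hq m l hmL, ← X_eq_of_L_eq hq m' l' hmL']
  have hp' : PerpL f m m' := (perpL_congr hmL hmL').2 hp
  rintro _ ⟨a, ⟨c, ha⟩, rfl⟩ _ ⟨b, ⟨c', hb⟩, rfl⟩
  rw [← map_mul]
  have hpu : Q p = 0 := l.sing hq h1
  have hvv : f m.v m'.v = 0 := hp' _ m.v_mem _ m'.v_mem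
  have hmv : f m.v p = 0 := by rw [s_symm hf, ← hmu]; exact m.huv
  have hmv' : f m'.v p = 0 := by rw [s_symm hf, ← hmu']; exact m'.huv
  rw [hmu] at ha
  rw [hmu'] at hb
  have hab := isRho_mul hq hpu (by rw [hf.smul_left, hmv, mul_zero])
    (by rw [hf.smul_left, hmv', mul_zero]) ha hb
  obtain ⟨y, hy⟩ : ∃ y, y = c • m.v + c' • m'.v := ⟨_, rfl⟩
  rw [← hy] at hab
  have hQy : Q y = 0 := by
    rw [hy, hq.polar, hq.smul, hq.smul, m.hv, m'.hv, hf.smul_left, s_smul_right hf, hvv]
    ring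
  have hyp : f p y = 0 := by
    rw [hy, f_add_right hf, s_smul_right hf, s_smul_right hf, s_symm hf p, hmv, s_symm hf p, hmv']
    ring
  by_cases hys : y ∈ Submodule.span F {p}
  · obtain ⟨k, hk⟩ := Submodule.mem_span_singleton.1 hys
    have h3 := isRho_add_u hq hpu (by rw [s_symm hf]; exact hyp) (-k) hab
    have h4 : y + -k • p = 0 := by rw [← hk]; module
    rw [h4] at h3
    have h5 : (a * b : ↥G) = 1 := Subtype.ext (isRho_unique h3 (isRho_one hq p))
    rw [h5, map_one]
    exact ⟨l.X hq G, ⟨l, rfl⟩, Subgroup.one_mem _⟩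
  · let l'' : TSL Q f := ⟨p, y, hpu, hQy, hyp, hp0, hys⟩
    refine ⟨l''.X hq G, ⟨l'', rfl⟩, Subgroup.mem_map_of_mem _ ⟨1, ?_⟩⟩
    show IsRho Q f _ p ((1 : F) • y)
    rw [one_smul]
    exact hab

section fin
variable [Fintype F]

theorem meet_perp_of_allRoot (hq : QF Q f) (vf : VFacts Q f) (hG : SgGroupQ Q f G) (p : ℕ)
    [Fact p.Prime] [CharP F p] (l l' : TSL Q f) (hc : Comm (l.X hq G) (l'.X hq G))
    (ha : AllRoot (Rfam hq G) (l.X hq G) (l'.X hq G)) : Meet l l' ∧ PerpL f l l' := by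
  have hf := hq.sym
  rcases meet_or_perp_of_comm hq vf hG p l l' hc with hm | hp
  · refine ⟨hm, ?_⟩
    by_contra hnp
    obtain ⟨e, he0, h1, h2⟩ := hm
    obtain ⟨m, hmu, hmL⟩ := l.exists_basis hq e h1 he0
    obtain ⟨m', hmu', hmL'⟩ := l'.exists_basis hq e h2 he0
    have hnp' : ¬ PerpL f m m' := fun h => hnp ((perpL_congr hmL hmL').1 h)
    have heu : Q e = 0 := l.sing hq h1
    have hmv : f m.v e = 0 := by rw [s_symm hf, ← hmu]; exact m.huv
    have hmv' : f m'.v e = 0 := by rw [s_symm hf, ← hmu']; exact m'.huv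
    have hvv : f m.v m'.v ≠ 0 := by
      intro h
      apply hnp'
      rw [perpL_iff hf, hmu, hmu']
      exact ⟨f_sing hq heu, by rw [s_symm hf]; exact hmv', hmv, h⟩
    obtain ⟨t, ht⟩ := m.exists_elt hq vf hG (G := G) 1
    obtain ⟨t', ht'⟩ := m'.exists_elt hq vf hG (G := G) 1
    have htX : t ∈ m.XG hq G := (m.mem_XG hq t).2 ⟨1, ht⟩
    have htX' : t' ∈ m'.XG hq G := (m'.mem_XG hq t').2 ⟨1, ht'⟩
    have hr : IsRho Q f t.1 e ((1 : F) • m.v) := by
      rw [← hmu]
      exact (isRho_sing_iff hq m.hv 1 _).2 ht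
    have hr' : IsRho Q f t'.1 e ((1 : F) • m'.v) := by
      rw [← hmu']
      exact (isRho_sing_iff hq m'.hv 1 _).2 ht'
    rw [one_smul] at hr hr'
    have hab := isRho_mul hq heu hmv hmv' hr hr'
    have hmem : t * t' ∈ Qe hq G e heu := by
      refine ⟨m.v + m'.v, ?_, hab⟩
      rw [hf.add_left, hmv, hmv', add_zero]
    rw [← X_eq_of_L_eq hq m l hmL, ← X_eq_of_L_eq hq m' l' hmL'] at ha
    obtain ⟨C, ⟨l'', rfl⟩, hC⟩ := ha _ (Subgroup.mem_map_of_mem _ htX) _
      (Subgroup.mem_map_of_mem _ htX')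
    obtain ⟨t'', htX'', ht''⟩ := hC
    have htX''' : t'' ∈ l''.XG hq G := htX''
    rw [← map_mul] at ht''
    have h3 := lift_eq hq vf hG p (XG_pow_char hq p l'' htX''') (Qe_pow_char hq p heu hmem) ht''
    rw [h3, TSL.mem_XG] at htX'''
    obtain ⟨c, hc⟩ := htX'''
    obtain ⟨x, _, hxe⟩ := hyp_partner_q hq e he0 heu
    have h4 := hc x
    have h5 : ((t * t' : ↥G) : Matrix.GeneralLinearGroup (Fin n) F) = t.1 * t'.1 := rfl
    rw [h5, hab x, s_symm hf e x, hxe] at h4
    obtain ⟨y, hy⟩ : ∃ y, y = m.v + m'.v := ⟨_, rfl⟩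
    rw [← hy] at h4
    have hye : f y e = 0 := by rw [hy, hf.add_left, hmv, hmv', add_zero]
    have hQy : Q y = f m.v m'.v := by
      rw [hy, hq.polar, m.hv, m'.hv]
      ring
    have h6 : y - (f y x + Q y) • e ∈ l''.L := by
      have e1 : y - (f y x + Q y) • e = c • Aop f l''.u l''.v x := by
        have e2 : y - (f y x + Q y) • e = (x + (1 : F) • y - f y x • e - (Q y * 1) • e) - x := by
          module
        rw [e2, h4]
        module
      rw [e1]
      exact l''.L.smul_mem _ (Aop_mem l'' x)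
    have h7 := l''.sing hq h6
    rw [Q_sub hq, hq.smul, heu, s_smul_right hf, hye, hQy] at h7
    apply hvv
    linear_combination h7
  · refine ⟨?_, hp⟩
    by_contra hnm
    obtain ⟨t, ht⟩ := l.exists_elt hq vf hG (G := G) 1
    obtain ⟨t', ht'⟩ := l'.exists_elt hq vf hG (G := G) 1
    have htX : t ∈ l.XG hq G := (l.mem_XG hq t).2 ⟨1, ht⟩
    have htX' : t' ∈ l'.XG hq G := (l'.mem_XG hq t').2 ⟨1, ht'⟩
    have hcomm : Commute t t' := XG_comm_of_perp hq l l' hp htX htX'
    have hpow : (t * t') ^ p = 1 := by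
      rw [hcomm.mul_pow, XG_pow_char hq p l htX, XG_pow_char hq p l' htX', one_mul]
    obtain ⟨C, ⟨l'', rfl⟩, hC⟩ := ha _ (Subgroup.mem_map_of_mem _ htX) _
      (Subgroup.mem_map_of_mem _ htX')
    obtain ⟨t'', htX'', ht''⟩ := hC
    have htX''' : t'' ∈ l''.XG hq G := htX''
    rw [← map_mul] at ht''
    have h3 := lift_eq hq vf hG p (XG_pow_char hq p l'' htX''') hpow ht''
    rw [h3, TSL.mem_XG] at htX'''
    obtain ⟨c, hc⟩ := htX'''
    have key : ∀ x, Aop f l.u l.v x + Aop f l'.u l'.v x ∈ l''.L := by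
      intro x
      have h4 := hc x
      have h5 : ((t * t' : ↥G) : Matrix.GeneralLinearGroup (Fin n) F) = t.1 * t'.1 := rfl
      rw [h5, Cfsg.Agent.S5643.mul_mv, ht' x, ht, Aop_add hf, Aop_smul hf] at h4
      have e1 : Aop f l.u l.v (Aop f l'.u l'.v x) = 0 :=
        Aop_perp hf l (hp _ l.u_mem _ (Aop_mem l' x)) (hp _ l.v_mem _ (Aop_mem l' x))
      rw [e1] at h4
      have e2 : Aop f l.u l.v x + Aop f l'.u l'.v x = c • Aop f l''.u l''.v x := by
        have e3 : Aop f l.u l.v x + Aop f l'.u l'.v x =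
          (x + (1 : F) • Aop f l'.u l'.v x + (1 : F) • (Aop f l.u l.v x + (1 : F) • 0)) - x := by
          module
        rw [e3, h4]
        module
      rw [e2]
      exact l''.L.smul_mem _ (Aop_mem l'' x)
    -- vectors perpendicular to `l'` and to one basis vector of `l`
    have hout : ∀ a b : Fin n → F, a ∈ l.L → b ∈ l.L → a ∉ Submodule.span F {b} →
        a ∉ Submodule.span F {b} ⊔ l'.L := by
      intro a b ha hb hab h
      obtain ⟨y, hy, z, hz, hyz⟩ := Submodule.mem_sup.1 h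
      have h4 : z ∈ l.L := by
        have : z = a - y := by rw [← hyz]; abel
        rw [this]
        exact l.L.sub_mem ha ((Submodule.span_singleton_le_iff_mem _ _).2 hb hy)
      have hz0 : z = 0 := by
        by_contra hz0
        exact hnm ⟨z, hz0, h4, hz⟩
      rw [hz0, add_zero] at hyz
      rw [← hyz] at hab
      exact hab hy
    have hvu : l.v ∉ Submodule.span F {l.u} := l.hvn
    have huv : l.u ∉ Submodule.span F {l.v} := by
      intro h
      obtain ⟨a, ha⟩ := Submodule.mem_span_singleton.1 h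
      have := l.indep (a := -1) (b := a) (by rw [ha]; module)
      have h1 : (-1 : F) = 0 := this.1
      have h2 : (1 : F) = 0 := by linear_combination -h1
      exact one_ne_zero h2
    have hvL : l.v ∈ l''.L := by
      obtain ⟨x, hx1, hx2⟩ := dperp_s hf _ l.u (hout l.u l.v l.u_mem l.v_mem huv)
      have h4 := key x
      have e1 : f l.v x = 0 := hx1 _ (Submodule.mem_sup_left (Submodule.mem_span_singleton_self _))
      have e2 : Aop f l'.u l'.v x = 0 := Aop_perp hf l'
        (hx1 _ (Submodule.mem_sup_right l'.u_mem)) (hx1 _ (Submodule.mem_sup_right l'.v_mem))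
      unfold Aop at h4 e2
      rw [e2, e1, zero_smul, sub_zero, add_zero] at h4
      have := l''.L.smul_mem (f l.u x)⁻¹ h4
      rw [smul_smul, inv_mul_cancel₀ hx2, one_smul] at this
      exact this
    have huL : l.u ∈ l''.L := by
      obtain ⟨x, hx1, hx2⟩ := dperp_s hf _ l.v (hout l.v l.u l.v_mem l.u_mem hvu)
      have h4 := key x
      have e1 : f l.u x = 0 := hx1 _ (Submodule.mem_sup_left (Submodule.mem_span_singleton_self _))
      have e2 : Aop f l'.u l'.v x = 0 := Aop_perp hf l'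
        (hx1 _ (Submodule.mem_sup_right l'.u_mem)) (hx1 _ (Submodule.mem_sup_right l'.v_mem))
      unfold Aop at h4 e2
      rw [e2, e1, zero_smul, zero_sub, add_zero] at h4
      have := l''.L.smul_mem (-(f l.v x)⁻¹) h4
      rw [smul_neg, neg_smul, neg_neg, smul_smul, inv_mul_cancel₀ hx2, one_smul] at this
      exact this
    have hLL : l.L = l''.L := by
      apply TSL.eq_of_le
      unfold TSL.L
      rw [Submodule.span_le]
      intro y hy
      simp only [Set.mem_insert_iff, Set.mem_singleton_iff] at hy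
      rcases hy with rfl | rfl
      · exact huL
      · exact hvL
    -- symmetric argument for `l'`
    have hcomm' : Commute t' t := hcomm.symm
    have key' : ∀ x, Aop f l'.u l'.v x ∈ l''.L := by
      intro x
      have h4 := key x
      have h5 : Aop f l.u l.v x ∈ l''.L := by
        rw [← hLL]
        exact Aop_mem l x
      have : Aop f l'.u l'.v x = (Aop f l.u l.v x + Aop f l'.u l'.v x) - Aop f l.u l.v x := by
        abel
      rw [this]
      exact l''.L.sub_mem h4 h5
    apply hnm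
    obtain ⟨x, hx⟩ := exists_Aop_u hf l'
    refine ⟨l'.u, l'.hu0, ?_, l'.u_mem⟩
    rw [hLL, ← hx]
    exact key' x

end fin

end Cfsg.Agent.Lib.Helper16.OA
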