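import Mathlib
import Cfsg.Agent.Lib.Helper16.OA7

set_option autoImplicit false
set_option linter.unusedSectionVars false
set_option linter.unusedVariables false

/-! Automorphisms of orthogonal groups, part 8: a group-theoretic description of a family of
subgroups, invariant under automorphisms preserving the underlying family. -/

namespace Cfsg.Agent.Lib.Helper16.OA

section gen
variable {X : Type*} [Group X]

/-- `D` is distinct from `A`, commutes with it and all products are root elements. -/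
def BRel (R : Set (Subgroup X)) (D A : Subgroup X) : Prop := D ≠ A ∧ Comm D A ∧ AllRoot R D A

/-- the members of the family commuting with `A`, `B` and all their common `BRel`-neighbours. -/
def Sset (R : Set (Subgroup X)) (A B : Subgroup X) : Set (Subgroup X) :=
  {C | C ∈ R ∧ Comm C A ∧ Comm C B ∧ ∀ D ∈ R, BRel R D A → BRel R D B → Comm C D}

/-- `x` centralises all members of `S`. -/
def CentAll (S : Set (Subgroup X)) (x : X) : Prop := ∀ C ∈ S, ∀ c ∈ C, x * c = c * x

/-- the pairs defining the distinguished subgroups. -/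
def Good (R : Set (Subgroup X)) (A B : Subgroup X) : Prop :=
  A ∈ R ∧ B ∈ R ∧ A ≠ B ∧ Comm A B ∧ ¬ AllRoot R A B ∧
    (∀ C ∈ Sset R A B, ∀ D ∈ Sset R A B, Comm C D) ∧
    (∀ x y, CentAll (Sset R A B) x → CentAll (Sset R A B) y → x * y = y * x)

/-- the distinguished subgroups. -/
def Qfam (R : Set (Subgroup X)) : Set (Subgroup X) :=
  {H | ∃ A B, Good R A B ∧ H = sSup (Sset R A B)}

variable (α : X ≃* X)

theorem mp_symm (A : Subgroup X) :
    (A.map α.toMonoidHom).map α.symm.toMonoidHom = A := by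
  ext x
  rw [Subgroup.mem_map_equiv, Subgroup.mem_map_equiv]
  simp

theorem mp_symm' (A : Subgroup X) :
    (A.map α.symm.toMonoidHom).map α.toMonoidHom = A := by
  ext x
  rw [Subgroup.mem_map_equiv, Subgroup.mem_map_equiv]
  simp

theorem mp_inj {A B : Subgroup X} (h : A.map α.toMonoidHom = B.map α.toMonoidHom) : A = B := by
  rw [← mp_symm α A, h, mp_symm]

theorem comm_mp {A B : Subgroup X} (h : Comm A B) :
    Comm (A.map α.toMonoidHom) (B.map α.toMonoidHom) := by
  rintro _ ⟨a, ha, rfl⟩ _ ⟨b, hb, rfl⟩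
  show α a * α b = α b * α a
  rw [← map_mul, ← map_mul, h a ha b hb]

theorem comm_mp_iff {A B : Subgroup X} :
    Comm (A.map α.toMonoidHom) (B.map α.toMonoidHom) ↔ Comm A B := by
  constructor
  · intro h
    have := comm_mp α.symm h
    rw [mp_symm, mp_symm] at this
    exact this
  · exact comm_mp α

variable {R : Set (Subgroup X)}

theorem allRoot_mp (hα : ∀ A, A ∈ R → A.map α.toMonoidHom ∈ R) {A B : Subgroup X}
    (h : AllRoot R A B) : AllRoot R (A.map α.toMonoidHom) (B.map α.toMonoidHom) := by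
  rintro _ ⟨a, ha, rfl⟩ _ ⟨b, hb, rfl⟩
  obtain ⟨C, hC, hab⟩ := h a ha b hb
  refine ⟨C.map α.toMonoidHom, hα C hC, ?_⟩
  show α a * α b ∈ _
  rw [← map_mul]
  exact Subgroup.mem_map_of_mem _ hab

theorem allRoot_mp_iff (hα : ∀ A, A ∈ R → A.map α.toMonoidHom ∈ R)
    (hα' : ∀ A, A ∈ R → A.map α.symm.toMonoidHom ∈ R) {A B : Subgroup X} :
    AllRoot R (A.map α.toMonoidHom) (B.map α.toMonoidHom) ↔ AllRoot R A B := by
  constructor
  · intro h
    have := allRoot_mp α.symm hα' h
    rw [mp_symm, mp_symm] at this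
    exact this
  · exact allRoot_mp α hα

theorem brel_mp_iff (hα : ∀ A, A ∈ R → A.map α.toMonoidHom ∈ R)
    (hα' : ∀ A, A ∈ R → A.map α.symm.toMonoidHom ∈ R) {D A : Subgroup X} :
    BRel R (D.map α.toMonoidHom) (A.map α.toMonoidHom) ↔ BRel R D A := by
  unfold BRel
  rw [comm_mp_iff, allRoot_mp_iff α hα hα']
  constructor
  · rintro ⟨h1, h2, h3⟩
    exact ⟨fun h => h1 (by rw [h]), h2, h3⟩
  · rintro ⟨h1, h2, h3⟩
    exact ⟨fun h => h1 (mp_inj α h), h2, h3⟩

theorem sset_mp (hα : ∀ A, A ∈ R → A.map α.toMonoidHom ∈ R)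
    (hα' : ∀ A, A ∈ R → A.map α.symm.toMonoidHom ∈ R) {A B C : Subgroup X}
    (h : C ∈ Sset R A B) :
    C.map α.toMonoidHom ∈ Sset R (A.map α.toMonoidHom) (B.map α.toMonoidHom) := by
  obtain ⟨h1, h2, h3, h4⟩ := h
  refine ⟨hα C h1, comm_mp α h2, comm_mp α h3, ?_⟩
  intro D hD hDA hDB
  have e : D = (D.map α.symm.toMonoidHom).map α.toMonoidHom := (mp_symm' α D).symm
  rw [e] at hDA hDB ⊢
  rw [brel_mp_iff α hα hα'] at hDA hDB
  exact comm_mp α (h4 _ (hα' D hD) hDA hDB)

theorem sset_mp_iff (hα : ∀ A, A ∈ R → A.map α.toMonoidHom ∈ R)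
    (hα' : ∀ A, A ∈ R → A.map α.symm.toMonoidHom ∈ R) {A B C : Subgroup X} :
    C.map α.toMonoidHom ∈ Sset R (A.map α.toMonoidHom) (B.map α.toMonoidHom) ↔
      C ∈ Sset R A B := by
  constructor
  · intro h
    have := sset_mp α.symm hα' (by
      intro A hA
      have : A.map α.symm.symm.toMonoidHom = A.map α.toMonoidHom := rfl
      rw [this]
      exact hα A hA) h
    rw [mp_symm, mp_symm, mp_symm] at this
    exact this
  · exact sset_mp α hα hα'

theorem centAll_mp (hα : ∀ A, A ∈ R → A.map α.toMonoidHom ∈ R)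
    (hα' : ∀ A, A ∈ R → A.map α.symm.toMonoidHom ∈ R) {A B : Subgroup X} {x : X}
    (h : CentAll (Sset R (A.map α.toMonoidHom) (B.map α.toMonoidHom)) x) :
    CentAll (Sset R A B) (α.symm x) := by
  intro C hC c hc
  have h1 := h _ (sset_mp α hα hα' hC) (α c) (Subgroup.mem_map_of_mem _ hc)
  apply α.injective
  rw [map_mul, map_mul, α.apply_symm_apply]
  exact h1

theorem good_mp (hα : ∀ A, A ∈ R → A.map α.toMonoidHom ∈ R)
    (hα' : ∀ A, A ∈ R → A.map α.symm.toMonoidHom ∈ R) {A B : Subgroup X}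
    (h : Good R A B) : Good R (A.map α.toMonoidHom) (B.map α.toMonoidHom) := by
  obtain ⟨h1, h2, h3, h4, h5, h6, h7⟩ := h
  refine ⟨hα A h1, hα B h2, fun h => h3 (mp_inj α h), comm_mp α h4, ?_, ?_, ?_⟩
  · rw [allRoot_mp_iff α hα hα']
    exact h5
  · intro C hC D hD
    have eC : C = (C.map α.symm.toMonoidHom).map α.toMonoidHom := (mp_symm' α C).symm
    have eD : D = (D.map α.symm.toMonoidHom).map α.toMonoidHom := (mp_symm' α D).symm
    rw [eC] at hC ⊢
    rw [eD] at hD ⊢
    rw [sset_mp_iff α hα hα'] at hC hD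
    exact comm_mp α (h6 _ hC _ hD)
  · intro x y hx hy
    have := h7 _ _ (centAll_mp α hα hα' hx) (centAll_mp α hα hα' hy)
    apply α.symm.injective
    rw [map_mul, map_mul]
    exact this

theorem sSup_sset_mp (hα : ∀ A, A ∈ R → A.map α.toMonoidHom ∈ R)
    (hα' : ∀ A, A ∈ R → A.map α.symm.toMonoidHom ∈ R) (A B : Subgroup X) :
    (sSup (Sset R A B)).map α.toMonoidHom =
      sSup (Sset R (A.map α.toMonoidHom) (B.map α.toMonoidHom)) := by
  apply le_antisymm
  · rw [Subgroup.map_le_iff_le_comap, sSup_le_iff]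
    intro C hC
    rw [← Subgroup.map_le_iff_le_comap]
    exact le_sSup (sset_mp α hα hα' hC)
  · rw [sSup_le_iff]
    intro C hC
    have eC : C = (C.map α.symm.toMonoidHom).map α.toMonoidHom := (mp_symm' α C).symm
    rw [eC] at hC ⊢
    rw [sset_mp_iff α hα hα'] at hC
    exact Subgroup.map_mono (le_sSup hC)

/-- the distinguished family is invariant. -/
theorem qfam_mp (hα : ∀ A, A ∈ R → A.map α.toMonoidHom ∈ R)
    (hα' : ∀ A, A ∈ R → A.map α.symm.toMonoidHom ∈ R) {H : Subgroup X} (h : H ∈ Qfam R) :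
    H.map α.toMonoidHom ∈ Qfam R := by
  obtain ⟨A, B, hAB, rfl⟩ := h
  exact ⟨_, _, good_mp α hα hα' hAB, sSup_sset_mp α hα hα' A B⟩

end gen

end Cfsg.Agent.Lib.Helper16.OA
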