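import Mathlib
import Cfsg.Agent.Lib.Helper16.OA8

set_option autoImplicit false
set_option linter.unusedSectionVars false
set_option linter.unusedVariables false

/-! Automorphisms of orthogonal groups, part 9: pairs of lines meeting in a point,
not perpendicular. -/

namespace Cfsg.Agent.Lib.Helper16.OA

open Matrix Cfsg.Agent.Lib.Helper28.HForm Cfsg.Agent.Lib.Helper28.OGen
  Cfsg.Agent.Lib.Helper28.OMax Cfsg.Agent.Lib.Helper28.OQ Cfsg.Agent.Lib.Helper28.OMax2
  Cfsg.Agent.Lib.Helper28.OIwa Cfsg.Agent.Lib.Helper28.OIwa2 Cfsg.Agent.Lib.Helper28.ONd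

variable {n : ℕ} {F : Type*} [Field F] {Q : (Fin n → F) → F}
  {f : (Fin n → F) → (Fin n → F) → F}

local notation:73 g:73 " ∙ " x:74 => Matrix.mulVec (Units.val g) x

variable {G : Subgroup (Matrix.GeneralLinearGroup (Fin n) F)}

section fin
variable [Fintype F]

theorem brel_iff (hq : QF Q f) (vf : VFacts Q f) (hG : SgGroupQ Q f G) (p : ℕ)
    [Fact p.Prime] [CharP F p] (l l' : TSL Q f) :
    BRel (Rfam hq G) (l.X hq G) (l'.X hq G) ↔ l.L ≠ l'.L ∧ Meet l l' ∧ PerpL f l l' := by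
  constructor
  · rintro ⟨h1, h2, h3⟩
    refine ⟨fun h => h1 (X_eq_of_L_eq hq l l' h), meet_perp_of_allRoot hq vf hG p l l' h2 h3⟩
  · rintro ⟨h1, h2, h3⟩
    refine ⟨fun h => h1 ((X_eq_iff hq vf hG p l l').1 h), comm_of_meet hq l l' h2,
      allRoot_of_meet_perp hq l l' h2 h3⟩

end fin

/-- the data of two totally singular lines through `e`, not perpendicular. -/
structure APair (Q : (Fin n → F) → F) (f : (Fin n → F) → (Fin n → F) → F) where
  e : Fin n → F
  u₁ : Fin n → F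
  u₂ : Fin n → F
  he : Q e = 0
  he0 : e ≠ 0
  hu₁ : Q u₁ = 0
  hu₂ : Q u₂ = 0
  he1 : f e u₁ = 0
  he2 : f e u₂ = 0
  h12 : f u₁ u₂ ≠ 0

theorem APair.hn1 (hf : SymF f) (P : APair Q f) : P.u₁ ∉ Submodule.span F {P.e} := by
  intro h
  obtain ⟨a, ha⟩ := Submodule.mem_span_singleton.1 h
  apply P.h12
  rw [← ha, hf.smul_left, P.he2, mul_zero]

theorem APair.hn2 (hf : SymF f) (P : APair Q f) : P.u₂ ∉ Submodule.span F {P.e} := by
  intro h
  obtain ⟨a, ha⟩ := Submodule.mem_span_singleton.1 h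
  apply P.h12
  rw [← ha, s_smul_right hf, s_symm hf, P.he1, mul_zero]

/-- the first line. -/
def APair.l₁ (hf : SymF f) (P : APair Q f) : TSL Q f :=
  ⟨P.e, P.u₁, P.he, P.hu₁, P.he1, P.he0, P.hn1 hf⟩

/-- the second line. -/
def APair.l₂ (hf : SymF f) (P : APair Q f) : TSL Q f :=
  ⟨P.e, P.u₂, P.he, P.hu₂, P.he2, P.he0, P.hn2 hf⟩

theorem APair.not_perp (hf : SymF f) (P : APair Q f) : ¬ PerpL f (P.l₁ hf) (P.l₂ hf) := by
  intro h
  exact P.h12 (h _ (P.l₁ hf).v_mem _ (P.l₂ hf).v_mem)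

theorem APair.L_ne (hq : QF Q f) (P : APair Q f) : (P.l₁ hq.sym).L ≠ (P.l₂ hq.sym).L := by
  intro h
  have h1 : P.u₂ ∈ (P.l₁ hq.sym).L := by
    rw [h]
    exact (P.l₂ hq.sym).v_mem
  have h2 := (P.l₁ hq.sym).perp_self hq (P.l₁ hq.sym).v_mem h1
  exact P.h12 h2

/-- a vector of a line through `e`-lines expressed in the basis. -/
theorem APair.mem₁ (hf : SymF f) (P : APair Q f) {x : Fin n → F} (hx : x ∈ (P.l₁ hf).L) :
    ∃ a b : F, a • P.e + b • P.u₁ = x := ((P.l₁ hf).mem_L x).1 hx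

theorem APair.mem₂ (hf : SymF f) (P : APair Q f) {x : Fin n → F} (hx : x ∈ (P.l₂ hf).L) :
    ∃ a b : F, a • P.e + b • P.u₂ = x := ((P.l₂ hf).mem_L x).1 hx

theorem e_mem_of_smul {l : TSL Q f} {e : Fin n → F} {a : F} (ha : a ≠ 0) (h : a • e ∈ l.L) :
    e ∈ l.L := by
  have := l.L.smul_mem a⁻¹ h
  rw [smul_smul, inv_mul_cancel₀ ha, one_smul] at this
  exact this

/-- a line related to both lines of the pair passes through `e`. -/
theorem APair.through (hq : QF Q f) (P : APair Q f) (l : TSL Q f)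
    (hp1 : PerpL f l (P.l₁ hq.sym)) (hm2 : Meet l (P.l₂ hq.sym)) : P.e ∈ l.L := by
  have hf := hq.sym
  obtain ⟨p₂, hp0, h1, h2⟩ := hm2
  obtain ⟨c, d, hcd⟩ := P.mem₂ hf h2
  have h3 := hp1 _ h1 _ (P.l₁ hf).v_mem
  have h4 : f p₂ P.u₁ = d * f P.u₂ P.u₁ := by
    rw [← hcd, hf.add_left, hf.smul_left, hf.smul_left, P.he1]
    ring
  have h5 : f p₂ P.u₁ = 0 := h3
  rw [h5] at h4
  have hd : d = 0 := by
    rcases mul_eq_zero.1 h4.symm with h | h
    · exact h
    · exfalso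
      apply P.h12
      rw [s_symm hf]
      exact h
  rw [hd, zero_smul, add_zero] at hcd
  have hc : c ≠ 0 := by
    rintro rfl
    rw [zero_smul] at hcd
    exact hp0 hcd.symm
  apply e_mem_of_smul hc
  rw [hcd]
  exact h1

/-- a line commuting with both lines of the pair, not through `e`, is perpendicular to both. -/
theorem APair.perp_both (hq : QF Q f) (P : APair Q f) (l : TSL Q f)
    (h1 : Meet l (P.l₁ hq.sym) ∨ PerpL f l (P.l₁ hq.sym))
    (h2 : Meet l (P.l₂ hq.sym) ∨ PerpL f l (P.l₂ hq.sym)) (he : P.e ∉ l.L) :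
    PerpL f l (P.l₁ hq.sym) ∧ PerpL f l (P.l₂ hq.sym) := by
  have hf := hq.sym
  -- a meeting point with the first line has a non-zero `u₁`-component
  have k1 : ∀ p₁, p₁ ≠ 0 → p₁ ∈ l.L → p₁ ∈ (P.l₁ hf).L → ∃ a b : F, b ≠ 0 ∧ a • P.e + b • P.u₁ = p₁ := by
    intro p₁ hp0 hpl hp1
    obtain ⟨a, b, hab⟩ := P.mem₁ hf hp1
    refine ⟨a, b, ?_, hab⟩
    rintro rfl
    rw [zero_smul, add_zero] at hab
    have ha : a ≠ 0 := by
      rintro rfl
      rw [zero_smul] at hab
      exact hp0 hab.symm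
    apply he
    apply e_mem_of_smul ha
    rw [hab]
    exact hpl
  have k2 : ∀ p₂, p₂ ≠ 0 → p₂ ∈ l.L → p₂ ∈ (P.l₂ hf).L → ∃ a b : F, b ≠ 0 ∧ a • P.e + b • P.u₂ = p₂ := by
    intro p₂ hp0 hpl hp2
    obtain ⟨a, b, hab⟩ := P.mem₂ hf hp2
    refine ⟨a, b, ?_, hab⟩
    rintro rfl
    rw [zero_smul, add_zero] at hab
    have ha : a ≠ 0 := by
      rintro rfl
      rw [zero_smul] at hab
      exact hp0 hab.symm
    apply he
    apply e_mem_of_smul ha
    rw [hab]
    exact hpl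
  rcases h1 with h1 | h1
  · exfalso
    obtain ⟨p₁, hp0, hpl, hp1⟩ := h1
    obtain ⟨a, b, hb, hab⟩ := k1 p₁ hp0 hpl hp1
    rcases h2 with h2 | h2
    · obtain ⟨p₂, hp0', hpl', hp2⟩ := h2
      obtain ⟨c, d, hd, hcd⟩ := k2 p₂ hp0' hpl' hp2
      have h3 := l.perp_self hq hpl hpl'
      rw [← hab, ← hcd] at h3
      simp only [hf.add_left, f_add_right hf, hf.smul_left, s_smul_right hf, f_sing hq P.he,
        P.he2, s_symm hf P.u₁ P.e, P.he1] at h3
      have h4 : b * d * f P.u₁ P.u₂ = 0 := by linear_combination h3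
      rcases mul_eq_zero.1 h4 with h5 | h5
      · rcases mul_eq_zero.1 h5 with h6 | h6
        · exact hb h6
        · exact hd h6
      · exact P.h12 h5
    · have h3 := h2 _ hpl _ (P.l₂ hf).v_mem
      have h3' : f p₁ P.u₂ = 0 := h3
      rw [← hab, hf.add_left, hf.smul_left, hf.smul_left, P.he2] at h3'
      have h4 : b * f P.u₁ P.u₂ = 0 := by linear_combination h3'
      rcases mul_eq_zero.1 h4 with h5 | h5
      · exact hb h5
      · exact P.h12 h5
  · refine ⟨h1, ?_⟩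
    rcases h2 with h2 | h2
    · exfalso
      obtain ⟨p₂, hp0', hpl', hp2⟩ := h2
      obtain ⟨c, d, hd, hcd⟩ := k2 p₂ hp0' hpl' hp2
      have h3 := h1 _ hpl' _ (P.l₁ hf).v_mem
      have h3' : f p₂ P.u₁ = 0 := h3
      rw [← hcd, hf.add_left, hf.smul_left, hf.smul_left, P.he1] at h3'
      have h4 : d * f P.u₂ P.u₁ = 0 := by linear_combination h3'
      rcases mul_eq_zero.1 h4 with h5 | h5
      · exact hd h5
      · apply P.h12
        rw [s_symm hf]
        exact h5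
    · exact h2

/-- a line perpendicular to both lines of the pair and not through `e` fails to commute with
some line through `e` perpendicular to both. -/
theorem APair.exists_bad (hq : QF Q f) (P : APair Q f) (l : TSL Q f)
    (h1 : PerpL f l (P.l₁ hq.sym)) (h2 : PerpL f l (P.l₂ hq.sym)) (he : P.e ∉ l.L) :
    ∃ l₃ : TSL Q f, l₃.L ≠ (P.l₁ hq.sym).L ∧ l₃.L ≠ (P.l₂ hq.sym).L ∧
      Meet l₃ (P.l₁ hq.sym) ∧ PerpL f l₃ (P.l₁ hq.sym) ∧
      Meet l₃ (P.l₂ hq.sym) ∧ PerpL f l₃ (P.l₂ hq.sym) ∧ ¬ Meet l l₃ ∧ ¬ PerpL f l l₃ := by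
  have hf := hq.sym
  obtain ⟨x, hx⟩ : ∃ x, x = l.u := ⟨_, rfl⟩
  have hxl : x ∈ l.L := by rw [hx]; exact l.u_mem
  have hx0 : x ≠ 0 := by rw [hx]; exact l.hu0
  have hxQ : Q x = 0 := l.sing hq hxl
  have hxe : f x P.e = 0 := h1 _ hxl _ (P.l₁ hf).u_mem
  have hx1 : f x P.u₁ = 0 := h1 _ hxl _ (P.l₁ hf).v_mem
  have hx2 : f x P.u₂ = 0 := h2 _ hxl _ (P.l₂ hf).v_mem
  -- `x` is not in the span of `e, u₁, u₂`
  have hxS : x ∉ (P.l₁ hf).L ⊔ Submodule.span F {P.u₂} := by
    intro h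
    obtain ⟨y, hy, z, hz, hyz⟩ := Submodule.mem_sup.1 h
    obtain ⟨a, b, hab⟩ := P.mem₁ hf hy
    obtain ⟨c, hc⟩ := Submodule.mem_span_singleton.1 hz
    have e1 : x = a • P.e + b • P.u₁ + c • P.u₂ := by rw [hab, hc, hyz]
    have e2 : b * f P.u₁ P.u₂ = 0 := by
      have := hx2
      rw [e1] at this
      simp only [hf.add_left, hf.smul_left, P.he2, f_sing hq P.hu₂] at this
      linear_combination this
    have e3 : c * f P.u₂ P.u₁ = 0 := by
      have := hx1
      rw [e1] at this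
      simp only [hf.add_left, hf.smul_left, P.he1, f_sing hq P.hu₁] at this
      linear_combination this
    have hb : b = 0 := by
      rcases mul_eq_zero.1 e2 with h | h
      · exact h
      · exact absurd h P.h12
    have hc0 : c = 0 := by
      rcases mul_eq_zero.1 e3 with h | h
      · exact h
      · exfalso
        apply P.h12
        rw [s_symm hf]
        exact h
    rw [hb, hc0, zero_smul, zero_smul, add_zero, add_zero] at e1
    have ha : a ≠ 0 := by
      rintro rfl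
      rw [zero_smul] at e1
      exact hx0 e1
    apply he
    apply e_mem_of_smul ha
    rw [← e1]
    exact hxl
  obtain ⟨y, hy1, hy2⟩ := dperp_s hf _ x hxS
  have hye : f P.e y = 0 := hy1 _ (Submodule.mem_sup_left (P.l₁ hf).u_mem)
  have hy1' : f P.u₁ y = 0 := hy1 _ (Submodule.mem_sup_left (P.l₁ hf).v_mem)
  have hy2' : f P.u₂ y = 0 :=
    hy1 _ (Submodule.mem_sup_right (Submodule.mem_span_singleton_self _))
  obtain ⟨t, ht⟩ : ∃ t, t = - Q y / f x y := ⟨_, rfl⟩
  obtain ⟨w, hw⟩ : ∃ w, w = y + t • x := ⟨_, rfl⟩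
  have hwQ : Q w = 0 := by
    rw [hw, hq.polar, hq.smul, hxQ, s_smul_right hf, s_symm hf y x, ht]
    field_simp
    ring
  have hwx : f x w ≠ 0 := by
    rw [hw, f_add_right hf, s_smul_right hf, f_sing hq hxQ, mul_zero, add_zero]
    exact hy2
  have hew : f P.e w = 0 := by
    rw [hw, f_add_right hf, s_smul_right hf, hye, s_symm hf, hxe]
    ring
  have h1w : f w P.u₁ = 0 := by
    rw [hw, hf.add_left, hf.smul_left, s_symm hf, hy1', hx1]
    ring
  have h2w : f w P.u₂ = 0 := by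
    rw [hw, hf.add_left, hf.smul_left, s_symm hf, hy2', hx2]
    ring
  have hwn : w ∉ Submodule.span F {P.e} := by
    intro h
    obtain ⟨a, ha⟩ := Submodule.mem_span_singleton.1 h
    apply hwx
    rw [← ha, s_smul_right hf, hxe, mul_zero]
  let l₃ : TSL Q f := ⟨P.e, w, P.he, hwQ, hew, P.he0, hwn⟩
  have hwe : f w P.e = 0 := by rw [s_symm hf]; exact hew
  refine ⟨l₃, ?_, ?_, ⟨P.e, P.he0, l₃.u_mem, (P.l₁ hf).u_mem⟩, ?_,
    ⟨P.e, P.he0, l₃.u_mem, (P.l₂ hf).u_mem⟩, ?_, ?_, ?_⟩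
  · intro h
    have h3 : w ∈ (P.l₁ hf).L := by rw [← h]; exact l₃.v_mem
    obtain ⟨a, b, hab⟩ := P.mem₁ hf h3
    have h4 := h2w
    rw [← hab, hf.add_left, hf.smul_left, hf.smul_left, P.he2] at h4
    have hb : b = 0 := by
      have : b * f P.u₁ P.u₂ = 0 := by linear_combination h4
      rcases mul_eq_zero.1 this with h | h
      · exact h
      · exact absurd h P.h12
    apply hwn
    rw [Submodule.mem_span_singleton]
    exact ⟨a, by rw [← hab, hb, zero_smul, add_zero]⟩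
  · intro h
    have h3 : w ∈ (P.l₂ hf).L := by rw [← h]; exact l₃.v_mem
    obtain ⟨a, b, hab⟩ := P.mem₂ hf h3
    have h4 := h1w
    rw [← hab, hf.add_left, hf.smul_left, hf.smul_left, P.he1] at h4
    have hb : b = 0 := by
      have : b * f P.u₂ P.u₁ = 0 := by linear_combination h4
      rcases mul_eq_zero.1 this with h | h
      · exact h
      · exfalso
        apply P.h12
        rw [s_symm hf]
        exact h
    apply hwn
    rw [Submodule.mem_span_singleton]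
    exact ⟨a, by rw [← hab, hb, zero_smul, add_zero]⟩
  · rw [perpL_iff hf]
    exact ⟨f_sing hq P.he, P.he1, hwe, h1w⟩
  · rw [perpL_iff hf]
    exact ⟨f_sing hq P.he, P.he2, hwe, h2w⟩
  · rintro ⟨z, hz0, hzl, hz3⟩
    obtain ⟨a, b, hab⟩ := (l₃.mem_L z).1 hz3
    have h3 := l.perp_self hq hxl hzl
    have hab' : a • P.e + b • w = z := hab
    rw [← hab', f_add_right hf, s_smul_right hf, s_smul_right hf, hxe, mul_zero, zero_add] at h3
    have hb : b = 0 := by
      rcases mul_eq_zero.1 h3 with h | h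
      · exact h
      · exact absurd h hwx
    rw [hb, zero_smul, add_zero] at hab'
    have ha : a ≠ 0 := by
      rintro rfl
      rw [zero_smul] at hab'
      exact hz0 hab'.symm
    apply he
    apply e_mem_of_smul ha
    rw [hab']
    exact hzl
  · intro h
    exact hwx (h _ hxl _ l₃.v_mem)

end Cfsg.Agent.Lib.Helper16.OA
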