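import Mathlib
import Cfsg.Agent.Lib.Helper16.OA9

set_option autoImplicit false
set_option linter.unusedSectionVars false
set_option linter.unusedVariables false

/-! Automorphisms of orthogonal groups, part 10: the star of a point. -/

namespace Cfsg.Agent.Lib.Helper16.OA

open Matrix Cfsg.Agent.Lib.Helper28.HForm Cfsg.Agent.Lib.Helper28.OGen
  Cfsg.Agent.Lib.Helper28.OMax Cfsg.Agent.Lib.Helper28.OQ Cfsg.Agent.Lib.Helper28.OMax2
  Cfsg.Agent.Lib.Helper28.OIwa Cfsg.Agent.Lib.Helper28.OIwa2 Cfsg.Agent.Lib.Helper28.ONd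

variable {n : ℕ} {F : Type*} [Field F] {Q : (Fin n → F) → F}
  {f : (Fin n → F) → (Fin n → F) → F}

local notation:73 g:73 " ∙ " x:74 => Matrix.mulVec (Units.val g) x

variable {G : Subgroup (Matrix.GeneralLinearGroup (Fin n) F)}

/-- the root groups of the lines through `e`. -/
def Star (hq : QF Q f) (G : Subgroup (Matrix.GeneralLinearGroup (Fin n) F)) (e : Fin n → F) :
    Set (Subgroup (↥G ⧸ Subgroup.center ↥G)) := {C | ∃ l : TSL Q f, e ∈ l.L ∧ C = l.X hq G}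

theorem XG_le_Qe' (hq : QF Q f) (l : TSL Q f) {e : Fin n → F} (he : Q e = 0) (he0 : e ≠ 0)
    (h : e ∈ l.L) : l.XG hq G ≤ Qe hq G e he := by
  obtain ⟨m, hmu, hmL⟩ := l.exists_basis hq e h he0
  rw [← XG_eq_of_L_eq hq m l hmL]
  have := XG_le_Qe hq m (G := G)
  rw [Qe_congr hq hmu m.hu he] at this
  exact this

theorem X_le_Qb (hq : QF Q f) (l : TSL Q f) {e : Fin n → F} (he : Q e = 0) (he0 : e ≠ 0)
    (h : e ∈ l.L) : l.X hq G ≤ Qb hq G e he :=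
  Subgroup.map_mono (XG_le_Qe' hq l he he0 h)

theorem Qb_comm (hq : QF Q f) {e : Fin n → F} (he : Q e = 0)
    {a b : ↥G ⧸ Subgroup.center ↥G} (ha : a ∈ Qb hq G e he) (hb : b ∈ Qb hq G e he) :
    a * b = b * a := by
  obtain ⟨a, ha, rfl⟩ := ha
  obtain ⟨b, hb, rfl⟩ := hb
  rw [← map_mul, ← map_mul, Qe_comm hq he ha hb]

/-- every element of `Qe e` is a product of two root elements at `e`. -/
theorem Qe_gen (hq : QF Q f) (vf : VFacts Q f) (hG : SgGroupQ Q f G) {e : Fin n → F}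
    (he : Q e = 0) (he0 : e ≠ 0) {r : ↥G} (hr : r ∈ Qe hq G e he) :
    ∃ r₁ r₂ : ↥G, r = r₁ * r₂ ∧
      (r₁ = 1 ∨ ∃ l : TSL Q f, e ∈ l.L ∧ r₁ ∈ l.XG hq G) ∧
      (r₂ = 1 ∨ ∃ l : TSL Q f, e ∈ l.L ∧ r₂ ∈ l.XG hq G) := by
  have hf := hq.sym
  obtain ⟨y, hye, hr⟩ := hr
  obtain ⟨y₁, y₂, hsum, h11, h22, h1e, h2e⟩ := vf.decomp e y he he0 hye
  obtain ⟨r₁, hr₁G, hr₁⟩ := isRho_ex hq vf hG e y₁ he he0 h1e
  obtain ⟨r₂, hr₂G, hr₂⟩ := isRho_ex hq vf hG e y₂ he he0 h2e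
  have key : ∀ (y' : Fin n → F) (r' : Matrix.GeneralLinearGroup (Fin n) F) (hr'G : r' ∈ G),
      Q y' = 0 → f y' e = 0 → IsRho Q f r' e y' →
      ((⟨r', hr'G⟩ : ↥G) = 1 ∨ ∃ l : TSL Q f, e ∈ l.L ∧ (⟨r', hr'G⟩ : ↥G) ∈ l.XG hq G) := by
    intro y' r' hr'G hy' hy'e hr'
    by_cases hs : y' ∈ Submodule.span F {e}
    · left
      obtain ⟨k, hk⟩ := Submodule.mem_span_singleton.1 hs
      have h3 := isRho_add_u hq he hy'e (-k) hr'
      have h4 : y' + -k • e = 0 := by rw [← hk]; module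
      rw [h4] at h3
      exact Subtype.ext (isRho_unique h3 (isRho_one hq e))
    · right
      let l : TSL Q f := ⟨e, y', he, hy', by rw [s_symm hf]; exact hy'e, he0, hs⟩
      refine ⟨l, l.u_mem, 1, ?_⟩
      show IsRho Q f r' e ((1 : F) • y')
      rw [one_smul]
      exact hr'
  refine ⟨⟨r₁, hr₁G⟩, ⟨r₂, hr₂G⟩, ?_, key y₁ r₁ hr₁G h11 h1e hr₁, key y₂ r₂ hr₂G h22 h2e hr₂⟩
  apply Subtype.ext
  have h3 := isRho_mul hq he h1e h2e hr₁ hr₂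
  rw [hsum] at h3
  exact isRho_unique hr h3

theorem sSup_star (hq : QF Q f) (vf : VFacts Q f) (hG : SgGroupQ Q f G) {e : Fin n → F}
    (he : Q e = 0) (he0 : e ≠ 0) : sSup (Star hq G e) = Qb hq G e he := by
  apply le_antisymm
  · rw [sSup_le_iff]
    rintro C ⟨l, hl, rfl⟩
    exact X_le_Qb hq l he he0 hl
  · rintro _ ⟨r, hr, rfl⟩
    obtain ⟨r₁, r₂, rfl, h1, h2⟩ := Qe_gen hq vf hG he he0 hr
    rw [map_mul]
    have key : ∀ r' : ↥G, (r' = 1 ∨ ∃ l : TSL Q f, e ∈ l.L ∧ r' ∈ l.XG hq G) →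
        mkG G r' ∈ sSup (Star hq G e) := by
      rintro r' (rfl | ⟨l, hl, hr'⟩)
      · rw [map_one]
        exact Subgroup.one_mem _
      · have h3 : l.X hq G ≤ sSup (Star hq G e) := le_sSup ⟨l, hl, rfl⟩
        exact h3 (Subgroup.mem_map_of_mem _ hr')
    exact Subgroup.mul_mem _ (key r₁ h1) (key r₂ h2)

section fin
variable [Fintype F]

/-- an element centralising the star of `e` lies in `Qb e`. -/
theorem cent_star (hq : QF Q f) (vf : VFacts Q f) (hG : SgGroupQ Q f G) (p : ℕ)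
    [Fact p.Prime] [CharP F p] {e : Fin n → F} (he : Q e = 0) (he0 : e ≠ 0)
    (x : ↥G ⧸ Subgroup.center ↥G) (hx : CentAll (Star hq G e) x) : x ∈ Qb hq G e he := by
  obtain ⟨g, rfl⟩ := mkG_surjective x
  have key : ∀ r' : ↥G, (r' = 1 ∨ ∃ l : TSL Q f, e ∈ l.L ∧ r' ∈ l.XG hq G) → g * r' = r' * g := by
    rintro r' (rfl | ⟨l, hl, hr'⟩)
    · rw [mul_one, one_mul]
    · apply lift_comm hq vf hG p (XG_pow_char hq p l hr')
      exact hx _ ⟨l, hl, rfl⟩ _ (Subgroup.mem_map_of_mem _ hr')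
  have hg : ∀ r ∈ Qe hq G e he, g * r = r * g := by
    intro r hr
    obtain ⟨r₁, r₂, rfl, h1, h2⟩ := Qe_gen hq vf hG he he0 hr
    rw [← mul_assoc, key r₁ h1, mul_assoc, key r₂ h2, mul_assoc]
  obtain ⟨r₀, hr₀, d, _, hd⟩ := cent_Qe hq vf hG he he0 g hg
  have hz := scalar_mem_center (g * r₀⁻¹) d hd
  refine ⟨r₀, hr₀, ?_⟩
  rw [mkG_eq_iff]
  have : r₀⁻¹ * g = (r₀⁻¹ * (g * r₀⁻¹) * r₀⁻¹⁻¹) := by group
  rw [this]
  exact (Subgroup.center ↥G).normal_of_characteristic.conj_mem _ hz _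

theorem APair.sset_eq (hq : QF Q f) (vf : VFacts Q f) (hG : SgGroupQ Q f G) (p : ℕ)
    [Fact p.Prime] [CharP F p] (P : APair Q f) :
    Sset (Rfam hq G) ((P.l₁ hq.sym).X hq G) ((P.l₂ hq.sym).X hq G) = Star hq G P.e := by
  have hf := hq.sym
  ext C
  constructor
  · rintro ⟨⟨l, rfl⟩, h1, h2, h3⟩
    refine ⟨l, ?_, rfl⟩
    by_contra he
    rw [comm_iff hq vf hG p] at h1 h2
    obtain ⟨k1, k2⟩ := P.perp_both hq l h1 h2 he
    obtain ⟨l₃, a1, a2, a3, a4, a5, a6, a7, a8⟩ := P.exists_bad hq l k1 k2 he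
    have h4 := h3 (l₃.X hq G) ⟨l₃, rfl⟩ ((brel_iff hq vf hG p _ _).2 ⟨a1, a3, a4⟩)
      ((brel_iff hq vf hG p _ _).2 ⟨a2, a5, a6⟩)
    rw [comm_iff hq vf hG p] at h4
    rcases h4 with h4 | h4
    · exact a7 h4
    · exact a8 h4
  · rintro ⟨l, hl, rfl⟩
    refine ⟨⟨l, rfl⟩, ?_, ?_, ?_⟩
    · exact comm_of_meet hq _ _ ⟨P.e, P.he0, hl, (P.l₁ hf).u_mem⟩
    · exact comm_of_meet hq _ _ ⟨P.e, P.he0, hl, (P.l₂ hf).u_mem⟩
    · rintro D ⟨l₃, rfl⟩ hD1 hD2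
      rw [brel_iff hq vf hG p] at hD1 hD2
      have := P.through hq l₃ hD1.2.2 hD2.2.1
      exact comm_of_meet hq _ _ ⟨P.e, P.he0, hl, this⟩

theorem APair.sSup_eq (hq : QF Q f) (vf : VFacts Q f) (hG : SgGroupQ Q f G) (p : ℕ)
    [Fact p.Prime] [CharP F p] (P : APair Q f) :
    sSup (Sset (Rfam hq G) ((P.l₁ hq.sym).X hq G) ((P.l₂ hq.sym).X hq G)) =
      Qb hq G P.e P.he := by
  rw [P.sset_eq hq vf hG p, sSup_star hq vf hG P.he P.he0]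

theorem APair.good (hq : QF Q f) (vf : VFacts Q f) (hG : SgGroupQ Q f G) (p : ℕ)
    [Fact p.Prime] [CharP F p] (P : APair Q f) :
    Good (Rfam hq G) ((P.l₁ hq.sym).X hq G) ((P.l₂ hq.sym).X hq G) := by
  have hf := hq.sym
  have hmeet : Meet (P.l₁ hf) (P.l₂ hf) := ⟨P.e, P.he0, (P.l₁ hf).u_mem, (P.l₂ hf).u_mem⟩
  refine ⟨⟨_, rfl⟩, ⟨_, rfl⟩, ?_, comm_of_meet hq _ _ hmeet, ?_, ?_, ?_⟩
  · intro h
    exact P.L_ne hq ((X_eq_iff hq vf hG p _ _).1 h)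
  · intro h
    exact P.not_perp hf (meet_perp_of_allRoot hq vf hG p _ _ (comm_of_meet hq _ _ hmeet) h).2
  · rw [P.sset_eq hq vf hG p]
    rintro C ⟨l, hl, rfl⟩ D ⟨l', hl', rfl⟩
    exact comm_of_meet hq _ _ ⟨P.e, P.he0, hl, hl'⟩
  · rw [P.sset_eq hq vf hG p]
    intro x y hx hy
    exact Qb_comm hq P.he (cent_star hq vf hG p P.he P.he0 x hx)
      (cent_star hq vf hG p P.he P.he0 y hy)

/-- each `Qb e` is distinguished. -/
theorem Qb_mem_Qfam (hq : QF Q f) (vf : VFacts Q f) (hG : SgGroupQ Q f G) (p : ℕ)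
    [Fact p.Prime] [CharP F p] {e : Fin n → F} (he : Q e = 0) (he0 : e ≠ 0) :
    Qb hq G e he ∈ Qfam (Rfam hq G) := by
  have hf := hq.sym
  obtain ⟨e', he', he'e⟩ := hyp_partner_q hq e he0 he
  obtain ⟨s, s', hs, hs', _, hse, _, hs'e, hs's⟩ := vf.hyp_perp e' e he' he (by
    rw [he'e]; exact one_ne_zero)
  let P : APair Q f := ⟨e, s', s, he, he0, hs', hs, by rw [s_symm hf]; exact hs'e,
    by rw [s_symm hf]; exact hse, by rw [hs's]; exact one_ne_zero⟩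
  exact ⟨_, _, P.good hq vf hG p, (P.sSup_eq hq vf hG p).symm⟩

end fin

end Cfsg.Agent.Lib.Helper16.OA
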