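import Mathlib
import Cfsg.Agent.Lib.Helper16.OA10

set_option autoImplicit false
set_option linter.unusedSectionVars false
set_option linter.unusedVariables false

/-! Automorphisms of orthogonal groups, part 11: pairs of disjoint perpendicular lines. -/

namespace Cfsg.Agent.Lib.Helper16.OA

open Matrix Cfsg.Agent.Lib.Helper28.HForm Cfsg.Agent.Lib.Helper28.OGen
  Cfsg.Agent.Lib.Helper28.OMax Cfsg.Agent.Lib.Helper28.OQ Cfsg.Agent.Lib.Helper28.OMax2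
  Cfsg.Agent.Lib.Helper28.OIwa Cfsg.Agent.Lib.Helper28.OIwa2 Cfsg.Agent.Lib.Helper28.ONd

variable {n : ℕ} {F : Type*} [Field F] {Q : (Fin n → F) → F}
  {f : (Fin n → F) → (Fin n → F) → F}

local notation:73 g:73 " ∙ " x:74 => Matrix.mulVec (Units.val g) x

variable {G : Subgroup (Matrix.GeneralLinearGroup (Fin n) F)}

/-- `x` is perpendicular to the line. -/
def PerpV (f : (Fin n → F) → (Fin n → F) → F) (x : Fin n → F) (l : TSL Q f) : Prop :=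
  ∀ y ∈ l.L, f x y = 0

theorem perpV_iff (hf : SymF f) (x : Fin n → F) (l : TSL Q f) :
    PerpV f x l ↔ f x l.u = 0 ∧ f x l.v = 0 := by
  constructor
  · intro h
    exact ⟨h _ l.u_mem, h _ l.v_mem⟩
  · rintro ⟨h1, h2⟩ y hy
    obtain ⟨a, b, rfl⟩ := (l.mem_L y).1 hy
    rw [f_add_right hf, s_smul_right hf, s_smul_right hf, h1, h2]
    ring

theorem perpL_of_perpV {l₄ l : TSL Q f} (h : ∀ x ∈ l₄.L, PerpV f x l) : PerpL f l₄ l :=
  fun x hx y hy => h x hx y hy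

/-- the span of two perpendicular lines is totally isotropic. -/
theorem T_iso (hq : QF Q f) {l₁ l₂ : TSL Q f} (hp : PerpL f l₁ l₂) {x y : Fin n → F}
    (hx : x ∈ l₁.L ⊔ l₂.L) (hy : y ∈ l₁.L ⊔ l₂.L) : f x y = 0 := by
  have hf := hq.sym
  obtain ⟨x₁, hx₁, x₂, hx₂, rfl⟩ := Submodule.mem_sup.1 hx
  obtain ⟨y₁, hy₁, y₂, hy₂, rfl⟩ := Submodule.mem_sup.1 hy
  rw [hf.add_left, f_add_right hf, f_add_right hf, l₁.perp_self hq hx₁ hy₁, hp _ hx₁ _ hy₂,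
    s_symm hf x₂ y₁, hp _ hy₁ _ hx₂, l₂.perp_self hq hx₂ hy₂]
  ring

theorem perp_T (hf : SymF f) {l₁ l₂ : TSL Q f} {x : Fin n → F} (h1 : PerpV f x l₁)
    (h2 : PerpV f x l₂) {y : Fin n → F} (hy : y ∈ l₁.L ⊔ l₂.L) : f x y = 0 := by
  obtain ⟨y₁, hy₁, y₂, hy₂, rfl⟩ := Submodule.mem_sup.1 hy
  rw [f_add_right hf, h1 _ hy₁, h2 _ hy₂, add_zero]

theorem not_mem_of_not_meet {l₁ l₂ : TSL Q f} (hnm : ¬ Meet l₁ l₂) {x : Fin n → F} (hx0 : x ≠ 0)
    (hx : x ∈ l₁.L) : x ∉ l₂.L := fun h => hnm ⟨x, hx0, hx, h⟩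

section fin
variable [Fintype F]

/-- lines perpendicular to both lines lie in the distinguished set. -/
theorem c_sset_of_perp (hq : QF Q f) (vf : VFacts Q f) (hG : SgGroupQ Q f G) (p : ℕ)
    [Fact p.Prime] [CharP F p] {l₁ l₂ : TSL Q f} (hnm : ¬ Meet l₁ l₂)
    (l₄ : TSL Q f) (h1 : PerpL f l₄ l₁) (h2 : PerpL f l₄ l₂) :
    l₄.X hq G ∈ Sset (Rfam hq G) (l₁.X hq G) (l₂.X hq G) := by
  have hf := hq.sym
  refine ⟨⟨l₄, rfl⟩, comm_of_perp hq _ _ h1, comm_of_perp hq _ _ h2, ?_⟩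
  rintro D ⟨l₃, rfl⟩ hD1 hD2
  rw [brel_iff hq vf hG p] at hD1 hD2
  obtain ⟨p₁, hp10, hp13, hp11⟩ := hD1.2.1
  obtain ⟨p₂, hp20, hp23, hp22⟩ := hD2.2.1
  have hn : p₂ ∉ Submodule.span F {p₁} := by
    intro h
    obtain ⟨k, hk⟩ := Submodule.mem_span_singleton.1 h
    apply hnm
    refine ⟨p₂, hp20, ?_, hp22⟩
    rw [← hk]
    exact l₁.L.smul_mem _ hp11
  have hL := l₃.mk'_L hq p₁ p₂ hp13 hp23 hp10 hn
  show Comm (l₄.X hq G) (l₃.X hq G)
  rw [← X_eq_of_L_eq hq _ l₃ hL]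
  apply comm_of_perp
  rw [perpL_iff hf]
  exact ⟨h1 _ l₄.u_mem _ hp11, h2 _ l₄.u_mem _ hp22, h1 _ l₄.v_mem _ hp11, h2 _ l₄.v_mem _ hp22⟩

/-- if some singular vector perpendicular to both lines lies outside their span, the
distinguished set is not a clique. -/
theorem c_not_clique (hq : QF Q f) (vf : VFacts Q f) (hG : SgGroupQ Q f G) (p : ℕ)
    [Fact p.Prime] [CharP F p] {l₁ l₂ : TSL Q f} (hp : PerpL f l₁ l₂) (hnm : ¬ Meet l₁ l₂)
    (x : Fin n → F) (hx : Q x = 0) (hx1 : PerpV f x l₁) (hx2 : PerpV f x l₂)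
    (hxT : x ∉ l₁.L ⊔ l₂.L) :
    ∃ C ∈ Sset (Rfam hq G) (l₁.X hq G) (l₂.X hq G),
      ∃ D ∈ Sset (Rfam hq G) (l₁.X hq G) (l₂.X hq G), ¬ Comm C D := by
  have hf := hq.sym
  obtain ⟨y₀, hy₀T, hy₀x⟩ := dperp_s hf _ x hxT
  obtain ⟨t, ht⟩ : ∃ t, t = - Q y₀ / f x y₀ := ⟨_, rfl⟩
  obtain ⟨y, hy⟩ : ∃ y, y = y₀ + t • x := ⟨_, rfl⟩
  have hyQ : Q y = 0 := by
    rw [hy, hq.polar, hq.smul, hx, s_smul_right hf, s_symm hf y₀ x, ht]
    field_simp
    ring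
  have hxy : f x y ≠ 0 := by
    rw [hy, f_add_right hf, s_smul_right hf, f_sing hq hx, mul_zero, add_zero]
    exact hy₀x
  have hyT : ∀ s ∈ l₁.L ⊔ l₂.L, f y s = 0 := by
    intro s hs
    rw [hy, hf.add_left, hf.smul_left, s_symm hf y₀ s, hy₀T s hs, perp_T hf hx1 hx2 hs]
    ring
  have hu1 : l₁.u ∈ l₁.L ⊔ l₂.L := Submodule.mem_sup_left l₁.u_mem
  have hv1 : l₁.v ∈ l₁.L ⊔ l₂.L := Submodule.mem_sup_left l₁.v_mem
  have hxn : x ∉ Submodule.span F {l₁.u} := by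
    intro h
    apply hxT
    exact (Submodule.span_singleton_le_iff_mem _ _).2 hu1 h
  have hyn : y ∉ Submodule.span F {l₁.v} := by
    intro h
    obtain ⟨k, hk⟩ := Submodule.mem_span_singleton.1 h
    apply hxy
    rw [← hk, s_smul_right hf, hx1 _ l₁.v_mem, mul_zero]
  let la : TSL Q f := ⟨l₁.u, x, l₁.hu, hx, by rw [s_symm hf]; exact hx1 _ l₁.u_mem, l₁.hu0, hxn⟩
  let lb : TSL Q f := ⟨l₁.v, y, l₁.hv, hyQ, by rw [s_symm hf]; exact hyT _ hv1, l₁.hv0, hyn⟩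
  have ha1 : PerpL f la l₁ := by
    rw [perpL_iff hf]
    exact ⟨f_sing hq l₁.hu, l₁.huv, hx1 _ l₁.u_mem, hx1 _ l₁.v_mem⟩
  have ha2 : PerpL f la l₂ := by
    rw [perpL_iff hf]
    exact ⟨hp _ l₁.u_mem _ l₂.u_mem, hp _ l₁.u_mem _ l₂.v_mem, hx2 _ l₂.u_mem, hx2 _ l₂.v_mem⟩
  have hb1 : PerpL f lb l₁ := by
    rw [perpL_iff hf]
    exact ⟨by rw [s_symm hf]; exact l₁.huv, f_sing hq l₁.hv, hyT _ hu1, hyT _ hv1⟩
  have hb2 : PerpL f lb l₂ := by
    rw [perpL_iff hf]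
    exact ⟨hp _ l₁.v_mem _ l₂.u_mem, hp _ l₁.v_mem _ l₂.v_mem,
      hyT _ (Submodule.mem_sup_right l₂.u_mem), hyT _ (Submodule.mem_sup_right l₂.v_mem)⟩
  refine ⟨la.X hq G, c_sset_of_perp hq vf hG p hnm la ha1 ha2,
    lb.X hq G, c_sset_of_perp hq vf hG p hnm lb hb1 hb2, ?_⟩
  rw [comm_iff hq vf hG p]
  rintro (⟨z, hz0, hza, hzb⟩ | h)
  · obtain ⟨a, b, hab⟩ := (la.mem_L z).1 hza
    obtain ⟨c, d, hcd⟩ := (lb.mem_L z).1 hzb
    have hab' : a • l₁.u + b • x = z := hab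
    have hcd' : c • l₁.v + d • y = z := hcd
    have e1 : f x z = 0 := by
      rw [← hab', f_add_right hf, s_smul_right hf, s_smul_right hf, hx1 _ l₁.u_mem,
        f_sing hq hx]
      ring
    have e2 : f x z = d * f x y := by
      rw [← hcd', f_add_right hf, s_smul_right hf, s_smul_right hf, hx1 _ l₁.v_mem]
      ring
    have hd : d = 0 := by
      rw [e1] at e2
      rcases mul_eq_zero.1 e2.symm with h | h
      · exact h
      · exact absurd h hxy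
    have e3 : f y z = 0 := by
      rw [← hcd', f_add_right hf, s_smul_right hf, s_smul_right hf, hyT _ hv1, f_sing hq hyQ]
      ring
    have e4 : f y z = b * f x y := by
      rw [← hab', f_add_right hf, s_smul_right hf, s_smul_right hf, hyT _ hu1, s_symm hf y x]
      ring
    have hb : b = 0 := by
      rw [e3] at e4
      rcases mul_eq_zero.1 e4.symm with h | h
      · exact h
      · exact absurd h hxy
    rw [hb, zero_smul, add_zero] at hab'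
    rw [hd, zero_smul, add_zero] at hcd'
    have e5 : a • l₁.u + (-c) • l₁.v = 0 := by
      rw [hab', neg_smul, hcd', add_neg_cancel]
    have ha := (l₁.indep e5).1
    rw [ha, zero_smul] at hab'
    exact hz0 hab'.symm
  · exact hxy (h _ la.v_mem _ lb.v_mem)

/-- a line of the distinguished set is perpendicular to the first line, when all singular
vectors perpendicular to both lines are in their span. -/
theorem c_perp_aux (hq : QF Q f) (vf : VFacts Q f) (hG : SgGroupQ Q f G) (p : ℕ)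
    [Fact p.Prime] [CharP F p] {l₁ l₂ : TSL Q f} (hp : PerpL f l₁ l₂) (hnm : ¬ Meet l₁ l₂)
    (l₄ : TSL Q f) (hc1 : Comm (l₄.X hq G) (l₁.X hq G))
    (hall : ∀ D ∈ Rfam hq G, BRel (Rfam hq G) D (l₁.X hq G) → BRel (Rfam hq G) D (l₂.X hq G) →
      Comm (l₄.X hq G) D) : PerpL f l₄ l₁ := by
  have hf := hq.sym
  have hp' := PerpL.symm hf hp
  by_contra hnp
  rw [comm_iff hq vf hG p] at hc1
  rcases hc1 with hm | hc1
  swap
  · exact hnp hc1
  obtain ⟨p₁, hp10, hp14, hp11⟩ := hm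
  unfold PerpL at hnp
  push Not at hnp
  obtain ⟨x₄, hx₄, q₁, hq₁, hne⟩ := hnp
  have hq10 : q₁ ≠ 0 := by
    rintro rfl
    exact hne (f_zero_right hf x₄)
  have hu2n : l₂.u ∉ Submodule.span F {q₁} := by
    intro h
    apply hnm
    refine ⟨l₂.u, l₂.hu0, ?_, l₂.u_mem⟩
    exact (Submodule.span_singleton_le_iff_mem _ _).2 hq₁ h
  let l₃ : TSL Q f := ⟨q₁, l₂.u, l₁.sing hq hq₁, l₂.hu, hp _ hq₁ _ l₂.u_mem, hq10, hu2n⟩
  have hq1n2 : q₁ ∉ l₂.L := not_mem_of_not_meet hnm hq10 hq₁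
  have hu2n1 : l₂.u ∉ l₁.L := fun h => hnm ⟨l₂.u, l₂.hu0, h, l₂.u_mem⟩
  have hb1 : BRel (Rfam hq G) (l₃.X hq G) (l₁.X hq G) := by
    rw [brel_iff hq vf hG p]
    refine ⟨?_, ⟨q₁, hq10, l₃.u_mem, hq₁⟩, ?_⟩
    · intro h
      apply hu2n1
      rw [← h]
      exact l₃.v_mem
    · rw [perpL_iff hf]
      exact ⟨l₁.perp_self hq hq₁ l₁.u_mem, l₁.perp_self hq hq₁ l₁.v_mem,
        hp' _ l₂.u_mem _ l₁.u_mem, hp' _ l₂.u_mem _ l₁.v_mem⟩
  have hb2 : BRel (Rfam hq G) (l₃.X hq G) (l₂.X hq G) := by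
    rw [brel_iff hq vf hG p]
    refine ⟨?_, ⟨l₂.u, l₂.hu0, l₃.v_mem, l₂.u_mem⟩, ?_⟩
    · intro h
      apply hq1n2
      rw [← h]
      exact l₃.u_mem
    · rw [perpL_iff hf]
      exact ⟨hp _ hq₁ _ l₂.u_mem, hp _ hq₁ _ l₂.v_mem, f_sing hq l₂.hu, l₂.huv⟩
  have h3 := hall _ ⟨l₃, rfl⟩ hb1 hb2
  rw [comm_iff hq vf hG p] at h3
  rcases h3 with ⟨z, hz0, hz4, hz3⟩ | h3
  · obtain ⟨a, b, hab⟩ := (l₃.mem_L z).1 hz3
    have hab' : a • q₁ + b • l₂.u = z := hab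
    by_cases hzs : z ∈ Submodule.span F {p₁}
    · have hz1 : z ∈ l₁.L := (Submodule.span_singleton_le_iff_mem _ _).2 hp11 hzs
      have hb : b = 0 := by
        by_contra hb
        apply hu2n1
        have h5 : b • l₂.u ∈ l₁.L := by
          have : b • l₂.u = z - a • q₁ := by rw [← hab']; abel
          rw [this]
          exact l₁.L.sub_mem hz1 (l₁.L.smul_mem _ hq₁)
        exact e_mem_of_smul hb h5
      rw [hb, zero_smul, add_zero] at hab'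
      have ha : a ≠ 0 := by
        rintro rfl
        rw [zero_smul] at hab'
        exact hz0 hab'.symm
      have hq4 : q₁ ∈ l₄.L := by
        apply e_mem_of_smul ha
        rw [hab']
        exact hz4
      exact hne (l₄.perp_self hq hx₄ hq4)
    · have hL := l₄.mk'_L hq p₁ z hp14 hz4 hp10 hzs
      have hzT : z ∈ l₁.L ⊔ l₂.L := by
        rw [← hab']
        exact Submodule.add_mem _ (Submodule.smul_mem _ _ (Submodule.mem_sup_left hq₁))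
          (Submodule.smul_mem _ _ (Submodule.mem_sup_right l₂.u_mem))
      have hx₄T : x₄ ∈ l₁.L ⊔ l₂.L := by
        rw [← hL] at hx₄
        obtain ⟨c, d, hcd⟩ := ((l₄.mk' hq p₁ z hp14 hz4 hp10 hzs).mem_L x₄).1 hx₄
        have hcd' : c • p₁ + d • z = x₄ := hcd
        rw [← hcd']
        exact Submodule.add_mem _ (Submodule.smul_mem _ _ (Submodule.mem_sup_left hp11))
          (Submodule.smul_mem _ _ hzT)
      exact hne (T_iso hq hp hx₄T (Submodule.mem_sup_left hq₁))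
  · exact hne (h3 _ hx₄ _ l₃.u_mem)

theorem sset_symm {X : Type*} [Group X] (R : Set (Subgroup X)) (A B : Subgroup X) :
    Sset R A B = Sset R B A := by
  ext C
  constructor
  · rintro ⟨h1, h2, h3, h4⟩
    exact ⟨h1, h3, h2, fun D hD hDB hDA => h4 D hD hDA hDB⟩
  · rintro ⟨h1, h2, h3, h4⟩
    exact ⟨h1, h3, h2, fun D hD hDB hDA => h4 D hD hDA hDB⟩

theorem c_sset_sub (hq : QF Q f) (vf : VFacts Q f) (hG : SgGroupQ Q f G) (p : ℕ)
    [Fact p.Prime] [CharP F p] {l₁ l₂ : TSL Q f} (hp : PerpL f l₁ l₂) (hnm : ¬ Meet l₁ l₂)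
    (hclosed : ∀ x, Q x = 0 → PerpV f x l₁ → PerpV f x l₂ → x ∈ l₁.L ⊔ l₂.L)
    (l₄ : TSL Q f) (h4 : l₄.X hq G ∈ Sset (Rfam hq G) (l₁.X hq G) (l₂.X hq G)) :
    l₄.L ≤ l₁.L ⊔ l₂.L := by
  have hf := hq.sym
  obtain ⟨_, hc1, hc2, hall⟩ := h4
  have k1 := c_perp_aux hq vf hG p hp hnm l₄ hc1 hall
  have k2 := c_perp_aux hq vf hG p (PerpL.symm hf hp) (fun h => hnm h.symm) l₄ hc2
    (fun D hD h2 h1 => hall D hD h1 h2)
  intro x hx
  exact hclosed x (l₄.sing hq hx) (fun y hy => k1 _ hx _ hy) (fun y hy => k2 _ hx _ hy)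

/-- when the span of the two lines is not its own perpendicular, the centraliser of the
distinguished set is not commutative. -/
theorem c_cent_noncomm (hq : QF Q f) (vf : VFacts Q f) (hG : SgGroupQ Q f G) (p : ℕ)
    [Fact p.Prime] [CharP F p] {l₁ l₂ : TSL Q f} (hp : PerpL f l₁ l₂) (hnm : ¬ Meet l₁ l₂)
    (hclosed : ∀ x, Q x = 0 → PerpV f x l₁ → PerpV f x l₂ → x ∈ l₁.L ⊔ l₂.L)
    (d : Fin n → F) (hd1 : PerpV f d l₁) (hd2 : PerpV f d l₂) (hdT : d ∉ l₁.L ⊔ l₂.L) :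
    ∃ x y : ↥G ⧸ Subgroup.center ↥G,
      CentAll (Sset (Rfam hq G) (l₁.X hq G) (l₂.X hq G)) x ∧
      CentAll (Sset (Rfam hq G) (l₁.X hq G) (l₂.X hq G)) y ∧ x * y ≠ y * x := by
  have hf := hq.sym
  obtain ⟨d', hd'T, hdd'⟩ := dperp_s hf _ d hdT
  have hu1 : l₁.u ∈ l₁.L ⊔ l₂.L := Submodule.mem_sup_left l₁.u_mem
  have hv1 : l₁.v ∈ l₁.L ⊔ l₂.L := Submodule.mem_sup_left l₁.v_mem
  obtain ⟨g, hgG, hg⟩ := isRho_ex hq vf hG l₁.u d l₁.hu l₁.hu0 (hd1 _ l₁.u_mem)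
  obtain ⟨h, hhG, hh⟩ := isRho_ex hq vf hG l₁.v d' l₁.hv l₁.hv0 (by
    rw [s_symm hf]; exact hd'T _ hv1)
  -- both fix the span pointwise
  have hgfix : ∀ x ∈ l₁.L ⊔ l₂.L, g ∙ x = x := by
    intro x hx
    exact isRho_fix hg (T_iso hq hp hu1 hx) (perp_T hf hd1 hd2 hx)
  have hhfix : ∀ x ∈ l₁.L ⊔ l₂.L, h ∙ x = x := by
    intro x hx
    exact isRho_fix hh (T_iso hq hp hv1 hx) (by rw [s_symm hf]; exact hd'T _ hx)
  have hcent : ∀ (k : Matrix.GeneralLinearGroup (Fin n) F) (hkG : k ∈ G),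
      (∀ x ∈ l₁.L ⊔ l₂.L, k ∙ x = x) →
      CentAll (Sset (Rfam hq G) (l₁.X hq G) (l₂.X hq G)) (mkG G ⟨k, hkG⟩) := by
    intro k hkG hkfix C hC c hc
    obtain ⟨l₄, rfl⟩ := hC.1
    have hsub := c_sset_sub hq vf hG p hp hnm hclosed l₄ hC
    obtain ⟨t, ht, rfl⟩ := hc
    rw [← map_mul, ← map_mul]
    congr 1
    obtain ⟨c, hc⟩ := ht
    have h1 := isRho_conj hq (hG.iso k hkG) hc
    rw [Matrix.mulVec_smul, hkfix _ (hsub l₄.u_mem), hkfix _ (hsub l₄.v_mem)] at h1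
    have h2 : k * (t : Matrix.GeneralLinearGroup (Fin n) F) * k⁻¹ = t := isRho_unique h1 hc
    apply Subtype.ext
    show k * (t : Matrix.GeneralLinearGroup (Fin n) F) = t * k
    calc k * (t : Matrix.GeneralLinearGroup (Fin n) F)
        = k * (t : Matrix.GeneralLinearGroup (Fin n) F) * k⁻¹ * k := by group
      _ = t * k := by rw [h2]
  refine ⟨mkG G ⟨g, hgG⟩, mkG G ⟨h, hhG⟩, hcent g hgG hgfix, hcent h hhG hhfix, ?_⟩
  intro hcomm
  have hhp : (⟨h, hhG⟩ : ↥G) ^ p = 1 :=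
    Qe_pow_char hq p l₁.hv ⟨d', by rw [s_symm hf]; exact hd'T _ hv1, hh⟩
  have h1 := lift_comm hq vf hG p hhp hcomm
  have h2 : g * h * g⁻¹ = h := by
    have : g * h = h * g := congrArg Subtype.val h1
    rw [this, mul_inv_cancel_right]
  have h3 := isRho_conj hq (hG.iso g hgG) hh
  rw [h2, hgfix _ hv1, hg d'] at h3
  have h4 := rho_param hq l₁.hv l₁.hv0 h3 hh
  have e1 : f l₁.u d' = 0 := hd'T _ hu1
  rw [e1, zero_smul, mul_zero, zero_smul, add_zero, sub_zero] at h4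
  obtain ⟨k, hk⟩ := Submodule.mem_span_singleton.1 h4
  have e2 : (-(f d d')) • l₁.u + (-k) • l₁.v = 0 := by
    have : d' - f d d' • l₁.u - d' = -(f d d') • l₁.u := by module
    rw [this] at hk
    rw [← hk]
    module
  have := (l₁.indep e2).1
  exact hdd' (neg_eq_zero.1 this)

/-- in dimension at least nine a vector perpendicular to both lines outside their span exists. -/
theorem exists_d (hf : SymF f) (hn : 9 ≤ n) (l₁ l₂ : TSL Q f) :
    ∃ d, PerpV f d l₁ ∧ PerpV f d l₂ ∧ d ∉ l₁.L ⊔ l₂.L := by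
  obtain ⟨x, hx⟩ : ∃ x : Fin 4 → (Fin n → F), x = ![l₁.u, l₁.v, l₂.u, l₂.v] := ⟨_, rfl⟩
  have h1 := finrank_ker_ge hf x
  have hT : Module.finrank F ↥(l₁.L ⊔ l₂.L) ≤ 4 := by
    have h2 := Submodule.finrank_add_le_finrank_add_finrank l₁.L l₂.L
    rw [l₁.finrank_L, l₂.finrank_L] at h2
    omega
  by_contra hcon
  push Not at hcon
  have hle : LinearMap.ker (perpMap hf x) ≤ l₁.L ⊔ l₂.L := by
    intro d hd
    rw [mem_ker_perpMap] at hd
    apply hcon d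
    · rw [perpV_iff hf]
      have a0 := hd 0
      have a1 := hd 1
      rw [hx] at a0 a1
      exact ⟨a0, a1⟩
    · rw [perpV_iff hf]
      have a2 := hd 2
      have a3 := hd 3
      rw [hx] at a2 a3
      exact ⟨a2, a3⟩
  have h3 := Submodule.finrank_mono hle
  omega

end fin

end Cfsg.Agent.Lib.Helper16.OA
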