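import Mathlib
import Cfsg.Agent.Lib.Helper16.OA11

set_option autoImplicit false
set_option linter.unusedSectionVars false
set_option linter.unusedVariables false

/-! Automorphisms of orthogonal groups, part 12: automorphisms permute the radicals `Qb e`. -/

namespace Cfsg.Agent.Lib.Helper16.OA

open Matrix Cfsg.Agent.Lib.Helper28.HForm Cfsg.Agent.Lib.Helper28.OGen
  Cfsg.Agent.Lib.Helper28.OMax Cfsg.Agent.Lib.Helper28.OQ Cfsg.Agent.Lib.Helper28.OMax2
  Cfsg.Agent.Lib.Helper28.OIwa Cfsg.Agent.Lib.Helper28.OIwa2 Cfsg.Agent.Lib.Helper28.ONd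

variable {n : ℕ} {F : Type*} [Field F] {Q : (Fin n → F) → F}
  {f : (Fin n → F) → (Fin n → F) → F}

local notation:73 g:73 " ∙ " x:74 => Matrix.mulVec (Units.val g) x

variable {G : Subgroup (Matrix.GeneralLinearGroup (Fin n) F)}

section fin
variable [Fintype F]

/-- the distinguished subgroups are exactly the `Qb e`. -/
theorem qfam_iff (hq : QF Q f) (vf : VFacts Q f) (hG : SgGroupQ Q f G) (p : ℕ)
    [Fact p.Prime] [CharP F p]
    (hT : 9 ≤ n ∨ ∀ l₁ l₂ : TSL Q f, PerpL f l₁ l₂ → Meet l₁ l₂)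
    (H : Subgroup (↥G ⧸ Subgroup.center ↥G)) :
    H ∈ Qfam (Rfam hq G) ↔ ∃ (e : Fin n → F) (he : Q e = 0), e ≠ 0 ∧ H = Qb hq G e he := by
  have hf := hq.sym
  constructor
  · rintro ⟨A, B, hgood, rfl⟩
    obtain ⟨⟨l₁, rfl⟩, ⟨l₂, rfl⟩, hne, hcomm, hnall, hclique, hcent⟩ := hgood
    have hmp := meet_or_perp_of_comm hq vf hG p l₁ l₂ hcomm
    by_cases hm : Meet l₁ l₂
    · have hnp : ¬ PerpL f l₁ l₂ := fun h => hnall (allRoot_of_meet_perp hq l₁ l₂ hm h)
      obtain ⟨e, he0, h1, h2⟩ := hm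
      obtain ⟨m₁, hmu₁, hmL₁⟩ := l₁.exists_basis hq e h1 he0
      obtain ⟨m₂, hmu₂, hmL₂⟩ := l₂.exists_basis hq e h2 he0
      have hnp' : ¬ PerpL f m₁ m₂ := fun h => hnp ((perpL_congr hmL₁ hmL₂).1 h)
      have heu : Q e = 0 := l₁.sing hq h1
      have he1 : f e m₁.v = 0 := by rw [← hmu₁]; exact m₁.huv
      have he2 : f e m₂.v = 0 := by rw [← hmu₂]; exact m₂.huv
      have h12 : f m₁.v m₂.v ≠ 0 := by
        intro h
        apply hnp'
        rw [perpL_iff hf, hmu₁, hmu₂]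
        exact ⟨f_sing hq heu, he2, by rw [s_symm hf]; exact he1, h⟩
      let P : APair Q f := ⟨e, m₁.v, m₂.v, heu, he0, m₁.hv, m₂.hv, he1, he2, h12⟩
      have hL1 : (P.l₁ hf).L = l₁.L := by
        rw [← hmL₁]
        show Submodule.span F {e, m₁.v} = Submodule.span F {m₁.u, m₁.v}
        rw [hmu₁]
      have hL2 : (P.l₂ hf).L = l₂.L := by
        rw [← hmL₂]
        show Submodule.span F {e, m₂.v} = Submodule.span F {m₂.u, m₂.v}
        rw [hmu₂]
      refine ⟨e, heu, he0, ?_⟩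
      show sSup (Sset (Rfam hq G) (l₁.X hq G) (l₂.X hq G)) = _
      rw [← X_eq_of_L_eq hq _ l₁ hL1, ← X_eq_of_L_eq hq _ l₂ hL2]
      exact P.sSup_eq hq vf hG p
    · exfalso
      have hp : PerpL f l₁ l₂ := by
        rcases hmp with h | h
        · exact absurd h hm
        · exact h
      rcases hT with hn | hT
      · by_cases hx : ∃ x, Q x = 0 ∧ PerpV f x l₁ ∧ PerpV f x l₂ ∧ x ∉ l₁.L ⊔ l₂.L
        · obtain ⟨x, hx0, hx1, hx2, hxT⟩ := hx
          obtain ⟨C, hC, D, hD, hCD⟩ := c_not_clique hq vf hG p hp hm x hx0 hx1 hx2 hxT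
          exact hCD (hclique C hC D hD)
        · push Not at hx
          obtain ⟨d, hd1, hd2, hdT⟩ := exists_d hf hn l₁ l₂
          obtain ⟨x, y, hx', hy', hxy⟩ := c_cent_noncomm hq vf hG p hp hm hx d hd1 hd2 hdT
          exact hxy (hcent x y hx' hy')
      · exact hm (hT l₁ l₂ hp)
  · rintro ⟨e, he, he0, rfl⟩
    exact Qb_mem_Qfam hq vf hG p he he0

theorem rfam_map (hq : QF Q f) (vf : VFacts Q f) (hG : SgGroupQ Q f G) (p : ℕ)
    [Fact p.Prime] [CharP F p] (hn : 1 ≤ n) (α : MulAut (↥G ⧸ Subgroup.center ↥G))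
    (A : Subgroup (↥G ⧸ Subgroup.center ↥G)) (hA : A ∈ Rfam hq G) :
    A.map α.toMonoidHom ∈ Rfam hq G := by
  obtain ⟨l, rfl⟩ := hA
  obtain ⟨e', w', he', hw', hew', he0', hwn', h⟩ :=
    aut_Xb hq vf hG p hn l.hu l.hv l.huv l.hu0 l.hvn α
  exact ⟨⟨e', w', he', hw', hew', he0', hwn'⟩, h.symm⟩

/-- automorphisms permute the subgroups `Qb e`. -/
theorem aut_Qb (hq : QF Q f) (vf : VFacts Q f) (hG : SgGroupQ Q f G) (p : ℕ)
    [Fact p.Prime] [CharP F p] (hn : 1 ≤ n)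
    (hT : 9 ≤ n ∨ ∀ l₁ l₂ : TSL Q f, PerpL f l₁ l₂ → Meet l₁ l₂)
    (α : MulAut (↥G ⧸ Subgroup.center ↥G)) {e : Fin n → F} (he : Q e = 0) (he0 : e ≠ 0) :
    ∃ (e' : Fin n → F) (he' : Q e' = 0), e' ≠ 0 ∧
      (Qb hq G e he).map α.toMonoidHom = Qb hq G e' he' := by
  have h1 := Qb_mem_Qfam hq vf hG p he he0 (G := G)
  have h2 := qfam_mp α (rfam_map hq vf hG p hn α) (rfam_map hq vf hG p hn α.symm) h1
  exact (qfam_iff hq vf hG p hT _).1 h2

theorem mkG_eq_one_of_pow (hq : QF Q f) (vf : VFacts Q f) (hG : SgGroupQ Q f G) (p : ℕ)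
    [Fact p.Prime] [CharP F p] {r : ↥G} (hr : r ^ p = 1) (h : mkG G r = 1) : r = 1 := by
  apply lift_eq hq vf hG p hr (one_pow p)
  rw [h, map_one]

theorem Qe_fix (hq : QF Q f) {e : Fin n → F} (he : Q e = 0) {r : ↥G} (hr : r ∈ Qe hq G e he) :
    (r : Matrix.GeneralLinearGroup (Fin n) F) ∙ e = e := by
  obtain ⟨y, hy, hr⟩ := hr
  exact isRho_fix hr (f_sing hq he) hy

theorem Qb_le_iff (hq : QF Q f) (vf : VFacts Q f) (hG : SgGroupQ Q f G) (p : ℕ)
    [Fact p.Prime] [CharP F p] {e e' : Fin n → F} (he : Q e = 0) (he0 : e ≠ 0)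
    (he' : Q e' = 0) (h : Qb hq G e he ≤ Qb hq G e' he') : e' ∈ Submodule.span F {e} := by
  apply rho_fixed hq vf hG he he0
  intro r y hy hr
  have hrG : r ∈ G := isRho_mem hq vf hG hr he he0 hy
  have hrm : (⟨r, hrG⟩ : ↥G) ∈ Qe hq G e he := ⟨y, hy, hr⟩
  obtain ⟨r', hr', hrr'⟩ := h (Subgroup.mem_map_of_mem _ hrm)
  have h1 := lift_eq hq vf hG p (Qe_pow_char hq p he' hr') (Qe_pow_char hq p he hrm) hrr'
  rw [h1] at hr'
  exact Qe_fix hq he' hr'

/-- two radicals meet non-trivially exactly for perpendicular points. -/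
theorem Qb_inf_iff (hq : QF Q f) (vf : VFacts Q f) (hG : SgGroupQ Q f G) (p : ℕ)
    [Fact p.Prime] [CharP F p] {e e' : Fin n → F} (he : Q e = 0) (he0 : e ≠ 0)
    (he' : Q e' = 0) (he0' : e' ≠ 0) :
    (∃ x, x ≠ 1 ∧ x ∈ Qb hq G e he ∧ x ∈ Qb hq G e' he') ↔ f e e' = 0 := by
  have hf := hq.sym
  constructor
  · rintro ⟨x, hx1, ⟨r, hr, rfl⟩, ⟨r', hr', hrr'⟩⟩
    have h1 := lift_eq hq vf hG p (Qe_pow_char hq p he' hr') (Qe_pow_char hq p he hr) hrr'
    rw [h1] at hr'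
    have h2 := Qe_fix hq he' hr'
    obtain ⟨y, hy, hry⟩ := hr
    by_contra hne
    rw [hry e'] at h2
    have h3 : f e e' • y = (f y e' + Q y * f e e') • e := by
      have : f e e' • y - f y e' • e - (Q y * f e e') • e = 0 := by
        have e1 : f e e' • y - f y e' • e - (Q y * f e e') • e =
          (e' + f e e' • y - f y e' • e - (Q y * f e e') • e) - e' := by module
        rw [e1, h2, sub_self]
      rw [add_smul]
      have e2 : f e e' • y = (f e e' • y - f y e' • e - (Q y * f e e') • e) + f y e' • e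
        + (Q y * f e e') • e := by module
      rw [e2, this, zero_add]
    have h4 : y = ((f e e')⁻¹ * (f y e' + Q y * f e e')) • e := by
      rw [mul_smul, ← h3, smul_smul, inv_mul_cancel₀ hne, one_smul]
    obtain ⟨k, hk⟩ : ∃ k : F, y = k • e := ⟨_, h4⟩
    have h5 := isRho_add_u hq he hy (-k) hry
    have h6 : y + -k • e = 0 := by rw [hk]; module
    rw [h6] at h5
    have h7 : r = 1 := Subtype.ext (isRho_unique h5 (isRho_one hq e))
    apply hx1
    rw [h7, map_one]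
  · intro hee'
    by_cases hs : e' ∈ Submodule.span F {e}
    · obtain ⟨x, hx, hx1⟩ := exists_ne_one_Qe hq vf hG (G := G) he he0
      refine ⟨mkG G x, ?_, Subgroup.mem_map_of_mem _ hx, ?_⟩
      · intro h
        exact hx1 (mkG_eq_one_of_pow hq vf hG p (Qe_pow_char hq p he hx) h)
      · obtain ⟨k, hk⟩ := Submodule.mem_span_singleton.1 hs
        obtain ⟨y, hy, hxy⟩ := hx
        have hk0 : k ≠ 0 := by
          rintro rfl
          rw [zero_smul] at hk
          exact he0' hk.symm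
        refine Subgroup.mem_map_of_mem _ ⟨k⁻¹ • y, ?_, ?_⟩
        · rw [hf.smul_left, ← hk, s_smul_right hf, hy]
          ring
        · rw [← hk]
          apply isRho_smul' hq k
          rw [smul_smul, mul_inv_cancel₀ hk0, one_smul]
          exact hxy
    · let l : TSL Q f := ⟨e, e', he, he', hee', he0, hs⟩
      obtain ⟨t, ht⟩ := l.exists_elt hq vf hG (G := G) 1
      have htX : t ∈ l.XG hq G := (l.mem_XG hq t).2 ⟨1, ht⟩
      refine ⟨mkG G t, ?_, X_le_Qb hq l he he0 l.u_mem (Subgroup.mem_map_of_mem _ htX),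
        X_le_Qb hq l he' he0' l.v_mem (Subgroup.mem_map_of_mem _ htX)⟩
      intro h
      have h1 := mkG_eq_one_of_pow hq vf hG p (XG_pow_char hq p l htX) h
      obtain ⟨x, hx⟩ := exists_Aop_v hf l
      have h2 := ht x
      rw [h1, hx] at h2
      have h3 : ((1 : ↥G) : Matrix.GeneralLinearGroup (Fin n) F) ∙ x = x := by
        show (1 : Matrix (Fin n) (Fin n) F) *ᵥ x = x
        rw [Matrix.one_mulVec]
      rw [h3] at h2
      have h4 : (1 : F) • l.v = 0 := by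
        have : (1 : F) • l.v = (x + (1 : F) • l.v) - x := by module
        rw [this, ← h2, sub_self]
      rw [one_smul] at h4
      exact l.hv0 h4

end fin

end Cfsg.Agent.Lib.Helper16.OA
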