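import Mathlib
import Cfsg.Agent.Lib.Helper16.OA12

set_option autoImplicit false
set_option linter.unusedSectionVars false
set_option linter.unusedVariables false

/-! Automorphisms of orthogonal groups, part 13: chosen Siegel elements and normalisation. -/

namespace Cfsg.Agent.Lib.Helper16.OA

open Matrix Cfsg.Agent.Lib.Helper28.HForm Cfsg.Agent.Lib.Helper28.OGen
  Cfsg.Agent.Lib.Helper28.OMax Cfsg.Agent.Lib.Helper28.OQ Cfsg.Agent.Lib.Helper28.OMax2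
  Cfsg.Agent.Lib.Helper28.OIwa Cfsg.Agent.Lib.Helper28.OIwa2 Cfsg.Agent.Lib.Helper28.ONd

variable {n : ℕ} {F : Type*} [Field F] {Q : (Fin n → F) → F}
  {f : (Fin n → F) → (Fin n → F) → F}

local notation:73 g:73 " ∙ " x:74 => Matrix.mulVec (Units.val g) x

variable {G : Subgroup (Matrix.GeneralLinearGroup (Fin n) F)}

open Classical in
/-- the Siegel element with centre `u` and parameter `w`, as an element of `G`. -/
noncomputable def rhoT (hq : QF Q f) (G : Subgroup (Matrix.GeneralLinearGroup (Fin n) F))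
    (u w : Fin n → F) : ↥G :=
  if h : ∃ r : ↥G, IsRho Q f (r : Matrix.GeneralLinearGroup (Fin n) F) u w then
    Classical.choose h else 1

theorem rhoT_eq (hq : QF Q f) {u w : Fin n → F} {r : ↥G}
    (hr : IsRho Q f (r : Matrix.GeneralLinearGroup (Fin n) F) u w) : rhoT hq G u w = r := by
  have h : ∃ r : ↥G, IsRho Q f (r : Matrix.GeneralLinearGroup (Fin n) F) u w := ⟨r, hr⟩
  unfold rhoT
  rw [dif_pos h]
  exact Subtype.ext (isRho_unique (Classical.choose_spec h) hr)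

theorem rhoT_spec (hq : QF Q f) (vf : VFacts Q f) (hG : SgGroupQ Q f G) {u w : Fin n → F}
    (hu : Q u = 0) (hu0 : u ≠ 0) (hw : f w u = 0) :
    IsRho Q f (rhoT hq G u w : Matrix.GeneralLinearGroup (Fin n) F) u w := by
  obtain ⟨r, hrG, hr⟩ := isRho_ex hq vf hG u w hu hu0 hw
  have h : rhoT hq G u w = ⟨r, hrG⟩ := rhoT_eq hq (r := ⟨r, hrG⟩) hr
  rw [h]
  exact hr

theorem rhoT_mem (hq : QF Q f) (vf : VFacts Q f) (hG : SgGroupQ Q f G) {u w : Fin n → F}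
    (hu : Q u = 0) (hu0 : u ≠ 0) (hw : f w u = 0) : rhoT hq G u w ∈ Qe hq G u hu :=
  ⟨w, hw, rhoT_spec hq vf hG hu hu0 hw⟩

theorem mem_Qe_iff (hq : QF Q f) (vf : VFacts Q f) (hG : SgGroupQ Q f G) {u : Fin n → F}
    (hu : Q u = 0) (hu0 : u ≠ 0) (r : ↥G) :
    r ∈ Qe hq G u hu ↔ ∃ w, f w u = 0 ∧ r = rhoT hq G u w := by
  constructor
  · rintro ⟨w, hw, hr⟩
    exact ⟨w, hw, (rhoT_eq hq hr).symm⟩
  · rintro ⟨w, hw, rfl⟩
    exact rhoT_mem hq vf hG hu hu0 hw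

theorem rhoT_add (hq : QF Q f) (vf : VFacts Q f) (hG : SgGroupQ Q f G) {u w w' : Fin n → F}
    (hu : Q u = 0) (hu0 : u ≠ 0) (hw : f w u = 0) (hw' : f w' u = 0) :
    rhoT hq G u (w + w') = rhoT hq G u w * rhoT hq G u w' := by
  apply rhoT_eq hq
  rw [Subgroup.coe_mul]
  exact isRho_mul hq hu hw hw' (rhoT_spec hq vf hG hu hu0 hw) (rhoT_spec hq vf hG hu hu0 hw')

theorem rhoT_zero (hq : QF Q f) (u : Fin n → F) : rhoT hq G u 0 = 1 := by
  apply rhoT_eq hq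
  rw [Subgroup.coe_one]
  exact isRho_one hq u

theorem rhoT_neg (hq : QF Q f) (vf : VFacts Q f) (hG : SgGroupQ Q f G) {u w : Fin n → F}
    (hu : Q u = 0) (hu0 : u ≠ 0) (hw : f w u = 0) :
    rhoT hq G u (-w) = (rhoT hq G u w)⁻¹ := by
  apply rhoT_eq hq
  rw [Subgroup.coe_inv]
  exact isRho_inv hq hu hw (rhoT_spec hq vf hG hu hu0 hw)

theorem rhoT_add_u (hq : QF Q f) (vf : VFacts Q f) (hG : SgGroupQ Q f G) {u w : Fin n → F}
    (hu : Q u = 0) (hu0 : u ≠ 0) (hw : f w u = 0) (k : F) :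
    rhoT hq G u (w + k • u) = rhoT hq G u w := by
  apply rhoT_eq hq
  exact isRho_add_u hq hu hw k (rhoT_spec hq vf hG hu hu0 hw)

theorem rhoT_eq_iff (hq : QF Q f) (vf : VFacts Q f) (hG : SgGroupQ Q f G) {u w w' : Fin n → F}
    (hu : Q u = 0) (hu0 : u ≠ 0) (hw : f w u = 0) (hw' : f w' u = 0) :
    rhoT hq G u w = rhoT hq G u w' ↔ w - w' ∈ Submodule.span F {u} := by
  constructor
  · intro h
    have h1 := rhoT_spec hq vf hG (G := G) hu hu0 hw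
    have h2 := rhoT_spec hq vf hG (G := G) hu hu0 hw'
    rw [h] at h1
    exact rho_param hq hu hu0 h1 h2
  · intro h
    obtain ⟨k, hk⟩ := Submodule.mem_span_singleton.1 h
    have : w = w' + k • u := by rw [hk]; abel
    rw [this]
    exact rhoT_add_u hq vf hG hu hu0 hw' k

theorem rhoT_pow (hq : QF Q f) (vf : VFacts Q f) (hG : SgGroupQ Q f G) (p : ℕ) [CharP F p]
    {u w : Fin n → F} (hu : Q u = 0) (hu0 : u ≠ 0) (hw : f w u = 0) :
    (rhoT hq G u w) ^ p = 1 :=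
  Qe_pow_char hq p hu (rhoT_mem hq vf hG hu hu0 hw)

theorem mk_rhoT_inj (hq : QF Q f) (vf : VFacts Q f) (hG : SgGroupQ Q f G) (p : ℕ)
    [Fact p.Prime] [CharP F p] {u w u' w' : Fin n → F} (hu : Q u = 0) (hu0 : u ≠ 0)
    (hw : f w u = 0) (hu' : Q u' = 0) (hu0' : u' ≠ 0) (hw' : f w' u' = 0)
    (h : mkG G (rhoT hq G u w) = mkG G (rhoT hq G u' w')) :
    rhoT hq G u w = rhoT hq G u' w' :=
  lift_eq hq vf hG p (rhoT_pow hq vf hG p hu hu0 hw) (rhoT_pow hq vf hG p hu' hu0' hw') h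

theorem rhoT_conj (hq : QF Q f) (vf : VFacts Q f) (hG : SgGroupQ Q f G) {u w : Fin n → F}
    (hu : Q u = 0) (hu0 : u ≠ 0) (hw : f w u = 0) (g : ↥G) :
    g * rhoT hq G u w * g⁻¹ = rhoT hq G ((g : Matrix.GeneralLinearGroup (Fin n) F) ∙ u)
      ((g : Matrix.GeneralLinearGroup (Fin n) F) ∙ w) := by
  symm
  apply rhoT_eq hq
  rw [Subgroup.coe_mul, Subgroup.coe_mul, Subgroup.coe_inv]
  exact isRho_conj hq (hG.iso g.1 g.2) (rhoT_spec hq vf hG hu hu0 hw)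

theorem rhoT_smul (hq : QF Q f) (vf : VFacts Q f) (hG : SgGroupQ Q f G) {u w : Fin n → F}
    (hu : Q u = 0) (hu0 : u ≠ 0) (hw : f w u = 0) (a : F) :
    rhoT hq G (a • u) w = rhoT hq G u (a • w) := by
  apply rhoT_eq hq
  apply isRho_smul' hq a
  exact rhoT_spec hq vf hG hu hu0 (by rw [hq.sym.smul_left, hw, mul_zero])

theorem rhoT_apply (hq : QF Q f) (vf : VFacts Q f) (hG : SgGroupQ Q f G) {u w : Fin n → F}
    (hu : Q u = 0) (hu0 : u ≠ 0) (hw : f w u = 0) (x : Fin n → F) :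
    (rhoT hq G u w : Matrix.GeneralLinearGroup (Fin n) F) ∙ x =
      x + f u x • w - f w x • u - (Q w * f u x) • u :=
  rhoT_spec hq vf hG hu hu0 hw x

/-- `Qe u` acts transitively on the singular vectors `x` with `f u x = 1`. -/
theorem rhoT_opp (hq : QF Q f) (vf : VFacts Q f) (hG : SgGroupQ Q f G) {u c x : Fin n → F}
    (hu : Q u = 0) (hc : Q c = 0) (hx : Q x = 0) (huc : f u c = 1) (hux : f u x = 1) :
    f (x - c) u = 0 ∧ (rhoT hq G u (x - c) : Matrix.GeneralLinearGroup (Fin n) F) ∙ c = x := by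
  have hf := hq.sym
  have hu0 : u ≠ 0 := by
    rintro rfl
    rw [f_zero_left hf] at huc
    exact zero_ne_one huc
  have h1 : f (x - c) u = 0 := by
    rw [f_sub_left hf, s_symm hf x u, s_symm hf c u, huc, hux, sub_self]
  refine ⟨h1, ?_⟩
  rw [rhoT_apply hq vf hG hu hu0 h1, huc, Q_sub hq, hx, hc, f_sub_left hf, f_sing hq hc]
  module

theorem Qe_smul (hq : QF Q f) {u : Fin n → F} (hu : Q u = 0) {a : F} (ha : a ≠ 0)
    (hu' : Q (a • u) = 0) : Qe hq G (a • u) hu' = Qe hq G u hu := by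
  have hf := hq.sym
  ext r
  constructor
  · rintro ⟨y, hy, hr⟩
    refine ⟨a • y, ?_, isRho_smul hq a hr⟩
    rw [s_smul_right hf] at hy
    rw [hf.smul_left]
    exact hy
  · rintro ⟨y, hy, hr⟩
    refine ⟨a⁻¹ • y, ?_, ?_⟩
    · rw [hf.smul_left, s_smul_right hf, hy]
      ring
    · apply isRho_smul' hq a
      rw [smul_smul, mul_inv_cancel₀ ha, one_smul]
      exact hr

theorem Qb_smul (hq : QF Q f) {u : Fin n → F} (hu : Q u = 0) {a : F} (ha : a ≠ 0)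
    (hu' : Q (a • u) = 0) : Qb hq G (a • u) hu' = Qb hq G u hu := by
  unfold Qb
  rw [Qe_smul hq hu ha hu']

theorem Qb_congr (hq : QF Q f) {u u' : Fin n → F} (h : u = u') (hu : Q u = 0) (hu' : Q u' = 0) :
    Qb hq G u hu = Qb hq G u' hu' := by
  subst h
  rfl

/-- `G` is transitive on pairs of non-perpendicular singular points. -/
theorem exists_normalize (hq : QF Q f) (vf : VFacts Q f) (hG : SgGroupQ Q f G)
    {e d e₁ d₁ : Fin n → F} (he : Q e = 0) (hd : Q d = 0) (hed : f e d = 1)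
    (he₁ : Q e₁ = 0) (hd₁ : Q d₁ = 0) (h₁ : f e₁ d₁ ≠ 0) :
    ∃ g : ↥G, ∃ a b : F, a ≠ 0 ∧ b ≠ 0 ∧
      (g : Matrix.GeneralLinearGroup (Fin n) F) ∙ e₁ = a • e ∧
      (g : Matrix.GeneralLinearGroup (Fin n) F) ∙ d₁ = b • d := by
  have hf := hq.sym
  have he0 : e ≠ 0 := by
    rintro rfl
    rw [f_zero_left hf] at hed
    exact zero_ne_one hed
  have he₁0 : e₁ ≠ 0 := by
    rintro rfl
    rw [f_zero_left hf] at h₁
    exact h₁ rfl
  obtain ⟨g₁, hg₁, a, ha, hga⟩ := trans_sing_q hq vf hG e₁ e he₁ he₁0 he he0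
  obtain ⟨d₂, hd₂⟩ : ∃ d₂, d₂ = g₁ ∙ d₁ := ⟨_, rfl⟩
  have hQd₂ : Q d₂ = 0 := by rw [hd₂, hG.iso g₁ hg₁, hd₁]
  have h2 : f (a • e) d₂ = f e₁ d₁ := by
    rw [hd₂, ← hga, iso_f hq g₁ (hG.iso g₁ hg₁)]
  rw [hf.smul_left] at h2
  have hk : f e d₂ ≠ 0 := by
    intro h
    rw [h, mul_zero] at h2
    exact h₁ h2.symm
  obtain ⟨k, hkd⟩ : ∃ k, k = f e d₂ := ⟨_, rfl⟩
  rw [← hkd] at hk
  obtain ⟨d₃, hd₃⟩ : ∃ d₃, d₃ = k⁻¹ • d₂ := ⟨_, rfl⟩
  have hQd₃ : Q d₃ = 0 := by rw [hd₃, hq.smul, hQd₂, mul_zero]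
  have hed₃ : f e d₃ = 1 := by rw [hd₃, s_smul_right hf, ← hkd, inv_mul_cancel₀ hk]
  obtain ⟨h3, h4⟩ := rhoT_opp hq vf hG (G := G) he hd hQd₃ hed hed₃
  obtain ⟨r, hr⟩ : ∃ r : ↥G, r = rhoT hq G e (d₃ - d) := ⟨_, rfl⟩
  rw [← hr] at h4
  have hre : (r : Matrix.GeneralLinearGroup (Fin n) F) ∙ e = e := by
    rw [hr]
    exact isRho_fix (rhoT_spec hq vf hG he he0 h3) (f_sing hq he) h3
  have hre' : ((r⁻¹ : ↥G) : Matrix.GeneralLinearGroup (Fin n) F) ∙ e = e := by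
    rw [Subgroup.coe_inv]
    conv_lhs => rw [← hre]
    exact Cfsg.Agent.S5643.inv_mv _ _
  have hrd' : ((r⁻¹ : ↥G) : Matrix.GeneralLinearGroup (Fin n) F) ∙ d₃ = d := by
    rw [Subgroup.coe_inv]
    conv_lhs => rw [← h4]
    exact Cfsg.Agent.S5643.inv_mv _ _
  refine ⟨r⁻¹ * ⟨g₁, hg₁⟩, a, k, ha, hk, ?_, ?_⟩
  · rw [Subgroup.coe_mul, Cfsg.Agent.S5643.mul_mv]
    show ((r⁻¹ : ↥G) : Matrix.GeneralLinearGroup (Fin n) F) ∙ (g₁ ∙ e₁) = a • e
    rw [hga, Matrix.mulVec_smul, hre']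
  · rw [Subgroup.coe_mul, Cfsg.Agent.S5643.mul_mv]
    show ((r⁻¹ : ↥G) : Matrix.GeneralLinearGroup (Fin n) F) ∙ (g₁ ∙ d₁) = k • d
    rw [← hd₂]
    have : d₂ = k • d₃ := by rw [hd₃, smul_smul, mul_inv_cancel₀ hk, one_smul]
    rw [this, Matrix.mulVec_smul, hrd']

end Cfsg.Agent.Lib.Helper16.OA
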