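import Mathlib
import Cfsg.Agent.Lib.Helper16.OA13

set_option autoImplicit false
set_option linter.unusedSectionVars false
set_option linter.unusedVariables false

/-! Automorphisms of orthogonal groups, part 14: the additive map induced on a radical. -/

namespace Cfsg.Agent.Lib.Helper16.OA

open Matrix Cfsg.Agent.Lib.Helper28.HForm Cfsg.Agent.Lib.Helper28.OGen
  Cfsg.Agent.Lib.Helper28.OMax Cfsg.Agent.Lib.Helper28.OQ Cfsg.Agent.Lib.Helper28.OMax2
  Cfsg.Agent.Lib.Helper28.OIwa Cfsg.Agent.Lib.Helper28.OIwa2 Cfsg.Agent.Lib.Helper28.ONd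

variable {n : ℕ} {F : Type*} [Field F] {Q : (Fin n → F) → F}
  {f : (Fin n → F) → (Fin n → F) → F}

local notation:73 g:73 " ∙ " x:74 => Matrix.mulVec (Units.val g) x

variable {G : Subgroup (Matrix.GeneralLinearGroup (Fin n) F)}

theorem map_symm_of_map_eq {X : Type*} [Group X] (α : MulAut X) (H : Subgroup X)
    (h : H.map α.toMonoidHom = H) : H.map α.symm.toMonoidHom = H := by
  conv_lhs => rw [← h]
  rw [Subgroup.map_map]
  have : (α.symm.toMonoidHom).comp α.toMonoidHom = MonoidHom.id X := by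
    ext x
    simp
  rw [this, Subgroup.map_id]

open Classical in
/-- the map induced by `α` on the parameters of `Qe u`, normalised to be perpendicular to `c`. -/
noncomputable def psi (hq : QF Q f) (G : Subgroup (Matrix.GeneralLinearGroup (Fin n) F))
    (α : MulAut (↥G ⧸ Subgroup.center ↥G)) (u c w : Fin n → F) : Fin n → F :=
  if h : ∃ w', f w' u = 0 ∧ f w' c = 0 ∧
      α (mkG G (rhoT hq G u w)) = mkG G (rhoT hq G u w') then Classical.choose h else 0

section fin
variable [Fintype F]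

theorem psi_spec (hq : QF Q f) (vf : VFacts Q f) (hG : SgGroupQ Q f G)
    (α : MulAut (↥G ⧸ Subgroup.center ↥G)) {u c w : Fin n → F} (hu : Q u = 0)
    (huc : f u c = 1) (hα : (Qb hq G u hu).map α.toMonoidHom = Qb hq G u hu)
    (hw : f w u = 0) :
    f (psi hq G α u c w) u = 0 ∧ f (psi hq G α u c w) c = 0 ∧
      α (mkG G (rhoT hq G u w)) = mkG G (rhoT hq G u (psi hq G α u c w)) := by
  have hf := hq.sym
  have hu0 : u ≠ 0 := by
    rintro rfl
    rw [f_zero_left hf] at huc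
    exact zero_ne_one huc
  have h : ∃ w', f w' u = 0 ∧ f w' c = 0 ∧
      α (mkG G (rhoT hq G u w)) = mkG G (rhoT hq G u w') := by
    have h1 : α (mkG G (rhoT hq G u w)) ∈ Qb hq G u hu := by
      rw [← hα]
      exact Subgroup.mem_map_of_mem _ (Subgroup.mem_map_of_mem _ (rhoT_mem hq vf hG hu hu0 hw))
    obtain ⟨r₁, hr₁, hr₁'⟩ := h1
    obtain ⟨y₁, hy₁, rfl⟩ := (mem_Qe_iff hq vf hG hu hu0 r₁).1 hr₁
    refine ⟨y₁ + (-(f y₁ c)) • u, ?_, ?_, ?_⟩
    · rw [hf.add_left, hf.smul_left, f_sing hq hu, hy₁]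
      ring
    · rw [hf.add_left, hf.smul_left, huc]
      ring
    · rw [rhoT_add_u hq vf hG hu hu0 hy₁]
      exact hr₁'.symm
  unfold psi
  rw [dif_pos h]
  exact Classical.choose_spec h

theorem psi_unique (hq : QF Q f) (vf : VFacts Q f) (hG : SgGroupQ Q f G) (p : ℕ)
    [Fact p.Prime] [CharP F p]
    (α : MulAut (↥G ⧸ Subgroup.center ↥G)) {u c w w' : Fin n → F} (hu : Q u = 0)
    (huc : f u c = 1) (hα : (Qb hq G u hu).map α.toMonoidHom = Qb hq G u hu)
    (hw : f w u = 0) (hw'u : f w' u = 0) (hw'c : f w' c = 0)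
    (h : α (mkG G (rhoT hq G u w)) = mkG G (rhoT hq G u w')) : psi hq G α u c w = w' := by
  have hf := hq.sym
  have hu0 : u ≠ 0 := by
    rintro rfl
    rw [f_zero_left hf] at huc
    exact zero_ne_one huc
  obtain ⟨h1, h2, h3⟩ := psi_spec hq vf hG α hu huc hα hw
  rw [h] at h3
  have h4 := mk_rhoT_inj hq vf hG p hu hu0 hw'u hu hu0 h1 h3
  rw [rhoT_eq_iff hq vf hG hu hu0 hw'u h1] at h4
  obtain ⟨k, hk⟩ := Submodule.mem_span_singleton.1 h4
  have h5 : f (k • u) c = 0 := by rw [hk, f_sub_left hf, hw'c, h2, sub_zero]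
  rw [hf.smul_left, huc, mul_one] at h5
  rw [h5, zero_smul] at hk
  exact (sub_eq_zero.1 hk.symm).symm

theorem psi_add (hq : QF Q f) (vf : VFacts Q f) (hG : SgGroupQ Q f G) (p : ℕ)
    [Fact p.Prime] [CharP F p]
    (α : MulAut (↥G ⧸ Subgroup.center ↥G)) {u c w₁ w₂ : Fin n → F} (hu : Q u = 0)
    (huc : f u c = 1) (hα : (Qb hq G u hu).map α.toMonoidHom = Qb hq G u hu)
    (hw₁ : f w₁ u = 0) (hw₂ : f w₂ u = 0) :
    psi hq G α u c (w₁ + w₂) = psi hq G α u c w₁ + psi hq G α u c w₂ := by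
  have hf := hq.sym
  have hu0 : u ≠ 0 := by
    rintro rfl
    rw [f_zero_left hf] at huc
    exact zero_ne_one huc
  obtain ⟨h1, h2, h3⟩ := psi_spec hq vf hG α hu huc hα hw₁
  obtain ⟨h1', h2', h3'⟩ := psi_spec hq vf hG α hu huc hα hw₂
  apply psi_unique hq vf hG p α hu huc hα
  · rw [hf.add_left, hw₁, hw₂, add_zero]
  · rw [hf.add_left, h1, h1', add_zero]
  · rw [hf.add_left, h2, h2', add_zero]
  · rw [rhoT_add hq vf hG hu hu0 hw₁ hw₂, map_mul, map_mul, h3, h3', ← map_mul,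
      ← rhoT_add hq vf hG hu hu0 h1 h1']

theorem psi_add_u (hq : QF Q f) (vf : VFacts Q f) (hG : SgGroupQ Q f G)
    (α : MulAut (↥G ⧸ Subgroup.center ↥G)) {u c w : Fin n → F} (hu : Q u = 0)
    (huc : f u c = 1) (hw : f w u = 0) (k : F) :
    psi hq G α u c (w + k • u) = psi hq G α u c w := by
  have hf := hq.sym
  have hu0 : u ≠ 0 := by
    rintro rfl
    rw [f_zero_left hf] at huc
    exact zero_ne_one huc
  unfold psi
  rw [rhoT_add_u hq vf hG hu hu0 hw]

theorem psi_zero (hq : QF Q f) (vf : VFacts Q f) (hG : SgGroupQ Q f G) (p : ℕ)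
    [Fact p.Prime] [CharP F p]
    (α : MulAut (↥G ⧸ Subgroup.center ↥G)) {u c : Fin n → F} (hu : Q u = 0)
    (huc : f u c = 1) (hα : (Qb hq G u hu).map α.toMonoidHom = Qb hq G u hu) :
    psi hq G α u c 0 = 0 := by
  have hf := hq.sym
  apply psi_unique hq vf hG p α hu huc hα (f_zero_left hf u) (f_zero_left hf u)
    (f_zero_left hf c)
  rw [rhoT_zero, map_one, map_one]

theorem psi_neg (hq : QF Q f) (vf : VFacts Q f) (hG : SgGroupQ Q f G) (p : ℕ)
    [Fact p.Prime] [CharP F p]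
    (α : MulAut (↥G ⧸ Subgroup.center ↥G)) {u c w : Fin n → F} (hu : Q u = 0)
    (huc : f u c = 1) (hα : (Qb hq G u hu).map α.toMonoidHom = Qb hq G u hu)
    (hw : f w u = 0) :
    psi hq G α u c (-w) = - psi hq G α u c w := by
  have hf := hq.sym
  have h1 : f (-w) u = 0 := by rw [f_neg_left hf, hw, neg_zero]
  have h2 := psi_add hq vf hG p α hu huc hα hw h1
  rw [add_neg_cancel, psi_zero hq vf hG p α hu huc hα] at h2
  exact (neg_eq_of_add_eq_zero_right h2.symm).symm

theorem psi_sub (hq : QF Q f) (vf : VFacts Q f) (hG : SgGroupQ Q f G) (p : ℕ)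
    [Fact p.Prime] [CharP F p]
    (α : MulAut (↥G ⧸ Subgroup.center ↥G)) {u c w₁ w₂ : Fin n → F} (hu : Q u = 0)
    (huc : f u c = 1) (hα : (Qb hq G u hu).map α.toMonoidHom = Qb hq G u hu)
    (hw₁ : f w₁ u = 0) (hw₂ : f w₂ u = 0) :
    psi hq G α u c (w₁ - w₂) = psi hq G α u c w₁ - psi hq G α u c w₂ := by
  have hf := hq.sym
  have h1 : f (-w₂) u = 0 := by rw [f_neg_left hf, hw₂, neg_zero]
  rw [sub_eq_add_neg, psi_add hq vf hG p α hu huc hα hw₁ h1, psi_neg hq vf hG p α hu huc hα hw₂,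
    ← sub_eq_add_neg]

/-- the maps for `α` and `α.symm` are mutually inverse. -/
theorem psi_symm (hq : QF Q f) (vf : VFacts Q f) (hG : SgGroupQ Q f G) (p : ℕ)
    [Fact p.Prime] [CharP F p]
    (α : MulAut (↥G ⧸ Subgroup.center ↥G)) {u c w : Fin n → F} (hu : Q u = 0)
    (huc : f u c = 1) (hα : (Qb hq G u hu).map α.toMonoidHom = Qb hq G u hu)
    (hw : f w u = 0) (hwc : f w c = 0) :
    psi hq G α.symm u c (psi hq G α u c w) = w := by
  obtain ⟨h1, h2, h3⟩ := psi_spec hq vf hG α hu huc hα hw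
  apply psi_unique hq vf hG p α.symm hu huc (map_symm_of_map_eq α _ hα) h1 hw hwc
  rw [← h3]
  exact α.symm_apply_apply _

theorem psi_symm' (hq : QF Q f) (vf : VFacts Q f) (hG : SgGroupQ Q f G) (p : ℕ)
    [Fact p.Prime] [CharP F p]
    (α : MulAut (↥G ⧸ Subgroup.center ↥G)) {u c w : Fin n → F} (hu : Q u = 0)
    (huc : f u c = 1) (hα : (Qb hq G u hu).map α.toMonoidHom = Qb hq G u hu)
    (hw : f w u = 0) (hwc : f w c = 0) :
    psi hq G α u c (psi hq G α.symm u c w) = w := by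
  have h := psi_symm hq vf hG p α.symm hu huc (map_symm_of_map_eq α _ hα) hw hwc
  exact h

theorem psi_eq_zero (hq : QF Q f) (vf : VFacts Q f) (hG : SgGroupQ Q f G) (p : ℕ)
    [Fact p.Prime] [CharP F p]
    (α : MulAut (↥G ⧸ Subgroup.center ↥G)) {u c w : Fin n → F} (hu : Q u = 0)
    (huc : f u c = 1) (hα : (Qb hq G u hu).map α.toMonoidHom = Qb hq G u hu)
    (hw : f w u = 0) (hwc : f w c = 0) (h : psi hq G α u c w = 0) : w = 0 := by
  have h1 := psi_symm hq vf hG p α hu huc hα hw hwc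
  rw [h, psi_zero hq vf hG p α.symm hu huc (map_symm_of_map_eq α _ hα)] at h1
  exact h1.symm

/-- a root group inside `Qb x` comes from a line through `x`. -/
theorem mem_L_of_X_le_Qb (hq : QF Q f) (vf : VFacts Q f) (hG : SgGroupQ Q f G) (p : ℕ)
    [Fact p.Prime] [CharP F p] (l : TSL Q f) {x : Fin n → F} (hx : Q x = 0)
    (h : l.X hq G ≤ Qb hq G x hx) : x ∈ l.L := by
  classical
  have hf := hq.sym
  obtain ⟨t, ht⟩ := l.exists_elt hq vf hG (G := G) 1
  have htX : t ∈ l.XG hq G := (l.mem_XG hq t).2 ⟨1, ht⟩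
  obtain ⟨r, hr, hrt⟩ := h (Subgroup.mem_map_of_mem _ htX)
  have h1 := lift_eq hq vf hG p (Qe_pow_char hq p hx hr) (XG_pow_char hq p l htX) hrt
  rw [h1] at hr
  obtain ⟨y, hy, hty⟩ := hr
  have key : ∀ z, Aop f l.u l.v z ∈ Submodule.span F {x, y} := by
    intro z
    have h2 := ht z
    rw [hty z, one_smul] at h2
    have h3 : Aop f l.u l.v z = f x z • y - f y z • x - (Q y * f x z) • x := by
      have : Aop f l.u l.v z = (z + Aop f l.u l.v z) - z := by abel
      rw [this, ← h2]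
      abel
    rw [h3]
    have hxm : x ∈ Submodule.span F {x, y} := Submodule.subset_span (by simp)
    have hym : y ∈ Submodule.span F {x, y} := Submodule.subset_span (by simp)
    exact Submodule.sub_mem _ (Submodule.sub_mem _ (Submodule.smul_mem _ _ hym)
      (Submodule.smul_mem _ _ hxm)) (Submodule.smul_mem _ _ hxm)
  have hle : l.L ≤ Submodule.span F {x, y} := by
    unfold TSL.L
    rw [Submodule.span_le]
    intro z hz
    simp only [Set.mem_insert_iff, Set.mem_singleton_iff] at hz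
    rcases hz with rfl | rfl
    · obtain ⟨z, hz⟩ := exists_Aop_u hf l
      rw [← hz]
      exact key z
    · obtain ⟨z, hz⟩ := exists_Aop_v hf l
      rw [← hz]
      exact key z
  have hfr : Module.finrank F (Submodule.span F ({x, y} : Set (Fin n → F))) ≤ 2 := by
    have h4 := finrank_span_finset_le_card (R := F) ({x, y} : Finset (Fin n → F))
    have h5 : (({x, y} : Finset (Fin n → F)) : Set (Fin n → F)) = {x, y} := by simp
    unfold Set.finrank at h4
    rw [h5] at h4
    exact h4.trans Finset.card_le_two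
  have heq : l.L = Submodule.span F {x, y} :=
    Submodule.eq_of_le_of_finrank_le hle (by rw [l.finrank_L]; exact hfr)
  rw [heq]
  exact Submodule.subset_span (by simp)

end fin

end Cfsg.Agent.Lib.Helper16.OA
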