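import Mathlib
import Cfsg.Agent.Lib.Helper16.OA14

set_option autoImplicit false
set_option linter.unusedSectionVars false
set_option linter.unusedVariables false

/-! Automorphisms of orthogonal groups, part 15: the induced map preserves singular lines. -/

namespace Cfsg.Agent.Lib.Helper16.OA

open Matrix Cfsg.Agent.Lib.Helper28.HForm Cfsg.Agent.Lib.Helper28.OGen
  Cfsg.Agent.Lib.Helper28.OMax Cfsg.Agent.Lib.Helper28.OQ Cfsg.Agent.Lib.Helper28.OMax2
  Cfsg.Agent.Lib.Helper28.OIwa Cfsg.Agent.Lib.Helper28.OIwa2 Cfsg.Agent.Lib.Helper28.ONd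

variable {n : ℕ} {F : Type*} [Field F] {Q : (Fin n → F) → F}
  {f : (Fin n → F) → (Fin n → F) → F}

local notation:73 g:73 " ∙ " x:74 => Matrix.mulVec (Units.val g) x

variable {G : Subgroup (Matrix.GeneralLinearGroup (Fin n) F)}

section fin
variable [Fintype F]

theorem not_mem_span_of_W (hf : SymF f) {u c w : Fin n → F} (huc : f u c = 1)
    (hwc : f w c = 0) (hw0 : w ≠ 0) : w ∉ Submodule.span F {u} := by
  intro h
  obtain ⟨a, rfl⟩ := Submodule.mem_span_singleton.1 h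
  rw [hf.smul_left, huc, mul_one] at hwc
  rw [hwc, zero_smul] at hw0
  exact hw0 rfl

theorem psi_line (hq : QF Q f) (vf : VFacts Q f) (hG : SgGroupQ Q f G) (p : ℕ)
    [Fact p.Prime] [CharP F p] (hn : 1 ≤ n)
    (α : MulAut (↥G ⧸ Subgroup.center ↥G)) {u c w : Fin n → F} (hu : Q u = 0)
    (huc : f u c = 1) (hα : (Qb hq G u hu).map α.toMonoidHom = Qb hq G u hu)
    (hw : f w u = 0) (hwc : f w c = 0) (hQw : Q w = 0) (hw0 : w ≠ 0) :
    Q (psi hq G α u c w) = 0 ∧ psi hq G α u c w ≠ 0 ∧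
    (∀ k : F, ∃ k' : F, psi hq G α u c (k • w) = k' • psi hq G α u c w) ∧
    ∃ l l' : TSL Q f, l.u = u ∧ l.v = w ∧ l'.u = u ∧ l'.v = psi hq G α u c w ∧
      (l.X hq G).map α.toMonoidHom = l'.X hq G := by
  have hf := hq.sym
  have hu0 : u ≠ 0 := by
    rintro rfl
    rw [f_zero_left hf] at huc
    exact zero_ne_one huc
  have huw : f u w = 0 := by rw [s_symm hf, hw]
  have hwn : w ∉ Submodule.span F {u} := not_mem_span_of_W hf huc hwc hw0
  obtain ⟨l, hl⟩ : ∃ l : TSL Q f, l = ⟨u, w, hu, hQw, huw, hu0, hwn⟩ := ⟨_, rfl⟩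
  have hlu : l.u = u := by rw [hl]
  have hlv : l.v = w := by rw [hl]
  obtain ⟨l', hl'⟩ := rfam_map hq vf hG p hn α (l.X hq G) ⟨l, rfl⟩
  have hl'' : l'.X hq G = (l.X hq G).map α.toMonoidHom := hl'
  have hle : l'.X hq G ≤ Qb hq G u hu := by
    rw [hl'', ← hα]
    exact Subgroup.map_mono (X_le_Qb hq l hu hu0 (by rw [← hlu]; exact l.u_mem))
  have hul' : u ∈ l'.L := mem_L_of_X_le_Qb hq vf hG p l' hu hle
  obtain ⟨m, hmu, hmL⟩ := l'.exists_basis hq u hul' hu0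
  obtain ⟨v'', hv''⟩ : ∃ v'', v'' = m.v + (-(f m.v c)) • u := ⟨_, rfl⟩
  have humL : u ∈ m.L := by rw [← hmu]; exact m.u_mem
  have hv''L : v'' ∈ m.L := by
    rw [hv'']
    exact m.L.add_mem m.v_mem (m.L.smul_mem _ humL)
  have hv''n : v'' ∉ Submodule.span F {u} := by
    intro h
    obtain ⟨a, ha⟩ := Submodule.mem_span_singleton.1 h
    apply m.hvn
    rw [hmu, Submodule.mem_span_singleton]
    obtain ⟨b, hb⟩ : ∃ b : F, b = f m.v c := ⟨_, rfl⟩
    refine ⟨a + b, ?_⟩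
    have : m.v = v'' + b • u := by rw [hv'', hb]; module
    rw [this, ← ha]
    module
  have hv''c : f v'' c = 0 := by
    rw [hv'', hf.add_left, hf.smul_left, huc]
    ring
  obtain ⟨m₂, hm₂⟩ : ∃ m₂ : TSL Q f, m₂ = m.mk' hq u v'' humL hv''L hu0 hv''n := ⟨_, rfl⟩
  have hm₂u : m₂.u = u := by rw [hm₂]; rfl
  have hm₂v : m₂.v = v'' := by rw [hm₂]; rfl
  have hm₂L : m₂.L = l'.L := by rw [hm₂, TSL.mk'_L, hmL]
  have hm₂X : m₂.X hq G = (l.X hq G).map α.toMonoidHom := by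
    rw [X_eq_of_L_eq hq m₂ l' hm₂L, hl'']
  have hv''u : f v'' u = 0 := by
    have := m₂.huv
    rw [hm₂u, hm₂v, s_symm hf] at this
    exact this
  have hQv'' : Q v'' = 0 := by rw [← hm₂v]; exact m₂.hv
  -- key
  have key : ∀ k : F, ∃ c' : F, psi hq G α u c (k • w) = c' • v'' := by
    intro k
    have hkw : f (k • w) u = 0 := by rw [hf.smul_left, hw, mul_zero]
    have htk : rhoT hq G u (k • w) ∈ l.XG hq G := by
      rw [TSL.mem_XG]
      refine ⟨k, ?_⟩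
      have h1 := rhoT_spec hq vf hG (G := G) hu hu0 hkw
      rw [hlu, hlv]
      exact (isRho_sing_iff hq hQw k _).1 h1
    obtain ⟨h1, h2, h3⟩ := psi_spec hq vf hG α hu huc hα hkw
    have h4 : α (mkG G (rhoT hq G u (k • w))) ∈ m₂.X hq G := by
      rw [hm₂X]
      exact Subgroup.mem_map_of_mem _ (Subgroup.mem_map_of_mem _ htk)
    obtain ⟨t', ht', ht'e⟩ := h4
    rw [h3] at ht'e
    have h5 : t' = rhoT hq G u (psi hq G α u c (k • w)) :=
      lift_eq hq vf hG p (XG_pow_char hq p m₂ ht') (rhoT_pow hq vf hG p hu hu0 h1) ht'e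
    have ht'' : t' ∈ m₂.XG hq G := ht'
    rw [TSL.mem_XG] at ht''
    obtain ⟨c', hc'⟩ := ht''
    rw [hm₂u, hm₂v] at hc'
    have h6 : IsRho Q f (t' : Matrix.GeneralLinearGroup (Fin n) F) u (c' • v'') :=
      (isRho_sing_iff hq hQv'' c' _).2 hc'
    have h7 : rhoT hq G u (c' • v'') = t' := rhoT_eq hq h6
    rw [h5] at h7
    have hc'v : f (c' • v'') u = 0 := by rw [hf.smul_left, hv''u, mul_zero]
    rw [rhoT_eq_iff hq vf hG hu hu0 hc'v h1] at h7
    obtain ⟨a, ha⟩ := Submodule.mem_span_singleton.1 h7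
    have h8 : f (a • u) c = 0 := by
      rw [ha, f_sub_left hf, hf.smul_left, hv''c, h2]
      ring
    rw [hf.smul_left, huc, mul_one] at h8
    rw [h8, zero_smul] at ha
    exact ⟨c', (sub_eq_zero.1 ha.symm).symm⟩
  obtain ⟨c₁, hc₁⟩ := key 1
  rw [one_smul] at hc₁
  have hpsi0 : psi hq G α u c w ≠ 0 := fun h =>
    hw0 (psi_eq_zero hq vf hG p α hu huc hα hw hwc h)
  have hc₁0 : c₁ ≠ 0 := by
    rintro rfl
    rw [zero_smul] at hc₁
    exact hpsi0 hc₁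
  have hv''e : v'' = c₁⁻¹ • psi hq G α u c w := by
    rw [hc₁, smul_smul, inv_mul_cancel₀ hc₁0, one_smul]
  obtain ⟨_, hpc, _⟩ := psi_spec hq vf hG α hu huc hα hw
  refine ⟨?_, hpsi0, ?_, ?_⟩
  · rw [hc₁, hq.smul, hQv'', mul_zero]
  · intro k
    obtain ⟨c', hc'⟩ := key k
    refine ⟨c' * c₁⁻¹, ?_⟩
    rw [hc', hv''e, smul_smul]
  · have hpL : psi hq G α u c w ∈ m₂.L := by
      rw [hc₁, ← hm₂v]
      exact m₂.L.smul_mem _ m₂.v_mem
    have hpn : psi hq G α u c w ∉ Submodule.span F {u} := not_mem_span_of_W hf huc hpc hpsi0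
    have hum₂ : u ∈ m₂.L := by rw [← hm₂u]; exact m₂.u_mem
    refine ⟨l, m₂.mk' hq u _ hum₂ hpL hu0 hpn, hlu, hlv, rfl, rfl, ?_⟩
    rw [← hm₂X]
    exact (X_eq_of_L_eq hq _ _ (TSL.mk'_L hq m₂ _ _ _ _ _ _)).symm

end fin

end Cfsg.Agent.Lib.Helper16.OA
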