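import Mathlib
import Cfsg.Agent.Lib.Helper16.OA15

set_option autoImplicit false
set_option linter.unusedSectionVars false
set_option linter.unusedVariables false

/-! Automorphisms of orthogonal groups, part 16: geometry of the complement of a hyperbolic pair. -/

namespace Cfsg.Agent.Lib.Helper16.OA

open Matrix Cfsg.Agent.Lib.Helper28.HForm Cfsg.Agent.Lib.Helper28.OGen
  Cfsg.Agent.Lib.Helper28.OMax Cfsg.Agent.Lib.Helper28.OQ Cfsg.Agent.Lib.Helper28.OMax2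
  Cfsg.Agent.Lib.Helper28.OIwa Cfsg.Agent.Lib.Helper28.OIwa2 Cfsg.Agent.Lib.Helper28.ONd

variable {n : ℕ} {F : Type*} [Field F] {Q : (Fin n → F) → F}
  {f : (Fin n → F) → (Fin n → F) → F}

/-- singular vectors exist in the perpendicular of two perpendicular hyperbolic pairs. -/
def H4 (Q : (Fin n → F) → F) (f : (Fin n → F) → (Fin n → F) → F) : Prop :=
  ∀ z w z' w' : Fin n → F, Q z = 0 → Q w = 0 → f z w = 1 → Q z' = 0 → Q w' = 0 → f z' w' = 1 →
    f z' z = 0 → f z' w = 0 → f w' z = 0 → f w' w = 0 →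
    ∃ s, s ≠ 0 ∧ Q s = 0 ∧ f s z = 0 ∧ f s w = 0 ∧ f s z' = 0 ∧ f s w' = 0

theorem W_decomp (hq : QF Q f) (vf : VFacts Q f) {e d w : Fin n → F} (he : Q e = 0)
    (hed : f e d = 1) (hwe : f w e = 0) (hwd : f w d = 0) :
    ∃ w₁ w₂, w₁ + w₂ = w ∧ Q w₁ = 0 ∧ Q w₂ = 0 ∧ f w₁ e = 0 ∧ f w₁ d = 0 ∧
      f w₂ e = 0 ∧ f w₂ d = 0 := by
  have hf := hq.sym
  have he0 : e ≠ 0 := by
    rintro rfl
    rw [f_zero_left hf] at hed
    exact zero_ne_one hed
  obtain ⟨y₁, y₂, hsum, h11, h22, h1e, h2e⟩ := vf.decomp e w he he0 hwe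
  have hsd : f y₁ d + f y₂ d = 0 := by rw [← hf.add_left, hsum, hwd]
  refine ⟨y₁ - f y₁ d • e, y₂ - f y₂ d • e, ?_, ?_, ?_, ?_, ?_, ?_, ?_⟩
  · have : y₁ - f y₁ d • e + (y₂ - f y₂ d • e) = (y₁ + y₂) - (f y₁ d + f y₂ d) • e := by module
    rw [this, hsd, hsum, zero_smul, sub_zero]
  · rw [Q_sub hq, hq.smul, he, h11, s_smul_right hf, h1e]
    ring
  · rw [Q_sub hq, hq.smul, he, h22, s_smul_right hf, h2e]
    ring
  · rw [f_sub_left hf, hf.smul_left, f_sing hq he, h1e]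
    ring
  · rw [f_sub_left hf, hf.smul_left, hed]
    ring
  · rw [f_sub_left hf, hf.smul_left, f_sing hq he, h2e]
    ring
  · rw [f_sub_left hf, hf.smul_left, hed]
    ring

theorem W_partner (hq : QF Q f) {e d w : Fin n → F} (he : Q e = 0) (hd : Q d = 0)
    (hed : f e d = 1) (hwe : f w e = 0) (hwd : f w d = 0) (hw : Q w = 0) (hw0 : w ≠ 0) :
    ∃ w', Q w' = 0 ∧ f w' e = 0 ∧ f w' d = 0 ∧ f w' w = 1 := by
  have hf := hq.sym
  obtain ⟨x, hx⟩ := (hf.nondegenerate w hw0).1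
  obtain ⟨x₁, hx₁⟩ : ∃ x₁, x₁ = (f x w)⁻¹ • x := ⟨_, rfl⟩
  have hx₁w : f x₁ w = 1 := by rw [hx₁, hf.smul_left, inv_mul_cancel₀ hx]
  obtain ⟨x₂, hx₂⟩ : ∃ x₂, x₂ = x₁ - f x₁ d • e - f x₁ e • d := ⟨_, rfl⟩
  have hde : f d e = 1 := by rw [s_symm hf, hed]
  have hew : f e w = 0 := by rw [s_symm hf, hwe]
  have hdw : f d w = 0 := by rw [s_symm hf, hwd]
  have h2e : f x₂ e = 0 := by
    rw [hx₂, f_sub_left hf, f_sub_left hf, hf.smul_left, hf.smul_left, f_sing hq he, hde]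
    ring
  have h2d : f x₂ d = 0 := by
    rw [hx₂, f_sub_left hf, f_sub_left hf, hf.smul_left, hf.smul_left, f_sing hq hd, hed]
    ring
  have h2w : f x₂ w = 1 := by
    rw [hx₂, f_sub_left hf, f_sub_left hf, hf.smul_left, hf.smul_left, hew, hdw, hx₁w]
    ring
  refine ⟨x₂ - Q x₂ • w, ?_, ?_, ?_, ?_⟩
  · rw [Q_sub hq, hq.smul, hw, s_smul_right hf, h2w]
    ring
  · rw [f_sub_left hf, hf.smul_left, hwe, h2e]
    ring
  · rw [f_sub_left hf, hf.smul_left, hwd, h2d]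
    ring
  · rw [f_sub_left hf, hf.smul_left, f_sing hq hw, h2w]
    ring

/-- two singular vectors of the complement have a common singular neighbour. -/
theorem W_common (hq : QF Q f) (h4 : H4 Q f) {e d w₁ w₂ : Fin n → F} (he : Q e = 0)
    (hd : Q d = 0) (hed : f e d = 1)
    (h1e : f w₁ e = 0) (h1d : f w₁ d = 0) (h1 : Q w₁ = 0) (h10 : w₁ ≠ 0)
    (h2e : f w₂ e = 0) (h2d : f w₂ d = 0) (h2 : Q w₂ = 0) (h20 : w₂ ≠ 0) :
    ∃ s, Q s = 0 ∧ s ≠ 0 ∧ f s e = 0 ∧ f s d = 0 ∧ f s w₁ = 0 ∧ f s w₂ = 0 ∧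
      s ∉ Submodule.span F {w₁} ∧ s ∉ Submodule.span F {w₂} := by
  have hf := hq.sym
  by_cases h12 : f w₁ w₂ = 0
  · by_cases hs : w₂ ∈ Submodule.span F {w₁}
    · obtain ⟨a, ha⟩ := Submodule.mem_span_singleton.1 hs
      obtain ⟨w', hw', hw'e, hw'd, hw'w⟩ := W_partner hq he hd hed h1e h1d h1 h10
      obtain ⟨s, hs0, hQs, hse, hsd, hs1, hs'⟩ := h4 e d w₁ w' he hd hed h1 hw'
        (by rw [s_symm hf, hw'w]) h1e h1d hw'e hw'd
      have hn1 : s ∉ Submodule.span F {w₁} := by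
        intro h
        obtain ⟨b, rfl⟩ := Submodule.mem_span_singleton.1 h
        rw [hf.smul_left, s_symm hf, hw'w, mul_one] at hs'
        rw [hs', zero_smul] at hs0
        exact hs0 rfl
      refine ⟨s, hQs, hs0, hse, hsd, hs1, ?_, hn1, ?_⟩
      · rw [← ha, s_smul_right hf, hs1, mul_zero]
      · intro h
        obtain ⟨b, rfl⟩ := Submodule.mem_span_singleton.1 h
        apply hn1
        rw [← ha, smul_smul]
        exact Submodule.mem_span_singleton.2 ⟨_, rfl⟩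
    · have h21 : f w₂ w₁ = 0 := by rw [s_symm hf, h12]
      refine ⟨w₁ + w₂, ?_, ?_, ?_, ?_, ?_, ?_, ?_, ?_⟩
      · rw [hq.polar, h1, h2, h12]
        ring
      · intro h
        apply hs
        rw [Submodule.mem_span_singleton]
        refine ⟨-1, ?_⟩
        rw [neg_smul, one_smul]
        exact (eq_neg_of_add_eq_zero_right h).symm
      · rw [hf.add_left, h1e, h2e, add_zero]
      · rw [hf.add_left, h1d, h2d, add_zero]
      · rw [hf.add_left, f_sing hq h1, h21, add_zero]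
      · rw [hf.add_left, f_sing hq h2, h12, add_zero]
      · intro h
        apply hs
        obtain ⟨a, ha⟩ := Submodule.mem_span_singleton.1 h
        rw [Submodule.mem_span_singleton]
        refine ⟨a - 1, ?_⟩
        rw [sub_smul, ha]
        module
      · intro h
        obtain ⟨a, ha⟩ := Submodule.mem_span_singleton.1 h
        have h3 : w₁ = (a - 1) • w₂ := by
          rw [sub_smul, ha]
          module
        by_cases ha1 : a - 1 = 0
        · rw [ha1, zero_smul] at h3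
          exact h10 h3
        · apply hs
          rw [Submodule.mem_span_singleton]
          refine ⟨(a - 1)⁻¹, ?_⟩
          rw [h3, smul_smul, inv_mul_cancel₀ ha1, one_smul]
  · obtain ⟨k, hk⟩ : ∃ k, k = f w₁ w₂ := ⟨_, rfl⟩
    rw [← hk] at h12
    have h3 : f w₁ (k⁻¹ • w₂) = 1 := by rw [s_smul_right hf, ← hk, inv_mul_cancel₀ h12]
    obtain ⟨s, hs0, hQs, hse, hsd, hs1, hs2⟩ := h4 e d w₁ (k⁻¹ • w₂) he hd hed h1
      (by rw [hq.smul, h2, mul_zero]) h3 h1e h1d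
      (by rw [hf.smul_left, h2e, mul_zero]) (by rw [hf.smul_left, h2d, mul_zero])
    rw [s_smul_right hf] at hs2
    have hs2' : f s w₂ = 0 := by
      rcases mul_eq_zero.1 hs2 with h | h
      · exact absurd h (inv_ne_zero h12)
      · exact h
    refine ⟨s, hQs, hs0, hse, hsd, hs1, hs2', ?_, ?_⟩
    · intro h
      obtain ⟨b, rfl⟩ := Submodule.mem_span_singleton.1 h
      rw [hf.smul_left, ← hk] at hs2'
      rcases mul_eq_zero.1 hs2' with h | h
      · rw [h, zero_smul] at hs0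
        exact hs0 rfl
      · exact h12 h
    · intro h
      obtain ⟨b, rfl⟩ := Submodule.mem_span_singleton.1 h
      rw [hf.smul_left, s_symm hf, ← hk] at hs1
      rcases mul_eq_zero.1 hs1 with h | h
      · rw [h, zero_smul] at hs0
        exact hs0 rfl
      · exact h12 h

/-- a property of singular vectors of the complement spreading along perpendicular pairs holds
everywhere. -/
theorem W_induct (hq : QF Q f) (h4 : H4 Q f) {e d : Fin n → F} (he : Q e = 0)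
    (hd : Q d = 0) (hed : f e d = 1) (P : (Fin n → F) → Prop)
    (hstep : ∀ w₁ w₂ : Fin n → F, f w₁ e = 0 → f w₁ d = 0 → Q w₁ = 0 → w₁ ≠ 0 →
      f w₂ e = 0 → f w₂ d = 0 → Q w₂ = 0 → w₂ ≠ 0 → f w₁ w₂ = 0 →
      w₂ ∉ Submodule.span F {w₁} → P w₁ → P w₂)
    {w₀ : Fin n → F} (h0e : f w₀ e = 0) (h0d : f w₀ d = 0) (h0 : Q w₀ = 0) (h00 : w₀ ≠ 0)
    (hP : P w₀) {w : Fin n → F} (hwe : f w e = 0) (hwd : f w d = 0) (hw : Q w = 0)
    (hw0 : w ≠ 0) : P w := by
  have hf := hq.sym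
  obtain ⟨s, hQs, hs0, hse, hsd, hs1, hs2, hn1, hn2⟩ :=
    W_common hq h4 he hd hed h0e h0d h0 h00 hwe hwd hw hw0
  have h1 : P s := hstep w₀ s h0e h0d h0 h00 hse hsd hQs hs0 (by rw [s_symm hf, hs1]) hn1 hP
  apply hstep s w hse hsd hQs hs0 hwe hwd hw hw0 hs2 ?_ h1
  intro h
  obtain ⟨a, ha⟩ := Submodule.mem_span_singleton.1 h
  apply hn2
  have ha0 : a ≠ 0 := by
    rintro rfl
    rw [zero_smul] at ha
    exact hw0 ha.symm
  rw [Submodule.mem_span_singleton]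
  refine ⟨a⁻¹, ?_⟩
  rw [← ha, smul_smul, inv_mul_cancel₀ ha0, one_smul]

end Cfsg.Agent.Lib.Helper16.OA
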