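import Mathlib
import Cfsg.Agent.Lib.Helper16.OA16

set_option autoImplicit false
set_option linter.unusedSectionVars false
set_option linter.unusedVariables false

/-! Automorphisms of orthogonal groups, part 17: the induced map is semilinear. -/

namespace Cfsg.Agent.Lib.Helper16.OA

open Matrix Cfsg.Agent.Lib.Helper28.HForm Cfsg.Agent.Lib.Helper28.OGen
  Cfsg.Agent.Lib.Helper28.OMax Cfsg.Agent.Lib.Helper28.OQ Cfsg.Agent.Lib.Helper28.OMax2
  Cfsg.Agent.Lib.Helper28.OIwa Cfsg.Agent.Lib.Helper28.OIwa2 Cfsg.Agent.Lib.Helper28.ONd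

variable {n : ℕ} {F : Type*} [Field F] {Q : (Fin n → F) → F}
  {f : (Fin n → F) → (Fin n → F) → F}

local notation:73 g:73 " ∙ " x:74 => Matrix.mulVec (Units.val g) x

variable {G : Subgroup (Matrix.GeneralLinearGroup (Fin n) F)}

section fin
variable [Fintype F]

theorem psi_indep (hq : QF Q f) (vf : VFacts Q f) (hG : SgGroupQ Q f G) (p : ℕ)
    [Fact p.Prime] [CharP F p] (hn : 1 ≤ n)
    (α : MulAut (↥G ⧸ Subgroup.center ↥G)) {u c w₁ w₂ : Fin n → F} (hu : Q u = 0)
    (huc : f u c = 1) (hα : (Qb hq G u hu).map α.toMonoidHom = Qb hq G u hu)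
    (h1u : f w₁ u = 0) (h1c : f w₁ c = 0) (h1 : Q w₁ = 0) (h10 : w₁ ≠ 0)
    (h2u : f w₂ u = 0) (h2c : f w₂ c = 0)
    (hs : w₂ ∉ Submodule.span F {w₁}) {a b : F}
    (h : a • psi hq G α u c w₁ + b • psi hq G α u c w₂ = 0) : a = 0 ∧ b = 0 := by
  have hf := hq.sym
  obtain ⟨hQp, hp0, _, _⟩ := psi_line hq vf hG p hn α hu huc hα h1u h1c h1 h10
  obtain ⟨hpu, hpc, _⟩ := psi_spec hq vf hG α hu huc hα h1u
  have hα' := map_symm_of_map_eq α _ hα
  have hb : b = 0 := by
    by_contra hb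
    apply hs
    have h3 : psi hq G α u c w₂ = (-(a / b)) • psi hq G α u c w₁ := by
      have : psi hq G α u c w₂ = b⁻¹ • (a • psi hq G α u c w₁ + b • psi hq G α u c w₂)
          - (b⁻¹ * a) • psi hq G α u c w₁ := by
        rw [smul_add, smul_smul, smul_smul, inv_mul_cancel₀ hb, one_smul]
        abel
      rw [this, h, smul_zero, zero_sub, ← neg_smul, div_eq_inv_mul]
    obtain ⟨_, _, hline, _⟩ := psi_line hq vf hG p hn α.symm hu huc hα' hpu hpc hQp hp0
    obtain ⟨k', hk'⟩ := hline (-(a / b))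
    rw [← h3, psi_symm hq vf hG p α hu huc hα h2u h2c,
      psi_symm hq vf hG p α hu huc hα h1u h1c] at hk'
    rw [hk']
    exact Submodule.mem_span_singleton.2 ⟨_, rfl⟩
  refine ⟨?_, hb⟩
  rw [hb, zero_smul, add_zero] at h
  rcases smul_eq_zero.1 h with h' | h'
  · exact h'
  · exact absurd h' hp0

theorem psi_smul_step (hq : QF Q f) (vf : VFacts Q f) (hG : SgGroupQ Q f G) (p : ℕ)
    [Fact p.Prime] [CharP F p] (hn : 1 ≤ n)
    (α : MulAut (↥G ⧸ Subgroup.center ↥G)) {u c w₁ w₂ : Fin n → F} (hu : Q u = 0)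
    (huc : f u c = 1) (hα : (Qb hq G u hu).map α.toMonoidHom = Qb hq G u hu)
    (h1u : f w₁ u = 0) (h1c : f w₁ c = 0) (h1 : Q w₁ = 0) (h10 : w₁ ≠ 0)
    (h2u : f w₂ u = 0) (h2c : f w₂ c = 0) (h2 : Q w₂ = 0) (h20 : w₂ ≠ 0)
    (h12 : f w₁ w₂ = 0) (hs : w₂ ∉ Submodule.span F {w₁}) (k t : F)
    (hk : psi hq G α u c (k • w₁) = t • psi hq G α u c w₁) :
    psi hq G α u c (k • w₂) = t • psi hq G α u c w₂ := by
  have hf := hq.sym
  have h3u : f (w₁ + w₂) u = 0 := by rw [hf.add_left, h1u, h2u, add_zero]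
  have h3c : f (w₁ + w₂) c = 0 := by rw [hf.add_left, h1c, h2c, add_zero]
  have h3 : Q (w₁ + w₂) = 0 := by
    rw [hq.polar, h1, h2, h12]
    ring
  have h30 : w₁ + w₂ ≠ 0 := by
    intro h
    apply hs
    rw [Submodule.mem_span_singleton]
    refine ⟨-1, ?_⟩
    rw [neg_smul, one_smul]
    exact (eq_neg_of_add_eq_zero_right h).symm
  obtain ⟨_, _, hline3, _⟩ := psi_line hq vf hG p hn α hu huc hα h3u h3c h3 h30
  obtain ⟨_, _, hline2, _⟩ := psi_line hq vf hG p hn α hu huc hα h2u h2c h2 h20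
  obtain ⟨k₃, hk₃⟩ := hline3 k
  obtain ⟨k₂, hk₂⟩ := hline2 k
  have hk1u : f (k • w₁) u = 0 := by rw [hf.smul_left, h1u, mul_zero]
  have hk2u : f (k • w₂) u = 0 := by rw [hf.smul_left, h2u, mul_zero]
  rw [smul_add, psi_add hq vf hG p α hu huc hα hk1u hk2u,
    psi_add hq vf hG p α hu huc hα h1u h2u, hk, hk₂] at hk₃
  have h4 : (t - k₃) • psi hq G α u c w₁ + (k₂ - k₃) • psi hq G α u c w₂ = 0 := by
    have : (t - k₃) • psi hq G α u c w₁ + (k₂ - k₃) • psi hq G α u c w₂ =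
        (t • psi hq G α u c w₁ + k₂ • psi hq G α u c w₂) -
        k₃ • (psi hq G α u c w₁ + psi hq G α u c w₂) := by module
    rw [this, hk₃, sub_self]
  obtain ⟨h5, h6⟩ := psi_indep hq vf hG p hn α hu huc hα h1u h1c h1 h10 h2u h2c hs h4
  rw [hk₂]
  have : k₂ = t := by
    rw [sub_eq_zero] at h5 h6
    rw [h6, ← h5]
  rw [this]

/-- the induced map on the complement is semilinear. -/
theorem psi_semilinear (hq : QF Q f) (vf : VFacts Q f) (hG : SgGroupQ Q f G) (p : ℕ)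
    [Fact p.Prime] [CharP F p] (hn : 1 ≤ n) (h4 : H4 Q f)
    (α : MulAut (↥G ⧸ Subgroup.center ↥G)) {e d : Fin n → F} (he : Q e = 0) (hd : Q d = 0)
    (hed : f e d = 1) (hα : (Qb hq G e he).map α.toMonoidHom = Qb hq G e he) :
    ∃ τ : F ≃+* F, ∀ (k : F) (w : Fin n → F), f w e = 0 → f w d = 0 →
      psi hq G α e d (k • w) = τ k • psi hq G α e d w := by
  have hf := hq.sym
  have hed0 : f e d ≠ 0 := by rw [hed]; exact one_ne_zero
  obtain ⟨w₀, s', h0, _, h0e, h0d, _, _, hs's⟩ := vf.hyp_perp e d he hd hed0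
  have h00 : w₀ ≠ 0 := by
    rintro rfl
    rw [f_zero_right hf] at hs's
    exact zero_ne_one hs's
  obtain ⟨hQp, hp0, hline, _⟩ := psi_line hq vf hG p hn α he hed hα h0e h0d h0 h00
  choose τ₀ hτ₀ using hline
  have cancel : ∀ a b : F, a • psi hq G α e d w₀ = b • psi hq G α e d w₀ → a = b := by
    intro a b hab
    have : (a - b) • psi hq G α e d w₀ = 0 := by rw [sub_smul, hab, sub_self]
    rcases smul_eq_zero.1 this with h | h
    · exact sub_eq_zero.1 h
    · exact absurd h hp0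
  -- the property for all singular vectors
  have hall : ∀ w : Fin n → F, f w e = 0 → f w d = 0 → Q w = 0 →
      ∀ k, psi hq G α e d (k • w) = τ₀ k • psi hq G α e d w := by
    intro w hwe hwd hw
    by_cases hw0 : w = 0
    · intro k
      rw [hw0, smul_zero, psi_zero hq vf hG p α he hed hα, smul_zero]
    · exact W_induct hq h4 he hd hed
        (fun w => ∀ k, psi hq G α e d (k • w) = τ₀ k • psi hq G α e d w)
        (fun w₁ w₂ h1e h1d h1 h10 h2e h2d h2 h20 h12 hs hP k =>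
          psi_smul_step hq vf hG p hn α he hed hα h1e h1d h1 h10 h2e h2d h2 h20 h12 hs k
            (τ₀ k) (hP k))
        h0e h0d h0 h00 hτ₀ hwe hwd hw hw0
  have hgen : ∀ (k : F) (w : Fin n → F), f w e = 0 → f w d = 0 →
      psi hq G α e d (k • w) = τ₀ k • psi hq G α e d w := by
    intro k w hwe hwd
    obtain ⟨w₁, w₂, hsum, h1, h2, h1e, h1d, h2e, h2d⟩ := W_decomp hq vf he hed hwe hwd
    rw [← hsum, smul_add, psi_add hq vf hG p α he hed hα
      (by rw [hf.smul_left, h1e, mul_zero]) (by rw [hf.smul_left, h2e, mul_zero]),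
      psi_add hq vf hG p α he hed hα h1e h2e, hall w₁ h1e h1d h1 k, hall w₂ h2e h2d h2 k,
      smul_add]
  have hadd : ∀ a b, τ₀ (a + b) = τ₀ a + τ₀ b := by
    intro a b
    apply cancel
    rw [← hτ₀, add_smul, add_smul, psi_add hq vf hG p α he hed hα
      (by rw [hf.smul_left, h0e, mul_zero]) (by rw [hf.smul_left, h0e, mul_zero]), hτ₀, hτ₀]
  have hmul : ∀ a b, τ₀ (a * b) = τ₀ a * τ₀ b := by
    intro a b
    apply cancel
    rw [← hτ₀, mul_smul, hgen a (b • w₀) (by rw [hf.smul_left, h0e, mul_zero])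
      (by rw [hf.smul_left, h0d, mul_zero]), hτ₀, smul_smul]
  have hone : τ₀ 1 = 1 := by
    apply cancel
    rw [← hτ₀, one_smul, one_smul]
  have hzero : τ₀ 0 = 0 := by
    apply cancel
    rw [← hτ₀, zero_smul, zero_smul, psi_zero hq vf hG p α he hed hα]
  let τ : F →+* F :=
    { toFun := τ₀
      map_one' := hone
      map_mul' := hmul
      map_zero' := hzero
      map_add' := hadd }
  have hinj : Function.Injective τ := τ.injective
  have hbij : Function.Bijective τ := ⟨hinj, Finite.injective_iff_surjective.1 hinj⟩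
  refine ⟨RingEquiv.ofBijective τ hbij, ?_⟩
  intro k w hwe hwd
  exact hgen k w hwe hwd

end fin

end Cfsg.Agent.Lib.Helper16.OA
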