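import Mathlib
import Cfsg.Agent.Lib.Helper16.OA17

set_option autoImplicit false
set_option linter.unusedSectionVars false
set_option linter.unusedVariables false

/-! Automorphisms of orthogonal groups, part 18: duality between the two induced maps. -/

namespace Cfsg.Agent.Lib.Helper16.OA

open Matrix Cfsg.Agent.Lib.Helper28.HForm Cfsg.Agent.Lib.Helper28.OGen
  Cfsg.Agent.Lib.Helper28.OMax Cfsg.Agent.Lib.Helper28.OQ Cfsg.Agent.Lib.Helper28.OMax2
  Cfsg.Agent.Lib.Helper28.OIwa Cfsg.Agent.Lib.Helper28.OIwa2 Cfsg.Agent.Lib.Helper28.ONd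

variable {n : ℕ} {F : Type*} [Field F] {Q : (Fin n → F) → F}
  {f : (Fin n → F) → (Fin n → F) → F}

local notation:73 g:73 " ∙ " x:74 => Matrix.mulVec (Units.val g) x

variable {G : Subgroup (Matrix.GeneralLinearGroup (Fin n) F)}

section fin
variable [Fintype F]

theorem perp_transfer_aux (hq : QF Q f) (vf : VFacts Q f) (hG : SgGroupQ Q f G) (p : ℕ)
    [Fact p.Prime] [CharP F p] (α : MulAut (↥G ⧸ Subgroup.center ↥G))
    {x y x' y' : Fin n → F} (hx : Q x = 0) (hy : Q y = 0) (hx' : Q x' = 0) (hy' : Q y' = 0)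
    (hx0 : x ≠ 0) (hy0 : y ≠ 0) (hx0' : x' ≠ 0) (hy0' : y' ≠ 0)
    (h1 : (Qb hq G x hx).map α.toMonoidHom = Qb hq G x' hx')
    (h2 : (Qb hq G y hy).map α.toMonoidHom = Qb hq G y' hy') (h : f x y = 0) :
    f x' y' = 0 := by
  rw [← Qb_inf_iff hq vf hG p hx hx0 hy hy0] at h
  rw [← Qb_inf_iff hq vf hG p hx' hx0' hy' hy0']
  obtain ⟨z, hz1, hzx, hzy⟩ := h
  refine ⟨α z, ?_, ?_, ?_⟩
  · intro h'
    apply hz1
    have := congrArg α.symm h'
    rw [α.symm_apply_apply, map_one] at this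
    exact this
  · rw [← h1]
    exact Subgroup.mem_map_of_mem _ hzx
  · rw [← h2]
    exact Subgroup.mem_map_of_mem _ hzy

theorem map_symm_of_map_eq' {X : Type*} [Group X] (α : MulAut X) (H K : Subgroup X)
    (h : H.map α.toMonoidHom = K) : K.map α.symm.toMonoidHom = H := by
  rw [← h, Subgroup.map_map]
  have : (α.symm.toMonoidHom).comp α.toMonoidHom = MonoidHom.id X := by
    ext x
    simp
  rw [this, Subgroup.map_id]

theorem perp_transfer (hq : QF Q f) (vf : VFacts Q f) (hG : SgGroupQ Q f G) (p : ℕ)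
    [Fact p.Prime] [CharP F p] (α : MulAut (↥G ⧸ Subgroup.center ↥G))
    {x y x' y' : Fin n → F} (hx : Q x = 0) (hy : Q y = 0) (hx' : Q x' = 0) (hy' : Q y' = 0)
    (hx0 : x ≠ 0) (hy0 : y ≠ 0) (hx0' : x' ≠ 0) (hy0' : y' ≠ 0)
    (h1 : (Qb hq G x hx).map α.toMonoidHom = Qb hq G x' hx')
    (h2 : (Qb hq G y hy).map α.toMonoidHom = Qb hq G y' hy') :
    f x y = 0 ↔ f x' y' = 0 :=
  ⟨perp_transfer_aux hq vf hG p α hx hy hx' hy' hx0 hy0 hx0' hy0' h1 h2,
    perp_transfer_aux hq vf hG p α.symm hx' hy' hx hy hx0' hy0' hx0 hy0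
      (map_symm_of_map_eq' α _ _ h1) (map_symm_of_map_eq' α _ _ h2)⟩

theorem aut_Qb_conj (hq : QF Q f) (hG : SgGroupQ Q f G)
    (α : MulAut (↥G ⧸ Subgroup.center ↥G)) {x x' : Fin n → F} (hx : Q x = 0) (hx' : Q x' = 0)
    (h1 : (Qb hq G x hx).map α.toMonoidHom = Qb hq G x' hx') (r r' : ↥G)
    (hr : α (mkG G r) = mkG G r')
    (hrx : Q ((r : Matrix.GeneralLinearGroup (Fin n) F) ∙ x) = 0)
    (hrx' : Q ((r' : Matrix.GeneralLinearGroup (Fin n) F) ∙ x') = 0) :
    (Qb hq G ((r : Matrix.GeneralLinearGroup (Fin n) F) ∙ x) hrx).map α.toMonoidHom =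
      Qb hq G ((r' : Matrix.GeneralLinearGroup (Fin n) F) ∙ x') hrx' := by
  rw [← Qb_conj hq hG hx r hrx, ← Qb_conj hq hG hx' r' hrx', ← h1, Subgroup.map_map,
    Subgroup.map_map]
  congr 1
  ext y
  simp only [MonoidHom.coe_comp, MulEquiv.coe_toMonoidHom, Function.comp_apply,
    MulAut.conj_apply, map_mul, map_inv, hr]

theorem opp_point (hq : QF Q f) (vf : VFacts Q f) (hG : SgGroupQ Q f G) {e d w : Fin n → F}
    (he : Q e = 0) (hed : f e d = 1) (hwe : f w e = 0) (hwd : f w d = 0) :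
    (rhoT hq G e w : Matrix.GeneralLinearGroup (Fin n) F) ∙ d = d + w - Q w • e := by
  have hf := hq.sym
  have he0 : e ≠ 0 := by
    rintro rfl
    rw [f_zero_left hf] at hed
    exact zero_ne_one hed
  rw [rhoT_apply hq vf hG he he0 hwe, hed, hwd]
  module

theorem opp_point_ne (hf : SymF f) {e d w : Fin n → F} (he : f e e = 0) (hed : f e d = 1)
    (hwe : f w e = 0) (k : F) : d + w - k • e ≠ 0 := by
  intro h
  have h1 : f (d + w - k • e) e = 0 := by rw [h, f_zero_left hf]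
  rw [f_sub_left hf, hf.add_left, hf.smul_left, he, hwe, s_symm hf, hed] at h1
  simp at h1

/-- the perpendicularity relation between points opposite `e` and points opposite `d`. -/
theorem perp_rel (hq : QF Q f) (vf : VFacts Q f) (hG : SgGroupQ Q f G) (p : ℕ)
    [Fact p.Prime] [CharP F p] (α : MulAut (↥G ⧸ Subgroup.center ↥G))
    {e d : Fin n → F} (he : Q e = 0) (hd : Q d = 0) (hed : f e d = 1)
    (hαe : (Qb hq G e he).map α.toMonoidHom = Qb hq G e he)
    (hαd : (Qb hq G d hd).map α.toMonoidHom = Qb hq G d hd)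
    {w w' : Fin n → F} (hwe : f w e = 0) (hwd : f w d = 0) (hwe' : f w' e = 0)
    (hwd' : f w' d = 0) :
    1 + f w w' + Q w * Q w' = 0 ↔
      1 + f (psi hq G α e d w) (psi hq G α d e w') +
        Q (psi hq G α e d w) * Q (psi hq G α d e w') = 0 := by
  have hf := hq.sym
  have hde : f d e = 1 := by rw [s_symm hf, hed]
  have he0 : e ≠ 0 := by
    rintro rfl
    rw [f_zero_left hf] at hed
    exact zero_ne_one hed
  have hd0 : d ≠ 0 := by
    rintro rfl
    rw [f_zero_left hf] at hde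
    exact zero_ne_one hde
  obtain ⟨h1e, h1d, h1⟩ := psi_spec hq vf hG α he hed hαe hwe
  obtain ⟨h2d, h2e, h2⟩ := psi_spec hq vf hG α hd hde hαd hwd'
  have hx : Q ((rhoT hq G e w : Matrix.GeneralLinearGroup (Fin n) F) ∙ d) = 0 := by
    rw [hG.iso _ (rhoT hq G e w).2, hd]
  have hx' : Q ((rhoT hq G e (psi hq G α e d w) : Matrix.GeneralLinearGroup (Fin n) F) ∙ d)
      = 0 := by
    rw [hG.iso _ (rhoT hq G e (psi hq G α e d w)).2, hd]
  have hy : Q ((rhoT hq G d w' : Matrix.GeneralLinearGroup (Fin n) F) ∙ e) = 0 := by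
    rw [hG.iso _ (rhoT hq G d w').2, he]
  have hy' : Q ((rhoT hq G d (psi hq G α d e w') : Matrix.GeneralLinearGroup (Fin n) F) ∙ e)
      = 0 := by
    rw [hG.iso _ (rhoT hq G d (psi hq G α d e w')).2, he]
  have hX := aut_Qb_conj hq hG α hd hd hαd _ _ h1 hx hx'
  have hY := aut_Qb_conj hq hG α he he hαe _ _ h2 hy hy'
  have e1 := opp_point hq vf hG (G := G) he hed hwe hwd
  have e2 := opp_point hq vf hG (G := G) he hed h1e h1d
  have e3 := opp_point hq vf hG (G := G) hd hde hwd' hwe'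
  have e4 := opp_point hq vf hG (G := G) hd hde h2d h2e
  have key := perp_transfer hq vf hG p α hx hy hx' hy'
    (by rw [e1]; exact opp_point_ne hf (f_sing hq he) hed hwe _)
    (by rw [e3]; exact opp_point_ne hf (f_sing hq hd) hde hwd' _)
    (by rw [e2]; exact opp_point_ne hf (f_sing hq he) hed h1e _)
    (by rw [e4]; exact opp_point_ne hf (f_sing hq hd) hde h2d _) hX hY
  rw [e1, e2, e3, e4] at key
  have hew' : f e w' = 0 := by rw [s_symm hf, hwe']
  have hdw' : f d w' = 0 := by rw [s_symm hf, hwd']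
  have c1 : f (d + w - Q w • e) (e + w' - Q w' • d) = 1 + f w w' + Q w * Q w' := by
    simp only [hf.add_left, f_sub_left hf, f_add_right hf, f_sub_right hf, hf.smul_left,
      s_smul_right hf, hde, hed, hwe, hwd, hew', hdw', f_sing hq he, f_sing hq hd]
    ring
  have h2e' : f e (psi hq G α d e w') = 0 := by rw [s_symm hf, h2e]
  have h2d' : f d (psi hq G α d e w') = 0 := by rw [s_symm hf, h2d]
  have c2 : f (d + psi hq G α e d w - Q (psi hq G α e d w) • e)
      (e + psi hq G α d e w' - Q (psi hq G α d e w') • d) =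
      1 + f (psi hq G α e d w) (psi hq G α d e w') +
        Q (psi hq G α e d w) * Q (psi hq G α d e w') := by
    simp only [hf.add_left, f_sub_left hf, f_add_right hf, f_sub_right hf, hf.smul_left,
      s_smul_right hf, hde, hed, h1e, h1d, h2e', h2d', f_sing hq he, f_sing hq hd]
    ring
  rw [c1, c2] at key
  exact key

end fin

end Cfsg.Agent.Lib.Helper16.OA
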