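import Mathlib
import Cfsg.Agent.Lib.Helper16.OA18

set_option autoImplicit false
set_option linter.unusedSectionVars false
set_option linter.unusedVariables false

/-! Automorphisms of orthogonal groups, part 19: the induced map is a semisimilarity. -/

namespace Cfsg.Agent.Lib.Helper16.OA

open Matrix Cfsg.Agent.Lib.Helper28.HForm Cfsg.Agent.Lib.Helper28.OGen
  Cfsg.Agent.Lib.Helper28.OMax Cfsg.Agent.Lib.Helper28.OQ Cfsg.Agent.Lib.Helper28.OMax2
  Cfsg.Agent.Lib.Helper28.OIwa Cfsg.Agent.Lib.Helper28.OIwa2 Cfsg.Agent.Lib.Helper28.ONd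

variable {n : ℕ} {F : Type*} [Field F] {Q : (Fin n → F) → F}
  {f : (Fin n → F) → (Fin n → F) → F}

local notation:73 g:73 " ∙ " x:74 => Matrix.mulVec (Units.val g) x

variable {G : Subgroup (Matrix.GeneralLinearGroup (Fin n) F)}

section fin
variable [Fintype F]

theorem psi_sing (hq : QF Q f) (vf : VFacts Q f) (hG : SgGroupQ Q f G) (p : ℕ)
    [Fact p.Prime] [CharP F p] (hn : 1 ≤ n)
    (α : MulAut (↥G ⧸ Subgroup.center ↥G)) {u c w : Fin n → F} (hu : Q u = 0)
    (huc : f u c = 1) (hα : (Qb hq G u hu).map α.toMonoidHom = Qb hq G u hu)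
    (hw : f w u = 0) (hwc : f w c = 0) (hQw : Q w = 0) : Q (psi hq G α u c w) = 0 := by
  by_cases hw0 : w = 0
  · rw [hw0, psi_zero hq vf hG p α hu huc hα]
    exact Q_zero hq
  · exact (psi_line hq vf hG p hn α hu huc hα hw hwc hQw hw0).1

theorem dual_sing (hq : QF Q f) (vf : VFacts Q f) (hG : SgGroupQ Q f G) (p : ℕ)
    [Fact p.Prime] [CharP F p] (hn : 1 ≤ n) (α : MulAut (↥G ⧸ Subgroup.center ↥G))
    {e d : Fin n → F} (he : Q e = 0) (hd : Q d = 0) (hed : f e d = 1)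
    (hαe : (Qb hq G e he).map α.toMonoidHom = Qb hq G e he)
    (hαd : (Qb hq G d hd).map α.toMonoidHom = Qb hq G d hd) (τ : F ≃+* F)
    (hτ : ∀ (k : F) (w : Fin n → F), f w e = 0 → f w d = 0 →
      psi hq G α e d (k • w) = τ k • psi hq G α e d w)
    {w w' : Fin n → F} (hwe : f w e = 0) (hwd : f w d = 0) (hwe' : f w' e = 0)
    (hwd' : f w' d = 0) (hQw' : Q w' = 0) :
    f (psi hq G α e d w) (psi hq G α d e w') = τ (f w w') := by
  have hf := hq.sym
  have hde : f d e = 1 := by rw [s_symm hf, hed]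
  have hQ' : Q (psi hq G α d e w') = 0 := psi_sing hq vf hG p hn α hd hde hαd hwd' hwe' hQw'
  have rel : ∀ w₁ : Fin n → F, f w₁ e = 0 → f w₁ d = 0 →
      (1 + f w₁ w' = 0 ↔ 1 + f (psi hq G α e d w₁) (psi hq G α d e w') = 0) := by
    intro w₁ h1e h1d
    have := perp_rel hq vf hG p α he hd hed hαe hαd h1e h1d hwe' hwd'
    rw [hQw', hQ', mul_zero, mul_zero, add_zero, add_zero] at this
    exact this
  obtain ⟨c, hc⟩ : ∃ c, c = f w w' := ⟨_, rfl⟩
  obtain ⟨X, hX⟩ : ∃ X, X = f (psi hq G α e d w) (psi hq G α d e w') := ⟨_, rfl⟩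
  rw [← hc, ← hX]
  by_cases hc0 : c = 0
  · rw [hc0, map_zero]
    by_contra hX0
    have h1 := (rel (τ.symm (-X⁻¹) • w) (by rw [hf.smul_left, hwe, mul_zero])
      (by rw [hf.smul_left, hwd, mul_zero])).2 (by
        rw [hτ _ w hwe hwd, τ.apply_symm_apply, hf.smul_left, ← hX, neg_mul,
          inv_mul_cancel₀ hX0, add_neg_cancel])
    rw [hf.smul_left, ← hc, hc0, mul_zero, add_zero] at h1
    exact one_ne_zero h1
  · have hτc : τ c ≠ 0 := by
      intro h
      apply hc0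
      have := congrArg τ.symm h
      rw [τ.symm_apply_apply, map_zero] at this
      exact this
    have h1 := (rel ((-c⁻¹) • w) (by rw [hf.smul_left, hwe, mul_zero])
      (by rw [hf.smul_left, hwd, mul_zero])).1 (by
        rw [hf.smul_left, ← hc, neg_mul, inv_mul_cancel₀ hc0, add_neg_cancel])
    rw [hτ _ w hwe hwd, hf.smul_left, ← hX, map_neg, map_inv₀] at h1
    field_simp at h1
    linear_combination -h1

theorem dual (hq : QF Q f) (vf : VFacts Q f) (hG : SgGroupQ Q f G) (p : ℕ)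
    [Fact p.Prime] [CharP F p] (hn : 1 ≤ n) (α : MulAut (↥G ⧸ Subgroup.center ↥G))
    {e d : Fin n → F} (he : Q e = 0) (hd : Q d = 0) (hed : f e d = 1)
    (hαe : (Qb hq G e he).map α.toMonoidHom = Qb hq G e he)
    (hαd : (Qb hq G d hd).map α.toMonoidHom = Qb hq G d hd) (τ : F ≃+* F)
    (hτ : ∀ (k : F) (w : Fin n → F), f w e = 0 → f w d = 0 →
      psi hq G α e d (k • w) = τ k • psi hq G α e d w)
    {w w' : Fin n → F} (hwe : f w e = 0) (hwd : f w d = 0) (hwe' : f w' e = 0)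
    (hwd' : f w' d = 0) :
    f (psi hq G α e d w) (psi hq G α d e w') = τ (f w w') := by
  have hf := hq.sym
  have hde : f d e = 1 := by rw [s_symm hf, hed]
  obtain ⟨w₁, w₂, hsum, h1, h2, h1e, h1d, h2e, h2d⟩ := W_decomp hq vf he hed hwe' hwd'
  rw [← hsum, psi_add hq vf hG p α hd hde hαd h1d h2d, f_add_right hf, f_add_right hf,
    map_add, dual_sing hq vf hG p hn α he hd hed hαe hαd τ hτ hwe hwd h1e h1d h1,
    dual_sing hq vf hG p hn α he hd hed hαe hαd τ hτ hwe hwd h2e h2d h2]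

theorem psi_prop_sing (hq : QF Q f) (vf : VFacts Q f) (hG : SgGroupQ Q f G) (p : ℕ)
    [Fact p.Prime] [CharP F p] (hn : 1 ≤ n)
    (hT : 9 ≤ n ∨ ∀ l₁ l₂ : TSL Q f, PerpL f l₁ l₂ → Meet l₁ l₂)
    (α : MulAut (↥G ⧸ Subgroup.center ↥G))
    {e d : Fin n → F} (he : Q e = 0) (hd : Q d = 0) (hed : f e d = 1)
    (hαe : (Qb hq G e he).map α.toMonoidHom = Qb hq G e he)
    (hαd : (Qb hq G d hd).map α.toMonoidHom = Qb hq G d hd)
    {w : Fin n → F} (hwe : f w e = 0) (hwd : f w d = 0) (hQw : Q w = 0) (hw0 : w ≠ 0) :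
    ∃ k : F, psi hq G α d e w = k • psi hq G α e d w := by
  have hf := hq.sym
  have hde : f d e = 1 := by rw [s_symm hf, hed]
  have he0 : e ≠ 0 := by
    rintro rfl
    rw [f_zero_left hf] at hed
    exact zero_ne_one hed
  obtain ⟨w₁, hw₁, hw₁0, hαw⟩ := aut_Qb hq vf hG p hn hT α hQw hw0
  obtain ⟨_, _, _, l, l', hlu, hlv, hlu', hlv', hlX⟩ :=
    psi_line hq vf hG p hn α he hed hαe hwe hwd hQw hw0
  obtain ⟨_, hpd0, _, m, m', hmu, hmv, hmu', hmv', hmX⟩ :=
    psi_line hq vf hG p hn α hd hde hαd hwd hwe hQw hw0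
  have h1 : w₁ ∈ l'.L := by
    apply mem_L_of_X_le_Qb hq vf hG p l' hw₁
    rw [← hlX, ← hαw]
    exact Subgroup.map_mono (X_le_Qb hq l hQw hw0 (by rw [← hlv]; exact l.v_mem))
  have h2 : w₁ ∈ m'.L := by
    apply mem_L_of_X_le_Qb hq vf hG p m' hw₁
    rw [← hmX, ← hαw]
    exact Subgroup.map_mono (X_le_Qb hq m hQw hw0 (by rw [← hmv]; exact m.v_mem))
  obtain ⟨a, b, hab⟩ := (l'.mem_L w₁).1 h1
  obtain ⟨a', b', hab'⟩ := (m'.mem_L w₁).1 h2
  rw [hlu', hlv'] at hab
  rw [hmu', hmv'] at hab'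
  obtain ⟨h1e, h1d, _⟩ := psi_spec hq vf hG α he hed hαe hwe
  obtain ⟨h2d, h2e, _⟩ := psi_spec hq vf hG α hd hde hαd hwd
  have ha : a = 0 := by
    have h3 : f (a • e + b • psi hq G α e d w) d = f (a' • d + b' • psi hq G α d e w) d := by
      rw [hab, hab']
    rw [hf.add_left, hf.add_left, hf.smul_left, hf.smul_left, hf.smul_left, hf.smul_left,
      hed, h1d, h2d, f_sing hq hd] at h3
    linear_combination h3
  have ha' : a' = 0 := by
    have h3 : f (a • e + b • psi hq G α e d w) e = f (a' • d + b' • psi hq G α d e w) e := by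
      rw [hab, hab']
    rw [hf.add_left, hf.add_left, hf.smul_left, hf.smul_left, hf.smul_left, hf.smul_left,
      hde, h1e, h2e, f_sing hq he] at h3
    linear_combination -h3
  rw [ha, zero_smul, zero_add] at hab
  rw [ha', zero_smul, zero_add] at hab'
  have hb' : b' ≠ 0 := by
    rintro rfl
    rw [zero_smul] at hab'
    exact hw₁0 hab'.symm
  refine ⟨b'⁻¹ * b, ?_⟩
  rw [mul_smul, hab, ← hab', smul_smul, inv_mul_cancel₀ hb', one_smul]

/-- the two induced maps are proportional. -/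
theorem psi_prop (hq : QF Q f) (vf : VFacts Q f) (hG : SgGroupQ Q f G) (p : ℕ)
    [Fact p.Prime] [CharP F p] (hn : 1 ≤ n)
    (hT : 9 ≤ n ∨ ∀ l₁ l₂ : TSL Q f, PerpL f l₁ l₂ → Meet l₁ l₂) (h4 : H4 Q f)
    (α : MulAut (↥G ⧸ Subgroup.center ↥G))
    {e d : Fin n → F} (he : Q e = 0) (hd : Q d = 0) (hed : f e d = 1)
    (hαe : (Qb hq G e he).map α.toMonoidHom = Qb hq G e he)
    (hαd : (Qb hq G d hd).map α.toMonoidHom = Qb hq G d hd) :
    ∃ lam : F, lam ≠ 0 ∧ ∀ w : Fin n → F, f w e = 0 → f w d = 0 →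
      psi hq G α d e w = lam • psi hq G α e d w := by
  have hf := hq.sym
  have hde : f d e = 1 := by rw [s_symm hf, hed]
  have hed0 : f e d ≠ 0 := by rw [hed]; exact one_ne_zero
  obtain ⟨w₀, s', h0, _, h0e, h0d, _, _, hs's⟩ := vf.hyp_perp e d he hd hed0
  have h00 : w₀ ≠ 0 := by
    rintro rfl
    rw [f_zero_right hf] at hs's
    exact zero_ne_one hs's
  obtain ⟨lam, hlam⟩ := psi_prop_sing hq vf hG p hn hT α he hd hed hαe hαd h0e h0d h0 h00
  have hlam0 : lam ≠ 0 := by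
    rintro rfl
    rw [zero_smul] at hlam
    exact h00 (psi_eq_zero hq vf hG p α hd hde hαd h0d h0e hlam)
  refine ⟨lam, hlam0, ?_⟩
  have hall : ∀ w : Fin n → F, f w e = 0 → f w d = 0 → Q w = 0 →
      psi hq G α d e w = lam • psi hq G α e d w := by
    intro w hwe hwd hw
    by_cases hw0 : w = 0
    · rw [hw0, psi_zero hq vf hG p α he hed hαe, psi_zero hq vf hG p α hd hde hαd, smul_zero]
    · refine W_induct hq h4 he hd hed
        (fun w => psi hq G α d e w = lam • psi hq G α e d w) ?_ h0e h0d h0 h00 hlam hwe hwd hw hw0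
      intro w₁ w₂ h1e h1d h1 h10 h2e h2d h2 h20 h12 hs hP
      have h3e : f (w₁ + w₂) e = 0 := by rw [hf.add_left, h1e, h2e, add_zero]
      have h3d : f (w₁ + w₂) d = 0 := by rw [hf.add_left, h1d, h2d, add_zero]
      have h3 : Q (w₁ + w₂) = 0 := by
        rw [hq.polar, h1, h2, h12]
        ring
      have h30 : w₁ + w₂ ≠ 0 := by
        intro h
        apply hs
        rw [Submodule.mem_span_singleton]
        refine ⟨-1, ?_⟩
        rw [neg_smul, one_smul]
        exact (eq_neg_of_add_eq_zero_right h).symm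
      obtain ⟨k₂, hk₂⟩ := psi_prop_sing hq vf hG p hn hT α he hd hed hαe hαd h2e h2d h2 h20
      obtain ⟨k₃, hk₃⟩ := psi_prop_sing hq vf hG p hn hT α he hd hed hαe hαd h3e h3d h3 h30
      rw [psi_add hq vf hG p α hd hde hαd h1d h2d, psi_add hq vf hG p α he hed hαe h1e h2e,
        hP, hk₂] at hk₃
      have h5 : (lam - k₃) • psi hq G α e d w₁ + (k₂ - k₃) • psi hq G α e d w₂ = 0 := by
        have : (lam - k₃) • psi hq G α e d w₁ + (k₂ - k₃) • psi hq G α e d w₂ =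
            (lam • psi hq G α e d w₁ + k₂ • psi hq G α e d w₂) -
            k₃ • (psi hq G α e d w₁ + psi hq G α e d w₂) := by module
        rw [this, hk₃, sub_self]
      obtain ⟨h6, h7⟩ := psi_indep hq vf hG p hn α he hed hαe h1e h1d h1 h10 h2e h2d hs h5
      show psi hq G α d e w₂ = lam • psi hq G α e d w₂
      rw [hk₂]
      have : k₂ = lam := by
        rw [sub_eq_zero] at h6 h7
        rw [h7, ← h6]
      rw [this]
  intro w hwe hwd
  obtain ⟨w₁, w₂, hsum, h1, h2, h1e, h1d, h2e, h2d⟩ := W_decomp hq vf he hed hwe hwd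
  rw [← hsum, psi_add hq vf hG p α hd hde hαd h1d h2d, psi_add hq vf hG p α he hed hαe h1e h2e,
    hall w₁ h1e h1d h1, hall w₂ h2e h2d h2, smul_add]

/-- summary: the induced map on the complement is a semisimilarity. -/
theorem psi_simil (hq : QF Q f) (vf : VFacts Q f) (hG : SgGroupQ Q f G) (p : ℕ)
    [Fact p.Prime] [CharP F p] (hn : 1 ≤ n)
    (hT : 9 ≤ n ∨ ∀ l₁ l₂ : TSL Q f, PerpL f l₁ l₂ → Meet l₁ l₂) (h4 : H4 Q f)
    (α : MulAut (↥G ⧸ Subgroup.center ↥G))
    {e d : Fin n → F} (he : Q e = 0) (hd : Q d = 0) (hed : f e d = 1)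
    (hαe : (Qb hq G e he).map α.toMonoidHom = Qb hq G e he)
    (hαd : (Qb hq G d hd).map α.toMonoidHom = Qb hq G d hd) :
    ∃ (τ : F ≃+* F) (ν : F), ν ≠ 0 ∧
      (∀ (k : F) (w : Fin n → F), f w e = 0 → f w d = 0 →
        psi hq G α e d (k • w) = τ k • psi hq G α e d w) ∧
      (∀ w : Fin n → F, f w e = 0 → f w d = 0 →
        psi hq G α d e w = ν⁻¹ • psi hq G α e d w) ∧
      (∀ w w' : Fin n → F, f w e = 0 → f w d = 0 → f w' e = 0 → f w' d = 0 →
        f (psi hq G α e d w) (psi hq G α e d w') = ν * τ (f w w')) ∧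
      (∀ w : Fin n → F, f w e = 0 → f w d = 0 → Q (psi hq G α e d w) = ν * τ (Q w)) := by
  have hf := hq.sym
  obtain ⟨τ, hτ⟩ := psi_semilinear hq vf hG p hn h4 α he hd hed hαe
  obtain ⟨lam, hlam0, hlam⟩ := psi_prop hq vf hG p hn hT h4 α he hd hed hαe hαd
  have hF : ∀ w w' : Fin n → F, f w e = 0 → f w d = 0 → f w' e = 0 → f w' d = 0 →
      f (psi hq G α e d w) (psi hq G α e d w') = lam⁻¹ * τ (f w w') := by
    intro w w' hwe hwd hwe' hwd'
    have h1 := dual hq vf hG p hn α he hd hed hαe hαd τ hτ hwe hwd hwe' hwd'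
    rw [hlam w' hwe' hwd', s_smul_right hf] at h1
    rw [← h1, ← mul_assoc, inv_mul_cancel₀ hlam0, one_mul]
  refine ⟨τ, lam⁻¹, inv_ne_zero hlam0, hτ, ?_, hF, ?_⟩
  · intro w hwe hwd
    rw [inv_inv]
    exact hlam w hwe hwd
  · intro w hwe hwd
    obtain ⟨w₁, w₂, hsum, h1, h2, h1e, h1d, h2e, h2d⟩ := W_decomp hq vf he hed hwe hwd
    rw [← hsum, psi_add hq vf hG p α he hed hαe h1e h2e, hq.polar, hq.polar,
      psi_sing hq vf hG p hn α he hed hαe h1e h1d h1,
      psi_sing hq vf hG p hn α he hed hαe h2e h2d h2, h1, h2, hF w₁ w₂ h1e h1d h2e h2d]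
    simp

end fin

end Cfsg.Agent.Lib.Helper16.OA
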