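import Mathlib
import Cfsg.Agent.Lib.Helper16.OA19

set_option autoImplicit false
set_option linter.unusedSectionVars false
set_option linter.unusedVariables false

/-! Automorphisms of orthogonal groups, part 20: semisimilarities and conjugation. -/

namespace Cfsg.Agent.Lib.Helper16.OA

open Matrix Cfsg.Agent.Lib.Helper28.HForm Cfsg.Agent.Lib.Helper28.OGen
  Cfsg.Agent.Lib.Helper28.OMax Cfsg.Agent.Lib.Helper28.OQ Cfsg.Agent.Lib.Helper28.OMax2
  Cfsg.Agent.Lib.Helper28.OIwa Cfsg.Agent.Lib.Helper28.OIwa2 Cfsg.Agent.Lib.Helper28.ONd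

variable {n : ℕ} {F : Type*} [Field F] {Q : (Fin n → F) → F}
  {f : (Fin n → F) → (Fin n → F) → F}

local notation:73 g:73 " ∙ " x:74 => Matrix.mulVec (Units.val g) x

/-- a semisimilarity. -/
structure SSim (Q : (Fin n → F) → F) (Φ : (Fin n → F) → (Fin n → F)) (τ : F ≃+* F) (ν : F) :
    Prop where
  add : ∀ x y, Φ (x + y) = Φ x + Φ y
  smul : ∀ (k : F) (x : Fin n → F), Φ (k • x) = τ k • Φ x
  quad : ∀ x, Q (Φ x) = ν * τ (Q x)
  ne : ν ≠ 0

variable {Φ : (Fin n → F) → (Fin n → F)} {τ : F ≃+* F} {ν : F}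

theorem SSim.zero (h : SSim Q Φ τ ν) : Φ 0 = 0 := by
  have := h.smul 0 0
  rw [zero_smul, map_zero, zero_smul] at this
  exact this

theorem SSim.neg (h : SSim Q Φ τ ν) (x : Fin n → F) : Φ (-x) = -Φ x := by
  have := h.smul (-1) x
  rw [neg_smul, one_smul, map_neg, map_one, neg_smul, one_smul] at this
  exact this

theorem SSim.sub (h : SSim Q Φ τ ν) (x y : Fin n → F) : Φ (x - y) = Φ x - Φ y := by
  rw [sub_eq_add_neg, h.add, h.neg, ← sub_eq_add_neg]

theorem SSim.polar (h : SSim Q Φ τ ν) (hq : QF Q f) (x y : Fin n → F) :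
    f (Φ x) (Φ y) = ν * τ (f x y) := by
  have h1 := hq.polar (Φ x) (Φ y)
  rw [← h.add, h.quad, h.quad, h.quad, hq.polar, map_add, map_add] at h1
  linear_combination -h1

theorem SSim.ker (h : SSim Q Φ τ ν) (hq : QF Q f) {z : Fin n → F} (hz : Φ z = 0) : z = 0 := by
  have hf := hq.sym
  by_contra hz0
  obtain ⟨x, hx⟩ := (hf.nondegenerate z hz0).1
  apply hx
  have h1 := h.polar hq x z
  rw [hz, f_zero_right hf] at h1
  have h2 : τ (f x z) = 0 := by
    rcases mul_eq_zero.1 h1.symm with h' | h'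
    · exact absurd h' h.ne
    · exact h'
  have := congrArg τ.symm h2
  rw [τ.symm_apply_apply, map_zero] at this
  exact this

theorem SSim.inj (h : SSim Q Φ τ ν) (hq : QF Q f) : Function.Injective Φ := by
  intro x y hxy
  have : Φ (x - y) = 0 := by rw [h.sub, hxy, sub_self]
  exact sub_eq_zero.1 (h.ker hq this)

theorem SSim.surj [Fintype F] (h : SSim Q Φ τ ν) (hq : QF Q f) : Function.Surjective Φ :=
  Finite.injective_iff_surjective.1 (h.inj hq)

theorem SSim.exists_gl [Fintype F] (h : SSim Q Φ τ ν) (hq : QF Q f) :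
    ∃ g : Matrix.GeneralLinearGroup (Fin n) F, ∀ v : Fin n → F,
      g ∙ (fun i => τ (v i)) = Φ v := by
  let L : (Fin n → F) →ₗ[F] (Fin n → F) :=
    { toFun := fun v => Φ (fun i => τ.symm (v i))
      map_add' := by
        intro v w
        rw [← h.add]
        congr 1
        funext i
        simp
      map_smul' := by
        intro k v
        have : (fun i => τ.symm ((k • v) i)) = τ.symm k • (fun i => τ.symm (v i)) := by
          funext i
          simp
        rw [this, h.smul, τ.apply_symm_apply]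
        rfl }
  have hL : ∀ v, L v = Φ (fun i => τ.symm (v i)) := fun v => rfl
  have hLinj : Function.Injective L := by
    intro v w hvw
    rw [hL, hL] at hvw
    have := h.inj hq hvw
    funext i
    have h1 := congrFun this i
    exact τ.symm.injective h1
  have hM : ∀ x, (LinearMap.toMatrix' L) *ᵥ x = L x := by
    intro x
    rw [← Matrix.toLin'_apply, Matrix.toLin'_toMatrix']
  have hMinj : Function.Injective (LinearMap.toMatrix' L).mulVec := by
    intro v w hvw
    apply hLinj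
    rw [← hM, ← hM]
    exact hvw
  have hU : IsUnit (LinearMap.toMatrix' L) := Matrix.mulVec_injective_iff_isUnit.1 hMinj
  refine ⟨hU.unit, ?_⟩
  intro v
  show (LinearMap.toMatrix' L) *ᵥ _ = _
  rw [hM, hL]
  congr 1
  funext i
  simp

/-- conjugation by the semilinear map `v ↦ g τ(v)`. -/
noncomputable def cjHom (g : Matrix.GeneralLinearGroup (Fin n) F) (τ : F ≃+* F) :
    Matrix.GeneralLinearGroup (Fin n) F →* Matrix.GeneralLinearGroup (Fin n) F :=
  (MulAut.conj g).toMonoidHom.comp (Matrix.GeneralLinearGroup.map (τ : F →+* F))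

theorem cjHom_val (g : Matrix.GeneralLinearGroup (Fin n) F) (τ : F ≃+* F)
    (s : Matrix.GeneralLinearGroup (Fin n) F) :
    ((cjHom g τ s : Matrix.GeneralLinearGroup (Fin n) F) : Matrix (Fin n) (Fin n) F) =
      (g : Matrix (Fin n) (Fin n) F) * ((s : Matrix (Fin n) (Fin n) F)).map τ *
        ((g⁻¹ : Matrix.GeneralLinearGroup (Fin n) F) : Matrix (Fin n) (Fin n) F) := by
  rfl

theorem cjHom_apply (g : Matrix.GeneralLinearGroup (Fin n) F) (τ : F ≃+* F)
    (hg : ∀ v : Fin n → F, g ∙ (fun i => τ (v i)) = Φ v)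
    (s : Matrix.GeneralLinearGroup (Fin n) F) (y : Fin n → F) :
    (cjHom g τ s) ∙ (Φ y) = Φ (s ∙ y) := by
  rw [cjHom_val, ← Matrix.mulVec_mulVec, ← Matrix.mulVec_mulVec, ← hg y,
    Cfsg.Agent.S5643.inv_mv, ← hg]
  congr 1
  funext i
  exact (RingHom.map_mulVec (τ : F →+* F) (s : Matrix (Fin n) (Fin n) F) y i).symm

/-- a semisimilarity conjugates Siegel elements to Siegel elements. -/
theorem cjHom_rho [Fintype F] (h : SSim Q Φ τ ν) (hq : QF Q f)
    (g : Matrix.GeneralLinearGroup (Fin n) F)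
    (hg : ∀ v : Fin n → F, g ∙ (fun i => τ (v i)) = Φ v)
    {s : Matrix.GeneralLinearGroup (Fin n) F} {u y : Fin n → F} (hs : IsRho Q f s u y) :
    IsRho Q f (cjHom g τ s) (Φ u) (ν⁻¹ • Φ y) := by
  have hf := hq.sym
  intro x
  obtain ⟨x₀, rfl⟩ := h.surj hq x
  rw [cjHom_apply g τ hg, hs x₀, h.sub, h.sub, h.add, h.smul, h.smul, h.smul, h.polar hq,
    hf.smul_left, h.polar hq, hq.smul, h.quad, map_mul]
  have hν := h.ne
  have e1 : (ν * τ (f u x₀)) • ν⁻¹ • Φ y = τ (f u x₀) • Φ y := by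
    rw [smul_smul]
    congr 1
    field_simp
  have e2 : (ν⁻¹ * (ν * τ (f y x₀))) • Φ u = τ (f y x₀) • Φ u := by
    congr 1
    field_simp
  have e3 : (ν⁻¹ * ν⁻¹ * (ν * τ (Q y)) * (ν * τ (f u x₀))) • Φ u =
      (τ (Q y) * τ (f u x₀)) • Φ u := by
    congr 1
    field_simp
  rw [e1, e2, e3]

end Cfsg.Agent.Lib.Helper16.OA
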