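import Mathlib
import Cfsg.Agent.Lib.Helper16.OA20

set_option autoImplicit false
set_option linter.unusedSectionVars false
set_option linter.unusedVariables false

/-! Automorphisms of orthogonal groups, part 21: a normalised automorphism is induced by a
semisimilarity. -/

namespace Cfsg.Agent.Lib.Helper16.OA

open Matrix Cfsg.Agent.Lib.Helper28.HForm Cfsg.Agent.Lib.Helper28.OGen
  Cfsg.Agent.Lib.Helper28.OMax Cfsg.Agent.Lib.Helper28.OQ Cfsg.Agent.Lib.Helper28.OMax2
  Cfsg.Agent.Lib.Helper28.OIwa Cfsg.Agent.Lib.Helper28.OIwa2 Cfsg.Agent.Lib.Helper28.ONd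

variable {n : ℕ} {F : Type*} [Field F] {Q : (Fin n → F) → F}
  {f : (Fin n → F) → (Fin n → F) → F}

local notation:73 g:73 " ∙ " x:74 => Matrix.mulVec (Units.val g) x

variable {G : Subgroup (Matrix.GeneralLinearGroup (Fin n) F)}

/-- projection to the complement of a hyperbolic pair. -/
def projW (f : (Fin n → F) → (Fin n → F) → F) (e d x : Fin n → F) : Fin n → F :=
  x - f x d • e - f x e • d

theorem projW_e (hq : QF Q f) {e d : Fin n → F} (he : Q e = 0) (hed : f e d = 1)
    (x : Fin n → F) : f (projW f e d x) e = 0 := by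
  have hf := hq.sym
  unfold projW
  rw [f_sub_left hf, f_sub_left hf, hf.smul_left, hf.smul_left, f_sing hq he, s_symm hf d e, hed]
  ring

theorem projW_d (hq : QF Q f) {e d : Fin n → F} (hd : Q d = 0) (hed : f e d = 1)
    (x : Fin n → F) : f (projW f e d x) d = 0 := by
  have hf := hq.sym
  unfold projW
  rw [f_sub_left hf, f_sub_left hf, hf.smul_left, hf.smul_left, f_sing hq hd, hed]
  ring

theorem projW_add (hf : SymF f) (e d x y : Fin n → F) :
    projW f e d (x + y) = projW f e d x + projW f e d y := by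
  unfold projW
  rw [hf.add_left, hf.add_left]
  module

theorem projW_smul (hf : SymF f) (e d : Fin n → F) (k : F) (x : Fin n → F) :
    projW f e d (k • x) = k • projW f e d x := by
  unfold projW
  rw [hf.smul_left, hf.smul_left]
  module

theorem projW_of_mem {e d x : Fin n → F} (hxe : f x e = 0) (hxd : f x d = 0) :
    projW f e d x = x := by
  unfold projW
  rw [hxe, hxd, zero_smul, zero_smul, sub_zero, sub_zero]

theorem Q_hyp (hq : QF Q f) {e d p : Fin n → F} (he : Q e = 0) (hd : Q d = 0)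
    (hed : f e d = 1) (hpe : f p e = 0) (hpd : f p d = 0) (A B : F) :
    Q (p + A • e + B • d) = Q p + A * B := by
  have hf := hq.sym
  rw [hq.polar, hq.polar, hq.smul, hq.smul, he, hd, hf.add_left, s_smul_right hf,
    s_smul_right hf, hf.smul_left, s_smul_right hf, hpe, hpd, hed]
  ring

theorem Q_projW (hq : QF Q f) {e d : Fin n → F} (he : Q e = 0) (hd : Q d = 0)
    (hed : f e d = 1) (x : Fin n → F) : Q x = Q (projW f e d x) + f x d * f x e := by
  have h := Q_hyp hq he hd hed (projW_e hq he hed x) (projW_d hq hd hed x) (f x d) (f x e)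
  have e1 : projW f e d x + f x d • e + f x e • d = x := by
    unfold projW
    module
  rw [e1] at h
  exact h

/-- the semisimilarity assembled from the induced map. -/
noncomputable def PhiMap (hq : QF Q f) (G : Subgroup (Matrix.GeneralLinearGroup (Fin n) F))
    (α : MulAut (↥G ⧸ Subgroup.center ↥G)) (e d : Fin n → F) (τ : F ≃+* F) (ν : F)
    (x : Fin n → F) : Fin n → F :=
  psi hq G α e d (projW f e d x) + (ν * τ (f x d)) • e + τ (f x e) • d

section fin
variable [Fintype F]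

theorem PhiMap_ssim (hq : QF Q f) (vf : VFacts Q f) (hG : SgGroupQ Q f G) (p : ℕ)
    [Fact p.Prime] [CharP F p]
    (α : MulAut (↥G ⧸ Subgroup.center ↥G))
    {e d : Fin n → F} (he : Q e = 0) (hd : Q d = 0) (hed : f e d = 1)
    (hαe : (Qb hq G e he).map α.toMonoidHom = Qb hq G e he) (τ : F ≃+* F) (ν : F) (hν : ν ≠ 0)
    (hτ : ∀ (k : F) (w : Fin n → F), f w e = 0 → f w d = 0 →
        psi hq G α e d (k • w) = τ k • psi hq G α e d w)
    (hQ : ∀ w : Fin n → F, f w e = 0 → f w d = 0 → Q (psi hq G α e d w) = ν * τ (Q w)) :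
    SSim Q (PhiMap hq G α e d τ ν) τ ν where
  add := by
    intro x y
    have hf := hq.sym
    unfold PhiMap
    rw [projW_add hf, psi_add hq vf hG p α he hed hαe (projW_e hq he hed x) (projW_e hq he hed y),
      hf.add_left, hf.add_left, map_add, map_add]
    module
  smul := by
    intro k x
    have hf := hq.sym
    unfold PhiMap
    rw [projW_smul hf, hτ k _ (projW_e hq he hed x) (projW_d hq hd hed x), hf.smul_left,
      hf.smul_left, map_mul, map_mul]
    module
  quad := by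
    intro x
    have hf := hq.sym
    obtain ⟨h1, h2, _⟩ := psi_spec hq vf hG α he hed hαe (projW_e hq he hed x)
    unfold PhiMap
    rw [Q_hyp hq he hd hed h1 h2, hQ _ (projW_e hq he hed x) (projW_d hq hd hed x),
      Q_projW hq he hd hed x, map_add, map_mul]
    ring
  ne := hν

theorem PhiMap_e (hq : QF Q f) (vf : VFacts Q f) (hG : SgGroupQ Q f G) (p : ℕ)
    [Fact p.Prime] [CharP F p]
    (α : MulAut (↥G ⧸ Subgroup.center ↥G))
    {e d : Fin n → F} (he : Q e = 0) (hd : Q d = 0) (hed : f e d = 1)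
    (hαe : (Qb hq G e he).map α.toMonoidHom = Qb hq G e he) (τ : F ≃+* F) (ν : F) :
    PhiMap hq G α e d τ ν e = ν • e := by
  have hf := hq.sym
  have h1 : projW f e d e = 0 := by
    unfold projW
    rw [hed, f_sing hq he]
    module
  unfold PhiMap
  rw [h1, psi_zero hq vf hG p α he hed hαe, hed, f_sing hq he, map_one, map_zero]
  module

theorem PhiMap_d (hq : QF Q f) (vf : VFacts Q f) (hG : SgGroupQ Q f G) (p : ℕ)
    [Fact p.Prime] [CharP F p]
    (α : MulAut (↥G ⧸ Subgroup.center ↥G))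
    {e d : Fin n → F} (he : Q e = 0) (hd : Q d = 0) (hed : f e d = 1)
    (hαe : (Qb hq G e he).map α.toMonoidHom = Qb hq G e he) (τ : F ≃+* F) (ν : F) :
    PhiMap hq G α e d τ ν d = d := by
  have hf := hq.sym
  have hde : f d e = 1 := by rw [s_symm hf, hed]
  have h1 : projW f e d d = 0 := by
    unfold projW
    rw [hde, f_sing hq hd]
    module
  unfold PhiMap
  rw [h1, psi_zero hq vf hG p α he hed hαe, hde, f_sing hq hd, map_one, map_zero]
  module

theorem PhiMap_W (hq : QF Q f) (α : MulAut (↥G ⧸ Subgroup.center ↥G))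
    {e d w : Fin n → F} (hwe : f w e = 0) (hwd : f w d = 0) (τ : F ≃+* F) (ν : F) :
    PhiMap hq G α e d τ ν w = psi hq G α e d w := by
  unfold PhiMap
  rw [projW_of_mem hwe hwd, hwe, hwd, map_zero]
  module

/-- a normalised automorphism is induced by a semisimilarity. -/
theorem aut_induced_norm (hq : QF Q f) (vf : VFacts Q f) (hG : SgGroupQ Q f G) (p : ℕ)
    [Fact p.Prime] [CharP F p] (hn : 1 ≤ n)
    (hT : 9 ≤ n ∨ ∀ l₁ l₂ : TSL Q f, PerpL f l₁ l₂ → Meet l₁ l₂) (h4 : H4 Q f)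
    (α : MulAut (↥G ⧸ Subgroup.center ↥G))
    {e d : Fin n → F} (he : Q e = 0) (hd : Q d = 0) (hed : f e d = 1)
    (hαe : (Qb hq G e he).map α.toMonoidHom = Qb hq G e he)
    (hαd : (Qb hq G d hd).map α.toMonoidHom = Qb hq G d hd) :
    ∃ (g : Matrix.GeneralLinearGroup (Fin n) F) (τ : F ≃+* F) (ν : F), ν ≠ 0 ∧
      (∀ v : Fin n → F, Q (g ∙ (fun i => τ (v i))) = ν * τ (Q v)) ∧
      ∀ s : ↥G, ∃ s' : ↥G, (s' : Matrix.GeneralLinearGroup (Fin n) F) = cjHom g τ s ∧
        α (mkG G s) = mkG G s' := by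
  have hf := hq.sym
  have hde : f d e = 1 := by rw [s_symm hf, hed]
  have he0 : e ≠ 0 := by
    rintro rfl
    rw [f_zero_left hf] at hed
    exact zero_ne_one hed
  have hd0 : d ≠ 0 := by
    rintro rfl
    rw [f_zero_left hf] at hde
    exact zero_ne_one hde
  obtain ⟨τ, ν, hν, hτ, hψd, hF, hQ⟩ := psi_simil hq vf hG p hn hT h4 α he hd hed hαe hαd
  have hS := PhiMap_ssim hq vf hG p α he hd hed hαe τ ν hν hτ hQ
  obtain ⟨g, hg⟩ := hS.exists_gl hq
  refine ⟨g, τ, ν, hν, ?_, ?_⟩
  · intro v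
    rw [hg, hS.quad]
  let T : Subgroup ↥G :=
    { carrier := {s | ∃ s' : ↥G, (s' : Matrix.GeneralLinearGroup (Fin n) F) = cjHom g τ s ∧
        α (mkG G s) = mkG G s'}
      one_mem' := ⟨1, by rw [Subgroup.coe_one, map_one], by
        rw [map_one, map_one]⟩
      mul_mem' := by
        rintro a b ⟨a', ha1, ha2⟩ ⟨b', hb1, hb2⟩
        refine ⟨a' * b', ?_, ?_⟩
        · rw [Subgroup.coe_mul, Subgroup.coe_mul, map_mul, ha1, hb1]
        · rw [map_mul, map_mul, map_mul, ha2, hb2]
      inv_mem' := by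
        rintro a ⟨a', ha1, ha2⟩
        refine ⟨a'⁻¹, ?_, ?_⟩
        · rw [Subgroup.coe_inv, Subgroup.coe_inv, map_inv, ha1]
        · rw [map_inv, map_inv, map_inv, ha2] }
  have hTe : ∀ w : Fin n → F, f w e = 0 → rhoT hq G e w ∈ T := by
    intro w hwe
    obtain ⟨w', hw'⟩ : ∃ w', w' = w + (-(f w d)) • e := ⟨_, rfl⟩
    have hw'e : f w' e = 0 := by
      rw [hw', hf.add_left, hf.smul_left, f_sing hq he, hwe]
      ring
    have hw'd : f w' d = 0 := by
      rw [hw', hf.add_left, hf.smul_left, hed]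
      ring
    have h1 : rhoT hq G e w = rhoT hq G e w' := by
      rw [hw', rhoT_add_u hq vf hG he he0 hwe]
    rw [h1]
    obtain ⟨h2e, h2d, h2⟩ := psi_spec hq vf hG α he hed hαe hw'e
    refine ⟨rhoT hq G e (psi hq G α e d w'), ?_, h2⟩
    have h3 := cjHom_rho hS hq g hg (rhoT_spec hq vf hG (G := G) he he0 hw'e)
    rw [PhiMap_e hq vf hG p α he hd hed hαe, PhiMap_W hq α hw'e hw'd] at h3
    have h4' := isRho_smul hq ν h3
    rw [smul_smul, mul_inv_cancel₀ hν, one_smul] at h4'
    exact isRho_unique (rhoT_spec hq vf hG he he0 h2e) h4'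
  have hTd : ∀ w : Fin n → F, f w d = 0 → rhoT hq G d w ∈ T := by
    intro w hwd
    obtain ⟨w', hw'⟩ : ∃ w', w' = w + (-(f w e)) • d := ⟨_, rfl⟩
    have hw'd : f w' d = 0 := by
      rw [hw', hf.add_left, hf.smul_left, f_sing hq hd, hwd]
      ring
    have hw'e : f w' e = 0 := by
      rw [hw', hf.add_left, hf.smul_left, hde]
      ring
    have h1 : rhoT hq G d w = rhoT hq G d w' := by
      rw [hw', rhoT_add_u hq vf hG hd hd0 hwd]
    rw [h1]
    obtain ⟨h2d, h2e, h2⟩ := psi_spec hq vf hG α hd hde hαd hw'd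
    refine ⟨rhoT hq G d (psi hq G α d e w'), ?_, h2⟩
    have h3 := cjHom_rho hS hq g hg (rhoT_spec hq vf hG (G := G) hd hd0 hw'd)
    rw [PhiMap_d hq vf hG p α he hd hed hαe, PhiMap_W hq α hw'e hw'd, ← hψd w' hw'e hw'd] at h3
    exact isRho_unique (rhoT_spec hq vf hG hd hd0 h2d) h3
  have hMG : T.map G.subtype ≤ G := by
    rintro _ ⟨s, _, rfl⟩
    exact s.2
  have hXe : e ∈ XSQ Q f (T.map G.subtype) := by
    refine ⟨he, fun v c t hv hev ht => ?_⟩
    have h1 := isRho_of_sg hq hv ht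
    have h2 : f (c • v) e = 0 := by rw [hf.smul_left, s_symm hf, hev, mul_zero]
    have htG : t ∈ G := isRho_mem hq vf hG h1 he he0 h2
    have h3 : rhoT hq G e (c • v) = ⟨t, htG⟩ := rhoT_eq hq (r := ⟨t, htG⟩) h1
    refine ⟨⟨t, htG⟩, ?_, rfl⟩
    rw [← h3]
    exact hTe _ h2
  have hXd : d ∈ XSQ Q f (T.map G.subtype) := by
    refine ⟨hd, fun v c t hv hdv ht => ?_⟩
    have h1 := isRho_of_sg hq hv ht
    have h2 : f (c • v) d = 0 := by rw [hf.smul_left, s_symm hf, hdv, mul_zero]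
    have htG : t ∈ G := isRho_mem hq vf hG h1 hd hd0 h2
    have h3 : rhoT hq G d (c • v) = ⟨t, htG⟩ := rhoT_eq hq (r := ⟨t, htG⟩) h1
    refine ⟨⟨t, htG⟩, ?_, rfl⟩
    rw [← h3]
    exact hTd _ h2
  have hle := XSQ_two hq vf hG (T.map G.subtype) hMG hXe hXd (by rw [hed]; exact one_ne_zero)
  intro s
  obtain ⟨s₀, hs₀, hs₀'⟩ := hle s.2
  have : s₀ = s := Subtype.ext hs₀'
  rw [this] at hs₀
  exact hs₀

end fin

end Cfsg.Agent.Lib.Helper16.OA
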