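import Mathlib
import Cfsg.Agent.Lib.Helper16.OA21

set_option autoImplicit false
set_option linter.unusedSectionVars false
set_option linter.unusedVariables false

/-! Automorphisms of orthogonal groups, part 22: every automorphism is induced by a
semisimilarity. -/

namespace Cfsg.Agent.Lib.Helper16.OA

open Matrix Cfsg.Agent.Lib.Helper28.HForm Cfsg.Agent.Lib.Helper28.OGen
  Cfsg.Agent.Lib.Helper28.OMax Cfsg.Agent.Lib.Helper28.OQ Cfsg.Agent.Lib.Helper28.OMax2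
  Cfsg.Agent.Lib.Helper28.OIwa Cfsg.Agent.Lib.Helper28.OIwa2 Cfsg.Agent.Lib.Helper28.ONd

variable {n : ℕ} {F : Type*} [Field F] {Q : (Fin n → F) → F}
  {f : (Fin n → F) → (Fin n → F) → F}

local notation:73 g:73 " ∙ " x:74 => Matrix.mulVec (Units.val g) x

variable {G : Subgroup (Matrix.GeneralLinearGroup (Fin n) F)}

theorem cjHom_mul_left (h g : Matrix.GeneralLinearGroup (Fin n) F) (τ : F ≃+* F)
    (s : Matrix.GeneralLinearGroup (Fin n) F) :
    cjHom (h * g) τ s = h * cjHom g τ s * h⁻¹ := by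
  unfold cjHom
  simp only [MonoidHom.coe_comp, MulEquiv.coe_toMonoidHom, Function.comp_apply,
    MulAut.conj_apply, _root_.mul_inv_rev]
  group

section fin
variable [Fintype F]

/-- every automorphism of the central quotient is induced by a semisimilarity. -/
theorem aut_induced (hq : QF Q f) (vf : VFacts Q f) (hG : SgGroupQ Q f G) (p : ℕ)
    [Fact p.Prime] [CharP F p] (hn : 1 ≤ n)
    (hT : 9 ≤ n ∨ ∀ l₁ l₂ : TSL Q f, PerpL f l₁ l₂ → Meet l₁ l₂) (h4 : H4 Q f)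
    (α : MulAut (↥G ⧸ Subgroup.center ↥G)) :
    ∃ (g : Matrix.GeneralLinearGroup (Fin n) F) (τ : F ≃+* F) (ν : F), ν ≠ 0 ∧
      (∀ v : Fin n → F, Q (g ∙ (fun i => τ (v i))) = ν * τ (Q v)) ∧
      ∀ s : ↥G, ∃ s' : ↥G, (s' : Matrix.GeneralLinearGroup (Fin n) F) = cjHom g τ s ∧
        α (mkG G s) = mkG G s' := by
  have hf := hq.sym
  obtain ⟨e, he, he0⟩ := vf.sing
  obtain ⟨d, hd, hde⟩ := hyp_partner_q hq e he0 he
  have hed : f e d = 1 := by rw [s_symm hf, hde]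
  have hd0 : d ≠ 0 := by
    rintro rfl
    rw [f_zero_left hf] at hde
    exact zero_ne_one hde
  obtain ⟨e₁, he₁, he₁0, hαe⟩ := aut_Qb hq vf hG p hn hT α he he0
  obtain ⟨d₁, hd₁, hd₁0, hαd⟩ := aut_Qb hq vf hG p hn hT α hd hd0
  have h₁ : f e₁ d₁ ≠ 0 := by
    intro h
    have := (perp_transfer hq vf hG p α he hd he₁ hd₁ he0 hd0 he₁0 hd₁0 hαe hαd).2 h
    rw [hed] at this
    exact one_ne_zero this
  obtain ⟨g₀, a, b, ha, hb, hga, hgb⟩ := exists_normalize hq vf hG (G := G) he hd hed he₁ hd₁ h₁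
  obtain ⟨α', hα'⟩ : ∃ α' : MulAut (↥G ⧸ Subgroup.center ↥G),
      α' = MulAut.conj (mkG G g₀) * α := ⟨_, rfl⟩
  have hcomp : α'.toMonoidHom = (MulAut.conj (mkG G g₀)).toMonoidHom.comp α.toMonoidHom := by
    rw [hα']
    rfl
  have hαe' : (Qb hq G e he).map α'.toMonoidHom = Qb hq G e he := by
    have hQ1 : Q ((g₀ : Matrix.GeneralLinearGroup (Fin n) F) ∙ e₁) = 0 := by
      rw [hG.iso g₀.1 g₀.2, he₁]
    have hQ2 : Q (a • e) = 0 := by rw [hq.smul, he, mul_zero]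
    rw [hcomp, ← Subgroup.map_map, hαe, Qb_conj hq hG he₁ g₀ hQ1, Qb_congr hq hga hQ1 hQ2,
      Qb_smul hq he ha hQ2]
  have hαd' : (Qb hq G d hd).map α'.toMonoidHom = Qb hq G d hd := by
    have hQ1 : Q ((g₀ : Matrix.GeneralLinearGroup (Fin n) F) ∙ d₁) = 0 := by
      rw [hG.iso g₀.1 g₀.2, hd₁]
    have hQ2 : Q (b • d) = 0 := by rw [hq.smul, hd, mul_zero]
    rw [hcomp, ← Subgroup.map_map, hαd, Qb_conj hq hG hd₁ g₀ hQ1, Qb_congr hq hgb hQ1 hQ2,
      Qb_smul hq hd hb hQ2]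
  obtain ⟨g, τ, ν, hν, hQg, hind⟩ :=
    aut_induced_norm hq vf hG p hn hT h4 α' he hd hed hαe' hαd'
  refine ⟨(g₀⁻¹ : ↥G) * g, τ, ν, hν, ?_, ?_⟩
  · intro v
    rw [Cfsg.Agent.S5643.mul_mv, hG.iso _ (g₀⁻¹).2, hQg]
  · intro s
    obtain ⟨s', hs'1, hs'2⟩ := hind s
    refine ⟨g₀⁻¹ * s' * g₀, ?_, ?_⟩
    · rw [cjHom_mul_left, ← hs'1]
      simp only [Subgroup.coe_mul, Subgroup.coe_inv, inv_inv]
    · rw [hα'] at hs'2
      rw [MulAut.mul_apply, MulAut.conj_apply] at hs'2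
      rw [map_mul, map_mul, ← hs'2, map_inv]
      group

end fin

end Cfsg.Agent.Lib.Helper16.OA
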