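import Mathlib
import Cfsg.Agent.Lib.Helper16.OA22
import Cfsg.Agent.Lib.Helper28.OChar2
import Cfsg.Agent.Lib.Helper28.OOdd

set_option autoImplicit false
set_option linter.unusedSectionVars false
set_option linter.unusedVariables false

/-! Automorphisms of orthogonal groups, part 23: the hypotheses for quadratic forms. -/

namespace Cfsg.Agent.Lib.Helper16.OA

open Matrix Cfsg.Agent.Lib.Helper28.HForm Cfsg.Agent.Lib.Helper28.OGen
  Cfsg.Agent.Lib.Helper28.OMax Cfsg.Agent.Lib.Helper28.OQ Cfsg.Agent.Lib.Helper28.OMax2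
  Cfsg.Agent.Lib.Helper28.OIwa Cfsg.Agent.Lib.Helper28.OIwa2 Cfsg.Agent.Lib.Helper28.ONd
  Cfsg.Agent.Lib.Helper28.OChar2 Cfsg.Agent.Lib.Helper28.OOdd Cfsg.Agent.Lib.Helper28.OGenQ
  Cfsg.Agent.S0795

variable {n : ℕ} {F : Type*} [Field F] {Q : (Fin n → F) → F}
  {f : (Fin n → F) → (Fin n → F) → F}

local notation:73 g:73 " ∙ " x:74 => Matrix.mulVec (Units.val g) x

theorem h4_of_qf [Fintype F] (hq : QF Q f) (hn : 7 ≤ n) : H4 Q f := by
  intro z w z' w' hz hw hzw hz' hw' hzw' h1 h2 h3 h4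
  have hf := hq.sym
  have hwz : f w z ≠ 0 := by rw [s_symm hf, hzw]; exact one_ne_zero
  have hwz' : f w' z' ≠ 0 := by rw [s_symm hf, hzw']; exact one_ne_zero
  have hp1 : Perp f (Fin.cons z (Fin.cons w e0) : Fin (0 + 1 + 1) → (Fin n → F)) z' :=
    (perp_cons _ _ _).2 ⟨h1, (perp_cons _ _ _).2 ⟨h2, perp_e0 _⟩⟩
  have hp2 : Perp f (Fin.cons z (Fin.cons w e0) : Fin (0 + 1 + 1) → (Fin n → F)) w' :=
    (perp_cons _ _ _).2 ⟨h3, (perp_cons _ _ _).2 ⟨h4, perp_e0 _⟩⟩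
  by_cases h2' : (2 : F) = 0
  · have nd2 := c2_nd_pair hq h2' e0 nd_e0 z w (perp_e0 z) (perp_e0 w) hwz
    have nd4 := c2_nd_pair hq h2' _ nd2 z' w' hp1 hp2 hwz'
    obtain ⟨s, hsa, hss, hs0⟩ := c2_ex_sing hq h2' _ nd4 (by omega)
    rw [perp_cons, perp_cons, perp_cons, perp_cons] at hsa
    exact ⟨s, hs0, hss, hsa.2.2.1, hsa.2.2.2.1, hsa.1, hsa.2.1⟩
  · have nd2 := nd_cons2 hf e0 nd_e0 z w (perp_e0 z) (perp_e0 w) (f_sing hq hz) (f_sing hq hw) hwz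
    have nd4 := nd_cons2 hf _ nd2 z' w' hp1 hp2 (f_sing hq hz') (f_sing hq hw') hwz'
    obtain ⟨s, hsa, hss, hs0⟩ := ex_sing hf h2' _ nd4 (by omega)
    rw [perp_cons, perp_cons, perp_cons, perp_cons] at hsa
    exact ⟨s, hs0, sing_of_f hq h2' hss, hsa.2.2.1, hsa.2.2.2.1, hsa.1, hsa.2.1⟩

theorem hT_of_bound (hq : QF Q f)
    (hb : ∀ U : Submodule F (Fin n → F), (∀ u ∈ U, Q u = 0) → Module.finrank F U ≤ 3) :
    ∀ l₁ l₂ : TSL Q f, PerpL f l₁ l₂ → Meet l₁ l₂ := by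
  intro l₁ l₂ hp
  by_contra hnm
  have hinf : l₁.L ⊓ l₂.L = ⊥ := by
    rw [Submodule.eq_bot_iff]
    intro x hx
    by_contra hx0
    exact hnm ⟨x, hx0, hx.1, hx.2⟩
  have hts : ∀ u ∈ l₁.L ⊔ l₂.L, Q u = 0 := by
    intro u hu
    obtain ⟨x, hx, y, hy, rfl⟩ := Submodule.mem_sup.1 hu
    rw [hq.polar, l₁.sing hq hx, l₂.sing hq hy, hp x hx y hy]
    ring
  have h1 := hb _ hts
  have h2 := Submodule.finrank_sup_add_finrank_inf_eq l₁.L l₂.L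
  rw [hinf, finrank_bot, l₁.finrank_L, l₂.finrank_L] at h2
  omega

theorem bound_of_le7 (hq : QF Q f) (hn : n ≤ 7) :
    ∀ U : Submodule F (Fin n → F), (∀ u ∈ U, Q u = 0) → Module.finrank F U ≤ 3 := by
  intro U hU
  have hf := hq.sym
  have hti : ∀ x ∈ U, ∀ y ∈ U, f x y = 0 := by
    intro x hx y hy
    have h1 := hq.polar x y
    rw [hU _ (U.add_mem hx hy), hU x hx, hU y hy] at h1
    linear_combination -h1
  have h3 := rb hf e0 nd_e0 U hti (fun x _ => perp_e0 x)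
  omega

/-- every automorphism of `PΩ` of a non-degenerate quadratic form on `Fin n → F` is induced by a
semisimilarity. -/
theorem aut_induced_quad [Fintype F] (hn : 7 ≤ n) (Q : QuadraticForm F (Fin n → F))
    (hQ : (QuadraticMap.polarBilin Q).Nondegenerate)
    (hT : 9 ≤ n ∨ ∀ U : Submodule F (Fin n → F), (∀ u ∈ U, Q u = 0) → Module.finrank F U ≤ 3)
    (α : MulAut (↥(Cfsg.Geo.omegaGL (⇑Q)) ⧸ Subgroup.center ↥(Cfsg.Geo.omegaGL (⇑Q)))) :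
    ∃ (g : Matrix.GeneralLinearGroup (Fin n) F) (τ : F ≃+* F) (ν : F), ν ≠ 0 ∧
      (∀ v : Fin n → F, Q (g ∙ (fun i => τ (v i))) = ν * τ (Q v)) ∧
      ∀ s : ↥(Cfsg.Geo.omegaGL (⇑Q)), ∃ s' : ↥(Cfsg.Geo.omegaGL (⇑Q)),
        (s' : Matrix.GeneralLinearGroup (Fin n) F) = cjHom g τ s ∧
        α (mkG _ s) = mkG _ s' := by
  have hq := qf_of_quad Q hQ
  have vf := vfacts_quad hn Q hQ
  have hG := sgGroupQ_quad hn Q hQ
  obtain ⟨p, hp⟩ := CharP.exists F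
  have hpp : Fact p.Prime := ⟨CharP.char_is_prime F p⟩
  have hT' : 9 ≤ n ∨ ∀ l₁ l₂ : TSL (⇑Q) (pf Q), PerpL (pf Q) l₁ l₂ → Meet l₁ l₂ := by
    rcases hT with h | h
    · exact Or.inl h
    · exact Or.inr (hT_of_bound hq h)
  exact aut_induced hq vf hG p (by omega) hT' (h4_of_qf hq hn) α

end Cfsg.Agent.Lib.Helper16.OA
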