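import Mathlib
import Cfsg.Agent.Lib.Helper16.OA23
import Cfsg.Agent.Lib.Helper28.OAll
import Cfsg.Prelude.Def_LieTypeDatum

set_option autoImplicit false
set_option linter.unusedSectionVars false
set_option linter.unusedVariables false

/-! Automorphisms of orthogonal groups, part 24: transport to an arbitrary index type. -/

namespace Cfsg.Agent.Lib.Helper16.OA

open Matrix Cfsg.Agent.Lib.Lead Cfsg.Agent.Lib.Helper28.OTrans

universe u

variable {ι : Type} [Fintype ι] [DecidableEq ι] {F : Type u} [Field F] {n : ℕ}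

theorem map_center_equiv {A B : Type*} [Group A] [Group B] (φ : A ≃* B) :
    (Subgroup.center A).map (φ : A →* B) = Subgroup.center B := by
  ext x
  constructor
  · rintro ⟨a, ha, rfl⟩
    have ha : a ∈ Subgroup.center A := ha
    rw [Subgroup.mem_center_iff] at ha ⊢
    intro b
    obtain ⟨b', rfl⟩ := φ.surjective b
    show φ b' * φ a = φ a * φ b'
    rw [← map_mul, ← map_mul, ha b']
  · intro hx
    refine ⟨φ.symm x, ?_, by simp⟩
    show φ.symm x ∈ Subgroup.center A
    rw [Subgroup.mem_center_iff] at hx ⊢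
    intro a
    apply φ.injective
    rw [map_mul, map_mul, φ.apply_symm_apply]
    exact hx (φ a)

/-- `Ω(Q)` as the group `omegaGL` of the reindexed form. -/
noncomputable def omIso (e : ι ≃ Fin n) (Q : QuadraticForm F (ι → F)) :
    ↥(Cfsg.Omega F (⇑Q)) ≃* ↥(Cfsg.Geo.omegaGL (⇑(RI.qReindex e Q))) :=
  ((Subgroup.equivMapOfInjective (Cfsg.Omega F (⇑Q)) (Cfsg.isometryGroup F (⇑Q)).subtype
      (Subgroup.subtype_injective _)).trans
    ((RI.glReindex (F := F) e).subgroupMap (Cfsg.Geo.omegaGL (⇑Q)))).trans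
    (MulEquiv.subgroupCongr (map_omegaGL e (⇑Q)))

theorem omIso_coe (e : ι ≃ Fin n) (Q : QuadraticForm F (ι → F)) (s : ↥(Cfsg.Omega F (⇑Q))) :
    ((omIso e Q s : ↥(Cfsg.Geo.omegaGL (⇑(RI.qReindex e Q)))) : GL (Fin n) F) =
      RI.glReindex e ((s : ↥(Cfsg.isometryGroup F (⇑Q))) : GL ι F) := rfl

/-- the induced isomorphism of central quotients. -/
noncomputable def pomIso (e : ι ≃ Fin n) (Q : QuadraticForm F (ι → F)) :
    Cfsg.POmega F (⇑Q) ≃* (↥(Cfsg.Geo.omegaGL (⇑(RI.qReindex e Q))) ⧸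
      Subgroup.center ↥(Cfsg.Geo.omegaGL (⇑(RI.qReindex e Q)))) :=
  QuotientGroup.congr _ _ (omIso e Q) (map_center_equiv (omIso e Q))

theorem pomIso_mk (e : ι ≃ Fin n) (Q : QuadraticForm F (ι → F)) (s : ↥(Cfsg.Omega F (⇑Q))) :
    pomIso e Q (QuotientGroup.mk s) = mkG _ (omIso e Q s) := rfl

theorem reindex_map (e : ι ≃ Fin n) (τ : F ≃+* F) (M : Matrix ι ι F) :
    (Matrix.reindex e e M).map τ = Matrix.reindex e e (M.map τ) := rfl

theorem glReindex_symm_mulVec (e : ι ≃ Fin n) (g₀ : GL (Fin n) F) (x : Fin n → F) :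
    ((g₀ : Matrix (Fin n) (Fin n) F) *ᵥ x) ∘ e =
      (((RI.glReindex (F := F) e).symm g₀ : GL ι F) : Matrix ι ι F) *ᵥ (x ∘ e) := by
  obtain ⟨g, rfl⟩ := (RI.glReindex (F := F) e).surjective g₀
  rw [MulEquiv.symm_apply_apply, RI.glReindex_coe, RI.reindex_mulVec]
  funext i
  simp

/-- every automorphism of `PΩ(Q)` is induced by a semisimilarity, for a non-degenerate quadratic
form in dimension at least `7` (with a bound on totally singular subspaces in dimensions
`7` and `8`). -/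
theorem aut_is_induced [Fintype F] (Q : QuadraticForm F (ι → F))
    (hQ : (QuadraticMap.polarBilin Q).Nondegenerate) (hn : 7 ≤ Fintype.card ι)
    (hT : 9 ≤ Fintype.card ι ∨ Fintype.card ι ≤ 7 ∨
      ∀ U : Submodule F (ι → F), (∀ u ∈ U, Q u = 0) → Module.finrank F U ≤ 3)
    (α : MulAut (Cfsg.POmega F (⇑Q))) :
    ∃ (g : GL ι F) (σ : F ≃+* F), Cfsg.IsSemisimilarityPair (⇑Q) g σ ∧
      Cfsg.IsInducedBySemilinearPOmega (⇑Q) g σ α := by
  obtain ⟨e, he⟩ : ∃ e : ι ≃ Fin (Fintype.card ι), e = Fintype.equivFin ι := ⟨_, rfl⟩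
  have hQ' := RI.qReindex_nondeg e Q hQ
  have hT' : 9 ≤ Fintype.card ι ∨ ∀ U : Submodule F (Fin (Fintype.card ι) → F),
      (∀ u ∈ U, RI.qReindex e Q u = 0) → Module.finrank F U ≤ 3 := by
    rcases hT with h | h | h
    · exact Or.inl h
    · exact Or.inr (bound_of_le7 (Cfsg.Agent.Lib.Helper28.OGenQ.qf_of_quad _ hQ') h)
    · refine Or.inr ?_
      intro U hU
      have h1 := h (U.map (LinearEquiv.funCongrLeft F F e : (Fin (Fintype.card ι) → F) →ₗ[F] (ι → F)))
        (by
          rintro _ ⟨x, hx, rfl⟩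
          exact hU x hx)
      rw [LinearEquiv.finrank_map_eq] at h1
      exact h1
  obtain ⟨α₀, hα₀⟩ : ∃ α₀ : MulAut (↥(Cfsg.Geo.omegaGL (⇑(RI.qReindex e Q))) ⧸
      Subgroup.center ↥(Cfsg.Geo.omegaGL (⇑(RI.qReindex e Q)))),
      α₀ = (pomIso e Q).symm.trans (α.trans (pomIso e Q)) := ⟨_, rfl⟩
  have hα₀' : ∀ x, α₀ (pomIso e Q x) = pomIso e Q (α x) := by
    intro x
    rw [hα₀]
    simp
  obtain ⟨g₀, τ, ν, hν, hQg, hind⟩ := aut_induced_quad hn (RI.qReindex e Q) hQ' hT' α₀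
  refine ⟨(RI.glReindex (F := F) e).symm g₀, τ, ⟨Units.mk0 ν hν, ?_⟩, ?_⟩
  · intro v
    have h1 := hQg (v ∘ e.symm)
    rw [RI.qReindex_coe] at h1
    simp only at h1
    rw [glReindex_symm_mulVec] at h1
    have e1 : (fun i => τ ((v ∘ e.symm) i)) ∘ e = fun i => τ (v i) := by
      funext i
      simp
    have e2 : (v ∘ e.symm) ∘ e = v := by
      funext i
      simp
    rw [e1, e2] at h1
    exact h1
  · intro s s' hmat
    obtain ⟨s₀', hs₀'1, hs₀'2⟩ := hind (omIso e Q s)
    have h2 : omIso e Q s' = s₀' := by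
      apply Subtype.ext
      rw [hs₀'1, omIso_coe, omIso_coe]
      apply Units.ext
      rw [cjHom_val, RI.glReindex_coe, RI.glReindex_coe, hmat, reindex_map]
      have h3 : ∀ A B : Matrix ι ι F, Matrix.reindex e e (A * B) =
          Matrix.reindex e e A * Matrix.reindex e e B := by
        intro A B
        exact map_mul (Matrix.reindexAlgEquiv F F e) A B
      rw [h3, h3]
      congr 1
      · congr 1
        have := RI.glReindex_coe e ((RI.glReindex (F := F) e).symm g₀)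
        rw [MulEquiv.apply_symm_apply] at this
        exact this.symm
      · have := RI.glReindex_coe e (((RI.glReindex (F := F) e).symm g₀)⁻¹)
        rw [map_inv, MulEquiv.apply_symm_apply] at this
        exact this.symm
    rw [← h2, ← pomIso_mk, ← pomIso_mk, hα₀'] at hs₀'2
    exact (pomIso e Q).injective hs₀'2

theorem gammaPOmega_top [Fintype F] (Q : QuadraticForm F (ι → F))
    (hQ : (QuadraticMap.polarBilin Q).Nondegenerate) (hn : 7 ≤ Fintype.card ι)
    (hT : 9 ≤ Fintype.card ι ∨ Fintype.card ι ≤ 7 ∨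
      ∀ U : Submodule F (ι → F), (∀ u ∈ U, Q u = 0) → Module.finrank F U ≤ 3) :
    Cfsg.gammaPOmega F (⇑Q) = ⊤ := by
  rw [eq_top_iff]
  intro α _
  exact Subgroup.subset_closure (aut_is_induced Q hQ hn hT α)

end Cfsg.Agent.Lib.Helper16.OA
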