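import Mathlib
import Cfsg.Agent.Lib.Helper16.OA24
import Cfsg.Agent.Lib.Helper16.OHelp
import Cfsg.Agent.Lib.Helper16.SpinG2
import Cfsg.Agent.Lib.Lead.WittIndex

set_option autoImplicit false
set_option linter.unusedSectionVars false
set_option linter.unusedVariables false

/-! Automorphisms of orthogonal groups, part 25: the three families. -/

namespace Cfsg.Agent.Lib.Helper16.OA

open Matrix Cfsg.Agent.Lib.Helper16

universe u

variable {F : Type u} [Field F]

theorem qfOdd_nondeg (m : ℕ) (h2 : (2 : F) ≠ 0) :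
    (QuadraticMap.polarBilin (qfOdd m F)).Nondegenerate := by
  have hleft : ∀ x : Unit ⊕ (Fin m ⊕ Fin m) → F,
      (∀ y, QuadraticMap.polarBilin (qfOdd m F) x y = 0) → x = 0 := by
    intro x hx
    funext k
    rcases k with k | i | i
    · have := hx (Pi.single (Sum.inl ()) 1)
      rw [QuadraticMap.polarBilin_apply_apply, qfOdd_coe, polar_odd] at this
      have h3 : 2 * x (Sum.inl ()) = 0 := by simpa [Pi.single_apply] using this
      rcases mul_eq_zero.1 h3 with h | h
      · exact absurd h h2
      · cases k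
        exact h
    · have := hx (Pi.single (Sum.inr (Sum.inr i)) 1)
      rw [QuadraticMap.polarBilin_apply_apply, qfOdd_coe, polar_odd] at this
      simpa [Pi.single_apply] using this
    · have := hx (Pi.single (Sum.inr (Sum.inl i)) 1)
      rw [QuadraticMap.polarBilin_apply_apply, qfOdd_coe, polar_odd] at this
      simpa [Pi.single_apply] using this
  refine ⟨hleft, ?_⟩
  intro y hy
  apply hleft
  intro x
  have := hy x
  rw [QuadraticMap.polarBilin_apply_apply] at this ⊢
  rw [QuadraticMap.polar_comm]; exact this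

theorem gammaPOmega_odd [Fintype F] (hodd : Odd (Fintype.card F)) {m : ℕ} (hm : 3 ≤ m) :
    Cfsg.gammaPOmega F (Cfsg.quadFormOdd m F) = ⊤ := by
  have h2 : (2 : F) ≠ 0 := by
    intro h
    have : CharP F 2 := CharTwo.of_one_ne_zero_of_two_eq_zero one_ne_zero h
    have hchar : ringChar F = 2 := ringChar.eq F 2
    have heven := FiniteField.even_card_of_char_two hchar
    rw [Nat.odd_iff] at hodd
    omega
  have hcard : Fintype.card (Unit ⊕ (Fin m ⊕ Fin m)) = 1 + (m + m) := by simp
  have := gammaPOmega_top (qfOdd m F) (qfOdd_nondeg m h2) (by rw [hcard]; omega) (by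
    rw [hcard]
    by_cases h : 4 ≤ m
    · left; omega
    · right; left; omega)
  rw [qfOdd_coe] at this
  exact this

theorem gammaPOmega_plus [Fintype F] {m : ℕ} (hm : 5 ≤ m) :
    Cfsg.gammaPOmega F (Cfsg.quadFormPlus m F) = ⊤ := by
  have hcard : Fintype.card (Fin m ⊕ Fin m) = m + m := by simp
  have := gammaPOmega_top (qfPlus m F) (qfPlus_nondeg m F) (by rw [hcard]; omega) (by
    rw [hcard]
    left; omega)
  rw [qfPlus_coe] at this
  exact this

theorem gammaPOmega_minus [Fintype F] {m : ℕ} (hm : 3 ≤ m) (a b : F)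
    (hab : ∀ z₁ z₂ : F, z₁ ^ 2 + a * z₁ * z₂ + b * z₂ ^ 2 = 0 → z₁ = 0 ∧ z₂ = 0) :
    Cfsg.gammaPOmega F (Cfsg.quadFormMinus m F a b) = ⊤ := by
  have hcard : Fintype.card ((Fin m ⊕ Fin m) ⊕ Fin 2) = m + m + 2 := by simp
  have := gammaPOmega_top (qfMinus m F a b) (OSemi.qfMinus_nondeg m a b hab)
    (by rw [hcard]; omega) (by
    rw [hcard]
    by_cases h : 4 ≤ m
    · left; omega
    · right; right
      intro U hU
      have h3 : Module.finrank F ↥U ≤ m :=
        Cfsg.Agent.Lib.Lead.WI.minus_ts_le (k := m) (a := a) (b := b) hab U hU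
      omega)
  rw [qfMinus_coe] at this
  exact this

end Cfsg.Agent.Lib.Helper16.OA
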