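import Mathlib
import Cfsg.Agent.Lib.helper17.OMP.Defs
import Cfsg.Agent.Lib.helper17.OMP.Defs2

/-!
# Project OMP (designer helper17), row M8 (helper16), VERBATIM: `PhiM_tv`.
-/

set_option autoImplicit false

namespace Cfsg.Agent.Lib.helper17.OMP

open Matrix Cfsg.Agent.Lib.helper14.CTE Cfsg.Agent.Lib.helper14.CTA Cfsg.Agent.Lib.helper17.SLN Cfsg.Agent.Lib.Helper28.CTD
  Cfsg.Agent.Lib.helper3.STC Cfsg.Agent.Lib.Lead.STD

universe u v w

section M

variable {K : Type u} [Field K] {G : Type v} [Group G] {ι : Type w} [Fintype ι] [DecidableEq ι]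

omit [Fintype ι] in
theorem ompm8_fromBlocks_single (i j : ι) (t u : K) :
    Matrix.fromBlocks (Matrix.single i j t) 0 0 (Matrix.single j i u) =
      (Matrix.single (Sum.inl i) (Sum.inl j) t + Matrix.single (Sum.inr j) (Sum.inr i) u :
        Matrix (ι ⊕ ι) (ι ⊕ ι) K) := by
  ext (a | a) (b | b) <;> simp [Matrix.single_apply]

/-- M8 [S-M], verbatim. -/
theorem PhiM_tv (i j : ι) (t : K) :
    (PhiM (tv i j t : Matrix.SpecialLinearGroup ι K) : Matrix.SpecialLinearGroup (ι ⊕ ι) K) = mx (Sum.inl i) (Sum.inl j) t := by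
  by_cases hij : i = j
  · subst hij
    unfold mx
    rw [tv_self, tv_self, map_one, one_mul]
    show (1 : Matrix.SpecialLinearGroup (ι ⊕ ι) K) = tv (Sum.inr i) (Sum.inr i) (-t)
    rw [tv_self]
  · apply Subtype.ext
    have h1 : (Sum.inl i : ι ⊕ ι) ≠ Sum.inl j := fun h => hij (Sum.inl.inj h)
    have h2 : (Sum.inr j : ι ⊕ ι) ≠ Sum.inr i := fun h => hij (Sum.inr.inj h).symm
    have hji : j ≠ i := fun h => hij h.symm
    show PhiMM (tv i j t) = (mx (Sum.inl i) (Sum.inl j) t : Matrix.SpecialLinearGroup (ι ⊕ ι) K).1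
    unfold mx PhiMM
    rw [Matrix.SpecialLinearGroup.coe_mul, tinvN_tv, tv_coe hij, tv_coe hji]
    show _ = (tv (Sum.inl i) (Sum.inl j) t : Matrix.SpecialLinearGroup (ι ⊕ ι) K).1 *
      (tv (Sum.inr j) (Sum.inr i) (-t) : Matrix.SpecialLinearGroup (ι ⊕ ι) K).1
    rw [tv_coe h1, tv_coe h2]
    unfold Matrix.transvection
    rw [Matrix.add_mul, Matrix.mul_add, Matrix.mul_add, Matrix.one_mul, Matrix.mul_one, Matrix.one_mul,
      Matrix.single_mul_single_of_ne _ _ _ _ (show (Sum.inl j : ι ⊕ ι) ≠ Sum.inr j from Sum.inl_ne_inr), add_zero]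
    have e : Matrix.fromBlocks (1 + Matrix.single i j t) 0 0 (1 + Matrix.single j i (-t)) =
        (Matrix.fromBlocks 1 0 0 1 + Matrix.fromBlocks (Matrix.single i j t) 0 0 (Matrix.single j i (-t)) :
          Matrix (ι ⊕ ι) (ι ⊕ ι) K) := by
      rw [Matrix.fromBlocks_add]
      simp
    rw [e, Matrix.fromBlocks_one, ompm8_fromBlocks_single]
    abel

end M

end Cfsg.Agent.Lib.helper17.OMP
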