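import Mathlib
import Cfsg.Agent.Lib.Helper1.SLN.Defs

/-!
Project SLN (designer helper1; S2290), row G2 (`gX_low`), core by helper16: the statement with row G1 (`gX_eq`) as a
hypothesis; the identity `flip2 (xU t) = xL t` (part of row M3a) is proved here under an own name.
-/

set_option autoImplicit false

namespace Cfsg.Agent.Lib.Helper1.SLN

open Matrix Equiv
open Cfsg.Agent.Lib.helper17.SLP

universe u v

/-- own copy of `flip2_xU` (row M3a) -/
theorem slng2_flip2_xU {F : Type u} [Field F] (t : F) : flip2 (xU t) = xL t := by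
  apply Subtype.ext
  show (flip2F (xU t) : Matrix (Fin 2) (Fin 2) F) = _
  rw [flip2F_coe]
  ext i j
  fin_cases i <;> fin_cases j <;>
    simp [xU, xL, Matrix.SpecialLinearGroup.transvection, Matrix.transvection]

theorem slng2_t23_i0 (M : ℕ) : ((t23 M : alternatingGroup (Fin (M + 4))) : Equiv.Perm (Fin (M + 4))) (i0 M) = i1 M := by
  rw [t23_coe, Equiv.Perm.mul_apply, Equiv.swap_apply_of_ne_of_ne (i02 M) (i03 M), Equiv.swap_apply_left]

theorem slng2_t23_i1 (M : ℕ) : ((t23 M : alternatingGroup (Fin (M + 4))) : Equiv.Perm (Fin (M + 4))) (i1 M) = i0 M := by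
  rw [t23_coe, Equiv.Perm.mul_apply, Equiv.swap_apply_of_ne_of_ne (i12 M) (i13 M), Equiv.swap_apply_right]

section G

variable {F : Type u} [Field F] {G : Type v} [Group G]

theorem slng2_core (M : ℕ) (α : alternatingGroup (Fin (M + 4)) →* G)
    (β : Matrix.SpecialLinearGroup (Fin 3) F →* G) (H : Glue M α β)
    (hG1 : ∀ (σ : alternatingGroup (Fin (M + 4))) (i j : Fin (M + 4)),
      (σ : Equiv.Perm (Fin (M + 4))) (i0 M) = i → (σ : Equiv.Perm (Fin (M + 4))) (i1 M) = j →
      ∀ t : F, gX M α β i j t = α σ * β (emb23 (xU t)) * (α σ)⁻¹)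
    (σ : alternatingGroup (Fin (M + 4))) (i j : Fin (M + 4))
    (h0 : (σ : Equiv.Perm (Fin (M + 4))) (i0 M) = i) (h1 : (σ : Equiv.Perm (Fin (M + 4))) (i1 M) = j)
    (t : F) : gX M α β j i t = α σ * β (emb23 (xL t)) * (α σ)⁻¹ := by
  have e0 : ((σ * t23 M : alternatingGroup (Fin (M + 4))) : Equiv.Perm (Fin (M + 4))) (i0 M) = j := by
    rw [Subgroup.coe_mul, Equiv.Perm.mul_apply, slng2_t23_i0, h1]
  have e1 : ((σ * t23 M : alternatingGroup (Fin (M + 4))) : Equiv.Perm (Fin (M + 4))) (i1 M) = i := by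
    rw [Subgroup.coe_mul, Equiv.Perm.mul_apply, slng2_t23_i1, h0]
  rw [hG1 (σ * t23 M) j i e0 e1 t, map_mul, _root_.mul_inv_rev, ← slng2_flip2_xU, ← H.g3]
  simp only [mul_assoc]

end G

end Cfsg.Agent.Lib.Helper1.SLN
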