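import Mathlib
import Cfsg.Agent.Lib.Helper1.SLN.Defs
import Cfsg.Agent.Lib.Helper16.SLNG2core

/-!
Project SL7 = helper1's SLN (S2290), rows M3a (`xM_eq_xU emb23_xU emb23_xL flip2_xU flip2_xL`) and M3b (`cM_conj`),
by helper16.
-/

set_option autoImplicit false

namespace Cfsg.Agent.Lib.Helper1.SLN

open Matrix Equiv
open Cfsg.Agent.Lib.helper17.SLP

universe u v

section M3

variable {F : Type u} [Field F]

/-- M3a [S] (all six; `Subtype.ext`, `Matrix.SpecialLinearGroup.transvection_coe`, `ext i j; fin_cases i <;> fin_cases j <;> simp [Matrix.single_apply …]`). -/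
theorem xM_eq_xU (t : F) : xM t = xU t := by
  apply Subtype.ext
  ext i j
  fin_cases i <;> fin_cases j <;>
    simp [xM, xU, Matrix.SpecialLinearGroup.transvection, Matrix.transvection]

theorem emb23_xU (t : F) : emb23 (xU t) =
    Matrix.SpecialLinearGroup.transvection (i := (0 : Fin 3)) (j := 1) (by decide) t := by
  apply Subtype.ext
  show (emb23F (xU t) : Matrix (Fin 3) (Fin 3) F) = _
  rw [emb23F_coe]
  ext i j
  fin_cases i <;> fin_cases j <;>
    simp [xU, Matrix.SpecialLinearGroup.transvection, Matrix.transvection]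

theorem emb23_xL (t : F) : emb23 (xL t) =
    Matrix.SpecialLinearGroup.transvection (i := (1 : Fin 3)) (j := 0) (by decide) t := by
  apply Subtype.ext
  show (emb23F (xL t) : Matrix (Fin 3) (Fin 3) F) = _
  rw [emb23F_coe]
  ext i j
  fin_cases i <;> fin_cases j <;>
    simp [xL, Matrix.SpecialLinearGroup.transvection, Matrix.transvection]

theorem flip2_xU (t : F) : flip2 (xU t) = xL t := slng2_flip2_xU t

theorem flip2_xL (t : F) : flip2 (xL t) = xU t := by
  apply Subtype.ext
  show (flip2F (xL t) : Matrix (Fin 2) (Fin 2) F) = _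
  rw [flip2F_coe]
  ext i j
  fin_cases i <;> fin_cases j <;>
    simp [xU, xL, Matrix.SpecialLinearGroup.transvection, Matrix.transvection]

/-- M3b [S-M]  `cM⁻¹ = !![0,1,0;0,0,1;1,0,0]` (`inv_eq_of_mul_eq_one_right`); nine entries for each of the six pairs `(a, b)` (`fin_cases a <;> fin_cases b`). -/
theorem cM_conj (a b : Fin 3) (h : a ≠ b) (t : F) :
    (cM : Matrix.SpecialLinearGroup (Fin 3) F) * Matrix.SpecialLinearGroup.transvection h t * cM⁻¹ =
      Matrix.SpecialLinearGroup.transvection (i := a + 1) (j := b + 1)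
        (fun e => h (add_right_cancel e)) t := by
  rw [mul_inv_eq_iff_eq_mul]
  apply Subtype.ext
  rw [Matrix.SpecialLinearGroup.coe_mul, Matrix.SpecialLinearGroup.coe_mul, cM_coe]
  fin_cases a <;> fin_cases b
  all_goals first
    | exact absurd rfl h
    | (ext i j
       fin_cases i <;> fin_cases j <;>
         simp [Matrix.SpecialLinearGroup.transvection, Matrix.transvection, Matrix.mul_apply,
           Fin.sum_univ_three, Matrix.single_apply])

end M3

end Cfsg.Agent.Lib.Helper1.SLN
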