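import Mathlib
import Cfsg.Agent.Lib.Helper1.SLN.Defs
import Cfsg.Agent.Lib.Helper16.SLNG1
import Cfsg.Agent.Lib.Helper16.SLNM3

/-!
Project SL7 = helper1's SLN (S2290), row G3 (`gX_frame`), by helper16.
-/

set_option autoImplicit false

namespace Cfsg.Agent.Lib.Helper1.SLN

open Matrix Equiv
open Cfsg.Agent.Lib.helper17.SLP

universe u v

theorem slng3_c3_i0 (M : ℕ) : ((c3 M : alternatingGroup (Fin (M + 4))) : Equiv.Perm (Fin (M + 4))) (i0 M) = i1 M := by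
  rw [c3_coe, Equiv.Perm.mul_apply, Equiv.swap_apply_of_ne_of_ne (i01 M) (i02 M), Equiv.swap_apply_left]

theorem slng3_c3_i1 (M : ℕ) : ((c3 M : alternatingGroup (Fin (M + 4))) : Equiv.Perm (Fin (M + 4))) (i1 M) = i2 M := by
  rw [c3_coe, Equiv.Perm.mul_apply, Equiv.swap_apply_left,
    Equiv.swap_apply_of_ne_of_ne (i02 M).symm (i12 M).symm]

theorem slng3_c3_i2 (M : ℕ) : ((c3 M : alternatingGroup (Fin (M + 4))) : Equiv.Perm (Fin (M + 4))) (i2 M) = i0 M := by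
  rw [c3_coe, Equiv.Perm.mul_apply, Equiv.swap_apply_right, Equiv.swap_apply_right]

section G

variable {F : Type u} [Field F] {G : Type v} [Group G]

/-- conjugating by `α (σ * c3 M)` is conjugating by `α σ` after conjugating by `cM` inside `SL₃(F)` -/
theorem slng3_step (M : ℕ) (α : alternatingGroup (Fin (M + 4)) →* G)
    (β : Matrix.SpecialLinearGroup (Fin 3) F →* G) (H : Glue M α β)
    (σ : alternatingGroup (Fin (M + 4))) (A : Matrix.SpecialLinearGroup (Fin 3) F) :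
    α (σ * c3 M) * β A * (α (σ * c3 M))⁻¹ = α σ * β (cM * A * cM⁻¹) * (α σ)⁻¹ := by
  rw [map_mul, H.g2, _root_.mul_inv_rev, map_mul, map_mul, map_inv]
  simp only [mul_assoc]

/-- G3 [M] (the frame lemma)  deps G1 G2 M3a M3b.  `(a, b) = (0, 1)`: G1 + `emb23_xU`; `(1, 0)`: G2 + `emb23_xL`.  `(1, 2)` and `(2, 1)`: G1 / G2 for `σ * c3 M` (`c3 0 = 1`, `c3 1 = 2`), `H.g2`
(`α (c3 M) = β cM`), `cM_conj`.  `(2, 0)` and `(0, 2)`: the same with `σ * c3 M * c3 M` (`cM_conj` twice; `(0 : Fin 3) + 1 + 1 = 2`, `1 + 1 + 1 = 0`). -/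
theorem gX_frame (M : ℕ) (α : alternatingGroup (Fin (M + 4)) →* G)
    (β : Matrix.SpecialLinearGroup (Fin 3) F →* G) (H : Glue M α β)
    (σ : alternatingGroup (Fin (M + 4))) (a b : Fin 3) (hab : a ≠ b) (t : F) :
    gX M α β ((σ : Equiv.Perm (Fin (M + 4))) (inc M a)) ((σ : Equiv.Perm (Fin (M + 4))) (inc M b)) t =
      α σ * β (Matrix.SpecialLinearGroup.transvection hab t) * (α σ)⁻¹ := by
  -- values of `σ * c3` and `σ * c3 * c3`
  have c0 : ((σ * c3 M : alternatingGroup (Fin (M + 4))) : Equiv.Perm (Fin (M + 4))) (i0 M) =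
      (σ : Equiv.Perm (Fin (M + 4))) (i1 M) := by
    rw [Subgroup.coe_mul, Equiv.Perm.mul_apply, slng3_c3_i0]
  have c1 : ((σ * c3 M : alternatingGroup (Fin (M + 4))) : Equiv.Perm (Fin (M + 4))) (i1 M) =
      (σ : Equiv.Perm (Fin (M + 4))) (i2 M) := by
    rw [Subgroup.coe_mul, Equiv.Perm.mul_apply, slng3_c3_i1]
  have d0 : ((σ * c3 M * c3 M : alternatingGroup (Fin (M + 4))) : Equiv.Perm (Fin (M + 4))) (i0 M) =
      (σ : Equiv.Perm (Fin (M + 4))) (i2 M) := by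
    rw [Subgroup.coe_mul, Equiv.Perm.mul_apply, slng3_c3_i0, c1]
  have d1 : ((σ * c3 M * c3 M : alternatingGroup (Fin (M + 4))) : Equiv.Perm (Fin (M + 4))) (i1 M) =
      (σ : Equiv.Perm (Fin (M + 4))) (i0 M) := by
    rw [Subgroup.coe_mul, Equiv.Perm.mul_apply, slng3_c3_i1, Subgroup.coe_mul, Equiv.Perm.mul_apply,
      slng3_c3_i2]
  fin_cases a <;> fin_cases b
  · exact absurd rfl hab
  · -- (0, 1)
    show gX M α β ((σ : Equiv.Perm (Fin (M + 4))) (i0 M)) ((σ : Equiv.Perm (Fin (M + 4))) (i1 M)) t = _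
    rw [gX_eq M α β H σ _ _ rfl rfl t, emb23_xU]
  · -- (0, 2)
    show gX M α β ((σ : Equiv.Perm (Fin (M + 4))) (i0 M)) ((σ : Equiv.Perm (Fin (M + 4))) (i2 M)) t = _
    rw [gX_low M α β H (σ * c3 M * c3 M) _ _ d0 d1 t, emb23_xL, slng3_step M α β H (σ * c3 M),
      slng3_step M α β H σ, cM_conj, cM_conj]
  · -- (1, 0)
    show gX M α β ((σ : Equiv.Perm (Fin (M + 4))) (i1 M)) ((σ : Equiv.Perm (Fin (M + 4))) (i0 M)) t = _
    rw [gX_low M α β H σ _ _ rfl rfl t, emb23_xL]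
  · exact absurd rfl hab
  · -- (1, 2)
    show gX M α β ((σ : Equiv.Perm (Fin (M + 4))) (i1 M)) ((σ : Equiv.Perm (Fin (M + 4))) (i2 M)) t = _
    rw [gX_eq M α β H (σ * c3 M) _ _ c0 c1 t, emb23_xU, slng3_step M α β H σ, cM_conj]
  · -- (2, 0)
    show gX M α β ((σ : Equiv.Perm (Fin (M + 4))) (i2 M)) ((σ : Equiv.Perm (Fin (M + 4))) (i0 M)) t = _
    rw [gX_eq M α β H (σ * c3 M * c3 M) _ _ d0 d1 t, emb23_xU, slng3_step M α β H (σ * c3 M),
      slng3_step M α β H σ, cM_conj, cM_conj]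
  · -- (2, 1)
    show gX M α β ((σ : Equiv.Perm (Fin (M + 4))) (i2 M)) ((σ : Equiv.Perm (Fin (M + 4))) (i1 M)) t = _
    rw [gX_low M α β H (σ * c3 M) _ _ c0 c1 t, emb23_xL, slng3_step M α β H σ, cM_conj]
  · exact absurd rfl hab

end G

end Cfsg.Agent.Lib.Helper1.SLN
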