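import Mathlib
import Cfsg.Agent.Lib.Helper1.SLN.Defs
import Cfsg.Agent.Lib.Helper1.SLN.Defs2

/-!
Project SL7 (designer helper1; skeleton 2, S2288), row H6 `two_of_one`, core by helper16: the statement with the statements of rows
G1p (`gX_eq'`), G2p (`gX_low'`), G6p (`gX_conj'`), G5p (`gX_cmm'`) (for the given `α β`) as hypotheses.
-/

set_option autoImplicit false

namespace Cfsg.Agent.Lib.Helper1.SLN

open Matrix Equiv

universe u v w

section Perm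

variable (M : ℕ)

theorem sl7h6_x0 : ((x234 M : alternatingGroup (Fin (M + 1 + 4))) : Equiv.Perm (Fin (M + 1 + 4))) (i0 (M + 1)) =
    i0 (M + 1) := by
  simp [x234_coe, i0, i2, i3, i4, Equiv.swap_apply_def]

theorem sl7h6_x1 : ((x234 M : alternatingGroup (Fin (M + 1 + 4))) : Equiv.Perm (Fin (M + 1 + 4))) (i1 (M + 1)) =
    i1 (M + 1) := by
  simp [x234_coe, i1, i2, i3, i4, Equiv.swap_apply_def]

theorem sl7h6_x2 : ((x234 M : alternatingGroup (Fin (M + 1 + 4))) : Equiv.Perm (Fin (M + 1 + 4))) (i2 (M + 1)) =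
    i3 (M + 1) := by
  simp [x234_coe, i2, i3, i4, Equiv.swap_apply_def]

theorem sl7h6_x3 : ((x234 M : alternatingGroup (Fin (M + 1 + 4))) : Equiv.Perm (Fin (M + 1 + 4))) (i3 (M + 1)) =
    i4 M := by
  simp [x234_coe, i2, i3, i4, Equiv.swap_apply_def]

theorem sl7h6_x4 : ((x234 M : alternatingGroup (Fin (M + 1 + 4))) : Equiv.Perm (Fin (M + 1 + 4))) (i4 M) =
    i2 (M + 1) := by
  simp [x234_coe, i2, i3, i4]

theorem sl7h6_xinv (a b : Fin (M + 1 + 4))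
    (h : ((x234 M : alternatingGroup (Fin (M + 1 + 4))) : Equiv.Perm (Fin (M + 1 + 4))) a = b) :
    (((x234 M)⁻¹ : alternatingGroup (Fin (M + 1 + 4))) : Equiv.Perm (Fin (M + 1 + 4))) b = a := by
  rw [Subgroup.coe_inv, Equiv.Perm.inv_eq_iff_eq, h]

theorem sl7h6_rho0 (N : ℕ) : ((rho N : alternatingGroup (Fin (N + 4))) : Equiv.Perm (Fin (N + 4))) (i0 N) = i2 N := by
  simp [rho_coe, i0, i1, i2, i3, Equiv.swap_apply_def]

theorem sl7h6_rho1 (N : ℕ) : ((rho N : alternatingGroup (Fin (N + 4))) : Equiv.Perm (Fin (N + 4))) (i1 N) = i3 N := by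
  simp [rho_coe, i0, i1, i2, i3, Equiv.swap_apply_def]

theorem sl7h6_i04 : i0 (M + 1) ≠ i4 M := by simp [i0, i4]
theorem sl7h6_i14 : i1 (M + 1) ≠ i4 M := by simp [i1, i4]

end Perm

section H

variable {F : Type u} [Field F] {G : Type v} [Group G]

theorem sl7h6_core (M : ℕ) (α : alternatingGroup (Fin (M + 1 + 4)) →* G)
    (β : Matrix.SpecialLinearGroup (Fin 3) F →* G)
    (hG1 : ∀ (σ : alternatingGroup (Fin (M + 1 + 4))) (i j : Fin (M + 1 + 4)),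
      (σ : Equiv.Perm (Fin (M + 1 + 4))) (i0 (M + 1)) = i → (σ : Equiv.Perm (Fin (M + 1 + 4))) (i1 (M + 1)) = j →
      ∀ t : F, gX (M + 1) α β i j t = α σ * β (emb23 (xU t)) * (α σ)⁻¹)
    (hG2 : ∀ (σ : alternatingGroup (Fin (M + 1 + 4))) (i j : Fin (M + 1 + 4)),
      (σ : Equiv.Perm (Fin (M + 1 + 4))) (i0 (M + 1)) = i → (σ : Equiv.Perm (Fin (M + 1 + 4))) (i1 (M + 1)) = j →
      ∀ t : F, gX (M + 1) α β j i t = α σ * β (emb23 (xL t)) * (α σ)⁻¹)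
    (hG6 : ∀ (π : alternatingGroup (Fin (M + 1 + 4))) (i j : Fin (M + 1 + 4)), i ≠ j → ∀ t : F,
      α π * gX (M + 1) α β i j t * (α π)⁻¹ =
        gX (M + 1) α β ((π : Equiv.Perm (Fin (M + 1 + 4))) i) ((π : Equiv.Perm (Fin (M + 1 + 4))) j) t)
    (hG5 : ∀ (i j k : Fin (M + 1 + 4)), i ≠ j → j ≠ k → i ≠ k → ∀ s t : F,
      gX (M + 1) α β i j s * gX (M + 1) α β j k t * (gX (M + 1) α β i j s)⁻¹ * (gX (M + 1) α β j k t)⁻¹ =
        gX (M + 1) α β i k (s * t))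
    (h5a : Commute (β (emb23 (xU (1 : F)))) (α (rho (M + 1)) * β (emb23 (xU (1 : F))) * (α (rho (M + 1)))⁻¹)) :
    Commute (β (emb23 (xU (1 : F)))) (α (rho (M + 1)) * β (emb23 (xL (1 : F))) * (α (rho (M + 1)))⁻¹) := by
  -- names
  have e01 : gX (M + 1) α β (i0 (M + 1)) (i1 (M + 1)) (1 : F) = β (emb23 (xU (1 : F))) := by
    have := hG1 1 (i0 (M + 1)) (i1 (M + 1)) (by simp) (by simp) (1 : F)
    rw [this, map_one, one_mul, inv_one, mul_one]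
  have e23 : gX (M + 1) α β (i2 (M + 1)) (i3 (M + 1)) (1 : F) =
      α (rho (M + 1)) * β (emb23 (xU (1 : F))) * (α (rho (M + 1)))⁻¹ :=
    hG1 (rho (M + 1)) _ _ (sl7h6_rho0 (M + 1)) (sl7h6_rho1 (M + 1)) 1
  have e32 : gX (M + 1) α β (i3 (M + 1)) (i2 (M + 1)) (1 : F) =
      α (rho (M + 1)) * β (emb23 (xL (1 : F))) * (α (rho (M + 1)))⁻¹ :=
    hG2 (rho (M + 1)) _ _ (sl7h6_rho0 (M + 1)) (sl7h6_rho1 (M + 1)) 1
  rw [← e01, ← e32]
  rw [← e23, ← e01] at h5a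
  -- conjugation of a commuting pair
  have hconj : ∀ (π : alternatingGroup (Fin (M + 1 + 4))) (a b : G), Commute a b →
      Commute (α π * a * (α π)⁻¹) (α π * b * (α π)⁻¹) := by
    intro π a b hab
    show α π * a * (α π)⁻¹ * (α π * b * (α π)⁻¹) = α π * b * (α π)⁻¹ * (α π * a * (α π)⁻¹)
    calc α π * a * (α π)⁻¹ * (α π * b * (α π)⁻¹) = α π * (a * b) * (α π)⁻¹ := by group
      _ = α π * (b * a) * (α π)⁻¹ := by rw [hab.eq]
      _ = α π * b * (α π)⁻¹ * (α π * a * (α π)⁻¹) := by group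
  -- with `x234`
  have c34 : Commute (gX (M + 1) α β (i0 (M + 1)) (i1 (M + 1)) (1 : F))
      (gX (M + 1) α β (i3 (M + 1)) (i4 M) (1 : F)) := by
    have h := hconj (x234 M) _ _ h5a
    rw [hG6 (x234 M) _ _ (i01 (M + 1)) 1, hG6 (x234 M) _ _ (i23 (M + 1)) 1, sl7h6_x0, sl7h6_x1, sl7h6_x2,
      sl7h6_x3] at h
    exact h
  have c42 : Commute (gX (M + 1) α β (i0 (M + 1)) (i1 (M + 1)) (1 : F))
      (gX (M + 1) α β (i4 M) (i2 (M + 1)) (1 : F)) := by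
    have h := hconj (x234 M)⁻¹ _ _ h5a
    rw [hG6 (x234 M)⁻¹ _ _ (i01 (M + 1)) 1, hG6 (x234 M)⁻¹ _ _ (i23 (M + 1)) 1,
      sl7h6_xinv M _ _ (sl7h6_x0 M), sl7h6_xinv M _ _ (sl7h6_x1 M), sl7h6_xinv M _ _ (sl7h6_x4 M),
      sl7h6_xinv M _ _ (sl7h6_x2 M)] at h
    exact h
  have hc := hG5 (i3 (M + 1)) (i4 M) (i2 (M + 1)) (i34 M) (i24 M).symm (i23 (M + 1)).symm (1 : F) 1
  rw [mul_one] at hc
  rw [← hc]
  exact ((c34.mul_right c42).mul_right c34.inv_right).mul_right c42.inv_right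

end H

end Cfsg.Agent.Lib.Helper1.SLN
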