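import Mathlib
import Cfsg.Agent.Lib.Helper1.SLN.Defs
import Cfsg.Agent.Lib.Helper16.SLNG1

/-!
Project SL7 = helper1's SLN (S2290), row G4 (`gX_comm4`), core by helper16: the statement with row P3 (`exists_sig4`)
as a hypothesis.
-/

set_option autoImplicit false

namespace Cfsg.Agent.Lib.Helper1.SLN

open Matrix Equiv
open Cfsg.Agent.Lib.helper17.SLP

universe u v

theorem slng4_rho_i0 (M : ℕ) : ((rho M : alternatingGroup (Fin (M + 4))) : Equiv.Perm (Fin (M + 4))) (i0 M) = i2 M := by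
  rw [rho_coe, Equiv.Perm.mul_apply, Equiv.swap_apply_of_ne_of_ne (i01 M) (i03 M), Equiv.swap_apply_left]

theorem slng4_rho_i1 (M : ℕ) : ((rho M : alternatingGroup (Fin (M + 4))) : Equiv.Perm (Fin (M + 4))) (i1 M) = i3 M := by
  rw [rho_coe, Equiv.Perm.mul_apply, Equiv.swap_apply_left,
    Equiv.swap_apply_of_ne_of_ne (i03 M).symm (i23 M).symm]

theorem slng4_conj_comm {G : Type*} [Group G] (g a b : G) (h : Commute a b) :
    (g * a * g⁻¹) * (g * b * g⁻¹) = (g * b * g⁻¹) * (g * a * g⁻¹) := by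
  have e1 : g * a * g⁻¹ * (g * b * g⁻¹) = g * (a * b) * g⁻¹ := by simp [mul_assoc]
  have e2 : g * b * g⁻¹ * (g * a * g⁻¹) = g * (b * a) * g⁻¹ := by simp [mul_assoc]
  rw [e1, e2, h.eq]

section G

variable {F : Type u} [Field F] {G : Type v} [Group G]

theorem slng4_core (M : ℕ) (α : alternatingGroup (Fin (M + 4)) →* G)
    (β : Matrix.SpecialLinearGroup (Fin 3) F →* G) (H : Glue M α β)
    (hP3 : ∀ (i j k l : Fin (M + 4)), i ≠ j → i ≠ k → i ≠ l → j ≠ k → j ≠ l → k ≠ l →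
      ∃ σ : alternatingGroup (Fin (M + 4)),
        (σ : Equiv.Perm (Fin (M + 4))) (i2 M) = k ∧ (σ : Equiv.Perm (Fin (M + 4))) (i3 M) = l ∧
        (((σ : Equiv.Perm (Fin (M + 4))) (i0 M) = i ∧ (σ : Equiv.Perm (Fin (M + 4))) (i1 M) = j) ∨
          ((σ : Equiv.Perm (Fin (M + 4))) (i0 M) = j ∧ (σ : Equiv.Perm (Fin (M + 4))) (i1 M) = i)))
    (i j k l : Fin (M + 4)) (hij : i ≠ j) (hik : i ≠ k) (hil : i ≠ l)
    (hjk : j ≠ k) (hjl : j ≠ l) (hkl : k ≠ l) (s t : F) :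
    gX M α β i j s * gX M α β k l t = gX M α β k l t * gX M α β i j s := by
  obtain ⟨σ, h2, h3, h01⟩ := hP3 i j k l hij hik hil hjk hjl hkl
  -- `gX k l t` through `σ * rho`
  have e0 : ((σ * rho M : alternatingGroup (Fin (M + 4))) : Equiv.Perm (Fin (M + 4))) (i0 M) = k := by
    rw [Subgroup.coe_mul, Equiv.Perm.mul_apply, slng4_rho_i0, h2]
  have e1 : ((σ * rho M : alternatingGroup (Fin (M + 4))) : Equiv.Perm (Fin (M + 4))) (i1 M) = l := by
    rw [Subgroup.coe_mul, Equiv.Perm.mul_apply, slng4_rho_i1, h3]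
  have hkl' : gX M α β k l t =
      α σ * (α (rho M) * β (emb23 (xU t)) * (α (rho M))⁻¹) * (α σ)⁻¹ := by
    rw [gX_eq M α β H (σ * rho M) k l e0 e1 t, map_mul, _root_.mul_inv_rev]
    simp only [mul_assoc]
  -- `gX i j s` through `σ`
  have hij' : ∃ m : Matrix.SpecialLinearGroup (Fin 2) F,
      gX M α β i j s = α σ * β (emb23 m) * (α σ)⁻¹ := by
    rcases h01 with ⟨a0, a1⟩ | ⟨a0, a1⟩
    · exact ⟨xU s, gX_eq M α β H σ i j a0 a1 s⟩
    · exact ⟨xL s, gX_low M α β H σ j i a0 a1 s⟩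
  obtain ⟨m, hm⟩ := hij'
  rw [hm, hkl']
  exact slng4_conj_comm _ _ _ (H.g5 m (xU t))

end G

end Cfsg.Agent.Lib.Helper1.SLN
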