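import Mathlib
import Cfsg.Agent.Lib.Helper1.SLN.Defs
import Cfsg.Agent.Lib.Helper16.SLNG4core
import Cfsg.Agent.Lib.helper4.SL7P0

/-!
Project SL7 = helper1's SLN (S2290), row G4 (`gX_comm4`), by helper16: the core applied to helper4's landed P3.
-/

set_option autoImplicit false

namespace Cfsg.Agent.Lib.Helper1.SLN

open Matrix Equiv
open Cfsg.Agent.Lib.helper17.SLP

universe u v

section G

variable {F : Type u} [Field F] {G : Type v} [Group G]

/-- G4 [M]  deps P3 G1 G2.  `σ` from P3; `gX i j s = α σ * β (emb23 m) * (α σ)⁻¹` with `m = xU s` or `xL s`; `σ * rho M` maps `(0, 1)` to `(k, l)` (`rho_coe`), so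
`gX k l t = α σ * (α (rho M) * β (emb23 (xU t)) * (α (rho M))⁻¹) * (α σ)⁻¹`; `H.g5`, conjugated by `α σ`. -/
theorem gX_comm4 (M : ℕ) (α : alternatingGroup (Fin (M + 4)) →* G)
    (β : Matrix.SpecialLinearGroup (Fin 3) F →* G) (H : Glue M α β)
    (i j k l : Fin (M + 4)) (hij : i ≠ j) (hik : i ≠ k) (hil : i ≠ l)
    (hjk : j ≠ k) (hjl : j ≠ l) (hkl : k ≠ l) (s t : F) :
    gX M α β i j s * gX M α β k l t = gX M α β k l t * gX M α β i j s :=
  slng4_core M α β H (fun i j k l hij hik hil hjk hjl hkl => exists_sig4 M i j k l hij hik hil hjk hjl hkl)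
    i j k l hij hik hil hjk hjl hkl s t

end G

end Cfsg.Agent.Lib.Helper1.SLN
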