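import Mathlib
import Cfsg.Agent.Lib.Helper16.SL7H6core
import Cfsg.Agent.Lib.helper23.SL7G1p
import Cfsg.Agent.Lib.helper8.SL7G2p
import Cfsg.Agent.Lib.Helper9.SL7G6p
import Cfsg.Agent.Lib.Helper21.SL7G5p

/-!
Project SL7 (designer helper1; skeleton 2, S2288), row H6 `two_of_one` (helper16): verbatim wrapper of `sl7h6_core` on the landed rows
G1p (helper23), G2p (helper8), G6p (helper9), G5p (helper21).
-/

set_option autoImplicit false

namespace Cfsg.Agent.Lib.Helper1.SLN

open Matrix Equiv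
open Cfsg.Agent.Lib.helper17.SLP

universe u v w

section H

variable {F : Type u} [Field F] {G : Type v} [Group G]

/-- H6 [M] -/
theorem two_of_one (M : ℕ) (α : alternatingGroup (Fin (M + 1 + 4)) →* G)
    (β : Matrix.SpecialLinearGroup (Fin 3) F →* G) (H : Glue3 (M + 1) α β)
    (h5a : Commute (β (emb23 (xU (1 : F)))) (α (rho (M + 1)) * β (emb23 (xU (1 : F))) * (α (rho (M + 1)))⁻¹)) :
    Commute (β (emb23 (xU (1 : F)))) (α (rho (M + 1)) * β (emb23 (xL (1 : F))) * (α (rho (M + 1)))⁻¹) :=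
  sl7h6_core M α β (fun σ i j h0 h1 t => gX_eq' (M + 1) α β H σ i j h0 h1 t)
    (fun σ i j h0 h1 t => gX_low' (M + 1) α β H σ i j h0 h1 t)
    (fun π i j hij t => gX_conj' (M + 1) α β H π i j hij t)
    (fun i j k hij hjk hik s t => gX_cmm' (M + 1) α β H i j k hij hjk hik s t) h5a

end H

end Cfsg.Agent.Lib.Helper1.SLN
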