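import Mathlib
import Cfsg.Agent.Lib.Helper1.SLN.Defs
import Cfsg.Agent.Lib.Helper1.SLN.Defs2

/-!
Project SL7 (designer helper1; skeleton 2, S2288), row Z1 `zform`, core by helper16: the statement with the facts of rows Z0a
(`fM_mul_self`, `fM_inv`, `fM_conj_cM`) and Z0b (`nu_conj_c3`) as hypotheses.
-/

set_option autoImplicit false

namespace Cfsg.Agent.Lib.Helper1.SLN

open Matrix Equiv

universe u v w

section Z

variable {F : Type u} [Field F] {G : Type v} [Group G]

theorem sl7z1_core (M : ℕ) (α : alternatingGroup (Fin (M + 4)) →* G)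
    (β : Matrix.SpecialLinearGroup (Fin 3) F →* G) (h2c : α (c3 M) = β cM)
    (ν : alternatingGroup (Fin (M + 4)))
    (hfsq : (fM : Matrix.SpecialLinearGroup (Fin 3) F) * fM = 1)
    (hfinv : (fM : Matrix.SpecialLinearGroup (Fin 3) F)⁻¹ = fM)
    (hfc : (fM : Matrix.SpecialLinearGroup (Fin 3) F) * cM * fM⁻¹ = cM⁻¹)
    (hnc : ν * c3 M * ν⁻¹ = (c3 M)⁻¹)
    (y : Matrix.SpecialLinearGroup (Fin 3) F)
    (hy : Subgroup.closure ({y, cM} : Set (Matrix.SpecialLinearGroup (Fin 3) F)) = ⊤)
    (r1 : Commute (α ν * (β fM)⁻¹) (β y)) :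
    (∀ A : Matrix.SpecialLinearGroup (Fin 3) F, α ν * β A * (α ν)⁻¹ = β (fM * A * fM⁻¹)) ∧
      ∀ A : Matrix.SpecialLinearGroup (Fin 3) F, Commute (α (ν * ν)) (β A) := by
  set z : G := α ν * (β fM)⁻¹ with hz
  -- `z` commutes with `β cM`
  have hzc : Commute z (β cM) := by
    have e1 : z * β cM * z⁻¹ = α ν * β (fM⁻¹ * cM * fM) * (α ν)⁻¹ := by
      rw [hz, map_mul, map_mul, map_inv]
      group
    have e2 : (fM : Matrix.SpecialLinearGroup (Fin 3) F)⁻¹ * cM * fM = cM⁻¹ := by
      have := hfc
      rw [hfinv] at this ⊢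
      exact this
    have e3 : α ν * β (cM⁻¹) * (α ν)⁻¹ = β cM := by
      rw [map_inv, ← h2c, ← map_inv, ← map_inv, ← map_mul, ← map_mul]
      have : ν * (c3 M)⁻¹ * ν⁻¹ = c3 M := by
        have h0 : ν * (c3 M)⁻¹ * ν⁻¹ = (ν * c3 M * ν⁻¹)⁻¹ := by group
        rw [h0, hnc, inv_inv]
      rw [this]
    rw [e2, e3] at e1
    -- z * β cM * z⁻¹ = β cM
    show z * β cM = β cM * z
    calc z * β cM = z * β cM * z⁻¹ * z := by group
      _ = β cM * z := by rw [e1]
  -- `z` commutes with `β A` for all `A`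
  have hzA : ∀ A : Matrix.SpecialLinearGroup (Fin 3) F, Commute z (β A) := by
    intro A
    have hle : Subgroup.closure ({y, cM} : Set (Matrix.SpecialLinearGroup (Fin 3) F)) ≤
        (Subgroup.centralizer ({z} : Set G)).comap β := by
      rw [Subgroup.closure_le]
      intro g hg
      rcases hg with rfl | hg
      · show β g ∈ Subgroup.centralizer ({z} : Set G)
        rw [Subgroup.mem_centralizer_iff]
        intro w hw
        rw [Set.mem_singleton_iff] at hw
        subst hw
        exact r1.eq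
      · rw [Set.mem_singleton_iff] at hg
        subst hg
        show β cM ∈ Subgroup.centralizer ({z} : Set G)
        rw [Subgroup.mem_centralizer_iff]
        intro w hw
        rw [Set.mem_singleton_iff] at hw
        subst hw
        exact hzc.eq
    have hA : A ∈ Subgroup.closure ({y, cM} : Set (Matrix.SpecialLinearGroup (Fin 3) F)) := by
      rw [hy]; exact Subgroup.mem_top A
    have := hle hA
    rw [Subgroup.mem_comap, Subgroup.mem_centralizer_iff] at this
    exact this z rfl
  have hαν : α ν = z * β fM := by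
    rw [hz]; group
  refine ⟨?_, ?_⟩
  · intro A
    rw [hαν, map_mul, map_mul, map_inv]
    have h1 := (hzA (fM * A * fM⁻¹)).eq
    rw [map_mul, map_mul, map_inv] at h1
    calc z * β fM * β A * (z * β fM)⁻¹ = z * (β fM * β A * (β fM)⁻¹) * z⁻¹ := by group
      _ = (β fM * β A * (β fM)⁻¹) * z * z⁻¹ := by rw [h1]
      _ = β fM * β A * (β fM)⁻¹ := by group
  · intro A
    have h1 : α (ν * ν) = z * z := by
      rw [map_mul, hαν]
      have hc := (hzA fM).eq
      calc z * β fM * (z * β fM) = z * (β fM * z) * β fM := by group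
        _ = z * (z * β fM) * β fM := by rw [hc]
        _ = z * z * (β fM * β fM) := by group
        _ = z * z := by rw [← map_mul, hfsq, map_one, mul_one]
    rw [h1]
    exact (hzA A).mul_left (hzA A)

end Z

end Cfsg.Agent.Lib.Helper1.SLN
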