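import Mathlib

/-!
# Project PLK (S2480), row U3 (`finrank_ker_lmap`), verbatim: kernel of a direct sum of maps (Mathlib only).
-/

set_option autoImplicit false

namespace Cfsg.Agent.Lib.Helper1.PLK

open Polynomial

universe u

/-- the kernel of `DirectSum.lmap f` is the product of the kernels -/
noncomputable def plku3_equiv {F : Type u} [Field F] {ι : Type*} [Fintype ι] [DecidableEq ι]
    (M : ι → Type*) [∀ j, AddCommGroup (M j)] [∀ j, Module F (M j)]
    (f : ∀ j, M j →ₗ[F] M j) :
    LinearMap.ker (DirectSum.lmap f) ≃ₗ[F] (∀ j, LinearMap.ker (f j)) where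
  toFun x := fun j => ⟨(x : DirectSum ι M) j, by
    have h := x.2
    rw [LinearMap.mem_ker] at h ⊢
    have h2 : (DirectSum.lmap f (x : DirectSum ι M)) j = (0 : DirectSum ι M) j := by rw [h]
    rw [DirectSum.lmap_apply] at h2
    exact h2⟩
  map_add' x y := by
    funext j
    apply Subtype.ext
    simp
  map_smul' c x := by
    funext j
    apply Subtype.ext
    exact DFinsupp.smul_apply c (x : DirectSum ι M) j
  invFun y := ⟨(DirectSum.linearEquivFunOnFintype F ι M).symm (fun j => (y j : M j)), by
    rw [LinearMap.mem_ker]
    apply DFinsupp.ext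
    intro j
    rw [DirectSum.lmap_apply]
    have h1 : ((DirectSum.linearEquivFunOnFintype F ι M).symm (fun j => (y j : M j))) j =
        (y j : M j) := by
      have := congrFun ((DirectSum.linearEquivFunOnFintype F ι M).apply_symm_apply
        (fun j => (y j : M j))) j
      simpa using this
    rw [h1]
    have h2 := (y j).2
    rw [LinearMap.mem_ker] at h2
    rw [h2]
    rfl⟩
  left_inv x := by
    apply Subtype.ext
    apply DFinsupp.ext
    intro j
    have := congrFun ((DirectSum.linearEquivFunOnFintype F ι M).apply_symm_apply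
      (fun j => ((x : DirectSum ι M) j : M j))) j
    simpa using this
  right_inv y := by
    funext j
    apply Subtype.ext
    have := congrFun ((DirectSum.linearEquivFunOnFintype F ι M).apply_symm_apply
      (fun j => (y j : M j))) j
    simpa using this

/-- U3 [M] kernel of a direct sum of maps. -/
theorem finrank_ker_lmap {F : Type u} [Field F] {ι : Type*} [Fintype ι] [DecidableEq ι]
    (M : ι → Type*) [∀ j, AddCommGroup (M j)] [∀ j, Module F (M j)] [∀ j, Module.Finite F (M j)]
    (f : ∀ j, M j →ₗ[F] M j) :
    Module.finrank F (LinearMap.ker (DirectSum.lmap f)) =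
      ∑ j, Module.finrank F (LinearMap.ker (f j)) := by
  rw [LinearEquiv.finrank_eq (plku3_equiv M f), Module.finrank_pi_fintype]

end Cfsg.Agent.Lib.Helper1.PLK
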