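import Mathlib
import Cfsg.Agent.Lib.Helper1.PLK.Defs
import Cfsg.Agent.Lib.Helper12.PLKU4a
import Cfsg.Agent.Lib.helper15.PLKU4b

/-!
# Project PLK (S2480), row U4c (`finrank_ker_quot_pow`), verbatim.
-/

set_option autoImplicit false

namespace Cfsg.Agent.Lib.Helper1.PLK

open Polynomial
open Cfsg.Agent.Lib.Helper29.GLK
open Cfsg.Agent.Lib.Helper1.SLK

universe u

/-- U4c [M]. -/
theorem finrank_ker_quot_pow {F : Type u} [Field F] (p : F[X]) (hp : p ≠ 0) (e k : ℕ) :
    Module.finrank F (LinearMap.ker (sm (p ^ k) (F[X] ⧸ Ideal.span {p ^ e}))) =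
      p.natDegree * min e k := by
  rcases le_or_gt e k with hek | hke
  · have hker : LinearMap.ker (sm (p ^ k) (F[X] ⧸ Ideal.span {p ^ e})) = ⊤ := by
      rw [eq_top_iff]
      intro y _
      obtain ⟨h, rfl⟩ := Ideal.Quotient.mk_surjective y
      rw [LinearMap.mem_ker, sm_apply]
      have e1 : (p ^ k) • (Ideal.Quotient.mk (Ideal.span {p ^ e}) h) =
          Ideal.Quotient.mk (Ideal.span {p ^ e}) (p ^ k * h) := rfl
      rw [e1, Ideal.Quotient.eq_zero_iff_mem, Ideal.mem_span_singleton]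
      exact Dvd.dvd.mul_right (pow_dvd_pow p hek) h
    rw [hker, finrank_top, finrank_quotient_span_eq_natDegree, natDegree_pow, min_eq_left hek,
      mul_comm]
  · have hIJ : (Ideal.span {p ^ k * p ^ (e - k)} : Ideal F[X]) = Ideal.span {p ^ e} := by
      rw [← pow_add, Nat.add_sub_cancel' hke.le]
    have h1 := finrank_ker_quot_mul (p ^ (e - k)) (p ^ k) (pow_ne_zero _ hp) (pow_ne_zero _ hp)
    have h2 := finrank_ker_congr (F := F)
      (Submodule.quotEquivOfEq (Ideal.span {p ^ k * p ^ (e - k)} : Ideal F[X])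
        (Ideal.span {p ^ e}) hIJ) (p ^ k)
    rw [← h2, h1, natDegree_pow, min_eq_right hke.le, mul_comm]

end Cfsg.Agent.Lib.Helper1.PLK
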