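import Mathlib
import Cfsg.Prelude.Def_Characters
import Cfsg.Agent.Lib.helper7.PM2.Defs
import Cfsg.Agent.Lib.helper7.CharTools
import Cfsg.Agent.Lib.helper2.CharNat
import Cfsg.Agent.Lib.Helper20.PM2SQ

/-!
# Project PM2, piece DECS : the core (lower statements REG, POW, SI3, BAS3 as hypotheses)

`pm2decs_core` : the multiplicity of `pw ζ k` in the symmetric square is the same natural number for all `k`
prime to `|G|` in a fixed class mod `|G|/p`.  Also `pm2decs_split` (sum over `G` = sum over `sing` + sum over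
`reg`) and `pm2decs_inner_eq` (generic comparison of two inner products).
-/

set_option autoImplicit false
set_option linter.unusedVariables false
set_option linter.unusedSectionVars false

namespace Cfsg.Agent.Lib.helper7.PM2

open scoped ComplexConjugate

universe u

variable {G : Type u} [Group G] [Fintype G]

/-- the sum over the group splits into the `p`-singular and the `p`-regular part -/
theorem pm2decs_split (p : ℕ) (f : G → ℂ) :
    ∑ g : G, f g = ∑ g ∈ sing p G, f g + ∑ g ∈ reg p G, f g := by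
  classical
  rw [← Finset.sum_filter_add_sum_filter_not Finset.univ (fun g => p ∣ orderOf g) f]
  congr 1

/-- two functions which agree on the `p`-regular elements and have the same `p`-singular part of the inner product
with `Ψ` have the same inner product with `Ψ` -/
theorem pm2decs_inner_eq (p : ℕ) (Ψ φ φ' : G → ℂ) (hreg : ∀ z : G, ¬ p ∣ orderOf z → φ z = φ' z)
    (hsing : ∑ g ∈ sing p G, Ψ g * conj (φ g) = ∑ g ∈ sing p G, Ψ g * conj (φ' g)) :
    Cfsg.classInner Ψ φ = Cfsg.classInner Ψ φ' := by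
  unfold Cfsg.classInner
  congr 1
  rw [pm2decs_split p, pm2decs_split p (fun g => Ψ g * conj (φ' g)), hsing]
  congr 1
  refine Finset.sum_congr rfl fun g hg => ?_
  rw [hreg g ((mem_reg p g).mp hg)]

/-- DECS, with the lower statements as hypotheses -/
theorem pm2decs_core {p : ℕ} {ζ : G → ℂ} (hp : p.Prime) (hirr : Cfsg.IsIrrCharacter G ζ)
    (hpn : p ∣ Nat.card G) (ho : Nat.card (Subgroup.center G) ∣ Nat.card G / p)
    (hpw : ∀ k : ℕ, Nat.Coprime k (Nat.card G) → Cfsg.IsIrrCharacter G (pw ζ k))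
    (hreg : ∀ z : G, ¬ p ∣ orderOf z → ∀ k κ : ℕ, k ≡ κ [MOD Nat.card G / p] → z ^ k = z ^ κ)
    (hsi : ∀ k : ℕ, ¬ p ∣ k → k ≡ 2 [MOD Nat.card (Subgroup.center G)] →
      ∑ g ∈ sing p G, symSq ζ g * conj (pw ζ k g) = (Nat.card G : ℂ) / (p : ℂ))
    (κ : ℕ) (hκ2 : κ ≡ 2 [MOD Nat.card (Subgroup.center G)]) :
    ∃ B : ℕ, ∀ k : ℕ, Nat.Coprime k (Nat.card G) → k ≡ κ [MOD Nat.card G / p] →
      Cfsg.classInner (symSq ζ) (pw ζ k) = (B : ℂ) := by
  -- facts about an admissible `k`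
  have hnd : ∀ k : ℕ, Nat.Coprime k (Nat.card G) → ¬ p ∣ k := by
    intro k hk hpk
    have h1 : p ∣ Nat.gcd k (Nat.card G) := Nat.dvd_gcd hpk hpn
    rw [hk] at h1
    exact hp.one_lt.ne' (Nat.dvd_one.mp h1)
  have h2 : ∀ k : ℕ, k ≡ κ [MOD Nat.card G / p] → k ≡ 2 [MOD Nat.card (Subgroup.center G)] :=
    fun k hk => (hk.of_dvd ho).trans hκ2
  by_cases hex : ∃ k₀ : ℕ, Nat.Coprime k₀ (Nat.card G) ∧ k₀ ≡ κ [MOD Nat.card G / p]
  · obtain ⟨k₀, hk₀, hk₀κ⟩ := hex
    have hsym : Cfsg.IsCharacter G (symSq ζ) := pm2_symSq (Cfsg.Agent.Lib.helper7.h7_irr_isCharacter hirr)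
    obtain ⟨B, hB⟩ := Cfsg.Agent.Lib.helper2.classInner_character_nat hsym
      (Cfsg.Agent.Lib.helper7.h7_irr_isCharacter (hpw k₀ hk₀))
    refine ⟨B, fun k hk hkκ => ?_⟩
    rw [← hB]
    refine pm2decs_inner_eq p _ _ _ (fun z hz => ?_) ?_
    · rw [pw_apply, pw_apply, hreg z hz k κ hkκ, hreg z hz k₀ κ hk₀κ]
    · rw [hsi k (hnd k hk) (h2 k hkκ), hsi k₀ (hnd k₀ hk₀) (h2 k₀ hk₀κ)]
  · exact ⟨0, fun k hk hkκ => absurd ⟨k, hk, hkκ⟩ hex⟩

end Cfsg.Agent.Lib.helper7.PM2
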