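import Mathlib
import Cfsg.Prelude.Def_Characters
import Cfsg.Agent.Lib.helper7.PM2.Defs
import Cfsg.Agent.Lib.Helper16.PM2DECScore
import Cfsg.Agent.Lib.Helper18.PM2REG
import Cfsg.Agent.Lib.Helper20.PM2POW
import Cfsg.Agent.Lib.helper23.PM2BAS3
import Cfsg.Agent.Lib.helper23.PM2SINGVAL
import Cfsg.Agent.Lib.Helper11.PM2SIcore
import Cfsg.Agent.Lib.Helper27.PM2TI3
import Cfsg.Agent.Lib.Helper25.PM2NUSUM
import Cfsg.Agent.Lib.Helper25.PM2ROOTS1

/-!
# Project PM2, piece DECS : `mult_sym` (verbatim)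

The multiplicity of `pw ζ k` in the symmetric square is the same natural number `B` for all `k` prime to `|G|`
in the class of `κ` mod `|G|/p`.  (The `p`-singular part of the inner product is `pm2si3_core` applied to the
landed TI3, SINGVAL, NUSUM, ROOTS1.)
-/

set_option autoImplicit false
set_option linter.unusedVariables false
set_option linter.unusedSectionVars false

namespace Cfsg.Agent.Lib.helper7.PM2

open scoped ComplexConjugate

universe u

section setting

variable {G : Type u} [Group G] [Fintype G] {p : ℕ} {ζ : G → ℂ} {x : G} {ω : ℂ}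

/-- DECS : the multiplicities of the `ζ^[k]` in the symmetric square -/
theorem mult_sym (S : Setting p ζ x ω) (κ : ℕ) (hκ : Nat.Coprime κ (Nat.card G / p))
    (hκ2 : κ ≡ 2 [MOD Nat.card (Subgroup.center G)]) :
    ∃ B : ℕ, ∀ k : ℕ, Nat.Coprime k (Nat.card G) → k ≡ κ [MOD Nat.card G / p] →
      Cfsg.classInner (symSq ζ) (pw ζ k) = (B : ℂ) := by
  have hd := card_dvd S
  have hpo : p * Nat.card (Subgroup.center G) ∣ Nat.card G :=
    Dvd.dvd.trans ⟨2, by ring⟩ hd
  have hpn : p ∣ Nat.card G := Dvd.dvd.trans ⟨Nat.card (Subgroup.center G), rfl⟩ hpo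
  have ho : Nat.card (Subgroup.center G) ∣ Nat.card G / p := Nat.dvd_div_of_mul_dvd hpo
  exact pm2decs_core S.hp S.irr hpn ho (fun k hk => pw_irr S.irr k hk)
    (fun z hz k κ h => pow_reg S z hz k κ h)
    (fun k hk hk2 => pm2si3_core S k hk hk2 (sum_sing S) (fun m hm c hc => pw_val S k hk m hm hc)
      (fun m hm c hc => symSq_val S m hm hc) (nu_sum S 2 k) (root_sum_one S.hp S.prim k hk)) κ hκ2

end setting

end Cfsg.Agent.Lib.helper7.PM2
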