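import Mathlib
import Cfsg.Agent.Lib.helper7.REE.Defs
import Cfsg.Agent.Lib.Helper28.REEPB
import Cfsg.Agent.Lib.Helper27.REEPE

/-!
# Project REE (designer helper7), row G4E `D_basic` (helper16): the torus `D = ψ(SO₂(K))`.
Cites the landed rows PB (`so2_props`, helper28) and PE (`sl2_basic`, helper27).
-/

set_option autoImplicit false

namespace Cfsg.Agent.Lib.helper7.REE

open Matrix Cfsg.Agent.Lib.helper8

universe u v

section SL2

variable {K : Type v} [Field K]

theorem reeg4e_neg_mem : (-1 : SpecialLinearGroup (Fin 2) K) ∈ so2 K := by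
  obtain ⟨o00, o01, o10, o11⟩ := reepb_one_apply (K := K)
  rw [reepb_mem_so2]
  simp only [reepb_neg_apply, o00, o01, o10, o11]
  constructor
  · trivial
  · simp

theorem reeg4e_neg_mem' (g : SpecialLinearGroup (Fin 2) K) (hg : g ∈ so2 K) : -g ∈ so2 K := by
  have : (-g : SpecialLinearGroup (Fin 2) K) = (-1) * g := by simp
  rw [this]
  exact (so2 K).mul_mem reeg4e_neg_mem hg

/-- the elements of `SO₂` whose square is `1` -/
theorem reeg4e_sq (h2 : (2 : K) ≠ 0) (g : SpecialLinearGroup (Fin 2) K)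
    (hg : g ∈ so2 K) (hsq : g * g = 1) : g = 1 ∨ g = -1 := by
  obtain ⟨h11, h01⟩ := hg
  obtain ⟨o00, o01, o10, o11⟩ := reepb_one_apply (K := K)
  have hdet := h8sl_det g
  rw [← h11, h01] at hdet
  have e00 : (g * g) 0 0 = 1 := by rw [hsq]; exact o00
  rw [reepb_mul_apply, h01] at e00
  have hb0 : g 1 0 = 0 := by
    have : 2 * (g 1 0 * g 1 0) = 0 := by linear_combination hdet - e00
    rcases mul_eq_zero.mp this with h | h
    · exact absurd h h2
    · exact mul_self_eq_zero.mp h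
  have ha1 : g 0 0 * g 0 0 = 1 := by rw [hb0] at hdet; linear_combination hdet
  rcases mul_self_eq_one_iff.mp ha1 with h | h
  · left
    apply h8sl_ext
    · rw [h, o00]
    · rw [h01, hb0, o01, neg_zero]
    · rw [hb0, o10]
    · rw [← h11, h, o11]
  · right
    apply h8sl_ext
    · rw [h, reepb_neg_apply, o00]
    · rw [h01, hb0, reepb_neg_apply, o01]
    · rw [hb0, reepb_neg_apply, o10, neg_zero]
    · rw [← h11, h, reepb_neg_apply, o11]

end SL2

namespace ReeAx

variable {G : Type u} [Group G] [Finite G] {K : Type v} [Field K] [Fintype K] {m : ℕ}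

/-- `ψ x = ψ y ↔ x = ± y` -/
theorem reeg4e_psi_eq (R : ReeAx G K m) (x y : SpecialLinearGroup (Fin 2) K) :
    R.psi x = R.psi y ↔ x = y ∨ x = -y := by
  constructor
  · intro h
    have h1 : R.psi (x * y⁻¹) = 1 := by rw [map_mul, map_inv, h, mul_inv_cancel]
    rcases R.psi_ker _ h1 with h2 | h2
    · left
      exact mul_inv_eq_one.mp h2
    · right
      have : x = (x * y⁻¹) * y := by group
      rw [this, h2]
      simp
  · rintro (rfl | rfl)
    · rfl
    · have : (-y : SpecialLinearGroup (Fin 2) K) = (-1) * y := by simp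
      rw [this, map_mul, R.psi_neg, one_mul]

theorem reeg4e_psi_negW (R : ReeAx G K m) : R.psi (-h8slW) = R.n0 := by
  rw [← R.psi_W]
  exact (R.reeg4e_psi_eq _ _).mpr (Or.inr rfl)

/-- membership in `D` -/
theorem reeg4e_mem_D (R : ReeAx G K m) (d : G) : d ∈ R.D ↔ ∃ g ∈ so2 K, R.psi g = d := by
  unfold ReeAx.D
  rw [Subgroup.mem_map]

/-- `ψ x ∈ D ↔ x ∈ SO₂` -/
theorem reeg4e_psi_mem_D (R : ReeAx G K m) (x : SpecialLinearGroup (Fin 2) K) :
    R.psi x ∈ R.D ↔ x ∈ so2 K := by
  rw [R.reeg4e_mem_D]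
  constructor
  · rintro ⟨g, hg, hgx⟩
    rcases (R.reeg4e_psi_eq g x).mp hgx with h | h
    · rw [← h]; exact hg
    · have : x = -g := by rw [h]; simp
      rw [this]
      exact reeg4e_neg_mem' g hg
  · intro hx
    exact ⟨x, hx, rfl⟩

/-- the kernel of `ψ` on `SO₂` has order 2 -/
theorem reeg4e_card (R : ReeAx G K m) : Nat.card (so2 K) = 2 * Nat.card R.D := by
  have hne : (-1 : SpecialLinearGroup (Fin 2) K) ≠ 1 := (sl2_basic R.hK).2.1
  set f : ↥(so2 K) →* ↥((so2 K).map R.psi) := R.psi.subgroupMap (so2 K) with hf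
  have hsurj : Function.Surjective f := R.psi.subgroupMap_surjective (so2 K)
  have hker : Nat.card f.ker = 2 := by
    rw [Nat.card_eq_two_iff]
    refine ⟨⟨1, f.ker.one_mem⟩, ⟨⟨-1, reeg4e_neg_mem⟩, ?_⟩, ?_, ?_⟩
    · rw [MonoidHom.mem_ker]
      apply Subtype.ext
      show R.psi (-1) = 1
      exact R.psi_neg
    · intro h
      have h1 := congrArg (fun z : f.ker => ((z : ↥(so2 K)) : SpecialLinearGroup (Fin 2) K)) h
      exact hne h1.symm
    · ext ⟨⟨z, hz⟩, hzk⟩
      simp only [Set.mem_insert_iff, Set.mem_singleton_iff, Set.mem_univ, iff_true]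
      rw [MonoidHom.mem_ker] at hzk
      have h1 : R.psi z = 1 := congrArg Subtype.val hzk
      rcases R.psi_ker z h1 with h | h
      · left
        apply Subtype.ext
        apply Subtype.ext
        exact h
      · right
        apply Subtype.ext
        apply Subtype.ext
        exact h
  have h1 : Nat.card (so2 K) = Nat.card (↥(so2 K) ⧸ f.ker) * Nat.card f.ker :=
    Subgroup.card_eq_card_quotient_mul_card_subgroup f.ker
  have h2 : Nat.card (↥(so2 K) ⧸ f.ker) = Nat.card ↥((so2 K).map R.psi) :=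
    Nat.card_congr (QuotientGroup.quotientKerEquivOfSurjective f hsurj).toEquiv
  rw [h1, h2, hker, mul_comm]
  rfl

/-- G4E. The torus `D = ψ(SO₂)` of `L` (`so2_props`). -/
theorem D_basic (R : ReeAx G K m) :
    IsCyclic R.D ∧ 2 * Nat.card R.D = qq m + 1 ∧ R.n0 ∈ R.D ∧ R.D ≤ R.L ∧
    (∀ d ∈ R.D, d * d = 1 → d = 1 ∨ d = R.n0) ∧
    (∀ d ∈ R.D, R.t * d = d * R.t) ∧ R.t ∉ R.D := by
  obtain ⟨hcyc, hcard, -⟩ := so2_props R.hK
  refine ⟨?_, ?_, ?_, ?_, ?_, ?_, ?_⟩
  · haveI := hcyc
    exact isCyclic_of_surjective (R.psi.subgroupMap (so2 K)) (R.psi.subgroupMap_surjective (so2 K))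
  · rw [← R.reeg4e_card, hcard]
  · rw [R.reeg4e_mem_D]
    exact ⟨h8slW, reepb_W_mem, R.psi_W⟩
  · exact Subgroup.map_le_range _ _
  · intro d hd hdd
    rw [R.reeg4e_mem_D] at hd
    obtain ⟨g, hg, rfl⟩ := hd
    have h1 : R.psi (g * g) = 1 := by rw [map_mul]; exact hdd
    rcases R.psi_ker _ h1 with h | h
    · left
      rcases reeg4e_sq (reepe_two R.hK) g hg h with h' | h'
      · rw [h', map_one]
      · rw [h']; exact R.psi_neg
    · right
      rcases reepb_order_four R.hK g hg h with h' | h'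
      · rw [h']; exact R.psi_W
      · rw [h']; exact R.reeg4e_psi_negW
  · intro d hd
    rw [R.reeg4e_mem_D] at hd
    obtain ⟨g, -, rfl⟩ := hd
    exact R.psi_comm g
  · intro ht
    rw [R.reeg4e_mem_D] at ht
    obtain ⟨g, -, hg⟩ := ht
    exact R.psi_ne_t g hg

end ReeAx

end Cfsg.Agent.Lib.helper7.REE
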