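import Mathlib
import Cfsg.Agent.Lib.helper7.REE.Defs

/-!
# Project REE (designer helper7), row G2D `B_orders`: core on the statements of G1A (`B_basic`), G1B (`H_invol`), G1I (`CU_t`),
G2C (`B_elements`).
-/

set_option autoImplicit false

namespace Cfsg.Agent.Lib.helper7.REE

open Matrix Cfsg.Agent.Lib.helper8

universe u v

namespace ReeAx

variable {G : Type u} [Group G] [Finite G] {K : Type v} [Field K] [Fintype K] {m : ℕ}

/-- `3 ∤ q - 1` and `3 ≤ q` -/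
theorem reeg2d_q (m : ℕ) : ¬ 3 ∣ qq m - 1 ∧ 3 ≤ qq m := by
  unfold qq
  have h1 : 3 ∣ 3 ^ (2 * m + 1) := dvd_pow_self 3 (by omega)
  have h2 : 3 ≤ 3 ^ (2 * m + 1) := by
    calc 3 = 3 ^ 1 := by norm_num
      _ ≤ 3 ^ (2 * m + 1) := Nat.pow_le_pow_right (by norm_num) (by omega)
  generalize 3 ^ (2 * m + 1) = N at h1 h2
  constructor
  · intro h3
    omega
  · exact h2

/-- the order of `t * c` for `c` of order dividing 3 commuting with the involution `t` -/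
theorem reeg2d_tc (t c : G) (ht : orderOf t = 2) (hc3 : c ^ 3 = 1) (hcomm : t * c = c * t) :
    (c = 1 → orderOf (t * c) = 2) ∧ (c ≠ 1 → orderOf (t * c) = 6) := by
  constructor
  · rintro rfl
    rw [mul_one]
    exact ht
  · intro hc1
    have hoc : orderOf c = 3 := by
      apply orderOf_eq_prime hc3 hc1
    have hcop : Nat.Coprime (orderOf t) (orderOf c) := by
      rw [ht, hoc]
      norm_num
    have hcm : Commute t c := hcomm
    rw [hcm.orderOf_mul_eq_mul_orderOf_of_coprime hcop, ht, hoc]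

theorem reeg2d_core (R : ReeAx G K m)
    (hG1A : R.U ≤ R.B ∧ R.H ≤ R.B ∧ R.U ⊓ R.H = ⊥ ∧ Nat.card R.B = qq m ^ 3 * (qq m - 1) ∧
      Nat.card G = (qq m ^ 3 + 1) * Nat.card R.B ∧
      (∀ b ∈ R.B, ∀ u ∈ R.U, b * u * b⁻¹ ∈ R.U) ∧
      (∀ h₁ ∈ R.H, ∀ h₂ ∈ R.H, h₁ * h₂ = h₂ * h₁) ∧
      (∀ u ∈ R.U, ∀ h ∈ R.H, ∀ u' ∈ R.U, ∀ h' ∈ R.H, u * h = u' * h' → u = u' ∧ h = h') ∧
      (∀ u ∈ R.U, Odd (orderOf u) ∧ orderOf u ∣ 9) ∧
      R.n0⁻¹ = R.n0 ∧ R.t⁻¹ = R.t ∧ orderOf R.t = 2 ∧ orderOf R.n0 = 2)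
    (hG1B : (∀ h ∈ R.H, h * h = 1 → h = 1 ∨ h = R.t) ∧ (∀ h ∈ R.H, Odd (orderOf (h * h))) ∧
      (∀ h ∈ R.H, h ^ (qq m - 1) = 1) ∧ (∀ h ∈ R.H, (h * h) ^ ((qq m - 1) / 2) = 1))
    (hG1I : (∀ x ∈ R.U, R.t * x = x * R.t → ∃ s : K, x = R.psi (h8slU s)) ∧
      (∀ s s' : K, R.psi (h8slU s) = R.psi (h8slU s') → s = s') ∧
      (∀ s : K, R.psi (h8slU s) ^ 3 = 1) ∧
      (∀ s s' : K, R.psi (h8slU s) * R.psi (h8slU s') = R.psi (h8slU (s + s'))) ∧
      Nat.card ({x : G | x ∈ R.U ∧ R.t * x = x * R.t} : Set G) = qq m)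
    (hG2C : ∀ b : G, b ∈ R.B → b ∈ R.U ∨ (∃ v ∈ R.U, ∃ h ∈ R.H, h ≠ 1 ∧ h ≠ R.t ∧ b = v * h * v⁻¹) ∨
      (∃ v ∈ R.U, ∃ c ∈ R.U, R.t * c = c * R.t ∧ b = v * (R.t * c) * v⁻¹))
    (b : G) (hb : b ∈ R.B) :
    (orderOf b ∣ 9 ∨ orderOf b ∣ qq m - 1 ∨ orderOf b ∣ 6) ∧
    (3 ∣ orderOf b → b ∈ R.U ∨ orderOf b = 6) ∧
    (orderOf b = 3 ∨ orderOf b = 9 → b ∈ R.U) ∧
    (orderOf b = 2 → ∃ v ∈ R.U, b = v * R.t * v⁻¹) ∧
    (orderOf b = 6 → ∃ v ∈ R.U, ∃ c ∈ R.U, c ≠ 1 ∧ R.t * c = c * R.t ∧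
      b = v * (R.t * c) * v⁻¹) ∧
    (2 < orderOf b → orderOf b ∣ qq m - 1 → ∃ v ∈ R.U, ∃ h ∈ R.H, b = v * h * v⁻¹) := by
  obtain ⟨hq3, hq⟩ := reeg2d_q m
  obtain ⟨-, -, -, -, -, -, -, -, hUord, -, -, hot, -⟩ := hG1A
  obtain ⟨hinv, -, hHpow, -⟩ := hG1B
  obtain ⟨hCU, -, hpsi3, -, -⟩ := hG1I
  have hconj : ∀ v x : G, orderOf (v * x * v⁻¹) = orderOf x := by
    intro v x
    have := orderOf_injective (MulAut.conj v).toMonoidHom (MulAut.conj v).injective x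
    simpa [MulAut.conj_apply] using this
  rcases hG2C b hb with hbU | ⟨v, hv, h, hh, h1, ht, rfl⟩ | ⟨v, hv, c, hc, hcomm, rfl⟩
  · -- `b ∈ U`
    obtain ⟨hodd, h9⟩ := hUord b hbU
    refine ⟨Or.inl h9, fun _ => Or.inl hbU, fun _ => hbU, ?_, ?_, ?_⟩
    · intro h2
      rw [h2] at h9
      omega
    · intro h6
      rw [h6] at h9
      omega
    · intro h2 hdvd
      exfalso
      have h3 : 3 ∣ orderOf b := by
        have hmem : orderOf b ∈ Nat.divisors 9 := Nat.mem_divisors.mpr ⟨h9, by norm_num⟩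
        have hd : Nat.divisors 9 = {1, 3, 9} := by decide
        rw [hd] at hmem
        simp only [Finset.mem_insert, Finset.mem_singleton] at hmem
        rcases hmem with h | h | h
        · omega
        · rw [h]
        · rw [h]; norm_num
      exact hq3 (dvd_trans h3 hdvd)
  · -- `b = v h v⁻¹`
    rw [hconj]
    have hdvd : orderOf h ∣ qq m - 1 := orderOf_dvd_of_pow_eq_one (hHpow h hh)
    have hn3 : ¬ 3 ∣ orderOf h := fun h3 => hq3 (dvd_trans h3 hdvd)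
    refine ⟨Or.inr (Or.inl hdvd), fun h3 => absurd h3 hn3, ?_, ?_, ?_, fun _ _ => ⟨v, hv, h, hh, rfl⟩⟩
    · rintro (h3 | h9)
      · exact absurd (by rw [h3]) hn3
      · exact absurd (by rw [h9]; norm_num) hn3
    · intro h2
      exfalso
      have hsq : h * h = 1 := by
        rw [← pow_two, ← h2]
        exact pow_orderOf_eq_one h
      rcases hinv h hh hsq with h0 | h0
      · exact h1 h0
      · exact ht h0
    · intro h6
      exact absurd (by rw [h6]; norm_num) hn3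
  · -- `b = v (t c) v⁻¹`
    rw [hconj]
    obtain ⟨s, rfl⟩ := hCU c hc hcomm
    obtain ⟨ho1, ho6⟩ := reeg2d_tc R.t _ hot (hpsi3 s) hcomm
    by_cases hc1 : R.psi (h8slU s) = 1
    · have ho := ho1 hc1
      rw [ho]
      refine ⟨Or.inr (Or.inr (by norm_num)), fun h3 => by omega, fun h => by omega, ?_, fun h => by omega,
        fun h => by omega⟩
      intro _
      refine ⟨v, hv, ?_⟩
      rw [hc1, mul_one]
    · have ho := ho6 hc1
      rw [ho]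
      refine ⟨Or.inr (Or.inr dvd_rfl), fun _ => Or.inr rfl, fun h => by omega, fun h => by omega, ?_, ?_⟩
      · intro _
        exact ⟨v, hv, _, hc, hc1, hcomm, rfl⟩
      · intro _ hdvd
        exfalso
        exact hq3 (dvd_trans (by norm_num : 3 ∣ 6) hdvd)

end ReeAx

end Cfsg.Agent.Lib.helper7.REE
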