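import Mathlib
import Cfsg.Agent.Lib.helper7.REE.Defs

/-!
# Project REE (designer helper7), row G1C `cent_U_H`: core on the statement of G1B (`H_invol`), and a self-contained proof of the
two clauses of G1B that it needs (so the verbatim row does not wait for G1B).
-/

set_option autoImplicit false

namespace Cfsg.Agent.Lib.helper7.REE

open Matrix Cfsg.Agent.Lib.helper8

universe u v

namespace ReeAx

variable {G : Type u} [Group G] [Finite G] {K : Type v} [Field K] [Fintype K] {m : ℕ}

/-- core of G1C on the first two clauses of G1B -/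
theorem reeg1c_core (R : ReeAx G K m)
    (hB : (∀ h ∈ R.H, h * h = 1 → h = 1 ∨ h = R.t) ∧ (∀ h ∈ R.H, Odd (orderOf (h * h))))
    (h : G) (hh : h ∈ R.H) (h1 : h ≠ 1) (ht : h ≠ R.t)
    (u : G) (hu : u ∈ R.U) (hc : h * u = u * h) : u = 1 := by
  have hhh : h * h ∈ R.H := R.H.mul_mem hh hh
  have hne : h * h ≠ 1 := by
    intro h0
    rcases hB.1 h hh h0 with h2 | h2
    · exact h1 h2
    · exact ht h2
  have hbot := R.odd_free (h * h) hhh hne (hB.2 h hh)
  have hmem : u ∈ R.U ⊓ Subgroup.centralizer {h * h} := by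
    refine Subgroup.mem_inf.mpr ⟨hu, ?_⟩
    rw [Subgroup.mem_centralizer_iff]
    intro x hx
    rw [Set.mem_singleton_iff] at hx
    subst hx
    calc h * h * u = h * (h * u) := by group
      _ = h * (u * h) := by rw [hc]
      _ = (h * u) * h := by group
      _ = u * h * h := by rw [hc]
      _ = u * (h * h) := by group
  rw [hbot] at hmem
  exact (Subgroup.mem_bot).mp hmem

/-- `q - 1 = 2 * odd` -/
theorem reeg1c_q (m : ℕ) : ∃ k : ℕ, qq m - 1 = 2 * (2 * k + 1) := by
  unfold qq
  have h : ∀ n : ℕ, 3 ^ (2 * n + 1) % 4 = 3 := by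
    intro n
    induction n with
    | zero => norm_num
    | succ n ih =>
      have : 3 ^ (2 * (n + 1) + 1) = 9 * 3 ^ (2 * n + 1) := by ring
      omega
  have h3 := h m
  generalize 3 ^ (2 * m + 1) = N at h3
  exact ⟨(N - 3) / 4, by omega⟩

/-- the two clauses of G1B used by G1C -/
theorem reeg1c_invol (R : ReeAx G K m) :
    (∀ h ∈ R.H, h * h = 1 → h = 1 ∨ h = R.t) ∧ (∀ h ∈ R.H, Odd (orderOf (h * h))) := by
  classical
  haveI := R.H_cyc
  haveI : Fintype R.H := Fintype.ofFinite _
  obtain ⟨k, hk⟩ := reeg1c_q m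
  have hcard : Nat.card R.H = 2 * (2 * k + 1) := by rw [R.H_card, hk]
  constructor
  · intro h hh h2
    by_contra hcon
    push_neg at hcon
    obtain ⟨hne1, hnet⟩ := hcon
    have hle := IsCyclic.card_pow_eq_one_le (α := R.H) (n := 2) (by norm_num)
    have h3 : ({1, ⟨R.t, R.t_mem⟩, ⟨h, hh⟩} : Finset R.H) ⊆
        Finset.univ.filter (fun a : R.H => a ^ 2 = 1) := by
      intro x hx
      simp only [Finset.mem_insert, Finset.mem_singleton] at hx
      simp only [Finset.mem_filter, Finset.mem_univ, true_and]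
      rcases hx with rfl | rfl | rfl
      · simp
      · apply Subtype.ext
        simp [pow_two, R.t_sq]
      · apply Subtype.ext
        simp [pow_two, h2]
    have h4 : ({1, ⟨R.t, R.t_mem⟩, ⟨h, hh⟩} : Finset R.H).card = 3 := by
      rw [Finset.card_insert_of_notMem, Finset.card_insert_of_notMem, Finset.card_singleton]
      · simp only [Finset.mem_singleton]
        intro h0
        exact hnet (congrArg Subtype.val h0).symm
      · simp only [Finset.mem_insert, Finset.mem_singleton]
        rintro (h0 | h0)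
        · exact R.t_ne (congrArg Subtype.val h0).symm
        · exact hne1 (congrArg Subtype.val h0).symm
    have h5 := Finset.card_le_card h3
    omega
  · intro h hh
    have h1 : (⟨h, hh⟩ : R.H) ^ Nat.card R.H = 1 := pow_card_eq_one'
    have h2 : h ^ (2 * (2 * k + 1)) = 1 := by
      rw [hcard] at h1
      have := congrArg Subtype.val h1
      simpa using this
    have h3 : (h * h) ^ (2 * k + 1) = 1 := by
      rw [← pow_two, ← pow_mul]
      exact h2
    have h4 : orderOf (h * h) ∣ 2 * k + 1 := orderOf_dvd_of_pow_eq_one h3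
    exact Odd.of_dvd_nat ⟨k, rfl⟩ h4

/-- G1C. `C_U(h) = 1` for `h ∈ H ∖ {1, t}` (from `odd_free` applied to `h * h`). -/
theorem cent_U_H (R : ReeAx G K m) (h : G) (hh : h ∈ R.H) (h1 : h ≠ 1) (ht : h ≠ R.t)
    (u : G) (hu : u ∈ R.U) (hc : h * u = u * h) : u = 1 :=
  reeg1c_core R (reeg1c_invol R) h hh h1 ht u hu hc

end ReeAx

end Cfsg.Agent.Lib.helper7.REE
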