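import Mathlib
import Cfsg.Agent.Lib.helper7.REE.Defs
import Cfsg.Agent.Lib.helper4.REEG1A
import Cfsg.Agent.Lib.helper4.REEG1B
import Cfsg.Agent.Lib.Helper27.REEG1I
import Cfsg.Agent.Lib.helper17.REEG2A
import Cfsg.Agent.Lib.Helper16.REEG2Dcore

/-!
# Project REE (designer helper7), row G2D `B_orders` (helper16): verbatim wrapper of `reeg2d_core`
on the landed rows G1A `B_basic`, G1B `H_invol` (helper4), G1I `CU_t` (helper27),
G2C `B_elements` (helper17).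
-/

set_option autoImplicit false

namespace Cfsg.Agent.Lib.helper7.REE

open Matrix Cfsg.Agent.Lib.helper8

universe u v

namespace ReeAx

variable {G : Type u} [Group G] [Finite G] {K : Type v} [Field K] [Fintype K] {m : ℕ}

/-- G2D. Element orders in `B`, and the 3-singular elements of `B`. -/
theorem B_orders (R : ReeAx G K m) (b : G) (hb : b ∈ R.B) :
    (orderOf b ∣ 9 ∨ orderOf b ∣ qq m - 1 ∨ orderOf b ∣ 6) ∧
    (3 ∣ orderOf b → b ∈ R.U ∨ orderOf b = 6) ∧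
    (orderOf b = 3 ∨ orderOf b = 9 → b ∈ R.U) ∧
    (orderOf b = 2 → ∃ v ∈ R.U, b = v * R.t * v⁻¹) ∧
    (orderOf b = 6 → ∃ v ∈ R.U, ∃ c ∈ R.U, c ≠ 1 ∧ R.t * c = c * R.t ∧
      b = v * (R.t * c) * v⁻¹) ∧
    (2 < orderOf b → orderOf b ∣ qq m - 1 → ∃ v ∈ R.U, ∃ h ∈ R.H, b = v * h * v⁻¹) :=
  reeg2d_core R (B_basic R) (H_invol R) (CU_t R) (fun b hb => B_elements R b hb) b hb

end ReeAx

end Cfsg.Agent.Lib.helper7.REE
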