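import Mathlib
import Cfsg.Agent.Lib.helper7.REE.Defs
import Cfsg.Agent.Lib.Helper28.REEPB
import Cfsg.Agent.Lib.Helper27.REEPE
import Cfsg.Agent.Lib.Helper16.REEG4E

/-!
# Project REE (designer helper7), row G4F `D_cent` (helper16): `C_L(d) = D` for `d ∈ D ∖ {1, n0}`.
Cites the landed rows PB (`so2_props`, helper28), PE (helper27) and G4E (extras).
-/

set_option autoImplicit false

namespace Cfsg.Agent.Lib.helper7.REE

open Matrix Cfsg.Agent.Lib.helper8

universe u v

section SL2

variable {K : Type v} [Field K]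

/-- an element `g` of `SO₂` anticommuting with some `x ∈ SL₂` is `± W` -/
theorem reeg4f_anti (h2 : (2 : K) ≠ 0) (g x : SpecialLinearGroup (Fin 2) K)
    (hg : g ∈ so2 K) (h : x * g = -(g * x)) : g = h8slW ∨ g = -h8slW := by
  obtain ⟨h11, h01⟩ := hg
  obtain ⟨w00, w01, w10, w11⟩ := reepb_W_apply (K := K)
  have hdetg := h8sl_det g
  have hdetx := h8sl_det x
  rw [← h11, h01] at hdetg
  have e00 := congrArg (fun z : SpecialLinearGroup (Fin 2) K => z 0 0) h
  have e01 := congrArg (fun z : SpecialLinearGroup (Fin 2) K => z 0 1) h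
  have e10 := congrArg (fun z : SpecialLinearGroup (Fin 2) K => z 1 0) h
  have e11 := congrArg (fun z : SpecialLinearGroup (Fin 2) K => z 1 1) h
  simp only [reepb_mul_apply, reepb_neg_apply, ← h11, h01] at e00 e01 e10 e11
  have h4 : (2 : K) * 2 * g 0 0 = 0 := by
    linear_combination (-(2 * 2 * g 0 0)) * hdetx + x 1 1 * e00 - x 1 0 * e01 + x 0 0 * e11 - x 0 1 * e10
  have ha0 : g 0 0 = 0 := by
    rcases mul_eq_zero.mp h4 with h | h
    · exact absurd (mul_self_eq_zero.mp h) h2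
    · exact h
  have hb1 : g 1 0 * g 1 0 = 1 := by rw [ha0] at hdetg; linear_combination hdetg
  rcases mul_self_eq_one_iff.mp hb1 with hb | hb
  · right
    apply h8sl_ext
    · rw [ha0, reepb_neg_apply, w00, neg_zero]
    · rw [h01, hb, reepb_neg_apply, w01]
    · rw [hb, reepb_neg_apply, w10, neg_neg]
    · rw [← h11, ha0, reepb_neg_apply, w11, neg_zero]
  · left
    apply h8sl_ext
    · rw [ha0, w00]
    · rw [h01, hb, w01, neg_neg]
    · rw [hb, w10]
    · rw [← h11, ha0, w11]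

end SL2

namespace ReeAx

variable {G : Type u} [Group G] [Finite G] {K : Type v} [Field K] [Fintype K] {m : ℕ}

/-- G4F. `C_L(d) = D` for `d ∈ D ∖ {1, n0}`
(`ψ x` commutes with `ψ g` iff `x g x⁻¹ = ± g`; the sign `-` forces trace `0`, `g = ± W`). -/
theorem D_cent (R : ReeAx G K m) (d : G) (hd : d ∈ R.D) (h1 : d ≠ 1) (hn : d ≠ R.n0)
    (l : G) (hl : l ∈ R.L) (hc : l * d = d * l) : l ∈ R.D := by
  rw [R.reeg4e_mem_D] at hd
  obtain ⟨g, hg, rfl⟩ := hd
  obtain ⟨x, rfl⟩ := hl
  rw [R.reeg4e_psi_mem_D]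
  have hc' : R.psi (x * g) = R.psi (g * x) := by rw [map_mul, map_mul]; exact hc
  rcases (R.reeg4e_psi_eq _ _).mp hc' with h | h
  · have hg1 : g ≠ 1 := by
      rintro rfl
      exact h1 (map_one _)
    have hg2 : g ≠ -1 := by
      rintro rfl
      exact h1 R.psi_neg
    exact (so2_props R.hK).2.2.1 g hg hg1 hg2 x h
  · exfalso
    rcases reeg4f_anti (reepe_two R.hK) g x hg h with h' | h'
    · exact hn (by rw [h']; exact R.psi_W)
    · exact hn (by rw [h']; exact R.reeg4e_psi_negW)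

end ReeAx

end Cfsg.Agent.Lib.helper7.REE
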