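import Mathlib
import Cfsg.Agent.Lib.helper7.REE.Defs
import Cfsg.Agent.Lib.Helper28.REEPB
import Cfsg.Agent.Lib.Helper27.REEPE
import Cfsg.Agent.Lib.helper2.REEPD
import Cfsg.Agent.Lib.Helper16.REEG4E

/-!
# Project REE (designer helper7), row G4G `D_w` (helper16): `C_L(n0) = D ∪ D w` is dihedral.
Cites the landed rows PB (`so2_props`, helper28), PD (`so2_anti`, helper2) and G4E (extras).
-/

set_option autoImplicit false

namespace Cfsg.Agent.Lib.helper7.REE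

open Matrix Cfsg.Agent.Lib.helper8

universe u v

namespace ReeAx

variable {G : Type u} [Group G] [Finite G] {K : Type v} [Field K] [Fintype K] {m : ℕ}

/-- G4G. `C_L(n0) = D ∪ D w` is dihedral: `w ∈ L` an involution inverting `D`. -/
theorem D_w (R : ReeAx G K m) :
    ∃ w ∈ R.L, w ∉ R.D ∧ w * w = 1 ∧ (∀ d ∈ R.D, w * d * w⁻¹ = d⁻¹) ∧
      ∀ l ∈ R.L, l * R.n0 = R.n0 * l → l ∈ R.D ∨ ∃ d ∈ R.D, l = d * w := by
  obtain ⟨-, -, -, -, hnorm, x, hx, hxx, hxinv⟩ := so2_props R.hK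
  have hWmem : (h8slW : SpecialLinearGroup (Fin 2) K) ∈ so2 K := reepb_W_mem
  refine ⟨R.psi x, ⟨x, rfl⟩, ?_, ?_, ?_, ?_⟩
  · rw [R.reeg4e_psi_mem_D]
    exact hx
  · rw [← map_mul, hxx]
    exact R.psi_neg
  · intro d hd
    rw [R.reeg4e_mem_D] at hd
    obtain ⟨g, hg, rfl⟩ := hd
    rw [← map_inv, ← map_inv, ← map_mul, ← map_mul, hxinv g hg]
  · rintro l ⟨y, rfl⟩ hc
    rw [← R.psi_W, ← map_mul, ← map_mul] at hc
    by_cases hy : y ∈ so2 K
    · left
      exact (R.reeg4e_psi_mem_D y).mpr hy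
    · right
      have hyn : ∀ d ∈ so2 K, y * d * y⁻¹ ∈ so2 K := so2_anti R.hK y ((R.reeg4e_psi_eq _ _).mp hc)
      obtain ⟨-, hyinv⟩ := hnorm y hyn hy
      have hyx : y * x⁻¹ ∈ so2 K := by
        rw [reepb_mem_cent]
        have e1 : x * h8slW⁻¹ * x⁻¹ = h8slW := by
          have := hxinv _ (inv_mem hWmem)
          rwa [inv_inv] at this
        have e2 : y * h8slW⁻¹ * y⁻¹ = h8slW := by
          have := hyinv _ (inv_mem hWmem)
          rwa [inv_inv] at this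
        have e3 : x⁻¹ * h8slW = h8slW⁻¹ * x⁻¹ := by
          calc x⁻¹ * h8slW = x⁻¹ * (x * h8slW⁻¹ * x⁻¹) := by rw [e1]
            _ = h8slW⁻¹ * x⁻¹ := by group
        have e4 : y * h8slW⁻¹ = h8slW * y := by
          calc y * h8slW⁻¹ = (y * h8slW⁻¹ * y⁻¹) * y := by group
            _ = h8slW * y := by rw [e2]
        calc y * x⁻¹ * h8slW = y * (x⁻¹ * h8slW) := by group
          _ = y * (h8slW⁻¹ * x⁻¹) := by rw [e3]
          _ = (y * h8slW⁻¹) * x⁻¹ := by group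
          _ = (h8slW * y) * x⁻¹ := by rw [e4]
          _ = h8slW * (y * x⁻¹) := by group
      refine ⟨R.psi (y * x⁻¹), (R.reeg4e_psi_mem_D _).mpr hyx, ?_⟩
      rw [← map_mul]
      congr 1
      group

end ReeAx

end Cfsg.Agent.Lib.helper7.REE
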