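import Mathlib
import Cfsg.Agent.Lib.helper7.REE.Defs
import Cfsg.Agent.Lib.Helper20.REEGENA
import Cfsg.Agent.Lib.Helper16.REEG2Dcore

/-!
# Project REE (designer helper7), row G2F `B_count_6`: core on the statements of G1A (`B_basic`), G1I (`CU_t`), G2D (`B_orders`),
with the landed GENA' (`ti_count_rel`).
-/

set_option autoImplicit false

namespace Cfsg.Agent.Lib.helper7.REE

open Matrix Cfsg.Agent.Lib.helper8

universe u v

namespace ReeAx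

variable {G : Type u} [Group G] [Finite G] {K : Type v} [Field K] [Fintype K] {m : ℕ}

theorem reeg2f_core (R : ReeAx G K m)
    (hG1A : R.U ≤ R.B ∧ R.H ≤ R.B ∧ R.U ⊓ R.H = ⊥ ∧ Nat.card R.B = qq m ^ 3 * (qq m - 1) ∧
      Nat.card G = (qq m ^ 3 + 1) * Nat.card R.B ∧
      (∀ b ∈ R.B, ∀ u ∈ R.U, b * u * b⁻¹ ∈ R.U) ∧
      (∀ h₁ ∈ R.H, ∀ h₂ ∈ R.H, h₁ * h₂ = h₂ * h₁) ∧
      (∀ u ∈ R.U, ∀ h ∈ R.H, ∀ u' ∈ R.U, ∀ h' ∈ R.H, u * h = u' * h' → u = u' ∧ h = h') ∧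
      (∀ u ∈ R.U, Odd (orderOf u) ∧ orderOf u ∣ 9) ∧
      R.n0⁻¹ = R.n0 ∧ R.t⁻¹ = R.t ∧ orderOf R.t = 2 ∧ orderOf R.n0 = 2)
    (hG1I : (∀ x ∈ R.U, R.t * x = x * R.t → ∃ s : K, x = R.psi (h8slU s)) ∧
      (∀ s s' : K, R.psi (h8slU s) = R.psi (h8slU s') → s = s') ∧
      (∀ s : K, R.psi (h8slU s) ^ 3 = 1) ∧
      (∀ s s' : K, R.psi (h8slU s) * R.psi (h8slU s') = R.psi (h8slU (s + s'))) ∧
      Nat.card ({x : G | x ∈ R.U ∧ R.t * x = x * R.t} : Set G) = qq m)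
    (hG2D : ∀ b : G, b ∈ R.B →
      (orderOf b ∣ 9 ∨ orderOf b ∣ qq m - 1 ∨ orderOf b ∣ 6) ∧
      (3 ∣ orderOf b → b ∈ R.U ∨ orderOf b = 6) ∧
      (orderOf b = 3 ∨ orderOf b = 9 → b ∈ R.U) ∧
      (orderOf b = 2 → ∃ v ∈ R.U, b = v * R.t * v⁻¹) ∧
      (orderOf b = 6 → ∃ v ∈ R.U, ∃ c ∈ R.U, c ≠ 1 ∧ R.t * c = c * R.t ∧
        b = v * (R.t * c) * v⁻¹) ∧
      (2 < orderOf b → orderOf b ∣ qq m - 1 → ∃ v ∈ R.U, ∃ h ∈ R.H, b = v * h * v⁻¹)) :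
    Nat.card ({b : G | b ∈ R.B ∧ orderOf b = 6} : Set G) = qq m ^ 2 * (qq m - 1) := by
  classical
  obtain ⟨hq3, hq⟩ := reeg2d_q m
  obtain ⟨hUB, hHB, -, hBcard, -, hBU, hHab, huniq, -, -, htinv, hot, -⟩ := hG1A
  obtain ⟨hCU, -, hpsi3, -, hCUcard⟩ := hG1I
  have htB : R.t ∈ R.B := hHB R.t_mem
  -- the set `C_U(t)`
  set CU : Set G := {x : G | x ∈ R.U ∧ R.t * x = x * R.t} with hCUdef
  have hc3 : ∀ c ∈ CU, c ^ 3 = 1 := by
    intro c hc
    obtain ⟨s, rfl⟩ := hCU c hc.1 hc.2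
    exact hpsi3 s
  -- `(t c)^3 = t`
  have hcube : ∀ c ∈ CU, (R.t * c) ^ 3 = R.t := by
    intro c hc
    have hcm : Commute R.t c := hc.2
    rw [hcm.mul_pow, hc3 c hc, mul_one, pow_succ, pow_two, R.t_sq, one_mul]
  -- the subgroup `N = C_B(t)`
  set N : Subgroup G := R.B ⊓ Subgroup.centralizer {R.t} with hNdef
  have hNmem : ∀ n : G, n ∈ N ↔ n ∈ R.B ∧ R.t * n = n * R.t := by
    intro n
    rw [hNdef, Subgroup.mem_inf, Subgroup.mem_centralizer_iff]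
    constructor
    · rintro ⟨h1, h2⟩
      exact ⟨h1, h2 R.t rfl⟩
    · rintro ⟨h1, h2⟩
      refine ⟨h1, ?_⟩
      intro x hx
      rw [Set.mem_singleton_iff] at hx
      subst hx
      exact h2
  -- `|N| = q (q - 1)`
  have hNcard : Nat.card N = qq m * (qq m - 1) := by
    have hf : ∀ p : ↥CU × ↥R.H, (p.1 : G) * (p.2 : G) ∈ N := by
      rintro ⟨⟨u, hu⟩, ⟨h, hh⟩⟩
      rw [hNmem]
      refine ⟨(R.B_iff _).mpr ⟨u, hu.1, h, hh, rfl⟩, ?_⟩
      show R.t * (u * h) = u * h * R.t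
      calc R.t * (u * h) = (R.t * u) * h := by group
        _ = (u * R.t) * h := by rw [hu.2]
        _ = u * (R.t * h) := by group
        _ = u * (h * R.t) := by rw [hHab R.t R.t_mem h hh]
        _ = u * h * R.t := by group
    have hbij : Function.Bijective (fun p : ↥CU × ↥R.H => (⟨(p.1 : G) * (p.2 : G), hf p⟩ : ↥N)) := by
      constructor
      · rintro ⟨⟨u, hu⟩, ⟨h, hh⟩⟩ ⟨⟨u', hu'⟩, ⟨h', hh'⟩⟩ he
        have he' : u * h = u' * h' := congrArg Subtype.val he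
        obtain ⟨e1, e2⟩ := huniq u hu.1 h hh u' hu'.1 h' hh' he'
        subst e1
        subst e2
        rfl
      · rintro ⟨n, hn⟩
        obtain ⟨hnB, hnt⟩ := (hNmem n).mp hn
        obtain ⟨u, hu, h, hh, rfl⟩ := (R.B_iff n).mp hnB
        have hut : R.t * u = u * R.t := by
          have h1 : R.t * u * h = u * R.t * h := by
            calc R.t * u * h = R.t * (u * h) := by group
              _ = u * h * R.t := hnt
              _ = u * (h * R.t) := by group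
              _ = u * (R.t * h) := by rw [hHab R.t R.t_mem h hh]
              _ = u * R.t * h := by group
          exact mul_right_cancel h1
        exact ⟨(⟨u, hu, hut⟩, ⟨h, hh⟩), rfl⟩
    rw [← Nat.card_congr (Equiv.ofBijective _ hbij), Nat.card_prod, hCUcard, R.H_card]
  -- the set `Δ`
  set Δ : Set G := (fun c => R.t * c) '' (CU \ {1}) with hΔdef
  have hΔcard : Nat.card Δ = qq m - 1 := by
    rw [Nat.card_coe_set_eq, hΔdef, Set.ncard_image_of_injective _ (mul_right_injective R.t)]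
    have h1 : (1 : G) ∈ CU := ⟨R.U.one_mem, by rw [mul_one, one_mul]⟩
    rw [Set.ncard_diff_singleton_of_mem h1, ← Nat.card_coe_set_eq, hCUcard]
  have hNB : N ≤ R.B := inf_le_left
  have hN : ∀ n ∈ N, ∀ d ∈ Δ, n * d * n⁻¹ ∈ Δ := by
    rintro n hn d ⟨c, ⟨hc, hc1⟩, rfl⟩
    obtain ⟨hnB, hnt⟩ := (hNmem n).mp hn
    have hnt' : R.t * n⁻¹ = n⁻¹ * R.t := by
      calc R.t * n⁻¹ = n⁻¹ * (n * R.t) * n⁻¹ := by group
        _ = n⁻¹ * (R.t * n) * n⁻¹ := by rw [hnt]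
        _ = n⁻¹ * R.t := by group
    refine ⟨n * c * n⁻¹, ⟨⟨hBU n hnB c hc.1, ?_⟩, ?_⟩, ?_⟩
    · calc R.t * (n * c * n⁻¹) = (R.t * n) * c * n⁻¹ := by group
        _ = (n * R.t) * c * n⁻¹ := by rw [hnt]
        _ = n * (R.t * c) * n⁻¹ := by group
        _ = n * (c * R.t) * n⁻¹ := by rw [hc.2]
        _ = n * c * (R.t * n⁻¹) := by group
        _ = n * c * (n⁻¹ * R.t) := by rw [hnt']
        _ = n * c * n⁻¹ * R.t := by group
    · intro h0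
      apply hc1
      rw [Set.mem_singleton_iff] at h0 ⊢
      have : c = n⁻¹ * (n * c * n⁻¹) * n := by group
      rw [this, h0]
      group
    · show R.t * (n * c * n⁻¹) = n * (R.t * c) * n⁻¹
      calc R.t * (n * c * n⁻¹) = (R.t * n) * c * n⁻¹ := by group
        _ = (n * R.t) * c * n⁻¹ := by rw [hnt]
        _ = n * (R.t * c) * n⁻¹ := by group
  have hTI : ∀ g ∈ R.B, ∀ d ∈ Δ, g * d * g⁻¹ ∈ Δ → g ∈ N := by
    rintro g hg d ⟨c, ⟨hc, -⟩, rfl⟩ ⟨c', ⟨hc', -⟩, he⟩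
    rw [hNmem]
    refine ⟨hg, ?_⟩
    have he' : R.t * c' = g * (R.t * c) * g⁻¹ := he
    have h1 : g * R.t * g⁻¹ = R.t := by
      calc g * R.t * g⁻¹ = g * (R.t * c) ^ 3 * g⁻¹ := by rw [hcube c hc]
        _ = (g * (R.t * c) * g⁻¹) ^ 3 := (conj_pow).symm
        _ = (R.t * c') ^ 3 := by rw [← he']
        _ = R.t := hcube c' hc'
    calc R.t * g = (g * R.t * g⁻¹) * g := by rw [h1]
      _ = g * R.t := by group
  have hcount := ti_count_rel R.B N hNB Δ hN hTI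
  have hset : ({b : G | b ∈ R.B ∧ orderOf b = 6} : Set G) =
      {x : G | ∃ g ∈ R.B, ∃ d ∈ Δ, x = g * d * g⁻¹} := by
    ext x
    constructor
    · rintro ⟨hxB, hx6⟩
      obtain ⟨v, hv, c, hc, hc1, hct, rfl⟩ := (hG2D x hxB).2.2.2.2.1 hx6
      exact ⟨v, hUB hv, R.t * c, ⟨c, ⟨⟨hc, hct⟩, hc1⟩, rfl⟩, rfl⟩
    · rintro ⟨g, hg, d, ⟨c, ⟨hc, hc1⟩, rfl⟩, rfl⟩
      refine ⟨R.B.mul_mem (R.B.mul_mem hg (R.B.mul_mem htB (hUB hc.1))) (R.B.inv_mem hg), ?_⟩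
      have hconj : orderOf (g * (R.t * c) * g⁻¹) = orderOf (R.t * c) := by
        have := orderOf_injective (MulAut.conj g).toMonoidHom (MulAut.conj g).injective (R.t * c)
        simpa [MulAut.conj_apply] using this
      rw [hconj]
      exact (reeg2d_tc R.t c hot (hc3 c hc) hc.2).2 hc1
  rw [hset]
  change Nat.card {x : G // ∃ g ∈ R.B, ∃ d ∈ Δ, x = g * d * g⁻¹} = _
  rw [hcount, hNcard, hBcard, hΔcard]
  have hq1 : 0 < qq m - 1 := by omega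
  have : qq m ^ 3 * (qq m - 1) / (qq m * (qq m - 1)) = qq m ^ 2 := by
    have : qq m ^ 3 * (qq m - 1) = qq m ^ 2 * (qq m * (qq m - 1)) := by ring
    rw [this]
    exact Nat.mul_div_cancel _ (Nat.mul_pos (by omega) hq1)
  rw [this]

end ReeAx

end Cfsg.Agent.Lib.helper7.REE
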