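import Mathlib
import Cfsg.Agent.Lib.helper7.REE.Defs
import Cfsg.Agent.Lib.helper4.REEG1A
import Cfsg.Agent.Lib.Helper27.REEG1I
import Cfsg.Agent.Lib.Helper16.REEG2D
import Cfsg.Agent.Lib.Helper16.REEG2Fcore

/-!
# Project REE (designer helper7), row G2F `B_count_6` (helper16): verbatim wrapper of `reeg2f_core`
on the landed rows G1A `B_basic` (helper4), G1I `CU_t` (helper27), G2D `B_orders`.
-/

set_option autoImplicit false

namespace Cfsg.Agent.Lib.helper7.REE

open Matrix Cfsg.Agent.Lib.helper8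

universe u v

namespace ReeAx

variable {G : Type u} [Group G] [Finite G] {K : Type v} [Field K] [Fintype K] {m : ℕ}

/-- G2F. Counting in `B`: elements of order 6 (relative `ti_count` in `B` with
`Δ = t (C_U(t) ∖ 1)`, `N = C_B(t) = C_U(t) H` of order `q (q - 1)`). -/
theorem B_count_6 (R : ReeAx G K m) :
    Nat.card ({b : G | b ∈ R.B ∧ orderOf b = 6} : Set G) = qq m ^ 2 * (qq m - 1) :=
  reeg2f_core R (B_basic R) (CU_t R) (fun b hb => B_orders R b hb)

end ReeAx

end Cfsg.Agent.Lib.helper7.REE
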