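import Mathlib

set_option autoImplicit false
set_option linter.unusedSectionVars false
set_option linter.unusedSimpArgs false
set_option linter.unusedVariables false
set_option linter.unusedTactic false

namespace Cfsg.Agent.Lib.Helper16.PSemi

open Matrix Module Polynomial

universe u

section
variable {F : Type u} [Field F]

theorem cyclo_data [Fintype F] {p q : ℕ} [Fact p.Prime] [CharP F p] (hF : Fintype.card F = q)
    (r i t : ℕ) (hr : r.Prime) (hrp : r ≠ p) (hi : i = orderOf (q : ZMod r)) (ht : t * i = r - 1) :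
    ∃ (κ : Type u) (_ : Fintype κ) (_ : DecidableEq κ) (f : κ → F[X]),
      Fintype.card κ = t ∧ (∀ k, Irreducible (f k)) ∧ (∀ k, (f k).natDegree = i) ∧
      Pairwise (Function.onFun IsCoprime f) ∧ (∀ k, f k ∣ cyclotomic r F) ∧
      (X - 1) * ∏ k, f k = X ^ r - 1 ∧ (∀ k, aeval (1 : F) (f k) ≠ 0) := by
  classical
  have : Fact r.Prime := ⟨hr⟩
  obtain ⟨e, _, hqe⟩ := FiniteField.card F p
  rw [hF] at hqe
  have hcop : p.Coprime r := by
    rw [Nat.coprime_primes (Fact.out) hr]
    exact fun h => hrp h.symm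
  have hK : Fintype.card F = p ^ (e : ℕ) := by rw [hF, hqe]
  have hrF : (r : F) ≠ 0 := by
    intro h
    rw [CharP.cast_eq_zero_iff F p] at h
    exact hrp ((Nat.prime_dvd_prime_iff_eq Fact.out hr).mp h).symm
  have : NeZero (r : F) := ⟨hrF⟩
  have hord : orderOf (ZMod.unitOfCoprime (p ^ (e : ℕ)) (hcop.pow_left e)) = i := by
    rw [hi, ← orderOf_units, ZMod.coe_unitOfCoprime, hqe]
  have hΦ0 : cyclotomic r F ≠ 0 := cyclotomic_ne_zero r F
  obtain ⟨s, hs⟩ : ∃ s : Finset F[X],
      s = (UniqueFactorizationMonoid.normalizedFactors (cyclotomic r F)).toFinset := ⟨_, rfl⟩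
  have hmem : ∀ P, P ∈ s ↔ P ∈ UniqueFactorizationMonoid.normalizedFactors (cyclotomic r F) := by
    intro P; rw [hs, Multiset.mem_toFinset]
  have hirr : ∀ P ∈ s, Irreducible P := fun P hP =>
    UniqueFactorizationMonoid.irreducible_of_normalized_factor P ((hmem P).mp hP)
  have hdvd : ∀ P ∈ s, P ∣ cyclotomic r F := fun P hP =>
    UniqueFactorizationMonoid.dvd_of_mem_normalizedFactors ((hmem P).mp hP)
  have hmonic : ∀ P ∈ s, P.Monic := by
    intro P hP
    have h1 := UniqueFactorizationMonoid.normalize_normalized_factor P ((hmem P).mp hP)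
    rw [← h1]
    exact Polynomial.monic_normalize (hirr P hP).ne_zero
  have hnodup : (UniqueFactorizationMonoid.normalizedFactors (cyclotomic r F)).Nodup :=
    (UniqueFactorizationMonoid.squarefree_iff_nodup_normalizedFactors hΦ0).mp
      (squarefree_cyclotomic r F)
  have hprod : ∏ P ∈ s, P = cyclotomic r F := by
    have h1 : ∏ P ∈ s, P = (UniqueFactorizationMonoid.normalizedFactors (cyclotomic r F)).prod := by
      rw [hs, Finset.prod_eq_multiset_prod, Multiset.toFinset_val, Multiset.dedup_eq_self.mpr hnodup,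
        Multiset.map_id']
    have h2 := UniqueFactorizationMonoid.prod_normalizedFactors hΦ0
    rw [← h1] at h2
    exact eq_of_monic_of_associated (monic_prod_of_monic _ _ hmonic) (cyclotomic.monic r F) h2
  have hcard : s.card = t := by
    have h1 := normalizedFactors_cyclotomic_card (K := F) (p := p) (f := e) (n := r) hK hcop
    rw [hord, Nat.totient_prime hr, ← ht, Nat.mul_div_cancel] at h1
    · rw [hs]; exact h1
    · rw [← hord]
      exact orderOf_pos _
  refine ⟨↥s, inferInstance, inferInstance, fun P => P.1, ?_, ?_, ?_, ?_, ?_, ?_, ?_⟩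
  · rw [Fintype.card_coe, hcard]
  · intro k; exact hirr k.1 k.2
  · intro k
    rw [natDegree_of_dvd_cyclotomic_of_irreducible hK hcop (hdvd k.1 k.2) (hirr k.1 k.2), hord]
  · intro k k' hkk'
    show IsCoprime k.1 k'.1
    rw [(hirr k.1 k.2).coprime_iff_not_dvd]
    intro hd
    apply hkk'
    apply Subtype.ext
    have hassoc : Associated k.1 k'.1 := (hirr k.1 k.2).associated_of_dvd (hirr k'.1 k'.2) hd
    exact eq_of_monic_of_associated (hmonic k.1 k.2) (hmonic k'.1 k'.2) hassoc
  · intro k; exact hdvd k.1 k.2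
  · rw [Finset.prod_coe_sort s (fun P => P), hprod, mul_comm]
    exact cyclotomic_prime_mul_X_sub_one F r
  · intro k h1
    have h2 : (X - C (1 : F)) ∣ k.1 := by
      rw [dvd_iff_isRoot, IsRoot.def, ← coe_aeval_eq_eval]
      exact h1
    have h3 : (X - C (1 : F)) ∣ cyclotomic r F := h2.trans (hdvd k.1 k.2)
    rw [dvd_iff_isRoot, IsRoot.def, eval_one_cyclotomic_prime] at h3
    exact hrF h3

end

end Cfsg.Agent.Lib.Helper16.PSemi

namespace Cfsg.Agent.Lib.Helper16.PSemi

open Matrix Module Polynomial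

universe u

section
variable {F : Type u} [Field F]

theorem exists_root_field [Fintype F] (r : ℕ) (hr : r.Prime) (hrF : (r : F) ≠ 0) {κ : Type u}
    [Fintype κ] [DecidableEq κ] (f : κ → F[X]) (hirr : ∀ k, Irreducible (f k))
    (hcop : Pairwise (Function.onFun IsCoprime f)) (hdvd : ∀ k, f k ∣ cyclotomic r F) (k₀ : κ) :
    ∃ (E : Type u) (_ : Field E) (_ : Algebra F E) (_ : Fintype E) (ω : κ → E),
      finrank F E = (f k₀).natDegree ∧ (∀ k, aeval (ω k) (f k) = 0) ∧
      (∀ k k', k ≠ k' → aeval (ω k') (f k) ≠ 0) ∧ ∀ k, ω k ^ r = 1 := by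
  classical
  have : Fact (Irreducible (f k₀)) := ⟨hirr k₀⟩
  have hfinite : Module.Finite F (AdjoinRoot (f k₀)) := (AdjoinRoot.powerBasis (hirr k₀).ne_zero).finite
  have : Finite (AdjoinRoot (f k₀)) := Module.finite_of_finite F
  have hfint : Fintype (AdjoinRoot (f k₀)) := Fintype.ofFinite _
  have hrE : (r : AdjoinRoot (f k₀)) ≠ 0 := by
    intro h
    apply hrF
    have h1 : algebraMap F (AdjoinRoot (f k₀)) (r : F) = 0 := by rw [map_natCast]; exact h
    exact (map_eq_zero _).mp h1
  have : NeZero (r : AdjoinRoot (f k₀)) := ⟨hrE⟩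
  have hζ : IsPrimitiveRoot (AdjoinRoot.root (f k₀)) r := by
    rw [← isRoot_cyclotomic_iff, IsRoot.def, ← map_cyclotomic r (algebraMap F (AdjoinRoot (f k₀))),
      eval_map, ← aeval_def]
    obtain ⟨c, hc⟩ := hdvd k₀
    rw [hc, map_mul]
    have h0 : aeval (AdjoinRoot.root (f k₀)) (f k₀) = 0 := by
      rw [aeval_def]
      exact AdjoinRoot.eval₂_root (f k₀)
    rw [h0, zero_mul]
  have hroots : ∀ k, ∃ μ : AdjoinRoot (f k₀), aeval μ (f k) = 0 ∧ μ ^ r = 1 := by
    intro k
    have hdk : (f k).map (algebraMap F (AdjoinRoot (f k₀))) ∣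
        ∏ μ ∈ primitiveRoots r (AdjoinRoot (f k₀)), (X - C μ) := by
      rw [← cyclotomic_eq_prod_X_sub_primitiveRoots hζ, ← map_cyclotomic r (algebraMap F _)]
      exact Polynomial.map_dvd _ (hdvd k)
    have hdeg : 0 < ((f k).map (algebraMap F (AdjoinRoot (f k₀)))).natDegree := by
      rw [natDegree_map]
      exact (hirr k).natDegree_pos
    have hnu : ¬ IsUnit ((f k).map (algebraMap F (AdjoinRoot (f k₀)))) := by
      intro hu
      have := natDegree_eq_zero_of_isUnit hu
      omega
    have hne0 : (f k).map (algebraMap F (AdjoinRoot (f k₀))) ≠ 0 := by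
      intro h0
      rw [h0, natDegree_zero] at hdeg
      omega
    obtain ⟨π, hπ, hπd⟩ := WfDvdMonoid.exists_irreducible_factor hnu hne0
    have hπp : Prime π := hπ.prime
    obtain ⟨μ, hμmem, hμd⟩ := (Prime.dvd_finsetProd_iff hπp _).mp (hπd.trans hdk)
    have hassoc : Associated π (X - C μ) := hπ.associated_of_dvd (irreducible_X_sub_C μ) hμd
    have hμdvd : (X - C μ) ∣ (f k).map (algebraMap F (AdjoinRoot (f k₀))) :=
      hassoc.symm.dvd.trans hπd
    refine ⟨μ, ?_, ?_⟩
    · rw [dvd_iff_isRoot, IsRoot.def, eval_map, ← aeval_def] at hμdvd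
      exact hμdvd
    · exact ((mem_primitiveRoots hr.pos).mp hμmem).pow_eq_one
  choose ω hω1 hω2 using hroots
  refine ⟨AdjoinRoot (f k₀), inferInstance, inferInstance, hfint, ω, ?_, hω1, ?_, hω2⟩
  · rw [(AdjoinRoot.powerBasis (hirr k₀).ne_zero).finrank, AdjoinRoot.powerBasis_dim]
  · intro k k' hkk' h0
    obtain ⟨u, v, huv⟩ := hcop hkk'
    have h1 := congrArg (aeval (ω k')) huv
    rw [map_add, map_mul, map_mul, h0, hω1 k', mul_zero, mul_zero, add_zero, map_one] at h1
    exact zero_ne_one h1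

end

end Cfsg.Agent.Lib.Helper16.PSemi
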