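import Mathlib
import Cfsg.Agent.Lib.Lead.POM
import Cfsg.Agent.S0790

/-!
# Project SPN (lead; S2096 + S2097), item (3) (helper16): the centre of `Ω⁺_{2n}(F)`.

`-1 ∈ Ω⁺_{2n}(q)` iff `q ^ n ≡ 1 (mod 4)` (`q` odd) is `Cfsg.Agent.S0790.result`.  With lead's `pom_center_cases` (a central element
of `Ω` has matrix `1` or `-1`, `3 ≤ n`) this gives the order of the centre:
* `spnc3_center_card_odd` : `q` odd: `Nat.card (centre) = if q ^ n % 4 = 1 then 2 else 1`;
* `spnc3_center_card_char_two` : characteristic `2`: the centre is trivial;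
* `spnc3_exists_z` : for `q ^ n % 4 = 1` the central element `z` with matrix `-1`, `z ≠ 1`, `z * z = 1`, centre `= {1, z} = zpowers z`.
-/

set_option autoImplicit false

namespace Cfsg.Agent.Lib.Helper16.SPN

open Matrix

universe u

variable {n : ℕ} {F : Type u} [Field F]

/-- the matrix of an element of `Ω` -/
abbrev mat (g : ↥(Cfsg.Omega F (Cfsg.quadFormPlus n F))) : Matrix (Fin n ⊕ Fin n) (Fin n ⊕ Fin n) F :=
  (((g : ↥(Cfsg.isometryGroup F (Cfsg.quadFormPlus n F))) : Matrix.GeneralLinearGroup (Fin n ⊕ Fin n) F) :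
    Matrix (Fin n ⊕ Fin n) (Fin n ⊕ Fin n) F)

theorem spnc3_ext (g h : ↥(Cfsg.Omega F (Cfsg.quadFormPlus n F))) (e : mat g = mat h) : g = h :=
  Subtype.ext (Subtype.ext (Units.ext e))

theorem spnc3_mat_mul (g h : ↥(Cfsg.Omega F (Cfsg.quadFormPlus n F))) : mat (g * h) = mat g * mat h := rfl

theorem spnc3_mat_one : mat (1 : ↥(Cfsg.Omega F (Cfsg.quadFormPlus n F))) = 1 := rfl

/-- an element of `Ω` with matrix `-1` is central -/
theorem spnc3_central_of_neg (z : ↥(Cfsg.Omega F (Cfsg.quadFormPlus n F))) (hz : mat z = -1) :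
    z ∈ Subgroup.center ↥(Cfsg.Omega F (Cfsg.quadFormPlus n F)) := by
  rw [Subgroup.mem_center_iff]
  intro h
  apply spnc3_ext
  rw [spnc3_mat_mul, spnc3_mat_mul, hz]
  simp

/-- the centre is contained in `{1, z}` when `mat z = -1` -/
theorem spnc3_center_cases (hn : 3 ≤ n) (z : ↥(Cfsg.Omega F (Cfsg.quadFormPlus n F))) (hz : mat z = -1)
    (g : ↥(Cfsg.Omega F (Cfsg.quadFormPlus n F)))
    (hg : g ∈ Subgroup.center ↥(Cfsg.Omega F (Cfsg.quadFormPlus n F))) : g = 1 ∨ g = z := by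
  rcases Cfsg.Agent.Lib.Lead.POM.pom_center_cases hn g hg with h | h
  · left
    exact spnc3_ext g 1 h
  · right
    exact spnc3_ext g z (h.trans hz.symm)

/-- no element with matrix `-1`: the centre is trivial -/
theorem spnc3_center_eq_bot (hn : 3 ≤ n)
    (hno : ¬ ∃ g : ↥(Cfsg.Omega F (Cfsg.quadFormPlus n F)), mat g = -1) (h2 : (2 : F) ≠ 0) :
    Subgroup.center ↥(Cfsg.Omega F (Cfsg.quadFormPlus n F)) = ⊥ := by
  rw [eq_bot_iff]
  intro g hg
  rw [Subgroup.mem_bot]
  rcases Cfsg.Agent.Lib.Lead.POM.pom_center_cases hn g hg with h | h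
  · exact spnc3_ext g 1 h
  · exact absurd ⟨g, h⟩ hno

/-- characteristic `2`: the centre of `Ω⁺_{2n}(F)` is trivial -/
theorem spnc3_center_eq_bot_char_two [CharP F 2] (hn : 3 ≤ n) :
    Subgroup.center ↥(Cfsg.Omega F (Cfsg.quadFormPlus n F)) = ⊥ := by
  rw [eq_bot_iff]
  intro g hg
  rw [Subgroup.mem_bot]
  have hneg : (-1 : Matrix (Fin n ⊕ Fin n) (Fin n ⊕ Fin n) F) = 1 := by
    ext i j
    rw [Matrix.neg_apply, CharTwo.neg_eq]
  rcases Cfsg.Agent.Lib.Lead.POM.pom_center_cases hn g hg with h | h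
  · exact spnc3_ext g 1 h
  · exact spnc3_ext g 1 (h.trans hneg)

theorem spnc3_center_card_char_two [CharP F 2] (hn : 3 ≤ n) :
    Nat.card (Subgroup.center ↥(Cfsg.Omega F (Cfsg.quadFormPlus n F))) = 1 := by
  rw [spnc3_center_eq_bot_char_two hn]
  exact Subgroup.card_bot

section odd

variable [Fintype F] {q : ℕ}

/-- `q` odd, `q ^ n ≡ 1 (mod 4)`: the central involution `z = -1` of `Ω⁺_{2n}(q)` -/
theorem spnc3_exists_z (hF : Fintype.card F = q) (hodd : Odd q) (hn : 3 ≤ n) (h4 : q ^ n % 4 = 1) :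
    ∃ z : ↥(Cfsg.Omega F (Cfsg.quadFormPlus n F)), mat z = -1 ∧ z ≠ 1 ∧ z * z = 1 ∧
      z ∈ Subgroup.center ↥(Cfsg.Omega F (Cfsg.quadFormPlus n F)) ∧
      (∀ g ∈ Subgroup.center ↥(Cfsg.Omega F (Cfsg.quadFormPlus n F)), g = 1 ∨ g = z) ∧
      Subgroup.center ↥(Cfsg.Omega F (Cfsg.quadFormPlus n F)) = Subgroup.zpowers z := by
  obtain ⟨g, hg, hgm⟩ := (Cfsg.Agent.S0790.result hF hodd n (by omega)).mpr h4
  have h2 : (2 : F) ≠ 0 := by
    intro h
    have hc : CharP F 2 := CharTwo.of_one_ne_zero_of_two_eq_zero one_ne_zero h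
    have : 2 ∣ q := by
      rw [← hF]
      exact (FiniteField.card F 2).choose_spec.2 ▸ dvd_pow_self 2 (FiniteField.card F 2).choose.pos.ne'
    exact (Nat.not_even_iff_odd.mpr hodd) (even_iff_two_dvd.mpr this)
  set z : ↥(Cfsg.Omega F (Cfsg.quadFormPlus n F)) := ⟨g, hg⟩ with hzdef
  have hz : mat z = -1 := hgm
  have hz1 : z ≠ 1 := by
    intro h
    have hm : mat z = 1 := by
      rw [h]
      exact spnc3_mat_one
    rw [hz] at hm
    have h00 := congrFun (congrFun hm (Sum.inl ⟨0, by omega⟩)) (Sum.inl ⟨0, by omega⟩)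
    simp only [Matrix.neg_apply, Matrix.one_apply_eq] at h00
    apply h2
    have : (2 : F) = 1 - (-1) := by ring
    rw [this, h00, sub_self]
  have hzz : z * z = 1 := by
    apply spnc3_ext
    rw [spnc3_mat_mul, hz, spnc3_mat_one]
    simp
  have hzc := spnc3_central_of_neg z hz
  refine ⟨z, hz, hz1, hzz, hzc, spnc3_center_cases hn z hz, ?_⟩
  apply le_antisymm
  · intro x hx
    rcases spnc3_center_cases hn z hz x hx with h | h
    · rw [h]
      exact one_mem _
    · rw [h]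
      exact Subgroup.mem_zpowers z
  · rw [Subgroup.zpowers_le]
    exact hzc

/-- `q` odd: the order of the centre of `Ω⁺_{2n}(q)`, `3 ≤ n` -/
theorem spnc3_center_card_odd (hF : Fintype.card F = q) (hodd : Odd q) (hn : 3 ≤ n) :
    Nat.card (Subgroup.center ↥(Cfsg.Omega F (Cfsg.quadFormPlus n F))) = if q ^ n % 4 = 1 then 2 else 1 := by
  have h2 : (2 : F) ≠ 0 := by
    intro h
    have hc : CharP F 2 := CharTwo.of_one_ne_zero_of_two_eq_zero one_ne_zero h
    have : 2 ∣ q := by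
      rw [← hF]
      exact (FiniteField.card F 2).choose_spec.2 ▸ dvd_pow_self 2 (FiniteField.card F 2).choose.pos.ne'
    exact (Nat.not_even_iff_odd.mpr hodd) (even_iff_two_dvd.mpr this)
  by_cases h4 : q ^ n % 4 = 1
  · rw [if_pos h4]
    obtain ⟨z, hz, hz1, hzz, hzc, hcases, -⟩ := spnc3_exists_z hF hodd hn h4
    rw [Nat.card_eq_two_iff]
    refine ⟨⟨1, one_mem _⟩, ⟨z, hzc⟩, ?_, ?_⟩
    · intro h
      exact hz1 (congrArg Subtype.val h).symm
    · ext x
      simp only [Set.mem_insert_iff, Set.mem_singleton_iff, Set.mem_univ, iff_true]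
      rcases hcases x.1 x.2 with h | h
      · left
        exact Subtype.ext h
      · right
        exact Subtype.ext h
  · rw [if_neg h4]
    have hno : ¬ ∃ g : ↥(Cfsg.Omega F (Cfsg.quadFormPlus n F)), mat g = -1 := by
      rintro ⟨g, hg⟩
      exact h4 ((Cfsg.Agent.S0790.result hF hodd n (by omega)).mp ⟨g.1, g.2, hg⟩)
    rw [spnc3_center_eq_bot hn hno h2]
    exact Subgroup.card_bot

end odd

end Cfsg.Agent.Lib.Helper16.SPN
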