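import Mathlib
import Cfsg.Agent.Lib.Lead.STB.Defs
import Cfsg.Agent.Lib.Lead.STB.Defs2
import Cfsg.Agent.Lib.Lead.STB.Defs3
import Cfsg.Agent.Lib.Lead.STB.Defs4
import Cfsg.Agent.Lib.Lead.STB.Sub
import Cfsg.Agent.Lib.Helper9.STBR0b
import Cfsg.Agent.Lib.Helper5.STBR3bcore
import Cfsg.Agent.Lib.Helper9.STBR7
import Cfsg.Agent.Lib.Helper20.STBR3

/-!
# Project STB (designer lead), part 3, row J1 (`Yg_fix_phi_eq_one`) (helper16), VERBATIM.
On R0b/R2 (`Helper9.STBR0b`), the core of R3b (`Helper5.STBR3bcore`), R7 (`Helper9.STBR7`), R3 (`Helper20.STBR3`).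
-/

set_option autoImplicit false

namespace Cfsg.Agent.Lib.Lead.STB

open Matrix Cfsg.Agent.Lib.helper15.St2 Cfsg.Agent.Lib.helper3.STC Cfsg.Agent.Lib.Lead.STD

universe v w

namespace SysB

namespace Rep

variable {K : Type*} [Field K] {ι : Type*} {G : Type*} [Group G] {S : SysB K ι G} {l : Type*} [Fintype l] [DecidableEq l] (R : S.Rep l)

variable (o : ι ⊕ ι)

/-- J1 [S] -/
theorem Yg_fix_phi_eq_one {y : G} (hy : y ∈ S.Yg o) (h : R.M y *ᵥ evb (Eb R.e o) = evb (Eb R.e o)) : R.φ y = 1 := by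
  apply phi_eq_one_of_M
  have hform : (R.M y)ᵀ * JB * R.M y = (JB : Matrix (Ix l) (Ix l) K) :=
    R.stbr3b_core (fun hab hab' t => TbL_form hab hab' t) (fun a t => TbS_form a t) y hy
  apply eq_one_of_Yshape (o := Em R.e o) hform h
  intro c hc
  obtain ⟨r, hr⟩ := Yg_col R o y hy c hc
  refine ⟨r, ?_⟩
  rw [← Em_ng]
  exact hr

end Rep

end SysB

end Cfsg.Agent.Lib.Lead.STB
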