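import Mathlib
import Cfsg.Agent.Lib.Lead.STB.Defs
import Cfsg.Agent.Lib.Lead.STB.Defs3
import Cfsg.Agent.Lib.helper7.StC
import Cfsg.Agent.Lib.Lead.STDB1
import Cfsg.Agent.Lib.Helper24.STCI1
import Cfsg.Agent.Lib.Helper1.STBX1
import Cfsg.Agent.Lib.Helper22.STBN1

/-!
# Project STB (designer lead), part 2, rows N7 (`Yg_decomp2`) and F3 (`lemA_Yg`, `lemA_Lg`) (helper16): CORES, with the statements of
N4a `Yg_comm` resp. N2p `Lg_cj_mem_Yg` as hypotheses.
-/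

set_option autoImplicit false

namespace Cfsg.Agent.Lib.Lead.STB

open Cfsg.Agent.Lib.helper15.St2 Cfsg.Agent.Lib.helper3.STC Cfsg.Agent.Lib.Lead.STD

universe v w

namespace SysB

variable {K : Type*} [Field K] {ι : Type*} {G : Type*} [Group G] (S : SysB K ι G)

section N
variable (o : ι ⊕ ι)

/-- N7 core: `hcomm` = statement of N4a `Yg_comm`. -/
theorem stbn7_core (hcomm : ∀ y ∈ S.Yg o, ∀ z ∈ S.Yg o, y * z = z * y) {o' : ι ⊕ ι} (ho' : o' ≠ o) (ho'' : o' ≠ ng o) :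
    ∀ y ∈ S.Yg o, ∃ u u' : K, ∃ y'' ∈ S.Yjj o o', y = S.x o' o u * S.x (ng o') o u' * y'' := by
  have hno' : ng o' ≠ o := fun h => ho'' (ng_eq_iff.1 h)
  have hno'' : ng o' ≠ ng o := fun h => ho' (ng_inj.1 h)
  have hX : ∀ u, S.x o' o u ∈ S.Yg o := fun u => S.x_mem_Yg o o' u
  have hX' : ∀ u, S.x (ng o') o u ∈ S.Yg o := fun u => S.x_mem_Yg o (ng o') u
  have key : ∀ s ∈ S.Yg o, ∀ (u u' : K) (y'' : G),
      s * (S.x o' o u * S.x (ng o') o u' * y'') = S.x o' o u * S.x (ng o') o u' * (s * y'') := by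
    intro s hs u u' y''
    have h1 := hcomm s hs (S.x o' o u * S.x (ng o') o u') (mul_mem (hX u) (hX' u'))
    rw [← mul_assoc, h1, mul_assoc]
  refine Cfsg.Agent.Lib.helper7.St.closure_left_induction'
    (p := fun y => ∃ u u' : K, ∃ y'' ∈ S.Yjj o o', y = S.x o' o u * S.x (ng o') o u' * y'')
    (S.XQ_gens_inv _ _) ?_ ?_
  · exact ⟨0, 0, 1, one_mem _, by rw [S.toSysD.x_zero, S.toSysD.x_zero, one_mul, one_mul]⟩
  · rintro s hs g ⟨u, u', y'', hy'', rfl⟩
    rcases hs with ⟨a, b, t, hab, hab', hb, rfl⟩ | ⟨a, t, ha, rfl⟩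
    · have hb' : b = o := hb
      subst hb'
      by_cases ha1 : a = o'
      · subst ha1
        exact ⟨t + u, u', y'', hy'', by rw [← mul_assoc, ← mul_assoc, S.add a b hab hab']⟩
      by_cases ha2 : a = ng o'
      · subst ha2
        refine ⟨u, t + u', y'', hy'', ?_⟩
        rw [← S.add (ng o') b hab hab']
        have h1 := hcomm (S.x (ng o') b t) (hX' t) (S.x o' b u) (hX u)
        calc S.x (ng o') b t * (S.x o' b u * S.x (ng o') b u' * y'')
            = (S.x (ng o') b t * S.x o' b u) * S.x (ng o') b u' * y'' := by group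
          _ = (S.x o' b u * S.x (ng o') b t) * S.x (ng o') b u' * y'' := by rw [h1]
          _ = S.x o' b u * (S.x (ng o') b t * S.x (ng o') b u') * y'' := by group
      · refine ⟨u, u', S.x a b t * y'',
          mul_mem (S.x_mem_XQ (Q := fun a b' => b' = b ∧ (a ≠ o' ∧ a ≠ ng o')) ⟨rfl, ha1, ha2⟩ t) hy'', ?_⟩
        exact key _ (S.x_mem_Yg b a t) u u' y''
    · have ha' : a = ng o := ha
      subst ha'
      refine ⟨u, u', S.xs (ng o) t * y'',
        mul_mem (S.xs_mem_XQ (Qs := fun a => a = ng o) rfl t) hy'', ?_⟩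
      exact key _ (S.xs_mem_Yg o t) u u' y''

end N

section F
variable (o : ι ⊕ ι)

/-- F3, first half (no dependencies). -/
theorem stbf3_lemA_Yg {z : G} (hz : z ∈ S.Yg o) {y p : G} (hy : y ∈ S.Yg o) (hp : p ∈ S.Phat o) : z * (y * p) ∈ S.cell0 o :=
  ⟨z * y, (S.Yg o).mul_mem hz hy, p, hp, (mul_assoc _ _ _).symm⟩

/-- F3, second half, core: `hN2p` = statement of N2p `Lg_cj_mem_Yg`. -/
theorem stbf3_core (hN2p : ∀ z ∈ S.Lg o, ∀ y ∈ S.Yg o, cj z y ∈ S.Yg o)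
    {z : G} (hz : z ∈ S.Lg o) {y p : G} (hy : y ∈ S.Yg o) (hp : p ∈ S.Phat o) : z * (y * p) ∈ S.cell0 o := by
  refine ⟨cj z y, hN2p z hz y hy, z * p, (S.Phat o).mul_mem (S.Pg_le_Phat o (S.Lg_le_Pg o hz)) hp, ?_⟩
  unfold cj
  group

end F

end SysB

end Cfsg.Agent.Lib.Lead.STB
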