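import Mathlib
import Cfsg.Agent.Lib.Lead.STB.Defs
import Cfsg.Agent.Lib.Lead.STB.Defs3
import Cfsg.Agent.Lib.Helper16.STBN7core
import Cfsg.Agent.Lib.helper15.STBN4a

/-!
# Project STB (designer lead), part 2, row N7 (`Yg_decomp2`) (helper16), VERBATIM (on N4a `Yg_comm`).
-/

set_option autoImplicit false

namespace Cfsg.Agent.Lib.Lead.STB

open Cfsg.Agent.Lib.helper15.St2 Cfsg.Agent.Lib.helper3.STC Cfsg.Agent.Lib.Lead.STD

universe v w

namespace SysB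

variable {K : Type*} [Field K] {ι : Type*} [DecidableEq ι] {G : Type*} [Group G] (S : SysB K ι G)

section N
variable (o : ι ⊕ ι)

omit [DecidableEq ι] in
/-- N7 [S-M] -/
theorem Yg_decomp2 {o' : ι ⊕ ι} (ho' : o' ≠ o) (ho'' : o' ≠ ng o) :
    ∀ y ∈ S.Yg o, ∃ u u' : K, ∃ y'' ∈ S.Yjj o o', y = S.x o' o u * S.x (ng o') o u' * y'' :=
  S.stbn7_core o (S.Yg_comm o) ho' ho''

end N

end SysB

end Cfsg.Agent.Lib.Lead.STB
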