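import Mathlib
import Cfsg.Agent.Lib.Lead.STB.Defs
import Cfsg.Agent.Lib.Lead.STB.Defs3
import Cfsg.Agent.Lib.Helper16.STBF10core
import Cfsg.Agent.Lib.Helper9.STBN2p
import Cfsg.Agent.Lib.Helper5.STBF4
import Cfsg.Agent.Lib.Helper5.STBF2b
import Cfsg.Agent.Lib.Helper21.STBF12
import Cfsg.Agent.Lib.Helper21.STBF15a

/-!
# Project STB (designer lead), part 2, rows F10 (`lemA_all`), F11 (`ww_same`, `wsws_same`), F16 (`InD_ws`) (helper16), VERBATIM.
-/

set_option autoImplicit false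

namespace Cfsg.Agent.Lib.Lead.STB

open Cfsg.Agent.Lib.helper15.St2 Cfsg.Agent.Lib.helper3.STC Cfsg.Agent.Lib.Lead.STD

universe v w

namespace SysB

variable {K : Type*} [Field K] {ι : Type*} [DecidableEq ι] {G : Type*} [Group G] (S : SysB K ι G)

section F
variable (o : ι ⊕ ι)

/-- F10 [S-M] -/
theorem lemA_all [Finite K] (a b : ι ⊕ ι) (t : K) {y p : G} (hy : y ∈ S.Yg o) (hp : p ∈ S.Phat o) : S.InD o (S.x a b t * (y * p)) :=
  S.stbf10_core o (S.Lg_cj_mem_Yg o) (fun hj hj' t _ _ hy hp => S.lemA_long o hj hj' t hy hp) a b t hy hp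

/-- F11 [S-M] -/
theorem ww_same [Finite K] {k : ι ⊕ ι} (hk : k ≠ o) (hk' : k ≠ ng o) : S.NP o (S.w o k 1 * S.w o k 1) :=
  S.stbf11_core_w o (fun hb hb' _ ht => S.NP_h o hb hb' ht) hk hk'

theorem wsws_same [Finite K] : S.NP o (S.ws o 1 * S.ws o 1) :=
  S.stbf11_core_ws o (fun ht => S.NP_hs o ht)

/-- F16 [S-M] -/
theorem InD_ws [Finite K] {g : G} (hg : S.InD o g) : S.InD o (S.ws o 1 * g) :=
  S.stbf16_core o (fun hj hj' => S.ws_w o hj hj') (fun hn _ _ hy hp => S.NP_cell0 o hn hy hp) (S.wsws_same o) hg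

end F

end SysB

end Cfsg.Agent.Lib.Lead.STB
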