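import Mathlib
import Cfsg.Agent.Lib.Lead.STB.Defs
import Cfsg.Agent.Lib.Lead.STB.Defs3
import Cfsg.Agent.Lib.Helper16.STBF10core
import Cfsg.Agent.Lib.Helper9.STBN2p
import Cfsg.Agent.Lib.Helper25.STBF7

/-!
# Project STB (designer lead), part 2, row F10s (`lemA_all_s`) (helper16), VERBATIM (on N2p, F7 `lemA_s`).
-/

set_option autoImplicit false

namespace Cfsg.Agent.Lib.Lead.STB

open Cfsg.Agent.Lib.helper15.St2 Cfsg.Agent.Lib.helper3.STC Cfsg.Agent.Lib.Lead.STD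

universe v w

namespace SysB

variable {K : Type*} [Field K] {ι : Type*} [DecidableEq ι] {G : Type*} [Group G] (S : SysB K ι G)

section F
variable (o : ι ⊕ ι)

/-- F10s [S] -/
theorem lemA_all_s [Finite K] [Finite ι] (a : ι ⊕ ι) (t : K) {y p : G} (hy : y ∈ S.Yg o) (hp : p ∈ S.Phat o) : S.InD o (S.xs a t * (y * p)) :=
  S.stbf10s_core o (S.Lg_cj_mem_Yg o) (fun t _ _ hy hp => S.lemA_s o t hy hp) a t hy hp

end F

end SysB

end Cfsg.Agent.Lib.Lead.STB
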