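import Mathlib
import Cfsg.Agent.Lib.helper17.STM.Defs
import Cfsg.Agent.Lib.helper17.STM.Defs2
import Cfsg.Agent.Lib.Lead.STDB1
import Cfsg.Agent.Lib.Helper24.STCI1
import Cfsg.Agent.Lib.helper4.STMX1
import Cfsg.Agent.Lib.Helper20.STMN1
import Cfsg.Agent.Lib.Helper20.STMH1
import Cfsg.Agent.Lib.Helper16.STMN7core

/-!
# Project STM (designer helper17), part 2, rows F10 (`lemA_all`), F10s (`lemA_all_s`), F11 (`ww_same`, `wsws_same`), F16 (`InD_ws`) (helper16): CORES (ports of `Helper16.STBF10core`),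
with the statements of N2p `Lg_cj_mem_Yg`, F4 `lemA_long`, F7 `lemA_s`, F2b `NP_h` / `NP_hs`, F14 `ws_w`, F15a `NP_cell0` as hypotheses.
-/

set_option autoImplicit false

namespace Cfsg.Agent.Lib.helper17.STM

open Cfsg.Agent.Lib.helper15.St2 Cfsg.Agent.Lib.helper3.STC Cfsg.Agent.Lib.Lead.STD

universe v w

namespace SysM

variable {F : Type*} [Field F] {A B : F} [Fact (∀ r : F, r ^ 2 ≠ -B + A * r)] {ι : Type*} {G : Type*} [Group G] (S : SysM F A B ι G)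

section F
variable (o : ι ⊕ ι)

/-- F10 core: `hN2p` = statement of N2p `Lg_cj_mem_Yg`, `hF4` = statement of F4 `lemA_long`. -/
theorem stmf10_core (hN2p : ∀ z ∈ S.Lg o, ∀ y ∈ S.Yg o, cj z y ∈ S.Yg o)
    (hF4 : ∀ {j : ι ⊕ ι}, j ≠ o → j ≠ ng o → ∀ (t : F) {y p : G}, y ∈ S.Yg o → p ∈ S.Phat o →
      S.x o j t * (y * p) ∈ S.cell0 o ∨ S.x o j t * (y * p) ∈ S.cell o j)
    (a b : ι ⊕ ι) (t : F) {y p : G} (hy : y ∈ S.Yg o) (hp : p ∈ S.Phat o) : S.InD o (S.x a b t * (y * p)) := by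
  have h0 : S.InD o (y * p) := Or.inl ⟨y, hy, p, hp, rfl⟩
  by_cases hab : a = b
  · rw [hab, S.diag, one_mul]; exact h0
  by_cases hab' : b = ng a
  · rw [hab', S.opp, one_mul]; exact h0
  have hab'' : a ≠ ng b := fun e => hab' (by rw [e, ng_ng])
  by_cases hb : b = o
  · rw [hb]; exact Or.inl (S.stmf3_lemA_Yg o (S.x_mem_Yg o a t) hy hp)
  by_cases ha : a = ng o
  · rw [ha]; exact Or.inl (S.stmf3_lemA_Yg o (S.x_mem_Yg' o b t) hy hp)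
  by_cases ha2 : a = o
  · have hb2 : b ≠ ng o := fun e => hab' (by rw [e, ha2])
    rw [ha2]
    rcases hF4 hb hb2 t hy hp with h | h
    · exact Or.inl h
    · exact Or.inr (Or.inl ⟨b, hb, hb2, h⟩)
  by_cases hb2 : b = ng o
  · have hj : ng a ≠ o := fun e => ha (by rw [← e, ng_ng])
    have hj' : ng a ≠ ng o := fun e => ha2 (ng_inj.1 e)
    rw [S.sym a b hab hab'' t, hb2, ng_ng]
    rcases hF4 hj hj' (-t) hy hp with h | h
    · exact Or.inl h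
    · exact Or.inr (Or.inl ⟨ng a, hj, hj', h⟩)
  · exact Or.inl (S.stmf3_core o hN2p (S.x_mem_Lg o ha2 ha hb hb2 t) hy hp)

/-- F10s core: `hN2p` = statement of N2p `Lg_cj_mem_Yg`, `hF7` = statement of F7 `lemA_s`. -/
theorem stmf10s_core (hN2p : ∀ z ∈ S.Lg o, ∀ y ∈ S.Yg o, cj z y ∈ S.Yg o)
    (hF7 : ∀ (t : Kq F A B) {y p : G}, y ∈ S.Yg o → p ∈ S.Phat o → S.InD o (S.xs o t * (y * p)))
    (a : ι ⊕ ι) (t : Kq F A B) {y p : G} (hy : y ∈ S.Yg o) (hp : p ∈ S.Phat o) : S.InD o (S.xs a t * (y * p)) := by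
  by_cases ha : a = ng o
  · rw [ha]; exact Or.inl (S.stmf3_lemA_Yg o (S.xs_mem_Yg o t) hy hp)
  by_cases ha2 : a = o
  · rw [ha2]; exact hF7 t hy hp
  · exact Or.inl (S.stmf3_core o hN2p (S.xs_mem_Lg o ha2 ha t) hy hp)

/-- F11 core, long: `hNPh` = statement of F2b `NP_h`. -/
theorem stmf11_core_w [Finite F]
    (hNPh : ∀ {b : ι ⊕ ι}, b ≠ o → b ≠ ng o → ∀ {t : F}, t ≠ 0 → S.NP o (S.h o b t))
    {k : ι ⊕ ι} (hk : k ≠ o) (hk' : k ≠ ng o) : S.NP o (S.w o k 1 * S.w o k 1) := by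
  have hok : o ≠ k := fun e => hk e.symm
  have hok' : o ≠ ng k := fun e => hk' (by rw [e, ng_ng])
  have h1 : S.w o k 1 * S.w o k 1 = S.h o k (-1) := by
    show S.toSysD.w o k 1 * S.toSysD.w o k 1 = S.toSysD.h o k (-1)
    rw [S.toSysD.w_mul_w hok hok' 1 1 one_ne_zero one_ne_zero, inv_one, mul_one]
  rw [h1]
  exact hNPh hk hk' (neg_ne_zero.2 one_ne_zero)

/-- F11 core, short: `hNPhs` = statement of F2b `NP_hs`. -/
theorem stmf11_core_ws [Finite F] (hNPhs : ∀ {t : Kq F A B}, t ≠ 0 → S.NP o (S.hs o t)) :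
    S.NP o (S.ws o 1 * S.ws o 1) := by
  rw [S.ws_mul_ws o 1 1 one_ne_zero one_ne_zero, inv_one, mul_one]
  exact hNPhs (neg_ne_zero.2 one_ne_zero)

/-- F16 core: `hF14` = statement of F14 `ws_w`, `hF15a` = statement of F15a `NP_cell0`, `hwsws` = statement of F11 `wsws_same`. -/
theorem stmf16_core
    (hF14 : ∀ {j : ι ⊕ ι}, j ≠ o → j ≠ ng o → ∃ n, S.NP o n ∧ S.ws o 1 * S.w o j 1 = S.w o j 1 * n)
    (hF15a : ∀ {n : G}, S.NP o n → ∀ {y p : G}, y ∈ S.Yg o → p ∈ S.Phat o →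
      ∃ y₁ ∈ S.Yg o, ∃ p₁ ∈ S.Phat o, n * (y * p) = y₁ * p₁)
    (hwsws : S.NP o (S.ws o 1 * S.ws o 1))
    {g : G} (hg : S.InD o g) : S.InD o (S.ws o 1 * g) := by
  rcases hg with ⟨y, hy, p, hp, rfl⟩ | ⟨j, hj, hj', y, hy, p, hp, rfl⟩ | ⟨y, hy, p, hp, rfl⟩
  · exact Or.inr (Or.inr ⟨y, hy, p, hp, (mul_assoc _ _ _).symm⟩)
  · obtain ⟨n, hn, e⟩ := hF14 hj hj'
    obtain ⟨y₁, hy₁, p₁, hp₁, e2⟩ := hF15a hn hy hp
    refine Or.inr (Or.inl ⟨j, hj, hj', y₁, hy₁, p₁, hp₁, ?_⟩)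
    calc S.ws o 1 * (S.w o j 1 * y * p) = (S.ws o 1 * S.w o j 1) * (y * p) := by group
      _ = S.w o j 1 * (n * (y * p)) := by rw [e]; group
      _ = S.w o j 1 * y₁ * p₁ := by rw [e2]; group
  · obtain ⟨y₁, hy₁, p₁, hp₁, e2⟩ := hF15a hwsws hy hp
    refine Or.inl ⟨y₁, hy₁, p₁, hp₁, ?_⟩
    calc S.ws o 1 * (S.ws o 1 * y * p) = (S.ws o 1 * S.ws o 1) * (y * p) := by group
      _ = y₁ * p₁ := e2

end F

end SysM

end Cfsg.Agent.Lib.helper17.STM
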