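import Mathlib
import Cfsg.Agent.Lib.helper17.STM.Defs
import Cfsg.Agent.Lib.helper17.STM.Defs2
import Cfsg.Agent.Lib.Helper16.STMF10core
import Cfsg.Agent.Lib.Helper21.STMF2b
import Cfsg.Agent.Lib.Helper21.STMF12
import Cfsg.Agent.Lib.Helper21.STMF15a

/-!
# Project STM (designer helper17), part 2, rows F11 (`ww_same`, `wsws_same`), F16 (`InD_ws`) (helper16), VERBATIM (on F2b `Helper21.STMF2b`, F14 `Helper21.STMF12`, F15a `Helper21.STMF15a`).
-/

set_option autoImplicit false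

namespace Cfsg.Agent.Lib.helper17.STM

open Cfsg.Agent.Lib.helper15.St2 Cfsg.Agent.Lib.helper3.STC Cfsg.Agent.Lib.Lead.STD

universe v w

namespace SysM

variable {F : Type*} [Field F] {A B : F} [Fact (∀ r : F, r ^ 2 ≠ -B + A * r)] {ι : Type*} [DecidableEq ι] {G : Type*} [Group G] (S : SysM F A B ι G)

section F
variable (o : ι ⊕ ι)

/-- F11 [S-M] -/
theorem ww_same [Finite F] {k : ι ⊕ ι} (hk : k ≠ o) (hk' : k ≠ ng o) : S.NP o (S.w o k 1 * S.w o k 1) :=
  S.stmf11_core_w o (fun hb hb' _ ht => S.NP_h o hb hb' ht) hk hk'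

theorem wsws_same [Finite F] : S.NP o (S.ws o 1 * S.ws o 1) :=
  S.stmf11_core_ws o (fun ht => S.NP_hs o ht)

/-- F16 [S-M] -/
theorem InD_ws [Finite F] {g : G} (hg : S.InD o g) : S.InD o (S.ws o 1 * g) :=
  S.stmf16_core o (fun hj hj' => S.ws_w o hj hj') (fun hn _ _ hy hp => S.NP_cell0 o hn hy hp) (S.wsws_same o) hg

end F

end SysM

end Cfsg.Agent.Lib.helper17.STM
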