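import Mathlib
import Cfsg.Agent.Lib.helper15.St2
import Cfsg.Agent.Lib.Helper24.STCI1
import Cfsg.Agent.Lib.Helper27.STU.Defs
import Cfsg.Agent.Lib.Helper27.STU.Defs2

/-!
# Project STU (block of PSU, S2291; designer helper27), rows R1, R2, R3 (helper16), VERBATIM, and J1 (core):
R1 `B_add_right B_smul_right B_sub_left B_sub_right B_zero_left B_zero_right gram1' gram0' gram_d' fr_ne_zero phi_mul_apply phi_one_apply phi_inv_apply`,
R2 `eq_one_of_Yshape`, R3 `phi_xs_fr phi_xs_snd phi_xs_ng phi_xs_dv phi_xl_fr phi_xl_ng phi_xl_dv`,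
J1 core `stuj1_core` (the statement of `Yg_fix_phi_eq_one` with the statement of R7 `Yg_col` for this `y` as a hypothesis).
-/

set_option autoImplicit false

namespace Cfsg.Agent.Lib.Helper27.STU

open Cfsg.Agent.Lib.helper15.St2 Cfsg.Agent.Lib.helper3.STC

namespace SysU

namespace Rep

variable {F : Type*} [Field F] [StarRing F] {od : Prop} {ι : Type*} {G : Type*} [Group G] {S : SysU F od ι G}
  {V : Type*} [AddCommGroup V] [Module F V] (R : S.Rep V)

/-- R1 [S]  algebra of the form and of `R.φ`. -/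
theorem B_add_right (x y z : V) : R.B x (y + z) = R.B x y + R.B x z := by
  rw [R.B_herm (y + z) x, R.B_add_left, star_add, ← R.B_herm, ← R.B_herm]

theorem B_smul_right (t : F) (x y : V) : R.B x (t • y) = star t * R.B x y := by
  rw [R.B_herm (t • y) x, R.B_smul_left, star_mul', ← R.B_herm]

theorem B_sub_left (x y z : V) : R.B (x - y) z = R.B x z - R.B y z := by
  have h := R.B_add_left (x - y) y z
  rw [sub_add_cancel] at h
  rw [h, add_sub_cancel_right]

theorem B_sub_right (x y z : V) : R.B x (y - z) = R.B x y - R.B x z := by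
  have h := R.B_add_right x (y - z) z
  rw [sub_add_cancel] at h
  rw [h, add_sub_cancel_right]

theorem B_zero_left (x : V) : R.B 0 x = 0 := by
  have h := R.B_smul_left 0 0 x
  rw [zero_smul, zero_mul] at h
  exact h

theorem B_zero_right (x : V) : R.B x 0 = 0 := by
  rw [R.B_herm 0 x, R.B_zero_left, star_zero]

theorem gram1' (a : ι ⊕ ι) : R.B (R.fr (ng a)) (R.fr a) = 1 := by
  have h := R.gram1 (ng a)
  rw [ng_ng] at h
  exact h

theorem gram0' (a : ι ⊕ ι) : R.B (R.fr a) (R.fr a) = 0 :=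
  R.gram0 a a (ne_ng a)

theorem gram_d' (a : ι ⊕ ι) : R.B (R.fr a) R.dv = 0 := by
  rw [R.B_herm R.dv (R.fr a), R.gram_d, star_zero]

theorem fr_ne_zero (a : ι ⊕ ι) : R.fr a ≠ 0 := by
  intro h
  have h1 := R.gram1 a
  rw [h, R.B_zero_left] at h1
  exact zero_ne_one h1

theorem phi_mul_apply (g g' : G) (x : V) : R.φ (g * g') x = R.φ g (R.φ g' x) := by
  rw [map_mul]
  rfl

theorem phi_one_apply (x : V) : R.φ 1 x = x := by
  rw [map_one]
  rfl

theorem phi_inv_apply {g : G} {x x' : V} (h : R.φ g x = x') : R.φ g⁻¹ x' = x := by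
  rw [← h, ← R.phi_mul_apply, inv_mul_cancel, R.phi_one_apply]

/-- R2 [S-M]  an isometry fixing `fr o` which is of the shape of an element of `Yg o` on the hyperplane `B x (fr (ng o)) = 0` is the identity (model `eq_one_of_Yshape`). -/
theorem eq_one_of_Yshape {g : G} {o : ι ⊕ ι} (h0 : R.φ g (R.fr o) = R.fr o)
    (h : ∀ x, R.B x (R.fr (ng o)) = 0 → ∃ r : F, R.φ g x = x + r • R.fr (ng o)) : R.φ g = 1 := by
  have hyp : ∀ x, R.B x (R.fr (ng o)) = 0 → R.φ g x = x := by
    intro x hx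
    obtain ⟨r, hr⟩ := h x hx
    have hi := R.iso g (R.fr o) x
    rw [h0, hr, R.B_add_right, R.B_smul_right, R.gram1, mul_one] at hi
    have hr0 : star r = 0 := by
      have := add_left_cancel (a := R.B (R.fr o) x) (b := star r) (c := 0) (by rw [add_zero]; exact hi)
      exact this
    have hr1 : r = 0 := by simpa using congrArg star hr0
    rw [hr, hr1, zero_smul, add_zero]
  apply LinearEquiv.ext
  intro x
  have hx' : R.B (x - R.B x (R.fr (ng o)) • R.fr o) (R.fr (ng o)) = 0 := by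
    rw [R.B_sub_left, R.B_smul_left, R.gram1, mul_one, sub_self]
  have h1 := hyp _ hx'
  have h2 : x = (x - R.B x (R.fr (ng o)) • R.fr o) + R.B x (R.fr (ng o)) • R.fr o := by
    rw [sub_add_cancel]
  have h3 : R.φ g x = (x - R.B x (R.fr (ng o)) • R.fr o) + R.B x (R.fr (ng o)) • R.fr o := by
    conv_lhs => rw [h2]
    rw [map_add, map_smul, h1, h0]
  rw [h3, sub_add_cancel]
  rfl

/-- R3 [S]  the root elements on the frame (`R.hxs`, `R.hxl`, the Gram relations). -/
theorem phi_xs_fr {a b : ι ⊕ ι} (hab : a ≠ b) (hab' : a ≠ ng b) (t : F) {c : ι ⊕ ι} (hcb : c ≠ b) (hca : c ≠ ng a) :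
    R.φ (S.xs a b t) (R.fr c) = R.fr c := by
  rw [R.hxs a b hab hab', R.gram0 c (ng b) (fun h => hcb (ng_inj.1 h).symm),
    R.gram0 c a (fun h => hca (by rw [h, ng_ng])), mul_zero, mul_zero, zero_smul, zero_smul, add_zero, sub_zero]

theorem phi_xs_snd {a b : ι ⊕ ι} (hab : a ≠ b) (hab' : a ≠ ng b) (t : F) : R.φ (S.xs a b t) (R.fr b) = R.fr b + t • R.fr a := by
  rw [R.hxs a b hab hab', R.gram1, R.gram0 b a hab', mul_one, mul_zero, zero_smul, sub_zero]

theorem phi_xs_ng {a b : ι ⊕ ι} (hab : a ≠ b) (hab' : a ≠ ng b) (t : F) :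
    R.φ (S.xs a b t) (R.fr (ng a)) = R.fr (ng a) - star t • R.fr (ng b) := by
  rw [R.hxs a b hab hab', R.gram1', R.gram0 (ng a) (ng b) (fun h => hab' (by rw [ng_inj.1 h, ng_ng])), mul_one, mul_zero,
    zero_smul, add_zero]

theorem phi_xs_dv {a b : ι ⊕ ι} (hab : a ≠ b) (hab' : a ≠ ng b) (t : F) : R.φ (S.xs a b t) R.dv = R.dv := by
  rw [R.hxs a b hab hab', R.gram_d, R.gram_d, mul_zero, mul_zero, zero_smul, zero_smul, add_zero, sub_zero]

theorem phi_xl_fr (a : ι ⊕ ι) (ξ : Lam F od) {c : ι ⊕ ι} (hc : c ≠ ng a) : R.φ (S.xl a ξ) (R.fr c) = R.fr c := by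
  rw [R.hxl, R.gram_d', R.gram0 c a (fun h => hc (by rw [h, ng_ng])), mul_zero, mul_zero, mul_zero, add_zero, zero_smul,
    zero_smul, add_zero, sub_zero]

theorem phi_xl_ng (a : ι ⊕ ι) (ξ : Lam F od) :
    R.φ (S.xl a ξ) (R.fr (ng a)) = R.fr (ng a) + ξ.c • R.fr a - star ξ.v • R.dv := by
  rw [R.hxl, R.gram_d', R.gram1', mul_zero, zero_add, mul_one, mul_one]

/-- (if `od` is false then `ξ.v = 0`) -/
theorem phi_xl_dv (a : ι ⊕ ι) (ξ : Lam F od) : R.φ (S.xl a ξ) R.dv = R.dv + ξ.v • R.fr a := by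
  rw [R.hxl, R.gram_d, mul_zero, mul_zero, add_zero, zero_smul, sub_zero]
  by_cases h : od
  · rw [R.gram_dd h, mul_one]
  · rw [ξ.hv h, zero_mul]

variable (o : ι ⊕ ι)

/-- J1 core: `Yg_fix_phi_eq_one` from the statement of R7 `Yg_col` for this `y` -/
theorem stuj1_core {y : G} (h : R.φ y (R.fr o) = R.fr o)
    (hcol : ∀ x, R.B x (R.fr (ng o)) = 0 → ∃ r : F, R.φ y x = x + r • R.fr (ng o)) : R.φ y = 1 :=
  R.eq_one_of_Yshape h hcol

end Rep

end SysU

end Cfsg.Agent.Lib.Helper27.STU
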