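import Mathlib
import Cfsg.Agent.Lib.Helper10.TEM.Defs
import Cfsg.Agent.Lib.helper8.ChevTw7
import Cfsg.Agent.Lib.helper8.ChevOrd

/-!
# Project TEM = S2191 (designer helper10), row C2 (helper16): `comm_pairs` VERBATIM: every element of `UPsi K L` commutes with the root subgroup of `a`
for the pairs `(L, a)` of `commPairs`.  With an own-name copy `temc2_comm_of_terms` of the statement of C1 `comm_of_terms` (closure induction,
`h8xU_commute`, `h8xU_add`) and a `decide +kernel` certificate on `commPairs`.
-/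

set_option autoImplicit false

namespace Cfsg.Agent.Lib.Helper10.TEM

open Cfsg.Lie Cfsg.Lie.ChevalleyDatum Matrix
open Cfsg.Agent.Lib.helper8

universe u

variable {K : Type u} [Field K] {q : ℕ} {f : K ≃+* K} {M H : Subgroup (GG K)}

/-- own-name copy of the statement of C1 `comm_of_terms` -/
theorem temc2_comm_of_terms (L : List ℕ) (a : ℕ) (ha : a < 72)
    (h : ∀ r ∈ L, r < 72 ∧ (r = a ∨ (r ≠ 71 - a ∧ chevE6.commTerms a r = [])))
    (g : GG K) (hg : g ∈ UPsi K L) (c : K) : Commute g (X a c) := by
  have hn : chevE6.nroots = 72 := by decide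
  have hneg : chevE6.negIdx.getD a 0 = 71 - a := ((root_data a ha).2.1)
  unfold UPsi at hg
  induction hg using Subgroup.closure_induction with
  | mem x hx =>
    obtain ⟨r, hr, t, rfl⟩ := hx
    obtain ⟨hr72, hra | ⟨hra, hterms⟩⟩ := h r hr
    · subst hra
      show h8xU chevE6 hB r t * h8xU chevE6 hB r c = h8xU chevE6 hB r c * h8xU chevE6 hB r t
      rw [h8xU_add chevE6 hB r (by rw [hn]; exact hr72), h8xU_add chevE6 hB r (by rw [hn]; exact hr72), add_comm]
    · by_cases hra' : r = a
      · subst hra'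
        show h8xU chevE6 hB r t * h8xU chevE6 hB r c = h8xU chevE6 hB r c * h8xU chevE6 hB r t
        rw [h8xU_add chevE6 hB r (by rw [hn]; exact hr72), h8xU_add chevE6 hB r (by rw [hn]; exact hr72), add_comm]
      · have := h8xU_commute (K := K) chevE6 hB hC a r (by rw [hn]; exact ha) (by rw [hn]; exact hr72) hra'
          (by rw [hneg]; exact hra) hterms c t
        exact this.symm
  | one => exact Commute.one_left _
  | mul x y _ _ hx hy => exact hx.mul_left hy
  | inv x _ hx => exact hx.inv_left

set_option synthInstance.maxSize 1024 in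
theorem temc2_cert : ∀ p ∈ commPairs, p.2 < 72 ∧
    ∀ r ∈ p.1, r < 72 ∧ (r = p.2 ∨ (r ≠ 71 - p.2 ∧ chevE6.commTerms p.2 r = [])) := by
  decide +kernel

-- ROW C2  [S]  C1 + `decide +kernel` on `commPairs`.
theorem comm_pairs (L : List ℕ) (a : ℕ) (h : (L, a) ∈ commPairs) (g : GG K) (hg : g ∈ UPsi K L)
    (c : K) : Commute g (X a c) := by
  obtain ⟨ha, hL⟩ := temc2_cert (L, a) h
  exact temc2_comm_of_terms L a ha hL g hg c

end Cfsg.Agent.Lib.Helper10.TEM
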