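import Mathlib
import Cfsg.Agent.Lib.Helper10.TEM.Defs
import Cfsg.Agent.Lib.helper8.ChevTwQ6

/-!
# Project TEM = S2191 (designer helper10), row C6 (helper16): `nW_X` VERBATIM: conjugation of a root element by a product of the `n_{α_i}(1)`
(`h8actS_word` of helper8's `ChevTwQ6`, and the inverse form).
-/

set_option autoImplicit false

namespace Cfsg.Agent.Lib.Helper10.TEM

open Cfsg.Lie Cfsg.Lie.ChevalleyDatum Matrix
open Cfsg.Agent.Lib.helper8

universe u

variable {K : Type u} [Field K] {q : ℕ} {f : K ≃+* K} {M H : Subgroup (GG K)}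

theorem temc6_rank : chevE6.rank = 6 := by decide

theorem temc6_nroots : chevE6.nroots = 72 := by decide

-- ROW C6  [S]  `h8actS_word` (ChevTwQ6) and its inverse form (`ε⁻¹ = ε`).
theorem nW_X (w : List ℕ) (hw : ∀ i ∈ w, i < 6) (r : ℕ) (hr : r < 72) :
    ∃ ε : K, (ε = 1 ∨ ε = -1) ∧
      (∀ t : K, nW w * X r t * (nW w)⁻¹ = X (h8sW chevE6 w r) (ε * t)) ∧
      ∀ t : K, (nW w)⁻¹ * X (h8sW chevE6 w r) t * nW w = X r (ε * t) := by
  have hw' : ∀ i ∈ w, i < chevE6.rank := by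
    intro i hi
    rw [temc6_rank]
    exact hw i hi
  have hr' : r < chevE6.nroots := by
    rw [temc6_nroots]
    exact hr
  obtain ⟨ε, hε, h1⟩ := h8actS_word (K := K) chevE6 hB hA w hw' r hr'
  have hεε : ε * ε = 1 := by
    rcases hε with rfl | rfl
    · rw [mul_one]
    · rw [neg_mul_neg, mul_one]
  refine ⟨ε, hε, fun t => h1 t, fun t => ?_⟩
  have h2 := h1 (ε * t)
  rw [← mul_assoc, hεε, one_mul] at h2
  show (h8nWU chevE6 hB w)⁻¹ * h8xU chevE6 hB (h8sW chevE6 w r) t * h8nWU chevE6 hB w = h8xU chevE6 hB r (ε * t)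
  rw [← h2]
  group

end Cfsg.Agent.Lib.Helper10.TEM
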