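import Mathlib
import Cfsg.Agent.Lib.helper23.TD4V.Defs
import Cfsg.Agent.Lib.helper8.ChevCent2

/-!
# TD4V row E3 (helper16): `nb_mem_Pp`

`nb = iota W 1` with `W = !![0, 1; -1, 0]`; the special value `iota_W` of row I3 is proved here under the own name
`td4ve3_iota_W` so that the row does not wait for I3.
-/

set_option autoImplicit false

namespace Cfsg.Agent.Lib.helper23.TD4V

open Cfsg.Lie Cfsg.Lie.ChevalleyDatum Matrix
open Cfsg.Agent.Lib.helper8 Cfsg.Agent.Lib.helper8.TD4
open Cfsg.Agent.Lib.helper23.P4V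

universe u

section E3

variable {F K : Type u} [Field F] [Field K] [Fintype F] [Fintype K] (j : F →+* K) (q : ℕ)

/-- `hJ hB q 1 = 1` -/
theorem td4ve3_hJ_one : (hJ hB q (1 : K) : GG K) = 1 := by
  unfold hJ
  rw [one_pow, one_pow, h8hU_one, h8hU_one, h8hU_one, one_mul, one_mul]

/-- the statement of `iota_W` (row I3) under an own name -/
theorem td4ve3_iota_W (A : GL (Fin 2) F) (hA : (A : M2 F) = !![0, 1; -1, 0]) :
    iota j q A 1 = (nb : GG K) := by
  unfold iota
  rw [td4ve3_hJ_one, mul_one]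
  have h : Matrix.SpecialLinearGroup.map j (sl2of A) =
      (h8slW : Matrix.SpecialLinearGroup (Fin 2) K) := by
    apply Subtype.ext
    rw [Matrix.SpecialLinearGroup.map_apply_coe, sl2of_val, hA, h8slW_val]
    ext a b
    fin_cases a <;> fin_cases b <;>
      simp [Matrix.det_fin_two, Matrix.mul_apply, Fin.sum_univ_two, RingHom.mapMatrix_apply]
  rw [h, phiB_W]

/-- **E3** [S] -/
theorem nb_mem_Pp : (nb : GG K) ∈ Pp j q := by
  have hdet : (!![0, 1; -1, 0] : M2 F).det ≠ 0 := by
    simp [Matrix.det_fin_two]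
  refine Subgroup.subset_closure (Or.inl ⟨mk2 !![0, 1; -1, 0] hdet, 1, one_ne_zero, ?_, ?_⟩)
  · rw [mk2_val]
    unfold Nm
    simp [Matrix.det_fin_two]
  · exact (td4ve3_iota_W j q _ (mk2_val _ hdet)).symm

end E3

end Cfsg.Agent.Lib.helper23.TD4V
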