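import Mathlib
import Cfsg.Prelude.Def_ChevStructure
import Cfsg.Prelude.Def_LieTwisted
import Cfsg.Agent.Lib.helper8.TD4.Defs
import Cfsg.Agent.Lib.helper8.ChevBaseAll
import Cfsg.Agent.Lib.helper8.ChevCommAll
import Cfsg.Agent.Lib.helper8.ChevReflAll
import Cfsg.Agent.Lib.helper8.ChevTwD4
import Cfsg.Agent.Lib.helper8.ChevTwD4H
import Cfsg.Agent.Lib.helper8.ChevTwD4P
import Cfsg.Agent.Lib.helper8.ChevTwH2
import Cfsg.Agent.Lib.helper8.ChevTw8

/-!
# Project TD4 (designer helper8), row C1: `x0_mem`.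

The generator `x0 = h_J(t) n_β⁻¹ x_β(τ)` lies in `twistedD4 K q`.
-/

set_option autoImplicit false

namespace Cfsg.Agent.Lib.helper8.TD4

open Cfsg.Lie Cfsg.Lie.ChevalleyDatum Cfsg.Agent.Lib.helper8 Matrix

universe u v

/-- the torus element `h_J(t)` lies in the twisted group -/
theorem td4c1_hJ_mem {K : Type u} [Field K] [Fintype K] (hB : H8Base.{u} chevD4) (q : ℕ)
    (hq : IsPrimePow q) (hK : Fintype.card K = q ^ 3) (t : K) (ht : t ≠ 0) :
    hJ hB q t ∈ twistedD4 K q := by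
  have hD : chevD4 ∈ [chevG2, chevB2, chevD4, chevF4, chevE6, chevE7, chevE8] := by simp
  have hC := h8commAll.{u} chevD4 hD
  obtain ⟨f, hf, hfff3, hneg⟩ := h8frob_exists hq 3 (by norm_num) hK
  have hf2 : ∀ t : K, t ^ (q ^ 2) = f (f t) := fun t => by rw [hf, hf, ← pow_mul, sq]
  have hx3 : ∀ p ∈ [(18, 13, 12), (5, 10, 11)], ∀ t : K,
      h8xU chevD4 hB p.1 t * h8xU chevD4 hB p.2.1 (f t) * h8xU chevD4 hB p.2.2 (f (f t)) ∈
        twistedD4 K q := by
    intro p hp t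
    rw [← hf2, hf]
    exact h8twD4_x3 hB q p.1 p.2.1 p.2.2 hp t
  have hhJ : ∀ c : K, c ≠ 0 → h8hU chevD4 hB 18 c * h8hU chevD4 hB 13 (f c) *
      h8hU chevD4 hB 12 (f (f c)) ∈ twistedD4 K q := by
    obtain ⟨h1, h2, h3, h4, h5, h6, h7⟩ := h8pD4_tor (18, 13, 12) (by simp)
    dsimp only at h1 h2 h3 h4 h5 h6 h7
    have hcm : ∀ x ∈ [(18, 13), (18, 12), (13, 12)],
        ∀ a ∈ [x.1, chevD4.negIdx.getD x.1 0], ∀ b ∈ [x.2, chevD4.negIdx.getD x.2 0],
        ∀ t u : K, Commute (h8xU chevD4 hB a t) (h8xU chevD4 hB b u) := by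
      intro x hx a ha b hb t u
      obtain ⟨k1, k2, k3, k4, k5⟩ := h4 x hx a ha b hb
      exact h8xU_commute chevD4 hB hC a b k2 k3 k4 k5 k1 t u
    have c12 := hcm (18, 13) (by simp)
    have c13 := hcm (18, 12) (by simp)
    have c23 := hcm (13, 12) (by simp)
    dsimp only at c12 c13 c23
    have hP := hx3 (18, 13, 12) (by simp)
    have hM := hx3 _ h7
    dsimp only at hP hM
    exact h8tw_hJ3_mem chevD4 hB (twistedD4 K q) f 18 13 12 c12 c13 c23 hP hM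
  have h := hhJ t ht
  rw [← hf2, hf] at h
  exact h

/-- the Weyl representative `n_β(1)` lies in the twisted group -/
theorem td4c1_n_mem {K : Type u} [Field K] [Fintype K] (hB : H8Base.{u} chevD4) (q : ℕ)
    (hq : IsPrimePow q) (hK : Fintype.card K = q ^ 3) :
    h8nU chevD4 hB 14 (1 : K) ∈ twistedD4 K q := by
  obtain ⟨f, hf, hfff3, hneg⟩ := h8frob_exists hq 3 (by norm_num) hK
  obtain ⟨s0, s1, s2, s3, n0, n1, n2, n3⟩ := h8twD4_simdata
  have h1q : (1 : K) ^ q = 1 := one_pow q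
  rw [h8nU_one_eq, n1]
  exact Subgroup.mul_mem _ (Subgroup.mul_mem _ (h8twD4_x1 hB q 14 (by simp) 1 h1q)
    (h8twD4_x1 hB q 9 (by simp) (-1) hneg)) (h8twD4_x1 hB q 14 (by simp) 1 h1q)

/-- C1: the generator `x0` lies in the twisted group. -/
theorem x0_mem {K : Type u} [Field K] [Fintype K] (hB : H8Base.{u} chevD4) (q : ℕ) (hq : IsPrimePow q)
    (hK : Fintype.card K = q ^ 3) (t τ : K) (ht : t ≠ 0) (hτ : τ ^ q = τ) :
    x0 hB q t τ ∈ twistedD4 K q := by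
  unfold x0
  exact Subgroup.mul_mem _ (Subgroup.mul_mem _ (td4c1_hJ_mem hB q hq hK t ht)
    (Subgroup.inv_mem _ (td4c1_n_mem hB q hq hK))) (h8twD4_x1 hB q 14 (by simp) τ hτ)

end Cfsg.Agent.Lib.helper8.TD4
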