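import Mathlib
import Cfsg.Agent.Lib.helper23.TD4V.Defs
import Cfsg.Agent.Lib.Helper16.TD4C1
import Cfsg.Agent.Lib.helper8.ChevSt27

/-!
# TD4V row M3 (helper16): `hJ_mem`, `hJ_mul`

`hJ_mul` carries the two hypotheses `s ≠ 0`, `t ≠ 0`: without them the Skel's statement is false (`h8hU r 0 = n_r(-1)` is not `1`).
-/

set_option autoImplicit false

namespace Cfsg.Agent.Lib.helper23.TD4V

open Cfsg.Lie Cfsg.Lie.ChevalleyDatum Matrix
open Cfsg.Agent.Lib.helper8 Cfsg.Agent.Lib.helper8.TD4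
open Cfsg.Agent.Lib.helper23.P4V

universe u

section M

variable {K : Type u} [Field K] [Fintype K] (q : ℕ)

/-- the torus elements commute -/
theorem td4vm3_hU_comm (r s : ℕ) (hr : r < chevD4.nroots) (hs : s < chevD4.nroots) (a b : K)
    (ha : a ≠ 0) (hb : b ≠ 0) :
    Commute (h8hU chevD4 hB r a) (h8hU chevD4 hB s b) := by
  unfold Commute SemiconjBy
  apply Units.ext
  rw [Units.val_mul, Units.val_mul, h8hU_val, h8hU_val, hB.hdiag K r hr a ha, hB.hdiag K s hs b hb,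
    Matrix.diagonal_mul_diagonal, Matrix.diagonal_mul_diagonal]
  congr 1
  funext c
  exact mul_comm _ _

/-- **M3** -/
theorem hJ_mem (hq : IsPrimePow q) (hK : Fintype.card K = q ^ 3) (t : K) (ht : t ≠ 0) :
    hJ hB q t ∈ twistedD4 K q ∧ hJ hB q t ∈ LK K := by
  refine ⟨td4c1_hJ_mem hB q hq hK t ht, ?_⟩
  have hH : hJ hB q t ∈ chevD4.diagonalSubgroup K := by
    unfold hJ
    exact Subgroup.mul_mem _ (Subgroup.mul_mem _
      (h8hU_mem_H chevD4 hB 18 (by decide) t ht)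
      (h8hU_mem_H chevD4 hB 13 (by decide) _ (pow_ne_zero _ ht)))
      (h8hU_mem_H chevD4 hB 12 (by decide) _ (pow_ne_zero _ ht))
  exact Subgroup.mem_sup_left hH

theorem hJ_mul (s t : K) (hs : s ≠ 0) (ht : t ≠ 0) :
    hJ hB q (s * t) = hJ hB q s * hJ hB q t := by
  unfold hJ
  rw [mul_pow, mul_pow,
    ← h8hU_mul chevD4 hB 18 (by decide) s t hs ht,
    ← h8hU_mul chevD4 hB 13 (by decide) (s ^ q) (t ^ q) (pow_ne_zero _ hs) (pow_ne_zero _ ht),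
    ← h8hU_mul chevD4 hB 12 (by decide) (s ^ q ^ 2) (t ^ q ^ 2) (pow_ne_zero _ hs)
      (pow_ne_zero _ ht)]
  have c1 := td4vm3_hU_comm (K := K) 18 13 (by decide) (by decide) t (s ^ q) ht (pow_ne_zero _ hs)
  have c2 := td4vm3_hU_comm (K := K) 18 12 (by decide) (by decide) t (s ^ q ^ 2) ht
    (pow_ne_zero _ hs)
  have c3 := td4vm3_hU_comm (K := K) 13 12 (by decide) (by decide) (t ^ q) (s ^ q ^ 2)
    (pow_ne_zero _ ht) (pow_ne_zero _ hs)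
  -- (a s)(b s')(c s'') with a = h18 s, a' = h18 t, ...
  calc h8hU chevD4 hB 18 s * h8hU chevD4 hB 18 t * (h8hU chevD4 hB 13 (s ^ q) * h8hU chevD4 hB 13 (t ^ q)) *
        (h8hU chevD4 hB 12 (s ^ q ^ 2) * h8hU chevD4 hB 12 (t ^ q ^ 2))
      = h8hU chevD4 hB 18 s * (h8hU chevD4 hB 18 t * h8hU chevD4 hB 13 (s ^ q)) * h8hU chevD4 hB 13 (t ^ q) *
        (h8hU chevD4 hB 12 (s ^ q ^ 2) * h8hU chevD4 hB 12 (t ^ q ^ 2)) := by group
    _ = h8hU chevD4 hB 18 s * (h8hU chevD4 hB 13 (s ^ q) * h8hU chevD4 hB 18 t) * h8hU chevD4 hB 13 (t ^ q) *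
        (h8hU chevD4 hB 12 (s ^ q ^ 2) * h8hU chevD4 hB 12 (t ^ q ^ 2)) := by rw [c1.eq]
    _ = h8hU chevD4 hB 18 s * h8hU chevD4 hB 13 (s ^ q) * h8hU chevD4 hB 18 t *
        (h8hU chevD4 hB 13 (t ^ q) * h8hU chevD4 hB 12 (s ^ q ^ 2)) * h8hU chevD4 hB 12 (t ^ q ^ 2) := by group
    _ = h8hU chevD4 hB 18 s * h8hU chevD4 hB 13 (s ^ q) * h8hU chevD4 hB 18 t *
        (h8hU chevD4 hB 12 (s ^ q ^ 2) * h8hU chevD4 hB 13 (t ^ q)) * h8hU chevD4 hB 12 (t ^ q ^ 2) := by rw [c3.eq]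
    _ = h8hU chevD4 hB 18 s * h8hU chevD4 hB 13 (s ^ q) * (h8hU chevD4 hB 18 t *
        h8hU chevD4 hB 12 (s ^ q ^ 2)) * h8hU chevD4 hB 13 (t ^ q) * h8hU chevD4 hB 12 (t ^ q ^ 2) := by group
    _ = h8hU chevD4 hB 18 s * h8hU chevD4 hB 13 (s ^ q) * (h8hU chevD4 hB 12 (s ^ q ^ 2) *
        h8hU chevD4 hB 18 t) * h8hU chevD4 hB 13 (t ^ q) * h8hU chevD4 hB 12 (t ^ q ^ 2) := by rw [c2.eq]
    _ = h8hU chevD4 hB 18 s * h8hU chevD4 hB 13 (s ^ q) * h8hU chevD4 hB 12 (s ^ q ^ 2) *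
        (h8hU chevD4 hB 18 t * h8hU chevD4 hB 13 (t ^ q) * h8hU chevD4 hB 12 (t ^ q ^ 2)) := by group

end M

end Cfsg.Agent.Lib.helper23.TD4V
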