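import Mathlib
import Cfsg.Prelude.Def_ChevStructure
import Cfsg.Prelude.Def_LieTwisted
import Cfsg.Agent.Lib.helper8.TD4.Defs
import Cfsg.Agent.Lib.helper8.ChevBaseAll
import Cfsg.Agent.Lib.helper8.ChevCommAll
import Cfsg.Agent.Lib.helper8.ChevReflAll
import Cfsg.Agent.Lib.helper8.ChevTwD4

/-!
# Project TD4 (designer helper8), row F1: `fix_E`.

The image of `twistedD4 K q` in `GL(Idx, E)` (entrywise by `ι : K →+* E`) is fixed pointwise by the
twisted Frobenius `Fr hA f` of the big field (`f x = x ^ q` on `E`).  Copy of the proof of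
`h8twD4_fix` with parameters `ι t`.
-/

set_option autoImplicit false

namespace Cfsg.Agent.Lib.helper8.TD4

open Cfsg.Lie Cfsg.Lie.ChevalleyDatum Cfsg.Agent.Lib.helper8 Matrix

universe u v

/-- the version with the commutation data as a hypothesis -/
theorem td4f1_core {K : Type u} {E : Type v} [Field K] [Fintype K] [Field E]
    (hBK : H8Base.{u} chevD4) (hBE : H8Base.{v} chevD4) (hC : H8CommAll.{v} chevD4)
    (hA : H8ReflAll chevD4) (ι : K →+* E) (q : ℕ)
    (hK : Fintype.card K = q ^ 3) (f : E ≃+* E) (hf : ∀ x, f x = x ^ q) :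
    ∀ g ∈ twistedD4 K q, Fr hA f (h8Psi chevD4 ι g) = h8Psi chevD4 ι g := by
  intro g hg
  unfold twistedD4 ChevalleyDatum.genSubgroup at hg
  induction hg using Subgroup.closure_induction with
  | mem x hx =>
    obtain ⟨w, hw, hxw⟩ := hx
    have hx' : x = h8wordU chevD4 hBK w :=
      Units.ext (hxw.trans (h8wordU_val chevD4 hBK w).symm)
    rw [hx', h8Psi_wordU chevD4 hBK hBE]
    unfold Fr
    rcases hw with ⟨t, ht, r, hr, rfl⟩ | ⟨t, rs, hrs, rfl⟩
    · obtain ⟨h1, h2, h3⟩ := h8twD4_fixdata.1 r (by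
        simp only [d4p2, d4m2] at hr
        exact hr)
      simp only [List.map_cons, List.map_nil]
      rw [h8wordU_one]
      exact h8Sig_fix1 chevD4 _ _ _ _ _ (h8autD4 hA) f hBE r h1 h2 h3 (ι t)
        (by rw [hf, ← map_pow, ht])
    · have hrs' : (rs.1, rs.2.1, rs.2.2) ∈ [(18, 13, 12), (5, 10, 11)] := by
        simp only [d4p1, d4p3, d4p4, d4m1, d4m3, d4m4] at hrs
        exact hrs
      obtain ⟨h1, h2, h3, h4, h5, h6, h7, h8, h9⟩ :=
        h8twD4_fixdata.2 (rs.1, rs.2.1, rs.2.2) hrs'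
      have e1 : ι (t ^ q) = f (ι t) := by rw [hf, map_pow]
      have e2 : ι (t ^ (q ^ 2)) = f (f (ι t)) := by rw [hf, hf, ← pow_mul, ← sq, map_pow]
      have e3 : f (f (f (ι t))) = ι t := by
        have h := FiniteField.pow_card t
        rw [hK] at h
        rw [hf, hf, hf, ← pow_mul, ← pow_mul, ← map_pow]
        have e : q * (q * q) = q ^ 3 := by ring
        rw [e, h]
      simp only [List.map_cons, List.map_nil]
      rw [h8wordU_three, e1, e2]
      refine h8Sig_fix3 chevD4 _ _ _ _ _ (h8autD4 hA) f hBE rs.1 rs.2.1 rs.2.2 h1 h2 h3 h4 h5 h6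
        h7 h8 h9 ?_ ?_ (ι t) e3
      · intro a b
        apply h8twD4_commute hBE hC
        simp only [List.mem_cons, List.not_mem_nil, or_false, Prod.mk.injEq] at hrs' ⊢
        rcases hrs' with ⟨h, h', _⟩ | ⟨h, h', _⟩ <;> simp [h, h']
      · intro a b
        apply h8twD4_commute hBE hC
        simp only [List.mem_cons, List.not_mem_nil, or_false, Prod.mk.injEq] at hrs' ⊢
        rcases hrs' with ⟨h, _, h'⟩ | ⟨h, _, h'⟩ <;> simp [h, h']
  | one => rw [map_one, map_one]
  | mul a b _ _ ha hb => rw [map_mul, map_mul, ha, hb]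
  | inv a _ ha => rw [map_inv, map_inv, ha]

/-- F1: the twisted group over `K` is fixed by the twisted Frobenius of the big field `E`. -/
theorem fix_E {K : Type u} {E : Type v} [Field K] [Fintype K] [Field E] (hBK : H8Base.{u} chevD4)
    (hBE : H8Base.{v} chevD4) (hA : H8ReflAll chevD4) (ι : K →+* E) (q : ℕ)
    (hK : Fintype.card K = q ^ 3) (f : E ≃+* E) (hf : ∀ x, f x = x ^ q) :
    ∀ g ∈ twistedD4 K q, Fr hA f (h8Psi chevD4 ι g) = h8Psi chevD4 ι g := by
  have hD : chevD4 ∈ [chevG2, chevB2, chevD4, chevF4, chevE6, chevE7, chevE8] := by simp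
  exact td4f1_core hBK hBE (h8commAll.{v} chevD4 hD) hA ι q hK f hf

end Cfsg.Agent.Lib.helper8.TD4
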