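import Mathlib
import Cfsg.Agent.Lib.helper23.TD4V.Defs

/-!
# TD4V row E6 (helper16), core: `X0_not_mem_PK_core` (the statement of U1 `PK_upper` as hypothesis)
-/

set_option autoImplicit false

namespace Cfsg.Agent.Lib.helper23.TD4V

open Cfsg.Lie Cfsg.Lie.ChevalleyDatum Matrix
open Cfsg.Agent.Lib.helper8 Cfsg.Agent.Lib.helper8.TD4
open Cfsg.Agent.Lib.helper23.P4V

universe u

section E6

variable {K : Type u} [Field K]

/-- the entry `(h_{α₁}, e_ρ)` of `x_{-ρ}(1)` is `-1` -/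
theorem td4ve6_X0_entry :
    ((X 0 1 : GG K) : Matrix chevD4.Idx chevD4.Idx K)
      (Sum.inl ⟨0, by decide⟩) (Sum.inr ⟨23, by decide⟩) = -1 := by
  have hr : 0 < chevD4.nroots := by decide
  show chevD4.x K 0 1 (Sum.inl ⟨0, by decide⟩) (Sum.inr ⟨23, by decide⟩) = -1
  unfold ChevalleyDatum.x
  rw [dif_pos hr]
  unfold ChevalleyDatum.xMat
  rw [Matrix.of_apply]
  have hne : (⟨23, by decide⟩ : Fin chevD4.nroots) ≠ ⟨0, hr⟩ := by
    intro h
    exact absurd (Fin.mk.inj_iff.1 h) (by decide)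
  have hneg : (⟨23, by decide⟩ : Fin chevD4.nroots).val =
      chevD4.negIdx.getD (⟨0, hr⟩ : Fin chevD4.nroots).val 0 := by
    show 23 = chevD4.negIdx.getD 0 0
    decide
  simp only [if_neg hne, if_pos hneg]
  have hc : (chevD4.coroot.getD 0 #[]).getD 0 0 = -1 := by
    decide
  show (((chevD4.coroot.getD 0 #[]).getD 0 0 : ℤ) : K) * 1 = -1
  rw [hc]
  norm_num

theorem td4ve6_dg_lt : dg (Sum.inl ⟨0, by decide⟩) < dg (Sum.inr ⟨23, by decide⟩) := by
  decide

/-- **E6 core**: the statement of U1 (`PK_upper`) as a hypothesis. -/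
theorem X0_not_mem_PK_core
    (hU1 : ∀ (g : GG K), g ∈ PK K → ∀ (i j : chevD4.Idx), dg i < dg j →
      (g : Matrix chevD4.Idx chevD4.Idx K) i j = 0) :
    (X 0 1 : GG K) ∉ PK K := by
  intro h
  have h0 := hU1 _ h _ _ td4ve6_dg_lt
  rw [td4ve6_X0_entry] at h0
  exact one_ne_zero (neg_eq_zero.1 h0)

end E6

end Cfsg.Agent.Lib.helper23.TD4V
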