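import Mathlib
import Cfsg.Agent.Lib.helper23.TD4V.Defs
import Cfsg.Agent.Lib.Helper16.TD4VE6core
import Cfsg.Agent.Lib.helper4.TD4VU1

/-!
# TD4V row E6 (helper16): `X0_not_mem_PK` (verbatim; core + helper4's U1 `PK_upper`)
-/

set_option autoImplicit false

namespace Cfsg.Agent.Lib.helper23.TD4V

open Cfsg.Lie Cfsg.Lie.ChevalleyDatum Matrix
open Cfsg.Agent.Lib.helper8 Cfsg.Agent.Lib.helper8.TD4
open Cfsg.Agent.Lib.helper23.P4V

universe u

section E6

variable {F K : Type u} [Field F] [Field K] [Fintype F] [Fintype K] (j : F →+* K) (q : ℕ)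

/-- **E6** [M] -/
theorem X0_not_mem_PK : (X 0 1 : GG K) ∉ PK K :=
  X0_not_mem_PK_core PK_upper

end E6

end Cfsg.Agent.Lib.helper23.TD4V
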