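import Mathlib
import Cfsg.Agent.Lib.helper23.TD4V.Defs
import Cfsg.Agent.Lib.helper8.ChevTwD4S

/-!
# TD4V row E7 (helper16), core: `exists_conj_not_mem_Pp_core`

The statements of the rows it cites (M2 `Xlong_mem_Qm` at `r = 0`, `c = 1`; Q5 `Pp_le_PK`; E6 `X0_not_mem_PK`) enter as hypotheses.
-/

set_option autoImplicit false

namespace Cfsg.Agent.Lib.helper23.TD4V

open Cfsg.Lie Cfsg.Lie.ChevalleyDatum Matrix
open Cfsg.Agent.Lib.helper8 Cfsg.Agent.Lib.helper8.TD4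
open Cfsg.Agent.Lib.helper23.P4V

universe u

section E7

variable {F K : Type u} [Field F] [Field K] [Fintype F] [Fintype K] (j : F →+* K) (q : ℕ)

/-- E7 with `X 0 1 ∈ G`, `X 0 1 ∉ Pp` as hypotheses -/
theorem td4ve7_aux (hq : IsPrimePow q) (hK : Fintype.card K = q ^ 3)
    (hX : (X 0 1 : GG K) ∈ twistedD4 K q) (hnot : (X 0 1 : GG K) ∉ Pp j q)
    (g : GG K) (hg : g ∈ twistedD4 K q) (h1 : g ≠ 1) :
    ∃ y ∈ twistedD4 K q, y * g * y⁻¹ ∉ Pp j q := by
  have hsimp : IsSimpleGroup ↥(twistedD4 K q) := (h8twD4_simple hq hK).1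
  by_contra hcon
  push Not at hcon
  have hC : ((Pp j q).subgroupOf (twistedD4 K q)).normalCore = ⊥ ∨
      ((Pp j q).subgroupOf (twistedD4 K q)).normalCore = ⊤ :=
    (Subgroup.normalCore_normal _).eq_bot_or_eq_top
  have hgC : (⟨g, hg⟩ : ↥(twistedD4 K q)) ∈
      ((Pp j q).subgroupOf (twistedD4 K q)).normalCore := by
    intro b
    rw [Subgroup.mem_subgroupOf]
    exact hcon b.1 b.2
  rcases hC with hC | hC
  · rw [hC, Subgroup.mem_bot] at hgC
    apply h1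
    exact congrArg Subtype.val hgC
  · have hmem : (⟨X 0 1, hX⟩ : ↥(twistedD4 K q)) ∈
        ((Pp j q).subgroupOf (twistedD4 K q)).normalCore := by
      rw [hC]
      exact Subgroup.mem_top _
    have h2 := Subgroup.normalCore_le _ hmem
    rw [Subgroup.mem_subgroupOf] at h2
    exact hnot h2

/-- **E7 core**: the statements of M2 (`Xlong_mem_Qm`), Q5 (`Pp_le_PK`) and E6 (`X0_not_mem_PK`) as hypotheses. -/
theorem exists_conj_not_mem_Pp_core
    (hM2 : ∀ (r : ℕ), r ∈ [1, 0] → ∀ (c : K), c ^ q = c → X r c ∈ Qm K q)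
    (hQ5 : Pp j q ≤ PK K) (hE6 : (X 0 1 : GG K) ∉ PK K)
    (hq : IsPrimePow q) (hF : Fintype.card F = q)
    (hK : Fintype.card K = q ^ 3) (g : GG K) (hg : g ∈ twistedD4 K q) (h1 : g ≠ 1) :
    ∃ y ∈ twistedD4 K q, y * g * y⁻¹ ∉ Pp j q := by
  have hX : (X 0 1 : GG K) ∈ twistedD4 K q :=
    (hM2 0 (by simp) 1 (one_pow q)).2
  exact td4ve7_aux j q hq hK hX (fun h => hE6 (hQ5 h)) g hg h1

end E7

end Cfsg.Agent.Lib.helper23.TD4V
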