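import Mathlib
import Cfsg.Agent.Lib.helper23.TD4V.Defs
import Cfsg.Agent.Lib.Helper16.TD4VE7core
import Cfsg.Agent.Lib.Helper16.TD4VE6
import Cfsg.Agent.Lib.Helper9.TD4VM2
import Cfsg.Agent.Lib.Helper9.TD4VI4

/-!
# TD4V row E7 (helper16): `exists_conj_not_mem_Pp` (verbatim; core + Helper9's M2 `Xlong_mem_Qm`, Q5 `Pp_le_PK`, my E6 `X0_not_mem_PK`)
-/

set_option autoImplicit false

namespace Cfsg.Agent.Lib.helper23.TD4V

open Cfsg.Lie Cfsg.Lie.ChevalleyDatum Matrix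
open Cfsg.Agent.Lib.helper8 Cfsg.Agent.Lib.helper8.TD4
open Cfsg.Agent.Lib.helper23.P4V

universe u

section E7

variable {F K : Type u} [Field F] [Field K] [Fintype F] [Fintype K] (j : F →+* K) (q : ℕ)

/-- **E7** [M] -/
theorem exists_conj_not_mem_Pp (hq : IsPrimePow q) (hF : Fintype.card F = q)
    (hK : Fintype.card K = q ^ 3) (g : GG K) (hg : g ∈ twistedD4 K q) (h1 : g ≠ 1) :
    ∃ y ∈ twistedD4 K q, y * g * y⁻¹ ∉ Pp j q :=
  exists_conj_not_mem_Pp_core j q (fun r hr c hc => Xlong_mem_Qm q hq hK r hr c hc)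
    (Pp_le_PK j q hq hF hK) X0_not_mem_PK hq hF hK g hg h1

end E7

end Cfsg.Agent.Lib.helper23.TD4V
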