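import Mathlib
import Cfsg.Agent.Lib.helper23.TD4V.Defs
import Cfsg.Agent.Lib.Helper16.TD4VE3

/-!
# TD4V row I3 (helper16): special values of `iota`
-/

set_option autoImplicit false

namespace Cfsg.Agent.Lib.helper23.TD4V

open Cfsg.Lie Cfsg.Lie.ChevalleyDatum Matrix
open Cfsg.Agent.Lib.helper8 Cfsg.Agent.Lib.helper8.TD4
open Cfsg.Agent.Lib.helper23.P4V

universe u

section I

variable {F K : Type u} [Field F] [Field K] [Fintype F] [Fintype K] (j : F →+* K) (q : ℕ)

/-- the determinant of an element of `GL₂(F)` is nonzero -/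
theorem td4vi3_det_ne (A : GL (Fin 2) F) : (A : M2 F).det ≠ 0 := by
  have := A.isUnit.map (Matrix.detMonoidHom (n := Fin 2) (R := F))
  exact this.ne_zero

/-- **I3** -/
theorem iota_upper (A : GL (Fin 2) F) (c : F) (hA : (A : M2 F) = !![1, c; 0, 1]) :
    iota j q A 1 = X 14 (j c) := by
  unfold iota
  rw [td4ve3_hJ_one, mul_one]
  have h : Matrix.SpecialLinearGroup.map j (sl2of A) =
      (h8slU (j c) : Matrix.SpecialLinearGroup (Fin 2) K) := by
    apply Subtype.ext
    rw [Matrix.SpecialLinearGroup.map_apply_coe, sl2of_val, hA, h8slU_val]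
    ext a b
    fin_cases a <;> fin_cases b <;>
      simp [Matrix.det_fin_two, Matrix.mul_apply, Fin.sum_univ_two, RingHom.mapMatrix_apply]
  rw [h, phiB_U]

theorem iota_lower (A : GL (Fin 2) F) (c : F) (hA : (A : M2 F) = !![1, 0; c, 1]) :
    iota j q A 1 = X 9 (j c) := by
  unfold iota
  rw [td4ve3_hJ_one, mul_one]
  have h : Matrix.SpecialLinearGroup.map j (sl2of A) =
      (h8slL (j c) : Matrix.SpecialLinearGroup (Fin 2) K) := by
    apply Subtype.ext
    rw [Matrix.SpecialLinearGroup.map_apply_coe, sl2of_val, hA, h8slL_val]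
    ext a b
    fin_cases a <;> fin_cases b <;>
      simp [Matrix.det_fin_two, Matrix.mul_apply, Fin.sum_univ_two, RingHom.mapMatrix_apply]
  rw [h, phiB_L]

theorem iota_dg (A : GL (Fin 2) F) (c : F) (t : K) (hA : (A : M2 F) = !![1, 0; 0, c]) :
    iota j q A t = hJ hB q t := by
  unfold iota
  have hc : c ≠ 0 := by
    have h := td4vi3_det_ne A
    rw [hA] at h
    simpa [Matrix.det_fin_two] using h
  have h : Matrix.SpecialLinearGroup.map j (sl2of A) =
      (1 : Matrix.SpecialLinearGroup (Fin 2) K) := by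
    apply Subtype.ext
    rw [Matrix.SpecialLinearGroup.map_apply_coe, sl2of_val, hA]
    ext a b
    fin_cases a <;> fin_cases b <;>
      simp [Matrix.det_fin_two, Matrix.mul_apply, Fin.sum_univ_two, RingHom.mapMatrix_apply, hc]
  rw [h, map_one, one_mul]

theorem iota_W (A : GL (Fin 2) F) (hA : (A : M2 F) = !![0, 1; -1, 0]) : iota j q A 1 = nb :=
  td4ve3_iota_W j q A hA

theorem iota_hb (A : GL (Fin 2) F) (c : F) (hc : c ≠ 0) (hA : (A : M2 F) = !![c, 0; 0, c⁻¹]) :
    iota j q A 1 = hh 14 (j c) := by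
  unfold iota
  rw [td4ve3_hJ_one, mul_one]
  have hjc : j c ≠ 0 := (map_ne_zero j).mpr hc
  have h : Matrix.SpecialLinearGroup.map j (sl2of A) =
      (h8slD (j c) : Matrix.SpecialLinearGroup (Fin 2) K) := by
    apply Subtype.ext
    rw [Matrix.SpecialLinearGroup.map_apply_coe, sl2of_val, hA, h8slD_val _ hjc]
    ext a b
    fin_cases a <;> fin_cases b <;>
      simp [Matrix.det_fin_two, Matrix.mul_apply, Fin.sum_univ_two, RingHom.mapMatrix_apply, hc]
  rw [h, phiB_D _ hjc]

end I

end Cfsg.Agent.Lib.helper23.TD4V
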