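import Mathlib
import Cfsg.Prelude.Def_GeometricClasses
import Cfsg.Agent.Lib.Helper27.ASC.Defs
import Cfsg.Agent.Lib.helper23.ASCO.Defs
import Cfsg.Agent.Lib.Lead.Reindex

/-!
# Project ASCO, piece H90 : Hilbert 90 for finite fields (`hilbert90_subfield`)

`Fˣ = ⟨g⟩` of order `q₁^ℓ - 1 = (q₁ - 1) S`, `S = 1 + q₁ + … + q₁^(ℓ-1)`; `c = g^k`, the hypothesis is
`c^S = 1`, so `(q₁ - 1) ∣ k`, `k = (q₁ - 1) j`, and `μ = g^(-j)` has `μ^(q₁ - 1) = c⁻¹`.
-/

set_option autoImplicit false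
set_option linter.unusedVariables false
set_option linter.unusedSectionVars false

namespace Cfsg.Agent.Lib.helper23.ASCO

open Cfsg Cfsg.Geo Cfsg.Agent.Lib.Helper27.ASC
open scoped MatrixGroups Matrix

variable {n : ℕ} {F : Type*} [Field F] [Fintype F]

/-- in a finite field: if `c = g^k` style arithmetic: an element of `Fˣ` whose `S`-th power is `1`, where
`|Fˣ| = a * S`, `0 < S`, is an `a`-th power. -/
theorem ascoh90_pow_of_pow_eq_one (a S : ℕ) (hS : 0 < S) (hcard : Nat.card Fˣ = a * S)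
    (u : Fˣ) (hu : u ^ S = 1) : ∃ w : Fˣ, w ^ a = u := by
  classical
  obtain ⟨g, hg⟩ := IsCyclic.exists_generator (α := Fˣ)
  have hord : orderOf g = a * S := by
    rw [← hcard, orderOf_eq_card_of_forall_mem_zpowers hg]
  obtain ⟨k, hk⟩ : ∃ k : ℕ, g ^ k = u := by
    have h1 : u ∈ Submonoid.powers g := mem_powers_iff_mem_zpowers.mpr (hg u)
    exact (Submonoid.mem_powers_iff u g).mp h1
  have h2 : g ^ (k * S) = 1 := by
    rw [pow_mul, hk, hu]
  have h3 : a * S ∣ k * S := by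
    rw [← hord]
    exact orderOf_dvd_of_pow_eq_one h2
  obtain ⟨j, hj⟩ := Nat.dvd_of_mul_dvd_mul_right hS h3
  refine ⟨g ^ j, ?_⟩
  rw [← pow_mul, mul_comm, ← hj, hk]

/-- H90 : Hilbert 90 for an extension of finite fields `F / F₁` of degree `ℓ`. -/
theorem hilbert90_subfield (F₁ : Subfield F) (ℓ : ℕ) (hcard : Fintype.card F = Nat.card F₁ ^ ℓ)
    (c : F) (hc : c ≠ 0) (hN : ∏ i ∈ Finset.range ℓ, c ^ (Nat.card F₁ ^ i) = 1) :
    ∃ μ : F, μ ≠ 0 ∧ μ ^ Nat.card F₁ * c = μ := by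
  classical
  set q : ℕ := Nat.card F₁ with hq
  have hq2 : 2 ≤ q := by
    rw [hq, Nat.card_eq_fintype_card]
    exact Fintype.one_lt_card
  have hℓ : ℓ ≠ 0 := by
    intro h0
    rw [h0, pow_zero] at hcard
    have := Fintype.one_lt_card (α := F)
    omega
  set S : ℕ := ∑ i ∈ Finset.range ℓ, q ^ i with hSdef
  have hS : 0 < S := by
    have h1 : q ^ 0 ≤ S := by
      rw [hSdef]
      exact Finset.single_le_sum (f := fun i => q ^ i) (fun i _ => Nat.zero_le _)
        (Finset.mem_range.mpr (Nat.pos_of_ne_zero hℓ))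
    rw [pow_zero] at h1
    exact h1
  have hgeo : S * (q - 1) + 1 = q ^ ℓ := by
    have := geom_sum_mul_add (q - 1) ℓ
    rw [Nat.sub_add_cancel (by omega : 1 ≤ q)] at this
    exact this
  have hunits : Nat.card Fˣ = (q - 1) * S := by
    rw [Nat.card_units, Nat.card_eq_fintype_card, hcard, ← hgeo, Nat.add_sub_cancel, mul_comm]
  set u : Fˣ := Units.mk0 c hc with hu
  have huS : u ^ S = 1 := by
    apply Units.ext
    rw [Units.val_pow_eq_pow_val, Units.val_one, hu, Units.val_mk0, hSdef,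
      ← Finset.prod_pow_eq_pow_sum]
    exact hN
  -- `u⁻¹` is a `(q-1)`-th power
  have huS' : u⁻¹ ^ S = 1 := by rw [inv_pow, huS, inv_one]
  obtain ⟨w, hw⟩ := ascoh90_pow_of_pow_eq_one (q - 1) S hS hunits u⁻¹ huS'
  refine ⟨(w : F), w.ne_zero, ?_⟩
  have h1 : w ^ q * u = w := by
    have : w ^ q = w ^ (q - 1) * w := by
      rw [← pow_succ, Nat.sub_add_cancel (by omega : 1 ≤ q)]
    rw [this, hw, mul_assoc, mul_comm w u, ← mul_assoc, inv_mul_cancel, one_mul]
  have h2 := congrArg (fun x : Fˣ => (x : F)) h1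
  simpa [hu] using h2

end Cfsg.Agent.Lib.helper23.ASCO
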