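import Mathlib
import Cfsg.Prelude.Def_GeometricClasses
import Cfsg.Agent.Lib.Helper27.ASC.Defs
import Cfsg.Agent.Lib.Lead.ASCU.Defs
import Cfsg.Agent.Lib.helper4.ASCSUBF1

/-!
# Project ASCU, piece USUBFA : `usubfield_explicit`

`subfield_of_realisable` (ASC SUBF1, helper4) with the explicit basis kept: if `B` realises the absolutely
irreducible `H`-normal subgroup `P` over `F₀`, then `H ≤ subfieldSubgroup F₀ B⁻¹`.  The proof is helper4's
(entrywise Frobenius `τ`: `h'⁻¹ τ(h')` centralises `B P B⁻¹`, so `τ(h') = c h'` and `a⁻¹ h' ∈ GL(F₀)`).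
-/

set_option autoImplicit false
set_option linter.unusedVariables false

namespace Cfsg.Agent.Lib.Lead.ASCU

open Cfsg Cfsg.Geo Cfsg.Agent.Lib.Helper27.ASC
open scoped MatrixGroups Matrix

variable {n : ℕ} {F : Type*} [Field F] [Fintype F]

/-- USUBFA : `subfield_of_realisable` with the explicit basis -/
theorem usubfield_explicit {H P : Subgroup (GL (Fin n) F)} (hP : NormalIn P H) (hA : AbsIrr P)
    (F₀ : Subfield F) (B : GL (Fin n) F) (hB : RealisesOver F₀ B P) : H ≤ subfieldSubgroup F₀ B⁻¹ := by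
  classical
  intro h hh
  -- the Frobenius power with fixed field `F₀`
  obtain ⟨p, hchar⟩ := CharP.exists F
  have hcharF : CharP F p := hchar
  have hchar0 : CharP F₀ p := inferInstance
  obtain ⟨d, hpp, hcard0⟩ := FiniteField.card F₀ p
  have hfact : Fact p.Prime := ⟨hpp⟩
  let σ : F →+* F := iterateFrobenius F p d
  have hσ : ∀ x : F, σ x = x ^ Nat.card F₀ := by
    intro x
    rw [Nat.card_eq_fintype_card, hcard0]
    exact iterateFrobenius_def p d x
  have hσfix : ∀ x ∈ F₀, σ x = x := by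
    intro x hx
    rw [hσ, Nat.card_eq_fintype_card]
    have h1 : (⟨x, hx⟩ : F₀) ^ Fintype.card F₀ = ⟨x, hx⟩ := FiniteField.pow_card _
    have h2 := congrArg (fun a : F₀ => (a : F)) h1
    simpa using h2
  have hσmem : ∀ x : F, σ x = x → x ∈ F₀ := by
    intro x hx
    exact ascsubf1_mem_of_pow F₀ x (by rw [← hσ]; exact hx)
  -- conjugated elements
  set h' : GL (Fin n) F := B * h * B⁻¹ with hh'
  -- it suffices to show `h' ∈ range ⊔ scalars`
  suffices hmem : h' ∈ (Matrix.GeneralLinearGroup.map (F₀.subtype : F₀ →+* F)).range ⊔ scalars (Fin n) F by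
    unfold subfieldSubgroup
    rw [Subgroup.mem_map]
    refine ⟨h', hmem, ?_⟩
    simp only [MulEquiv.coe_toMonoidHom, MulAut.conj_apply, hh']
    group
  -- the entrywise Frobenius on matrices
  let Sg : Matrix (Fin n) (Fin n) F →+* Matrix (Fin n) (Fin n) F := σ.mapMatrix
  have hSgfix : ∀ x ∈ P, Sg ((B * x * B⁻¹ : GL (Fin n) F) : Matrix (Fin n) (Fin n) F) =
      ((B * x * B⁻¹ : GL (Fin n) F) : Matrix (Fin n) (Fin n) F) := by
    intro x hx
    ext i j
    simp only [Sg, RingHom.mapMatrix_apply, Matrix.map_apply]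
    apply hσfix
    have := hB (x : Matrix (Fin n) (Fin n) F) ⟨x, hx, rfl⟩ i j
    simpa [Units.val_mul] using this
  -- `M = h'⁻¹ σ(h')` commutes with all `B x B⁻¹`
  set M : Matrix (Fin n) (Fin n) F := ((h'⁻¹ : GL (Fin n) F) : Matrix (Fin n) (Fin n) F) *
    Sg (h' : Matrix (Fin n) (Fin n) F) with hM
  have hcomm : ∀ x ∈ P, M * ((B * x * B⁻¹ : GL (Fin n) F) : Matrix (Fin n) (Fin n) F) =
      ((B * x * B⁻¹ : GL (Fin n) F) : Matrix (Fin n) (Fin n) F) * M := by
    intro x hx
    have hy : h * x * h⁻¹ ∈ P := hP.2 h hh x hx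
    set x' : GL (Fin n) F := B * x * B⁻¹ with hx'
    set y' : GL (Fin n) F := B * (h * x * h⁻¹) * B⁻¹ with hy'
    have e1 : h' * x' = y' * h' := by rw [hh', hx', hy']; group
    have e2 : x' * h'⁻¹ = h'⁻¹ * y' := by rw [hh', hx', hy']; group
    have e1m : (h' : Matrix (Fin n) (Fin n) F) * (x' : Matrix (Fin n) (Fin n) F) =
        (y' : Matrix (Fin n) (Fin n) F) * (h' : Matrix (Fin n) (Fin n) F) := by
      rw [← Units.val_mul, ← Units.val_mul, e1]
    have e2m : (x' : Matrix (Fin n) (Fin n) F) * ((h'⁻¹ : GL (Fin n) F) : Matrix (Fin n) (Fin n) F) =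
        ((h'⁻¹ : GL (Fin n) F) : Matrix (Fin n) (Fin n) F) * (y' : Matrix (Fin n) (Fin n) F) := by
      rw [← Units.val_mul, ← Units.val_mul, e2]
    have e3 : Sg (h' : Matrix (Fin n) (Fin n) F) * (x' : Matrix (Fin n) (Fin n) F) =
        (y' : Matrix (Fin n) (Fin n) F) * Sg (h' : Matrix (Fin n) (Fin n) F) := by
      have := congrArg Sg e1m
      rw [map_mul, map_mul, hSgfix x hx, hSgfix _ hy] at this
      exact this
    rw [hM, Matrix.mul_assoc, e3, ← Matrix.mul_assoc, ← e2m, Matrix.mul_assoc]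
  -- so `M` is scalar
  obtain ⟨c, hc⟩ : ∃ c : F, M = c • (1 : Matrix (Fin n) (Fin n) F) := by
    have hBB : (B : Matrix (Fin n) (Fin n) F) * ((B⁻¹ : GL (Fin n) F) : Matrix (Fin n) (Fin n) F) = 1 := by
      rw [← Units.val_mul, mul_inv_cancel]; rfl
    have hBB' : ((B⁻¹ : GL (Fin n) F) : Matrix (Fin n) (Fin n) F) * (B : Matrix (Fin n) (Fin n) F) = 1 := by
      rw [← Units.val_mul, inv_mul_cancel]; rfl
    set M₀ : Matrix (Fin n) (Fin n) F := ((B⁻¹ : GL (Fin n) F) : Matrix (Fin n) (Fin n) F) * M *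
      (B : Matrix (Fin n) (Fin n) F) with hM₀
    have h0 : ∀ s ∈ matrixSet P, M₀ * s = s * M₀ := by
      rintro s ⟨x, hx, rfl⟩
      have hx1 := hcomm x hx
      simp only [Units.val_mul] at hx1
      -- `M (B x B⁻¹) = (B x B⁻¹) M`
      calc M₀ * (x : Matrix (Fin n) (Fin n) F)
          = ((B⁻¹ : GL (Fin n) F) : Matrix (Fin n) (Fin n) F) *
              (M * ((B : Matrix (Fin n) (Fin n) F) * (x : Matrix (Fin n) (Fin n) F) *
                ((B⁻¹ : GL (Fin n) F) : Matrix (Fin n) (Fin n) F))) * (B : Matrix (Fin n) (Fin n) F) := by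
            rw [hM₀]
            simp only [Matrix.mul_assoc]
            rw [hBB', Matrix.mul_one]
        _ = ((B⁻¹ : GL (Fin n) F) : Matrix (Fin n) (Fin n) F) *
              (((B : Matrix (Fin n) (Fin n) F) * (x : Matrix (Fin n) (Fin n) F) *
                ((B⁻¹ : GL (Fin n) F) : Matrix (Fin n) (Fin n) F)) * M) * (B : Matrix (Fin n) (Fin n) F) := by
            rw [hx1]
        _ = (x : Matrix (Fin n) (Fin n) F) * M₀ := by
            rw [hM₀]
            simp only [← Matrix.mul_assoc]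
            rw [hBB', Matrix.one_mul]
    obtain ⟨c, hc⟩ := hA.2 M₀ h0
    refine ⟨c, ?_⟩
    have : M = (B : Matrix (Fin n) (Fin n) F) * M₀ * ((B⁻¹ : GL (Fin n) F) : Matrix (Fin n) (Fin n) F) := by
      rw [hM₀]
      simp only [← Matrix.mul_assoc]
      rw [hBB, Matrix.one_mul, Matrix.mul_assoc, hBB, Matrix.mul_one]
    rw [this, hc, Matrix.mul_smul, Matrix.mul_one, Matrix.smul_mul, hBB]
  -- `σ(h') = c • h'`
  have hσh : Sg (h' : Matrix (Fin n) (Fin n) F) = c • (h' : Matrix (Fin n) (Fin n) F) := by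
    have h1 : (h' : Matrix (Fin n) (Fin n) F) * M = Sg (h' : Matrix (Fin n) (Fin n) F) := by
      rw [hM, ← Matrix.mul_assoc, ← Units.val_mul, mul_inv_cancel]
      simp
    rw [← h1, hc, Matrix.mul_smul, Matrix.mul_one]
  -- a non-zero entry
  by_cases hzero : (h' : Matrix (Fin n) (Fin n) F) = 0
  · -- degenerate: the matrix ring is trivial
    have h10 : (1 : Matrix (Fin n) (Fin n) F) = 0 := by
      have : (h' : Matrix (Fin n) (Fin n) F) * ((h'⁻¹ : GL (Fin n) F) : Matrix (Fin n) (Fin n) F) = 1 := by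
        rw [← Units.val_mul, mul_inv_cancel]; rfl
      rw [← this, hzero, Matrix.zero_mul]
    have hsub : Subsingleton (Matrix (Fin n) (Fin n) F) := subsingleton_of_zero_eq_one h10.symm
    have : h' = 1 := Units.ext (Subsingleton.elim _ _)
    rw [this]
    exact Subgroup.one_mem _
  · obtain ⟨i, j, hij⟩ : ∃ i j, (h' : Matrix (Fin n) (Fin n) F) i j ≠ 0 := by
      by_contra hcon
      apply hzero
      ext i j
      by_contra hne
      exact hcon ⟨i, j, hne⟩
    set a : F := (h' : Matrix (Fin n) (Fin n) F) i j with ha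
    have hσa : σ a = c * a := by
      have := congrFun (congrFun hσh i) j
      simpa [Sg, RingHom.mapMatrix_apply, Matrix.map_apply, Matrix.smul_apply] using this
    have hc0 : c ≠ 0 := by
      intro h0
      rw [h0, zero_mul] at hσa
      exact hij ((map_eq_zero σ).mp hσa)
    -- entries of `a⁻¹ • h'` are in `F₀`
    have hent : ∀ k l, a⁻¹ * (h' : Matrix (Fin n) (Fin n) F) k l ∈ F₀ := by
      intro k l
      apply hσmem
      have hkl : σ ((h' : Matrix (Fin n) (Fin n) F) k l) = c * (h' : Matrix (Fin n) (Fin n) F) k l := by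
        have := congrFun (congrFun hσh k) l
        simpa [Sg, RingHom.mapMatrix_apply, Matrix.map_apply, Matrix.smul_apply] using this
      rw [map_mul, map_inv₀, hσa, hkl]
      field_simp
    -- the matrix over `F₀`
    let G₀ : Matrix (Fin n) (Fin n) F₀ := fun k l => ⟨a⁻¹ * (h' : Matrix (Fin n) (Fin n) F) k l, hent k l⟩
    have hG₀map : G₀.map (F₀.subtype : F₀ →+* F) = a⁻¹ • (h' : Matrix (Fin n) (Fin n) F) := by
      ext k l
      rfl
    have hdet : G₀.det ≠ 0 := by
      intro hd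
      have h1 : (F₀.subtype : F₀ →+* F) G₀.det = ((F₀.subtype : F₀ →+* F).mapMatrix G₀).det :=
        RingHom.map_det _ _
      rw [hd, map_zero, RingHom.mapMatrix_apply, hG₀map, Matrix.det_smul] at h1
      have h2 : (h' : Matrix (Fin n) (Fin n) F).det ≠ 0 := by
        have := (Matrix.GeneralLinearGroup.det h').ne_zero
        simpa using this
      have h3 : a⁻¹ ^ Fintype.card (Fin n) ≠ 0 := pow_ne_zero _ (inv_ne_zero hij)
      exact (mul_ne_zero h3 h2) h1.symm
    let g₀ : GL (Fin n) F₀ := Matrix.GeneralLinearGroup.mkOfDetNeZero G₀ hdet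
    let sa : GL (Fin n) F :=
      Units.map (Matrix.scalar (Fin n) : F →+* Matrix (Fin n) (Fin n) F).toMonoidHom (Units.mk0 a hij)
    have hsa : sa ∈ scalars (Fin n) F := ⟨Units.mk0 a hij, rfl⟩
    have hg₀ : Matrix.GeneralLinearGroup.map (F₀.subtype : F₀ →+* F) g₀ ∈
        (Matrix.GeneralLinearGroup.map (F₀.subtype : F₀ →+* F)).range := ⟨g₀, rfl⟩
    have h1 : ((Matrix.GeneralLinearGroup.map (F₀.subtype : F₀ →+* F) g₀ : GL (Fin n) F) :
        Matrix (Fin n) (Fin n) F) = a⁻¹ • (h' : Matrix (Fin n) (Fin n) F) := by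
      ext k' l'
      rw [Matrix.GeneralLinearGroup.map_apply]
      rfl
    have h2 : (sa : Matrix (Fin n) (Fin n) F) = Matrix.scalar (Fin n) a := rfl
    have hmat : (h' : Matrix (Fin n) (Fin n) F) =
        ((Matrix.GeneralLinearGroup.map (F₀.subtype : F₀ →+* F) g₀ : GL (Fin n) F) :
          Matrix (Fin n) (Fin n) F) * (sa : Matrix (Fin n) (Fin n) F) := by
      rw [h1, h2]
      ext k l
      rw [Matrix.scalar_apply, Matrix.mul_diagonal, Matrix.smul_apply, smul_eq_mul]
      field_simp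
    have heq : h' = Matrix.GeneralLinearGroup.map (F₀.subtype : F₀ →+* F) g₀ * sa := by
      apply Units.ext
      rw [Units.val_mul]
      exact hmat
    rw [heq]
    exact Subgroup.mul_mem_sup hg₀ hsa

end Cfsg.Agent.Lib.Lead.ASCU
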