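import Mathlib
import Cfsg.Prelude.Def_GeometricClasses
import Cfsg.Agent.Lib.Helper27.ASC.Defs
import Cfsg.Agent.Lib.helper23.ASCO.Defs
import Cfsg.Agent.Lib.Lead.Reindex
import Cfsg.Agent.Lib.Helper16.ASCUUSUBFA

/-!
# Project ASCO, piece SUBF1S : `subfield_of_realisable_strong`

It is `Cfsg.Agent.Lib.Lead.ASCU.usubfield_explicit` (project ASCU, piece USUBFA: helper4's SUBF1 proof with
the basis kept); the hypothesis is `RealisesOver F₀ B P` unfolded.
-/

set_option autoImplicit false
set_option linter.unusedVariables false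
set_option linter.unusedSectionVars false

namespace Cfsg.Agent.Lib.helper23.ASCO

open Cfsg Cfsg.Geo Cfsg.Agent.Lib.Helper27.ASC
open scoped MatrixGroups Matrix

variable {n : ℕ} {F : Type*} [Field F] [Fintype F]

/-- SUBF1S : `subfield_of_realisable` with the change of basis made explicit. -/
theorem subfield_of_realisable_strong {H P : Subgroup (GL (Fin n) F)} (hP : NormalIn P H)
    (hA : AbsIrr P) (F₀ : Subfield F) (B : GL (Fin n) F)
    (hB : ∀ s ∈ matrixSet P, ∀ i j,
      ((B : Matrix (Fin n) (Fin n) F) * s * ((B⁻¹ : GL (Fin n) F) : Matrix (Fin n) (Fin n) F)) i j ∈ F₀) :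
    H ≤ subfieldSubgroup F₀ B⁻¹ :=
  Cfsg.Agent.Lib.Lead.ASCU.usubfield_explicit hP hA F₀ B hB

end Cfsg.Agent.Lib.helper23.ASCO
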