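import Mathlib
import Cfsg.Agent.Lib.Lead.BCG.Defs

/-! Project BCG (designer lead), row A12 `o_cut`: second copy under an own name (helper16), same statement. -/

set_option autoImplicit false

namespace Cfsg.Agent.Lib.Lead.BCG

open Polynomial Module Matrix Cfsg.Agent.Lib.Helper13.S5955 Cfsg.Agent.Lib.helper15.S5972
  Cfsg.Agent.Lib.Helper18.ONE Cfsg.Agent.Lib.Lead.BCS

theorem bcga12_h16 {F : Type*} [Field F] {V : Type*} [AddCommGroup V] [Module F V]
    [FiniteDimensional F V] {r : ℕ} {B : LinearMap.BilinForm F V} {y : Module.End F V}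
    (h : OCtx r B y) (M : Submodule F V) (hM : SInv y M) (hMnd : SND B M) :
    ∃ y' : Module.End F V, OCtx r B y' ∧ (∀ v ∈ M, y' v = y v) ∧
      ∀ v ∈ B.orthogonal M, y' v = v := by
  classical
  have hS : B.IsSymm := ⟨fun a b => by simpa using h.symm a b⟩
  have hSr : (B.restrict M).IsSymm := by
    refine ⟨fun a b => ?_⟩
    simp only [LinearMap.BilinForm.restrict_apply, RingHom.id_apply]
    exact h.symm _ _
  have hN : (B.restrict M).Nondegenerate := by
    have hl : (B.restrict M).SeparatingLeft := by
      intro a ha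
      have h1 : (a : V) = 0 := by
        apply hMnd a a.2
        intro v hv
        have := ha ⟨v, hv⟩
        simpa [LinearMap.BilinForm.restrict_apply] using this
      exact Subtype.ext h1
    exact (LinearMap.IsRefl.nondegenerate_iff_separatingLeft hSr.isRefl).mpr hl
  have hc : IsCompl M (B.orthogonal M) :=
    LinearMap.BilinForm.isCompl_orthogonal_of_restrict_nondegenerate hS.isRefl hN
  -- the projection onto `M`
  obtain ⟨P, hP⟩ : ∃ P : Module.End F V, P = M.subtype ∘ₗ M.projectionOnto (B.orthogonal M) hc :=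
    ⟨_, rfl⟩
  have hPM : ∀ v, P v ∈ M := by
    intro v
    rw [hP]
    exact (M.projectionOnto (B.orthogonal M) hc v).2
  have hPfix : ∀ v ∈ M, P v = v := by
    intro v hv
    rw [hP, LinearMap.comp_apply, Submodule.subtype_apply]
    have := Submodule.projectionOnto_apply_of_mem_left hc hv
    rw [this]
  have hPzero : ∀ v ∈ B.orthogonal M, P v = 0 := by
    intro v hv
    rw [hP, LinearMap.comp_apply, Submodule.subtype_apply]
    have := (Submodule.projectionOnto_apply_eq_zero_iff hc).mpr hv
    rw [this]
    rfl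
  have hPperp : ∀ v, v - P v ∈ B.orthogonal M := by
    intro v
    obtain ⟨a, ha, b, hb, hab⟩ := Submodule.mem_sup.mp (by rw [hc.sup_eq_top]; exact Submodule.mem_top : v ∈ M ⊔ B.orthogonal M)
    rw [← hab, map_add, hPfix a ha, hPzero b hb, add_zero, add_sub_cancel_left]
    exact hb
  -- orthogonality
  have horth : ∀ a ∈ M, ∀ b ∈ B.orthogonal M, B a b = 0 := by
    intro a ha b hb
    exact hb a ha
  have horth' : ∀ a ∈ M, ∀ b ∈ B.orthogonal M, B b a = 0 := by
    intro a ha b hb
    rw [h.symm]; exact horth a ha b hb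
  -- the new map
  obtain ⟨y', hy'⟩ : ∃ y' : Module.End F V, y' = 1 + (y - 1) * P := ⟨_, rfl⟩
  have hy'apply : ∀ v, y' v = (v - P v) + y (P v) := by
    intro v
    rw [hy']
    simp only [LinearMap.add_apply, Module.End.one_apply, Module.End.mul_apply, LinearMap.sub_apply]
    abel
  have hstep : ∀ k : ℕ, ∀ v, (y' ^ k) v = (v - P v) + (y ^ k) (P v) := by
    intro k
    induction k with
    | zero => intro v; simp
    | succ k ih =>
      intro v
      rw [pow_succ', Module.End.mul_apply, ih v, hy'apply]
      have hk : (y ^ k) (P v) ∈ M := Cfsg.Agent.Lib.Helper24.el_pow_mem hM k (hPM v)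
      have h1 : P ((v - P v) + (y ^ k) (P v)) = (y ^ k) (P v) := by
        rw [map_add, hPzero _ (hPperp v), hPfix _ hk, zero_add]
      rw [h1, pow_succ', Module.End.mul_apply]
      abel
  refine ⟨y', ⟨h.symm, h.nd, ?_, ?_⟩, ?_, ?_⟩
  · intro u v
    rw [hy'apply, hy'apply]
    have hu1 := hPperp u
    have hv1 := hPperp v
    have hu2 : y (P u) ∈ M := hM _ (hPM u)
    have hv2 : y (P v) ∈ M := hM _ (hPM v)
    simp only [map_add, LinearMap.add_apply]
    rw [horth' _ hv2 _ hu1, horth _ hu2 _ hv1, h.pres]
    have hu : u = (u - P u) + P u := by abel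
    have hv : v = (v - P v) + P v := by abel
    conv_rhs => rw [hu, hv]
    simp only [map_add, LinearMap.add_apply]
    rw [horth' _ (hPM v) _ hu1, horth _ (hPM u) _ hv1]
  · apply LinearMap.ext
    intro v
    rw [hstep r v, h.pow, Module.End.one_apply, Module.End.one_apply]
    abel
  · intro v hv
    rw [hy'apply, hPfix v hv]
    simp
  · intro v hv
    rw [hy'apply, hPzero v hv]
    simp

end Cfsg.Agent.Lib.Lead.BCG
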