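import Mathlib
import Cfsg.Agent.Lib.Lead.BCG.Defs
import Cfsg.Agent.Lib.helper6.Disc

/-! Project BCG (designer lead), row A13 `sing_pair` (helper16), verbatim. -/

set_option autoImplicit false

namespace Cfsg.Agent.Lib.Lead.BCG

open Polynomial Module Matrix Cfsg.Agent.Lib.Helper13.S5955 Cfsg.Agent.Lib.helper15.S5972
  Cfsg.Agent.Lib.Helper18.ONE Cfsg.Agent.Lib.Lead.BCS

/-- an isotropic vector in a nondegenerate subspace of dimension at least three -/
theorem bcga13_iso {F : Type*} [Field F] [Fintype F] (h2 : (2 : F) ≠ 0) {V : Type*}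
    [AddCommGroup V] [Module F V] [FiniteDimensional F V] (B : LinearMap.BilinForm F V)
    (hsymm : ∀ u v, B u v = B v u) (U : Submodule F V) (hU : SND B U)
    (hdim : 3 ≤ finrank F U) : ∃ z : V, z ∈ U ∧ z ≠ 0 ∧ B z z = 0 := by
  have hS : (B.restrict U).IsSymm := by
    refine ⟨fun a b => ?_⟩
    simp only [LinearMap.BilinForm.restrict_apply, RingHom.id_apply]
    exact hsymm _ _
  have hN : (B.restrict U).Nondegenerate := by
    have hl : (B.restrict U).SeparatingLeft := by
      intro a ha
      have h1 : (a : V) = 0 := by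
        apply hU a a.2
        intro v hv
        have := ha ⟨v, hv⟩
        simpa [LinearMap.BilinForm.restrict_apply] using this
      exact Subtype.ext h1
    exact (LinearMap.IsRefl.nondegenerate_iff_separatingLeft hS.isRefl).mpr hl
  obtain ⟨x, hx0, hxx⟩ := Cfsg.Agent.Lib.helper6.Disc.exists_isotropic_of_three_le h2 (B.restrict U) hS hN hdim
  refine ⟨(x : V), x.2, ?_, ?_⟩
  · intro h
    exact hx0 (Subtype.ext h)
  · simpa [LinearMap.BilinForm.restrict_apply] using hxx

theorem sing_pair {F : Type*} [Field F] [Fintype F] (h2 : (2 : F) ≠ 0) {V : Type*}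
    [AddCommGroup V] [Module F V] [FiniteDimensional F V] (B : LinearMap.BilinForm F V)
    (hsymm : ∀ u v, B u v = B v u) (U : Submodule F V) (hU : SND B U)
    (hdim : 3 ≤ finrank F U) :
    ∃ z w : V, z ∈ U ∧ w ∈ U ∧ z ≠ 0 ∧ B z z = 0 ∧ B z w = 0 ∧ B w w ≠ 0 := by
  classical
  obtain ⟨z, hzU, hz0, hzz⟩ := bcga13_iso h2 B hsymm U hU hdim
  -- a partner
  have hy : ∃ y ∈ U, B z y ≠ 0 := by
    by_contra hcon
    push Not at hcon
    exact hz0 (hU z hzU hcon)
  obtain ⟨y, hyU, hzy⟩ := hy
  obtain ⟨z1, hz1⟩ : ∃ t : V, t = (B z y)⁻¹ • y := ⟨_, rfl⟩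
  have hz1U : z1 ∈ U := by rw [hz1]; exact U.smul_mem _ hyU
  have hzz1 : B z z1 = 1 := by
    rw [hz1, map_smul, smul_eq_mul, inv_mul_cancel₀ hzy]
  obtain ⟨z2, hz2⟩ : ∃ t : V, t = z1 - (B z1 z1 / 2) • z := ⟨_, rfl⟩
  have hz2U : z2 ∈ U := by rw [hz2]; exact U.sub_mem hz1U (U.smul_mem _ hzU)
  have hzz2 : B z z2 = 1 := by
    rw [hz2, map_sub, map_smul, hzz, hzz1]
    simp
  have hz2z : B z2 z = 1 := by rw [hsymm]; exact hzz2
  have hz1z : B z1 z = 1 := by rw [hsymm]; exact hzz1
  have hz2z2 : B z2 z2 = 0 := by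
    rw [hz2]
    simp only [map_sub, map_smul, LinearMap.sub_apply, LinearMap.smul_apply, smul_eq_mul, hzz, hzz1, hz1z]
    field_simp
    ring
  -- the projection
  obtain ⟨π, hπ⟩ : ∃ f : V → V, f = fun u => u - B u z2 • z - B u z • z2 := ⟨_, rfl⟩
  have hπU : ∀ u ∈ U, π u ∈ U := by
    intro u hu
    rw [hπ]
    exact U.sub_mem (U.sub_mem hu (U.smul_mem _ hzU)) (U.smul_mem _ hz2U)
  have hπz : ∀ u, B z (π u) = 0 := by
    intro u
    simp only [hπ, map_sub, map_smul, smul_eq_mul, hzz, hzz2, hsymm z u]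
    ring
  have hπz2 : ∀ u, B z2 (π u) = 0 := by
    intro u
    simp only [hπ, map_sub, map_smul, smul_eq_mul, hz2z, hz2z2, hsymm z2 u]
    ring
  have hπadd : ∀ u v, π (u + v) = π u + π v := by
    intro u v
    simp only [hπ, map_add, LinearMap.add_apply, add_smul]
    abel
  by_cases hex : ∃ u ∈ U, B (π u) (π u) ≠ 0
  · obtain ⟨u, huU, hu⟩ := hex
    exact ⟨z, π u, hzU, hπU u huU, hz0, hzz, hπz u, hu⟩
  · exfalso
    push Not at hex
    -- polarisation
    have hpol : ∀ u ∈ U, ∀ v ∈ U, B (π u) (π v) = 0 := by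
      intro u hu v hv
      have h1 := hex (u + v) (U.add_mem hu hv)
      rw [hπadd] at h1
      simp only [map_add, LinearMap.add_apply, hex u hu, hex v hv, hsymm (π v) (π u)] at h1
      have h3 : (2 : F) * B (π u) (π v) = 0 := by linear_combination h1
      rcases mul_eq_zero.mp h3 with h4 | h4
      · exact absurd h4 h2
      · exact h4
    -- `π u` is in the radical of `U`
    have hrad : ∀ u ∈ U, π u = 0 := by
      intro u hu
      apply hU (π u) (hπU u hu)
      intro v hv
      have hv' : v = π v + B v z2 • z + B v z • z2 := by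
        simp only [hπ]
        abel
      rw [hv', map_add, map_add, map_smul, map_smul, hpol u hu v hv, hsymm (π u) z, hsymm (π u) z2,
        hπz u, hπz2 u]
      simp
    -- `U ≤ span {z, z2}`
    have hle : U ≤ Submodule.span F (({z, z2} : Finset V) : Set V) := by
      intro u hu
      have h1 := hrad u hu
      have hu' : u = B u z2 • z + B u z • z2 := by
        have : π u = u - B u z2 • z - B u z • z2 := by rw [hπ]
        rw [this] at h1
        have h3 := sub_eq_zero.mp h1
        have h4 := sub_eq_iff_eq_add.mp h3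
        rw [add_comm]
        exact h4
      rw [hu']
      apply Submodule.add_mem
      · exact Submodule.smul_mem _ _ (Submodule.subset_span (by simp))
      · exact Submodule.smul_mem _ _ (Submodule.subset_span (by simp))
    have h1 := Submodule.finrank_mono hle
    have h3 : finrank F (Submodule.span F (({z, z2} : Finset V) : Set V)) ≤ ({z, z2} : Finset V).card :=
      finrank_span_finset_le_card (R := F) ({z, z2} : Finset V)
    have h4 : ({z, z2} : Finset V).card ≤ 2 := Finset.card_le_two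
    omega

end Cfsg.Agent.Lib.Lead.BCG
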