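import Mathlib

set_option autoImplicit false
set_option linter.unusedSectionVars false
set_option linter.unusedVariables false

/-! Odd-order subgroups normalised by reflections, part 1: abstract reflections of a quadratic
space. -/

namespace Cfsg.Agent.Lib.Helper16.OB

open Module
open scoped commutatorElement

universe u v

variable {K : Type u} [Field K] {U : Type v} [AddCommGroup U] [Module K U]

/-- the reflection (as a linear map) in the vector `x`; the identity when `Q x = 0`. -/
noncomputable def rfLin (Q : QuadraticForm K U) (x : U) : U →ₗ[K] U :=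
  LinearMap.id - (Q x)⁻¹ • ((QuadraticMap.polarBilin Q x).smulRight x)

theorem rfLin_apply (Q : QuadraticForm K U) (x v : U) :
    rfLin Q x v = v - ((Q x)⁻¹ * QuadraticMap.polar (⇑Q) x v) • x := by
  unfold rfLin
  simp only [LinearMap.sub_apply, LinearMap.id_coe, id_eq, LinearMap.smul_apply,
    LinearMap.smulRight_apply, QuadraticMap.polarBilin_apply_apply, smul_smul]

theorem polar_self2 (Q : QuadraticForm K U) (x : U) : QuadraticMap.polar (⇑Q) x x = 2 * Q x := by
  rw [QuadraticMap.polar_self, two_nsmul, two_mul]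

theorem rfLin_involutive (Q : QuadraticForm K U) (x : U) : Function.Involutive (rfLin Q x) := by
  intro v
  rw [rfLin_apply, rfLin_apply]
  by_cases hx : Q x = 0
  · simp [hx]
  · rw [QuadraticMap.polar_sub_right, QuadraticMap.polar_smul_right, polar_self2, smul_eq_mul]
    have : (Q x)⁻¹ * (QuadraticMap.polar (⇑Q) x v -
        (Q x)⁻¹ * QuadraticMap.polar (⇑Q) x v * (2 * Q x)) =
        - ((Q x)⁻¹ * QuadraticMap.polar (⇑Q) x v) := by
      field_simp
      ring
    rw [this, neg_smul, sub_neg_eq_add, sub_add_cancel]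

/-- the reflection in `x` as a linear equivalence. -/
noncomputable def rf (Q : QuadraticForm K U) (x : U) : U ≃ₗ[K] U :=
  LinearEquiv.ofInvolutive (rfLin Q x) (rfLin_involutive Q x)

theorem rf_apply (Q : QuadraticForm K U) (x v : U) :
    rf Q x v = v - ((Q x)⁻¹ * QuadraticMap.polar (⇑Q) x v) • x := by
  show rfLin Q x v = _
  exact rfLin_apply Q x v

theorem rf_rf (Q : QuadraticForm K U) (x v : U) : rf Q x (rf Q x v) = v :=
  rfLin_involutive Q x v

theorem rf_mul_self (Q : QuadraticForm K U) (x : U) : rf Q x * rf Q x = 1 := by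
  apply LinearEquiv.ext
  intro v
  rw [LinearEquiv.mul_apply, rf_rf]
  rfl

theorem rf_inv (Q : QuadraticForm K U) (x : U) : (rf Q x)⁻¹ = rf Q x :=
  inv_eq_of_mul_eq_one_left (rf_mul_self Q x)

theorem rf_self (Q : QuadraticForm K U) (x : U) (hx : Q x ≠ 0) : rf Q x x = -x := by
  rw [rf_apply, polar_self2]
  have : (Q x)⁻¹ * (2 * Q x) = 2 := by field_simp
  rw [this, two_smul]
  abel

theorem rf_of_perp (Q : QuadraticForm K U) (x v : U) (h : QuadraticMap.polar (⇑Q) x v = 0) :
    rf Q x v = v := by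
  rw [rf_apply, h, mul_zero, zero_smul, sub_zero]

theorem quad_sub_smul (Q : QuadraticForm K U) (v x : U) (c : K) :
    Q (v - c • x) = Q v + c ^ 2 * Q x - c * QuadraticMap.polar (⇑Q) x v := by
  have h1 : Q (v - c • x) = Q v + Q ((-c) • x) + QuadraticMap.polar (⇑Q) v ((-c) • x) := by
    have : v - c • x = v + (-c) • x := by rw [neg_smul, sub_eq_add_neg]
    rw [this]
    unfold QuadraticMap.polar
    ring
  rw [h1, QuadraticMap.map_smul, QuadraticMap.polar_smul_right, QuadraticMap.polar_comm (⇑Q) v x]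
  simp only [smul_eq_mul]
  ring

theorem Q_rf (Q : QuadraticForm K U) (x v : U) : Q (rf Q x v) = Q v := by
  rw [rf_apply, quad_sub_smul]
  by_cases hx : Q x = 0
  · simp [hx]
  · field_simp
    ring

theorem polar_of_iso (Q : QuadraticForm K U) (g : U ≃ₗ[K] U) (hg : ∀ v, Q (g v) = Q v) (x y : U) :
    QuadraticMap.polar (⇑Q) (g x) (g y) = QuadraticMap.polar (⇑Q) x y := by
  unfold QuadraticMap.polar
  rw [← map_add, hg, hg, hg]

theorem polar_rf (Q : QuadraticForm K U) (x v w : U) :
    QuadraticMap.polar (⇑Q) (rf Q x v) (rf Q x w) = QuadraticMap.polar (⇑Q) v w :=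
  polar_of_iso Q (rf Q x) (Q_rf Q x) v w

/-- conjugating a reflection by an isometry. -/
theorem rf_conj (Q : QuadraticForm K U) (g : U ≃ₗ[K] U) (hg : ∀ v, Q (g v) = Q v) (x : U) :
    g * rf Q x * g⁻¹ = rf Q (g x) := by
  apply LinearEquiv.ext
  intro v
  rw [LinearEquiv.mul_apply, LinearEquiv.mul_apply, rf_apply, rf_apply, map_sub, map_smul, hg]
  have h1 : g (g⁻¹ v) = v := by
    show g (g.symm v) = v
    exact g.apply_symm_apply v
  have h2 : QuadraticMap.polar (⇑Q) x (g⁻¹ v) = QuadraticMap.polar (⇑Q) (g x) v := by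
    rw [← polar_of_iso Q g hg x (g⁻¹ v), h1]
  rw [h1, h2]

theorem rf_smul (Q : QuadraticForm K U) (x : U) (c : K) (hc : c ≠ 0) : rf Q (c • x) = rf Q x := by
  apply LinearEquiv.ext
  intro v
  rw [rf_apply, rf_apply, QuadraticMap.map_smul, QuadraticMap.polar_smul_left, smul_smul, smul_eq_mul]
  congr 2
  by_cases hx : Q x = 0
  · simp [hx]
  · rw [smul_eq_mul]
    field_simp

theorem rf_neg (Q : QuadraticForm K U) (x : U) : rf Q (-x) = rf Q x := by
  have := rf_smul Q x (-1 : K) (by simp)
  rwa [neg_one_smul] at this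

theorem rf_comm_of_perp (Q : QuadraticForm K U) (x y : U) (h : QuadraticMap.polar (⇑Q) x y = 0) :
    rf Q x * rf Q y = rf Q y * rf Q x := by
  have h' : QuadraticMap.polar (⇑Q) y x = 0 := by rw [QuadraticMap.polar_comm]; exact h
  apply LinearEquiv.ext
  intro v
  simp only [LinearEquiv.mul_apply, rf_apply, QuadraticMap.polar_sub_right,
    QuadraticMap.polar_smul_right, h, h', smul_eq_mul, mul_zero, sub_zero]
  abel

/-- the reflection in `x - y` interchanges `x` and `y` when they have the same norm. -/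
theorem rf_sub_apply (Q : QuadraticForm K U) (x y : U) (hxy : Q y = Q x) (hne : Q (x - y) ≠ 0) :
    rf Q (x - y) x = y := by
  rw [rf_apply]
  have h1 : Q (x - y) = 2 * Q x - QuadraticMap.polar (⇑Q) x y := by
    have := quad_sub_smul Q x y 1
    rw [one_smul] at this
    rw [this, hxy, QuadraticMap.polar_comm (⇑Q) y x]
    ring
  have h3 : QuadraticMap.polar (⇑Q) (x - y) x = 2 * Q x - QuadraticMap.polar (⇑Q) x y := by
    rw [QuadraticMap.polar_sub_left, polar_self2, QuadraticMap.polar_comm (⇑Q) y x]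
  have h4 : (Q (x - y))⁻¹ * QuadraticMap.polar (⇑Q) (x - y) x = 1 := by
    rw [h3, ← h1]
    exact inv_mul_cancel₀ hne
  rw [h4, one_smul]
  abel

/-- a product of two reflections in vectors of equal norm is a commutator. -/
theorem rf_mul_rf_eq_commutator (Q : QuadraticForm K U) (x y : U) (hxy : Q y = Q x)
    (hne : Q (x - y) ≠ 0) : rf Q x * rf Q y = ⁅rf Q x, rf Q (x - y)⁆ := by
  rw [commutatorElement_def, rf_inv, rf_inv]
  have h1 := rf_conj Q (rf Q (x - y)) (Q_rf Q (x - y)) x
  rw [rf_inv, rf_sub_apply Q x y hxy hne] at h1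
  rw [← h1]
  group

/-- the product of two reflections in orthogonal non-singular vectors is an involution. -/
theorem rf_mul_rf_sq (Q : QuadraticForm K U) (x y : U) (h : QuadraticMap.polar (⇑Q) x y = 0) :
    (rf Q x * rf Q y) * (rf Q x * rf Q y) = 1 := by
  have h1 := rf_comm_of_perp Q x y h
  calc (rf Q x * rf Q y) * (rf Q x * rf Q y) = rf Q x * (rf Q y * rf Q x) * rf Q y := by group
    _ = rf Q x * (rf Q x * rf Q y) * rf Q y := by rw [h1]
    _ = (rf Q x * rf Q x) * (rf Q y * rf Q y) := by group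
    _ = 1 := by rw [rf_mul_self, rf_mul_self, one_mul]

theorem rf_mul_rf_ne_one (Q : QuadraticForm K U) (h2 : (2 : K) ≠ 0) (x y : U)
    (h : QuadraticMap.polar (⇑Q) x y = 0) (hy : Q y ≠ 0) : rf Q x * rf Q y ≠ 1 := by
  intro h1
  have h3 := LinearEquiv.congr_fun h1 y
  rw [LinearEquiv.mul_apply, rf_self Q y hy, map_neg, rf_of_perp Q x y h] at h3
  have h4 : (2 : K) • y = 0 := by
    have : y + y = 0 := by
      have h5 : -y = y := h3
      calc y + y = y + -y := by rw [h5]
        _ = 0 := add_neg_cancel y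
    rw [two_smul]; exact this
  rcases smul_eq_zero.mp h4 with h5 | h5
  · exact h2 h5
  · rw [h5, QuadraticMap.map_zero] at hy
    exact hy rfl

end Cfsg.Agent.Lib.Helper16.OB
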