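import Mathlib
import Cfsg.Agent.Lib.Helper16.OB1
import Cfsg.Agent.Lib.Helper16.Witt

set_option autoImplicit false
set_option linter.unusedSectionVars false
set_option linter.unusedVariables false

/-! Odd-order subgroups normalised by reflections, part 2: existence of vectors. -/

namespace Cfsg.Agent.Lib.Helper16.OB

open Module Cfsg.Agent.Lib.Helper16

universe u v

section basic

variable {K : Type u} [Field K] {U : Type v} [AddCommGroup U] [Module K U]

theorem polarBilin_symm (Q : QuadraticForm K U) : LinearMap.IsSymm (QuadraticMap.polarBilin Q) :=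
  ⟨fun x y => by simpa using QuadraticMap.polar_comm Q x y⟩

theorem polarBilin_refl (Q : QuadraticForm K U) : (QuadraticMap.polarBilin Q).IsRefl :=
  (polarBilin_symm Q).isRefl

/-- the hyperplane orthogonal to `x`. -/
noncomputable def perpS (Q : QuadraticForm K U) (x : U) : Submodule K U :=
  LinearMap.BilinForm.orthogonal (QuadraticMap.polarBilin Q) (K ∙ x)

theorem mem_perpS (Q : QuadraticForm K U) (x y : U) :
    y ∈ perpS Q x ↔ QuadraticMap.polar (⇑Q) x y = 0 := by
  unfold perpS
  rw [LinearMap.BilinForm.mem_orthogonal_iff]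
  constructor
  · intro h
    have := h x (Submodule.mem_span_singleton_self x)
    rwa [QuadraticMap.polarBilin_apply_apply] at this
  · intro h n hn
    obtain ⟨c, rfl⟩ := Submodule.mem_span_singleton.mp hn
    rw [QuadraticMap.polarBilin_apply_apply, QuadraticMap.polar_smul_left, h, smul_zero]

theorem polarBilin_restrict (Q : QuadraticForm K U) (W : Submodule K U) :
    QuadraticMap.polarBilin (Q.comp W.subtype) = LinearMap.BilinForm.restrict (QuadraticMap.polarBilin Q) W := by
  ext a b
  exact polarBilin_comp_subtype Q W a b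

theorem perpS_nondeg (Q : QuadraticForm K U) (h2 : (2 : K) ≠ 0)
    (hQ : (QuadraticMap.polarBilin Q).Nondegenerate) (x : U) (hx : Q x ≠ 0) :
    (QuadraticMap.polarBilin (Q.comp (perpS Q x).subtype)).Nondegenerate := by
  rw [polarBilin_restrict]
  apply LinearMap.BilinForm.restrict_nondegenerate_orthogonal_spanSingleton _ hQ (polarBilin_refl Q)
  rw [QuadraticMap.polarBilin_apply_apply, polar_self2]
  exact mul_ne_zero h2 hx

theorem perpS_finrank [FiniteDimensional K U] (Q : QuadraticForm K U)
    (hQ : (QuadraticMap.polarBilin Q).Nondegenerate) (x : U) (hx : Q x ≠ 0) :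
    finrank K (perpS Q x) + 1 = finrank K U := by
  have hx0 : x ≠ 0 := by
    rintro rfl
    exact hx (QuadraticMap.map_zero Q)
  have h1 := LinearMap.BilinForm.finrank_orthogonal hQ (K ∙ x)
  rw [finrank_span_singleton hx0] at h1
  have h3 : 1 ≤ finrank K U := by
    have : 0 < finrank K U := by
      apply Module.finrank_pos_iff_exists_ne_zero.mpr
      exact ⟨x, hx0⟩
    omega
  unfold perpS
  omega

end basic

section finite

variable {K : Type u} [Field K] [Fintype K]

/-- a non-degenerate space of positive dimension has a non-singular vector. -/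
theorem exists_nonsing (h2 : (2 : K) ≠ 0) {U : Type v} [AddCommGroup U] [Module K U]
    [FiniteDimensional K U] (Q : QuadraticForm K U)
    (hQ : (QuadraticMap.polarBilin Q).Nondegenerate) (hd : 1 ≤ finrank K U) : ∃ v : U, Q v ≠ 0 := by
  have : Invertible (2 : K) := invertibleOfNonzero h2
  obtain ⟨v, hv⟩ := LinearMap.BilinForm.exists_orthogonal_basis (polarBilin_symm Q)
  refine ⟨v ⟨0, by omega⟩, ?_⟩
  intro h0
  have := LinearMap.IsOrthoᵢ.not_isOrtho_basis_self_of_separatingLeft hv hQ.1 ⟨0, by omega⟩
  apply this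
  show QuadraticMap.polarBilin Q _ _ = 0
  rw [QuadraticMap.polarBilin_apply_apply, polar_self2, h0, mul_zero]

/-- a non-degenerate space of dimension at least two represents every scalar. -/
theorem univ2 (h2 : (2 : K) ≠ 0) {U : Type v} [AddCommGroup U] [Module K U]
    [FiniteDimensional K U] (Q : QuadraticForm K U)
    (hQ : (QuadraticMap.polarBilin Q).Nondegenerate) (hd : 2 ≤ finrank K U) (c : K) :
    ∃ v : U, Q v = c := by
  by_cases hc : c = 0
  · exact ⟨0, by rw [hc]; exact QuadraticMap.map_zero Q⟩
  have : Invertible (2 : K) := invertibleOfNonzero h2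
  obtain ⟨v, hv⟩ := LinearMap.BilinForm.exists_orthogonal_basis (polarBilin_symm Q)
  have hne : ∀ i, Q (v i) ≠ 0 := by
    intro i h0
    have := LinearMap.IsOrthoᵢ.not_isOrtho_basis_self_of_separatingLeft hv hQ.1 i
    apply this
    show QuadraticMap.polarBilin Q _ _ = 0
    rw [QuadraticMap.polarBilin_apply_apply, polar_self2, h0, mul_zero]
  set i₀ : Fin (finrank K U) := ⟨0, by omega⟩
  set i₁ : Fin (finrank K U) := ⟨1, by omega⟩
  have h01 : i₀ ≠ i₁ := by intro h; have := congrArg Fin.val h; simp [i₀, i₁] at this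
  have p01 : QuadraticMap.polar ⇑Q (v i₀) (v i₁) = 0 := hv h01
  have ha : Q (v i₀) / c ≠ 0 := div_ne_zero (hne i₀) hc
  have hb : Q (v i₁) / c ≠ 0 := div_ne_zero (hne i₁) hc
  obtain ⟨s, t, hst⟩ := exists_sq_sum h2 ha hb
  refine ⟨s • v i₀ + t • v i₁, ?_⟩
  rw [quad_add, QuadraticMap.map_smul, QuadraticMap.map_smul, QuadraticMap.polar_smul_left,
    QuadraticMap.polar_smul_right, p01]
  simp only [smul_eq_mul, mul_zero, add_zero]
  field_simp at hst
  linear_combination hst

/-- vectors orthogonal to a family of pairwise orthogonal non-singular vectors represent every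
scalar, when two dimensions remain. -/
theorem orth_ext (h2 : (2 : K) ≠ 0) : ∀ (j : ℕ) {U : Type v} [AddCommGroup U] [Module K U]
    [FiniteDimensional K U] (Q : QuadraticForm K U)
    (hQ : (QuadraticMap.polarBilin Q).Nondegenerate) (t : Fin j → U),
    (∀ i, Q (t i) ≠ 0) → (∀ i i', i ≠ i' → QuadraticMap.polar (⇑Q) (t i) (t i') = 0) →
    j + 2 ≤ finrank K U → ∀ c : K, ∃ y : U, Q y = c ∧ ∀ i, QuadraticMap.polar (⇑Q) (t i) y = 0 := by
  intro j
  induction j with
  | zero =>
    intro U _ _ _ Q hQ t ht hto hd c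
    obtain ⟨y, hy⟩ := univ2 h2 Q hQ (by omega) c
    exact ⟨y, hy, fun i => i.elim0⟩
  | succ j ih =>
    intro U _ _ _ Q hQ t ht hto hd c
    have hx := ht 0
    have hnd := perpS_nondeg Q h2 hQ (t 0) hx
    have hfr := perpS_finrank Q hQ (t 0) hx
    have hmem : ∀ i : Fin j, t i.succ ∈ perpS Q (t 0) := by
      intro i
      rw [mem_perpS]
      exact hto 0 i.succ (Fin.succ_ne_zero i).symm
    obtain ⟨y, hy, hyo⟩ := ih (Q.comp (perpS Q (t 0)).subtype) hnd
      (fun i => ⟨t i.succ, hmem i⟩) (fun i => ht i.succ)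
      (fun i i' hii' => by
        rw [polar_comp_subtype]
        exact hto i.succ i'.succ (fun h => hii' (Fin.succ_injective _ h)))
      (by omega) c
    refine ⟨(y : U), hy, ?_⟩
    intro i
    refine Fin.cases ?_ (fun i' => ?_) i
    · exact (mem_perpS Q (t 0) y).mp y.2
    · have := hyo i'
      rwa [polar_comp_subtype] at this

/-- a non-singular vector orthogonal to a family of pairwise orthogonal non-singular vectors, when
one dimension remains. -/
theorem orth_ext_ns (h2 : (2 : K) ≠ 0) : ∀ (j : ℕ) {U : Type v} [AddCommGroup U] [Module K U]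
    [FiniteDimensional K U] (Q : QuadraticForm K U)
    (hQ : (QuadraticMap.polarBilin Q).Nondegenerate) (t : Fin j → U),
    (∀ i, Q (t i) ≠ 0) → (∀ i i', i ≠ i' → QuadraticMap.polar (⇑Q) (t i) (t i') = 0) →
    j + 1 ≤ finrank K U → ∃ y : U, Q y ≠ 0 ∧ ∀ i, QuadraticMap.polar (⇑Q) (t i) y = 0 := by
  intro j
  induction j with
  | zero =>
    intro U _ _ _ Q hQ t ht hto hd
    obtain ⟨y, hy⟩ := exists_nonsing h2 Q hQ (by omega)
    exact ⟨y, hy, fun i => i.elim0⟩
  | succ j ih =>
    intro U _ _ _ Q hQ t ht hto hd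
    have hx := ht 0
    have hnd := perpS_nondeg Q h2 hQ (t 0) hx
    have hfr := perpS_finrank Q hQ (t 0) hx
    have hmem : ∀ i : Fin j, t i.succ ∈ perpS Q (t 0) := by
      intro i
      rw [mem_perpS]
      exact hto 0 i.succ (Fin.succ_ne_zero i).symm
    obtain ⟨y, hy, hyo⟩ := ih (Q.comp (perpS Q (t 0)).subtype) hnd
      (fun i => ⟨t i.succ, hmem i⟩) (fun i => ht i.succ)
      (fun i i' hii' => by
        rw [polar_comp_subtype]
        exact hto i.succ i'.succ (fun h => hii' (Fin.succ_injective _ h)))
      (by omega)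
    refine ⟨(y : U), hy, ?_⟩
    intro i
    refine Fin.cases ?_ (fun i' => ?_) i
    · exact (mem_perpS Q (t 0) y).mp y.2
    · have := hyo i'
      rwa [polar_comp_subtype] at this

end finite

section span

variable {K : Type u} [Field K] {U : Type v} [AddCommGroup U] [Module K U]

/-- a linear map fixing all non-singular vectors is the identity. -/
theorem eq_of_fix_nonsing (Q : QuadraticForm K U) (h2 : (2 : K) ≠ 0)
    (hQ : (QuadraticMap.polarBilin Q).Nondegenerate) (g : U →ₗ[K] U)
    (hg : ∀ v, Q v ≠ 0 → g v = v) (v : U) : g v = v := by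
  by_cases hv : Q v = 0
  · by_cases hv0 : v = 0
    · rw [hv0, map_zero]
    obtain ⟨w, hw⟩ : ∃ w : U, QuadraticMap.polar (⇑Q) v w ≠ 0 := by
      by_contra hcon
      push Not at hcon
      exact hv0 (hQ.1 v (fun y => by
        rw [QuadraticMap.polarBilin_apply_apply]; exact hcon y))
    by_cases hQw : Q w = 0
    · -- both singular
      have h1 : Q (v + w) ≠ 0 := by
        rw [quad_add, hv, hQw, zero_add, zero_add]; exact hw
      have h3 : Q (v - w) ≠ 0 := by
        have := quad_sub_smul Q v w 1
        rw [one_smul] at this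
        rw [this, hv, hQw, QuadraticMap.polar_comm (⇑Q) w v]
        simp only [one_pow, mul_zero, add_zero, zero_sub, one_mul, neg_ne_zero]
        exact hw
      have e1 := hg _ h1
      have e2 := hg _ h3
      rw [map_add] at e1
      rw [map_sub] at e2
      have e3 : (2 : K) • g v = (2 : K) • v := by
        rw [two_smul, two_smul]
        calc g v + g v = (g v + g w) + (g v - g w) := by abel
          _ = (v + w) + (v - w) := by rw [e1, e2]
          _ = v + v := by abel
      exact smul_right_injective U h2 e3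
    · -- `w` non-singular
      have hc : ∃ c : K, c ≠ 0 ∧ Q (v + c • w) ≠ 0 := by
        have hq : ∀ c : K, Q (v + c • w) = c * (c * Q w + QuadraticMap.polar (⇑Q) v w) := by
          intro c
          rw [quad_add, hv, QuadraticMap.map_smul, QuadraticMap.polar_smul_right]
          simp only [smul_eq_mul]
          ring
        by_cases h1 : Q w + QuadraticMap.polar (⇑Q) v w = 0
        · refine ⟨-1, by simp, ?_⟩
          rw [hq]
          intro h0
          rcases mul_eq_zero.mp h0 with h | h
          · simp at h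
          · have : (2 : K) * QuadraticMap.polar (⇑Q) v w = 0 := by linear_combination h1 + h
            rcases mul_eq_zero.mp this with h' | h'
            · exact h2 h'
            · exact hw h'
        · refine ⟨1, one_ne_zero, ?_⟩
          rw [hq, one_mul, one_mul]
          exact h1
      obtain ⟨c, hc0, hc1⟩ := hc
      have e1 := hg _ hc1
      have e2 : g (c • w) = c • w := hg _ (by
        rw [QuadraticMap.map_smul]
        exact mul_ne_zero (mul_ne_zero hc0 hc0) hQw)
      rw [map_add, e2] at e1
      exact add_right_cancel e1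
  · exact hg v hv

/-- a hyperbolic partner of a singular vector inside the hyperplane orthogonal to a non-singular
vector. -/
theorem hyp_partner_perp (Q : QuadraticForm K U) (h2 : (2 : K) ≠ 0)
    (hQ : (QuadraticMap.polarBilin Q).Nondegenerate) (a z : U) (ha : Q a ≠ 0) (hz : Q z = 0)
    (hz0 : z ≠ 0) (haz : QuadraticMap.polar (⇑Q) a z = 0) :
    ∃ f : U, Q f = 0 ∧ QuadraticMap.polar (⇑Q) z f = 1 ∧ QuadraticMap.polar (⇑Q) a f = 0 := by
  obtain ⟨f₀, hf₀, hzf₀⟩ := hyp_pair Q hQ hz0 hz
  set c : K := (2 * Q a)⁻¹ * QuadraticMap.polar (⇑Q) a f₀ with hc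
  have h2a : (2 * Q a) ≠ 0 := mul_ne_zero h2 ha
  set f₁ : U := f₀ - c • a with hf₁
  have h1 : QuadraticMap.polar (⇑Q) a f₁ = 0 := by
    rw [hf₁, QuadraticMap.polar_sub_right, QuadraticMap.polar_smul_right, polar_self2, hc, smul_eq_mul]
    field_simp
    ring
  have hza : QuadraticMap.polar (⇑Q) z a = 0 := by rw [QuadraticMap.polar_comm]; exact haz
  have h3 : QuadraticMap.polar (⇑Q) z f₁ = 1 := by
    rw [hf₁, QuadraticMap.polar_sub_right, QuadraticMap.polar_smul_right, hza, hzf₀]
    simp
  refine ⟨f₁ - Q f₁ • z, ?_, ?_, ?_⟩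
  · rw [quad_sub_smul, hz, h3]
    ring
  · rw [QuadraticMap.polar_sub_right, QuadraticMap.polar_smul_right, polar_self2, hz, h3]
    simp
  · rw [QuadraticMap.polar_sub_right, QuadraticMap.polar_smul_right, haz, h1]
    simp

end span

end Cfsg.Agent.Lib.Helper16.OB
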