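import Mathlib
import Cfsg.Agent.Lib.Helper16.OB2

set_option autoImplicit false
set_option linter.unusedSectionVars false
set_option linter.unusedVariables false

/-! Odd-order subgroups normalised by reflections, part 3: a product of two reflections and a
vector which it moves to an orthogonal vector. -/

namespace Cfsg.Agent.Lib.Helper16.OB

open Module Cfsg.Agent.Lib.Helper16

universe u v

variable {K : Type u} [Field K] {U : Type v} [AddCommGroup U] [Module K U]
variable (Q : QuadraticForm K U)

set_option quotPrecheck false in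
local notation "pol" => QuadraticMap.polar (⇑Q)

theorem pol_comb (a a' : U) (A A' α β : K) :
    pol (A • a + A' • a') (α • a + β • a') =
      A * α * pol a a + (A * β + A' * α) * pol a a' + A' * β * pol a' a' := by
  simp only [QuadraticMap.polar_add_left, QuadraticMap.polar_add_right,
    QuadraticMap.polar_smul_left, QuadraticMap.polar_smul_right, smul_eq_mul,
    QuadraticMap.polar_comm (⇑Q) a' a]
  ring

theorem Q_comb (a a' : U) (α β : K) :
    Q (α • a + β • a') = α ^ 2 * Q a + β ^ 2 * Q a' + α * β * pol a a' := by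
  rw [quad_add, QuadraticMap.map_smul, QuadraticMap.map_smul, QuadraticMap.polar_smul_left,
    QuadraticMap.polar_smul_right]
  simp only [smul_eq_mul]
  ring

/-- the image of `a` under `r_{a'} r_a`. -/
theorem rot_a (a a' : U) (c : K) (hc : c ≠ 0) (ha : Q a = c) (ha' : Q a' = c) :
    rf Q a' (rf Q a a) = (-1 : K) • a + (c⁻¹ * pol a a') • a' := by
  rw [rf_self Q a (by rw [ha]; exact hc), map_neg, rf_apply, ha', QuadraticMap.polar_comm (⇑Q) a' a]
  module

theorem rot_a' (a a' : U) (c : K) (hc : c ≠ 0) (ha : Q a = c) (ha' : Q a' = c) :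
    rf Q a' (rf Q a a') =
      (-(c⁻¹ * pol a a')) • a + ((c⁻¹ * pol a a') ^ 2 - 1) • a' := by
  rw [rf_apply Q a a', ha, map_sub, map_smul, rf_self Q a' (by rw [ha']; exact hc), rf_apply Q a' a,
    ha', QuadraticMap.polar_comm (⇑Q) a' a]
  module

/-- `r_{a'} r_a` on the plane spanned by `a, a'`: the key identity. -/
theorem rot_polar (a a' : U) (c : K) (hc : c ≠ 0) (ha : Q a = c) (ha' : Q a' = c) (α β : K) :
    pol (rf Q a' (rf Q a (α • a + β • a'))) (α • a + β • a') =
      ((c⁻¹ * pol a a') ^ 2 - 2) * Q (α • a + β • a') := by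
  have h1 : rf Q a' (rf Q a (α • a + β • a')) =
      (-α - β * (c⁻¹ * pol a a')) • a +
        (α * (c⁻¹ * pol a a') + β * ((c⁻¹ * pol a a') ^ 2 - 1)) • a' := by
    rw [map_add, map_add, map_smul, map_smul, map_smul, map_smul, rot_a Q a a' c hc ha ha',
      rot_a' Q a a' c hc ha ha']
    module
  rw [h1, pol_comb, Q_comb, polar_self2, polar_self2, ha, ha']
  field_simp
  ring

theorem rot_perp (a a' y : U) (h1 : pol a y = 0) (h2 : pol a' y = 0) :
    rf Q a' (rf Q a y) = y := by
  rw [rf_of_perp Q a y h1, rf_of_perp Q a' y h2]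

variable [Fintype K]

set_option maxHeartbeats 800000 in
/-- non-degenerate plane: a non-singular vector moved to an orthogonal vector. -/
theorem exists_b_nondeg (h2 : (2 : K) ≠ 0) (a a' d : U) (c : K) (hc : c ≠ 0) (ha : Q a = c)
    (ha' : Q a' = c) (hD : 4 * c ^ 2 - (pol a a') ^ 2 ≠ 0) (hd : Q d ≠ 0) (had : pol a d = 0)
    (ha'd : pol a' d = 0) :
    ∃ b : U, Q b ≠ 0 ∧ pol (rf Q a' (rf Q a b)) b = 0 ∧
      ∀ y, pol a y = 0 → pol a' y = 0 → pol d y = 0 → pol b y = 0 := by
  set s : K := pol a a' with hs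
  set σ : K := c⁻¹ * s with hσ
  by_cases ht : σ ^ 2 - 2 = 0
  · refine ⟨a, by rw [ha]; exact hc, ?_, fun y h1 _ _ => h1⟩
    have := rot_polar Q a a' c hc ha ha' 1 0
    rw [one_smul, zero_smul, add_zero] at this
    rw [this, ← hs, ← hσ, ht, zero_mul]
  · -- the target value on the plane
    set T : K := -2 * Q d / (σ ^ 2 - 2) with hT
    have hT0 : T ≠ 0 := by
      rw [hT]
      exact div_ne_zero (mul_ne_zero (neg_ne_zero.mpr h2) hd) ht
    have h4c : 4 * c ≠ 0 := by
      have : (4 : K) = 2 * 2 := by norm_num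
      rw [this]
      exact mul_ne_zero (mul_ne_zero h2 h2) hc
    have hA : c / T ≠ 0 := div_ne_zero hc hT0
    have hB : (4 * c ^ 2 - s ^ 2) / (4 * c) / T ≠ 0 := div_ne_zero (div_ne_zero hD h4c) hT0
    obtain ⟨x, y, hxy⟩ := exists_sq_sum h2 hA hB
    obtain ⟨α, hα⟩ : ∃ α : K, α = x - y * s / (2 * c) := ⟨_, rfl⟩
    have h2c : 2 * c ≠ 0 := mul_ne_zero h2 hc
    have h4 : (4 : K) ≠ 0 := by
      have : (4 : K) = 2 * 2 := by norm_num
      rw [this]
      exact mul_ne_zero h2 h2
    have h7 : c * x ^ 2 + (4 * c ^ 2 - s ^ 2) / (4 * c) * y ^ 2 = T := by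
      have h8 := congrArg (fun t => t * T) hxy
      simp only [one_mul] at h8
      rw [← h8]
      field_simp
    have hQw : Q (α • a + y • a') = T := by
      rw [Q_comb, ha, ha', ← hs, hα, ← h7]
      field_simp
      ring
    have hwd : pol (α • a + y • a') d = 0 := by
      rw [QuadraticMap.polar_add_left, QuadraticMap.polar_smul_left, QuadraticMap.polar_smul_left,
        had, ha'd]
      simp
    have hrot := rot_polar Q a a' c hc ha ha' α y
    have hρw : ∃ A A' : K, rf Q a' (rf Q a (α • a + y • a')) = A • a + A' • a' := by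
      refine ⟨-α - y * σ, α * σ + y * (σ ^ 2 - 1), ?_⟩
      rw [map_add, map_add, map_smul, map_smul, map_smul, map_smul, rot_a Q a a' c hc ha ha',
        rot_a' Q a a' c hc ha ha']
      module
    obtain ⟨A, A', hAA⟩ := hρw
    have hρwd : pol (rf Q a' (rf Q a (α • a + y • a'))) d = 0 := by
      rw [hAA, QuadraticMap.polar_add_left, QuadraticMap.polar_smul_left,
        QuadraticMap.polar_smul_left, had, ha'd]
      simp
    have hwy : ∀ y', pol a y' = 0 → pol a' y' = 0 → pol (α • a + y • a') y' = 0 := by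
      intro y' h1 h3
      rw [QuadraticMap.polar_add_left, QuadraticMap.polar_smul_left, QuadraticMap.polar_smul_left,
        h1, h3]
      simp
    obtain ⟨w, hw⟩ : ∃ w : U, w = α • a + y • a' := ⟨_, rfl⟩
    rw [← hw] at hQw hwd hrot hρwd hwy
    refine ⟨w + d, ?_, ?_, ?_⟩
    · rw [quad_add, hQw, hwd, add_zero, hT]
      have h5 : σ ^ 2 - 2 - 2 ≠ 0 := by
        intro h0
        apply hD
        rw [hσ] at h0
        field_simp at h0
        linear_combination (-1 : K) * h0
      intro h0
      have h6 : Q d * (σ ^ 2 - 2 - 2) = 0 := by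
        field_simp at h0
        linear_combination h0
      rcases mul_eq_zero.mp h6 with h | h
      · exact hd h
      · exact h5 h
    · have hρd : rf Q a' (rf Q a d) = d := rot_perp Q a a' d had ha'd
      have hdw : pol d w = 0 := by rw [QuadraticMap.polar_comm]; exact hwd
      rw [map_add, map_add, hρd, QuadraticMap.polar_add_left, QuadraticMap.polar_add_right,
        QuadraticMap.polar_add_right, hrot, hQw, hρwd, hdw, polar_self2,
        ← hs, ← hσ, hT]
      field_simp
      ring
    · intro y' h1 h3 h4'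
      rw [QuadraticMap.polar_add_left, hwy y' h1 h3, h4']
      simp

omit [Fintype K] in
/-- degenerate plane (`pol a a' = 2 c`): a non-singular vector moved to an orthogonal vector. -/
theorem exists_b_deg (h2 : (2 : K) ≠ 0) (hQ : (QuadraticMap.polarBilin Q).Nondegenerate)
    (a a' : U) (c : K) (hc : c ≠ 0) (ha : Q a = c) (ha' : Q a' = c) (hne : a' ≠ a)
    (hs : pol a a' = 2 * c) :
    ∃ b z f : U, Q z = 0 ∧ Q f = 0 ∧ pol z f = 1 ∧ pol a z = 0 ∧ pol a f = 0 ∧ a' = a - z ∧
      Q b ≠ 0 ∧ pol (rf Q a' (rf Q a b)) b = 0 ∧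
      ∀ y, pol a y = 0 → pol z y = 0 → pol f y = 0 → pol b y = 0 := by
  set z : U := a - a' with hz
  have hQz : Q z = 0 := by
    have := quad_sub_smul Q a a' 1
    rw [one_smul] at this
    rw [hz, this, ha, ha', QuadraticMap.polar_comm (⇑Q) a' a, hs]
    ring
  have hz0 : z ≠ 0 := by
    intro h0
    apply hne
    rw [hz, sub_eq_zero] at h0
    exact h0.symm
  have haz : pol a z = 0 := by
    rw [hz, QuadraticMap.polar_sub_right, polar_self2, ha, hs, sub_self]
  have h2c : 2 * c ≠ 0 := mul_ne_zero h2 hc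
  obtain ⟨f, hQf, hzf, haf⟩ := hyp_partner_perp Q h2 hQ a z (by rw [ha]; exact hc) hQz hz0 haz
  have ha'e : a' = a - z := by rw [hz]; abel
  set b : U := (2 * c)⁻¹ • z + f with hb
  have hQb : Q b = (2 * c)⁻¹ := by
    rw [hb, quad_add, QuadraticMap.map_smul, hQz, hQf, QuadraticMap.polar_smul_left, hzf]
    simp
  have hab : pol a b = 0 := by
    rw [hb, QuadraticMap.polar_add_right, QuadraticMap.polar_smul_right, haz, haf]
    simp
  have hzb : pol z b = 1 := by
    rw [hb, QuadraticMap.polar_add_right, QuadraticMap.polar_smul_right, polar_self2, hQz, hzf]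
    simp
  have ha'b : pol a' b = -1 := by
    rw [ha'e, QuadraticMap.polar_sub_left, hab, hzb]
    ring
  refine ⟨b, z, f, hQz, hQf, hzf, haz, haf, ha'e, ?_, ?_, ?_⟩
  · rw [hQb]
    exact inv_ne_zero h2c
  · rw [rf_of_perp Q a b hab, rf_apply, ha', ha'b, QuadraticMap.polar_sub_left,
      QuadraticMap.polar_smul_left, polar_self2, hQb, ha'b]
    simp only [smul_eq_mul]
    field_simp
    ring
  · intro y h1 h3 h4
    rw [hb, QuadraticMap.polar_add_left, QuadraticMap.polar_smul_left, h3, h4]
    simp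

end Cfsg.Agent.Lib.Helper16.OB
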