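import Mathlib
import Cfsg.Agent.Lib.Helper16.OB3

set_option autoImplicit false
set_option linter.unusedSectionVars false
set_option linter.unusedVariables false

/-! Odd-order subgroups normalised by reflections, part 4: the unified construction and the case
where all reflections normalise. -/

namespace Cfsg.Agent.Lib.Helper16.OB

open Module Cfsg.Agent.Lib.Helper16

universe u v

section grp

variable {G : Type*} [Group G]

theorem eq_one_of_sq_of_odd (M : Subgroup G) [Finite M] (hodd : Odd (Nat.card M)) (t : G)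
    (ht : t ∈ M) (h2 : t * t = 1) : t = 1 := by
  by_contra hne
  have h1 : (⟨t, ht⟩ : ↥M) ^ 2 = 1 := by
    apply Subtype.ext
    rw [pow_two]
    exact h2
  have h3 : (⟨t, ht⟩ : ↥M) ≠ 1 := fun h => hne (congrArg Subtype.val h)
  have h4 : orderOf (⟨t, ht⟩ : ↥M) = 2 := orderOf_eq_prime h1 h3
  have h5 := orderOf_dvd_natCard (⟨t, ht⟩ : ↥M)
  rw [h4] at h5
  rw [Nat.odd_iff] at hodd
  omega

theorem pow_card_eq_one_of_mem (M : Subgroup G) [Finite M] (t : G) (ht : t ∈ M) :
    t ^ Nat.card M = 1 := by
  have := pow_card_eq_one' (G := ↥M) (x := ⟨t, ht⟩)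
  exact congrArg Subtype.val this

end grp

variable {K : Type u} [Field K] {U : Type v} [AddCommGroup U] [Module K U]
variable (Q : QuadraticForm K U)

set_option quotPrecheck false in
local notation "pol" => QuadraticMap.polar (⇑Q)

/-- an element of an odd-order group of linear maps does not negate a non-zero vector. -/
theorem not_neg_of_odd (h2 : (2 : K) ≠ 0) (M : Subgroup (U ≃ₗ[K] U)) [Finite M]
    (hodd : Odd (Nat.card M)) (h : U ≃ₗ[K] U) (hh : h ∈ M) (a : U) (ha : h a = -a) : a = 0 := by
  have h1 := pow_card_eq_one_of_mem M h hh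
  have h3 : ∀ k : ℕ, (h ^ k) a = (-1 : K) ^ k • a := by
    intro k
    induction k with
    | zero => simp
    | succ k ih =>
      rw [pow_succ, LinearEquiv.mul_apply, ha, map_neg, ih, pow_succ]
      simp
  have h4 := h3 (Nat.card M)
  rw [h1, hodd.neg_one_pow] at h4
  have h5 : (2 : K) • a = 0 := by
    have h6 : a = -a := by simpa using h4
    rw [two_smul]
    nth_rw 1 [h6]
    exact neg_add_cancel a
  rcases smul_eq_zero.mp h5 with h | h
  · exact absurd h h2
  · exact h

variable [Fintype K] [FiniteDimensional K U]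

set_option maxHeartbeats 1600000 in
/-- the unified construction: for a product `ρ = r_{a'} r_a` of two reflections in independent
vectors of equal norm, a non-singular `b` with `ρ b` orthogonal to `b`, together with three
pairwise orthogonal non-singular vectors whose orthogonal complement is orthogonal to
`a, a', b`. -/
theorem exists_b (h2 : (2 : K) ≠ 0) (hQ : (QuadraticMap.polarBilin Q).Nondegenerate)
    (h3 : 3 ≤ finrank K U) (a a' : U) (c : K) (hc : c ≠ 0) (ha : Q a = c) (ha' : Q a' = c)
    (hne : a' ≠ a) (hne' : a' ≠ -a) :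
    ∃ (b : U) (t : Fin 3 → U), Q b ≠ 0 ∧ pol (rf Q a' (rf Q a b)) b = 0 ∧
      (∀ i, Q (t i) ≠ 0) ∧ (∀ i i', i ≠ i' → pol (t i) (t i') = 0) ∧
      ∀ y, (∀ i, pol (t i) y = 0) → pol a y = 0 ∧ pol a' y = 0 ∧ pol b y = 0 := by
  set s : K := pol a a' with hs
  have h2c : 2 * c ≠ 0 := mul_ne_zero h2 hc
  have h4 : (4 : K) ≠ 0 := by
    have : (4 : K) = 2 * 2 := by norm_num
    rw [this]
    exact mul_ne_zero h2 h2
  by_cases hD : 4 * c ^ 2 - s ^ 2 = 0
  · -- degenerate plane
    have hss : (s - 2 * c) * (s + 2 * c) = 0 := by linear_combination (-1 : K) * hD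
    have key : ∀ a₂ : U, Q a₂ = c → a₂ ≠ a → pol a a₂ = 2 * c → rf Q a₂ = rf Q a' →
        (∀ y, pol a y = 0 → pol a₂ y = 0 → pol a' y = 0) →
        ∃ (b : U) (t : Fin 3 → U), Q b ≠ 0 ∧ pol (rf Q a' (rf Q a b)) b = 0 ∧
        (∀ i, Q (t i) ≠ 0) ∧ (∀ i i', i ≠ i' → pol (t i) (t i') = 0) ∧
        ∀ y, (∀ i, pol (t i) y = 0) → pol a y = 0 ∧ pol a' y = 0 ∧ pol b y = 0 := by
      intro a₂ hQa₂ hne₂ hs₂ hrf hperp
      obtain ⟨b, z, f, hQz, hQf, hzf, haz, haf, ha₂e, hQb, hρb, hby⟩ :=
        exists_b_deg Q h2 hQ a a₂ c hc ha hQa₂ hne₂ hs₂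
      have hfz : pol f z = 1 := by rw [QuadraticMap.polar_comm]; exact hzf
      refine ⟨b, ![a, z + f, z - f], hQb, by rw [← hrf]; exact hρb, ?_, ?_, ?_⟩
      · intro i
        fin_cases i
        · show Q a ≠ 0
          rw [ha]; exact hc
        · show Q (z + f) ≠ 0
          rw [quad_add, hQz, hQf, hzf]; simp
        · show Q (z - f) ≠ 0
          have := quad_sub_smul Q z f 1
          rw [one_smul] at this
          rw [this, hQz, hQf, hfz]; simp
      · have e1 : pol a (z + f) = 0 := by rw [QuadraticMap.polar_add_right, haz, haf, add_zero]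
        have e2 : pol a (z - f) = 0 := by rw [QuadraticMap.polar_sub_right, haz, haf, sub_zero]
        have e3 : pol (z + f) (z - f) = 0 := by
          rw [QuadraticMap.polar_add_left, QuadraticMap.polar_sub_right, QuadraticMap.polar_sub_right,
            polar_self2, polar_self2, hQz, hQf, hzf, hfz]
          ring
        intro i i' hii'
        fin_cases i <;> fin_cases i'
        · exact absurd rfl hii'
        · exact e1
        · exact e2
        · show pol (z + f) a = 0
          rw [QuadraticMap.polar_comm]; exact e1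
        · exact absurd rfl hii'
        · exact e3
        · show pol (z - f) a = 0
          rw [QuadraticMap.polar_comm]; exact e2
        · show pol (z - f) (z + f) = 0
          rw [QuadraticMap.polar_comm]; exact e3
        · exact absurd rfl hii'
      · intro y hy
        have y0 : pol a y = 0 := hy 0
        have y1 : pol (z + f) y = 0 := hy 1
        have y2 : pol (z - f) y = 0 := hy 2
        rw [QuadraticMap.polar_add_left] at y1
        rw [QuadraticMap.polar_sub_left] at y2
        have yz : pol z y = 0 := by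
          have : (2 : K) * pol z y = 0 := by linear_combination y1 + y2
          rcases mul_eq_zero.mp this with h | h
          · exact absurd h h2
          · exact h
        have yf : pol f y = 0 := by linear_combination y1 - yz
        have ya₂ : pol a₂ y = 0 := by
          rw [ha₂e, QuadraticMap.polar_sub_left, y0, yz, sub_zero]
        exact ⟨y0, hperp y y0 ya₂, hby y y0 yz yf⟩
    rcases mul_eq_zero.mp hss with h | h
    · exact key a' ha' hne (by rw [← hs]; linear_combination h) rfl (fun y _ h => h)
    · refine key (-a') (by rw [QuadraticMap.map_neg]; exact ha') ?_ ?_ (rf_neg Q a') ?_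
      · intro h0
        apply hne'
        rw [← h0, neg_neg]
      · rw [QuadraticMap.polar_neg_right, ← hs]; linear_combination (-1 : K) * h
      · intro y _ h0
        rw [QuadraticMap.polar_neg_left, neg_eq_zero] at h0
        exact h0
  · -- non-degenerate plane
    set a'' : U := a' - (s / (2 * c)) • a with ha''
    have hQa'' : Q a'' = (4 * c ^ 2 - s ^ 2) / (4 * c) := by
      rw [ha'', quad_sub_smul, ha, ha', ← hs]
      field_simp
      ring
    have hQa''0 : Q a'' ≠ 0 := by
      rw [hQa'']
      exact div_ne_zero hD (mul_ne_zero h4 hc)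
    have haa'' : pol a a'' = 0 := by
      rw [ha'', QuadraticMap.polar_sub_right, QuadraticMap.polar_smul_right, polar_self2, ha, ← hs,
        smul_eq_mul]
      field_simp
      ring
    have hQa0 : Q a ≠ 0 := by rw [ha]; exact hc
    obtain ⟨d, hd, hdo⟩ := orth_ext_ns h2 2 Q hQ ![a, a''] (by
        intro i
        fin_cases i
        · exact hQa0
        · exact hQa''0) (by
        intro i i' hii'
        fin_cases i <;> fin_cases i'
        · exact absurd rfl hii'
        · exact haa''
        · show pol a'' a = 0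
          rw [QuadraticMap.polar_comm]; exact haa''
        · exact absurd rfl hii') (by omega)
    have had : pol a d = 0 := hdo 0
    have ha''d : pol a'' d = 0 := hdo 1
    have ha'eq : a' = a'' + (s / (2 * c)) • a := by rw [ha'']; abel
    have ha'd : pol a' d = 0 := by
      rw [ha'eq, QuadraticMap.polar_add_left, QuadraticMap.polar_smul_left, ha''d, had]
      simp
    obtain ⟨b, hQb, hρb, hby⟩ := exists_b_nondeg Q h2 a a' d c hc ha ha' hD hd had ha'd
    have hda : pol d a = 0 := by rw [QuadraticMap.polar_comm]; exact had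
    have hda'' : pol d a'' = 0 := by rw [QuadraticMap.polar_comm]; exact ha''d
    refine ⟨b, ![a, a'', d], hQb, hρb, ?_, ?_, ?_⟩
    · intro i
      fin_cases i
      · exact hQa0
      · exact hQa''0
      · exact hd
    · intro i i' hii'
      fin_cases i <;> fin_cases i'
      · exact absurd rfl hii'
      · exact haa''
      · exact had
      · show pol a'' a = 0
        rw [QuadraticMap.polar_comm]; exact haa''
      · exact absurd rfl hii'
      · exact ha''d
      · exact hda
      · exact hda''
      · exact absurd rfl hii'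
    · intro y hy
      have y0 : pol a y = 0 := hy 0
      have y1 : pol a'' y = 0 := hy 1
      have y2 : pol d y = 0 := hy 2
      have ya' : pol a' y = 0 := by
        rw [ha'eq, QuadraticMap.polar_add_left, QuadraticMap.polar_smul_left, y1, y0]
        simp
      exact ⟨y0, ya', hby y y0 ya' y2⟩

set_option maxHeartbeats 800000 in
/-- an odd-order group of isometries normalised by all reflections is trivial, in dimension at
least three. -/
theorem core_R1 (h2 : (2 : K) ≠ 0) (hQ : (QuadraticMap.polarBilin Q).Nondegenerate)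
    (h3 : 3 ≤ finrank K U) (M : Subgroup (U ≃ₗ[K] U)) [Finite M] (hodd : Odd (Nat.card M))
    (hiso : ∀ g ∈ M, ∀ v, Q (g v) = Q v)
    (hN : ∀ x, Q x ≠ 0 → ∀ g ∈ M, rf Q x * g * (rf Q x)⁻¹ ∈ M) : M = ⊥ := by
  rw [eq_bot_iff]
  intro h hh
  rw [Subgroup.mem_bot]
  by_contra hne1
  -- a non-singular vector moved by `h`
  obtain ⟨a, hQa, hha⟩ : ∃ a : U, Q a ≠ 0 ∧ h a ≠ a := by
    by_contra hcon
    push Not at hcon
    apply hne1
    apply LinearEquiv.ext
    intro v
    exact eq_of_fix_nonsing Q h2 hQ h.toLinearMap hcon v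
  have hisoh := hiso h hh
  set a' : U := h a with ha'
  have hQa' : Q a' = Q a := hisoh a
  have hne' : a' ≠ -a := by
    intro h0
    have := not_neg_of_odd h2 M hodd h hh a h0
    rw [this, QuadraticMap.map_zero] at hQa
    exact hQa rfl
  -- the rotation
  have hρ : rf Q a' * rf Q a ∈ M := by
    have h1 : rf Q a' * rf Q a = h * (rf Q a * h⁻¹ * (rf Q a)⁻¹) := by
      rw [ha', ← rf_conj Q h hisoh a, rf_inv]
      group
    rw [h1]
    exact M.mul_mem hh (hN a hQa _ (M.inv_mem hh))
  obtain ⟨b, t, hQb, hρb, -, -, -⟩ := exists_b Q h2 hQ h3 a a' (Q a) hQa rfl hQa' hha hne'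
  have hρiso : ∀ v, Q ((rf Q a' * rf Q a) v) = Q v := by
    intro v
    rw [LinearEquiv.mul_apply, Q_rf, Q_rf]
  have ht : rf Q ((rf Q a' * rf Q a) b) * rf Q b ∈ M := by
    have h1 : rf Q ((rf Q a' * rf Q a) b) * rf Q b =
        (rf Q a' * rf Q a) * (rf Q b * (rf Q a' * rf Q a)⁻¹ * (rf Q b)⁻¹) := by
      rw [← rf_conj Q _ hρiso b, rf_inv]
      group
    rw [h1]
    exact M.mul_mem hρ (hN b hQb _ (M.inv_mem hρ))
  have hperp : pol ((rf Q a' * rf Q a) b) b = 0 := hρb
  have hsq := rf_mul_rf_sq Q _ _ hperp
  have h1 := eq_one_of_sq_of_odd M hodd _ ht hsq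
  exact rf_mul_rf_ne_one Q h2 _ _ hperp hQb h1

end Cfsg.Agent.Lib.Helper16.OB
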