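import Mathlib
import Cfsg.Agent.Lib.Helper16.OB4

set_option autoImplicit false
set_option linter.unusedSectionVars false
set_option linter.unusedVariables false

/-! Odd-order subgroups normalised by reflections, part 5: products of two reflections only;
elements fixing a non-singular vector. -/

namespace Cfsg.Agent.Lib.Helper16.OB

open Module Cfsg.Agent.Lib.Helper16

universe u v

variable {K : Type u} [Field K] {U : Type v} [AddCommGroup U] [Module K U]
variable (Q : QuadraticForm K U)

set_option quotPrecheck false in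
local notation "pol" => QuadraticMap.polar (⇑Q)

variable [Fintype K] [FiniteDimensional K U]

set_option maxHeartbeats 800000 in
/-- a non-trivial isometry fixing a non-singular vector `d` moves a vector orthogonal to `d` of
the same norm. -/
theorem exists_moved_perp (h2 : (2 : K) ≠ 0) (hQ : (QuadraticMap.polarBilin Q).Nondegenerate)
    (h4 : 4 ≤ finrank K U) (h : U ≃ₗ[K] U) (hiso : ∀ v, Q (h v) = Q v) (hne : h ≠ 1) (d : U)
    (hd : Q d ≠ 0) (hhd : h d = d) : ∃ a : U, Q a = Q d ∧ pol d a = 0 ∧ h a ≠ a := by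
  by_contra hcon
  push Not at hcon
  apply hne
  have h2d : 2 * Q d ≠ 0 := mul_ne_zero h2 hd
  have h4' : (4 : K) ≠ 0 := by
    have : (4 : K) = 2 * 2 := by norm_num
    rw [this]
    exact mul_ne_zero h2 h2
  -- non-singular vectors orthogonal to `d` are fixed
  have step1 : ∀ v : U, pol d v = 0 → Q v ≠ 0 → h v = v := by
    intro v hdv hv
    obtain ⟨a₁, ha₁, ha₁o⟩ := orth_ext h2 2 Q hQ ![d, v] (by
        intro i
        fin_cases i
        · exact hd
        · exact hv) (by
        intro i i' hii'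
        fin_cases i <;> fin_cases i'
        · exact absurd rfl hii'
        · exact hdv
        · show pol v d = 0
          rw [QuadraticMap.polar_comm]; exact hdv
        · exact absurd rfl hii') (by omega) (Q d - Q v / 4)
    have hda₁ : pol d a₁ = 0 := ha₁o 0
    have hva₁ : pol v a₁ = 0 := ha₁o 1
    have e1 : Q ((-(1 / 2 : K)) • v + a₁) = Q d := by
      rw [quad_add, QuadraticMap.map_smul, QuadraticMap.polar_smul_left, hva₁, ha₁]
      simp only [smul_eq_mul]
      field_simp
      ring
    have e2 : pol d ((-(1 / 2 : K)) • v + a₁) = 0 := by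
      rw [QuadraticMap.polar_add_right, QuadraticMap.polar_smul_right, hdv, hda₁]
      simp
    have e3 : Q (((1 / 2 : K)) • v + a₁) = Q d := by
      rw [quad_add, QuadraticMap.map_smul, QuadraticMap.polar_smul_left, hva₁, ha₁]
      simp only [smul_eq_mul]
      field_simp
      ring
    have e4 : pol d (((1 / 2 : K)) • v + a₁) = 0 := by
      rw [QuadraticMap.polar_add_right, QuadraticMap.polar_smul_right, hdv, hda₁]
      simp
    have f1 := hcon _ e1 e2
    have f2 := hcon _ e3 e4
    have e5 : v = ((1 / 2 : K) • v + a₁) - ((-(1 / 2 : K)) • v + a₁) := by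
      have : (1 / 2 : K) + 1 / 2 = 1 := by field_simp; norm_num
      calc v = ((1 / 2 : K) + 1 / 2) • v := by rw [this, one_smul]
        _ = _ := by module
    rw [e5, map_sub, f1, f2]
  -- all vectors orthogonal to `d` are fixed
  have step2 : ∀ v : U, pol d v = 0 → h v = v := by
    intro v hdv
    by_cases hv : Q v = 0
    · by_cases hv0 : v = 0
      · rw [hv0, map_zero]
      obtain ⟨f, hQf, hvf, hdf⟩ := hyp_partner_perp Q h2 hQ d v hd hv hv0 hdv
      have hfv : pol f v = 1 := by rw [QuadraticMap.polar_comm]; exact hvf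
      have e1 : Q (f + v) ≠ 0 := by
        rw [quad_add, hQf, hv, hfv]; simp
      have e2 : Q (f + (2 : K) • v) ≠ 0 := by
        rw [quad_add, hQf, QuadraticMap.map_smul, hv, QuadraticMap.polar_smul_right, hfv]
        simpa using h2
      have o1 : pol d (f + v) = 0 := by rw [QuadraticMap.polar_add_right, hdf, hdv, add_zero]
      have o2 : pol d (f + (2 : K) • v) = 0 := by
        rw [QuadraticMap.polar_add_right, QuadraticMap.polar_smul_right, hdf, hdv]; simp
      have f1 := step1 _ o1 e1
      have f2 := step1 _ o2 e2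
      have e5 : v = (f + (2 : K) • v) - (f + v) := by module
      rw [e5, map_sub, f1, f2]
    · exact step1 v hdv hv
  apply LinearEquiv.ext
  intro u
  set lam : K := (2 * Q d)⁻¹ * pol d u with hlam
  have e1 : pol d (u - lam • d) = 0 := by
    rw [QuadraticMap.polar_sub_right, QuadraticMap.polar_smul_right, polar_self2, hlam, smul_eq_mul]
    field_simp
    ring
  have e2 := step2 _ e1
  have e3 : u = (u - lam • d) + lam • d := by abel
  rw [e3, map_add, e2, map_smul, hhd]
  rfl

set_option maxHeartbeats 800000 in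
/-- in an odd-order group of isometries normalised by the products of two reflections in
orthogonal vectors of equal norm, no non-trivial element fixes a non-singular vector (dimension at
least five). -/
theorem no_fixed_nonsing (h2 : (2 : K) ≠ 0) (hQ : (QuadraticMap.polarBilin Q).Nondegenerate)
    (h5 : 5 ≤ finrank K U) (M : Subgroup (U ≃ₗ[K] U)) [Finite M] (hodd : Odd (Nat.card M))
    (hiso : ∀ g ∈ M, ∀ v, Q (g v) = Q v)
    (hN : ∀ x y, Q x ≠ 0 → Q y = Q x → pol x y = 0 → ∀ g ∈ M,
      (rf Q x * rf Q y) * g * (rf Q x * rf Q y)⁻¹ ∈ M)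
    (h : U ≃ₗ[K] U) (hh : h ∈ M) (d : U) (hd : Q d ≠ 0) (hhd : h d = d) : h = 1 := by
  by_contra hne1
  have hisoh := hiso h hh
  obtain ⟨a, hQa, hda, hha⟩ := exists_moved_perp Q h2 hQ (by omega) h hisoh hne1 d hd hhd
  have hQa0 : Q a ≠ 0 := by rw [hQa]; exact hd
  have had : pol a d = 0 := by rw [QuadraticMap.polar_comm]; exact hda
  set a' : U := h a with ha'
  have hQa' : Q a' = Q a := hisoh a
  have hne' : a' ≠ -a := by
    intro h0
    have := not_neg_of_odd h2 M hodd h hh a h0
    rw [this, QuadraticMap.map_zero] at hQa0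
    exact hQa0 rfl
  -- the rotation
  have hρ : rf Q a' * rf Q a ∈ M := by
    have h1 : rf Q a' * rf Q a = h * ((rf Q a * rf Q d) * h⁻¹ * (rf Q a * rf Q d)⁻¹) := by
      have e1 : h * (rf Q a * rf Q d) * h⁻¹ = rf Q a' * rf Q d := by
        have := rf_conj Q h hisoh a
        have h3 := rf_conj Q h hisoh d
        rw [hhd] at h3
        calc h * (rf Q a * rf Q d) * h⁻¹ = (h * rf Q a * h⁻¹) * (h * rf Q d * h⁻¹) := by group
          _ = rf Q a' * rf Q d := by rw [this, h3]
      calc rf Q a' * rf Q a = (rf Q a' * rf Q d) * (rf Q d * rf Q a) := by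
            rw [mul_assoc, ← mul_assoc (rf Q d), rf_mul_self, one_mul]
        _ = (h * (rf Q a * rf Q d) * h⁻¹) * (rf Q a * rf Q d)⁻¹ := by
            rw [e1, mul_inv_rev, rf_inv, rf_inv]
        _ = _ := by group
    rw [h1]
    exact M.mul_mem hh (hN a d hQa0 hQa.symm had _ (M.inv_mem hh))
  obtain ⟨b, t, hQb, hρb, htns, hto, hty⟩ :=
    exists_b Q h2 hQ (by omega) a a' (Q a) hQa0 rfl hQa' hha hne'
  obtain ⟨b', hQb', hb'o⟩ := orth_ext h2 3 Q hQ t htns hto (by omega) (Q b)
  obtain ⟨hab', ha'b', hbb'⟩ := hty b' hb'o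
  have hρiso : ∀ v, Q ((rf Q a' * rf Q a) v) = Q v := by
    intro v
    rw [LinearEquiv.mul_apply, Q_rf, Q_rf]
  have hρb' : (rf Q a' * rf Q a) b' = b' := by
    rw [LinearEquiv.mul_apply]
    exact rot_perp Q a a' b' hab' ha'b'
  have ht : rf Q ((rf Q a' * rf Q a) b) * rf Q b ∈ M := by
    have h1 : rf Q ((rf Q a' * rf Q a) b) * rf Q b =
        (rf Q a' * rf Q a) * ((rf Q b * rf Q b') * (rf Q a' * rf Q a)⁻¹ * (rf Q b * rf Q b')⁻¹) := by
      have e1 : (rf Q a' * rf Q a) * (rf Q b * rf Q b') * (rf Q a' * rf Q a)⁻¹ =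
          rf Q ((rf Q a' * rf Q a) b) * rf Q b' := by
        have := rf_conj Q _ hρiso b
        have h3 := rf_conj Q _ hρiso b'
        rw [hρb'] at h3
        calc (rf Q a' * rf Q a) * (rf Q b * rf Q b') * (rf Q a' * rf Q a)⁻¹ =
              ((rf Q a' * rf Q a) * rf Q b * (rf Q a' * rf Q a)⁻¹) *
                ((rf Q a' * rf Q a) * rf Q b' * (rf Q a' * rf Q a)⁻¹) := by group
          _ = _ := by rw [this, h3]
      calc rf Q ((rf Q a' * rf Q a) b) * rf Q b =
            (rf Q ((rf Q a' * rf Q a) b) * rf Q b') * (rf Q b' * rf Q b) := by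
            rw [mul_assoc, ← mul_assoc (rf Q b'), rf_mul_self, one_mul]
        _ = ((rf Q a' * rf Q a) * (rf Q b * rf Q b') * (rf Q a' * rf Q a)⁻¹) *
              (rf Q b * rf Q b')⁻¹ := by
            rw [e1, mul_inv_rev, rf_inv, rf_inv]
        _ = _ := by group
    rw [h1]
    exact M.mul_mem hρ (hN b b' hQb hQb' hbb' _ (M.inv_mem hρ))
  have hperp : pol ((rf Q a' * rf Q a) b) b = 0 := hρb
  have hsq := rf_mul_rf_sq Q _ _ hperp
  have h1 := eq_one_of_sq_of_odd M hodd _ ht hsq
  exact rf_mul_rf_ne_one Q h2 _ _ hperp hQb h1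

end Cfsg.Agent.Lib.Helper16.OB
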