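import Mathlib
import Cfsg.Agent.Lib.Helper16.OB5

set_option autoImplicit false
set_option linter.unusedSectionVars false
set_option linter.unusedVariables false

/-! Odd-order subgroups normalised by reflections, part 6: the case where only products of two
reflections normalise, but every element has a non-zero fixed vector. -/

namespace Cfsg.Agent.Lib.Helper16.OB

open Module Cfsg.Agent.Lib.Helper16

universe u v

variable {K : Type u} [Field K] {U : Type v} [AddCommGroup U] [Module K U]
variable (Q : QuadraticForm K U)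

set_option quotPrecheck false in
local notation "pol" => QuadraticMap.polar (⇑Q)

theorem iso_pow (h : U ≃ₗ[K] U) (hiso : ∀ v, Q (h v) = Q v) (i : ℕ) (v : U) :
    Q ((h ^ i) v) = Q v := by
  induction i with
  | zero => simp
  | succ i ih => rw [pow_succ', LinearEquiv.mul_apply, hiso, ih]

theorem fix_pow (h : U ≃ₗ[K] U) (u : U) (hu : h u = u) (i : ℕ) : (h ^ i) u = u := by
  induction i with
  | zero => simp
  | succ i ih => rw [pow_succ, LinearEquiv.mul_apply, hu, ih]

/-- an isometry of order prime to the characteristic which fixes a non-zero vector fixes a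
non-singular vector. -/
theorem exists_fixed_nonsing (hQ : (QuadraticMap.polarBilin Q).Nondegenerate) (h : U ≃ₗ[K] U)
    (hiso : ∀ v, Q (h v) = Q v) (k : ℕ) (hk : (k : K) ≠ 0) (hpow : h ^ k = 1) (u : U)
    (hu : u ≠ 0) (hhu : h u = u) : ∃ d, Q d ≠ 0 ∧ h d = d := by
  obtain ⟨w, hw⟩ : ∃ w, pol u w ≠ 0 := by
    by_contra hcon
    push Not at hcon
    apply hu
    apply hQ.1
    intro y
    rw [QuadraticMap.polarBilin_apply_apply]
    exact hcon y
  set d₀ : U := ∑ i ∈ Finset.range k, (h ^ i) w with hd₀
  have hd₀fix : h d₀ = d₀ := by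
    rw [hd₀, map_sum]
    have e1 : ∀ i ∈ Finset.range k, h ((h ^ i) w) = (h ^ (i + 1)) w := by
      intro i _
      rw [pow_succ', LinearEquiv.mul_apply]
    rw [Finset.sum_congr rfl e1]
    have e2 := Finset.sum_range_succ (fun i => (h ^ i) w) k
    have e3 := Finset.sum_range_succ' (fun i => (h ^ i) w) k
    rw [e2] at e3
    simp only [hpow, pow_zero] at e3
    exact (add_right_cancel e3).symm
  have hpold : pol u d₀ = (k : K) * pol u w := by
    rw [hd₀]
    have e1 : pol u (∑ i ∈ Finset.range k, (h ^ i) w) =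
        ∑ i ∈ Finset.range k, pol u ((h ^ i) w) := by
      have := map_sum ((QuadraticMap.polarBilin Q) u) (fun i => (h ^ i) w) (Finset.range k)
      simp only [QuadraticMap.polarBilin_apply_apply] at this
      exact this
    rw [e1]
    have e2 : ∀ i ∈ Finset.range k, pol u ((h ^ i) w) = pol u w := by
      intro i _
      have := polar_of_iso Q (h ^ i) (iso_pow Q h hiso i) u w
      rw [fix_pow h u hhu i] at this
      exact this
    rw [Finset.sum_congr rfl e2, Finset.sum_const, Finset.card_range, nsmul_eq_mul]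
  have hpne : pol u d₀ ≠ 0 := by
    rw [hpold]
    exact mul_ne_zero hk hw
  by_cases h1 : Q u = 0
  · by_cases h3 : Q d₀ = 0
    · refine ⟨u + d₀, ?_, ?_⟩
      · rw [quad_add, h1, h3, zero_add, zero_add]
        exact hpne
      · rw [map_add, hhu, hd₀fix]
    · exact ⟨d₀, h3, hd₀fix⟩
  · exact ⟨u, h1, hhu⟩

variable [Fintype K] [FiniteDimensional K U]

set_option maxHeartbeats 800000 in
/-- **Core R2.** An odd-order group of isometries, normalised by the products of two reflections
in orthogonal vectors of equal norm, all of whose elements have a non-zero fixed vector, is trivial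
(dimension at least five). -/
theorem core_R2 (h2 : (2 : K) ≠ 0) (hQ : (QuadraticMap.polarBilin Q).Nondegenerate)
    (h5 : 5 ≤ finrank K U) (M : Subgroup (U ≃ₗ[K] U)) [Finite M] (hodd : Odd (Nat.card M))
    (hiso : ∀ g ∈ M, ∀ v, Q (g v) = Q v)
    (hN : ∀ x y, Q x ≠ 0 → Q y = Q x → pol x y = 0 → ∀ g ∈ M,
      (rf Q x * rf Q y) * g * (rf Q x * rf Q y)⁻¹ ∈ M)
    (hfix : ∀ g ∈ M, ∃ u : U, u ≠ 0 ∧ g u = u) : M = ⊥ := by
  classical
  obtain ⟨p, hpc⟩ := CharP.exists K
  have hpp : p.Prime := by
    rcases CharP.char_is_prime_or_zero K p with h | h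
    · exact h
    · exact absurd h (CharP.char_ne_zero_of_finite K p)
  have : Fact p.Prime := ⟨hpp⟩
  -- elements of order prime to `p` are trivial
  have hss : ∀ g ∈ M, ∀ k : ℕ, ¬ p ∣ k → g ^ k = 1 → g = 1 := by
    intro g hg k hk hgk
    obtain ⟨u, hu, hgu⟩ := hfix g hg
    have hk' : (k : K) ≠ 0 := by
      rw [Ne, CharP.cast_eq_zero_iff K p]
      exact hk
    obtain ⟨d, hd, hgd⟩ := exists_fixed_nonsing Q hQ g (hiso g hg) k hk' hgk u hu hgu
    exact no_fixed_nonsing Q h2 hQ h5 M hodd hiso hN g hg d hd hgd
  -- `M` is a `p`-group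
  have hpg : IsPGroup p ↥M := by
    intro g
    have hne : Nat.card ↥M ≠ 0 := Nat.card_pos.ne'
    obtain ⟨e, n', hn', hcard⟩ := Nat.exists_eq_pow_mul_and_not_dvd hne p hpp.ne_one
    refine ⟨e, ?_⟩
    have h1 : ((g : U ≃ₗ[K] U) ^ p ^ e) ^ n' = 1 := by
      rw [← pow_mul, ← hcard]
      exact pow_card_eq_one_of_mem M _ g.2
    have h3 := hss _ (M.pow_mem g.2 (p ^ e)) n' hn' h1
    apply Subtype.ext
    rw [Subgroup.coe_pow]
    exact h3
  -- a common non-zero fixed vector
  have : Fintype U := Module.fintypeOfFintype (Module.finBasis K U)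
  have hpU : p ∣ Nat.card U := by
    rw [Nat.card_eq_fintype_card, Module.card_eq_pow_finrank (K := K) (V := U)]
    obtain ⟨n, _, hn⟩ := FiniteField.card K p
    rw [hn]
    apply dvd_pow _ (by omega : finrank K U ≠ 0)
    exact dvd_pow_self p n.pos.ne'
  have h0 : (0 : U) ∈ MulAction.fixedPoints ↥M U := by
    intro g
    rw [Subgroup.smul_def, LinearEquiv.smul_def, map_zero]
  obtain ⟨u, hufix, hu0⟩ := hpg.exists_fixed_point_of_prime_dvd_card_of_fixed_point U hpU h0
  have hu : ∀ g ∈ M, g u = u := by
    intro g hg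
    have := hufix ⟨g, hg⟩
    rwa [Subgroup.smul_def, LinearEquiv.smul_def] at this
  -- it suffices to find a non-singular common fixed vector
  have key : ∀ d : U, Q d ≠ 0 → (∀ g ∈ M, g d = d) → M = ⊥ := by
    intro d hd hgd
    rw [Subgroup.eq_bot_iff_forall]
    intro g hg
    exact no_fixed_nonsing Q h2 hQ h5 M hodd hiso hN g hg d hd (hgd g hg)
  by_cases hQu : Q u = 0
  · obtain ⟨f, hQf, huf⟩ := hyp_pair Q hQ (Ne.symm hu0) hQu
    have hfu : pol f u = 1 := by rw [QuadraticMap.polar_comm]; exact huf
    set x : U := f + u with hx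
    have hQx : Q x = 1 := by
      rw [hx, quad_add, hQf, hQu, hfu]; simp
    have hxu : pol x u = 1 := by
      rw [hx, QuadraticMap.polar_add_left, hfu, polar_self2, hQu]; simp
    have hQfu : Q (f - u) = -1 := by
      rw [sub_eq_add_neg, quad_add, hQf, QuadraticMap.map_neg, hQu,
        QuadraticMap.polar_neg_right, hfu]; simp
    have hxfu : pol x (f - u) = 0 := by
      rw [hx, QuadraticMap.polar_sub_right, QuadraticMap.polar_add_left,
        QuadraticMap.polar_add_left, polar_self2, polar_self2, hQf, hQu, hfu, huf]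
      ring
    obtain ⟨y, hQy, hyo⟩ := orth_ext h2 2 Q hQ ![x, f - u] (by
        intro i
        fin_cases i
        · show Q x ≠ 0
          rw [hQx]; exact one_ne_zero
        · show Q (f - u) ≠ 0
          rw [hQfu]; exact neg_ne_zero.mpr one_ne_zero) (by
        intro i i' hii'
        fin_cases i <;> fin_cases i'
        · exact absurd rfl hii'
        · exact hxfu
        · show pol (f - u) x = 0
          rw [QuadraticMap.polar_comm]; exact hxfu
        · exact absurd rfl hii') (by omega) 1
    have hxy : pol x y = 0 := hyo 0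
    have hfuy : pol (f - u) y = 0 := hyo 1
    have huy : pol y u = 0 := by
      have e1 : pol y x = 0 := by rw [QuadraticMap.polar_comm]; exact hxy
      have e2 : pol y (f - u) = 0 := by rw [QuadraticMap.polar_comm]; exact hfuy
      rw [hx, QuadraticMap.polar_add_right] at e1
      rw [QuadraticMap.polar_sub_right] at e2
      have : 2 * pol y u = 0 := by linear_combination e1 - e2
      rcases mul_eq_zero.mp this with h | h
      · exact absurd h h2
      · exact h
    have hQx0 : Q x ≠ 0 := by rw [hQx]; exact one_ne_zero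
    -- the rotation moves `u` to `u - x`
    have hρu : (rf Q x * rf Q y) u = u - x := by
      rw [LinearEquiv.mul_apply, rf_of_perp Q y u huy, rf_apply, hxu, hQx]
      simp
    -- the rotation preserves the common fixed space
    have hρfix : ∀ g ∈ M, g ((rf Q x * rf Q y) u) = (rf Q x * rf Q y) u := by
      intro g hg
      have hyx : pol y x = 0 := by rw [QuadraticMap.polar_comm]; exact hxy
      have hQy0 : Q y ≠ 0 := by rw [hQy]; exact one_ne_zero
      have h1 := hN y x hQy0 (by rw [hQx, hQy]) hyx g hg
      have e1 : (rf Q y * rf Q x) = (rf Q x * rf Q y)⁻¹ := by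
        rw [mul_inv_rev, rf_inv, rf_inv]
      rw [e1, inv_inv] at h1
      have h3 := hu _ h1
      rw [LinearEquiv.mul_apply, LinearEquiv.mul_apply] at h3
      have h4 := congrArg (rf Q x * rf Q y) h3
      rw [← LinearEquiv.mul_apply (rf Q x * rf Q y) ((rf Q x * rf Q y)⁻¹), mul_inv_cancel] at h4
      exact h4
    apply key x hQx0
    intro g hg
    have h1 := hρfix g hg
    rw [hρu, map_sub, hu g hg] at h1
    have : g x = x := by
      have := sub_right_injective h1
      exact this
    exact this
  · exact key u hQu hu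

end Cfsg.Agent.Lib.Helper16.OB
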