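import Mathlib
import Cfsg.Agent.Lib.Helper16.OB6

set_option autoImplicit false
set_option linter.unusedSectionVars false
set_option linter.unusedVariables false

/-! Odd-order isometries of an odd-dimensional space have a non-zero fixed vector. -/

namespace Cfsg.Agent.Lib.Helper16.OB

open Module Cfsg.Agent.Lib.Helper16

universe u v

variable {K : Type u} [Field K] {U : Type v} [AddCommGroup U] [Module K U]
variable (Q : QuadraticForm K U)

set_option quotPrecheck false in
local notation "pol" => QuadraticMap.polar (⇑Q)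

variable [FiniteDimensional K U]

/-- adjoint endomorphisms have the same determinant. -/
theorem det_adjoint (hQ : (QuadraticMap.polarBilin Q).Nondegenerate) (f g : U →ₗ[K] U)
    (hfg : ∀ u v, pol (f u) v = pol u (g v)) : LinearMap.det f = LinearMap.det g := by
  set β := LinearMap.BilinForm.toDual (QuadraticMap.polarBilin Q) hQ with hβ
  have h1 : f = (β.symm : Dual K U →ₗ[K] U) ∘ₗ g.dualMap ∘ₗ (β.symm.symm : U →ₗ[K] Dual K U) := by
    apply LinearMap.ext
    intro u
    apply β.injective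
    simp only [LinearMap.coe_comp, LinearEquiv.coe_coe, Function.comp_apply,
      LinearEquiv.symm_symm, LinearEquiv.apply_symm_apply]
    apply LinearMap.ext
    intro v
    rw [LinearMap.dualMap_apply, hβ, LinearMap.BilinForm.toDual_def,
      LinearMap.BilinForm.toDual_def, QuadraticMap.polarBilin_apply_apply,
      QuadraticMap.polarBilin_apply_apply]
    exact hfg u v
  rw [h1, LinearMap.det_conj, LinearMap.det_dualMap]

/-- an isometry of odd order of a non-degenerate space of odd dimension has a non-zero fixed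
vector. -/
theorem odd_fix (h2 : (2 : K) ≠ 0) (hQ : (QuadraticMap.polarBilin Q).Nondegenerate)
    (hodd : Odd (finrank K U)) (h : U ≃ₗ[K] U) (hiso : ∀ v, Q (h v) = Q v) (k : ℕ) (hk : Odd k)
    (hpow : h ^ k = 1) : ∃ u : U, u ≠ 0 ∧ h u = u := by
  have hadj : ∀ u v, pol (h u) v = pol u (h⁻¹ v) := by
    intro u v
    have := polar_of_iso Q h hiso u (h⁻¹ v)
    rw [← LinearEquiv.mul_apply, mul_inv_cancel] at this
    exact this
  have hd1 : LinearMap.det (h : U →ₗ[K] U) = LinearMap.det ((h⁻¹ : U ≃ₗ[K] U) : U →ₗ[K] U) :=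
    det_adjoint Q hQ _ _ hadj
  have hdd : LinearMap.det (h : U →ₗ[K] U) * LinearMap.det ((h⁻¹ : U ≃ₗ[K] U) : U →ₗ[K] U) = 1 := by
    rw [← LinearEquiv.coe_det, ← LinearEquiv.coe_det, ← Units.val_mul, ← map_mul, mul_inv_cancel,
      map_one, Units.val_one]
  have hdk : LinearMap.det (h : U →ₗ[K] U) ^ k = 1 := by
    rw [← LinearEquiv.coe_det, ← Units.val_pow_eq_pow_val, ← map_pow, hpow, map_one, Units.val_one]
  have hdet : LinearMap.det (h : U →ₗ[K] U) = 1 := by
    obtain ⟨j, rfl⟩ := hk
    rw [← hd1] at hdd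
    rw [pow_succ, pow_mul, pow_two, hdd, one_pow, one_mul] at hdk
    exact hdk
  have hdet' : LinearMap.det ((h⁻¹ : U ≃ₗ[K] U) : U →ₗ[K] U) = 1 := by rw [← hd1, hdet]
  -- the determinant of `h - 1`
  have hadj2 : ∀ u v, pol (((h : U →ₗ[K] U) - 1) u) v =
      pol u ((((h⁻¹ : U ≃ₗ[K] U) : U →ₗ[K] U) - 1) v) := by
    intro u v
    simp only [LinearMap.sub_apply, LinearEquiv.coe_coe, Module.End.one_apply]
    rw [QuadraticMap.polar_sub_left, QuadraticMap.polar_sub_right, hadj]
  have hd2 := det_adjoint Q hQ _ _ hadj2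
  have h3 : (((h⁻¹ : U ≃ₗ[K] U) : U →ₗ[K] U) - 1) =
      (-1 : K) • (((h⁻¹ : U ≃ₗ[K] U) : U →ₗ[K] U) * ((h : U →ₗ[K] U) - 1)) := by
    apply LinearMap.ext
    intro v
    simp only [LinearMap.sub_apply, LinearEquiv.coe_coe, Module.End.one_apply, LinearMap.smul_apply,
      Module.End.mul_apply, map_sub]
    rw [← LinearEquiv.mul_apply, inv_mul_cancel]
    simp
  rw [h3, LinearMap.det_smul, map_mul, hdet', one_mul, hodd.neg_one_pow] at hd2
  have h4 : LinearMap.det ((h : U →ₗ[K] U) - 1) = 0 := by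
    have : 2 * LinearMap.det ((h : U →ₗ[K] U) - 1) = 0 := by linear_combination hd2
    rcases mul_eq_zero.mp this with h | h
    · exact absurd h h2
    · exact h
  have h5 := LinearMap.bot_lt_ker_of_det_eq_zero h4
  obtain ⟨u, hu, hu0⟩ := Submodule.exists_mem_ne_zero_of_ne_bot h5.ne'
  refine ⟨u, hu0, ?_⟩
  rw [LinearMap.mem_ker, LinearMap.sub_apply, Module.End.one_apply, sub_eq_zero] at hu
  exact hu

end Cfsg.Agent.Lib.Helper16.OB
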