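import Mathlib
import Cfsg.Agent.Lib.Helper16.OB7

set_option autoImplicit false
set_option linter.unusedSectionVars false
set_option linter.unusedVariables false

/-! Restriction of linear equivalences to invariant subspaces; eigenspaces of an isometric
involution. -/

namespace Cfsg.Agent.Lib.Helper16.OB

open Module Cfsg.Agent.Lib.Helper16

universe u v

variable {K : Type u} [Field K] {U : Type v} [AddCommGroup U] [Module K U]

/-- the stabiliser of a subspace. -/
def stabS (W : Submodule K U) : Subgroup (U ≃ₗ[K] U) where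
  carrier := {h | ∀ w ∈ W, h w ∈ W ∧ h⁻¹ w ∈ W}
  one_mem' := by
    intro w hw
    exact ⟨hw, by rw [inv_one]; exact hw⟩
  mul_mem' := by
    intro a b ha hb w hw
    refine ⟨?_, ?_⟩
    · rw [LinearEquiv.mul_apply]; exact (ha _ (hb w hw).1).1
    · rw [mul_inv_rev, LinearEquiv.mul_apply]; exact (hb _ (ha w hw).2).2
  inv_mem' := by
    intro a ha w hw
    exact ⟨(ha w hw).2, by rw [inv_inv]; exact (ha w hw).1⟩

theorem mem_stabS (W : Submodule K U) (h : U ≃ₗ[K] U) :
    h ∈ stabS W ↔ ∀ w ∈ W, h w ∈ W ∧ h⁻¹ w ∈ W := Iff.rfl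

/-- the restriction of an element of the stabiliser. -/
noncomputable def resEq (W : Submodule K U) (h : ↥(stabS W)) : ↥W ≃ₗ[K] ↥W :=
  LinearEquiv.ofLinearMap ((h.1 : U →ₗ[K] U).restrict (fun w hw => (h.2 w hw).1))
    (((h.1⁻¹ : U ≃ₗ[K] U) : U →ₗ[K] U).restrict (fun w hw => (h.2 w hw).2))
    (by
      apply LinearMap.ext
      intro w
      apply Subtype.ext
      show h.1 (h.1⁻¹ (w : U)) = w
      rw [← LinearEquiv.mul_apply, mul_inv_cancel]
      rfl)
    (by
      apply LinearMap.ext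
      intro w
      apply Subtype.ext
      show h.1⁻¹ (h.1 (w : U)) = w
      rw [← LinearEquiv.mul_apply, inv_mul_cancel]
      rfl)

theorem resEq_apply (W : Submodule K U) (h : ↥(stabS W)) (w : ↥W) :
    ((resEq W h w : ↥W) : U) = h.1 (w : U) := rfl

/-- restriction as a homomorphism. -/
noncomputable def resHom (W : Submodule K U) : ↥(stabS W) →* (↥W ≃ₗ[K] ↥W) where
  toFun := resEq W
  map_one' := by
    apply LinearEquiv.ext
    intro w
    apply Subtype.ext
    rfl
  map_mul' := by
    intro a b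
    apply LinearEquiv.ext
    intro w
    apply Subtype.ext
    rfl

theorem resHom_apply (W : Submodule K U) (h : ↥(stabS W)) (w : ↥W) :
    ((resHom W h w : ↥W) : U) = h.1 (w : U) := rfl

variable (Q : QuadraticForm K U)

set_option quotPrecheck false in
local notation "pol" => QuadraticMap.polar (⇑Q)

theorem rf_mem_stabS (W : Submodule K U) (x : U) (hx : x ∈ W) : rf Q x ∈ stabS W := by
  intro w hw
  have h1 : rf Q x w ∈ W := by
    rw [rf_apply]
    exact W.sub_mem hw (W.smul_mem _ hx)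
  refine ⟨h1, ?_⟩
  rw [rf_inv]
  exact h1

theorem resHom_rf (W : Submodule K U) (x : U) (hx : x ∈ W) :
    resHom W ⟨rf Q x, rf_mem_stabS Q W x hx⟩ = rf (Q.comp W.subtype) ⟨x, hx⟩ := by
  apply LinearEquiv.ext
  intro w
  apply Subtype.ext
  rw [resHom_apply, rf_apply, rf_apply, polar_comp_subtype]
  simp only [QuadraticMap.comp_apply, Submodule.subtype_apply, Submodule.coe_sub,
    Submodule.coe_smul]

theorem rf_perp_mem_stabS (W : Submodule K U) (y : U) (hy : ∀ w ∈ W, pol y w = 0) :
    rf Q y ∈ stabS W := by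
  intro w hw
  have h1 : rf Q y w ∈ W := by
    rw [rf_of_perp Q y w (hy w hw)]
    exact hw
  refine ⟨h1, ?_⟩
  rw [rf_inv]
  exact h1

theorem resHom_rf_perp (W : Submodule K U) (y : U) (hy : ∀ w ∈ W, pol y w = 0) :
    resHom W ⟨rf Q y, rf_perp_mem_stabS Q W y hy⟩ = 1 := by
  apply LinearEquiv.ext
  intro w
  apply Subtype.ext
  rw [resHom_apply]
  exact rf_of_perp Q y w (hy w w.2)

/-! ### eigenspaces of an involution -/

/-- the fixed space. -/
def fixS (g : U ≃ₗ[K] U) : Submodule K U where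
  carrier := {v | g v = v}
  add_mem' := by
    intro a b ha hb
    show g (a + b) = a + b
    rw [map_add, ha, hb]
  zero_mem' := map_zero g
  smul_mem' := by
    intro c a ha
    show g (c • a) = c • a
    rw [map_smul, ha]

theorem mem_fixS (g : U ≃ₗ[K] U) (v : U) : v ∈ fixS g ↔ g v = v := Iff.rfl

/-- the negative of a linear equivalence. -/
noncomputable def negE (g : U ≃ₗ[K] U) : U ≃ₗ[K] U := LinearEquiv.neg K * g

theorem negE_apply (g : U ≃ₗ[K] U) (v : U) : negE g v = -(g v) := rfl

theorem negE_negE (g : U ≃ₗ[K] U) : negE (negE g) = g := by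
  apply LinearEquiv.ext
  intro v
  rw [negE_apply, negE_apply, neg_neg]

theorem negE_mul_self (g : U ≃ₗ[K] U) (hg : g * g = 1) : negE g * negE g = 1 := by
  apply LinearEquiv.ext
  intro v
  rw [LinearEquiv.mul_apply, negE_apply, negE_apply, map_neg, neg_neg, ← LinearEquiv.mul_apply, hg]

theorem negE_iso (g : U ≃ₗ[K] U) (hiso : ∀ v, Q (g v) = Q v) (v : U) : Q (negE g v) = Q v := by
  rw [negE_apply, QuadraticMap.map_neg, hiso]

theorem comm_negE (g h : U ≃ₗ[K] U) (hc : h * g = g * h) : h * negE g = negE g * h := by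
  apply LinearEquiv.ext
  intro v
  rw [LinearEquiv.mul_apply, LinearEquiv.mul_apply, negE_apply, negE_apply, map_neg,
    ← LinearEquiv.mul_apply, hc, LinearEquiv.mul_apply]

theorem comm_mem_stabS (g h : U ≃ₗ[K] U) (hc : h * g = g * h) : h ∈ stabS (fixS g) := by
  intro w hw
  rw [mem_fixS] at hw
  refine ⟨?_, ?_⟩
  · rw [mem_fixS, ← LinearEquiv.mul_apply, ← hc, LinearEquiv.mul_apply, hw]
  · rw [mem_fixS]
    have h1 : h⁻¹ * g = g * h⁻¹ := by
      rw [eq_mul_inv_iff_mul_eq, mul_assoc, ← hc, ← mul_assoc, inv_mul_cancel, one_mul]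
    rw [← LinearEquiv.mul_apply, ← h1, LinearEquiv.mul_apply, hw]

theorem fix_perp (h2 : (2 : K) ≠ 0) (g : U ≃ₗ[K] U) (hiso : ∀ v, Q (g v) = Q v) (u v : U)
    (hu : u ∈ fixS g) (hv : v ∈ fixS (negE g)) : pol u v = 0 := by
  rw [mem_fixS] at hu hv
  rw [negE_apply] at hv
  have h1 := polar_of_iso Q g hiso u v
  have hv' : g v = -v := neg_eq_iff_eq_neg.mp hv
  rw [hu, hv', QuadraticMap.polar_neg_right] at h1
  have : 2 * pol u v = 0 := by linear_combination -h1
  rcases mul_eq_zero.mp this with h | h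
  · exact absurd h h2
  · exact h

theorem fix_decomp (h2 : (2 : K) ≠ 0) (g : U ≃ₗ[K] U) (hg : g * g = 1) (v : U) :
    ∃ a ∈ fixS g, ∃ b ∈ fixS (negE g), v = a + b := by
  have hgg : ∀ w, g (g w) = w := by
    intro w
    rw [← LinearEquiv.mul_apply, hg]
    rfl
  refine ⟨(2 : K)⁻¹ • (v + g v), ?_, (2 : K)⁻¹ • (v - g v), ?_, ?_⟩
  · rw [mem_fixS, map_smul, map_add, hgg, add_comm]
  · rw [mem_fixS, negE_apply, map_smul, map_sub, hgg, ← smul_neg, neg_sub]
  · rw [← smul_add]
    have : v + g v + (v - g v) = (2 : K) • v := by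
      rw [two_smul]; abel
    rw [this, smul_smul, inv_mul_cancel₀ h2, one_smul]

theorem fix_isCompl (h2 : (2 : K) ≠ 0) (g : U ≃ₗ[K] U) (hg : g * g = 1) :
    IsCompl (fixS g) (fixS (negE g)) := by
  constructor
  · rw [Submodule.disjoint_def]
    intro v hv hv'
    rw [mem_fixS] at hv hv'
    rw [negE_apply, hv] at hv'
    have : (2 : K) • v = 0 := by
      rw [two_smul]
      nth_rw 1 [← hv']
      exact neg_add_cancel v
    rcases smul_eq_zero.mp this with h | h
    · exact absurd h h2
    · exact h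
  · rw [codisjoint_iff, eq_top_iff]
    intro v _
    obtain ⟨a, ha, b, hb, rfl⟩ := fix_decomp h2 g hg v
    exact Submodule.add_mem_sup ha hb

theorem fix_finrank [FiniteDimensional K U] (h2 : (2 : K) ≠ 0) (g : U ≃ₗ[K] U) (hg : g * g = 1) :
    finrank K ↥(fixS g) + finrank K ↥(fixS (negE g)) = finrank K U :=
  Submodule.finrank_add_eq_of_isCompl (fix_isCompl h2 g hg)

theorem fix_nondeg (h2 : (2 : K) ≠ 0) (hQ : (QuadraticMap.polarBilin Q).Nondegenerate)
    (g : U ≃ₗ[K] U) (hg : g * g = 1) (hiso : ∀ v, Q (g v) = Q v) :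
    (QuadraticMap.polarBilin (Q.comp (fixS g).subtype)).Nondegenerate := by
  have key : ∀ u : ↥(fixS g), (∀ w : ↥(fixS g), pol (u : U) (w : U) = 0) → u = 0 := by
    intro u hu
    apply Subtype.ext
    apply hQ.1
    intro v
    obtain ⟨a, ha, b, hb, rfl⟩ := fix_decomp h2 g hg v
    rw [QuadraticMap.polarBilin_apply_apply, QuadraticMap.polar_add_right, hu ⟨a, ha⟩,
      fix_perp Q h2 g hiso u b u.2 hb, add_zero]
  constructor
  · intro u hu
    apply key u
    intro w
    have := hu w
    rw [QuadraticMap.polarBilin_apply_apply, polar_comp_subtype] at this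
    exact this
  · intro u hu
    apply key u
    intro w
    have := hu w
    rw [QuadraticMap.polarBilin_apply_apply, polar_comp_subtype, QuadraticMap.polar_comm] at this
    exact this

end Cfsg.Agent.Lib.Helper16.OB
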