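import Mathlib
import Cfsg.Agent.Lib.Helper16.OB9

set_option autoImplicit false
set_option linter.unusedSectionVars false
set_option linter.unusedVariables false

/-! Odd-order groups commuting with an isometric involution of determinant `-1`. -/

namespace Cfsg.Agent.Lib.Helper16.OB

open Module Cfsg.Agent.Lib.Helper16

universe u v

variable {K : Type u} [Field K] {U : Type v} [AddCommGroup U] [Module K U]

/-- the restriction homomorphism of a subgroup stabilising a subspace. -/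
noncomputable def resSubHom (W : Submodule K U) (H : Subgroup (U ≃ₗ[K] U)) (hHs : H ≤ stabS W) :
    ↥H →* (↥W ≃ₗ[K] ↥W) := (resHom W).comp (Subgroup.inclusion hHs)

theorem resSubHom_apply (W : Submodule K U) (H : Subgroup (U ≃ₗ[K] U)) (hHs : H ≤ stabS W)
    (h : ↥H) (w : ↥W) : ((resSubHom W H hHs h w : ↥W) : U) = h.1 (w : U) := rfl

theorem resSubHom_eq (W : Submodule K U) (H : Subgroup (U ≃ₗ[K] U)) (hHs : H ≤ stabS W)
    (h : U ≃ₗ[K] U) (hh : h ∈ H) : resSubHom W H hHs ⟨h, hh⟩ = resHom W ⟨h, hHs hh⟩ := rfl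

theorem resSub_finite (W : Submodule K U) (H : Subgroup (U ≃ₗ[K] U)) (hHs : H ≤ stabS W)
    [Finite H] : Finite ↥(resSubHom W H hHs).range :=
  Finite.of_surjective (resSubHom W H hHs).rangeRestrict
    (resSubHom W H hHs).rangeRestrict_surjective

theorem resSub_odd (W : Submodule K U) (H : Subgroup (U ≃ₗ[K] U)) (hHs : H ≤ stabS W) [Finite H]
    (hodd : Odd (Nat.card H)) : Odd (Nat.card ↥(resSubHom W H hHs).range) :=
  Odd.of_dvd_nat hodd (Subgroup.card_range_dvd _)

variable [FiniteDimensional K U]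

theorem det_invol (h2 : (2 : K) ≠ 0) (g : U ≃ₗ[K] U) (hg : g * g = 1) :
    LinearMap.det (g : U →ₗ[K] U) = (-1) ^ finrank K ↥(fixS (negE g)) := by
  set e := Submodule.prodEquivOfIsCompl (fixS g) (fixS (negE g)) (fix_isCompl h2 g hg) with he
  set f : (↥(fixS g) × ↥(fixS (negE g))) →ₗ[K] (↥(fixS g) × ↥(fixS (negE g))) :=
    LinearMap.prodMap LinearMap.id ((-1 : K) • LinearMap.id) with hf
  have h1 : (g : U →ₗ[K] U) = (e : _ →ₗ[K] U) ∘ₗ f ∘ₗ (e.symm : U →ₗ[K] _) := by
    apply LinearMap.ext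
    intro v
    obtain ⟨x, rfl⟩ := e.surjective v
    simp only [LinearMap.coe_comp, LinearEquiv.coe_coe, Function.comp_apply,
      LinearEquiv.symm_apply_apply]
    rw [he, Submodule.coe_prodEquivOfIsCompl', Submodule.coe_prodEquivOfIsCompl', hf,
      LinearMap.prodMap_apply, map_add]
    have e1 : g (x.1 : U) = x.1 := x.1.2
    have e2 : g (x.2 : U) = -x.2 := by
      have := x.2.2
      rw [mem_fixS, negE_apply] at this
      exact neg_eq_iff_eq_neg.mp this
    rw [e1, e2]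
    simp
  rw [h1, LinearMap.det_conj, hf, LinearMap.det_prodMap, LinearMap.det_id, LinearMap.det_smul,
    LinearMap.det_id, one_mul, mul_one]

variable (Q : QuadraticForm K U) [Fintype K]

set_option quotPrecheck false in
local notation "pol" => QuadraticMap.polar (⇑Q)

set_option maxHeartbeats 1600000 in
/-- an odd-order group commuting with an isometric involution `g`, normalised by the products of
two reflections in eigenvectors of `g`, acts trivially on the fixed space of `g` when the two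
eigenspaces have odd dimension. -/
theorem typeA_half (h2 : (2 : K) ≠ 0) (hQ : (QuadraticMap.polarBilin Q).Nondegenerate)
    (g : U ≃ₗ[K] U) (hg : g * g = 1) (hiso : ∀ v, Q (g v) = Q v)
    (hodd1 : Odd (finrank K ↥(fixS g))) (hd : 8 ≤ finrank K U)
    (H : Subgroup (U ≃ₗ[K] U)) [Finite H] (hHodd : Odd (Nat.card H))
    (hHiso : ∀ h ∈ H, ∀ v, Q (h v) = Q v) (hHc : ∀ h ∈ H, h * g = g * h)
    (hN : ∀ x y, Q x ≠ 0 → Q y = Q x → pol x y = 0 → (x ∈ fixS g ∨ x ∈ fixS (negE g)) →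
      (y ∈ fixS g ∨ y ∈ fixS (negE g)) → ∀ h ∈ H,
      (rf Q x * rf Q y) * h * (rf Q x * rf Q y)⁻¹ ∈ H) :
    ∀ h ∈ H, ∀ w ∈ fixS g, h w = w := by
  have hHs : H ≤ stabS (fixS g) := fun h hh => comm_mem_stabS g h (hHc h hh)
  have hQW := fix_nondeg Q h2 hQ g hg hiso
  have hfin := resSub_finite (fixS g) H hHs
  have hoddφ := resSub_odd (fixS g) H hHs hHodd
  have hdim := fix_finrank h2 g hg
  suffices hbot : (resSubHom (fixS g) H hHs).range = ⊥ by
    intro h hh w hw
    have h1 : resSubHom (fixS g) H hHs ⟨h, hh⟩ ∈ (resSubHom (fixS g) H hHs).range := ⟨_, rfl⟩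
    rw [hbot, Subgroup.mem_bot] at h1
    have h3 := congrArg (fun e : ↥(fixS g) ≃ₗ[K] ↥(fixS g) => ((e ⟨w, hw⟩ : ↥(fixS g)) : U)) h1
    exact h3
  have hisoφ : ∀ e ∈ (resSubHom (fixS g) H hHs).range, ∀ v,
      (Q.comp (fixS g).subtype) (e v) = (Q.comp (fixS g).subtype) v := by
    rintro _ ⟨h, rfl⟩ v
    show Q ((resSubHom (fixS g) H hHs h v : ↥(fixS g)) : U) = Q (v : U)
    rw [resSubHom_apply]
    exact hHiso h.1 h.2 v
  have hfixφ : ∀ e ∈ (resSubHom (fixS g) H hHs).range, ∃ u : ↥(fixS g), u ≠ 0 ∧ e u = u := by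
    intro e he
    have := pow_card_eq_one_of_mem (resSubHom (fixS g) H hHs).range e he
    exact odd_fix (Q.comp (fixS g).subtype) h2 hQW hodd1 e (hisoφ e he) _ hoddφ this
  have hconj : ∀ (ρ : U ≃ₗ[K] U) (hρ : ρ ∈ stabS (fixS g)), (∀ h ∈ H, ρ * h * ρ⁻¹ ∈ H) →
      ∀ e ∈ (resSubHom (fixS g) H hHs).range,
        resHom (fixS g) ⟨ρ, hρ⟩ * e * (resHom (fixS g) ⟨ρ, hρ⟩)⁻¹ ∈
          (resSubHom (fixS g) H hHs).range := by
    rintro ρ hρ hρH _ ⟨h, rfl⟩
    refine ⟨⟨ρ * h.1 * ρ⁻¹, hρH h.1 h.2⟩, ?_⟩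
    rw [resSubHom_eq]
    have : (⟨ρ * h.1 * ρ⁻¹, hHs (hρH h.1 h.2)⟩ : ↥(stabS (fixS g))) =
        ⟨ρ, hρ⟩ * ⟨h.1, hHs h.2⟩ * ⟨ρ, hρ⟩⁻¹ := rfl
    rw [this, map_mul, map_mul, map_inv]
    rfl
  obtain ⟨j, hj⟩ := hodd1
  rcases Nat.lt_or_ge j 2 with hj2 | hj2
  · rcases Nat.lt_or_ge j 1 with hj1 | hj1
    · -- dimension one
      have hd1 : finrank K ↥(fixS g) = 1 := by omega
      rw [Subgroup.eq_bot_iff_forall]
      intro e he
      obtain ⟨u, hu0, hu⟩ := hfixφ e he
      apply LinearEquiv.ext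
      intro w
      obtain ⟨c, rfl⟩ := (finrank_eq_one_iff_of_nonzero' u hu0).mp hd1 w
      rw [map_smul, hu]
      rfl
    · -- dimension three
      have hd3 : finrank K ↥(fixS g) = 3 := by omega
      have hQW' := fix_nondeg Q h2 hQ (negE g) (negE_mul_self g hg) (negE_iso Q g hiso)
      apply core_R1 (Q.comp (fixS g).subtype) h2 hQW (by omega) _ hoddφ hisoφ
      intro x hx e he
      obtain ⟨y', hy'⟩ := univ2 h2 (Q.comp (fixS (negE g)).subtype) hQW' (by omega)
        (Q (x : U))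
      have hyperp : ∀ w ∈ fixS g, pol (y' : U) w = 0 := by
        intro w hw
        rw [QuadraticMap.polar_comm]
        exact fix_perp Q h2 g hiso w y' hw y'.2
      have hρ : rf Q (x : U) * rf Q (y' : U) ∈ stabS (fixS g) :=
        (stabS (fixS g)).mul_mem (rf_mem_stabS Q _ _ x.2) (rf_perp_mem_stabS Q _ _ hyperp)
      have hres : resHom (fixS g) ⟨rf Q (x : U) * rf Q (y' : U), hρ⟩ =
          rf (Q.comp (fixS g).subtype) x := by
        have : (⟨rf Q (x : U) * rf Q (y' : U), hρ⟩ : ↥(stabS (fixS g))) =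
            ⟨rf Q (x : U), rf_mem_stabS Q _ _ x.2⟩ *
              ⟨rf Q (y' : U), rf_perp_mem_stabS Q _ _ hyperp⟩ := rfl
        rw [this, map_mul, resHom_rf, resHom_rf_perp Q _ _ hyperp, mul_one]
      have := hconj _ hρ (hN (x : U) (y' : U) hx hy' (fix_perp Q h2 g hiso x y' x.2 y'.2)
        (Or.inl x.2) (Or.inr y'.2)) e he
      rw [hres] at this
      exact this
  · -- dimension at least five
    apply core_R2 (Q.comp (fixS g).subtype) h2 hQW (by omega) _ hoddφ hisoφ _ hfixφ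
    intro x y hx hy hxy e he
    have hρ : rf Q (x : U) * rf Q (y : U) ∈ stabS (fixS g) :=
      (stabS (fixS g)).mul_mem (rf_mem_stabS Q _ _ x.2) (rf_mem_stabS Q _ _ y.2)
    have hres : resHom (fixS g) ⟨rf Q (x : U) * rf Q (y : U), hρ⟩ =
        rf (Q.comp (fixS g).subtype) x * rf (Q.comp (fixS g).subtype) y := by
      have : (⟨rf Q (x : U) * rf Q (y : U), hρ⟩ : ↥(stabS (fixS g))) =
          ⟨rf Q (x : U), rf_mem_stabS Q _ _ x.2⟩ * ⟨rf Q (y : U), rf_mem_stabS Q _ _ y.2⟩ := rfl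
      rw [this, map_mul, resHom_rf, resHom_rf]
    have hxy' : pol (x : U) (y : U) = 0 := by
      rw [← polar_comp_subtype]; exact hxy
    have := hconj _ hρ (hN (x : U) (y : U) hx hy hxy' (Or.inl x.2) (Or.inl y.2)) e he
    rw [hres] at this
    exact this

set_option maxHeartbeats 800000 in
/-- **Type A.** An odd-order group of isometries commuting with an isometric involution of
determinant `-1`, normalised by the products of two reflections in its eigenvectors, is trivial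
(even dimension at least eight). -/
theorem typeA_core (h2 : (2 : K) ≠ 0) (hQ : (QuadraticMap.polarBilin Q).Nondegenerate)
    (g : U ≃ₗ[K] U) (hg : g * g = 1) (hiso : ∀ v, Q (g v) = Q v)
    (hdet : LinearMap.det (g : U →ₗ[K] U) = -1) (hd : 8 ≤ finrank K U)
    (hev : Even (finrank K U))
    (H : Subgroup (U ≃ₗ[K] U)) [Finite H] (hHodd : Odd (Nat.card H))
    (hHiso : ∀ h ∈ H, ∀ v, Q (h v) = Q v) (hHc : ∀ h ∈ H, h * g = g * h)
    (hN : ∀ x y, Q x ≠ 0 → Q y = Q x → pol x y = 0 → (x ∈ fixS g ∨ x ∈ fixS (negE g)) →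
      (y ∈ fixS g ∨ y ∈ fixS (negE g)) → ∀ h ∈ H,
      (rf Q x * rf Q y) * h * (rf Q x * rf Q y)⁻¹ ∈ H) : H = ⊥ := by
  have hdim := fix_finrank h2 g hg
  have hodd' : Odd (finrank K ↥(fixS (negE g))) := by
    rw [← Nat.not_even_iff_odd]
    intro hev'
    rw [det_invol h2 g hg, hev'.neg_one_pow] at hdet
    have : (2 : K) = 0 := by linear_combination hdet
    exact h2 this
  have hodd1 : Odd (finrank K ↥(fixS g)) := by
    rw [← hdim] at hev
    rcases Nat.even_or_odd (finrank K ↥(fixS g)) with h | h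
    · exfalso
      have := (Nat.even_add.mp hev).mp h
      exact (Nat.not_even_iff_odd.mpr hodd') this
    · exact h
  have hA := typeA_half Q h2 hQ g hg hiso hodd1 hd H hHodd hHiso hHc hN
  have hB := typeA_half Q h2 hQ (negE g) (negE_mul_self g hg) (negE_iso Q g hiso) hodd' hd H hHodd
    hHiso (fun h hh => comm_negE g h (hHc h hh)) (by
      intro x y hx hy hxy hx' hy' h hh
      rw [negE_negE] at hx' hy'
      exact hN x y hx hy hxy hx'.symm hy'.symm h hh)
  rw [Subgroup.eq_bot_iff_forall]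
  intro h hh
  apply LinearEquiv.ext
  intro v
  obtain ⟨a, ha, b, hb, rfl⟩ := fix_decomp h2 g hg v
  rw [map_add, hA h hh a ha, hB h hh b hb]
  rfl

open scoped commutatorElement in
set_option maxHeartbeats 800000 in
/-- **Type A**, with the normalising hypothesis in commutator form. -/
theorem typeA_core' (h2 : (2 : K) ≠ 0) (hQ : (QuadraticMap.polarBilin Q).Nondegenerate)
    (g : U ≃ₗ[K] U) (hg : g * g = 1) (hiso : ∀ v, Q (g v) = Q v)
    (hdet : LinearMap.det (g : U →ₗ[K] U) = -1) (hd : 8 ≤ finrank K U)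
    (hev : Even (finrank K U))
    (H : Subgroup (U ≃ₗ[K] U)) [Finite H] (hHodd : Odd (Nat.card H))
    (hHiso : ∀ h ∈ H, ∀ v, Q (h v) = Q v) (hHc : ∀ h ∈ H, h * g = g * h)
    (hN : ∀ s t : U ≃ₗ[K] U, (∀ v, Q (s v) = Q v) → (∀ v, Q (t v) = Q v) →
      ⁅s, t⁆ * g = g * ⁅s, t⁆ → ∀ h ∈ H, ⁅s, t⁆ * h * ⁅s, t⁆⁻¹ ∈ H) : H = ⊥ := by
  apply typeA_core Q h2 hQ g hg hiso hdet hd hev H hHodd hHiso hHc
  intro x y hx hy hxy hxe hye h hh
  have hne : Q (x - y) ≠ 0 := by
    have h1 := quad_sub_smul Q x y 1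
    rw [one_smul] at h1
    rw [h1, hy, QuadraticMap.polar_comm, hxy]
    simp only [one_mul, one_pow, sub_zero]
    intro h0
    apply hx
    have : (2 : K) * Q x = 0 := by rw [two_mul]; exact h0
    rcases mul_eq_zero.mp this with h | h
    · exact absurd h h2
    · exact h
  have hcomm := rf_mul_rf_eq_commutator Q x y hy hne
  have hrf : ∀ z : U, (z ∈ fixS g ∨ z ∈ fixS (negE g)) → g * rf Q z = rf Q z * g := by
    intro z hz
    have h1 := rf_conj Q g hiso z
    have h3 : rf Q (g z) = rf Q z := by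
      rcases hz with hz | hz
      · rw [mem_fixS] at hz
        rw [hz]
      · rw [mem_fixS, negE_apply] at hz
        have : g z = -z := neg_eq_iff_eq_neg.mp hz
        rw [this, rf_neg]
    rw [h3] at h1
    calc g * rf Q z = (g * rf Q z * g⁻¹) * g := by group
      _ = rf Q z * g := by rw [h1]
  rw [hcomm]
  apply hN _ _ (Q_rf Q x) (Q_rf Q (x - y)) _ h hh
  rw [← hcomm, mul_assoc, ← hrf y hye, ← mul_assoc, ← hrf x hxe, mul_assoc]

end Cfsg.Agent.Lib.Helper16.OB
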