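import Mathlib
import Cfsg.Agent.Lib.Helper16.OB10

set_option autoImplicit false
set_option linter.unusedSectionVars false
set_option linter.unusedVariables false

/-! A quadratic space with a similitude of non-square multiplier squaring to the multiplier, as a
quadratic space over the quadratic extension. -/

namespace Cfsg.Agent.Lib.Helper16.OB

open Module Cfsg.Agent.Lib.Helper16 QuadraticAlgebra

universe u v

variable {K : Type u} [Field K] {U : Type v} [AddCommGroup U] [Module K U]
variable (μ : K)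
variable [Module (QuadraticAlgebra K μ 0) U] [IsScalarTower K (QuadraticAlgebra K μ 0) U]

theorem E_smul_eq (e : QuadraticAlgebra K μ 0) (v : U) :
    e • v = e.re • v + e.im • ((ω : QuadraticAlgebra K μ 0) • v) := by
  conv_lhs => rw [← mk_eta e, mk_eq_add_smul_omega, add_smul, algebraMap_smul, smul_assoc]

theorem T_T (v : U) :
    (ω : QuadraticAlgebra K μ 0) • ((ω : QuadraticAlgebra K μ 0) • v) = μ • v := by
  rw [smul_smul, omega_mul_omega_eq_mk, mk_eq_add_smul_omega, zero_smul, add_zero, algebraMap_smul]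

variable (Q : QuadraticForm K U)

set_option quotPrecheck false in
local notation "pol" => QuadraticMap.polar (⇑Q)

theorem pol_T_T (hT : ∀ v : U, Q ((ω : QuadraticAlgebra K μ 0) • v) = μ * Q v) (u v : U) :
    pol ((ω : QuadraticAlgebra K μ 0) • u) ((ω : QuadraticAlgebra K μ 0) • v) = μ * pol u v := by
  unfold QuadraticMap.polar
  rw [← smul_add, hT, hT, hT]
  ring

theorem pol_T_left (hμ : μ ≠ 0) (hT : ∀ v : U, Q ((ω : QuadraticAlgebra K μ 0) • v) = μ * Q v)
    (u v : U) :
    pol ((ω : QuadraticAlgebra K μ 0) • u) v = pol u ((ω : QuadraticAlgebra K μ 0) • v) := by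
  have h1 : μ * pol ((ω : QuadraticAlgebra K μ 0) • u) v =
      μ * pol u ((ω : QuadraticAlgebra K μ 0) • v) := by
    rw [← pol_T_T μ Q hT u, T_T, QuadraticMap.polar_smul_right, smul_eq_mul]
  exact mul_left_cancel₀ hμ h1

/-- the bilinear form over the extension, as a function. -/
noncomputable def beFun (u v : U) : QuadraticAlgebra K μ 0 :=
  ⟨pol u v, μ⁻¹ * pol u ((ω : QuadraticAlgebra K μ 0) • v)⟩

theorem beFun_symm (hμ : μ ≠ 0) (hT : ∀ v : U, Q ((ω : QuadraticAlgebra K μ 0) • v) = μ * Q v)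
    (u v : U) : beFun μ Q u v = beFun μ Q v u := by
  unfold beFun
  rw [QuadraticMap.polar_comm (⇑Q) u v, ← pol_T_left μ Q hμ hT u v,
    QuadraticMap.polar_comm (⇑Q) _ v]

theorem beFun_add_left (u u' v : U) : beFun μ Q (u + u') v = beFun μ Q u v + beFun μ Q u' v := by
  unfold beFun
  apply QuadraticAlgebra.ext
  · simp only [re_add, QuadraticMap.polar_add_left]
  · simp only [im_add, QuadraticMap.polar_add_left, mul_add]

theorem beFun_smul_left (hμ : μ ≠ 0)
    (hT : ∀ v : U, Q ((ω : QuadraticAlgebra K μ 0) • v) = μ * Q v)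
    (e : QuadraticAlgebra K μ 0) (u v : U) : beFun μ Q (e • u) v = e • beFun μ Q u v := by
  unfold beFun
  rw [smul_eq_mul]
  apply QuadraticAlgebra.ext
  · rw [re_mul]
    simp only []
    rw [E_smul_eq μ e u, QuadraticMap.polar_add_left, QuadraticMap.polar_smul_left,
      QuadraticMap.polar_smul_left, pol_T_left μ Q hμ hT]
    simp only [smul_eq_mul]
    field_simp
  · rw [im_mul]
    simp only []
    rw [E_smul_eq μ e u, QuadraticMap.polar_add_left, QuadraticMap.polar_smul_left,
      QuadraticMap.polar_smul_left, pol_T_T μ Q hT]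
    simp only [smul_eq_mul]
    field_simp
    ring

/-- the bilinear form over the extension. -/
noncomputable def BE (hμ : μ ≠ 0) (hT : ∀ v : U, Q ((ω : QuadraticAlgebra K μ 0) • v) = μ * Q v) :
    U →ₗ[QuadraticAlgebra K μ 0] U →ₗ[QuadraticAlgebra K μ 0] QuadraticAlgebra K μ 0 :=
  LinearMap.mk₂ (QuadraticAlgebra K μ 0) (beFun μ Q) (beFun_add_left μ Q)
    (beFun_smul_left μ Q hμ hT)
    (by
      intro u v v'
      rw [beFun_symm μ Q hμ hT u, beFun_add_left, beFun_symm μ Q hμ hT v, beFun_symm μ Q hμ hT v'])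
    (by
      intro e u v
      rw [beFun_symm μ Q hμ hT u, beFun_smul_left μ Q hμ hT, beFun_symm μ Q hμ hT v])

theorem BE_apply (hμ : μ ≠ 0) (hT : ∀ v : U, Q ((ω : QuadraticAlgebra K μ 0) • v) = μ * Q v)
    (u v : U) : BE μ Q hμ hT u v = beFun μ Q u v := rfl

/-- the quadratic form over the extension. -/
noncomputable def QE (hμ : μ ≠ 0) (hT : ∀ v : U, Q ((ω : QuadraticAlgebra K μ 0) • v) = μ * Q v) :
    QuadraticForm (QuadraticAlgebra K μ 0) U :=
  (algebraMap K (QuadraticAlgebra K μ 0) (2 : K)⁻¹) •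
    LinearMap.BilinMap.toQuadraticMap (BE μ Q hμ hT)

theorem QE_apply (hμ : μ ≠ 0) (hT : ∀ v : U, Q ((ω : QuadraticAlgebra K μ 0) • v) = μ * Q v)
    (v : U) : QE μ Q hμ hT v = (2 : K)⁻¹ • beFun μ Q v v := by
  unfold QE
  rw [smul_apply, LinearMap.BilinMap.toQuadraticMap_apply, BE_apply,
    algebraMap_smul]

theorem QE_re (h2 : (2 : K) ≠ 0) (hμ : μ ≠ 0)
    (hT : ∀ v : U, Q ((ω : QuadraticAlgebra K μ 0) • v) = μ * Q v)
    (v : U) : (QE μ Q hμ hT v).re = Q v := by
  rw [QE_apply]
  unfold beFun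
  rw [re_smul, polar_self2, smul_eq_mul]
  field_simp

theorem polar_QE (h2 : (2 : K) ≠ 0) (hμ : μ ≠ 0)
    (hT : ∀ v : U, Q ((ω : QuadraticAlgebra K μ 0) • v) = μ * Q v)
    (u v : U) : QuadraticMap.polar (⇑(QE μ Q hμ hT)) u v = beFun μ Q u v := by
  unfold QE
  rw [FunLike.coe_smul, QuadraticMap.polar_smul, LinearMap.BilinMap.polar_toQuadraticMap,
    BE_apply, BE_apply, beFun_symm μ Q hμ hT v u, algebraMap_smul]
  apply QuadraticAlgebra.ext
  · rw [re_smul, re_add, smul_eq_mul]
    field_simp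
    ring
  · rw [im_smul, im_add, smul_eq_mul]
    field_simp
    ring

theorem QE_nondeg (h2 : (2 : K) ≠ 0) (hμ : μ ≠ 0)
    (hT : ∀ v : U, Q ((ω : QuadraticAlgebra K μ 0) • v) = μ * Q v)
    (hQ : (QuadraticMap.polarBilin Q).Nondegenerate) :
    (QuadraticMap.polarBilin (QE μ Q hμ hT)).Nondegenerate := by
  have key : ∀ u : U, (∀ v, beFun μ Q u v = 0) → u = 0 := by
    intro u hu
    apply hQ.1
    intro v
    have := congrArg QuadraticAlgebra.re (hu v)
    exact this
  constructor
  · intro u hu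
    apply key u
    intro v
    have := hu v
    rw [QuadraticMap.polarBilin_apply_apply, polar_QE μ Q h2 hμ hT] at this
    exact this
  · intro u hu
    apply key u
    intro v
    have := hu v
    rw [QuadraticMap.polarBilin_apply_apply, polar_QE μ Q h2 hμ hT,
      beFun_symm μ Q hμ hT] at this
    exact this

end Cfsg.Agent.Lib.Helper16.OB
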