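import Mathlib
import Cfsg.Agent.Lib.Helper16.OB11

set_option autoImplicit false
set_option linter.unusedSectionVars false
set_option linter.unusedVariables false

/-! Odd-order groups commuting with a similitude of non-square multiplier. -/

namespace Cfsg.Agent.Lib.Helper16.OB

open Module Cfsg.Agent.Lib.Helper16 QuadraticAlgebra
open scoped commutatorElement

universe u v

variable {K : Type u} [Field K] {U : Type v} [AddCommGroup U] [Module K U]
variable (μ : K)
variable [Module (QuadraticAlgebra K μ 0) U] [IsScalarTower K (QuadraticAlgebra K μ 0) U]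

/-- the linear equivalences commuting with the action of `ω`. -/
def centT : Subgroup (U ≃ₗ[K] U) where
  carrier := {h | ∀ v : U, h ((ω : QuadraticAlgebra K μ 0) • v) = (ω : QuadraticAlgebra K μ 0) • h v}
  one_mem' := fun v => rfl
  mul_mem' := by
    intro a b ha hb v
    rw [LinearEquiv.mul_apply, hb, ha]
    rfl
  inv_mem' := by
    intro a ha v
    apply a.injective
    rw [ha, ← LinearEquiv.mul_apply, ← LinearEquiv.mul_apply, mul_inv_cancel]
    rfl

theorem mem_centT (h : U ≃ₗ[K] U) : h ∈ centT (U := U) μ ↔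
    ∀ v : U, h ((ω : QuadraticAlgebra K μ 0) • v) = (ω : QuadraticAlgebra K μ 0) • h v := Iff.rfl

/-- an element of `centT` as a linear equivalence over the extension. -/
noncomputable def toE (h : ↥(centT (U := U) μ)) : U ≃ₗ[QuadraticAlgebra K μ 0] U where
  toFun := h.1
  map_add' := h.1.map_add
  map_smul' := by
    intro e v
    show h.1 (e • v) = e • h.1 v
    rw [E_smul_eq μ e v, map_add, map_smul, map_smul, h.2 v, ← E_smul_eq μ e]
  invFun := h.1.symm
  left_inv := h.1.left_inv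
  right_inv := h.1.right_inv

theorem toE_apply (h : ↥(centT (U := U) μ)) (v : U) : toE μ h v = h.1 v := rfl

noncomputable def toEHom : ↥(centT (U := U) μ) →* (U ≃ₗ[QuadraticAlgebra K μ 0] U) where
  toFun := toE μ
  map_one' := by
    apply LinearEquiv.ext
    intro v
    rfl
  map_mul' := by
    intro a b
    apply LinearEquiv.ext
    intro v
    rfl

theorem toEHom_apply (h : ↥(centT (U := U) μ)) (v : U) : toEHom μ h v = h.1 v := rfl

theorem toEHom_injective : Function.Injective (toEHom (U := U) μ) := by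
  intro a b hab
  apply Subtype.ext
  apply LinearEquiv.ext
  intro v
  have := LinearEquiv.congr_fun hab v
  exact this

/-- restriction of scalars as a homomorphism. -/
noncomputable def ofEHom : (U ≃ₗ[QuadraticAlgebra K μ 0] U) →* (U ≃ₗ[K] U) where
  toFun f := f.restrictScalars K
  map_one' := by
    apply LinearEquiv.ext
    intro v
    rfl
  map_mul' := by
    intro a b
    apply LinearEquiv.ext
    intro v
    rfl

theorem ofEHom_apply (f : U ≃ₗ[QuadraticAlgebra K μ 0] U) (v : U) : ofEHom μ f v = f v := rfl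

theorem ofEHom_mem (f : U ≃ₗ[QuadraticAlgebra K μ 0] U) : ofEHom μ f ∈ centT (U := U) μ := by
  intro v
  rw [ofEHom_apply, ofEHom_apply, map_smul]

theorem toEHom_ofEHom (f : U ≃ₗ[QuadraticAlgebra K μ 0] U) :
    toEHom μ ⟨ofEHom μ f, ofEHom_mem μ f⟩ = f := by
  apply LinearEquiv.ext
  intro v
  rfl

variable (Q : QuadraticForm K U)

set_option quotPrecheck false in
local notation "pol" => QuadraticMap.polar (⇑Q)

theorem QE_iso (hμ : μ ≠ 0) (hT : ∀ v : U, Q ((ω : QuadraticAlgebra K μ 0) • v) = μ * Q v)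
    (h : ↥(centT (U := U) μ)) (hiso : ∀ v, Q (h.1 v) = Q v) (v : U) :
    QE μ Q hμ hT (toEHom μ h v) = QE μ Q hμ hT v := by
  rw [QE_apply, QE_apply, toEHom_apply]
  unfold beFun
  rw [← h.2 v, polar_of_iso Q h.1 hiso, polar_of_iso Q h.1 hiso]

theorem Q_iso_of_QE (h2 : (2 : K) ≠ 0) (hμ : μ ≠ 0)
    (hT : ∀ v : U, Q ((ω : QuadraticAlgebra K μ 0) • v) = μ * Q v)
    (f : U ≃ₗ[QuadraticAlgebra K μ 0] U) (hf : ∀ v, QE μ Q hμ hT (f v) = QE μ Q hμ hT v) (v : U) :
    Q (ofEHom μ f v) = Q v := by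
  rw [ofEHom_apply, ← QE_re μ Q h2 hμ hT, hf, QE_re μ Q h2 hμ hT]

variable [Fintype K] [FiniteDimensional K U] [hF : Fact (∀ r : K, r ^ 2 ≠ μ + 0 * r)]

set_option maxHeartbeats 1600000 in
/-- **Type B**, over the extension. -/
theorem typeB_coreE (h2 : (2 : K) ≠ 0) (hQ : (QuadraticMap.polarBilin Q).Nondegenerate)
    (hT : ∀ v : U, Q ((ω : QuadraticAlgebra K μ 0) • v) = μ * Q v)
    (hn : Odd (finrank (QuadraticAlgebra K μ 0) U)) (h5 : 5 ≤ finrank (QuadraticAlgebra K μ 0) U)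
    (H : Subgroup (U ≃ₗ[K] U)) [Finite H] (hHodd : Odd (Nat.card H))
    (hHiso : ∀ h ∈ H, ∀ v, Q (h v) = Q v) (hHc : H ≤ centT (U := U) μ)
    (hN : ∀ s t : U ≃ₗ[K] U, (∀ v, Q (s v) = Q v) → (∀ v, Q (t v) = Q v) →
      ⁅s, t⁆ ∈ centT (U := U) μ → ∀ h ∈ H, ⁅s, t⁆ * h * ⁅s, t⁆⁻¹ ∈ H) : H = ⊥ := by
  classical
  have hμ : μ ≠ 0 := by
    intro h0
    have := hF.out 0
    rw [h0] at this
    simp at this
  have : Fintype (QuadraticAlgebra K μ 0) := Fintype.ofEquiv (K × K) (equivProd μ 0).symm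
  have hfd : FiniteDimensional (QuadraticAlgebra K μ 0) U :=
    Module.Finite.of_restrictScalars_finite K (QuadraticAlgebra K μ 0) U
  have h2E : (2 : QuadraticAlgebra K μ 0) ≠ 0 := by
    intro h0
    have := congrArg QuadraticAlgebra.re h0
    rw [re_ofNat, re_zero] at this
    exact h2 this
  have hQE := QE_nondeg μ Q h2 hμ hT hQ
  set φ : ↥H →* (U ≃ₗ[QuadraticAlgebra K μ 0] U) := (toEHom μ).comp (Subgroup.inclusion hHc) with hφ
  have hφinj : Function.Injective φ :=
    (toEHom_injective μ).comp (Subgroup.inclusion_injective hHc)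
  have hfin : Finite ↥φ.range := Finite.of_surjective φ.rangeRestrict φ.rangeRestrict_surjective
  have hoddφ : Odd (Nat.card ↥φ.range) := Odd.of_dvd_nat hHodd (Subgroup.card_range_dvd _)
  have hisoφ : ∀ e ∈ φ.range, ∀ v, QE μ Q hμ hT (e v) = QE μ Q hμ hT v := by
    rintro _ ⟨h, rfl⟩ v
    exact QE_iso μ Q hμ hT ⟨h.1, hHc h.2⟩ (hHiso h.1 h.2) v
  have hfixφ : ∀ e ∈ φ.range, ∃ u : U, u ≠ 0 ∧ e u = u := by
    intro e he
    have := pow_card_eq_one_of_mem φ.range e he
    exact odd_fix (QE μ Q hμ hT) h2E hQE hn e (hisoφ e he) _ hoddφ this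
  have hbot : φ.range = ⊥ := by
    apply core_R2 (QE μ Q hμ hT) h2E hQE h5 _ hoddφ hisoφ _ hfixφ
    rintro x y hx hy hxy _ ⟨h, rfl⟩
    have hne : QE μ Q hμ hT (x - y) ≠ 0 := by
      have h1 := quad_sub_smul (QE μ Q hμ hT) x y 1
      rw [one_smul] at h1
      rw [h1, hy, QuadraticMap.polar_comm, hxy]
      simp only [one_mul, one_pow, sub_zero]
      intro h0
      apply hx
      have : (2 : QuadraticAlgebra K μ 0) * QE μ Q hμ hT x = 0 := by
        rw [two_mul]; exact h0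
      rcases mul_eq_zero.mp this with h | h
      · exact absurd h h2E
      · exact h
    have hcomm := rf_mul_rf_eq_commutator (QE μ Q hμ hT) x y hy hne
    set s : U ≃ₗ[K] U := ofEHom μ (rf (QE μ Q hμ hT) x) with hs
    set t : U ≃ₗ[K] U := ofEHom μ (rf (QE μ Q hμ hT) (x - y)) with ht
    have hsiso : ∀ v, Q (s v) = Q v := Q_iso_of_QE μ Q h2 hμ hT _ (Q_rf _ x)
    have htiso : ∀ v, Q (t v) = Q v := Q_iso_of_QE μ Q h2 hμ hT _ (Q_rf _ (x - y))
    have hst : ⁅s, t⁆ = ofEHom μ (rf (QE μ Q hμ hT) x * rf (QE μ Q hμ hT) y) := by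
      rw [hcomm, map_commutatorElement]
    have hstc : ⁅s, t⁆ ∈ centT (U := U) μ := by
      rw [hst]
      exact ofEHom_mem μ _
    have h1 := hN s t hsiso htiso hstc h.1 h.2
    refine ⟨⟨_, h1⟩, ?_⟩
    apply LinearEquiv.ext
    intro v
    rw [hφ]
    show (⁅s, t⁆ * h.1 * ⁅s, t⁆⁻¹) v = _
    rw [hst, ← map_inv]
    rfl
  rw [Subgroup.eq_bot_iff_forall]
  intro h hh
  have h1 : φ ⟨h, hh⟩ ∈ φ.range := ⟨_, rfl⟩
  rw [hbot, Subgroup.mem_bot] at h1
  have h3 : φ ⟨h, hh⟩ = φ 1 := by rw [h1, map_one]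
  have := hφinj h3
  exact congrArg Subtype.val this

end Cfsg.Agent.Lib.Helper16.OB

namespace Cfsg.Agent.Lib.Helper16.OB

open Module Cfsg.Agent.Lib.Helper16 QuadraticAlgebra
open scoped commutatorElement

universe u v

variable {K : Type u} [Field K] {U : Type v} [AddCommGroup U] [Module K U]
variable (Q : QuadraticForm K U) [Fintype K] [FiniteDimensional K U]

set_option maxHeartbeats 1600000 in
/-- **Type B.** An odd-order group of isometries commuting with a similitude `w` of non-square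
multiplier `μ` with `w² = μ`, normalised by the commutators of isometries which commute with `w`,
is trivial (dimension `2n`, `n ≥ 5` odd). -/
theorem typeB_core (h2 : (2 : K) ≠ 0) (hQ : (QuadraticMap.polarBilin Q).Nondegenerate)
    (μ : K) (hμns : ¬ IsSquare μ) (w : U ≃ₗ[K] U) (hww : ∀ v, w (w v) = μ • v)
    (hwQ : ∀ v, Q (w v) = μ * Q v) (n : ℕ) (hdim : finrank K U = 2 * n) (hn : Odd n) (h5 : 5 ≤ n)
    (H : Subgroup (U ≃ₗ[K] U)) [Finite H] (hHodd : Odd (Nat.card H))
    (hHiso : ∀ h ∈ H, ∀ v, Q (h v) = Q v) (hHc : ∀ h ∈ H, h * w = w * h)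
    (hN : ∀ s t : U ≃ₗ[K] U, (∀ v, Q (s v) = Q v) → (∀ v, Q (t v) = Q v) →
      ⁅s, t⁆ * w = w * ⁅s, t⁆ → ∀ h ∈ H, ⁅s, t⁆ * h * ⁅s, t⁆⁻¹ ∈ H) : H = ⊥ := by
  have hF : Fact (∀ r : K, r ^ 2 ≠ μ + 0 * r) := by
    constructor
    intro r hr
    apply hμns
    refine ⟨r, ?_⟩
    rw [← pow_two, hr, zero_mul, add_zero]
  have hw2 : (w : U →ₗ[K] U) * (w : U →ₗ[K] U) = μ • (1 : Module.End K U) + (0 : K) • (w : U →ₗ[K] U) := by
    apply LinearMap.ext
    intro v
    rw [zero_smul, add_zero]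
    exact hww v
  let φ : QuadraticAlgebra K μ 0 →ₐ[K] Module.End K U :=
    QuadraticAlgebra.lift ⟨(w : U →ₗ[K] U), hw2⟩
  let _ : Module (QuadraticAlgebra K μ 0) U := Module.compHom U φ.toRingHom
  have hsm : ∀ (e : QuadraticAlgebra K μ 0) (v : U), e • v = φ e v := fun e v => rfl
  have hst : IsScalarTower K (QuadraticAlgebra K μ 0) U := by
    constructor
    intro c e v
    rw [hsm, hsm, map_smul]
    rfl
  have hω : ∀ v : U, (ω : QuadraticAlgebra K μ 0) • v = w v := by
    intro v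
    rw [hsm]
    show (QuadraticAlgebra.lift ⟨(w : U →ₗ[K] U), hw2⟩ : QuadraticAlgebra K μ 0 →ₐ[K] Module.End K U) ω v = _
    rw [QuadraticAlgebra.lift_apply_apply]
    simp
  have hfr : finrank (QuadraticAlgebra K μ 0) U = n := by
    have h1 := Module.finrank_mul_finrank K (QuadraticAlgebra K μ 0) U
    rw [QuadraticAlgebra.finrank_eq_two, hdim] at h1
    omega
  have hcent : ∀ s : U ≃ₗ[K] U, s * w = w * s → s ∈ centT (U := U) μ := by
    intro s hs v
    rw [hω, hω, ← LinearEquiv.mul_apply, hs]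
    rfl
  have hcent' : ∀ s : U ≃ₗ[K] U, s ∈ centT (U := U) μ → s * w = w * s := by
    intro s hs
    apply LinearEquiv.ext
    intro v
    have := hs v
    rw [hω, hω] at this
    exact this
  apply typeB_coreE μ Q h2 hQ (by intro v; rw [hω]; exact hwQ v) (by rw [hfr]; exact hn)
    (by rw [hfr]; exact h5) H hHodd hHiso (fun h hh => hcent h (hHc h hh))
  intro s t hs ht hstc h hh
  exact hN s t hs ht (hcent' _ hstc) h hh

end Cfsg.Agent.Lib.Helper16.OB
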