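import Mathlib
import Cfsg.Prelude.Def_LieTypeDatum

set_option autoImplicit false
set_option linter.unusedSectionVars false
set_option linter.unusedVariables false

namespace Cfsg.Agent.Lib.Helper16.SC

universe u v

section
variable {X : Type u} [Group X]

theorem isConjUnder_refl (K : Subgroup X) (y : X) : Cfsg.IsConjUnder K y y :=
  ⟨1, K.one_mem, by rw [one_mul, inv_one, mul_one]⟩

theorem isConjUnder_symm (K : Subgroup X) {y z : X} (h : Cfsg.IsConjUnder K y z) : Cfsg.IsConjUnder K z y := by
  obtain ⟨k, hk, rfl⟩ := h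
  refine ⟨k⁻¹, K.inv_mem hk, ?_⟩
  group

theorem isConjUnder_trans (K : Subgroup X) {y z w : X} (h : Cfsg.IsConjUnder K y z) (h' : Cfsg.IsConjUnder K z w) :
    Cfsg.IsConjUnder K y w := by
  obtain ⟨k, hk, rfl⟩ := h
  obtain ⟨k', hk', rfl⟩ := h'
  refine ⟨k' * k, K.mul_mem hk' hk, ?_⟩
  group

/-- the setoid of `K`-conjugacy on the `H`-class of `x`. -/
def conjSetoid (H K : Subgroup X) (x : X) : Setoid {y : X // Cfsg.IsConjUnder H x y} where
  r y z := Cfsg.IsConjUnder K y.1 z.1
  iseqv := ⟨fun y => isConjUnder_refl K y.1, fun h => isConjUnder_symm K h, fun h h' => isConjUnder_trans K h h'⟩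

theorem splitClassCount_eq_card_quotient (H K : Subgroup X) (x : X) :
    Cfsg.splitClassCount H K x = Nat.card (Quotient (conjSetoid H K x)) := rfl

/-- the number of `K`-classes in the `H`-class of `x` is the index of `K C_H(x)` in `H`. -/
theorem splitClassCount_eq_relIndex (H K : Subgroup X) [hK : K.Normal] (hKH : K ≤ H) (x : X) :
    Cfsg.splitClassCount H K x = (K ⊔ (H ⊓ Subgroup.centralizer {x})).relIndex H := by
  rw [splitClassCount_eq_card_quotient]
  set M : Subgroup X := K ⊔ (H ⊓ Subgroup.centralizer {x}) with hM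
  unfold Subgroup.relIndex Subgroup.index
  -- the map from `H` to the quotient
  let f : ↥H → Quotient (conjSetoid H K x) := fun h =>
    Quotient.mk _ ⟨(h : X) * x * (h : X)⁻¹, ⟨h, h.2, rfl⟩⟩
  have hf : ∀ h h' : ↥H, f h = f h' ↔ (h⁻¹ * h' : ↥H) ∈ M.subgroupOf H := by
    intro h h'
    show Quotient.mk _ _ = Quotient.mk _ _ ↔ _
    rw [Quotient.eq, Subgroup.mem_subgroupOf]
    show Cfsg.IsConjUnder K ((h : X) * x * (h : X)⁻¹) ((h' : X) * x * (h' : X)⁻¹) ↔ _
    constructor
    · rintro ⟨k, hk, hkeq⟩
      -- c := h⁻¹ k⁻¹ h' centralises x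
      have hc : ((h : X)⁻¹ * k⁻¹ * (h' : X)) ∈ H ⊓ Subgroup.centralizer {x} := by
        refine ⟨H.mul_mem (H.mul_mem (H.inv_mem h.2) (H.inv_mem (hKH hk))) h'.2, ?_⟩
        show _ ∈ Subgroup.centralizer {x}
        rw [Subgroup.mem_centralizer_iff]
        intro y hy
        rw [Set.mem_singleton_iff] at hy
        subst hy
        have : (h' : X) * y = k * (h : X) * y * (h : X)⁻¹ * k⁻¹ * (h' : X) := by
          have := congrArg (fun z => z * (h' : X)) hkeq
          simp only [inv_mul_cancel_right] at this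
          rw [this]
          group
        calc y * ((h : X)⁻¹ * k⁻¹ * (h' : X)) = (h : X)⁻¹ * k⁻¹ * (k * (h : X) * y * (h : X)⁻¹ * k⁻¹ * (h' : X)) := by group
          _ = (h : X)⁻¹ * k⁻¹ * (h' : X) * y := by rw [← this]; group
      have hk' : (h : X)⁻¹ * k * (h : X) ∈ K := by
        have := hK.conj_mem k hk (h : X)⁻¹
        rwa [inv_inv] at this
      have e : ((h⁻¹ * h' : ↥H) : X) = ((h : X)⁻¹ * k * (h : X)) * ((h : X)⁻¹ * k⁻¹ * (h' : X)) := by
        rw [Subgroup.coe_mul, Subgroup.coe_inv]
        group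
      rw [e]
      exact M.mul_mem (Subgroup.mem_sup_left hk') (Subgroup.mem_sup_right hc)
    · intro hmem
      have hmem' : ((h⁻¹ * h' : ↥H) : X) ∈ (↑(K ⊔ (H ⊓ Subgroup.centralizer {x})) : Set X) := hmem
      rw [Subgroup.normal_mul] at hmem'
      obtain ⟨k, hk, c, hc, hkc⟩ := hmem'
      have hcx : c * x = x * c := by
        have := (Subgroup.mem_centralizer_iff.mp hc.2) x (Set.mem_singleton x)
        exact this.symm
      refine ⟨(h : X) * k * (h : X)⁻¹, hK.conj_mem k hk (h : X), ?_⟩
      have hkc' : k * c = (h : X)⁻¹ * (h' : X) := by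
        rw [← Subgroup.coe_inv, ← Subgroup.coe_mul]
        exact hkc
      have e : (h' : X) = (h : X) * (k * c) := by
        rw [hkc']
        group
      rw [e]
      have hcx' : c * x * c⁻¹ = x := by rw [hcx]; group
      calc (h : X) * (k * c) * x * ((h : X) * (k * c))⁻¹ = (h : X) * k * (c * x * c⁻¹) * k⁻¹ * (h : X)⁻¹ := by group
        _ = (h : X) * k * (h : X)⁻¹ * ((h : X) * x * (h : X)⁻¹) * ((h : X) * k * (h : X)⁻¹)⁻¹ := by rw [hcx']; group
  have hsurj : Function.Surjective f := by
    intro y
    induction y using Quotient.inductionOn with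
    | h y =>
      obtain ⟨y, h, hh, rfl⟩ := y
      exact ⟨⟨h, hh⟩, rfl⟩
  -- the induced bijection
  let e : (↥H ⧸ M.subgroupOf H) → Quotient (conjSetoid H K x) :=
    Quotient.lift f (by
      intro a b hab
      rw [hf]
      exact QuotientGroup.leftRel_apply.mp hab)
  have hebij : Function.Bijective e := by
    constructor
    · intro a b
      induction a using QuotientGroup.induction_on with
      | H a =>
        induction b using QuotientGroup.induction_on with
        | H b =>
          intro hab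
          have : f a = f b := hab
          rw [hf] at this
          exact QuotientGroup.eq.mpr this
    · intro y
      obtain ⟨h, rfl⟩ := hsurj y
      exact ⟨QuotientGroup.mk h, rfl⟩
  exact (Nat.card_congr (Equiv.ofBijective e hebij)).symm

end

end Cfsg.Agent.Lib.Helper16.SC
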