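import Mathlib
import Cfsg.Prelude.Def_LieTypeDatum
import Cfsg.Agent.Lib.Helper16.SC1

set_option autoImplicit false
set_option linter.unusedSectionVars false
set_option linter.unusedVariables false

namespace Cfsg.Agent.Lib.Helper16.SC

universe u v w

section
variable {X : Type u} [Group X]

/-- the split class count through a parametrisation of `H` and a quotient map killing `K`. -/
theorem splitClassCount_via_hom {G : Type v} [Group G] {A : Type w} [Group A] (Φ : G →* X) (δ : G →* A)
    (hδ : Function.Surjective δ) (S : Subgroup A) (K : Subgroup X) [hK : K.Normal] (hKΦ : K ≤ Φ.range)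
    (hKS : K.comap Φ = S.comap δ) (x : X) :
    Cfsg.splitClassCount Φ.range K x = (S ⊔ ((Subgroup.centralizer {x}).comap Φ).map δ).index := by
  rw [splitClassCount_eq_relIndex _ _ hKΦ]
  have h1 : K ⊔ (Φ.range ⊓ Subgroup.centralizer {x}) =
      (K.comap Φ ⊔ (Subgroup.centralizer {x}).comap Φ).map Φ := by
    rw [Subgroup.map_sup, Subgroup.map_comap_eq, Subgroup.map_comap_eq, inf_of_le_right hKΦ]
  have h2 : Φ.range = (⊤ : Subgroup G).map Φ := MonoidHom.range_eq_map Φ
  have hker : Φ.ker ≤ K.comap Φ := by
    intro g hg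
    rw [Subgroup.mem_comap, MonoidHom.mem_ker.mp hg]
    exact K.one_mem
  have hker' : δ.ker ≤ S.comap δ := by
    intro g hg
    rw [Subgroup.mem_comap, MonoidHom.mem_ker.mp hg]
    exact S.one_mem
  rw [h1]
  conv_lhs => rw [h2]
  rw [Subgroup.relIndex_map_map, top_sup_eq, Subgroup.relIndex_top_right]
  have h3 : K.comap Φ ⊔ (Subgroup.centralizer {x}).comap Φ ⊔ Φ.ker =
      K.comap Φ ⊔ (Subgroup.centralizer {x}).comap Φ := by
    apply sup_of_le_left
    exact le_trans hker le_sup_left
  rw [h3, ← Subgroup.index_comap_of_surjective (S ⊔ ((Subgroup.centralizer {x}).comap Φ).map δ) hδ,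
    ← Subgroup.comap_sup_eq _ _ _ hδ, Subgroup.comap_map_eq, hKS]
  congr 1
  rw [← sup_assoc, sup_comm (S.comap δ ⊔ _) δ.ker, ← sup_assoc, sup_of_le_right hker']

/-- in a finite cyclic group, the index of the join of the `n`-th powers and a subgroup. -/
theorem index_pow_sup {A : Type w} [CommGroup A] [IsCyclic A] [Finite A] (n : ℕ) (D : Subgroup A) :
    ((powMonoidHom n : A →* A).range ⊔ D).index = Nat.gcd n D.index := by
  set π : A →* A ⧸ D := QuotientGroup.mk' D with hπ
  have hπs : Function.Surjective π := QuotientGroup.mk'_surjective D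
  have h1 := Subgroup.index_map ((powMonoidHom n : A →* A).range ⊔ D) π
  rw [QuotientGroup.ker_mk', MonoidHom.range_eq_top_of_surjective π hπs, Subgroup.index_top, mul_one,
    sup_assoc, sup_idem] at h1
  rw [← h1, Subgroup.map_sup]
  have h2 : D.map π = ⊥ := by
    rw [Subgroup.map_eq_bot_iff, QuotientGroup.ker_mk']
  have h3 : (powMonoidHom n : A →* A).range.map π = (powMonoidHom n : A ⧸ D →* A ⧸ D).range := by
    rw [MonoidHom.range_eq_map, MonoidHom.range_eq_map, Subgroup.map_map]
    have hc : π.comp (powMonoidHom n : A →* A) = (powMonoidHom n : A ⧸ D →* A ⧸ D).comp π := by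
      ext a
      simp
    rw [hc, ← Subgroup.map_map, Subgroup.map_top_of_surjective π hπs]
  have : IsCyclic (A ⧸ D) := isCyclic_of_surjective π hπs
  rw [h2, sup_bot_eq, h3, IsCyclic.index_powMonoidHom_range, Nat.gcd_comm]
  rfl

end

end Cfsg.Agent.Lib.Helper16.SC
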