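import Mathlib
import Cfsg.Prelude.Def_LieTypeDatum
import Cfsg.Agent.Lib.Helper16.SC2

set_option autoImplicit false
set_option linter.unusedSectionVars false
set_option linter.unusedVariables false

namespace Cfsg.Agent.Lib.Helper16.SC

universe u v w

section
variable {X : Type u} [Group X]

theorem map_conj_of_normal (K : Subgroup X) [hK : K.Normal] (α : X) :
    K.map (MulAut.conj α).toMonoidHom = K := by
  ext y
  rw [Subgroup.mem_map]
  constructor
  · rintro ⟨k, hk, rfl⟩
    show α * k * α⁻¹ ∈ K
    exact hK.conj_mem k hk α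
  · intro hy
    refine ⟨α⁻¹ * y * α, ?_, ?_⟩
    · have := hK.conj_mem y hy α⁻¹
      rwa [inv_inv] at this
    · show α * (α⁻¹ * y * α) * α⁻¹ = y
      group

theorem centralizer_conj (α x : X) :
    Subgroup.centralizer {α * x * α⁻¹} = (Subgroup.centralizer {x}).map (MulAut.conj α).toMonoidHom := by
  ext y
  rw [Subgroup.mem_map]
  constructor
  · intro hy
    rw [Subgroup.mem_centralizer_iff] at hy
    have h1 := hy _ (Set.mem_singleton _)
    refine ⟨α⁻¹ * y * α, ?_, ?_⟩
    · rw [Subgroup.mem_centralizer_iff]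
      intro z hz
      rw [Set.mem_singleton_iff] at hz
      subst hz
      calc z * (α⁻¹ * y * α) = α⁻¹ * (α * z * α⁻¹ * y) * α := by group
        _ = α⁻¹ * (y * (α * z * α⁻¹)) * α := by rw [h1]
        _ = α⁻¹ * y * α * z := by group
    · show α * (α⁻¹ * y * α) * α⁻¹ = y
      group
  · rintro ⟨c, hc, rfl⟩
    rw [Subgroup.mem_centralizer_iff] at hc ⊢
    intro z hz
    rw [Set.mem_singleton_iff] at hz
    subst hz
    have h1 := hc x (Set.mem_singleton _)
    show α * x * α⁻¹ * (α * c * α⁻¹) = α * c * α⁻¹ * (α * x * α⁻¹)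
    calc α * x * α⁻¹ * (α * c * α⁻¹) = α * (x * c) * α⁻¹ := by group
      _ = α * (c * x) * α⁻¹ := by rw [h1]
      _ = α * c * α⁻¹ * (α * x * α⁻¹) := by group

theorem inf_centralizer_conj (H : Subgroup X) [hH : H.Normal] (α x : X) :
    H ⊓ Subgroup.centralizer {α * x * α⁻¹} =
      (H ⊓ Subgroup.centralizer {x}).map (MulAut.conj α).toMonoidHom := by
  rw [Subgroup.map_inf _ _ _ (MulAut.conj α).injective, map_conj_of_normal, centralizer_conj]

/-- conjugating the base point does not change the split class count, for normal subgroups. -/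
theorem splitClassCount_conj (H K : Subgroup X) [hH : H.Normal] [hK : K.Normal] (hKH : K ≤ H) (α x : X) :
    Cfsg.splitClassCount H K (α * x * α⁻¹) = Cfsg.splitClassCount H K x := by
  rw [splitClassCount_eq_relIndex H K hKH, splitClassCount_eq_relIndex H K hKH, inf_centralizer_conj]
  conv_lhs =>
    rw [← map_conj_of_normal K α, ← Subgroup.map_sup]
    arg 2
    rw [← map_conj_of_normal H α]
  exact Subgroup.relIndex_map_map_of_injective _ _ (MulAut.conj α).injective

/-- the centralisers in `H` of conjugate elements are isomorphic. -/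
noncomputable def centralizerConjEquiv (H : Subgroup X) [hH : H.Normal] (α x : X) :
    ↥(H ⊓ Subgroup.centralizer {x}) ≃* ↥(H ⊓ Subgroup.centralizer {α * x * α⁻¹}) :=
  ((MulAut.conj α).subgroupMap (H ⊓ Subgroup.centralizer {x})).trans
    (MulEquiv.subgroupCongr (inf_centralizer_conj H α x).symm)

end

end Cfsg.Agent.Lib.Helper16.SC
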