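import Mathlib

set_option autoImplicit false

open Module Matrix

namespace Cfsg.Agent.Lib.Helper16

section
variable {F : Type*} [Field F] [Fintype F]

noncomputable def psiHom (F₀ : Subfield F) (n : ℕ) : Fˣ × GL (Fin n) F₀ →* GL (Fin n) F :=
  MonoidHom.noncommCoprod (Matrix.GeneralLinearGroup.scalar (Fin n))
    (Matrix.GeneralLinearGroup.map F₀.subtype)
    (fun d _ => show Commute _ _ from Matrix.GeneralLinearGroup.scalar_commute d _)

theorem psiHom_val (F₀ : Subfield F) (n : ℕ) (d : Fˣ) (h : GL (Fin n) F₀) :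
    ((psiHom F₀ n (d, h) : GL (Fin n) F) : Matrix (Fin n) (Fin n) F) =
      (d : F) • (h : Matrix (Fin n) (Fin n) F₀).map F₀.subtype := by
  unfold psiHom
  rw [MonoidHom.noncommCoprod_apply, Units.val_mul, Matrix.GeneralLinearGroup.coe_scalar]
  ext i j
  simp [Matrix.GeneralLinearGroup.map, Matrix.mul_apply, Matrix.diagonal_apply]

theorem psiHom_range (σ : F ≃+* F) (F₀ : Subfield F) (hF₀ : ∀ x, x ∈ F₀ ↔ σ x = x) {n : ℕ} (hn : 1 ≤ n)
    (g : GL (Fin n) F) :
    g ∈ (psiHom F₀ n).range ↔ ∃ c : F, c ≠ 0 ∧ (g : Matrix (Fin n) (Fin n) F).map σ = c • (g : Matrix (Fin n) (Fin n) F) := by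
  constructor
  · rintro ⟨⟨d, h⟩, rfl⟩
    refine ⟨σ d / d, div_ne_zero ((map_ne_zero σ).mpr d.ne_zero) d.ne_zero, ?_⟩
    rw [psiHom_val]
    ext i j
    simp only [Matrix.map_apply, Matrix.smul_apply, smul_eq_mul, map_mul, Subfield.coe_subtype]
    rw [(hF₀ _).mp (h.1 i j).2]
    field_simp
  · rintro ⟨c, hc, hg⟩
    have hne : ∃ i j, (g : Matrix (Fin n) (Fin n) F) i j ≠ 0 := by
      by_contra hcon
      push Not at hcon
      have : (g : Matrix (Fin n) (Fin n) F) = 0 := by ext i j; exact hcon i j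
      have hdet := Matrix.GeneralLinearGroup.det_ne_zero g
      rw [this] at hdet
      have : Nonempty (Fin n) := ⟨⟨0, by omega⟩⟩
      exact hdet Matrix.det_zero
    obtain ⟨i₀, j₀, he⟩ := hne
    set e := (g : Matrix (Fin n) (Fin n) F) i₀ j₀ with hedef
    have hσe : σ e = c * e := by
      have := congrFun (congrFun hg i₀) j₀
      simpa using this
    have hfix : ∀ i j, e⁻¹ * (g : Matrix (Fin n) (Fin n) F) i j ∈ F₀ := by
      intro i j
      rw [hF₀, map_mul, map_inv₀, hσe]
      have := congrFun (congrFun hg i) j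
      simp only [Matrix.map_apply, Matrix.smul_apply, smul_eq_mul] at this
      rw [this]
      field_simp
    let H : Matrix (Fin n) (Fin n) F₀ := fun i j => ⟨e⁻¹ * (g : Matrix (Fin n) (Fin n) F) i j, hfix i j⟩
    have hHmap : H.map F₀.subtype = e⁻¹ • (g : Matrix (Fin n) (Fin n) F) := by
      ext i j
      rfl
    have hHdet : H.det ≠ 0 := by
      intro h0
      have h1 : (H.map F₀.subtype).det = 0 := by
        rw [← RingHom.mapMatrix_apply, ← RingHom.map_det, h0, map_zero]
      rw [hHmap, Matrix.det_smul] at h1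
      rcases mul_eq_zero.mp h1 with h2 | h2
      · exact (pow_ne_zero _ (inv_ne_zero he)) h2
      · exact Matrix.GeneralLinearGroup.det_ne_zero g h2
    refine ⟨(Units.mk0 e he, Matrix.GeneralLinearGroup.mkOfDetNeZero H hHdet), ?_⟩
    apply Units.ext
    rw [psiHom_val]
    show e • (H.map F₀.subtype) = _
    rw [hHmap, smul_smul, mul_inv_cancel₀ he, one_smul]

noncomputable def kappaHom (F₀ : Subfield F) (n : ℕ) : (↥F₀)ˣ →* Fˣ × GL (Fin n) F₀ :=
  MonoidHom.prod ((invMonoidHom : Fˣ →* Fˣ).comp (Units.map F₀.subtype.toMonoidHom))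
    (Matrix.GeneralLinearGroup.scalar (Fin n))

theorem kappaHom_apply (F₀ : Subfield F) (n : ℕ) (t : (↥F₀)ˣ) :
    kappaHom F₀ n t = ((Units.map F₀.subtype.toMonoidHom t)⁻¹, Matrix.GeneralLinearGroup.scalar (Fin n) t) := rfl

theorem kappaHom_injective (F₀ : Subfield F) (n : ℕ) : Function.Injective (kappaHom F₀ n) := by
  intro s t hst
  have h1 := congrArg Prod.fst hst
  rw [kappaHom_apply, kappaHom_apply] at h1
  rw [_root_.inv_inj] at h1
  have h2 : ((s : F₀) : F) = ((t : F₀) : F) := by
    have := congrArg Units.val h1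
    simpa using this
  exact Units.ext (Subtype.ext h2)

theorem psiHom_ker (F₀ : Subfield F) {n : ℕ} (hn : 1 ≤ n) :
    (psiHom F₀ n).ker = (kappaHom F₀ n).range := by
  ext ⟨d, h⟩
  rw [MonoidHom.mem_ker, MonoidHom.mem_range]
  constructor
  · intro hker
    have hval := congrArg Units.val hker
    rw [psiHom_val, Units.val_one] at hval
    have hent : ∀ i j, (d : F) * ((h : Matrix (Fin n) (Fin n) F₀) i j : F) = if i = j then 1 else 0 := by
      intro i j
      have := congrFun (congrFun hval i) j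
      simpa [Matrix.one_apply] using this
    let i₀ : Fin n := ⟨0, by omega⟩
    have h00 : (d : F) * ((h : Matrix (Fin n) (Fin n) F₀) i₀ i₀ : F) = 1 := by
      rw [hent]; simp
    have hne : (h : Matrix (Fin n) (Fin n) F₀) i₀ i₀ ≠ 0 := by
      intro h0
      rw [h0] at h00
      simp at h00
    refine ⟨Units.mk0 _ hne, ?_⟩
    rw [kappaHom_apply]
    apply Prod.ext
    · apply Units.ext
      simp only [Units.val_inv_eq_inv_val, Units.coe_map, MonoidHom.coe_coe, Subfield.coe_subtype, Units.val_mk0]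
      rw [inv_eq_iff_eq_inv]
      exact eq_inv_of_mul_eq_one_right h00
    · apply Units.ext
      ext i j
      have hij := hent i j
      have hd : (d : F) ≠ 0 := d.ne_zero
      simp only [Matrix.GeneralLinearGroup.coe_scalar, Units.val_mk0, Matrix.scalar_apply, Matrix.diagonal_apply]
      by_cases hc : i = j
      · subst hc
        simp only [if_true] at hij ⊢
        have : ((h : Matrix (Fin n) (Fin n) F₀) i i : F) = ((h : Matrix (Fin n) (Fin n) F₀) i₀ i₀ : F) := by
          apply mul_left_cancel₀ hd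
          rw [hij, h00]
        exact this.symm
      · simp only [hc, if_false] at hij ⊢
        rcases mul_eq_zero.mp hij with h1 | h1
        · exact absurd h1 hd
        · rw [h1]; rfl
  · rintro ⟨t, ht⟩
    rw [← ht, kappaHom_apply]
    apply Units.ext
    rw [psiHom_val, Units.val_one]
    ext i j
    simp only [Matrix.smul_apply, Matrix.map_apply, Matrix.GeneralLinearGroup.coe_scalar, Matrix.scalar_apply,
      Matrix.diagonal_apply, Units.val_inv_eq_inv_val, Units.coe_map, MonoidHom.coe_coe, Subfield.coe_subtype,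
      smul_eq_mul, Matrix.one_apply]
    by_cases hc : i = j
    · simp only [hc, if_true]
      have : ((t : F₀) : F) ≠ 0 := by
        intro h0
        exact t.ne_zero (Subtype.ext h0)
      exact inv_mul_cancel₀ this
    · simp [hc]

theorem semifixed_count (σ : F ≃+* F) (F₀ : Subfield F) (hF₀ : ∀ x, x ∈ F₀ ↔ σ x = x) {n : ℕ} (hn : 1 ≤ n) :
    Nat.card {g : GL (Fin n) F // ∃ c : F, c ≠ 0 ∧ (g : Matrix (Fin n) (Fin n) F).map σ = c • (g : Matrix (Fin n) (Fin n) F)}
      * Nat.card (↥F₀)ˣ = Nat.card Fˣ * Nat.card (GL (Fin n) F₀) := by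
  have h1 : Nat.card {g : GL (Fin n) F // ∃ c : F, c ≠ 0 ∧ (g : Matrix (Fin n) (Fin n) F).map σ = c • (g : Matrix (Fin n) (Fin n) F)}
      = Nat.card (psiHom F₀ n).range := by
    apply Nat.card_congr
    apply Equiv.subtypeEquivRight
    intro g
    exact (psiHom_range σ F₀ hF₀ hn g).symm
  have h2 : Nat.card (↥F₀)ˣ = Nat.card (psiHom F₀ n).ker := by
    rw [psiHom_ker F₀ hn]
    exact Nat.card_congr (MonoidHom.ofInjective (kappaHom_injective F₀ n)).toEquiv
  rw [h1, h2, ← Subgroup.index_ker, mul_comm, Subgroup.card_mul_index, Nat.card_prod]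

theorem fixed_card {q₀ r : ℕ} (hr : r.Prime) (hF : Fintype.card F = q₀ ^ r) (σ : F ≃+* F) (hσ : orderOf σ = r) :
    Nat.card (FixedPoints.subfield (Subgroup.zpowers σ) F) = q₀ := by
  classical
  have hfo : IsOfFinOrder σ := orderOf_pos_iff.mp (by rw [hσ]; exact hr.pos)
  have : Finite (Subgroup.zpowers σ) := Set.finite_coe_iff.mpr hfo.finite_zpowers
  have : Fintype (Subgroup.zpowers σ) := Fintype.ofFinite _
  have h1 := FixedPoints.finrank_eq_card (Subgroup.zpowers σ) F
  have h2 : Fintype.card (Subgroup.zpowers σ) = r := by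
    rw [← Nat.card_eq_fintype_card, Nat.card_zpowers, hσ]
  rw [h2] at h1
  have : Fintype (FixedPoints.subfield (Subgroup.zpowers σ) F) := Fintype.ofFinite _
  have h3 := Module.card_eq_pow_finrank (K := FixedPoints.subfield (Subgroup.zpowers σ) F) (V := F)
  rw [h1, hF] at h3
  rw [Nat.card_eq_fintype_card]
  exact (Nat.pow_left_injective hr.ne_zero h3).symm

theorem mem_fixed_iff (σ : F ≃+* F) (x : F) :
    x ∈ FixedPoints.subfield (Subgroup.zpowers σ) F ↔ σ x = x := by
  constructor
  · intro h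
    exact h ⟨σ, Subgroup.mem_zpowers σ⟩
  · intro h g
    obtain ⟨g, k, rfl⟩ := g
    show (σ ^ k) • x = x
    induction k with
    | zero => simp
    | succ i ih =>
      rw [_root_.zpow_add, _root_.zpow_one, mul_smul]
      show (σ ^ (i : ℤ)) • (σ x) = x
      rw [h]; exact ih
    | pred i ih =>
      rw [_root_.zpow_sub, _root_.zpow_one, mul_smul]
      have : σ⁻¹ • x = x := by
        show σ.symm x = x
        rw [RingEquiv.symm_apply_eq, h]
      rw [this]; exact ih

end

end Cfsg.Agent.Lib.Helper16
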