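import Mathlib
import Cfsg.Prelude.Def_LieTypeDatum
import Cfsg.Prelude.Def_KGroupFacts
import Cfsg.Agent.Lib.Helper16.AP20
import Cfsg.Agent.Lib.Helper16.SC3
import Cfsg.Agent.Lib.Helper16.SemiFixed

set_option autoImplicit false
set_option linter.unusedSectionVars false
set_option linter.unusedVariables false

namespace Cfsg.Agent.Lib.Helper16.AF

open Matrix Cfsg.Agent.Lib.Helper16.PG Cfsg.Agent.Lib.Helper16.AP

universe u

section
variable {n : ℕ} {F : Type u} [Field F] [Fintype F]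

/-- the matrices commuting with a field automorphism modulo scalars. -/
theorem mem_comap_centralizer_fieldL (hn : 1 ≤ n) (σ : F ≃+* F) (F₀ : Subfield F) (hF₀ : ∀ x, x ∈ F₀ ↔ σ x = x)
    (g : GL (Fin n) F) :
    g ∈ (Subgroup.centralizer {fieldL n σ}).comap (Phi n F) ↔ g ∈ (psiHom F₀ n).range := by
  rw [Subgroup.mem_comap, Subgroup.mem_centralizer_iff, psiHom_range σ F₀ hF₀ hn]
  constructor
  · intro h
    have h1 := h _ (Set.mem_singleton _)
    rw [fieldL_Phi, mul_left_inj] at h1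
    obtain ⟨c, hc⟩ := (Phi_eq_iff _ _).mp h1
    refine ⟨c, c.ne_zero, ?_⟩
    have h2 := congrArg (fun x : GL (Fin n) F => (x : Matrix (Fin n) (Fin n) F)) hc
    simp only [Units.val_mul, scalGL_val, Cfsg.Agent.Lib.Helper16.PU.mapGL_val] at h2
    rw [h2, Matrix.mul_smul, Matrix.mul_one]
  · rintro ⟨c, hc, hg⟩ y hy
    rw [Set.mem_singleton_iff] at hy
    subst hy
    rw [fieldL_Phi, mul_left_inj]
    rw [Phi_eq_iff]
    refine ⟨Units.mk0 c hc, ?_⟩
    apply Units.ext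
    rw [Units.val_mul, scalGL_val, Cfsg.Agent.Lib.Helper16.PU.mapGL_val, hg, Matrix.mul_smul, Matrix.mul_one]
    rfl

theorem comap_centralizer_fieldL (hn : 1 ≤ n) (σ : F ≃+* F) (F₀ : Subfield F) (hF₀ : ∀ x, x ∈ F₀ ↔ σ x = x) :
    (Subgroup.centralizer {fieldL n σ}).comap (Phi n F) = (psiHom F₀ n).range := by
  ext g
  exact mem_comap_centralizer_fieldL hn σ F₀ hF₀ g

theorem Inn_le_range_Phi : Cfsg.Inn (ProjectiveSpecialLinearGroup (Fin n) F) ≤ (Phi n F).range := by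
  rintro _ ⟨k, rfl⟩
  induction k using QuotientGroup.induction_on with
  | H s => exact ⟨_, (conj_mk_eq_Phi s).symm⟩

theorem comap_Inn_eq : (Cfsg.Inn (ProjectiveSpecialLinearGroup (Fin n) F)).comap (Phi n F) =
    ((powMonoidHom n : Fˣ →* Fˣ).range).comap (Matrix.GeneralLinearGroup.det : GL (Fin n) F →* Fˣ) := by
  ext g
  rw [Subgroup.mem_comap, Subgroup.mem_comap]
  have h := DOut_eq_one_iff (n := n) (F := F) g
  unfold DOut at h
  rw [MonoidHom.comp_apply, QuotientGroup.mk'_apply, QuotientGroup.eq_one_iff] at h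
  rw [h, MonoidHom.mem_range]
  constructor
  · rintro ⟨c, hc⟩
    exact ⟨c, hc.symm⟩
  · rintro ⟨c, hc⟩
    exact ⟨c, hc.symm⟩

theorem det_psiHom (F₀ : Subfield F) (d : Fˣ) (h : GL (Fin n) F₀) :
    Matrix.GeneralLinearGroup.det (psiHom F₀ n (d, h)) =
      d ^ n * Units.map F₀.subtype.toMonoidHom (Matrix.GeneralLinearGroup.det h) := by
  apply Units.ext
  rw [Matrix.GeneralLinearGroup.val_det_apply, psiHom_val, Matrix.det_smul, Fintype.card_fin, Units.val_mul,
    Units.val_pow_eq_pow_val]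
  congr 1
  rw [← RingHom.mapMatrix_apply, ← RingHom.map_det]
  rfl

/-- the split class count of a field automorphism, as an index in `Fˣ`. -/
theorem splitClassCount_fieldL (hn : 1 ≤ n) (σ : F ≃+* F) (F₀ : Subfield F) (hF₀ : ∀ x, x ∈ F₀ ↔ σ x = x) :
    Cfsg.splitClassCount (Phi n F).range (Cfsg.Inn (ProjectiveSpecialLinearGroup (Fin n) F)) (fieldL n σ) =
      Nat.gcd n (Units.map F₀.subtype.toMonoidHom).range.index := by
  have : Nonempty (Fin n) := ⟨⟨0, by omega⟩⟩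
  rw [SC.splitClassCount_via_hom (Phi n F) (Matrix.GeneralLinearGroup.det : GL (Fin n) F →* Fˣ)
    Matrix.GeneralLinearGroup.det_surjective ((powMonoidHom n : Fˣ →* Fˣ).range) _ Inn_le_range_Phi comap_Inn_eq,
    comap_centralizer_fieldL hn σ F₀ hF₀, ← SC.index_pow_sup]
  congr 1
  apply le_antisymm
  · apply sup_le le_sup_left
    rintro _ ⟨_, ⟨⟨d, h⟩, rfl⟩, rfl⟩
    show Matrix.GeneralLinearGroup.det (psiHom F₀ n (d, h)) ∈ _
    rw [det_psiHom]
    exact Subgroup.mul_mem _ (Subgroup.mem_sup_left ⟨d, rfl⟩) (Subgroup.mem_sup_right ⟨_, rfl⟩)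
  · apply sup_le le_sup_left
    rintro _ ⟨u, rfl⟩
    obtain ⟨h, hh⟩ := Matrix.GeneralLinearGroup.det_surjective (n := Fin n) (R := F₀) u
    apply Subgroup.mem_sup_right
    refine ⟨psiHom F₀ n (1, h), ⟨(1, h), rfl⟩, ?_⟩
    show Matrix.GeneralLinearGroup.det (psiHom F₀ n (1, h)) = _
    rw [det_psiHom, one_pow, one_mul, hh]

end

end Cfsg.Agent.Lib.Helper16.AF
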