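import Mathlib
import Cfsg.Prelude.Def_LieTypeDatum
import Cfsg.Prelude.Def_KGroupFacts
import Cfsg.Agent.Lib.Helper16.AF1

set_option autoImplicit false
set_option linter.unusedSectionVars false
set_option linter.unusedVariables false

namespace Cfsg.Agent.Lib.Helper16.AF

open Matrix Cfsg.Agent.Lib.Helper16.PG Cfsg.Agent.Lib.Helper16.AP

universe u v

section
variable {n : ℕ}

/-- `PGL_n` of isomorphic rings. -/
noncomputable def pglCongr {R : Type u} {S : Type v} [CommRing R] [CommRing S] (e : R ≃+* S) :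
    Matrix.ProjGenLinGroup (Fin n) R ≃* Matrix.ProjGenLinGroup (Fin n) S where
  toFun := Matrix.ProjGenLinGroup.map e.toRingHom
  invFun := Matrix.ProjGenLinGroup.map e.symm.toRingHom
  left_inv x := by
    rw [← MonoidHom.comp_apply, ← Matrix.ProjGenLinGroup.map_comp, RingEquiv.symm_toRingHom_comp_toRingHom,
      Matrix.ProjGenLinGroup.map_id, MonoidHom.id_apply]
  right_inv x := by
    rw [← MonoidHom.comp_apply, ← Matrix.ProjGenLinGroup.map_comp, RingEquiv.toRingHom_comp_symm_toRingHom,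
      Matrix.ProjGenLinGroup.map_id, MonoidHom.id_apply]
  map_mul' := map_mul _

end

section
variable {n : ℕ} {F : Type u} [Field F] [Fintype F]

/-- the embedding of `GL_n` of a subfield, followed by `Phi`. -/
noncomputable def LamHom (n : ℕ) (F₀ : Subfield F) : GL (Fin n) F₀ →* MulAut (ProjectiveSpecialLinearGroup (Fin n) F) :=
  (Phi n F).comp (Matrix.GeneralLinearGroup.map F₀.subtype)

theorem Phi_scalar (d : Fˣ) : Phi n F (Matrix.GeneralLinearGroup.scalar (Fin n) d) = 1 := Phi_scalGL d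

theorem Phi_psiHom (F₀ : Subfield F) (d : Fˣ) (h : GL (Fin n) F₀) :
    Phi n F (psiHom F₀ n (d, h)) = LamHom n F₀ h := by
  unfold psiHom LamHom
  rw [MonoidHom.noncommCoprod_apply, map_mul, Phi_scalar, one_mul]
  rfl

theorem LamHom_range (hn : 1 ≤ n) (σ : F ≃+* F) (F₀ : Subfield F) (hF₀ : ∀ x, x ∈ F₀ ↔ σ x = x) :
    (LamHom n F₀).range = (Phi n F).range ⊓ Subgroup.centralizer {fieldL n σ} := by
  rw [← Subgroup.map_comap_eq, comap_centralizer_fieldL hn σ F₀ hF₀, MonoidHom.map_range]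
  ext y
  constructor
  · rintro ⟨h, rfl⟩
    exact ⟨(1, h), Phi_psiHom F₀ 1 h⟩
  · rintro ⟨⟨d, h⟩, rfl⟩
    exact ⟨h, (Phi_psiHom F₀ d h).symm⟩

theorem LamHom_ker (hn : 1 ≤ n) (F₀ : Subfield F) :
    (LamHom n F₀).ker = Subgroup.center (GL (Fin n) F₀) := by
  ext h
  rw [MonoidHom.mem_ker, Matrix.GeneralLinearGroup.center_eq_range_scalar]
  unfold LamHom
  rw [MonoidHom.comp_apply, Phi_eq_one_iff, Cfsg.Geo.mem_scalars_iff]
  constructor
  · rintro ⟨c, hc⟩
    have hent : ∀ i j, (((h : Matrix (Fin n) (Fin n) F₀) i j : F₀) : F) = if i = j then (c : F) else 0 := by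
      intro i j
      have := congrFun (congrFun hc i) j
      simpa [Matrix.one_apply, Matrix.GeneralLinearGroup.map] using this
    let i₀ : Fin n := ⟨0, by omega⟩
    have hc0 : (c : F) ∈ F₀ := by
      have := hent i₀ i₀
      rw [if_pos rfl] at this
      rw [← this]
      exact ((h : Matrix (Fin n) (Fin n) F₀) i₀ i₀).2
    have hcne : (⟨(c : F), hc0⟩ : F₀) ≠ 0 := by
      intro h0
      exact c.ne_zero (congrArg Subtype.val h0)
    refine ⟨Units.mk0 ⟨(c : F), hc0⟩ hcne, ?_⟩
    apply Units.ext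
    ext i j
    rw [hent i j]
    simp only [Matrix.GeneralLinearGroup.coe_scalar, Units.val_mk0, Matrix.scalar_apply, Matrix.diagonal_apply]
    by_cases hij : i = j
    · rw [if_pos hij, if_pos hij]
    · rw [if_neg hij, if_neg hij]; rfl
  · rintro ⟨u, rfl⟩
    refine ⟨Units.map F₀.subtype.toMonoidHom u, ?_⟩
    ext i j
    simp [Matrix.GeneralLinearGroup.map, Matrix.one_apply, Matrix.diagonal_apply]
    by_cases hij : i = j
    · simp [hij]
    · simp [hij]

/-- the centraliser of a field automorphism in `Inndiag` is `PGL_n` of the fixed field. -/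
noncomputable def centFieldEquiv (hn : 1 ≤ n) (σ : F ≃+* F) (F₀ : Subfield F) (hF₀ : ∀ x, x ∈ F₀ ↔ σ x = x) :
    ↥((Phi n F).range ⊓ Subgroup.centralizer {fieldL n σ}) ≃* Matrix.ProjGenLinGroup (Fin n) F₀ :=
  ((MulEquiv.subgroupCongr (LamHom_range hn σ F₀ hF₀).symm).trans
    (QuotientGroup.quotientKerEquivRange (LamHom n F₀)).symm).trans
    (QuotientGroup.quotientMulEquivOfEq (LamHom_ker hn F₀))

end

end Cfsg.Agent.Lib.Helper16.AF
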