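import Mathlib
import Cfsg.Prelude.Def_LieTypeDatum
import Cfsg.Prelude.Def_KGroupFacts
import Cfsg.Agent.Lib.Helper16.AF2

set_option autoImplicit false
set_option linter.unusedSectionVars false
set_option linter.unusedVariables false

namespace Cfsg.Agent.Lib.Helper16.AF

open Matrix Cfsg.Agent.Lib.Helper16.PG Cfsg.Agent.Lib.Helper16.AP

universe u v

section
variable {n : ℕ} {F : Type u} [Field F] [Fintype F]

theorem fieldLHom_injective (hn : 2 ≤ n) : Function.Injective (fieldLHom n F) := by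
  rw [injective_iff_map_eq_one]
  intro τ hτ
  apply RingEquiv.ext
  intro t
  apply fieldL_eq_Phi hn τ 1
  rw [map_one]
  exact hτ

theorem orderOf_fieldL (hn : 2 ≤ n) (σ : F ≃+* F) : orderOf (fieldL n σ) = orderOf (σ : RingAut F) :=
  orderOf_injective (fieldLHom n F) (fieldLHom_injective hn) σ

theorem orderOf_conj_eq {X : Type*} [Group X] (α x : X) : orderOf (α * x * α⁻¹) = orderOf x := by
  have := (MulAut.conj α).orderOf_eq x
  rwa [MulAut.conj_apply] at this

/-- the index of the units of a subfield. -/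
theorem index_units_subfield (F₀ : Subfield F) :
    (Units.map F₀.subtype.toMonoidHom).range.index = (Fintype.card F - 1) / (Nat.card F₀ - 1) := by
  have hinj : Function.Injective (Units.map F₀.subtype.toMonoidHom) := by
    apply Units.map_injective
    exact F₀.subtype_injective
  have h1 : Nat.card (Units.map F₀.subtype.toMonoidHom).range = Nat.card (↥F₀)ˣ :=
    (Nat.card_congr (MonoidHom.ofInjective hinj).toEquiv).symm
  have h2 := Subgroup.card_mul_index (Units.map F₀.subtype.toMonoidHom).range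
  rw [h1, Nat.card_units, Nat.card_units, Nat.card_eq_fintype_card (α := F)] at h2
  have hpos : 0 < Nat.card F₀ - 1 := by
    have : 1 < Nat.card F₀ := Finite.one_lt_card
    omega
  rw [← h2, Nat.mul_div_cancel_left _ hpos]

end

section
variable {n : ℕ} {F : Type u} [Field F] [Fintype F] {p f : ℕ} [Fact p.Prime]

theorem S2698_aux (hF : Fintype.card F = p ^ f) (hf : 1 ≤ f) (hn : 2 ≤ n)
    (x : MulAut (Matrix.ProjectiveSpecialLinearGroup (Fin n) F)) (hx : Cfsg.IsFieldAutClassPSL x) {r : ℕ}
    (hr : r.Prime) (hxr : orderOf x = r) (F₀ : Type v) [Field F₀] [Fintype F₀]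
    (hF₀ : Fintype.card F₀ = p ^ (f / r)) :
    r ∣ f ∧ Nonempty (↥(Cfsg.inndiagPSL n F ⊓ Subgroup.centralizer {x}) ≃* Matrix.ProjGenLinGroup (Fin n) F₀) ∧
      Cfsg.splitClassCount (Cfsg.inndiagPSL n F) (Cfsg.Inn (Matrix.ProjectiveSpecialLinearGroup (Fin n) F)) x =
        Nat.gcd n ((p ^ f - 1) / (p ^ (f / r) - 1)) := by
  obtain ⟨α, σ, hσ, hstd⟩ := hx
  have hx₀ : α * x * α⁻¹ = fieldL n σ := (isStdField_iff σ _).mp hstd
  have hN : ((Phi n F).range).Normal := Phi_range_normal hn
  have hord : orderOf (σ : RingAut F) = r := by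
    rw [← orderOf_fieldL hn, ← hx₀, orderOf_conj_eq, hxr]
  obtain ⟨-, hcard⟩ := galF_cyclic_card hF
  have hrf : r ∣ f := by
    have := orderOf_dvd_natCard (σ : RingAut F)
    rwa [hord, hcard] at this
  refine ⟨hrf, ?_, ?_⟩
  all_goals
    set F₀' : Subfield F := FixedPoints.subfield (Subgroup.zpowers σ) F with hF₀'def
    have hmem : ∀ y, y ∈ F₀' ↔ σ y = y := fun y => Cfsg.Agent.Lib.Helper16.mem_fixed_iff σ y
    have hF' : Fintype.card F = (p ^ (f / r)) ^ r := by
      rw [hF, ← pow_mul, Nat.div_mul_cancel hrf]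
    have hcard' : Nat.card F₀' = p ^ (f / r) := Cfsg.Agent.Lib.Helper16.fixed_card hr hF' σ hord
  · have : Fintype F₀' := Fintype.ofFinite _
    have hcc : Fintype.card F₀' = Fintype.card F₀ := by
      rw [← Nat.card_eq_fintype_card, hcard', hF₀]
    have e₀ : F₀' ≃+* F₀ := FiniteField.ringEquivOfCardEq hcc
    rw [inndiag_eq_range]
    have e₁ := SC.centralizerConjEquiv (Phi n F).range α x
    rw [hx₀] at e₁
    exact ⟨(e₁.trans (centFieldEquiv (by omega) σ F₀' hmem)).trans (pglCongr e₀)⟩
  · rw [inndiag_eq_range, ← SC.splitClassCount_conj _ _ Inn_le_range_Phi α x, hx₀,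
      splitClassCount_fieldL (by omega) σ F₀' hmem, index_units_subfield, hcard', hF]

end

end Cfsg.Agent.Lib.Helper16.AF
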