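import Mathlib
import Cfsg.Prelude.Def_LieTypeDatum
import Cfsg.Agent.Lib.Helper16.PU6

set_option autoImplicit false
set_option linter.unusedSectionVars false
set_option linter.unusedVariables false

namespace Cfsg.Agent.Lib.Helper16.PU

open Matrix Cfsg.Agent.Lib.Helper16.PG

universe u w

section
variable {n : ℕ} {F : Type u} [Field F] {q : ℕ} {F₀ : Type w} [Field F₀] [Algebra F₀ F]

theorem bar_algebraMap [Fintype F₀] (hF₀ : Fintype.card F₀ = q) (σ : F ≃+* F) (hσ : ∀ a, σ a = a ^ q)
    (x : F₀) : σ (algebraMap F₀ F x) = algebraMap F₀ F x := by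
  rw [hσ, ← map_pow, ← hF₀, FiniteField.pow_card]

theorem mem_range_of_fixed [Fintype F] [Fintype F₀] (hF : Fintype.card F = q ^ 2) (hF₀ : Fintype.card F₀ = q)
    (σ : F ≃+* F) (hσ : ∀ a, σ a = a ^ q) (y : F) (hy : σ y = y) : ∃ x : F₀, algebraMap F₀ F x = y := by
  classical
  have hq2 := q_ge_two' hF
  set S : Finset F := Finset.univ.filter (fun y => y ^ q = y) with hS
  set I : Finset F := Finset.univ.image (algebraMap F₀ F) with hI
  have hIS : I ⊆ S := by
    intro z hz
    rw [hI, Finset.mem_image] at hz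
    obtain ⟨x, -, rfl⟩ := hz
    rw [hS, Finset.mem_filter]
    refine ⟨Finset.mem_univ _, ?_⟩
    rw [← hσ]
    exact bar_algebraMap hF₀ σ hσ x
  have hIcard : I.card = q := by
    rw [hI, Finset.card_image_of_injective _ (algebraMap F₀ F).injective, Finset.card_univ, hF₀]
  have hScard : S.card ≤ q := by
    have hne := FiniteField.X_pow_card_sub_X_ne_zero F (p := q) (by omega)
    have hsub : S ⊆ (Polynomial.X ^ q - Polynomial.X : Polynomial F).roots.toFinset := by
      intro z hz
      rw [hS, Finset.mem_filter] at hz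
      rw [Multiset.mem_toFinset, Polynomial.mem_roots hne, Polynomial.IsRoot, Polynomial.eval_sub,
        Polynomial.eval_pow, Polynomial.eval_X, hz.2, sub_self]
    calc S.card ≤ (Polynomial.X ^ q - Polynomial.X : Polynomial F).roots.toFinset.card := Finset.card_le_card hsub
      _ ≤ (Polynomial.X ^ q - Polynomial.X : Polynomial F).roots.card := Multiset.toFinset_card_le _
      _ ≤ (Polynomial.X ^ q - Polynomial.X : Polynomial F).natDegree := Polynomial.card_roots' _
      _ = q := FiniteField.X_pow_card_sub_X_natDegree_eq F (by omega)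
  have hEq : I = S := Finset.eq_of_subset_of_card_le hIS (by rw [hIcard]; exact hScard)
  have hyS : y ∈ S := by
    rw [hS, Finset.mem_filter]
    exact ⟨Finset.mem_univ _, by rw [← hσ]; exact hy⟩
  rw [← hEq, hI, Finset.mem_image] at hyS
  obtain ⟨x, -, hx⟩ := hyS
  exact ⟨x, hx⟩

theorem exists_norm [Fintype F] [Fintype F₀] (hF : Fintype.card F = q ^ 2) (hF₀ : Fintype.card F₀ = q)
    (σ : F ≃+* F) (hσ : ∀ a, σ a = a ^ q) (c : F₀) (hc : c ≠ 0) :
    ∃ ν : F, ν ≠ 0 ∧ ν * σ ν = algebraMap F₀ F c := by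
  have hq2 := q_ge_two' hF
  have hc' : algebraMap F₀ F c ≠ 0 := by
    rw [Ne, map_eq_zero]; exact hc
  have h1 : (Units.mk0 (algebraMap F₀ F c) hc') ^ (q - 1) = 1 := by
    apply Units.ext
    rw [Units.val_pow_eq_pow_val, Units.val_one, Units.val_mk0]
    have h3 : (algebraMap F₀ F c) ^ q = algebraMap F₀ F c := by
      rw [← hσ]; exact bar_algebraMap hF₀ σ hσ c
    have h4 : (algebraMap F₀ F c) ^ (q - 1) * algebraMap F₀ F c = algebraMap F₀ F c := by
      rw [← pow_succ, Nat.sub_add_cancel (by omega), h3]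
    have h5 : ((algebraMap F₀ F c) ^ (q - 1) - 1) * algebraMap F₀ F c = 0 := by
      rw [sub_mul, h4, one_mul, sub_self]
    rcases mul_eq_zero.mp h5 with h | h
    · exact sub_eq_zero.mp h
    · exact absurd h hc'
  obtain ⟨μ, hμ⟩ := Cfsg.Agent.Lib.Helper16.norm_surj hF _ h1
  refine ⟨(μ : F), μ.ne_zero, ?_⟩
  rw [hσ, ← pow_succ', ← Units.val_pow_eq_pow_val, hμ, Units.val_mk0]

/-- a matrix which the involution multiplies by a scalar is a scalar multiple of a matrix over `F₀`. -/
theorem semifixed_descend [Fintype F] [Fintype F₀] (hF : Fintype.card F = q ^ 2) (hF₀ : Fintype.card F₀ = q)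
    (σ : F ≃+* F) (hσ : ∀ a, σ a = a ^ q) (Y : GL (Fin n) F) (c : F)
    (hY : (Y : Matrix (Fin n) (Fin n) F).map ⇑σ = c • (Y : Matrix (Fin n) (Fin n) F)) :
    ∃ (d : Fˣ) (y : GL (Fin n) F₀), (Y : Matrix (Fin n) (Fin n) F) =
      (d : F) • (y : Matrix (Fin n) (Fin n) F₀).map (algebraMap F₀ F) := by
  by_cases hn : n = 0
  · subst hn
    exact ⟨1, 1, Subsingleton.elim _ _⟩
  have hne : ∃ i j, (Y : Matrix (Fin n) (Fin n) F) i j ≠ 0 := by
    by_contra hcon
    push Not at hcon
    have : (Y : Matrix (Fin n) (Fin n) F) = 0 := by ext i j; exact hcon i j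
    have hdet := Matrix.GeneralLinearGroup.det_ne_zero Y
    rw [this] at hdet
    have : Nonempty (Fin n) := ⟨⟨0, Nat.pos_of_ne_zero hn⟩⟩
    exact hdet Matrix.det_zero
  obtain ⟨i₀, j₀, he⟩ := hne
  set e := (Y : Matrix (Fin n) (Fin n) F) i₀ j₀ with hedef
  have hσe : σ e = c * e := by
    have := congrFun (congrFun hY i₀) j₀
    simpa using this
  have hfix : ∀ i j, σ (e⁻¹ * (Y : Matrix (Fin n) (Fin n) F) i j) = e⁻¹ * (Y : Matrix (Fin n) (Fin n) F) i j := by
    intro i j
    rw [map_mul, map_inv₀, hσe]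
    have := congrFun (congrFun hY i) j
    simp only [Matrix.map_apply, Matrix.smul_apply, smul_eq_mul] at this
    rw [this]
    have hc0 : c ≠ 0 := by
      rintro rfl
      rw [zero_mul] at hσe
      exact he ((map_eq_zero σ).mp hσe)
    field_simp
  choose H hH using fun i j => mem_range_of_fixed hF hF₀ σ hσ _ (hfix i j)
  have hHmap : (Matrix.of H).map (algebraMap F₀ F) = e⁻¹ • (Y : Matrix (Fin n) (Fin n) F) := by
    ext i j
    rw [Matrix.map_apply, Matrix.of_apply, hH, Matrix.smul_apply, smul_eq_mul]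
  have hHdet : (Matrix.of H).det ≠ 0 := by
    intro h0
    have h1 : ((Matrix.of H).map (algebraMap F₀ F)).det = 0 := by
      rw [← RingHom.mapMatrix_apply, ← RingHom.map_det, h0, map_zero]
    rw [hHmap, Matrix.det_smul] at h1
    rcases mul_eq_zero.mp h1 with h2 | h2
    · exact (pow_ne_zero _ (inv_ne_zero he)) h2
    · exact Matrix.GeneralLinearGroup.det_ne_zero Y h2
  refine ⟨Units.mk0 e he, Matrix.GeneralLinearGroup.mkOfDetNeZero (Matrix.of H) hHdet, ?_⟩
  show _ = e • (Matrix.of H).map (algebraMap F₀ F)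
  rw [hHmap, smul_smul, mul_inv_cancel₀ he, one_smul]

end

end Cfsg.Agent.Lib.Helper16.PU
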