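import Mathlib
import Cfsg.Prelude.Def_LieTypeDatum
import Cfsg.Agent.Lib.Helper16.PU7
import Cfsg.Agent.Lib.Helper16.PG4

set_option autoImplicit false
set_option linter.unusedSectionVars false
set_option linter.unusedVariables false

namespace Cfsg.Agent.Lib.Helper16.PU

open Matrix Cfsg.Agent.Lib.Helper16.PG

universe u w

section
variable {n : ℕ} {F : Type u} [Field F] {q : ℕ} {F₀ : Type w} [Field F₀] [Algebra F₀ F]

/-- base change of matrices from `F₀` to `F`. -/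
noncomputable def mapI (n : ℕ) (F₀ : Type w) (F : Type u) [Field F₀] [Field F] [Algebra F₀ F] :
    GL (Fin n) F₀ →* GL (Fin n) F :=
  Matrix.GeneralLinearGroup.map (algebraMap F₀ F)

theorem mapI_val (y : GL (Fin n) F₀) :
    ((mapI n F₀ F y : GL (Fin n) F) : Matrix (Fin n) (Fin n) F) =
      (y : Matrix (Fin n) (Fin n) F₀).map (algebraMap F₀ F) := rfl

theorem mapI_bar [Fintype F₀] (hF₀ : Fintype.card F₀ = q) (σ : F ≃+* F) (hσ : ∀ a, σ a = a ^ q)
    (M : Matrix (Fin n) (Fin n) F₀) : (M.map (algebraMap F₀ F)).map ⇑σ = M.map (algebraMap F₀ F) := by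
  ext i j
  rw [Matrix.map_apply, Matrix.map_apply, bar_algebraMap hF₀ σ hσ]

/-- conjugation by `k` of the base change. -/
noncomputable def conjK (k : GL (Fin n) F) : GL (Fin n) F₀ →* GL (Fin n) F :=
  (MulAut.conj k).toMonoidHom.comp (mapI n F₀ F)

theorem conjK_apply (k : GL (Fin n) F) (y : GL (Fin n) F₀) : conjK k y = k * mapI n F₀ F y * k⁻¹ := rfl

theorem map_inv_mul (σ : F ≃+* F) (k : GL (Fin n) F) :
    ((k⁻¹ : GL (Fin n) F) : Matrix (Fin n) (Fin n) F).map ⇑σ * (k : Matrix (Fin n) (Fin n) F).map ⇑σ = 1 := by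
  rw [← Matrix.map_mul, gl_inv_mul]
  ext i j
  rw [Matrix.map_apply, Matrix.one_apply]
  split_ifs
  · exact map_one σ
  · exact map_zero σ

theorem map_mul_inv (σ : F ≃+* F) (k : GL (Fin n) F) :
    (k : Matrix (Fin n) (Fin n) F).map ⇑σ * ((k⁻¹ : GL (Fin n) F) : Matrix (Fin n) (Fin n) F).map ⇑σ = 1 := by
  rw [← Matrix.map_mul, gl_mul_inv]
  ext i j
  rw [Matrix.map_apply, Matrix.one_apply]
  split_ifs
  · exact map_one σ
  · exact map_zero σ

/-- L1: the conjugated base change of a similitude of the `F₀`-form is a Hermitian similitude. -/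
theorem conjK_mem_simU [Fintype F₀] (hF₀ : Fintype.card F₀ = q) (σ : F ≃+* F) (hσ : ∀ a, σ a = a ^ q)
    (k : GL (Fin n) F) (M₀ : Matrix (Fin n) (Fin n) F₀) (e : F) (he : e ≠ 0)
    (hM : (k : Matrix (Fin n) (Fin n) F)ᵀ * (k : Matrix (Fin n) (Fin n) F).map ⇑σ =
      e • M₀.map (algebraMap F₀ F))
    (y : GL (Fin n) F₀) (hy : y ∈ Cfsg.Geo.similarityGroup (bilM M₀)) :
    conjK k y ∈ simU n F q := by
  rw [mem_simM_iff] at hy
  obtain ⟨c₀, hc₀⟩ := hy
  rw [mem_simU_iff_mat σ hσ]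
  refine ⟨Units.map (algebraMap F₀ F : F₀ →* F) c₀, ?_⟩
  set K := (k : Matrix (Fin n) (Fin n) F) with hK
  set Ki := ((k⁻¹ : GL (Fin n) F) : Matrix (Fin n) (Fin n) F) with hKi
  set Yt := (y : Matrix (Fin n) (Fin n) F₀).map (algebraMap F₀ F) with hYt
  set Mt := M₀.map (algebraMap F₀ F) with hMt
  have h1 : Ytᵀ * Mt * Yt = (algebraMap F₀ F (c₀ : F₀)) • Mt := by
    have := congrArg (fun M : Matrix (Fin n) (Fin n) F₀ => M.map (algebraMap F₀ F)) hc₀
    simp only [Matrix.map_mul, Matrix.transpose_map] at this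
    rw [hYt, hMt, this]
    ext i j
    simp
  have hval : ((conjK k y : GL (Fin n) F) : Matrix (Fin n) (Fin n) F) = K * Yt * Ki := by
    rw [conjK_apply, Units.val_mul, Units.val_mul, mapI_val]
  rw [hval, Matrix.map_mul, Matrix.map_mul, mapI_bar hF₀ σ hσ, Matrix.transpose_mul, Matrix.transpose_mul]
  have h2 : Kiᵀ * Kᵀ = 1 := by rw [← Matrix.transpose_mul, gl_mul_inv, Matrix.transpose_one]
  calc Kiᵀ * (Ytᵀ * Kᵀ) * (K.map ⇑σ * Yt * Ki.map ⇑σ)
      = Kiᵀ * (Ytᵀ * (Kᵀ * K.map ⇑σ) * Yt) * Ki.map ⇑σ := by simp only [Matrix.mul_assoc]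
    _ = Kiᵀ * (e • (Ytᵀ * Mt * Yt)) * Ki.map ⇑σ := by
        rw [hM, Matrix.mul_smul, Matrix.smul_mul]
    _ = (algebraMap F₀ F (c₀ : F₀)) • (Kiᵀ * (e • Mt) * Ki.map ⇑σ) := by
        rw [h1]
        simp only [Matrix.mul_smul, Matrix.smul_mul, smul_smul, mul_comm]
    _ = (algebraMap F₀ F (c₀ : F₀)) • (Kiᵀ * (Kᵀ * K.map ⇑σ) * Ki.map ⇑σ) := by rw [hM]
    _ = (algebraMap F₀ F (c₀ : F₀)) • 1 := by
        rw [← Matrix.mul_assoc, h2, Matrix.one_mul, map_mul_inv]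
    _ = _ := rfl

end

end Cfsg.Agent.Lib.Helper16.PU
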