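import Mathlib
import Cfsg.Prelude.Def_LieTypeDatum
import Cfsg.Agent.Lib.Helper16.PU8

set_option autoImplicit false
set_option linter.unusedSectionVars false
set_option linter.unusedVariables false

namespace Cfsg.Agent.Lib.Helper16.PU

open Matrix Cfsg.Agent.Lib.Helper16.PG

universe u w

section
variable {n : ℕ} {F : Type u} [Field F] {q : ℕ} {F₀ : Type w} [Field F₀] [Algebra F₀ F]

/-- the image of `X` under the involution, as a Hermitian similitude. -/
noncomputable def barS (σ : F ≃+* F) (X : ↥(simU n F q)) : ↥(simU n F q) :=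
  ⟨mapGL n σ X.1, mapGL_mem_simU σ X.1 X.2⟩

theorem barS_val (σ : F ≃+* F) (X : ↥(simU n F q)) :
    ((barS σ X).1 : Matrix (Fin n) (Fin n) F) = (X.1 : Matrix (Fin n) (Fin n) F).map ⇑σ := rfl

theorem PhiU_eq_iff [Fintype F] (hF : Fintype.card F = q ^ 2) (hn : 3 ≤ n) (A B : ↥(simU n F q)) :
    PhiU n F q A = PhiU n F q B ↔
      ∃ c : Fˣ, (A.1 : Matrix (Fin n) (Fin n) F) = (c : F) • (B.1 : Matrix (Fin n) (Fin n) F) := by
  have h3 : PhiU n F q A = PhiU n F q B ↔ PhiU n F q (B⁻¹ * A) = 1 := by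
    rw [map_mul, map_inv, inv_mul_eq_one, eq_comm]
  rw [h3, PhiU_eq_one_iff hF hn, Cfsg.Geo.mem_scalars_iff]
  constructor
  · rintro ⟨c, hc⟩
    refine ⟨c, ?_⟩
    have h4 : ((B⁻¹ * A : ↥(simU n F q)).1 : Matrix (Fin n) (Fin n) F) =
        ((B.1⁻¹ : GL (Fin n) F) : Matrix (Fin n) (Fin n) F) * (A.1 : Matrix (Fin n) (Fin n) F) := rfl
    rw [h4] at hc
    have h5 : (B.1 : Matrix (Fin n) (Fin n) F) * (((B.1⁻¹ : GL (Fin n) F) : Matrix (Fin n) (Fin n) F) *
        (A.1 : Matrix (Fin n) (Fin n) F)) = (B.1 : Matrix (Fin n) (Fin n) F) * ((c : F) • 1) := by rw [hc]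
    rw [← Matrix.mul_assoc, gl_mul_inv, Matrix.one_mul, Matrix.mul_smul, Matrix.mul_one] at h5
    exact h5
  · rintro ⟨c, hc⟩
    refine ⟨c, ?_⟩
    have h4 : ((B⁻¹ * A : ↥(simU n F q)).1 : Matrix (Fin n) (Fin n) F) =
        ((B.1⁻¹ : GL (Fin n) F) : Matrix (Fin n) (Fin n) F) * (A.1 : Matrix (Fin n) (Fin n) F) := rfl
    rw [h4, hc, Matrix.mul_smul, gl_inv_mul]

/-- L2: commutation with a graph automorphism. -/
theorem comm_graphU_iff [Fintype F] (hF : Fintype.card F = q ^ 2) (hn : 3 ≤ n) (σ : F ≃+* F)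
    (X Y : ↥(simU n F q)) :
    PhiU n F q Y * (PhiU n F q X * fieldU n q σ) = (PhiU n F q X * fieldU n q σ) * PhiU n F q Y ↔
      ∃ c : Fˣ, (Y.1 : Matrix (Fin n) (Fin n) F) * (X.1 : Matrix (Fin n) (Fin n) F) =
        (c : F) • ((X.1 : Matrix (Fin n) (Fin n) F) * (Y.1 : Matrix (Fin n) (Fin n) F).map ⇑σ) := by
  have h1 : (PhiU n F q X * fieldU n q σ) * PhiU n F q Y = PhiU n F q (X * barS σ Y) * fieldU n q σ := by
    rw [mul_assoc, field_conj, ← mul_assoc, ← map_mul]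
    rfl
  have h2 : PhiU n F q Y * (PhiU n F q X * fieldU n q σ) = PhiU n F q (Y * X) * fieldU n q σ := by
    rw [← mul_assoc, ← map_mul]
  rw [h1, h2, mul_left_inj, PhiU_eq_iff hF hn]
  rfl

theorem X_eq_of_hk (σ : F ≃+* F) (X k : GL (Fin n) F)
    (hk : (X : Matrix (Fin n) (Fin n) F) * (k : Matrix (Fin n) (Fin n) F).map ⇑σ = k) :
    (X : Matrix (Fin n) (Fin n) F) = (k : Matrix (Fin n) (Fin n) F) *
      ((k⁻¹ : GL (Fin n) F) : Matrix (Fin n) (Fin n) F).map ⇑σ := by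
  rw [← hk, Matrix.mul_assoc, map_mul_inv, Matrix.mul_one]

/-- L3: conjugated base changes commute with the graph automorphism. -/
theorem conjK_comm [Fintype F₀] (hF₀ : Fintype.card F₀ = q) (σ : F ≃+* F) (hσ : ∀ a, σ a = a ^ q)
    (X k : GL (Fin n) F)
    (hk : (X : Matrix (Fin n) (Fin n) F) * (k : Matrix (Fin n) (Fin n) F).map ⇑σ = k) (y : GL (Fin n) F₀) :
    ((conjK k y : GL (Fin n) F) : Matrix (Fin n) (Fin n) F) * (X : Matrix (Fin n) (Fin n) F) =
      (X : Matrix (Fin n) (Fin n) F) * ((conjK k y : GL (Fin n) F) : Matrix (Fin n) (Fin n) F).map ⇑σ := by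
  have hval : ((conjK k y : GL (Fin n) F) : Matrix (Fin n) (Fin n) F) =
      (k : Matrix (Fin n) (Fin n) F) * (y : Matrix (Fin n) (Fin n) F₀).map (algebraMap F₀ F) *
        ((k⁻¹ : GL (Fin n) F) : Matrix (Fin n) (Fin n) F) := by
    rw [conjK_apply, Units.val_mul, Units.val_mul, mapI_val]
  rw [hval, Matrix.map_mul, Matrix.map_mul, mapI_bar hF₀ σ hσ, X_eq_of_hk σ X k hk]
  set K := (k : Matrix (Fin n) (Fin n) F)
  set Ki := ((k⁻¹ : GL (Fin n) F) : Matrix (Fin n) (Fin n) F)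
  set Yt := (y : Matrix (Fin n) (Fin n) F₀).map (algebraMap F₀ F)
  calc K * Yt * Ki * (K * Ki.map ⇑σ) = K * Yt * (Ki * K) * Ki.map ⇑σ := by simp only [Matrix.mul_assoc]
    _ = K * (Ki.map ⇑σ * K.map ⇑σ) * Yt * Ki.map ⇑σ := by
        rw [gl_inv_mul, map_inv_mul, Matrix.mul_one, Matrix.mul_one]
    _ = _ := by simp only [Matrix.mul_assoc]

/-- L5: the conjugated base change is scalar exactly for scalar matrices. -/
theorem conjK_scalar_iff (k : GL (Fin n) F) (y : GL (Fin n) F₀) :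
    conjK k y ∈ Cfsg.Geo.scalars (Fin n) F ↔ y ∈ Cfsg.Geo.scalars (Fin n) F₀ := by
  rw [Cfsg.Geo.mem_scalars_iff, Cfsg.Geo.mem_scalars_iff]
  have hval : ((conjK k y : GL (Fin n) F) : Matrix (Fin n) (Fin n) F) =
      (k : Matrix (Fin n) (Fin n) F) * (y : Matrix (Fin n) (Fin n) F₀).map (algebraMap F₀ F) *
        ((k⁻¹ : GL (Fin n) F) : Matrix (Fin n) (Fin n) F) := by
    rw [conjK_apply, Units.val_mul, Units.val_mul, mapI_val]
  constructor
  · rintro ⟨d, hd⟩
    rw [hval] at hd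
    have h1 : (y : Matrix (Fin n) (Fin n) F₀).map (algebraMap F₀ F) = (d : F) • 1 := by
      have h2 : ((k⁻¹ : GL (Fin n) F) : Matrix (Fin n) (Fin n) F) * ((k : Matrix (Fin n) (Fin n) F) *
          (y : Matrix (Fin n) (Fin n) F₀).map (algebraMap F₀ F) *
          ((k⁻¹ : GL (Fin n) F) : Matrix (Fin n) (Fin n) F)) * (k : Matrix (Fin n) (Fin n) F) =
          ((k⁻¹ : GL (Fin n) F) : Matrix (Fin n) (Fin n) F) * ((d : F) • 1) * (k : Matrix (Fin n) (Fin n) F) := by
        rw [hd]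
      rw [Matrix.mul_smul, Matrix.mul_one, Matrix.smul_mul, gl_inv_mul] at h2
      rw [← h2]
      simp only [Matrix.mul_assoc, gl_inv_mul, Matrix.mul_one]
      rw [← Matrix.mul_assoc, gl_inv_mul, Matrix.one_mul]
    by_cases hn : n = 0
    · subst hn
      exact ⟨1, Subsingleton.elim _ _⟩
    set i₀ : Fin n := ⟨0, Nat.pos_of_ne_zero hn⟩
    have hoff : ∀ i j : Fin n, i ≠ j → (y : Matrix (Fin n) (Fin n) F₀) i j = 0 := by
      intro i j hij
      have h3 := congrFun (congrFun h1 i) j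
      rw [Matrix.map_apply, Matrix.smul_apply, Matrix.one_apply, if_neg hij, smul_zero] at h3
      exact (map_eq_zero (algebraMap F₀ F)).mp h3
    have hdiag : ∀ i : Fin n, (y : Matrix (Fin n) (Fin n) F₀) i i = (y : Matrix (Fin n) (Fin n) F₀) i₀ i₀ := by
      intro i
      have h3 := congrFun (congrFun h1 i) i
      have h4 := congrFun (congrFun h1 i₀) i₀
      rw [Matrix.map_apply, Matrix.smul_apply, Matrix.one_apply, if_pos rfl] at h3 h4
      exact (algebraMap F₀ F).injective (h3.trans h4.symm)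
    have hne : (y : Matrix (Fin n) (Fin n) F₀) i₀ i₀ ≠ 0 := by
      intro h0
      have h4 := congrFun (congrFun h1 i₀) i₀
      rw [Matrix.map_apply, Matrix.smul_apply, Matrix.one_apply, if_pos rfl, h0, map_zero, smul_eq_mul,
        mul_one] at h4
      exact d.ne_zero h4.symm
    refine ⟨Units.mk0 _ hne, ?_⟩
    ext i j
    rw [Matrix.smul_apply, Matrix.one_apply, Units.val_mk0, smul_eq_mul]
    by_cases hij : i = j
    · rw [if_pos hij, mul_one, ← hij, hdiag]
    · rw [if_neg hij, mul_zero, hoff i j hij]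
  · rintro ⟨c, hc⟩
    refine ⟨Units.map (algebraMap F₀ F : F₀ →* F) c, ?_⟩
    rw [hval, hc]
    have h1 : ((c : F₀) • (1 : Matrix (Fin n) (Fin n) F₀)).map (algebraMap F₀ F) =
        (algebraMap F₀ F (c : F₀)) • (1 : Matrix (Fin n) (Fin n) F) := by
      ext i j
      rw [Matrix.map_apply, Matrix.smul_apply, Matrix.smul_apply, Matrix.one_apply, Matrix.one_apply,
        smul_eq_mul, smul_eq_mul, map_mul]
      split_ifs
      · rw [map_one]
      · rw [map_zero]
    rw [h1, Matrix.mul_smul, Matrix.mul_one, Matrix.smul_mul, gl_mul_inv]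
    rfl

end

end Cfsg.Agent.Lib.Helper16.PU
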