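import Mathlib
import Cfsg.Prelude.Def_LieTypeDatum
import Cfsg.Agent.Lib.Helper16.PU9

set_option autoImplicit false
set_option linter.unusedSectionVars false
set_option linter.unusedVariables false

namespace Cfsg.Agent.Lib.Helper16.PU

open Matrix Cfsg.Agent.Lib.Helper16.PG

universe u w

section
variable {n : ℕ} {F : Type u} [Field F] {q : ℕ} {F₀ : Type w} [Field F₀] [Algebra F₀ F]

/-- L4: a Hermitian similitude commuting with the graph automorphism comes from the `F₀`-form. -/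
theorem descend_comm [Fintype F] [Fintype F₀] (hF : Fintype.card F = q ^ 2) (hF₀ : Fintype.card F₀ = q)
    (σ : F ≃+* F) (hσ : ∀ a, σ a = a ^ q) (X k : GL (Fin n) F)
    (hk : (X : Matrix (Fin n) (Fin n) F) * (k : Matrix (Fin n) (Fin n) F).map ⇑σ = k)
    (M₀ : Matrix (Fin n) (Fin n) F₀) (e : F) (he : e ≠ 0)
    (hM : (k : Matrix (Fin n) (Fin n) F)ᵀ * (k : Matrix (Fin n) (Fin n) F).map ⇑σ =
      e • M₀.map (algebraMap F₀ F))
    (hM₀ : M₀ ≠ 0)
    (Y : GL (Fin n) F) (hY : Y ∈ simU n F q) (c : Fˣ)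
    (hc : (Y : Matrix (Fin n) (Fin n) F) * (X : Matrix (Fin n) (Fin n) F) =
      (c : F) • ((X : Matrix (Fin n) (Fin n) F) * (Y : Matrix (Fin n) (Fin n) F).map ⇑σ)) :
    ∃ (y : GL (Fin n) F₀) (d : Fˣ), y ∈ Cfsg.Geo.similarityGroup (bilM M₀) ∧
      (Y : Matrix (Fin n) (Fin n) F) = (d : F) • ((conjK k y : GL (Fin n) F) : Matrix (Fin n) (Fin n) F) := by
  set K := (k : Matrix (Fin n) (Fin n) F) with hK
  set Ki := ((k⁻¹ : GL (Fin n) F) : Matrix (Fin n) (Fin n) F) with hKi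
  set Kb := K.map ⇑σ with hKb
  set Kbi := Ki.map ⇑σ with hKbi
  have hKKi : K * Ki = 1 := gl_mul_inv k
  have hKiK : Ki * K = 1 := gl_inv_mul k
  have hKbKbi : Kb * Kbi = 1 := map_mul_inv σ k
  have hKbiKb : Kbi * Kb = 1 := map_inv_mul σ k
  have hX : (X : Matrix (Fin n) (Fin n) F) = K * Kbi := X_eq_of_hk σ X k hk
  set Y₀ : GL (Fin n) F := k⁻¹ * Y * k with hY₀
  have hY₀val : (Y₀ : Matrix (Fin n) (Fin n) F) = Ki * (Y : Matrix (Fin n) (Fin n) F) * K := by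
    rw [hY₀, Units.val_mul, Units.val_mul]
  have hY₀bar : (Y₀ : Matrix (Fin n) (Fin n) F).map ⇑σ = ((c : F)⁻¹) • (Y₀ : Matrix (Fin n) (Fin n) F) := by
    rw [hY₀val, Matrix.map_mul, Matrix.map_mul]
    have h1 : (Y : Matrix (Fin n) (Fin n) F) * (K * Kbi) = (c : F) • (K * Kbi * (Y : Matrix (Fin n) (Fin n) F).map ⇑σ) := by
      rw [← hX]; exact hc
    have h2 : Ki * ((Y : Matrix (Fin n) (Fin n) F) * (K * Kbi)) * Kb =
        Ki * ((c : F) • (K * Kbi * (Y : Matrix (Fin n) (Fin n) F).map ⇑σ)) * Kb := by rw [h1]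
    have h3 : Ki * ((Y : Matrix (Fin n) (Fin n) F) * (K * Kbi)) * Kb = Ki * (Y : Matrix (Fin n) (Fin n) F) * K := by
      calc Ki * ((Y : Matrix (Fin n) (Fin n) F) * (K * Kbi)) * Kb
          = Ki * (Y : Matrix (Fin n) (Fin n) F) * K * (Kbi * Kb) := by simp only [Matrix.mul_assoc]
        _ = _ := by rw [hKbiKb, Matrix.mul_one]
    have h4 : Ki * ((c : F) • (K * Kbi * (Y : Matrix (Fin n) (Fin n) F).map ⇑σ)) * Kb =
        (c : F) • (Kbi * (Y : Matrix (Fin n) (Fin n) F).map ⇑σ * Kb) := by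
      rw [Matrix.mul_smul, Matrix.smul_mul]
      congr 1
      calc Ki * (K * Kbi * (Y : Matrix (Fin n) (Fin n) F).map ⇑σ) * Kb
          = (Ki * K) * Kbi * (Y : Matrix (Fin n) (Fin n) F).map ⇑σ * Kb := by simp only [Matrix.mul_assoc]
        _ = _ := by rw [hKiK, Matrix.one_mul]
    rw [h3, h4] at h2
    rw [h2, smul_smul, inv_mul_cancel₀ c.ne_zero, one_smul]
  obtain ⟨d, y, hdy⟩ := semifixed_descend hF hF₀ σ hσ Y₀ _ hY₀bar
  set Yt := (y : Matrix (Fin n) (Fin n) F₀).map (algebraMap F₀ F) with hYt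
  have hYval : (Y : Matrix (Fin n) (Fin n) F) = (d : F) • (K * Yt * Ki) := by
    have h1 : K * (Y₀ : Matrix (Fin n) (Fin n) F) * Ki = (Y : Matrix (Fin n) (Fin n) F) := by
      rw [hY₀val]
      calc K * (Ki * (Y : Matrix (Fin n) (Fin n) F) * K) * Ki
          = (K * Ki) * (Y : Matrix (Fin n) (Fin n) F) * (K * Ki) := by simp only [Matrix.mul_assoc]
        _ = _ := by rw [hKKi, Matrix.one_mul, Matrix.mul_one]
    rw [← h1, hdy, Matrix.mul_smul, Matrix.smul_mul]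
  have hconj : ((conjK k y : GL (Fin n) F) : Matrix (Fin n) (Fin n) F) = K * Yt * Ki := by
    rw [conjK_apply, Units.val_mul, Units.val_mul, mapI_val]
  refine ⟨y, d, ?_, by rw [hconj]; exact hYval⟩
  -- similitude property
  obtain ⟨lam, hlam⟩ := (mem_simU_iff_mat σ hσ Y).mp hY
  set Mt := M₀.map (algebraMap F₀ F) with hMt
  have hYtbar : Yt.map ⇑σ = Yt := mapI_bar hF₀ σ hσ _
  have h5 : Ytᵀ * Mt * Yt = ((lam : F) / ((d : F) * σ d)) • Mt := by
    have h6 : (Y : Matrix (Fin n) (Fin n) F).map ⇑σ = σ (d : F) • (Kb * Yt * Kbi) := by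
      rw [hYval]
      ext i j
      simp only [Matrix.map_apply, Matrix.smul_apply, smul_eq_mul, map_mul]
      congr 1
      have := congrFun (congrFun (show (K * Yt * Ki).map ⇑σ = Kb * Yt * Kbi by
        rw [Matrix.map_mul, Matrix.map_mul, hYtbar]) i) j
      rw [Matrix.map_apply] at this
      exact this
    rw [h6, hYval, Matrix.transpose_smul, Matrix.transpose_mul, Matrix.transpose_mul, Matrix.smul_mul,
      Matrix.mul_smul, smul_smul] at hlam
    have h7 : Kᵀ * (Kiᵀ * (Ytᵀ * Kᵀ) * (Kb * Yt * Kbi)) * Kb = Ytᵀ * (Kᵀ * Kb) * Yt := by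
      have h8 : Kᵀ * Kiᵀ = 1 := by rw [← Matrix.transpose_mul, hKiK, Matrix.transpose_one]
      calc Kᵀ * (Kiᵀ * (Ytᵀ * Kᵀ) * (Kb * Yt * Kbi)) * Kb
          = (Kᵀ * Kiᵀ) * Ytᵀ * (Kᵀ * Kb) * Yt * (Kbi * Kb) := by simp only [Matrix.mul_assoc]
        _ = _ := by rw [h8, hKbiKb, Matrix.one_mul, Matrix.mul_one]
    have h9 : Kᵀ * (((d : F) * σ (d : F)) • (Kiᵀ * (Ytᵀ * Kᵀ) * (Kb * Yt * Kbi))) * Kb =
        Kᵀ * ((lam : F) • (1 : Matrix (Fin n) (Fin n) F)) * Kb := by rw [hlam]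
    rw [Matrix.mul_smul, Matrix.smul_mul, h7, Matrix.mul_smul, Matrix.mul_one, Matrix.smul_mul, hM,
      Matrix.mul_smul, Matrix.smul_mul, smul_smul, smul_smul] at h9
    have hd0 : (d : F) * σ (d : F) ≠ 0 := mul_ne_zero d.ne_zero ((map_ne_zero σ).mpr d.ne_zero)
    have h10 : Ytᵀ * Mt * Yt = (((d : F) * σ (d : F) * e)⁻¹ * ((lam : F) * e)) • Mt := by
      rw [← smul_smul, ← h9, smul_smul, inv_mul_cancel₀ (mul_ne_zero hd0 he), one_smul]
    rw [h10]
    congr 1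
    field_simp
  -- the multiplier lies in F₀
  obtain ⟨i₀, j₀, hij⟩ : ∃ i j, M₀ i j ≠ 0 := by
    by_contra hcon
    push Not at hcon
    apply hM₀
    ext i j
    exact hcon i j
  set N₀ := (y : Matrix (Fin n) (Fin n) F₀)ᵀ * M₀ * (y : Matrix (Fin n) (Fin n) F₀) with hN₀
  have hN₀map : N₀.map (algebraMap F₀ F) = Ytᵀ * Mt * Yt := by
    rw [hN₀, Matrix.map_mul, Matrix.map_mul, Matrix.transpose_map]
  set r := (lam : F) / ((d : F) * σ d) with hr
  set c₀ := N₀ i₀ j₀ / M₀ i₀ j₀ with hc₀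
  have hr_eq : r = algebraMap F₀ F c₀ := by
    have h11 := congrFun (congrFun (hN₀map.trans h5) i₀) j₀
    rw [Matrix.map_apply, Matrix.smul_apply, hMt, Matrix.map_apply, smul_eq_mul] at h11
    rw [hc₀, map_div₀, h11]
    have : algebraMap F₀ F (M₀ i₀ j₀) ≠ 0 := by rw [Ne, map_eq_zero]; exact hij
    field_simp
  have hr0 : r ≠ 0 := by
    rw [hr]
    exact div_ne_zero lam.ne_zero (mul_ne_zero d.ne_zero ((map_ne_zero σ).mpr d.ne_zero))
  have hc₀0 : c₀ ≠ 0 := by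
    intro h0
    rw [hr_eq, h0, map_zero] at hr0
    exact hr0 rfl
  rw [mem_simM_iff]
  refine ⟨Units.mk0 c₀ hc₀0, ?_⟩
  rw [Units.val_mk0]
  have hinj : Function.Injective (fun M : Matrix (Fin n) (Fin n) F₀ => M.map (algebraMap F₀ F)) := by
    intro A B hAB
    ext i j
    have := congrFun (congrFun hAB i) j
    simp only [Matrix.map_apply] at this
    exact (algebraMap F₀ F).injective this
  apply hinj
  show N₀.map (algebraMap F₀ F) = (c₀ • M₀).map (algebraMap F₀ F)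
  rw [hN₀map, h5, hr_eq]
  ext i j
  rw [Matrix.smul_apply, Matrix.map_apply, Matrix.smul_apply, hMt, Matrix.map_apply, smul_eq_mul, smul_eq_mul,
    map_mul]

end

end Cfsg.Agent.Lib.Helper16.PU
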