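import Mathlib
import Cfsg.Prelude.Def_LieTypeDatum
import Cfsg.Agent.Lib.Helper16.PU10

set_option autoImplicit false
set_option linter.unusedSectionVars false
set_option linter.unusedVariables false

namespace Cfsg.Agent.Lib.Helper16.PU

open Matrix Cfsg.Agent.Lib.Helper16.PG

universe u w

section
variable {n : ℕ} {F : Type u} [Field F] {q : ℕ} {F₀ : Type w} [Field F₀] [Algebra F₀ F]

/-- the centraliser in `Inndiag(PSU_n)` of the graph automorphism `Φ(X) ι`, where `X = k k̄⁻¹`, is the projective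
similarity group of the `F₀`-form with Gram matrix `M₀`, where `kᵀ k̄ = e M₀`. -/
theorem cent_graphU [Fintype F] [Fintype F₀] (hF : Fintype.card F = q ^ 2) (hF₀ : Fintype.card F₀ = q)
    (hn : 3 ≤ n) (σ : F ≃+* F) (hσ : ∀ a, σ a = a ^ q) (X : ↥(simU n F q)) (k : GL (Fin n) F)
    (hk : (X.1 : Matrix (Fin n) (Fin n) F) * (k : Matrix (Fin n) (Fin n) F).map ⇑σ = k)
    (M₀ : Matrix (Fin n) (Fin n) F₀) (e : F) (he : e ≠ 0)
    (hM : (k : Matrix (Fin n) (Fin n) F)ᵀ * (k : Matrix (Fin n) (Fin n) F).map ⇑σ =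
      e • M₀.map (algebraMap F₀ F)) :
    Nonempty (↥(Cfsg.inndiagPSU n F q ⊓ Subgroup.centralizer {PhiU n F q X * fieldU n q σ}) ≃*
      Cfsg.projQuot (Cfsg.Geo.similarityGroup (bilM M₀))) := by
  have hM₀ : M₀ ≠ 0 := by
    rintro rfl
    have h1 : (k : Matrix (Fin n) (Fin n) F)ᵀ * (k : Matrix (Fin n) (Fin n) F).map ⇑σ = 0 := by
      rw [hM]
      ext i j
      simp
    have h2 : ((k⁻¹ : GL (Fin n) F) : Matrix (Fin n) (Fin n) F)ᵀ * ((k : Matrix (Fin n) (Fin n) F)ᵀ *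
        (k : Matrix (Fin n) (Fin n) F).map ⇑σ) * ((k⁻¹ : GL (Fin n) F) : Matrix (Fin n) (Fin n) F).map ⇑σ = 0 := by
      rw [h1, Matrix.mul_zero, Matrix.zero_mul]
    rw [← Matrix.mul_assoc, ← Matrix.transpose_mul, gl_mul_inv, Matrix.transpose_one, Matrix.one_mul,
      map_mul_inv] at h2
    have : Nonempty (Fin n) := ⟨⟨0, by omega⟩⟩
    exact one_ne_zero h2
  set S := Cfsg.Geo.similarityGroup (bilM M₀) with hS
  let θ₀ : ↥S →* ↥(simU n F q) := ((conjK k).comp S.subtype).codRestrict (simU n F q)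
    (fun y => conjK_mem_simU hF₀ σ hσ k M₀ e he hM y.1 y.2)
  have hθ₀ : ∀ y : ↥S, (θ₀ y).1 = conjK k y.1 := fun y => rfl
  let Θ : ↥S →* MulAut (Cfsg.PSU n F q) := (PhiU n F q).comp θ₀
  have hker : Θ.ker = (Cfsg.Geo.scalars (Fin n) F₀).subgroupOf S := by
    ext y
    rw [MonoidHom.mem_ker, Subgroup.mem_subgroupOf]
    show PhiU n F q (θ₀ y) = 1 ↔ _
    rw [PhiU_eq_one_iff hF hn, hθ₀, conjK_scalar_iff]
  have hrange : Θ.range = Cfsg.inndiagPSU n F q ⊓ Subgroup.centralizer {PhiU n F q X * fieldU n q σ} := by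
    ext β
    rw [MonoidHom.mem_range, Subgroup.mem_inf, inndiagU_eq_range hF (by omega), MonoidHom.mem_range,
      Subgroup.mem_centralizer_iff]
    constructor
    · rintro ⟨y, rfl⟩
      refine ⟨⟨θ₀ y, rfl⟩, ?_⟩
      intro g hg
      rw [Set.mem_singleton_iff] at hg
      subst hg
      show (PhiU n F q X * fieldU n q σ) * PhiU n F q (θ₀ y) = PhiU n F q (θ₀ y) * (PhiU n F q X * fieldU n q σ)
      symm
      rw [comm_graphU_iff hF hn]
      refine ⟨1, ?_⟩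
      rw [Units.val_one, one_smul, hθ₀]
      exact conjK_comm hF₀ σ hσ X.1 k hk y.1
    · rintro ⟨⟨Y, rfl⟩, hcomm⟩
      have h1 := (hcomm _ (Set.mem_singleton _)).symm
      rw [comm_graphU_iff hF hn] at h1
      obtain ⟨c, hc⟩ := h1
      obtain ⟨y, d, hyS, hyd⟩ := descend_comm hF hF₀ σ hσ X.1 k hk M₀ e he hM hM₀ Y.1 Y.2 c hc
      refine ⟨⟨y, hyS⟩, ?_⟩
      show PhiU n F q (θ₀ ⟨y, hyS⟩) = PhiU n F q Y
      symm
      rw [PhiU_eq_iff hF hn]
      exact ⟨d, hyd⟩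
  have e1 : ↥S ⧸ Θ.ker ≃* ↥Θ.range := QuotientGroup.quotientKerEquivRange Θ
  have e2 : ↥S ⧸ Θ.ker ≃* ↥S ⧸ (Cfsg.Geo.scalars (Fin n) F₀).subgroupOf S :=
    QuotientGroup.quotientMulEquivOfEq hker
  have e3 : ↥(Cfsg.inndiagPSU n F q ⊓ Subgroup.centralizer {PhiU n F q X * fieldU n q σ}) ≃* ↥Θ.range :=
    MulEquiv.subgroupCongr hrange.symm
  exact ⟨e3.trans (e1.symm.trans e2)⟩

end

end Cfsg.Agent.Lib.Helper16.PU
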