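import Mathlib
import Cfsg.Prelude.Def_LieTypeDatum
import Cfsg.Agent.Lib.Helper16.PU11
import Cfsg.Agent.Lib.Helper16.PG7
import Cfsg.Agent.Lib.Helper16.FieldExt

set_option autoImplicit false
set_option linter.unusedSectionVars false
set_option linter.unusedVariables false

namespace Cfsg.Agent.Lib.Helper16.PU

open Matrix Cfsg.Agent.Lib.Helper16.PG

universe u w

section
variable {n : ℕ} {F : Type u} [Field F] {q : ℕ}

theorem map_one_mat (σ : F ≃+* F) : (1 : Matrix (Fin n) (Fin n) F).map ⇑σ = 1 := by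
  ext i j
  rw [Matrix.map_apply, Matrix.one_apply]
  split_ifs
  · exact map_one σ
  · exact map_zero σ

theorem map_one_alg {F₀ : Type w} [Field F₀] [Algebra F₀ F] :
    (1 : Matrix (Fin n) (Fin n) F₀).map (algebraMap F₀ F) = 1 := by
  ext i j
  rw [Matrix.map_apply, Matrix.one_apply, Matrix.one_apply]
  split_ifs
  · exact map_one _
  · exact map_zero _

/-- the centraliser of the standard graph automorphism of `PSU_n`, `4 ∣ n`, `q` odd. -/
theorem cent_fieldU_plus [Fintype F] (hodd : Odd q) (hF : Fintype.card F = q ^ 2) {m : ℕ} (hm : 2 ≤ m)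
    (hnm : n = 2 * m) (h4 : 4 ∣ n) (F₀ : Type w) [Field F₀] [Fintype F₀] (hF₀ : Fintype.card F₀ = q)
    (σ : F ≃+* F) (hσ : ∀ a : F, σ a = a ^ q) (φ : MulAut (Cfsg.PSU n F q)) (hφ : Cfsg.IsFieldAutPSUOf σ φ) :
    Nonempty (↥(Cfsg.inndiagPSU n F q ⊓ Subgroup.centralizer {φ}) ≃* Cfsg.PGO F₀ (Cfsg.quadFormPlus m F₀)) := by
  obtain ⟨alg, -⟩ := Cfsg.Agent.Lib.Helper16.exists_algebra_of_card hF hF₀
  let _ := alg
  have hφ' : φ = PhiU n F q 1 * fieldU n q σ := by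
    rw [map_one, one_mul]
    exact (isFieldAutU_iff σ φ).mp hφ
  subst hφ'
  obtain ⟨e0⟩ := cent_graphU hF hF₀ (by omega) σ hσ (1 : ↥(simU n F q)) (1 : GL (Fin n) F)
    (by
      show (1 : Matrix (Fin n) (Fin n) F) * (1 : Matrix (Fin n) (Fin n) F).map ⇑σ = 1
      rw [map_one_mat, Matrix.one_mul])
    (1 : Matrix (Fin n) (Fin n) F₀) 1 one_ne_zero
    (by
      show (1 : Matrix (Fin n) (Fin n) F)ᵀ * (1 : Matrix (Fin n) (Fin n) F).map ⇑σ = _
      rw [map_one_mat, map_one_alg, Matrix.transpose_one, Matrix.one_mul, one_smul])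
  have hoddF₀ : Odd (Fintype.card F₀) := by rw [hF₀]; exact hodd
  have h2 : (2 : F₀) ≠ 0 := two_ne_zero_of_odd_card hoddF₀
  rw [bilSim_eq_quadSim h2 _ Matrix.transpose_one] at e0
  obtain ⟨hplus, -⟩ := dot_type (F := F₀) hF₀ hodd (by omega : 1 ≤ m) n hnm
  have hev : Even (m * (q - 1) / 2) := by
    obtain ⟨t, ht⟩ := h4
    have hm2 : m = 2 * t := by omega
    obtain ⟨s, hs⟩ := hodd
    have h5 : m * (q - 1) / 2 = t * (2 * s) := by
      rw [hm2, hs, Nat.add_sub_cancel, mul_assoc, Nat.mul_div_cancel_left _ (by norm_num : 0 < 2)]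
    rw [h5]
    exact ⟨t * s, by ring⟩
  obtain ⟨Φ, hΦ⟩ := hplus hev
  obtain ⟨e1⟩ := pgo_congr (fun v => gramQ (1 : Matrix (Fin n) (Fin n) F₀) v) (Cfsg.quadFormPlus m F₀) Φ 1 one_ne_zero
    (by intro v; rw [one_mul]; exact hΦ v)
  exact ⟨e0.trans e1⟩

end

end Cfsg.Agent.Lib.Helper16.PU
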