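import Mathlib
import Cfsg.Prelude.Def_LieTypeDatum
import Cfsg.Agent.Lib.Helper16.PU12

set_option autoImplicit false
set_option linter.unusedSectionVars false
set_option linter.unusedVariables false

namespace Cfsg.Agent.Lib.Helper16.PU

open Matrix Cfsg.Agent.Lib.Helper16.PG

universe u w

section
variable {n : ℕ} {F : Type u} [Field F] {q : ℕ}

/-- an element moved by the bar involution. -/
theorem exists_moved [Fintype F] (hF : Fintype.card F = q ^ 2) (σ : F ≃+* F) (hσ : ∀ a, σ a = a ^ q) :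
    ∃ θ : F, σ θ ≠ θ := by
  obtain ⟨a, ha0, ha⟩ := exists_skew hF σ hσ
  by_cases h2 : (2 : F) = 0
  · -- char 2: a is fixed; use a generator
    obtain ⟨g, hg⟩ := exists_gen' hF
    refine ⟨(g : F), ?_⟩
    intro h
    rw [hσ] at h
    have hq2 := q_ge_two' hF
    have h1 : g ^ (q - 1) = 1 := by
      apply Units.ext
      push_cast
      have hg0 : (g : F) ≠ 0 := g.ne_zero
      have : (g : F) ^ (q - 1) * (g : F) = 1 * (g : F) := by
        rw [← pow_succ, Nat.sub_add_cancel (by omega), h, one_mul]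
      exact mul_right_cancel₀ hg0 this
    have h3 := orderOf_dvd_of_pow_eq_one h1
    rw [hg] at h3
    have h4 : (q - 1) * (q + 1) ≤ q - 1 := Nat.le_of_dvd (by omega) h3
    have h5 : (q - 1) * 2 ≤ (q - 1) * (q + 1) := Nat.mul_le_mul_left _ (by omega)
    omega
  · refine ⟨a, ?_⟩
    rw [ha]
    intro h
    have : (2 : F) * a = 0 := by linear_combination -h
    rcases mul_eq_zero.mp this with h | h
    · exact h2 h
    · exact ha0 h

/-- the semilinear involution `v ↦ X σ(v)`. -/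
theorem semi_invol [Fintype F] (hF : Fintype.card F = q ^ 2) (σ : F ≃+* F) (hσ : ∀ a, σ a = a ^ q)
    (X : Matrix (Fin n) (Fin n) F) (hX : X * X.map ⇑σ = 1) (v : Fin n → F) :
    X *ᵥ (⇑σ ∘ (X *ᵥ (⇑σ ∘ v))) = v := by
  rw [map_mulVec_comp, Matrix.mulVec_mulVec, hX]
  have : ⇑σ ∘ (⇑σ ∘ v) = v := by
    funext i
    simp [bar_bar hF σ hσ]
  rw [this, Matrix.one_mulVec]

theorem fixed_span [Fintype F] (hF : Fintype.card F = q ^ 2) (σ : F ≃+* F) (hσ : ∀ a, σ a = a ^ q)
    (X : Matrix (Fin n) (Fin n) F) (hX : X * X.map ⇑σ = 1) :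
    ⊤ ≤ Submodule.span F {v : Fin n → F | X *ᵥ (⇑σ ∘ v) = v} := by
  obtain ⟨θ, hθ⟩ := exists_moved hF σ hσ
  intro v _
  set J : (Fin n → F) → (Fin n → F) := fun v => X *ᵥ (⇑σ ∘ v) with hJ
  have hJJ : ∀ v, J (J v) = v := fun v => semi_invol hF σ hσ X hX v
  have hJadd : ∀ x y, J (x + y) = J x + J y := fun x y => by
    simp only [hJ, comp_add, Matrix.mulVec_add]
  have hJsmul : ∀ (c : F) x, J (c • x) = σ c • J x := fun c x => by
    simp only [hJ, comp_smul, Matrix.mulVec_smul]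
  have h1 : v + J v ∈ {v : Fin n → F | X *ᵥ (⇑σ ∘ v) = v} := by
    show J (v + J v) = v + J v
    rw [hJadd, hJJ, add_comm]
  have h2 : θ • v + σ θ • J v ∈ {v : Fin n → F | X *ᵥ (⇑σ ∘ v) = v} := by
    show J (θ • v + σ θ • J v) = θ • v + σ θ • J v
    rw [hJadd, hJsmul, hJsmul, hJJ, bar_bar hF σ hσ, add_comm]
  have hne : θ - σ θ ≠ 0 := fun h => hθ (sub_eq_zero.mp h).symm
  have hv : v = (θ - σ θ)⁻¹ • ((θ • v + σ θ • J v) - σ θ • (v + J v)) := by
    have : (θ • v + σ θ • J v) - σ θ • (v + J v) = (θ - σ θ) • v := by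
      rw [smul_add, sub_smul]; abel
    rw [this, smul_smul, inv_mul_cancel₀ hne, one_smul]
  rw [hv]
  exact Submodule.smul_mem _ _ (Submodule.sub_mem _ (Submodule.subset_span h2)
    (Submodule.smul_mem _ _ (Submodule.subset_span h1)))

/-- Hilbert 90 for `GL_n` over the quadratic extension `F/F₀`. -/
theorem hilbert90 [Fintype F] (hF : Fintype.card F = q ^ 2) (σ : F ≃+* F) (hσ : ∀ a, σ a = a ^ q)
    (X : Matrix (Fin n) (Fin n) F) (hX : X * X.map ⇑σ = 1) :
    ∃ k : GL (Fin n) F, X * (k : Matrix (Fin n) (Fin n) F).map ⇑σ = k := by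
  classical
  have hs := fixed_span hF σ hσ X hX
  set b := Module.Basis.ofSpan hs with hb
  have hbW : ∀ i, X *ᵥ (⇑σ ∘ (b i)) = b i := fun i =>
    Module.Basis.ofSpan_subset hs (Set.mem_range_self i)
  have : Fintype ↥((linearIndepOn_empty F id).extend (Set.empty_subset
      {v : Fin n → F | X *ᵥ (⇑σ ∘ v) = v})) := FiniteDimensional.fintypeBasisIndex b
  set e := b.indexEquiv (Pi.basisFun F (Fin n)) with he
  set b' := b.reindex e with hb'
  have hb'W : ∀ i, X *ᵥ (⇑σ ∘ (b' i)) = b' i := fun i => by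
    rw [hb', Module.Basis.reindex_apply]; exact hbW _
  set km : Matrix (Fin n) (Fin n) F := (Pi.basisFun F (Fin n)).toMatrix b' with hkm
  have hkm_apply : ∀ i j, km i j = b' j i := fun i j => by
    rw [hkm, Module.Basis.toMatrix_apply, Pi.basisFun_repr]
  have h1 : km * b'.toMatrix (Pi.basisFun F (Fin n)) = 1 :=
    Module.Basis.toMatrix_mul_toMatrix_flip _ _
  have h2 : b'.toMatrix (Pi.basisFun F (Fin n)) * km = 1 :=
    Module.Basis.toMatrix_mul_toMatrix_flip _ _
  refine ⟨⟨km, b'.toMatrix (Pi.basisFun F (Fin n)), h1, h2⟩, ?_⟩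
  show X * km.map ⇑σ = km
  ext i j
  rw [hkm_apply, ← hb'W j]
  simp only [Matrix.mul_apply, Matrix.map_apply, Matrix.mulVec, dotProduct, Function.comp, hkm_apply]

end

end Cfsg.Agent.Lib.Helper16.PU
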