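import Mathlib
import Cfsg.Prelude.Def_LieTypeDatum
import Cfsg.Agent.Lib.Helper16.PU13

set_option autoImplicit false
set_option linter.unusedSectionVars false
set_option linter.unusedVariables false

namespace Cfsg.Agent.Lib.Helper16.PU

open Matrix Cfsg.Agent.Lib.Helper16.PG

universe u w

section
variable {n : ℕ} {F : Type u} [Field F] {q : ℕ}

theorem bar_comm (σ : F ≃+* F) (hσ : ∀ a, σ a = a ^ q) (ρ : F ≃+* F) (x : F) : ρ (σ x) = σ (ρ x) := by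
  rw [hσ, hσ, map_pow]

theorem nilM_map (σ : F ≃+* F) (hσ : ∀ a, σ a = a ^ q) (ρ : F ≃+* F) (v : Fin n → F) (a : F) :
    (a • Matrix.vecMulVec v (⇑σ ∘ v)).map ⇑ρ = ρ a • Matrix.vecMulVec (⇑ρ ∘ v) (⇑σ ∘ (⇑ρ ∘ v)) := by
  ext i j
  simp [Matrix.vecMulVec_apply, bar_comm σ hσ ρ]

theorem tvM_map (σ : F ≃+* F) (hσ : ∀ a, σ a = a ^ q) (ρ : F ≃+* F) (v : Fin n → F) (a : F) :
    (tvM σ v a).map ⇑ρ = 1 + ρ a • Matrix.vecMulVec (⇑ρ ∘ v) (⇑σ ∘ (⇑ρ ∘ v)) := by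
  unfold tvM
  rw [← nilM_map σ hσ ρ]
  ext i j
  by_cases hij : i = j <;> simp [hij]

theorem exists_third (hn : 3 ≤ n) (i j : Fin n) : ∃ k : Fin n, k ≠ i ∧ k ≠ j := by
  by_contra hcon
  push Not at hcon
  have h2 : Fintype.card (Fin n) ≤ 2 := by
    calc Fintype.card (Fin n) = (Finset.univ : Finset (Fin n)).card := rfl
      _ ≤ ({i, j} : Finset (Fin n)).card := by
        apply Finset.card_le_card
        intro k _
        by_cases h : k = i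
        · simp [h]
        · simp [hcon k h]
      _ ≤ 2 := Finset.card_le_two
  rw [Fintype.card_fin] at h2
  omega

/-- if a field automorphism of `PSU` is inner-diagonal (induced by `Z`), then `Z` conjugates the nilpotent part of a
unitary transvection to its image under the field automorphism. -/
theorem lemma_T [Fintype F] (hF : Fintype.card F = q ^ 2) (hn : 3 ≤ n) (σ : F ≃+* F) (hσ : ∀ a, σ a = a ^ q)
    (ρ : F ≃+* F) (Z : ↥(simU n F q)) (h : fieldU n q ρ = PhiU n F q Z)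
    (v : Fin n → F) (a : F) (hv : v ⬝ᵥ (⇑σ ∘ v) = 0) (ha : σ a = -a) (k : Fin n) (hk : v k = 0) :
    (Z.1 : Matrix (Fin n) (Fin n) F) * (a • Matrix.vecMulVec v (⇑σ ∘ v)) =
      (ρ a • Matrix.vecMulVec (⇑ρ ∘ v) (⇑σ ∘ (⇑ρ ∘ v))) * (Z.1 : Matrix (Fin n) (Fin n) F) := by
  set t := tvSU hF σ hσ v a hv ha with ht
  have h1 : PhiU n F q Z (QuotientGroup.mk t) = fieldU n q ρ (QuotientGroup.mk t) := by rw [h]
  rw [PhiU_mk, fieldU_mk, QuotientGroup.eq] at h1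
  obtain ⟨d, hd⟩ := center_SU_scalar hF hn _ h1
  have h2 : (((conjSU Z t)⁻¹ * fieldSU ρ t : ↥(Cfsg.SU n F q)).1 : Matrix (Fin n) (Fin n) F) =
      (((conjSU Z t)⁻¹ : ↥(Cfsg.SU n F q)).1 : Matrix (Fin n) (Fin n) F) * (tvM σ v a).map ⇑ρ := rfl
  rw [h2] at hd
  have h3 : (tvM σ v a).map ⇑ρ = d • ((Z.1 : Matrix (Fin n) (Fin n) F) * tvM σ v a *
      ((Z.1⁻¹ : GL (Fin n) F) : Matrix (Fin n) (Fin n) F)) := by
    have h4 : ((conjSU Z t).1 : Matrix (Fin n) (Fin n) F) *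
        ((((conjSU Z t)⁻¹ : ↥(Cfsg.SU n F q)).1 : Matrix (Fin n) (Fin n) F) * (tvM σ v a).map ⇑ρ) =
        ((conjSU Z t).1 : Matrix (Fin n) (Fin n) F) * (d • 1) := by rw [hd]
    rw [← Matrix.mul_assoc] at h4
    have h5 : ((conjSU Z t).1 : Matrix (Fin n) (Fin n) F) *
        (((conjSU Z t)⁻¹ : ↥(Cfsg.SU n F q)).1 : Matrix (Fin n) (Fin n) F) = 1 := by
      have : (conjSU Z t) * (conjSU Z t)⁻¹ = 1 := mul_inv_cancel _
      have h6 := congrArg (fun s : ↥(Cfsg.SU n F q) => (s.1 : Matrix (Fin n) (Fin n) F)) this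
      exact h6
    rw [h5, Matrix.one_mul, Matrix.mul_smul, Matrix.mul_one] at h4
    exact h4
  have hN := tv_nilp σ v a hv
  have hv' : (⇑ρ ∘ v) ⬝ᵥ (⇑σ ∘ (⇑ρ ∘ v)) = 0 := by
    have h7 : ⇑σ ∘ (⇑ρ ∘ v) = ⇑ρ ∘ (⇑σ ∘ v) := by
      funext i
      simp [bar_comm σ hσ ρ]
    rw [h7]
    have h8 := RingHom.map_dotProduct (ρ : F →+* F) v (⇑σ ∘ v)
    rw [hv, map_zero] at h8
    exact h8.symm
  have hN' := tv_nilp σ (⇑ρ ∘ v) (ρ a) hv'
  have hkk : (ρ a • Matrix.vecMulVec (⇑ρ ∘ v) (⇑σ ∘ (⇑ρ ∘ v))) k k = 0 := by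
    rw [Matrix.smul_apply, Matrix.vecMulVec_apply]
    simp [hk]
  rw [tvM_map σ hσ ρ] at h3
  have h7 := conj_nilp (Z.1 : Matrix (Fin n) (Fin n) F) ((Z.1⁻¹ : GL (Fin n) F) : Matrix (Fin n) (Fin n) F)
    (a • Matrix.vecMulVec v (⇑σ ∘ v)) (ρ a • Matrix.vecMulVec (⇑ρ ∘ v) (⇑σ ∘ (⇑ρ ∘ v)))
    (gl_mul_inv Z.1) (gl_inv_mul Z.1) hN hN' k hkk d h3.symm
  have h9 : (Z.1 : Matrix (Fin n) (Fin n) F) * (a • Matrix.vecMulVec v (⇑σ ∘ v)) *
      ((Z.1⁻¹ : GL (Fin n) F) : Matrix (Fin n) (Fin n) F) * (Z.1 : Matrix (Fin n) (Fin n) F) =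
      (ρ a • Matrix.vecMulVec (⇑ρ ∘ v) (⇑σ ∘ (⇑ρ ∘ v))) * (Z.1 : Matrix (Fin n) (Fin n) F) := by rw [h7]
  rw [Matrix.mul_assoc, gl_inv_mul, Matrix.mul_one] at h9
  exact h9

/-- `Z` maps the isotropic line `⟨v⟩` to `⟨ρ v⟩`. -/
theorem map_line [Fintype F] (hF : Fintype.card F = q ^ 2) (hn : 3 ≤ n) (σ : F ≃+* F) (hσ : ∀ a, σ a = a ^ q)
    (ρ : F ≃+* F) (Z : ↥(simU n F q)) (h : fieldU n q ρ = PhiU n F q Z)
    (v : Fin n → F) (hv : v ⬝ᵥ (⇑σ ∘ v) = 0) (k : Fin n) (hk : v k = 0)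
    (w : Fin n → F) (hw : (⇑σ ∘ v) ⬝ᵥ w = 1) :
    ∃ l : F, (Z.1 : Matrix (Fin n) (Fin n) F) *ᵥ v = l • (⇑ρ ∘ v) := by
  obtain ⟨a, ha0, ha⟩ := exists_skew hF σ hσ
  have hT := lemma_T hF hn σ hσ ρ Z h v a hv ha k hk
  have h1 := congrArg (fun M => M *ᵥ w) hT
  simp only [← Matrix.mulVec_mulVec, Matrix.smul_mulVec, Matrix.vecMulVec_mulVec, hw, op_smul_eq_smul,
    one_smul, Matrix.mulVec_smul] at h1
  refine ⟨a⁻¹ * (ρ a * ((⇑σ ∘ (⇑ρ ∘ v)) ⬝ᵥ ((Z.1 : Matrix (Fin n) (Fin n) F) *ᵥ w))), ?_⟩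
  have h2 : a • ((Z.1 : Matrix (Fin n) (Fin n) F) *ᵥ v) =
      a • ((a⁻¹ * (ρ a * ((⇑σ ∘ (⇑ρ ∘ v)) ⬝ᵥ ((Z.1 : Matrix (Fin n) (Fin n) F) *ᵥ w)))) • (⇑ρ ∘ v)) := by
    rw [h1, smul_smul, smul_smul, ← mul_assoc, mul_inv_cancel₀ ha0, one_mul]
  exact smul_right_injective _ ha0 h2

theorem isoV_comp (ρ : F ≃+* F) (i j : Fin n) (μ : F) : ⇑ρ ∘ isoV i j μ = isoV i j (ρ μ) := by
  unfold isoV
  rw [comp_add, comp_smul, comp_single, comp_single]

theorem mulVec_isoV (Z : Matrix (Fin n) (Fin n) F) (i j : Fin n) (μ : F) (k : Fin n) :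
    (Z *ᵥ isoV i j μ) k = Z k i + μ * Z k j := by
  unfold isoV
  rw [Matrix.mulVec_add, Matrix.mulVec_smul, Matrix.mulVec_single_one, Matrix.mulVec_single_one]
  simp only [Pi.add_apply, Pi.smul_apply, Matrix.col_apply, smul_eq_mul]

theorem isoV_apply (i j : Fin n) (μ : F) (k : Fin n) :
    isoV i j μ k = (if k = i then 1 else 0) + μ * (if k = j then 1 else 0) := by
  unfold isoV
  simp only [Pi.add_apply, Pi.smul_apply, smul_eq_mul, Pi.single_apply]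

/-- a matrix mapping the lines `⟨e_i + μ e_j⟩` to `⟨e_i + μ' e_j⟩` is diagonal. -/
theorem diag_of_map_lines (hn : 3 ≤ n) (μ μ' : F) (hμ2 : μ ^ 2 ≠ 1)
    (Z : Matrix (Fin n) (Fin n) F)
    (hZ : ∀ i j : Fin n, i ≠ j → ∃ l : F, Z *ᵥ isoV i j μ = l • isoV i j μ') :
    ∀ k i : Fin n, k ≠ i → Z k i = 0 := by
  intro k i hki
  obtain ⟨j, hjk, hji⟩ := exists_third hn k i
  obtain ⟨l₁, h1⟩ := hZ i j (Ne.symm hji)
  obtain ⟨l₂, h2⟩ := hZ j i hji
  have h3 := congrFun h1 k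
  have h4 := congrFun h2 k
  rw [mulVec_isoV, Pi.smul_apply, isoV_apply, if_neg hki, if_neg (Ne.symm hjk)] at h3
  rw [mulVec_isoV, Pi.smul_apply, isoV_apply, if_neg (Ne.symm hjk), if_neg hki] at h4
  simp only [add_zero, mul_zero, smul_eq_mul] at h3 h4
  have h5 : Z k i * (1 - μ ^ 2) = 0 := by linear_combination h3 - μ * h4
  rcases mul_eq_zero.mp h5 with h | h
  · exact h
  · exact absurd (sub_eq_zero.mp h).symm hμ2

theorem diag_ne_zero (Z : GL (Fin n) F) (hZ : ∀ k i : Fin n, k ≠ i → (Z : Matrix (Fin n) (Fin n) F) k i = 0)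
    (i : Fin n) : (Z : Matrix (Fin n) (Fin n) F) i i ≠ 0 := by
  intro h0
  have h1 : (Z : Matrix (Fin n) (Fin n) F) *ᵥ Pi.single i 1 = 0 := by
    funext k
    rw [Matrix.mulVec_single_one]
    by_cases hki : k = i
    · subst hki; simpa using h0
    · simpa using hZ k i hki
  have h2 : ((Z⁻¹ : GL (Fin n) F) : Matrix (Fin n) (Fin n) F) *ᵥ
      ((Z : Matrix (Fin n) (Fin n) F) *ᵥ Pi.single i 1) = Pi.single i 1 := by
    rw [Matrix.mulVec_mulVec, gl_inv_mul, Matrix.one_mulVec]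
  rw [h1, Matrix.mulVec_zero] at h2
  have h3 := congrFun h2 i
  simp at h3

/-- an automorphism fixing all norm-one elements is trivial. -/
theorem eq_refl_of_fix_norm_one [Fintype F] (hF : Fintype.card F = q ^ 2) (σ : F ≃+* F) (hσ : ∀ a, σ a = a ^ q)
    (ρ : F ≃+* F) (hρ : ∀ ζ : F, ζ * σ ζ = 1 → ρ ζ = ζ) : ρ = RingEquiv.refl F := by
  have hfix : ∀ y : F, σ y ≠ y → σ (ρ y / y) = ρ y / y := by
    intro y hy
    have hy0 : y ≠ 0 := by
      rintro rfl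
      exact hy (map_zero σ)
    have hσy0 : σ y ≠ 0 := by
      rw [Ne, map_eq_zero]; exact hy0
    have h1 : (y / σ y) * σ (y / σ y) = 1 := by
      rw [map_div₀, bar_bar hF σ hσ]
      field_simp
    have h2 := hρ _ h1
    rw [map_div₀, bar_comm σ hσ ρ] at h2
    have hρy0 : ρ y ≠ 0 := by
      rw [Ne, map_eq_zero]; exact hy0
    have hσρy0 : σ (ρ y) ≠ 0 := by
      rw [Ne, map_eq_zero]; exact hρy0
    rw [map_div₀]
    rw [div_eq_div_iff hσρy0 hσy0] at h2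
    rw [div_eq_div_iff hσy0 hy0]
    linear_combination -h2
  have hmoved : ∀ y : F, σ y ≠ y → ρ y = y := by
    intro y hy
    have hy0 : y ≠ 0 := by
      rintro rfl
      exact hy (map_zero σ)
    have hy1 : σ (1 + y) ≠ 1 + y := by
      rw [map_add, map_one]
      intro h
      exact hy (add_left_cancel h)
    have hy10 : 1 + y ≠ 0 := by
      intro h
      rw [h] at hy1
      exact hy1 (map_zero σ)
    set c := ρ y / y with hc
    set c' := ρ (1 + y) / (1 + y) with hc'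
    have hcf := hfix y hy
    have hc'f := hfix (1 + y) hy1
    have e1 : ρ y = c * y := by rw [hc]; field_simp
    have e2 : 1 + ρ y = c' * (1 + y) := by
      rw [hc', ← map_one ρ, ← map_add, map_one]; field_simp
    have e3 : (c' - 1) = (c - c') * y := by
      rw [e1] at e2
      linear_combination -e2
    by_cases hcc : c = c'
    · rw [hcc, sub_self, zero_mul, sub_eq_zero] at e3
      rw [e1, hcc, e3, one_mul]
    · exfalso
      have hne : c - c' ≠ 0 := sub_ne_zero.mpr hcc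
      have e4 : y = (c' - 1) / (c - c') := by
        rw [e3]; field_simp
      apply hy
      rw [e4, map_div₀, map_sub, map_sub, map_one]
      rw [← hc, ← hc'] at *
      rw [hcf, hc'f]
  obtain ⟨θ, hθ⟩ := exists_moved hF σ hσ
  ext y
  show ρ y = y
  by_cases hy : σ y = y
  · have h1 : σ (y + θ) ≠ y + θ := by
      rw [map_add, hy]
      intro h
      exact hθ (add_left_cancel h)
    have h2 := hmoved _ h1
    rw [map_add, hmoved θ hθ] at h2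
    exact add_right_cancel h2
  · exact hmoved y hy

/-- a standard field automorphism of `PSU_n` (`n ≥ 3`) which is inner-diagonal is trivial. -/
theorem fieldU_eq_PhiU [Fintype F] (hF : Fintype.card F = q ^ 2) (hn : 3 ≤ n)
    (ρ : F ≃+* F) (Z : ↥(simU n F q)) (h : fieldU n q ρ = PhiU n F q Z) : ρ = RingEquiv.refl F := by
  obtain ⟨σ, hσ⟩ := exists_bar hF
  obtain ⟨μ₀, hμ₀, hμ₀2⟩ := exists_mu hF σ hσ
  have hlines : ∀ μ : F, μ * σ μ = -1 → ∀ i j : Fin n, i ≠ j →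
      ∃ l : F, (Z.1 : Matrix (Fin n) (Fin n) F) *ᵥ isoV i j μ = l • isoV i j (ρ μ) := by
    intro μ hμ i j hij
    obtain ⟨k, hki, hkj⟩ := exists_third hn i j
    have hk0 : isoV i j μ k = 0 := by
      rw [isoV_apply, if_neg hki, if_neg hkj]; ring
    have := map_line hF hn σ hσ ρ Z h (isoV i j μ) (isoV_iso σ i j hij μ hμ) k hk0 (Pi.single i 1)
      (isoV_dual σ i j hij μ)
    rw [isoV_comp] at this
    exact this
  have hdiag := diag_of_map_lines hn μ₀ (ρ μ₀) hμ₀2 (Z.1 : Matrix (Fin n) (Fin n) F) (hlines μ₀ hμ₀)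
  have hnz := diag_ne_zero Z.1 hdiag
  set i : Fin n := ⟨0, by omega⟩ with hi
  set j : Fin n := ⟨1, by omega⟩ with hj
  have hij : i ≠ j := by
    rw [hi, hj]; intro h; simp [Fin.ext_iff] at h
  have hratio : ∀ μ : F, μ * σ μ = -1 → μ * (Z.1 : Matrix (Fin n) (Fin n) F) j j =
      (Z.1 : Matrix (Fin n) (Fin n) F) i i * ρ μ := by
    intro μ hμ
    obtain ⟨l, hl⟩ := hlines μ hμ i j hij
    have h1 := congrFun hl i
    have h2 := congrFun hl j
    rw [mulVec_isoV, Pi.smul_apply, isoV_apply, if_pos rfl, if_neg hij, hdiag i j hij] at h1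
    rw [mulVec_isoV, Pi.smul_apply, isoV_apply, if_pos rfl, if_neg (Ne.symm hij), hdiag j i (Ne.symm hij)] at h2
    simp only [smul_eq_mul] at h1 h2
    have h3 : l = (Z.1 : Matrix (Fin n) (Fin n) F) i i := by linear_combination -h1
    rw [h3] at h2
    linear_combination h2
  apply eq_refl_of_fix_norm_one hF σ hσ ρ
  intro ζ hζ
  have h1 : (μ₀ * ζ) * σ (μ₀ * ζ) = -1 := by
    rw [map_mul]
    linear_combination ζ * σ ζ * hμ₀ - hζ
  have h2 := hratio _ h1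
  have h3 := hratio _ hμ₀
  rw [map_mul] at h2
  have hμ₀0 : μ₀ ≠ 0 := by
    rintro rfl
    rw [zero_mul] at hμ₀
    exact zero_ne_one (neg_eq_zero.mp hμ₀.symm).symm
  have hρμ₀ : ρ μ₀ ≠ 0 := by
    rw [Ne, map_eq_zero]; exact hμ₀0
  have h4 : ((Z.1 : Matrix (Fin n) (Fin n) F) i i * ρ μ₀) * (ρ ζ - ζ) = 0 := by
    linear_combination -h2 + ζ * h3
  rcases mul_eq_zero.mp h4 with h5 | h5
  · exact absurd h5 (mul_ne_zero (hnz i) hρμ₀)
  · exact sub_eq_zero.mp h5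

end

end Cfsg.Agent.Lib.Helper16.PU
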