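import Mathlib
import Cfsg.Prelude.Def_LieTypeDatum
import Cfsg.Agent.Lib.Helper16.PU14
import Cfsg.Agent.Lib.Helper16.SemiFixed

set_option autoImplicit false
set_option linter.unusedSectionVars false
set_option linter.unusedVariables false

namespace Cfsg.Agent.Lib.Helper16.PU

open Matrix Cfsg.Agent.Lib.Helper16.PG

universe u w

section
variable {n : ℕ} {F : Type u} [Field F] {q : ℕ}

/-- an automorphism fixing the fixed field of an involution pointwise is trivial or the involution. -/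
theorem two_invol (τ₁ τ₂ : F ≃+* F) (h2 : ∀ x, τ₂ (τ₂ x) = x) (hfix : ∀ x, τ₂ x = x → τ₁ x = x) :
    τ₁ = RingEquiv.refl F ∨ τ₁ = τ₂ := by
  have hcase : ∀ x, τ₁ x = x ∨ τ₁ x = τ₂ x := by
    intro x
    have hs : τ₁ (x + τ₂ x) = x + τ₂ x := hfix _ (by rw [map_add, h2, add_comm])
    have hp : τ₁ (x * τ₂ x) = x * τ₂ x := hfix _ (by rw [map_mul, h2, mul_comm])
    rw [map_add] at hs
    rw [map_mul] at hp
    have h0 : (τ₁ x - x) * (τ₁ x - τ₂ x) = 0 := by
      linear_combination (τ₁ x) * hs - hp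
    rcases mul_eq_zero.mp h0 with h | h
    · left; exact sub_eq_zero.mp h
    · right; exact sub_eq_zero.mp h
  by_contra hcon
  push Not at hcon
  obtain ⟨h1, h3⟩ := hcon
  have hx : ∃ x, τ₁ x ≠ x := by
    by_contra hc
    push Not at hc
    exact h1 (RingEquiv.ext hc)
  have hy : ∃ y, τ₁ y ≠ τ₂ y := by
    by_contra hc
    push Not at hc
    exact h3 (RingEquiv.ext hc)
  obtain ⟨x, hx⟩ := hx
  obtain ⟨y, hy⟩ := hy
  have hx' : τ₁ x = τ₂ x := (hcase x).resolve_left hx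
  have hy' : τ₁ y = y := (hcase y).resolve_right hy
  rcases hcase (x + y) with h | h
  · rw [map_add, hy'] at h
    exact hx (add_right_cancel h)
  · rw [map_add, map_add, hx'] at h
    exact hy (add_left_cancel h)

/-- the only involution of `F` is the bar involution. -/
theorem invol_eq_bar [Fintype F] (hF : Fintype.card F = q ^ 2) (σ : F ≃+* F) (hσ : ∀ a, σ a = a ^ q)
    (τ : F ≃+* F) (h2 : ∀ x, τ (τ x) = x) (hne : τ ≠ RingEquiv.refl F) : τ = σ := by
  classical
  have hord : orderOf τ = 2 := by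
    apply orderOf_eq_prime
    · ext x
      show τ ((τ ^ 1) x) = x
      rw [pow_one]; exact h2 x
    · exact hne
  have hcard := Cfsg.Agent.Lib.Helper16.fixed_card Nat.prime_two hF τ hord
  have hfix : ∀ x, τ x = x → σ x = x := by
    intro x hx
    have hmem : x ∈ FixedPoints.subfield (Subgroup.zpowers τ) F :=
      (Cfsg.Agent.Lib.Helper16.mem_fixed_iff τ x).mpr hx
    have : Fintype (FixedPoints.subfield (Subgroup.zpowers τ) F) := Fintype.ofFinite _
    have h1 := FiniteField.pow_card (⟨x, hmem⟩ : FixedPoints.subfield (Subgroup.zpowers τ) F)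
    rw [← Nat.card_eq_fintype_card, hcard] at h1
    have h3 := congrArg Subtype.val h1
    rw [hσ]
    exact h3
  rcases two_invol σ τ h2 hfix with h | h
  · exfalso
    obtain ⟨θ, hθ⟩ := exists_moved hF σ hσ
    rw [h] at hθ
    exact hθ rfl
  · exact h.symm

theorem exists_norm' [Fintype F] (hF : Fintype.card F = q ^ 2)
    (σ : F ≃+* F) (hσ : ∀ a, σ a = a ^ q) (c : F) (hc : c ≠ 0) (hcf : σ c = c) :
    ∃ ν : F, ν ≠ 0 ∧ ν * σ ν = c := by
  have hq2 := q_ge_two' hF
  have h1 : (Units.mk0 c hc) ^ (q - 1) = 1 := by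
    apply Units.ext
    rw [Units.val_pow_eq_pow_val, Units.val_one, Units.val_mk0]
    have h3 : c ^ q = c := by
      rw [← hσ]; exact hcf
    have h4 : c ^ (q - 1) * c = c := by
      rw [← pow_succ, Nat.sub_add_cancel (by omega), h3]
    have h5 : (c ^ (q - 1) - 1) * c = 0 := by
      rw [sub_mul, h4, one_mul, sub_self]
    rcases mul_eq_zero.mp h5 with h | h
    · exact sub_eq_zero.mp h
    · exact absurd h hc
  obtain ⟨μ, hμ⟩ := Cfsg.Agent.Lib.Helper16.norm_surj hF _ h1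
  refine ⟨(μ : F), μ.ne_zero, ?_⟩
  rw [hσ, ← pow_succ', ← Units.val_pow_eq_pow_val, hμ, Units.val_mk0]

theorem scalG_mem_simU (σ : F ≃+* F) (hσ : ∀ a, σ a = a ^ q) (ν : Fˣ) : scalG (Fin n) ν ∈ simU n F q := by
  rw [mem_simU_iff_mat σ hσ]
  have h0 : (ν : F) * σ ν ≠ 0 := mul_ne_zero ν.ne_zero (by rw [Ne, map_eq_zero]; exact ν.ne_zero)
  refine ⟨Units.mk0 _ h0, ?_⟩
  rw [scalG_val, map_smul_one, Matrix.transpose_smul, Matrix.transpose_one, Matrix.smul_mul, Matrix.one_mul,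
    smul_smul, Units.val_mk0]

/-- normal form of an involutory graph automorphism of `PSU_n`: `γ = Φ(X) ∘ bar` with `X X̄ = 1`. -/
theorem graph_normal_form [Fintype F] (hF : Fintype.card F = q ^ 2) (σ : F ≃+* F) (hσ : ∀ a, σ a = a ^ q)
    (γ : MulAut (Cfsg.PSU n F q)) (hγ : Cfsg.IsGraphAutClassPSU γ) (hγ2 : orderOf γ = 2) :
    ∃ X : ↥(simU n F q), γ = PhiU n F q X * fieldU n q σ ∧
      (X.1 : Matrix (Fin n) (Fin n) F) * (X.1 : Matrix (Fin n) (Fin n) F).map ⇑σ = 1 := by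
  obtain ⟨hn, δ, φ, τ, hev, hδ, hφ, rfl⟩ := hγ
  rw [isInnerDiagU_iff] at hδ
  obtain ⟨g, -, rfl⟩ := hδ
  rw [isFieldAutU_iff] at hφ
  subst hφ
  have hsq : (PhiU n F q g * fieldU n q τ) * (PhiU n F q g * fieldU n q τ) = 1 := by
    rw [← pow_two, ← hγ2]; exact pow_orderOf_eq_one _
  set g' : ↥(simU n F q) := ⟨mapGL n τ g.1, mapGL_mem_simU τ g.1 g.2⟩ with hg'
  have h1 : (PhiU n F q g * fieldU n q τ) * (PhiU n F q g * fieldU n q τ) =
      PhiU n F q (g * g') * fieldU n q (τ.trans τ) := by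
    rw [fieldU_mul, map_mul]
    calc (PhiU n F q g * fieldU n q τ) * (PhiU n F q g * fieldU n q τ)
        = PhiU n F q g * (fieldU n q τ * PhiU n F q g) * fieldU n q τ := by group
      _ = PhiU n F q g * (PhiU n F q g' * fieldU n q τ) * fieldU n q τ := by rw [field_conj]
      _ = PhiU n F q g * PhiU n F q g' * (fieldU n q τ * fieldU n q τ) := by group
  rw [h1] at hsq
  have h2 : fieldU n q (τ.trans τ) = PhiU n F q (g * g')⁻¹ := by
    rw [map_inv]; exact eq_inv_of_mul_eq_one_right hsq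
  have h3 := fieldU_eq_PhiU hF hn _ _ h2
  have hττ : ∀ x, τ (τ x) = x := fun x => by
    have := RingEquiv.congr_fun h3 x
    exact this
  have hτ1 : τ ≠ RingEquiv.refl F := by
    intro h
    rw [h] at hev
    have : orderOf (RingEquiv.refl F : F ≃+* F) = 1 := orderOf_one
    rw [this] at hev
    exact Nat.not_even_one hev
  have hτσ := invol_eq_bar hF σ hσ τ hττ hτ1
  subst hτσ
  rw [h3, fieldU_refl, mul_one] at hsq
  rw [PhiU_eq_one_iff hF hn, Cfsg.Geo.mem_scalars_iff] at hsq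
  obtain ⟨c, hc⟩ := hsq
  set G : Matrix (Fin n) (Fin n) F := (g.1 : Matrix (Fin n) (Fin n) F) with hG
  have hc' : G * G.map ⇑τ = (c : F) • 1 := by
    rw [← hc]
    show _ = ((g.1 * mapGL n τ g.1 : GL (Fin n) F) : Matrix (Fin n) (Fin n) F)
    rw [Units.val_mul, mapGL_val]
  have hc2 : G.map ⇑τ * G = (c : F) • 1 := by
    have : G.map ⇑τ * G = ((g.1⁻¹ : GL (Fin n) F) : Matrix (Fin n) (Fin n) F) * (G * G.map ⇑τ) * G := by
      rw [← Matrix.mul_assoc, gl_inv_mul, Matrix.one_mul]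
    rw [this, hc', Matrix.mul_smul, Matrix.mul_one, Matrix.smul_mul, gl_inv_mul]
  have hcf : τ (c : F) = c := by
    have h4 : (G * G.map ⇑τ).map ⇑τ = G.map ⇑τ * G := by
      have := Matrix.map_mul (L := G) (M := G.map ⇑τ) (f := (τ : F →+* F))
      simp only [RingEquiv.coe_toRingHom] at this
      rw [this, map_map_bar hF τ hσ]
    rw [hc', map_smul_one, hc2] at h4
    have h5 := congrFun (congrFun h4 ⟨0, by omega⟩) ⟨0, by omega⟩
    simpa using h5
  have hcinv : ((c : F))⁻¹ ≠ 0 := inv_ne_zero c.ne_zero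
  obtain ⟨ν, hν0, hν⟩ := exists_norm' hF τ hσ (c : F)⁻¹ hcinv (by rw [map_inv₀, hcf])
  set S : ↥(simU n F q) := ⟨scalG (Fin n) (Units.mk0 ν hν0), scalG_mem_simU τ hσ _⟩ with hS
  refine ⟨S * g, ?_, ?_⟩
  · rw [map_mul, hS, PhiU_scal, one_mul]
  · have h6 : (((S * g : ↥(simU n F q)).1 : GL (Fin n) F) : Matrix (Fin n) (Fin n) F) = ν • G := by
      show ((scalG (Fin n) (Units.mk0 ν hν0) * g.1 : GL (Fin n) F) : Matrix (Fin n) (Fin n) F) = ν • G
      rw [Units.val_mul, scalG_val, Units.val_mk0, Matrix.smul_mul, Matrix.one_mul]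
    rw [h6]
    have h7 : (ν • G).map ⇑τ = τ ν • G.map ⇑τ := by
      ext i j; simp
    rw [h7, Matrix.smul_mul, Matrix.mul_smul, hc', smul_smul, smul_smul, hν,
      inv_mul_cancel₀ c.ne_zero, one_smul]

end

end Cfsg.Agent.Lib.Helper16.PU
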