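import Mathlib
import Cfsg.Prelude.Def_LieTypeDatum
import Cfsg.Prelude.Def_KGroupFacts
import Cfsg.Agent.Lib.Helper16.AF3
import Cfsg.Agent.Lib.Helper16.PU15

set_option autoImplicit false
set_option linter.unusedSectionVars false
set_option linter.unusedVariables false

namespace Cfsg.Agent.Lib.Helper16.GF

open Matrix Cfsg.Agent.Lib.Helper16.PG Cfsg.Agent.Lib.Helper16.AP Cfsg.Agent.Lib.Helper16.PU

universe u

section
variable {n : ℕ} {F : Type u} [Field F]

/-- the standard graph-field automorphism attached to `σ`. -/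
noncomputable def theta (n : ℕ) (σ : F ≃+* F) : MulAut (ProjectiveSpecialLinearGroup (Fin n) F) :=
  fieldL n σ * iota n F

theorem theta_sq (σ : F ≃+* F) (hσ : ∀ x, σ (σ x) = x) : theta n σ * theta n σ = 1 := by
  unfold theta
  have h1 : fieldL n σ * iota n F * (fieldL n σ * iota n F) =
      fieldL n σ * fieldL n σ * (iota n F * iota n F) := by
    rw [mul_assoc, ← mul_assoc (iota n F), iota_fieldL, mul_assoc, ← mul_assoc]
  rw [h1, iota_sq, mul_one, ← fieldL_mul]
  have : σ.trans σ = RingEquiv.refl F := by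
    apply RingEquiv.ext
    intro x
    exact hσ x
  rw [this, fieldL_refl]

theorem theta_Phi (σ : F ≃+* F) (g : GL (Fin n) F) :
    theta n σ * Phi n F g = Phi n F (mapGL n σ (gTI n F g)) * theta n σ := by
  unfold theta
  rw [mul_assoc, iota_mul_Phi, ← mul_assoc, fieldL_Phi, mul_assoc]

theorem fieldL_comm_theta (σ τ : F ≃+* F) (hc : ∀ x, τ (σ x) = σ (τ x)) :
    fieldL n τ * theta n σ = theta n σ * fieldL n τ := by
  unfold theta
  have h1 : fieldL n τ * fieldL n σ = fieldL n σ * fieldL n τ := by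
    rw [← fieldL_mul, ← fieldL_mul]
    congr 1
    apply RingEquiv.ext
    intro x
    exact hc x
  rw [← mul_assoc, h1, mul_assoc, mul_assoc, iota_fieldL]

theorem iota_comm_theta (σ : F ≃+* F) : iota n F * theta n σ = theta n σ * iota n F := by
  unfold theta
  rw [← mul_assoc, iota_fieldL]

end

section
variable {n : ℕ} {F : Type u} [Field F] [Fintype F] {q : ℕ}

/-- the matrices commuting with the graph-field automorphism modulo scalars are the unitary similitudes. -/
theorem comap_centralizer_theta (hF : Fintype.card F = q ^ 2) (σ : F ≃+* F) (hσ : ∀ a, σ a = a ^ q) :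
    (Subgroup.centralizer {theta n σ}).comap (Phi n F) = simU n F q := by
  ext g
  rw [Subgroup.mem_comap, Subgroup.mem_centralizer_iff, mem_simU_iff_mat σ hσ]
  have hgg : ((g⁻¹ : GL (Fin n) F) : Matrix (Fin n) (Fin n) F)ᵀ * (g : Matrix (Fin n) (Fin n) F)ᵀ = 1 := by
    rw [← Matrix.transpose_mul, gl_mul_inv, Matrix.transpose_one]
  have hgg' : (g : Matrix (Fin n) (Fin n) F)ᵀ * ((g⁻¹ : GL (Fin n) F) : Matrix (Fin n) (Fin n) F)ᵀ = 1 := by
    rw [← Matrix.transpose_mul, gl_inv_mul, Matrix.transpose_one]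
  constructor
  · intro h
    have h1 := h _ (Set.mem_singleton _)
    rw [theta_Phi, mul_left_inj] at h1
    obtain ⟨c, hc⟩ := (Phi_eq_iff _ _).mp h1
    -- hc : mapGL σ (gTI g) = g * scalGL c
    have h2 := congrArg (fun x : GL (Fin n) F => (x : Matrix (Fin n) (Fin n) F)) hc
    simp only [Units.val_mul, scalGL_val, mapGL_val, gTI_val] at h2
    rw [Matrix.mul_smul, Matrix.mul_one] at h2
    -- h2 : (g⁻¹ᵀ).map σ = c • g
    have h3 := congrArg (fun M : Matrix (Fin n) (Fin n) F => M.map ⇑σ) h2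
    simp only [map_map_bar hF σ hσ] at h3
    -- h3 : g⁻¹ᵀ = (c • g).map σ
    have h4 : ((c : F) • (g : Matrix (Fin n) (Fin n) F)).map ⇑σ = σ c • (g : Matrix (Fin n) (Fin n) F).map ⇑σ := by
      ext i j
      simp
    rw [h4] at h3
    have hc0 : σ (c : F) ≠ 0 := (map_ne_zero σ).mpr c.ne_zero
    refine ⟨Units.mk0 (σ (c : F))⁻¹ (inv_ne_zero hc0), ?_⟩
    have h5 : (g : Matrix (Fin n) (Fin n) F).map ⇑σ =
        (σ (c : F))⁻¹ • ((g⁻¹ : GL (Fin n) F) : Matrix (Fin n) (Fin n) F)ᵀ := by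
      rw [h3, smul_smul, inv_mul_cancel₀ hc0, one_smul]
    rw [h5, Matrix.mul_smul, hgg']
    rfl
  · rintro ⟨c, hc⟩ y hy
    rw [Set.mem_singleton_iff] at hy
    subst hy
    rw [theta_Phi, mul_left_inj, Phi_eq_iff]
    -- g.map σ = c • g⁻¹ᵀ
    have h5 : (g : Matrix (Fin n) (Fin n) F).map ⇑σ =
        (c : F) • ((g⁻¹ : GL (Fin n) F) : Matrix (Fin n) (Fin n) F)ᵀ := by
      have := congrArg (fun M => ((g⁻¹ : GL (Fin n) F) : Matrix (Fin n) (Fin n) F)ᵀ * M) hc
      simp only [← Matrix.mul_assoc, hgg, Matrix.one_mul, Matrix.mul_smul, Matrix.mul_one] at this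
      exact this
    have hc0 : σ (c : F) ≠ 0 := (map_ne_zero σ).mpr c.ne_zero
    refine ⟨Units.mk0 (σ (c : F))⁻¹ (inv_ne_zero hc0), ?_⟩
    apply Units.ext
    rw [Units.val_mul, scalGL_val, mapGL_val, gTI_val, Matrix.mul_smul, Matrix.mul_one]
    have h6 := congrArg (fun M : Matrix (Fin n) (Fin n) F => M.map ⇑σ) h5
    simp only [map_map_bar hF σ hσ] at h6
    have h7 : ((c : F) • ((g⁻¹ : GL (Fin n) F) : Matrix (Fin n) (Fin n) F)ᵀ).map ⇑σ =
        σ c • (((g⁻¹ : GL (Fin n) F) : Matrix (Fin n) (Fin n) F)ᵀ).map ⇑σ := by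
      ext i j
      simp
    rw [h7] at h6
    show _ = (σ (c : F))⁻¹ • (g : Matrix (Fin n) (Fin n) F)
    rw [h6, smul_smul, inv_mul_cancel₀ hc0, one_smul]

end

end Cfsg.Agent.Lib.Helper16.GF
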