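import Mathlib
import Cfsg.Prelude.Def_LieTypeDatum
import Cfsg.Prelude.Def_KGroupFacts
import Cfsg.Agent.Lib.Helper16.GF1

set_option autoImplicit false
set_option linter.unusedSectionVars false
set_option linter.unusedVariables false

namespace Cfsg.Agent.Lib.Helper16.GF

open Matrix Cfsg.Agent.Lib.Helper16.PG Cfsg.Agent.Lib.Helper16.AP Cfsg.Agent.Lib.Helper16.PU

universe u

section
variable {n : ℕ} {F : Type u} [Field F] [Fintype F] {q : ℕ}

/-- `GU_n` mapped to the automorphism group of `PSL_n`. -/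
noncomputable def LamU (n : ℕ) (F : Type u) [Field F] (q : ℕ) :
    ↥(Cfsg.GU n F q) →* MulAut (ProjectiveSpecialLinearGroup (Fin n) F) :=
  (Phi n F).comp (Subgroup.subtype _)

theorem Phi_scalG (ν : Fˣ) : Phi n F (scalG (Fin n) ν) = 1 := (Phi_eq_one_iff _).mpr (scalG_mem ν)

theorem LamU_range (hF : Fintype.card F = q ^ 2) (hn : 1 ≤ n) (σ : F ≃+* F) (hσ : ∀ a, σ a = a ^ q) :
    (LamU n F q).range = (Phi n F).range ⊓ Subgroup.centralizer {theta n σ} := by
  rw [← Subgroup.map_comap_eq, comap_centralizer_theta hF σ hσ]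
  ext y
  constructor
  · rintro ⟨g, rfl⟩
    exact ⟨g.1, GU_le_simU g.2, rfl⟩
  · rintro ⟨X, hX, rfl⟩
    obtain ⟨ν, g, hg, rfl⟩ := simU_factor hF σ hσ hn X hX
    refine ⟨⟨g, hg⟩, ?_⟩
    show Phi n F g = Phi n F (scalG (Fin n) ν * g)
    rw [map_mul, Phi_scalG, one_mul]

theorem LamU_ker : (LamU n F q).ker = (Cfsg.Geo.scalars (Fin n) F).subgroupOf (Cfsg.GU n F q) := by
  ext g
  rw [MonoidHom.mem_ker, Subgroup.mem_subgroupOf]
  exact Phi_eq_one_iff g.1

/-- the centraliser of the graph-field involution in `Inndiag` is `PGU_n`. -/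
noncomputable def centThetaEquiv (hF : Fintype.card F = q ^ 2) (hn : 1 ≤ n) (σ : F ≃+* F) (hσ : ∀ a, σ a = a ^ q) :
    ↥((Phi n F).range ⊓ Subgroup.centralizer {theta n σ}) ≃* Cfsg.PGU n F q :=
  ((MulEquiv.subgroupCongr (LamU_range hF hn σ hσ).symm).trans
    (QuotientGroup.quotientKerEquivRange (LamU n F q)).symm).trans
    (QuotientGroup.quotientMulEquivOfEq LamU_ker)

/-- the conjugates of the standard graph-field involution under the full automorphism group are conjugates under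
the inner-diagonal group. -/
theorem aut_conj_theta (hn : 2 ≤ n) (σ : F ≃+* F) (hσ : ∀ a, σ a = a ^ q)
    (β : MulAut (ProjectiveSpecialLinearGroup (Fin n) F)) :
    ∃ g : GL (Fin n) F, β * theta n σ * β⁻¹ = Phi n F g * theta n σ * (Phi n F g)⁻¹ := by
  obtain ⟨g, τ, ε, hε, rfl⟩ := aut_PSL_struct hn β
  refine ⟨g, ?_⟩
  have h1 : ε * theta n σ = theta n σ * ε := by
    rcases hε with rfl | rfl
    · rw [one_mul, mul_one]
    · exact iota_comm_theta σ
  have h2 : fieldL n τ * theta n σ = theta n σ * fieldL n τ :=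
    fieldL_comm_theta σ τ (fun x => bar_comm σ hσ τ x)
  calc Phi n F g * fieldL n τ * ε * theta n σ * (Phi n F g * fieldL n τ * ε)⁻¹
      = Phi n F g * fieldL n τ * (ε * theta n σ) * ε⁻¹ * (fieldL n τ)⁻¹ * (Phi n F g)⁻¹ := by
        simp only [_root_.mul_inv_rev, mul_assoc]
    _ = Phi n F g * (fieldL n τ * theta n σ) * (fieldL n τ)⁻¹ * (Phi n F g)⁻¹ := by
        rw [h1]; simp only [mul_assoc, mul_inv_cancel_left]
    _ = Phi n F g * theta n σ * (Phi n F g)⁻¹ := by
        rw [h2]; simp only [mul_assoc, mul_inv_cancel_left]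

end

end Cfsg.Agent.Lib.Helper16.GF
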