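import Mathlib
import Cfsg.Prelude.Def_LieTypeDatum
import Cfsg.Prelude.Def_KGroupFacts
import Cfsg.Agent.Lib.Helper16.GF2

set_option autoImplicit false
set_option linter.unusedSectionVars false
set_option linter.unusedVariables false

namespace Cfsg.Agent.Lib.Helper16.GF

open Matrix Cfsg.Agent.Lib.Helper16.PG Cfsg.Agent.Lib.Helper16.AP Cfsg.Agent.Lib.Helper16.PU

universe u

section
variable {n : ℕ} {F : Type u} [Field F] [Fintype F] {p f : ℕ} [Fact p.Prime]

theorem theta_mul_self (σ : F ≃+* F) : theta n σ * theta n σ = fieldL n (σ.trans σ) := by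
  unfold theta
  have h1 : fieldL n σ * iota n F * (fieldL n σ * iota n F) =
      fieldL n σ * fieldL n σ * (iota n F * iota n F) := by
    rw [mul_assoc, ← mul_assoc (iota n F), iota_fieldL, mul_assoc, ← mul_assoc]
  rw [h1, iota_sq, mul_one, ← fieldL_mul]

/-- normal form of a graph-field involution. -/
theorem graph_field_normal_form (hF : Fintype.card F = p ^ f) (hn : 3 ≤ n)
    (x : MulAut (Matrix.ProjectiveSpecialLinearGroup (Fin n) F)) (hx : Cfsg.IsGraphFieldAutClassPSL x)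
    (hx2 : orderOf x = 2) :
    Even f ∧ ∃ (σ : F ≃+* F) (g : GL (Fin n) F), (∀ a, σ a = a ^ (p ^ (f / 2))) ∧
      x = Phi n F g * theta n σ * (Phi n F g)⁻¹ := by
  obtain ⟨-, α, φ, γ, σ', hσ', hφ, hγ, hconj⟩ := hx
  rw [isStdField_iff] at hφ
  rw [isInvTranspose_iff] at hγ
  subst hφ
  subst hγ
  have hconj' : α * x * α⁻¹ = theta n σ' := hconj
  have hsq : theta n σ' * theta n σ' = 1 := by
    rw [← hconj']
    have : x * x = 1 := by rw [← pow_two, ← hx2]; exact pow_orderOf_eq_one x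
    calc α * x * α⁻¹ * (α * x * α⁻¹) = α * (x * x) * α⁻¹ := by group
      _ = 1 := by rw [this]; group
  rw [theta_mul_self] at hsq
  have hinv : ∀ y, σ' (σ' y) = y := by
    intro y
    have h1 : σ'.trans σ' = RingEquiv.refl F := by
      apply AF.fieldLHom_injective (by omega : 2 ≤ n)
      show fieldL n (σ'.trans σ') = fieldL n (RingEquiv.refl F)
      rw [hsq, fieldL_refl]
    exact DFunLike.congr_fun h1 y
  have hord : orderOf (σ' : RingAut F) = 2 := by
    apply orderOf_eq_prime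
    · apply RingEquiv.ext
      intro y
      rw [pow_two]
      exact hinv y
    · exact hσ'
  obtain ⟨-, hcard⟩ := galF_cyclic_card hF
  have h2f : 2 ∣ f := by
    have := orderOf_dvd_natCard (σ' : RingAut F)
    rwa [hord, hcard] at this
  refine ⟨even_iff_two_dvd.mpr h2f, ?_⟩
  have hF' : Fintype.card F = (p ^ (f / 2)) ^ 2 := by
    rw [hF, ← pow_mul, Nat.div_mul_cancel h2f]
  obtain ⟨σ, hσ⟩ := exists_bar hF'
  have hσeq : σ' = σ := invol_eq_bar hF' σ hσ σ' hinv hσ'
  subst hσeq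
  obtain ⟨g, hg⟩ := aut_conj_theta (by omega : 2 ≤ n) σ' hσ α⁻¹
  refine ⟨σ', g, hσ, ?_⟩
  rw [← hg, ← hconj', inv_inv]
  group

end

section
variable {n : ℕ} {F : Type u} [Field F] [Fintype F] {q : ℕ}

theorem det_GU_pow (σ : F ≃+* F) (hσ : ∀ a, σ a = a ^ q) (g : GL (Fin n) F) (hg : g ∈ Cfsg.GU n F q) :
    Matrix.GeneralLinearGroup.det g ∈ (powMonoidHom (q + 1) : Fˣ →* Fˣ).ker := by
  rw [MonoidHom.mem_ker, powMonoidHom_apply]
  apply Units.ext
  rw [Units.val_pow_eq_pow_val, Matrix.GeneralLinearGroup.val_det_apply, Units.val_one]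
  have h1 := (mem_GU_iff_mat σ hσ g).mp hg
  have h2 := congrArg Matrix.det h1
  rw [Matrix.det_mul, Matrix.det_transpose, Matrix.det_one] at h2
  have h3 : ((g : Matrix (Fin n) (Fin n) F).map ⇑σ).det = σ (g : Matrix (Fin n) (Fin n) F).det := by
    have := (RingHom.map_det (σ : F →+* F) (g : Matrix (Fin n) (Fin n) F)).symm
    exact this
  rw [h3, hσ, ← pow_succ'] at h2
  exact h2

theorem exists_GU_det (hn : 1 ≤ n) (σ : F ≃+* F) (hσ : ∀ a, σ a = a ^ q) (u : Fˣ)
    (hu : u ∈ (powMonoidHom (q + 1) : Fˣ →* Fˣ).ker) :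
    ∃ g : GL (Fin n) F, g ∈ Cfsg.GU n F q ∧ Matrix.GeneralLinearGroup.det g = u := by
  rw [MonoidHom.mem_ker, powMonoidHom_apply] at hu
  have hu' : (u : F) * σ u = 1 := by
    rw [hσ, ← pow_succ', ← Units.val_pow_eq_pow_val, hu, Units.val_one]
  let i₀ : Fin n := ⟨0, by omega⟩
  set d : Fin n → F := Function.update (fun _ => (1 : F)) i₀ (u : F) with hd
  have hdet : (Matrix.diagonal d).det = (u : F) := by
    rw [Matrix.det_diagonal, hd]
    rw [Finset.prod_update_of_mem (Finset.mem_univ i₀)]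
    simp
  have hne : (Matrix.diagonal d).det ≠ 0 := by rw [hdet]; exact u.ne_zero
  refine ⟨Matrix.GeneralLinearGroup.mkOfDetNeZero (Matrix.diagonal d) hne, ?_, ?_⟩
  · rw [mem_GU_iff_mat σ hσ]
    show (Matrix.diagonal d)ᵀ * (Matrix.diagonal d).map ⇑σ = 1
    rw [Matrix.diagonal_transpose, Matrix.diagonal_map (map_zero σ), Matrix.diagonal_mul_diagonal, ← Matrix.diagonal_one]
    congr 1
    funext i
    rw [hd]
    by_cases hi : i = i₀
    · rw [hi, Function.update_self]; exact hu'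
    · rw [Function.update_of_ne hi]; simp
  · apply Units.ext
    rw [Matrix.GeneralLinearGroup.val_det_apply]
    exact hdet

/-- the split class count of the graph-field involution. -/
theorem splitClassCount_theta (hF : Fintype.card F = q ^ 2) (hn : 1 ≤ n) (σ : F ≃+* F) (hσ : ∀ a, σ a = a ^ q) :
    Cfsg.splitClassCount (Phi n F).range (Cfsg.Inn (ProjectiveSpecialLinearGroup (Fin n) F)) (theta n σ) =
      Nat.gcd n (q - 1) := by
  have : Nonempty (Fin n) := ⟨⟨0, by omega⟩⟩
  have hq2 := q_ge_two' hF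
  rw [SC.splitClassCount_via_hom (Phi n F) (Matrix.GeneralLinearGroup.det : GL (Fin n) F →* Fˣ)
    Matrix.GeneralLinearGroup.det_surjective ((powMonoidHom n : Fˣ →* Fˣ).range) _ AF.Inn_le_range_Phi AF.comap_Inn_eq,
    comap_centralizer_theta hF σ hσ]
  have h1 : (powMonoidHom n : Fˣ →* Fˣ).range ⊔ (simU n F q).map Matrix.GeneralLinearGroup.det =
      (powMonoidHom n : Fˣ →* Fˣ).range ⊔ (powMonoidHom (q + 1) : Fˣ →* Fˣ).ker := by
    apply le_antisymm
    · apply sup_le le_sup_left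
      rintro _ ⟨X, hX, rfl⟩
      obtain ⟨ν, g, hg, rfl⟩ := simU_factor hF σ hσ hn X hX
      show Matrix.GeneralLinearGroup.det (scalG (Fin n) ν * g) ∈ _
      rw [map_mul]
      apply Subgroup.mul_mem
      · apply Subgroup.mem_sup_left
        refine ⟨ν, ?_⟩
        exact (det_scalGL ν).symm
      · exact Subgroup.mem_sup_right (det_GU_pow σ hσ g hg)
    · apply sup_le le_sup_left
      intro u hu
      obtain ⟨g, hg, hgu⟩ := exists_GU_det hn σ hσ u hu
      exact Subgroup.mem_sup_right ⟨g, GU_le_simU hg, hgu⟩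
  rw [h1, SC.index_pow_sup, IsCyclic.index_powMonoidHom_ker, Nat.card_units, Nat.card_eq_fintype_card, hF]
  congr 1
  have h2 : q ^ 2 - 1 = (q - 1) * (q + 1) := by
    have : q ^ 2 = (q - 1) * (q + 1) + 1 := by
      obtain ⟨k, rfl⟩ : ∃ k, q = k + 1 := ⟨q - 1, by omega⟩
      simp only [Nat.add_sub_cancel]
      ring
    omega
  rw [h2, Nat.gcd_mul_left_left, Nat.mul_div_cancel _ (by omega : 0 < q + 1)]

end

end Cfsg.Agent.Lib.Helper16.GF
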