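import Mathlib
import Cfsg.Prelude.Def_LieTypeDatum
import Cfsg.Prelude.Def_KGroupFacts
import Cfsg.Agent.Lib.Helper16.AF3

set_option autoImplicit false
set_option linter.unusedSectionVars false
set_option linter.unusedVariables false

namespace Cfsg.Agent.Lib.Helper16.H9

open Matrix Cfsg.Agent.Lib.Helper16.PG Cfsg.Agent.Lib.Helper16.AP Cfsg.Agent.Lib.Helper16.PU

universe u

section
variable {n : ℕ} {F : Type u} [Field F]

/-- Dedekind independence for the powers of an automorphism. -/
theorem dedekind_pow (σ : RingAut F) (r : ℕ) (hinj : ∀ i j, i < r → j < r → σ ^ i = σ ^ j → i = j)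
    (a : ℕ → F) (h : ∀ c : F, ∑ i ∈ Finset.range r, a i * (σ ^ i) c = 0) : ∀ i, i < r → a i = 0 := by
  have hli := linearIndependent_monoidHom F F
  let ch : Fin r → (F →* F) := fun i => ((σ ^ (i : ℕ) : RingAut F) : F ≃+* F).toMulEquiv.toMonoidHom
  have hchapp : ∀ (i : Fin r) (c : F), ch i c = (σ ^ (i : ℕ)) c := fun i c => rfl
  have hch : Function.Injective ch := by
    intro i j hij
    apply Fin.ext
    apply hinj _ _ i.2 j.2
    apply RingEquiv.ext
    intro c
    rw [← hchapp, ← hchapp, hij]
  have hli' := hli.comp ch hch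
  rw [Fintype.linearIndependent_iff] at hli'
  intro i hi
  refine hli' (fun i => a i) ?_ ⟨i, hi⟩
  funext c
  simp only [Function.comp, Finset.sum_apply, Pi.smul_apply, smul_eq_mul, Pi.zero_apply]
  have := h c
  rw [← Fin.sum_univ_eq_sum_range (fun i => a i * (σ ^ i) c) r] at this
  exact this

/-- the twisted partial norms of a matrix. -/
noncomputable def tw (σ : RingAut F) (g : GL (Fin n) F) : ℕ → GL (Fin n) F
  | 0 => 1
  | k + 1 => g * mapGL n σ (tw σ g k)

theorem tw_zero (σ : RingAut F) (g : GL (Fin n) F) : tw σ g 0 = 1 := rfl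

theorem tw_succ (σ : RingAut F) (g : GL (Fin n) F) (k : ℕ) : tw σ g (k + 1) = g * mapGL n σ (tw σ g k) := rfl

theorem pow_Phi_fieldL (σ : RingAut F) (g : GL (Fin n) F) (k : ℕ) :
    (Phi n F g * fieldL n σ) ^ k = Phi n F (tw σ g k) * fieldL n (σ ^ k) := by
  induction k with
  | zero =>
    rw [pow_zero, pow_zero, tw_zero, map_one, one_mul]
    exact fieldL_refl.symm
  | succ k ih =>
    rw [pow_succ', ih, tw_succ, map_mul, pow_succ']
    have h1 : fieldL n (σ * σ ^ k) = fieldL n σ * fieldL n (σ ^ k) := map_mul (fieldLHom n F) σ (σ ^ k)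
    rw [h1]
    calc Phi n F g * fieldL n σ * (Phi n F (tw σ g k) * fieldL n (σ ^ k))
        = Phi n F g * (fieldL n σ * Phi n F (tw σ g k)) * fieldL n (σ ^ k) := by simp only [mul_assoc]
      _ = _ := by rw [fieldL_Phi]; simp only [mul_assoc]

/-- the semilinear operator `v ↦ A σ(v)`. -/
def semi (σ : RingAut F) (A : GL (Fin n) F) (w : Fin n → F) : Fin n → F :=
  (A : Matrix (Fin n) (Fin n) F) *ᵥ (⇑σ ∘ w)

theorem semi_add (σ : RingAut F) (A : GL (Fin n) F) (u w : Fin n → F) :
    semi σ A (u + w) = semi σ A u + semi σ A w := by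
  unfold semi
  rw [← Matrix.mulVec_add]
  congr 1
  funext i
  simp

theorem semi_zero (σ : RingAut F) (A : GL (Fin n) F) : semi σ A 0 = 0 := by
  unfold semi
  have : (⇑σ ∘ (0 : Fin n → F)) = 0 := by
    funext i
    simp
  rw [this, Matrix.mulVec_zero]

theorem semi_sum {ι : Type*} (σ : RingAut F) (A : GL (Fin n) F) (s : Finset ι) (w : ι → Fin n → F) :
    semi σ A (∑ i ∈ s, w i) = ∑ i ∈ s, semi σ A (w i) := by
  classical
  induction s using Finset.induction_on with
  | empty => simp [semi_zero]
  | insert a s ha ih => rw [Finset.sum_insert ha, Finset.sum_insert ha, semi_add, ih]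

/-- the iterates of the semilinear operator. -/
noncomputable def semiK (σ : RingAut F) (A : GL (Fin n) F) (k : ℕ) (w : Fin n → F) : Fin n → F :=
  (tw σ A k : Matrix (Fin n) (Fin n) F) *ᵥ (⇑(σ ^ k) ∘ w)

theorem semiK_zero (σ : RingAut F) (A : GL (Fin n) F) (w : Fin n → F) : semiK σ A 0 w = w := by
  unfold semiK
  rw [tw_zero, pow_zero]
  have : (⇑(1 : RingAut F) ∘ w) = w := by
    funext i
    rfl
  rw [this, Units.val_one, Matrix.one_mulVec]

theorem semi_semiK (σ : RingAut F) (A : GL (Fin n) F) (k : ℕ) (w : Fin n → F) :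
    semi σ A (semiK σ A k w) = semiK σ A (k + 1) w := by
  unfold semi semiK
  rw [tw_succ, Units.val_mul, mapGL_val, ← Matrix.mulVec_mulVec]
  congr 1
  funext i
  rw [Function.comp_apply]
  have := RingHom.map_mulVec (σ : F ≃+* F).toRingHom (tw σ A k : Matrix (Fin n) (Fin n) F) (⇑(σ ^ k) ∘ w) i
  rw [RingEquiv.toRingHom_eq_coe, RingHom.coe_coe] at this
  have hc : ⇑σ ∘ ⇑(σ ^ k) ∘ w = ⇑(σ ^ (k + 1)) ∘ w := by
    funext j
    rw [pow_succ']
    rfl
  rw [this, hc]

theorem semiK_smul (σ : RingAut F) (A : GL (Fin n) F) (k : ℕ) (c : F) (w : Fin n → F) :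
    semiK σ A k (c • w) = (σ ^ k) c • semiK σ A k w := by
  unfold semiK
  rw [← Matrix.mulVec_smul]
  congr 1
  funext i
  simp

theorem semiK_of_one (σ : RingAut F) (A : GL (Fin n) F) (r : ℕ) (hσr : σ ^ r = 1) (hA : tw σ A r = 1)
    (w : Fin n → F) : semiK σ A r w = w := by
  unfold semiK
  rw [hA, hσr, Units.val_one, Matrix.one_mulVec]
  rfl

/-- Hilbert 90 for `GL_n` and a cyclic group of field automorphisms. -/
theorem h90_GL (σ : RingAut F) (r : ℕ) (hinj : ∀ i j, i < r → j < r → σ ^ i = σ ^ j → i = j) (hr0 : 0 < r)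
    (hσr : σ ^ r = 1) (A : GL (Fin n) F) (hA : tw σ A r = 1) :
    ∃ B : GL (Fin n) F, A * mapGL n σ B = B := by
  classical
  set P : (Fin n → F) → (Fin n → F) := fun v => ∑ i ∈ Finset.range r, semiK σ A i v with hP
  have hfix : ∀ v, semi σ A (P v) = P v := by
    intro v
    rw [hP]
    simp only
    rw [semi_sum]
    have h1 : ∀ i ∈ Finset.range r, semi σ A (semiK σ A i v) = semiK σ A (i + 1) v :=
      fun i _ => semi_semiK σ A i v
    rw [Finset.sum_congr rfl h1]
    have h2 := Finset.sum_range_succ' (fun i => semiK σ A i v) r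
    have h3 := Finset.sum_range_succ (fun i => semiK σ A i v) r
    rw [h3, semiK_zero, semiK_of_one σ A r hσr hA] at h2
    exact (add_right_cancel h2).symm
  have hspan : Submodule.span F (Set.range P) = ⊤ := by
    by_contra hne
    obtain ⟨u, hu0, hle⟩ := Submodule.exists_le_ker_of_lt_top _ (lt_top_iff_ne_top.mpr hne)
    apply hu0
    apply LinearMap.ext
    intro v
    have hd := dedekind_pow σ r hinj (fun i => u (semiK σ A i v)) ?_ 0 hr0
    · have hd' : u (semiK σ A 0 v) = 0 := hd
      rw [semiK_zero] at hd'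
      rw [hd', LinearMap.zero_apply]
    · intro c
      have h1 : u (P (c • v)) = 0 := by
        have : P (c • v) ∈ LinearMap.ker u := hle (Submodule.subset_span ⟨_, rfl⟩)
        exact this
      rw [hP] at h1
      simp only at h1
      rw [map_sum] at h1
      rw [← h1]
      apply Finset.sum_congr rfl
      intro i _
      rw [semiK_smul, map_smul, smul_eq_mul, mul_comm]
  obtain ⟨b, hbsub, hbspan, hbli⟩ := exists_linearIndependent F (Set.range P)
  let bs : Module.Basis b F (Fin n → F) := Module.Basis.mk hbli (by rw [Subtype.range_coe, hbspan, hspan])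
  have hfin : Finite b := Module.Finite.finite_basis bs
  have hft : Fintype b := Fintype.ofFinite b
  have hcard : Fintype.card b = n := by
    rw [← Module.finrank_eq_card_basis bs, Module.finrank_fin_fun]
  let e : Fin n ≃ b := (Fintype.equivFinOfCardEq hcard).symm
  set M : Matrix (Fin n) (Fin n) F := Matrix.of fun i j => ((e j : b) : Fin n → F) i with hM
  have hMunit : IsUnit M := by
    apply Matrix.linearIndependent_cols_iff_isUnit.mp
    show LinearIndependent F (fun j => ((e j : b) : Fin n → F))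
    exact hbli.comp e e.injective
  have hefix : ∀ j, semi σ A ((e j : b) : Fin n → F) = ((e j : b) : Fin n → F) := by
    intro j
    obtain ⟨v, hv⟩ := hbsub (e j).2
    rw [← hv]
    exact hfix v
  have hAM : (A : Matrix (Fin n) (Fin n) F) * M.map ⇑σ = M := by
    ext i j
    have := congrFun (hefix j) i
    unfold semi at this
    rw [Matrix.mul_apply]
    rw [Matrix.mulVec, dotProduct] at this
    exact this
  refine ⟨hMunit.unit, ?_⟩
  apply Units.ext
  rw [Units.val_mul, mapGL_val, IsUnit.unit_spec]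
  exact hAM

end

end Cfsg.Agent.Lib.Helper16.H9
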