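import Mathlib
import Cfsg.Prelude.Def_LieTypeDatum
import Cfsg.Prelude.Def_KGroupFacts
import Cfsg.Agent.Lib.Helper16.H9a

set_option autoImplicit false
set_option linter.unusedSectionVars false
set_option linter.unusedVariables false

namespace Cfsg.Agent.Lib.Helper16.H9

open Matrix Cfsg.Agent.Lib.Helper16.PG Cfsg.Agent.Lib.Helper16.AP Cfsg.Agent.Lib.Helper16.PU

universe u

section
variable {n : ℕ} {F : Type u} [Field F]

/-- a field automorphism acting on units. -/
noncomputable def uσ (τ : RingAut F) : Fˣ →* Fˣ := Units.map ((τ : F ≃+* F).toMulEquiv.toMonoidHom)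

theorem uσ_val (τ : RingAut F) (d : Fˣ) : ((uσ τ d : Fˣ) : F) = τ (d : F) := rfl

theorem uσ_one (d : Fˣ) : uσ (1 : RingAut F) d = d := Units.ext rfl

theorem uσ_mul (σ τ : RingAut F) (d : Fˣ) : uσ (σ * τ) d = uσ σ (uσ τ d) := Units.ext rfl

theorem scalGL_mul (c d : Fˣ) : (scalGL n (c * d) : GL (Fin n) F) = scalGL n c * scalGL n d := by
  unfold scalGL
  rw [map_mul]

theorem scalGL_one : (scalGL n (1 : Fˣ) : GL (Fin n) F) = 1 := by
  unfold scalGL
  rw [map_one]

theorem scalGL_inv (c : Fˣ) : (scalGL n c⁻¹ : GL (Fin n) F) = (scalGL n c)⁻¹ := by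
  unfold scalGL
  rw [map_inv]

theorem scalGL_comm (c : Fˣ) (g : GL (Fin n) F) : scalGL n c * g = g * scalGL n c := by
  apply Units.ext
  rw [Units.val_mul, Units.val_mul, scalGL_val, Matrix.smul_mul, Matrix.mul_smul, Matrix.one_mul, Matrix.mul_one]

theorem scalGL_injective (hn : 1 ≤ n) : Function.Injective (scalGL n : Fˣ → GL (Fin n) F) := by
  intro c d h
  apply Units.ext
  have h1 := congrArg (fun g : GL (Fin n) F => (g : Matrix (Fin n) (Fin n) F) ⟨0, hn⟩ ⟨0, hn⟩) h
  simp only [scalGL_val, Matrix.smul_apply, Matrix.one_apply_eq, smul_eq_mul, mul_one] at h1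
  exact h1

theorem mapGL_scalGL (σ : RingAut F) (c : Fˣ) : mapGL n σ (scalGL n c) = scalGL n (uσ σ c) := by
  apply Units.ext
  rw [mapGL_val, scalGL_val, scalGL_val, uσ_val]
  ext i j
  rw [Matrix.map_apply, Matrix.smul_apply, Matrix.smul_apply, smul_eq_mul, smul_eq_mul, map_mul]
  by_cases hij : i = j
  · subst hij
    rw [Matrix.one_apply_eq, map_one]
  · rw [Matrix.one_apply_ne hij, map_zero]

theorem mapGL_one_aut (g : GL (Fin n) F) : mapGL n (1 : RingAut F) g = g := by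
  apply Units.ext
  rw [mapGL_val]
  ext i j
  rfl

theorem mapGL_mul_aut (σ τ : RingAut F) (g : GL (Fin n) F) : mapGL n (σ * τ) g = mapGL n σ (mapGL n τ g) := by
  apply Units.ext
  rw [mapGL_val, mapGL_val, mapGL_val]
  ext i j
  rfl

/-- the cocycle formula for twisted norms. -/
theorem tw_add (σ : RingAut F) (g : GL (Fin n) F) (j k : ℕ) :
    tw σ g (j + k) = tw σ g j * mapGL n (σ ^ j) (tw σ g k) := by
  induction j with
  | zero => rw [Nat.zero_add, tw_zero, one_mul, pow_zero, mapGL_one_aut]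
  | succ j ih =>
    rw [Nat.add_right_comm, tw_succ, ih, map_mul, tw_succ, pow_succ', mapGL_mul_aut, mul_assoc]

theorem tw_one (σ : RingAut F) (g : GL (Fin n) F) : tw σ g 1 = g := by
  rw [tw_succ, tw_zero, map_one, mul_one]

/-- partial norms of a unit. -/
noncomputable def nu (σ : RingAut F) (d : Fˣ) : ℕ → Fˣ
  | 0 => 1
  | k + 1 => d * uσ σ (nu σ d k)

theorem nu_zero (σ : RingAut F) (d : Fˣ) : nu σ d 0 = 1 := rfl

theorem nu_succ (σ : RingAut F) (d : Fˣ) (k : ℕ) : nu σ d (k + 1) = d * uσ σ (nu σ d k) := rfl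

theorem tw_scalGL (σ : RingAut F) (d : Fˣ) (k : ℕ) : tw σ (scalGL n d) k = scalGL n (nu σ d k) := by
  induction k with
  | zero => rw [tw_zero, nu_zero, scalGL_one]
  | succ k ih => rw [tw_succ, ih, mapGL_scalGL, ← scalGL_mul, nu_succ]

theorem tw_mul_scalGL (σ : RingAut F) (g : GL (Fin n) F) (e : Fˣ) (k : ℕ) :
    tw σ (g * scalGL n e) k = tw σ g k * scalGL n (nu σ e k) := by
  induction k with
  | zero => rw [tw_zero, tw_zero, nu_zero, scalGL_one, mul_one]
  | succ k ih =>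
    rw [tw_succ, ih, map_mul, mapGL_scalGL, tw_succ, nu_succ, scalGL_mul]
    calc g * scalGL n e * (mapGL n σ (tw σ g k) * scalGL n (uσ σ (nu σ e k)))
        = g * (scalGL n e * mapGL n σ (tw σ g k)) * scalGL n (uσ σ (nu σ e k)) := by simp only [mul_assoc]
      _ = _ := by rw [scalGL_comm]; simp only [mul_assoc]

theorem nu_mul (σ : RingAut F) (d e : Fˣ) (k : ℕ) : nu σ (d * e) k = nu σ d k * nu σ e k := by
  induction k with
  | zero => rw [nu_zero, nu_zero, nu_zero, one_mul]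
  | succ k ih => rw [nu_succ, nu_succ, nu_succ, ih, map_mul, mul_mul_mul_comm]

theorem nu_one (σ : RingAut F) (k : ℕ) : nu σ (1 : Fˣ) k = 1 := by
  induction k with
  | zero => rfl
  | succ k ih => rw [nu_succ, ih, map_one, one_mul]

/-- the norm homomorphism. -/
noncomputable def nuHom (σ : RingAut F) (k : ℕ) : Fˣ →* Fˣ where
  toFun d := nu σ d k
  map_one' := nu_one σ k
  map_mul' d e := nu_mul σ d e k

theorem nuHom_apply (σ : RingAut F) (k : ℕ) (d : Fˣ) : nuHom σ k d = nu σ d k := rfl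

/-- the other recursion. -/
theorem nu_succ' (σ : RingAut F) (d : Fˣ) (k : ℕ) : nu σ d (k + 1) = nu σ d k * uσ (σ ^ k) d := by
  induction k with
  | zero => rw [nu_succ, nu_zero, map_one, mul_one, one_mul, pow_zero, uσ_one]
  | succ k ih =>
    rw [nu_succ, ih, map_mul, ← mul_assoc, ← nu_succ, pow_succ', uσ_mul, ← ih]

theorem uσ_nu_fixed (σ : RingAut F) (r : ℕ) (hσr : σ ^ r = 1) (d : Fˣ) : uσ σ (nu σ d r) = nu σ d r := by
  have h1 := nu_succ σ d r
  rw [nu_succ', hσr, uσ_one, mul_comm] at h1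
  exact (mul_left_cancel h1).symm

/-- Hilbert 90 for units. -/
theorem h90_units (σ : RingAut F) (r : ℕ) (hinj : ∀ i j, i < r → j < r → σ ^ i = σ ^ j → i = j) (hr0 : 0 < r)
    (hσr : σ ^ r = 1) (d : Fˣ) (hd : nu σ d r = 1) : ∃ e : Fˣ, d * uσ σ e = e := by
  have hA : tw σ (scalGL 1 d) r = 1 := by rw [tw_scalGL, hd, scalGL_one]
  obtain ⟨B, hB⟩ := h90_GL σ r hinj hr0 hσr (scalGL 1 d) hA
  have hB00 : (B : Matrix (Fin 1) (Fin 1) F) 0 0 ≠ 0 := by
    have h1 : IsUnit (B : Matrix (Fin 1) (Fin 1) F).det := (Matrix.isUnit_iff_isUnit_det _).mp B.isUnit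
    rw [Matrix.det_fin_one] at h1
    exact h1.ne_zero
  refine ⟨Units.mk0 _ hB00, ?_⟩
  apply Units.ext
  rw [Units.val_mul, uσ_val, Units.val_mk0]
  have h2 := congrArg (fun g : GL (Fin 1) F => (g : Matrix (Fin 1) (Fin 1) F) 0 0) hB
  simp only [Units.val_mul, scalGL_val, mapGL_val, Matrix.smul_mul, Matrix.one_mul, Matrix.smul_apply,
    Matrix.map_apply, smul_eq_mul] at h2
  exact h2

end

section
variable {n : ℕ} {F : Type u} [Field F] [Finite F]

/-- surjectivity of the norm onto the fixed units. -/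
theorem norm_surj (σ : RingAut F) (r : ℕ) (hinj : ∀ i j, i < r → j < r → σ ^ i = σ ^ j → i = j) (hr0 : 0 < r)
    (hσr : σ ^ r = 1) (c : Fˣ) (hc : uσ σ c = c) : ∃ d : Fˣ, nu σ d r = c := by
  let R : Fˣ →* Fˣ :=
    { toFun := fun e => e / uσ σ e
      map_one' := by rw [map_one, div_one]
      map_mul' := fun a b => by rw [map_mul, div_mul_div_comm] }
  have hRapp : ∀ e, R e = e / uσ σ e := fun e => rfl
  have h1 : (nuHom σ r).ker ≤ R.range := by
    intro d hd
    rw [MonoidHom.mem_ker, nuHom_apply] at hd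
    obtain ⟨e, he⟩ := h90_units σ r hinj hr0 hσr d hd
    refine ⟨e, ?_⟩
    rw [hRapp, div_eq_iff_eq_mul]
    exact he.symm
  have h2 : (nuHom σ r).range ≤ R.ker := by
    rintro _ ⟨d, rfl⟩
    rw [MonoidHom.mem_ker, hRapp, nuHom_apply, uσ_nu_fixed σ r hσr, div_self']
  have h3 := Subgroup.card_mul_index (nuHom σ r).ker
  have h4 := Subgroup.card_mul_index R.ker
  rw [Subgroup.index_ker] at h3 h4
  have h5 : Nat.card (nuHom σ r).ker ≤ Nat.card R.range := Subgroup.card_le_of_le h1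
  have hpos : 0 < Nat.card R.range := Nat.card_pos
  have h6 : Nat.card R.ker ≤ Nat.card (nuHom σ r).range := by
    have h7 : Nat.card R.ker * Nat.card R.range ≤ Nat.card (nuHom σ r).range * Nat.card R.range := by
      rw [h4, ← h3, mul_comm]
      exact Nat.mul_le_mul_left _ h5
    exact Nat.le_of_mul_le_mul_right h7 hpos
  have h8 : (nuHom σ r).range = R.ker := Subgroup.eq_of_le_of_card_ge h2 h6
  have h9 : c ∈ R.ker := by
    rw [MonoidHom.mem_ker, hRapp, hc, div_self']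
  rw [← h8] at h9
  obtain ⟨d, hd⟩ := h9
  exact ⟨d, hd⟩

end

end Cfsg.Agent.Lib.Helper16.H9
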