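import Mathlib
import Cfsg.Agent.S2573
import Cfsg.Agent.S2571

set_option autoImplicit false

open Matrix Module

namespace Cfsg.Agent.Lib.Helper16

section
variable {F : Type*} [Field F] {m : ℕ}

def shiftN (F : Type*) [Field F] (n : ℕ) : Matrix (Fin n) (Fin n) F :=
  Matrix.of fun j i => if (j : ℕ) = (i : ℕ) + 1 then 1 else 0

theorem shiftN_mul_apply_zero {n : ℕ} (g : Matrix (Fin n) (Fin n) F) (j i : Fin n) (hj : (j : ℕ) = 0) :
    (shiftN F n * g) j i = 0 := by
  rw [Matrix.mul_apply]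
  apply Finset.sum_eq_zero
  intro l _
  have : ¬ ((j : ℕ) = (l : ℕ) + 1) := by omega
  simp [shiftN, this]

theorem shiftN_mul_apply_succ {n : ℕ} (g : Matrix (Fin n) (Fin n) F) (j i : Fin n) (j' : ℕ) (hj : (j : ℕ) = j' + 1) :
    (shiftN F n * g) j i = g ⟨j', by omega⟩ i := by
  rw [Matrix.mul_apply, Finset.sum_eq_single (⟨j', by omega⟩ : Fin n)]
  · simp [shiftN, hj]
  · intro l _ hl
    have : ¬ ((j : ℕ) = (l : ℕ) + 1) := by
      intro h
      apply hl
      apply Fin.ext
      simp only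
      omega
    simp [shiftN, this]
  · intro h; exact absurd (Finset.mem_univ _) h

theorem mul_shiftN_apply_lt {n : ℕ} (g : Matrix (Fin n) (Fin n) F) (j i : Fin n) (hi : (i : ℕ) + 1 < n) :
    (g * shiftN F n) j i = g j ⟨(i : ℕ) + 1, hi⟩ := by
  rw [Matrix.mul_apply, Finset.sum_eq_single (⟨(i : ℕ) + 1, hi⟩ : Fin n)]
  · simp [shiftN]
  · intro l _ hl
    have : ¬ ((l : ℕ) = (i : ℕ) + 1) := by
      intro h
      apply hl
      apply Fin.ext
      simp only
      omega
    simp [shiftN, this]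
  · intro h; exact absurd (Finset.mem_univ _) h

theorem mul_shiftN_apply_last {n : ℕ} (g : Matrix (Fin n) (Fin n) F) (j i : Fin n) (hi : ¬ (i : ℕ) + 1 < n) :
    (g * shiftN F n) j i = 0 := by
  rw [Matrix.mul_apply]
  apply Finset.sum_eq_zero
  intro l _
  have : ¬ ((l : ℕ) = (i : ℕ) + 1) := by
    have := l.2
    omega
  simp [shiftN, this]

theorem shiftN_pow_apply {n : ℕ} (k : ℕ) (j i : Fin n) :
    (shiftN F n ^ k) j i = if (j : ℕ) = (i : ℕ) + k then 1 else 0 := by
  induction k generalizing j with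
  | zero =>
    simp only [pow_zero, add_zero, Matrix.one_apply, Fin.ext_iff]
  | succ k ih =>
    rw [pow_succ']
    rcases Nat.eq_zero_or_pos (j : ℕ) with hj | hj
    · rw [shiftN_mul_apply_zero _ j i hj]
      have : ¬ ((j : ℕ) = (i : ℕ) + (k + 1)) := by omega
      simp [this]
    · obtain ⟨j', hj'⟩ : ∃ j', (j : ℕ) = j' + 1 := ⟨(j : ℕ) - 1, by omega⟩
      rw [shiftN_mul_apply_succ _ j i j' hj', ih]
      simp only [hj']
      by_cases h : j' = (i : ℕ) + k
      · have : j' + 1 = (i : ℕ) + (k + 1) := by omega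
        rw [if_pos h, if_pos this]
      · have : ¬ (j' + 1 = (i : ℕ) + (k + 1)) := by omega
        rw [if_neg h, if_neg this]

theorem shiftN_pow_self {n : ℕ} : shiftN F n ^ n = 0 := by
  ext j i
  rw [shiftN_pow_apply]
  have : ¬ ((j : ℕ) = (i : ℕ) + n) := by
    have := j.2
    omega
  simp [this]

theorem comm_shiftN_upper {n : ℕ} (g : Matrix (Fin n) (Fin n) F) (h : g * shiftN F n = shiftN F n * g) :
    ∀ (j i : Fin n), (j : ℕ) < (i : ℕ) → g j i = 0 := by
  have key : ∀ (jn : ℕ) (j i : Fin n), (j : ℕ) = jn → (j : ℕ) < (i : ℕ) → g j i = 0 := by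
    intro jn
    induction jn with
    | zero =>
      intro j i hj hji
      obtain ⟨i', hi'⟩ : ∃ i', (i : ℕ) = i' + 1 := ⟨(i : ℕ) - 1, by omega⟩
      have hi'n : i' + 1 < n := by have := i.2; omega
      have h1 := mul_shiftN_apply_lt g j ⟨i', by omega⟩ hi'n
      rw [h, shiftN_mul_apply_zero _ j _ hj] at h1
      have : (⟨i' + 1, hi'n⟩ : Fin n) = i := Fin.ext hi'.symm
      rw [← this]
      exact h1.symm
    | succ jn ih =>
      intro j i hj hji
      obtain ⟨i', hi'⟩ : ∃ i', (i : ℕ) = i' + 1 := ⟨(i : ℕ) - 1, by omega⟩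
      have hi'n : i' + 1 < n := by have := i.2; omega
      have h1 := mul_shiftN_apply_lt g j ⟨i', by omega⟩ hi'n
      rw [h, shiftN_mul_apply_succ _ j _ jn hj] at h1
      have : (⟨i' + 1, hi'n⟩ : Fin n) = i := Fin.ext hi'.symm
      rw [← this, ← h1]
      apply ih
      · rfl
      · simp only
        omega
  intro j i hji
  exact key (j : ℕ) j i rfl hji

theorem comm_shiftN_diag {n : ℕ} (g : Matrix (Fin n) (Fin n) F) (h : g * shiftN F n = shiftN F n * g)
    (i₀ : Fin n) (hi₀ : (i₀ : ℕ) = 0) : ∀ (i : Fin n), g i i = g i₀ i₀ := by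
  have key : ∀ (k : ℕ) (i : Fin n), (i : ℕ) = k → g i i = g i₀ i₀ := by
    intro k
    induction k with
    | zero =>
      intro i hi
      have : i = i₀ := Fin.ext (by omega)
      rw [this]
    | succ k ih =>
      intro i hi
      have hkn : k + 1 < n := by have := i.2; omega
      have h1 := mul_shiftN_apply_lt g i ⟨k, by omega⟩ hkn
      rw [h, shiftN_mul_apply_succ _ i _ k hi] at h1
      have : (⟨k + 1, hkn⟩ : Fin n) = i := Fin.ext hi.symm
      rw [this] at h1
      rw [← h1]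
      exact ih ⟨k, by omega⟩ rfl
  intro i
  exact key (i : ℕ) i rfl

theorem det_of_comm_shiftN {n : ℕ} (g : Matrix (Fin n) (Fin n) F) (h : g * shiftN F n = shiftN F n * g)
    (i₀ : Fin n) (hi₀ : (i₀ : ℕ) = 0) : g.det = (g i₀ i₀) ^ n := by
  have htri : g.BlockTriangular ⇑OrderDual.toDual := by
    intro i j hij
    apply comm_shiftN_upper g h
    exact hij
  rw [Matrix.det_of_lowerTriangular g htri]
  rw [Finset.prod_congr rfl (fun i _ => comm_shiftN_diag g h i₀ hi₀ i)]
  simp

theorem shiftN_mulVec_succ {n : ℕ} (v : Fin n → F) (j : Fin n) (j' : ℕ) (hj : (j : ℕ) = j' + 1) :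
    (shiftN F n).mulVec v j = v ⟨j', by omega⟩ := by
  rw [Matrix.mulVec, dotProduct, Finset.sum_eq_single (⟨j', by omega⟩ : Fin n)]
  · simp [shiftN, hj]
  · intro l _ hl
    have : ¬ ((j : ℕ) = (l : ℕ) + 1) := by
      intro h
      apply hl
      apply Fin.ext
      simp only
      omega
    simp [shiftN, this]
  · intro h; exact absurd (Finset.mem_univ _) h

theorem shiftN_mulVec_zero {n : ℕ} (v : Fin n → F) (j : Fin n) (hj : (j : ℕ) = 0) :
    (shiftN F n).mulVec v j = 0 := by
  rw [Matrix.mulVec, dotProduct]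
  apply Finset.sum_eq_zero
  intro l _
  have : ¬ ((j : ℕ) = (l : ℕ) + 1) := by omega
  simp [shiftN, this]

theorem rank_shiftN (m : ℕ) : (shiftN F (m + 1)).rank = m := by
  have hker : LinearMap.ker (Matrix.mulVecLin (shiftN F (m + 1))) = Submodule.span F {Pi.single (Fin.last m) (1 : F)} := by
    apply le_antisymm
    · intro v hv
      rw [LinearMap.mem_ker, Matrix.mulVecLin_apply] at hv
      rw [Submodule.mem_span_singleton]
      refine ⟨v (Fin.last m), ?_⟩
      funext i
      by_cases hi : i = Fin.last m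
      · subst hi; simp
      · have hlt : (i : ℕ) < m := by
          have := i.2
          have : (i : ℕ) ≠ m := fun h => hi (Fin.ext h)
          omega
        have h1 := congrFun hv ⟨(i : ℕ) + 1, by omega⟩
        rw [shiftN_mulVec_succ v ⟨(i : ℕ) + 1, by omega⟩ (i : ℕ) rfl] at h1
        simp only [Fin.eta, Pi.zero_apply] at h1
        simp [hi, h1]
    · rw [Submodule.span_le]
      intro v hv
      rw [Set.mem_singleton_iff] at hv
      rw [hv, SetLike.mem_coe, LinearMap.mem_ker, Matrix.mulVecLin_apply]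
      funext j
      rcases Nat.eq_zero_or_pos (j : ℕ) with hj | hj
      · rw [shiftN_mulVec_zero _ j hj]; rfl
      · obtain ⟨j', hj'⟩ : ∃ j', (j : ℕ) = j' + 1 := ⟨(j : ℕ) - 1, by omega⟩
        rw [shiftN_mulVec_succ _ j j' hj']
        have : (⟨j', by omega⟩ : Fin (m + 1)) ≠ Fin.last m := by
          intro h
          have := congrArg Fin.val h
          simp only [Fin.val_last] at this
          have := j.2
          omega
        simp [this]
  have h1 := LinearMap.finrank_range_add_finrank_ker (Matrix.mulVecLin (shiftN F (m + 1)))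
  rw [hker, finrank_span_singleton (by
    intro h
    have := congrFun h (Fin.last m)
    simp at this), Module.finrank_fintype_fun_eq_card, Fintype.card_fin] at h1
  have : (shiftN F (m + 1)).rank = finrank F (LinearMap.range (Matrix.mulVecLin (shiftN F (m + 1)))) := rfl
  omega

theorem exists_conj_shift (N : Matrix (Fin (m + 1)) (Fin (m + 1)) F) (hnil : N ^ (m + 1) = 0) (hrank : N.rank = m) :
    ∃ P : Matrix (Fin (m + 1)) (Fin (m + 1)) F, P.det ≠ 0 ∧ N * P = P * shiftN F (m + 1) := by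
  set f := Matrix.mulVecLin N with hf
  have hfpow : f ^ (m + 1) = 0 := by
    rw [hf, ← Cfsg.Agent.S2573.mulVecLin_pow', hnil]
    ext v
    simp
  have hker : finrank F (LinearMap.ker f) = 1 := by
    have h1 := LinearMap.finrank_range_add_finrank_ker f
    have h2 : finrank F (LinearMap.range f) = m := hrank
    rw [h2, Module.finrank_fintype_fun_eq_card, Fintype.card_fin] at h1
    omega
  have hkm : finrank F (LinearMap.ker (f ^ m)) ≤ m := by
    have := Cfsg.Agent.S2573.finrank_ker_pow_le f m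
    rw [hker, mul_one] at this
    exact this
  obtain ⟨v, hv⟩ : ∃ v, (f ^ m) v ≠ 0 := by
    by_contra hcon
    push Not at hcon
    have htop : LinearMap.ker (f ^ m) = ⊤ := by
      rw [eq_top_iff]
      intro x _
      exact LinearMap.mem_ker.mpr (hcon x)
    rw [htop, finrank_top, Module.finrank_fintype_fun_eq_card, Fintype.card_fin] at hkm
    omega
  have hli := Cfsg.Agent.S2571.li_iterates f m hfpow v hv
  let b : Basis (Fin (m + 1)) F (Fin (m + 1) → F) :=
    basisOfLinearIndependentOfCardEqFinrank hli (by rw [Module.finrank_fintype_fun_eq_card])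
  have hb : ∀ i : Fin (m + 1), b i = (f ^ (i : ℕ)) v := by
    intro i
    simp [b]
  set P₀ : Matrix (Fin (m + 1)) (Fin (m + 1)) F := (Pi.basisFun F (Fin (m + 1))).toMatrix b with hP₀
  have hP₀app : ∀ i j, P₀ i j = b j i := by
    intro i j
    simp [hP₀, Basis.toMatrix_apply]
  have hinv : Invertible P₀ := (Pi.basisFun F (Fin (m + 1))).invertibleToMatrix b
  have hdet : P₀.det ≠ 0 := (Matrix.isUnit_det_of_invertible P₀).ne_zero
  refine ⟨P₀, hdet, ?_⟩
  ext j i
  have h1 : (N * P₀) j i = (f (b i)) j := by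
    simp only [Matrix.mul_apply, hf, Matrix.mulVecLin_apply, Matrix.mulVec, dotProduct, hP₀app]
  have h2 : f (b i) = (f ^ ((i : ℕ) + 1)) v := by
    rw [hb, pow_succ', Module.End.mul_apply]
  rw [h1, h2]
  by_cases hi : (i : ℕ) + 1 < m + 1
  · rw [mul_shiftN_apply_lt _ j i hi, hP₀app, hb]
  · rw [mul_shiftN_apply_last _ j i hi]
    have : (i : ℕ) + 1 = m + 1 := by have := i.2; omega
    rw [this, hfpow]
    rfl

def stdJ (F : Type*) [Field F] (n : ℕ) : Matrix (Fin n) (Fin n) F := 1 + shiftN F n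

theorem conj_rel_of_shift {u P : Matrix (Fin (m + 1)) (Fin (m + 1)) F}
    (h : (u - 1) * P = P * shiftN F (m + 1)) : u * P = P * stdJ F (m + 1) := by
  unfold stdJ
  rw [mul_add, mul_one, ← h, sub_mul, one_mul]
  abel

theorem shift_rel_of_conj {u P : Matrix (Fin (m + 1)) (Fin (m + 1)) F}
    (h : u * P = P * stdJ F (m + 1)) : (u - 1) * P = P * shiftN F (m + 1) := by
  unfold stdJ at h
  rw [sub_mul, one_mul, h, mul_add, mul_one]
  abel

theorem det_ratio {u P P' : Matrix (Fin (m + 1)) (Fin (m + 1)) F} (hP : P.det ≠ 0) (hP' : P'.det ≠ 0)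
    (h : u * P = P * stdJ F (m + 1)) (h' : u * P' = P' * stdJ F (m + 1)) :
    ∃ c : F, c ≠ 0 ∧ P'.det = P.det * c ^ (m + 1) := by
  have hPu : IsUnit P.det := isUnit_iff_ne_zero.mpr hP
  set g := P⁻¹ * P' with hg
  have hPg : P * g = P' := by rw [hg, Matrix.mul_nonsing_inv_cancel_left _ _ hPu]
  have hJg : stdJ F (m + 1) * g = g * stdJ F (m + 1) := by
    have h1 : P * (stdJ F (m + 1) * g) = P * (g * stdJ F (m + 1)) := by
      rw [← Matrix.mul_assoc, ← h, Matrix.mul_assoc, hPg, h', ← hPg, Matrix.mul_assoc]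
    have h2 := congrArg (fun M => P⁻¹ * M) h1
    simp only [Matrix.nonsing_inv_mul_cancel_left _ _ hPu] at h2
    exact h2
  have hNg : g * shiftN F (m + 1) = shiftN F (m + 1) * g := by
    unfold stdJ at hJg
    rw [add_mul, mul_add, one_mul, mul_one] at hJg
    exact (add_left_cancel hJg).symm
  have hdetg := det_of_comm_shiftN g hNg (0 : Fin (m + 1)) rfl
  have hdet : P'.det = P.det * g.det := by rw [← hPg, Matrix.det_mul]
  refine ⟨g 0 0, ?_, by rw [hdet, hdetg]⟩
  intro h0
  rw [h0, zero_pow (by omega)] at hdetg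
  rw [hdetg, mul_zero] at hdet
  exact hP' hdet

theorem conj_of_ratio {u u' P P' : Matrix (Fin (m + 1)) (Fin (m + 1)) F} (hP : P.det ≠ 0)
    (h : u * P = P * stdJ F (m + 1)) (h' : u' * P' = P' * stdJ F (m + 1)) (c : F) (hc : c ≠ 0)
    (hdet : P'.det = P.det * c ^ (m + 1)) :
    ∃ S : Matrix (Fin (m + 1)) (Fin (m + 1)) F, S.det = 1 ∧ S * u = u' * S := by
  have hPu : IsUnit P.det := isUnit_iff_ne_zero.mpr hP
  refine ⟨c⁻¹ • (P' * P⁻¹), ?_, ?_⟩
  · rw [Matrix.det_smul, Matrix.det_mul, Matrix.det_nonsing_inv, Ring.inverse_eq_inv', hdet, Fintype.card_fin,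
      inv_pow]
    have hcp : c ^ (m + 1) ≠ 0 := pow_ne_zero _ hc
    field_simp
  · have h1 : P⁻¹ * u = stdJ F (m + 1) * P⁻¹ := by
      have h2 : P⁻¹ * (u * P) * P⁻¹ = P⁻¹ * (P * stdJ F (m + 1)) * P⁻¹ := by rw [h]
      rw [Matrix.mul_assoc, Matrix.mul_assoc, Matrix.mul_nonsing_inv _ hPu, mul_one,
        Matrix.nonsing_inv_mul_cancel_left _ _ hPu] at h2
      exact h2
    rw [Matrix.smul_mul, Matrix.mul_smul, Matrix.mul_assoc, h1, ← Matrix.mul_assoc, ← h', Matrix.mul_assoc]

theorem reg_of_conj {u P : Matrix (Fin (m + 1)) (Fin (m + 1)) F} (hP : P.det ≠ 0)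
    (h : u * P = P * stdJ F (m + 1)) : (u - 1) ^ (m + 1) = 0 ∧ (u - 1).rank = m := by
  have hPu : IsUnit P.det := isUnit_iff_ne_zero.mpr hP
  have hs := shift_rel_of_conj h
  have hpow : ∀ k : ℕ, (u - 1) ^ k * P = P * shiftN F (m + 1) ^ k := by
    intro k
    induction k with
    | zero => simp
    | succ k ih =>
      rw [pow_succ, Matrix.mul_assoc, hs, ← Matrix.mul_assoc, ih, Matrix.mul_assoc, ← pow_succ]
  constructor
  · have h1 := hpow (m + 1)
    rw [shiftN_pow_self, mul_zero] at h1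
    have h2 := congrArg (fun M => M * P⁻¹) h1
    simp only [Matrix.mul_nonsing_inv_cancel_right _ _ hPu, zero_mul] at h2
    exact h2
  · rw [← Matrix.rank_mul_eq_left_of_isUnit_det P (u - 1) hPu, hs,
      Matrix.rank_mul_eq_right_of_isUnit_det P _ hPu, rank_shiftN]

theorem det_stdJ (n : ℕ) (hn : 0 < n) : (stdJ F n).det = 1 := by
  have hcomm : stdJ F n * shiftN F n = shiftN F n * stdJ F n := by
    unfold stdJ
    rw [add_mul, mul_add, one_mul, mul_one]
  rw [det_of_comm_shiftN _ hcomm ⟨0, hn⟩ rfl]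
  have : stdJ F n ⟨0, hn⟩ ⟨0, hn⟩ = 1 := by
    simp [stdJ, shiftN]
  rw [this, one_pow]

end

end Cfsg.Agent.Lib.Helper16
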