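import Mathlib
import Cfsg.Agent.Lib.Helper16.RegAdj

set_option autoImplicit false
set_option linter.unusedSectionVars false
set_option linter.unusedSimpArgs false
set_option linter.unusedVariables false

namespace Cfsg.Agent.Lib.Helper16.RN

open Matrix Module

variable {ι : Type*} [Fintype ι] [DecidableEq ι] {F : Type*} [Field F]

theorem Psi_mul_coeff0 (k : ℕ) (N : Matrix ι ι F) (hnil : N ^ (k + 1) = 0) (v : ι → F)
    (hv : (N ^ k) *ᵥ v ≠ 0) (c d e : Fin (k + 1) → F) (h : Psi k N c * Psi k N d = Psi k N e) :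
    e 0 = c 0 * d 0 := by
  have h3 : (Psi k N c * Psi k N d) *ᵥ ((N ^ k) *ᵥ v) = (Psi k N e) *ᵥ ((N ^ k) *ᵥ v) := by rw [h]
  rw [← Matrix.mulVec_mulVec, Psi_mulVec_top k N hnil, Matrix.mulVec_smul, Psi_mulVec_top k N hnil,
    Psi_mulVec_top k N hnil, smul_smul] at h3
  have h4 : (d 0 * c 0 - e 0) • ((N ^ k) *ᵥ v) = 0 := by
    rw [sub_smul, h3, sub_self]
  have h5 := (smul_eq_zero.mp h4).resolve_right hv
  rw [mul_comm]
  exact (sub_eq_zero.mp h5).symm

theorem exists_intertwiner (k : ℕ) (N N' : Matrix ι ι F) (hcard : Fintype.card ι = k + 1)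
    (hnil : N ^ (k + 1) = 0) (hrank : N.rank = k) (hnil' : N' ^ (k + 1) = 0) (hrank' : N'.rank = k) :
    ∃ x : Matrix ι ι F, IsUnit x ∧ x * N = N' * x := by
  obtain ⟨v, hv⟩ := exists_cyclic k N hcard hnil hrank
  obtain ⟨v', hv'⟩ := exists_cyclic k N' hcard hnil' hrank'
  have hli := li_of_cyclic k N hnil v hv
  have hli' := li_of_cyclic k N' hnil' v' hv'
  have hcard' : Fintype.card (Fin (k + 1)) = finrank F (ι → F) := by
    rw [Module.finrank_fintype_fun_eq_card, hcard, Fintype.card_fin]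
  set B := basisOfLinearIndependentOfCardEqFinrank hli hcard' with hB
  set B' := basisOfLinearIndependentOfCardEqFinrank hli' hcard' with hB'
  have hBapp : ∀ i, B i = (N ^ (i : ℕ)) *ᵥ v := by
    intro i
    rw [hB, coe_basisOfLinearIndependentOfCardEqFinrank]
  have hBapp' : ∀ i, B' i = (N' ^ (i : ℕ)) *ᵥ v' := by
    intro i
    rw [hB', coe_basisOfLinearIndependentOfCardEqFinrank]
  set L : (ι → F) ≃ₗ[F] (ι → F) := B.equiv B' (Equiv.refl _) with hL
  have hLB : ∀ i, L (B i) = B' i := by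
    intro i
    rw [hL, Basis.equiv_apply]
    rfl
  refine ⟨LinearMap.toMatrix' (L : (ι → F) →ₗ[F] (ι → F)), ?_, ?_⟩
  · refine ⟨⟨LinearMap.toMatrix' (L : (ι → F) →ₗ[F] (ι → F)),
      LinearMap.toMatrix' (L.symm : (ι → F) →ₗ[F] (ι → F)), ?_, ?_⟩, rfl⟩
    · rw [← LinearMap.toMatrix'_comp]
      have : (L : (ι → F) →ₗ[F] (ι → F)) ∘ₗ (L.symm : (ι → F) →ₗ[F] (ι → F)) = LinearMap.id := by
        ext x; simp
      rw [this, LinearMap.toMatrix'_id]
    · rw [← LinearMap.toMatrix'_comp]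
      have : (L.symm : (ι → F) →ₗ[F] (ι → F)) ∘ₗ (L : (ι → F) →ₗ[F] (ι → F)) = LinearMap.id := by
        ext x; simp
      rw [this, LinearMap.toMatrix'_id]
  · apply Matrix.toLin'.injective
    apply B.ext
    intro i
    rw [Matrix.toLin'_mul, Matrix.toLin'_mul, Matrix.toLin'_toMatrix']
    simp only [LinearMap.comp_apply, LinearEquiv.coe_coe, Matrix.toLin'_apply]
    rw [hLB, hBapp, hBapp', Matrix.mulVec_mulVec, Matrix.mulVec_mulVec, ← pow_succ', ← pow_succ']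
    by_cases hi : (i : ℕ) + 1 < k + 1
    · have h1 : (N ^ ((i : ℕ) + 1)) *ᵥ v = B ⟨(i : ℕ) + 1, hi⟩ := by rw [hBapp]
      have h2 : (N' ^ ((i : ℕ) + 1)) *ᵥ v' = B' ⟨(i : ℕ) + 1, hi⟩ := by rw [hBapp']
      rw [h1, h2, hLB]
    · have : (i : ℕ) + 1 = k + 1 := by have := i.2; omega
      rw [this, hnil, hnil', Matrix.zero_mulVec, Matrix.zero_mulVec, map_zero]


theorem Psi_smul (k : ℕ) (N : Matrix ι ι F) (a : F) (c : Fin (k + 1) → F) :
    Psi k N (a • c) = a • Psi k N c := by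
  unfold Psi
  rw [Finset.smul_sum]
  apply Finset.sum_congr rfl
  intro i _
  rw [Pi.smul_apply, smul_eq_mul, mul_smul]

theorem exists_norm_root [Nonempty ι] (p : ℕ) [Fact p.Prime] [CharP F p] (hp : p ≠ 2)
    (k : ℕ) (s : Matrix ι ι F) (hnil : s ^ (k + 1) = 0)
    (adj : Matrix ι ι F →ₗ[F] Matrix ι ι F)
    (hmul : ∀ a b, adj (a * b) = adj b * adj a) (hone : adj 1 = 1)
    (d : Fin (k + 1) → F) (a : F) (ha : a ≠ 0) (hd0 : d 0 = a ^ 2)
    (hsym : adj (Psi k s d) = Psi k s d) :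
    ∃ z : Matrix ι ι F, Commute z s ∧ adj z = z ∧ z * z = Psi k s d := by
  set w := Psi k s d with hw
  have ha2 : a ^ 2 ≠ 0 := pow_ne_zero 2 ha
  set w₁ := (a ^ 2)⁻¹ • w with hw₁
  set ν := Psi k s ((a ^ 2)⁻¹ • d - Pi.single 0 1) with hν
  have hw₁ν : w₁ = 1 + ν := by
    rw [hν, Psi_sub, Psi_smul, Psi_single, hw₁, hw]; abel
  have hνnil : IsNilpotent ν := by
    apply Psi_nilp k s hnil
    simp only [Pi.sub_apply, Pi.smul_apply, Pi.single_eq_same, smul_eq_mul, hd0]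
    rw [inv_mul_cancel₀ ha2, sub_self]
  obtain ⟨j, hj⟩ := hνnil
  have hpj : j ≤ p ^ j := (Nat.lt_pow_self (Fact.out : p.Prime).one_lt).le
  have hνp : ν ^ (p ^ j) = 0 := by
    rw [← Nat.sub_add_cancel hpj, pow_add, hj, mul_zero]
  have hw₁p : w₁ ^ (p ^ j) = 1 := by
    rw [hw₁ν, add_pow_char_pow_of_commute p j (Commute.one_left ν), one_pow, hνp, add_zero]
  have hodd : Odd (p ^ j) := by
    apply Odd.pow
    exact (Fact.out : p.Prime).odd_of_ne_two hp
  obtain ⟨e, he⟩ := hodd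
  have hw₁s : Commute w₁ s := by
    rw [hw₁, hw]
    exact (Psi_commute k s d).smul_left _
  have hw₁adj : adj w₁ = w₁ := by
    rw [hw₁, map_smul, hsym]
  refine ⟨a • w₁ ^ (e + 1), ?_, ?_, ?_⟩
  · exact (hw₁s.pow_left _).smul_left _
  · rw [map_smul, adj_pow adj hmul hone, hw₁adj]
  · rw [Matrix.smul_mul, Matrix.mul_smul, smul_smul, ← pow_add]
    have : e + 1 + (e + 1) = p ^ j + 1 := by omega
    rw [this, pow_succ, hw₁p, one_mul, hw₁, smul_smul, ← pow_two, mul_inv_cancel₀ ha2, one_smul]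

end Cfsg.Agent.Lib.Helper16.RN
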