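import Mathlib
import Cfsg.Agent.Lib.Helper16.RegNorm

set_option autoImplicit false
set_option linter.unusedSectionVars false
set_option linter.unusedSimpArgs false
set_option linter.unusedVariables false

namespace Cfsg.Agent.Lib.Helper16.RN

open Matrix Module

/-- a (semilinear) adjoint involution on a matrix ring. -/
structure AdjData (ι : Type*) [Fintype ι] [DecidableEq ι] (F : Type*) [Field F] where
  σ : F →+* F
  adj : Matrix ι ι F → Matrix ι ι F
  add' : ∀ a b, adj (a + b) = adj a + adj b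
  smul' : ∀ (c : F) a, adj (c • a) = σ c • adj a
  mul' : ∀ a b, adj (a * b) = adj b * adj a
  one' : adj 1 = 1
  inv' : ∀ a, adj (adj a) = a
  σσ : ∀ c, σ (σ c) = c

variable {ι : Type*} [Fintype ι] [DecidableEq ι] {F : Type*} [Field F]

namespace AdjData

variable (A : AdjData ι F)

theorem adj_zero : A.adj 0 = 0 := by
  have := A.add' 0 0
  rw [add_zero] at this
  exact left_eq_add.mp this

theorem adj_neg (a : Matrix ι ι F) : A.adj (-a) = -A.adj a := by
  have := A.add' a (-a)
  rw [add_neg_cancel, A.adj_zero] at this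
  exact eq_neg_of_add_eq_zero_right this.symm

theorem adj_sub (a b : Matrix ι ι F) : A.adj (a - b) = A.adj a - A.adj b := by
  rw [sub_eq_add_neg, A.add', A.adj_neg, ← sub_eq_add_neg]

theorem adj_sum {κ : Type*} (s : Finset κ) (f : κ → Matrix ι ι F) :
    A.adj (∑ i ∈ s, f i) = ∑ i ∈ s, A.adj (f i) := by
  classical
  induction s using Finset.induction_on with
  | empty => simp [A.adj_zero]
  | insert a s ha ih => rw [Finset.sum_insert ha, Finset.sum_insert ha, A.add', ih]

theorem adj_pow (a : Matrix ι ι F) (j : ℕ) : A.adj (a ^ j) = (A.adj a) ^ j := by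
  induction j with
  | zero => rw [pow_zero, pow_zero, A.one']
  | succ j ih => rw [pow_succ, A.mul', ih, pow_succ']

theorem adj_Psi (k : ℕ) (N : Matrix ι ι F) (c : Fin (k + 1) → F) :
    A.adj (Psi k N c) = Psi k (A.adj N) (fun i => A.σ (c i)) := by
  unfold Psi
  rw [A.adj_sum]
  apply Finset.sum_congr rfl
  intro i _
  rw [A.smul', A.adj_pow]

theorem adj_Psi_skew (k : ℕ) (s : Matrix ι ι F) (hs : A.adj s = -s) (c : Fin (k + 1) → F) :
    A.adj (Psi k s c) = Psi k s (fun i => (-1) ^ (i : ℕ) * A.σ (c i)) := by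
  rw [A.adj_Psi, hs, Psi_neg_arg]

theorem adj_commute (s z : Matrix ι ι F) (hs : A.adj s = -s) (hz : Commute z s) :
    Commute (A.adj z) s := by
  have h1 : A.adj (z * s) = A.adj (s * z) := by rw [hz.eq]
  rw [A.mul', A.mul', hs] at h1
  show A.adj z * s = s * A.adj z
  have h3 : -(s * A.adj z) = -(A.adj z * s) := by
    rw [← neg_mul, ← mul_neg]; exact h1
  exact (neg_injective h3).symm

/-- the adjoint on units. -/
def adjU (x : (Matrix ι ι F)ˣ) : (Matrix ι ι F)ˣ :=
  ⟨A.adj x.1, A.adj x.inv, by rw [← A.mul', x.inv_val, A.one'], by rw [← A.mul', x.val_inv, A.one']⟩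

theorem adjU_val (x : (Matrix ι ι F)ˣ) : (A.adjU x).1 = A.adj x.1 := rfl

theorem adjU_mul (x y : (Matrix ι ι F)ˣ) : A.adjU (x * y) = A.adjU y * A.adjU x :=
  Units.ext (A.mul' x.1 y.1)

theorem adjU_one : A.adjU 1 = 1 := Units.ext A.one'

theorem adjU_inv (x : (Matrix ι ι F)ˣ) : A.adjU x⁻¹ = (A.adjU x)⁻¹ := by
  apply eq_inv_of_mul_eq_one_left
  rw [← adjU_mul, mul_inv_cancel, adjU_one]

theorem adjU_adjU (x : (Matrix ι ι F)ˣ) : A.adjU (A.adjU x) = x := Units.ext (A.inv' x.1)

theorem adjU_gram (x : (Matrix ι ι F)ˣ) : A.adjU (A.adjU x * x) = A.adjU x * x := by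
  rw [adjU_mul, adjU_adjU]

theorem gram_commute (U₀ U x : (Matrix ι ι F)ˣ) (hU₀ : U₀ * A.adjU U₀ = 1)
    (hU : U * A.adjU U = 1) (hx : x * U₀ = U * x) :
    (A.adjU x * x) * U₀ = U₀ * (A.adjU x * x) := by
  have h1 := congrArg A.adjU hx
  rw [adjU_mul, adjU_mul] at h1
  have e0 : A.adjU U₀ = U₀⁻¹ := eq_inv_of_mul_eq_one_right hU₀
  have e1 : A.adjU U = U⁻¹ := eq_inv_of_mul_eq_one_right hU
  rw [e0, e1] at h1
  have h2 : A.adjU x * U = U₀ * A.adjU x := by
    have := congrArg (fun t => U₀ * t * U) h1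
    simp only [mul_assoc, inv_mul_cancel, mul_one, mul_inv_cancel_left] at this
    exact this
  rw [mul_assoc, hx, ← mul_assoc, h2, mul_assoc]

end AdjData

end Cfsg.Agent.Lib.Helper16.RN
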