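import Mathlib
import Cfsg.Agent.Lib.Helper16.SAdj
import Cfsg.Agent.Lib.Helper16.RegAdj

set_option autoImplicit false
set_option linter.unusedSectionVars false
set_option linter.unusedSimpArgs false
set_option linter.unusedVariables false
set_option linter.style.haveILetI false

namespace Cfsg.Agent.Lib.Helper16.RN

open Matrix Module

theorem ns_ring {R : Type*} [CommRing R] [Finite R] (τ : R →+* R) (ν : R) (hν : τ ν = ν)
    (b : R) (hb : IsNilpotent b) (hτb : τ b = b) :
    ∃ a : R, IsNilpotent a ∧ τ a = a ∧ a + ν * a ^ 2 = b := by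
  let f : {a : R // IsNilpotent a ∧ τ a = a} → {a : R // IsNilpotent a ∧ τ a = a} := fun a =>
    ⟨a.1 + ν * a.1 ^ 2, by
      have : a.1 + ν * a.1 ^ 2 = a.1 * (1 + ν * a.1) := by ring
      rw [this]
      exact (Commute.all _ _).isNilpotent_mul_right a.2.1, by
      rw [map_add, map_mul, map_pow, a.2.2, hν]⟩
  have hinj : Function.Injective f := by
    intro a a' haa'
    have h1 : a.1 + ν * a.1 ^ 2 = a'.1 + ν * a'.1 ^ 2 := congrArg Subtype.val haa'
    have h2 : (a.1 - a'.1) * (1 + ν * (a.1 + a'.1)) = 0 := by linear_combination h1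
    have hn : IsNilpotent (ν * (a.1 + a'.1)) :=
      (Commute.all _ _).isNilpotent_mul_left ((Commute.all _ _).isNilpotent_add a.2.1 a'.2.1)
    have hu : IsUnit (1 + ν * (a.1 + a'.1)) := hn.isUnit_one_add
    have h3 := (hu.mul_left_eq_zero).mp h2
    exact Subtype.ext (sub_eq_zero.mp h3)
  have hsurj := Finite.injective_iff_surjective.mp hinj
  obtain ⟨a, ha⟩ := hsurj ⟨b, hb, hτb⟩
  exact ⟨a.1, a.2.1, a.2.2, congrArg Subtype.val ha⟩

end Cfsg.Agent.Lib.Helper16.RN

namespace Cfsg.Agent.Lib.Helper16.RN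

open Matrix Module

variable {ι : Type*} [Fintype ι] [DecidableEq ι] {F : Type*} [Field F]

theorem one_add_smul_mul (α β : F) (a : Matrix ι ι F) :
    (1 + α • a) * (1 + β • a) = 1 + (α + β) • a + (α * β) • (a * a) := by
  rw [add_mul, mul_add, mul_add, one_mul, mul_one, one_mul, Matrix.smul_mul, Matrix.mul_smul,
    smul_smul, add_smul]
  abel

theorem exists_norm_eq [Finite F] (A : AdjData ι F) (k : ℕ) (s : Matrix ι ι F)
    (hcard : Fintype.card ι = k + 1) (hnil : s ^ (k + 1) = 0) (v : ι → F)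
    (hv : (s ^ k) *ᵥ v ≠ 0) (hs : A.adj s = -s)
    (θ : F) (hθ : θ + A.σ θ = 1) (hN : ∀ r : F, A.σ r = r → r ≠ 0 → ∃ c, A.σ c * c = r)
    (h : Matrix ι ι F) (hhs : Commute h s) (hh : A.adj h = h) (hu : IsUnit h) :
    ∃ z : Matrix ι ι F, Commute z s ∧ IsUnit z ∧ A.adj z * z = h := by
  classical
  have hne : Nonempty ι := by
    rw [← Fintype.card_pos_iff, hcard]; omega
  have hc : ∀ a b : Matrix ι ι F, Commute a s → Commute b s → Commute a b :=
    fun a b ha hb => commute_of_commute k s hcard hnil v hv a b ha hb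
  obtain ⟨c, hc'⟩ := exists_Psi_of_commute k s hcard hnil v hv h hhs
  have hc0 : c 0 ≠ 0 := by
    intro h0
    apply Psi_not_isUnit k s hnil c h0
    rw [← hc']; exact hu
  have hσc0 : A.σ (c 0) = c 0 := by
    have h1 := hh
    rw [hc', A.adj_Psi_skew k s hs] at h1
    have h3 := congrFun (Psi_injective k s hnil v hv h1) 0
    simpa using h3
  obtain ⟨e, he⟩ := hN (c 0) hσc0 hc0
  have he0 : e ≠ 0 := by
    rintro rfl
    rw [mul_zero] at he
    exact hc0 he.symm
  obtain ⟨b, hb⟩ : ∃ b, b = (c 0)⁻¹ • h - 1 := ⟨_, rfl⟩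
  have hbPsi : b = Psi k s ((c 0)⁻¹ • c - Pi.single 0 1) := by
    rw [hb, Psi_sub, Psi_smul, Psi_single, hc']
  have hbnil : IsNilpotent b := by
    rw [hbPsi]
    apply Psi_nilp k s hnil
    simp only [Pi.sub_apply, Pi.smul_apply, Pi.single_eq_same, smul_eq_mul]
    rw [inv_mul_cancel₀ hc0, sub_self]
  have hbs : Commute b s := by
    rw [hbPsi]; exact Psi_commute k s _
  have hbadj : A.adj b = b := by
    rw [hb, A.adj_sub, A.smul', A.one', hh, map_inv₀, hσc0]
  letI : CommRing (Cen s) := cenComm s hc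
  have : Finite (Cen s) := inferInstance
  let τ : Cen s →+* Cen s :=
    { toFun := fun z => ⟨A.adj z.1, (mem_cen_iff s _).mpr (A.adj_commute s z.1 hs ((mem_cen_iff s _).mp z.2))⟩
      map_one' := Subtype.ext A.one'
      map_mul' := fun a b => Subtype.ext (by
        show A.adj (a.1 * b.1) = A.adj a.1 * A.adj b.1
        rw [A.mul']
        exact (hc _ _ (A.adj_commute s b.1 hs ((mem_cen_iff s _).mp b.2))
          (A.adj_commute s a.1 hs ((mem_cen_iff s _).mp a.2))).eq)
      map_zero' := Subtype.ext A.adj_zero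
      map_add' := fun a b => Subtype.ext (A.add' a.1 b.1) }
  obtain ⟨ν, hν⟩ : ∃ ν : Cen s, ν.1 = (A.σ θ * θ) • (1 : Matrix ι ι F) :=
    ⟨⟨(A.σ θ * θ) • (1 : Matrix ι ι F), (mem_cen_iff s _).mpr ((Commute.one_left s).smul_left _)⟩, rfl⟩
  have hτν : τ ν = ν := by
    apply Subtype.ext
    show A.adj ν.1 = ν.1
    rw [hν, A.smul', A.one', map_mul, A.σσ, mul_comm]
  obtain ⟨bR, hbR⟩ : ∃ bR : Cen s, bR.1 = b := ⟨⟨b, (mem_cen_iff s _).mpr hbs⟩, rfl⟩
  have hbRnil : IsNilpotent bR := by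
    obtain ⟨j, hj⟩ := hbnil
    refine ⟨j, Subtype.ext ?_⟩
    show ((bR ^ j : Cen s) : Matrix ι ι F) = 0
    rw [SubmonoidClass.coe_pow]
    show bR.1 ^ j = 0
    rw [hbR, hj]
  have hτbR : τ bR = bR := by
    apply Subtype.ext
    show A.adj bR.1 = bR.1
    rw [hbR, hbadj]
  obtain ⟨aR, haRnil, hτaR, haR⟩ := ns_ring τ ν hτν bR hbRnil hτbR
  obtain ⟨a, ha⟩ : ∃ a, a = aR.1 := ⟨_, rfl⟩
  have has : Commute a s := by rw [ha]; exact (mem_cen_iff s _).mp aR.2
  have haadj : A.adj a = a := by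
    rw [ha]; exact congrArg Subtype.val hτaR
  have hanil : IsNilpotent a := by
    obtain ⟨j, hj⟩ := haRnil
    refine ⟨j, ?_⟩
    have := congrArg Subtype.val hj
    rw [ha]
    rw [SubmonoidClass.coe_pow] at this
    exact this
  have haeq : a + (A.σ θ * θ) • (a * a) = b := by
    have h1 := congrArg Subtype.val haR
    rw [hbR] at h1
    rw [← h1, ha]
    show aR.1 + (A.σ θ * θ) • (aR.1 * aR.1) = aR.1 + ν.1 * (aR.1 ^ 2)
    rw [hν, Matrix.smul_mul, one_mul, pow_two]
  refine ⟨e • (1 + θ • a), ?_, ?_, ?_⟩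
  · exact ((Commute.one_left s).add_left (has.smul_left θ)).smul_left e
  · have h1 : IsUnit (1 + θ • a) := by
      apply IsNilpotent.isUnit_one_add
      obtain ⟨j, hj⟩ := hanil
      exact ⟨j, by rw [smul_pow, hj, smul_zero]⟩
    have h2 : IsUnit (e • (1 : Matrix ι ι F)) := by
      have := (IsUnit.mk0 _ he0).map (algebraMap F (Matrix ι ι F))
      rwa [Algebra.algebraMap_eq_smul_one] at this
    have h3 : e • (1 + θ • a) = (e • (1 : Matrix ι ι F)) * (1 + θ • a) := by
      rw [Matrix.smul_mul, one_mul]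
    rw [h3]
    exact h2.mul h1
  · rw [A.smul', A.add', A.one', A.smul', haadj, Matrix.smul_mul, Matrix.mul_smul, smul_smul,
      one_add_smul_mul, he]
    have h1 : A.σ θ + θ = 1 := by rw [add_comm]; exact hθ
    rw [h1, one_smul, add_assoc, haeq, hb]
    rw [add_sub_cancel, smul_smul, mul_inv_cancel₀ hc0, one_smul]

end Cfsg.Agent.Lib.Helper16.RN
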