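import Mathlib
import Cfsg.Agent.Lib.Helper16.SNorm

set_option autoImplicit false
set_option linter.unusedSectionVars false
set_option linter.unusedSimpArgs false
set_option linter.unusedVariables false

namespace Cfsg.Agent.Lib.Helper16.RN

open Matrix Module

variable {ι : Type*} [Fintype ι] [DecidableEq ι] {F : Type*} [Field F]

theorem exists_unitary_intertwiner [Finite F] (A : AdjData ι F) (k : ℕ) (s : Matrix ι ι F)
    (hcard : Fintype.card ι = k + 1) (hnil : s ^ (k + 1) = 0) (v : ι → F)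
    (hv : (s ^ k) *ᵥ v ≠ 0) (hs : A.adj s = -s)
    (θ : F) (hθ : θ + A.σ θ = 1) (hN : ∀ r : F, A.σ r = r → r ≠ 0 → ∃ c, A.σ c * c = r)
    (U₀ : (Matrix ι ι F)ˣ) (hU₀ : U₀ * A.adjU U₀ = 1)
    (hcomm : ∀ g : Matrix ι ι F, Commute g U₀.1 ↔ Commute g s)
    (U x : (Matrix ι ι F)ˣ) (hU : U * A.adjU U = 1) (hx : x * U₀ = U * x) :
    ∃ y : (Matrix ι ι F)ˣ, A.adjU y * y = 1 ∧ y * U₀ = U * y := by
  obtain ⟨h, hh⟩ : ∃ h, h = A.adjU x * x := ⟨_, rfl⟩
  have hhU : h * U₀ = U₀ * h := by rw [hh]; exact A.gram_commute U₀ U x hU₀ hU hx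
  have hhs : Commute h.1 s := (hcomm h.1).mp (congrArg Units.val hhU)
  have hhinv_s : Commute (h⁻¹).1 s := hhs.units_inv_left
  have hadjh : A.adjU h = h := by rw [hh]; exact A.adjU_gram x
  have hadjhinv : A.adj (h⁻¹).1 = (h⁻¹).1 := by
    have : A.adjU h⁻¹ = h⁻¹ := by rw [A.adjU_inv, hadjh]
    exact congrArg Units.val this
  obtain ⟨z, hzs, hzu, hz⟩ := exists_norm_eq A k s hcard hnil v hv hs θ hθ hN (h⁻¹).1 hhinv_s
    hadjhinv (h⁻¹).isUnit
  obtain ⟨Z, hZ⟩ := hzu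
  have hZZ : A.adjU Z * Z = h⁻¹ := Units.ext (by rw [Units.val_mul, A.adjU_val, hZ, hz])
  have hZU : Z * U₀ = U₀ * Z := Units.ext ((hcomm Z.1).mpr (by rw [hZ]; exact hzs)).eq
  have hCC : ∀ g g' : Matrix ι ι F, Commute g s → Commute g' s → Commute g g' :=
    commute_of_commute k s hcard hnil v hv
  have hadjZ_h : A.adjU Z * h = h * A.adjU Z := by
    apply Units.ext
    exact (hCC _ _ (A.adj_commute s Z.1 hs (by rw [hZ]; exact hzs)) hhs).eq
  refine ⟨x * Z, ?_, ?_⟩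
  · rw [A.adjU_mul]
    calc A.adjU Z * A.adjU x * (x * Z) = A.adjU Z * (A.adjU x * x) * Z := by group
      _ = A.adjU Z * h * Z := by rw [hh]
      _ = h * (A.adjU Z * Z) := by rw [hadjZ_h]; group
      _ = 1 := by rw [hZZ, mul_inv_cancel]
  · calc x * Z * U₀ = x * (Z * U₀) := by group
      _ = x * (U₀ * Z) := by rw [hZU]
      _ = (x * U₀) * Z := by group
      _ = U * (x * Z) := by rw [hx]; group

end Cfsg.Agent.Lib.Helper16.RN
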