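import Mathlib
import Cfsg.Agent.Lib.Helper16.STrans
import Cfsg.Agent.Lib.Lead.Unitary
import Cfsg.Agent.Lib.Lead.HermIso

set_option autoImplicit false
set_option linter.unusedSectionVars false
set_option linter.unusedSimpArgs false
set_option linter.unusedVariables false

namespace Cfsg.Agent.Lib.Helper16.RN

open Matrix Module

variable {K : Type*} [Field K] {n : ℕ}

/-- the conjugate-transpose adjoint for an involutive field endomorphism. -/
def uAdj (n : ℕ) (σ : K →+* K) (hσσ : ∀ x, σ (σ x) = x) : AdjData (Fin n) K where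
  σ := σ
  adj a := (a.map σ)ᵀ
  add' a b := by
    rw [Matrix.map_add σ (fun x y => map_add σ x y), Matrix.transpose_add]
  smul' c a := by
    rw [Matrix.map_smul' σ c a (fun x y => map_mul σ x y), Matrix.transpose_smul]
  mul' a b := by
    rw [Matrix.map_mul, Matrix.transpose_mul]
  one' := by
    rw [Matrix.map_one σ (map_zero σ) (map_one σ), Matrix.transpose_one]
  inv' a := by
    ext i j
    simp [hσσ]
  σσ := hσσ

theorem uAdj_apply (σ : K →+* K) (hσσ : ∀ x, σ (σ x) = x) (a : Matrix (Fin n) (Fin n) K) :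
    (uAdj n σ hσσ).adj a = (a.map σ)ᵀ := rfl

theorem mem_GU_iff {q : ℕ} (σ : K →+* K) (hσ : ∀ x, σ x = x ^ q) (hσσ : ∀ x, σ (σ x) = x)
    (g : GL (Fin n) K) :
    g ∈ Cfsg.GU n K q ↔ (uAdj n σ hσσ).adj g.1 * g.1 = 1 := by
  have h1 : g ∈ Cfsg.GU n K q ↔ ∀ u v, Cfsg.hermForm n K q (g.1 *ᵥ u) (g.1 *ᵥ v)
      = Cfsg.hermForm n K q u v := Iff.rfl
  rw [h1, Cfsg.Agent.Lib.Lead.preserves_iff σ hσ, uAdj_apply]
  constructor
  · intro h
    have := congrArg Matrix.transpose h
    rw [Matrix.transpose_mul, Matrix.transpose_transpose, Matrix.transpose_one] at this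
    exact this
  · intro h
    have := congrArg Matrix.transpose h
    rw [Matrix.transpose_mul, Matrix.transpose_transpose, Matrix.transpose_one] at this
    exact this

end Cfsg.Agent.Lib.Helper16.RN

namespace Cfsg.Agent.Lib.Helper16.RN

open Matrix Module

variable {ι : Type*} [Fintype ι] [DecidableEq ι] {F : Type*} [Field F]

theorem unitary_reg_data (A : AdjData ι F) (θ : F) (hθ : θ + A.σ θ = 1)
    (U : Matrix ι ι F) (hUV : U * A.adj U = 1) (k : ℕ) (hcard : Fintype.card ι = k + 1)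
    (hnil : (U - 1) ^ (k + 1) = 0) (hreg : (U - 1).rank = k) :
    (θ • (U - 1) - A.σ θ • (A.adj U - 1)) ^ (k + 1) = 0 ∧
      (θ • (U - 1) - A.σ θ • (A.adj U - 1)).rank = k ∧
      A.adj (θ • (U - 1) - A.σ θ • (A.adj U - 1)) = -(θ • (U - 1) - A.σ θ • (A.adj U - 1)) ∧
      (∀ g : Matrix ι ι F, Commute g U ↔ Commute g (θ • (U - 1) - A.σ θ • (A.adj U - 1))) := by
  classical
  obtain ⟨V, hV⟩ : ∃ V, V = A.adj U := ⟨_, rfl⟩
  rw [← hV] at hUV ⊢
  have hVU : V * U = 1 := mul_eq_one_comm.mp hUV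
  obtain ⟨N, hN⟩ : ∃ N, N = U - 1 := ⟨_, rfl⟩
  rw [← hN] at hnil hreg ⊢
  obtain ⟨t, ht⟩ : ∃ t, t = θ • N - A.σ θ • (V - 1) := ⟨_, rfl⟩
  rw [← ht]
  have htadj : A.adj t = -t := by
    rw [ht, A.adj_sub, A.smul', A.smul', hN, A.adj_sub, A.adj_sub, A.one', ← hV, hV, A.inv', A.σσ,
      ← hV]
    abel
  obtain ⟨E, hE⟩ : ∃ E, E = (1 + θ • N) * V := ⟨_, rfl⟩
  have hσθ : A.σ θ = 1 - θ := by rw [← hθ]; ring
  have htEN : t = E * N := by
    rw [hE, ht, hN, hσθ]
    have h1 : (1 + θ • (U - 1)) * V * (U - 1) = (1 + θ • (U - 1)) * (V * U - V) := by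
      rw [Matrix.mul_assoc, mul_sub, mul_one]
    rw [h1, hVU]
    rw [add_mul, one_mul, Matrix.smul_mul, sub_smul, one_smul]
    have h2 : (U - 1) * (1 - V) = U - 1 - (1 - V) := by
      rw [sub_mul, mul_sub, mul_sub, hUV, mul_one, one_mul, one_mul]
    rw [h2]
    module
  have hcommUV : Commute U V := by
    show U * V = V * U
    rw [hUV, hVU]
  have hcommVN : Commute V N := by
    rw [hN]; exact (hcommUV.symm).sub_right (Commute.one_right _)
  have hcommEN : Commute E N := by
    rw [hE]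
    apply Commute.mul_left
    · exact (Commute.one_left N).add_left ((Commute.refl N).smul_left θ)
    · exact hcommVN
  have hnil_t : t ^ (k + 1) = 0 := by
    rw [htEN, hcommEN.mul_pow, hnil, mul_zero]
  have hEunit : IsUnit E.det := by
    have hNnil : IsNilpotent N := ⟨k + 1, hnil⟩
    have hU1 : IsUnit (1 + θ • N) := by
      apply IsNilpotent.isUnit_one_add
      obtain ⟨j, hj⟩ := hNnil
      exact ⟨j, by rw [smul_pow, hj, smul_zero]⟩
    have hVunit : IsUnit V := ⟨⟨V, U, hVU, hUV⟩, rfl⟩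
    rw [hE]
    exact (Matrix.isUnit_iff_isUnit_det _).mp (hU1.mul hVunit)
  have hrank_t : t.rank = k := by
    rw [htEN, Matrix.rank_mul_eq_right_of_isUnit_det _ _ hEunit, hreg]
  refine ⟨hnil_t, hrank_t, htadj, ?_⟩
  obtain ⟨v, hv⟩ := exists_cyclic k t hcard hnil_t hrank_t
  have hUt : Commute U t := by
    rw [ht, hN]
    exact (((Commute.refl U).sub_right (Commute.one_right _)).smul_right θ).sub_right
      ((hcommUV.sub_right (Commute.one_right _)).smul_right _)
  intro g
  constructor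
  · intro hgU
    have hgV : g * V = V * g := by
      calc g * V = V * (U * g) * V := by
            rw [← Matrix.mul_assoc V U, hVU, one_mul]
        _ = V * (g * U) * V := by rw [hgU.eq]
        _ = V * g := by rw [Matrix.mul_assoc, Matrix.mul_assoc, hUV, mul_one]
    rw [ht, hN]
    exact ((hgU.sub_right (Commute.one_right _)).smul_right θ).sub_right
      (((show Commute g V from hgV).sub_right (Commute.one_right _)).smul_right _)
  · intro hgt
    obtain ⟨c, hc⟩ := exists_Psi_of_commute k t hcard hnil_t v hv g hgt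
    rw [hc]
    exact (Psi_commute_of k t c U hUt).symm

end Cfsg.Agent.Lib.Helper16.RN
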