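import Mathlib
import Cfsg.Agent.Lib.Helper16.UReg
import Cfsg.Agent.Lib.Helper16.RegUnip
import Cfsg.Agent.S0755

set_option autoImplicit false
set_option linter.unusedSectionVars false
set_option linter.unusedSimpArgs false
set_option linter.unusedVariables false

namespace Cfsg.Agent.Lib.Helper16.RN

open Matrix Module

section
variable {ι : Type*} [Fintype ι] [DecidableEq ι] {F : Type*} [Field F]

theorem cayley_adj (A : AdjData ι F) (θ : F) (hθ : θ + A.σ θ = 1) (T : Matrix ι ι F) (j : ℕ)
    (hT : A.adj T = -T) (hnil : T ^ j = 0) :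
    ∃ u : Matrix ι ι F, u * A.adj u = 1 ∧ (u - 1) ^ j = 0 ∧ (u - 1).rank = T.rank := by
  have hsn : IsNilpotent T := ⟨j, hnil⟩
  have hn1 : IsNilpotent (A.σ θ • T) := by
    obtain ⟨i, hi⟩ := hsn
    exact ⟨i, by rw [smul_pow, hi, smul_zero]⟩
  have hn2 : IsNilpotent (θ • T) := by
    obtain ⟨i, hi⟩ := hsn
    exact ⟨i, by rw [smul_pow, hi, smul_zero]⟩
  obtain ⟨ua, hua⟩ := hn1.isUnit_one_sub
  obtain ⟨ub, hub⟩ := hn2.isUnit_one_add
  obtain ⟨a, ha⟩ : ∃ a, a = 1 - A.σ θ • T := ⟨_, rfl⟩
  obtain ⟨b, hb⟩ : ∃ b, b = 1 + θ • T := ⟨_, rfl⟩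
  rw [← ha] at hua
  rw [← hb] at hub
  obtain ⟨D, hD⟩ : ∃ D : Matrix ι ι F, D = (ua⁻¹).1 := ⟨_, rfl⟩
  obtain ⟨D', hD'⟩ : ∃ D' : Matrix ι ι F, D' = (ub⁻¹).1 := ⟨_, rfl⟩
  have haD : a * D = 1 := by rw [← hua, hD]; exact ua.mul_inv
  have hDa : D * a = 1 := by rw [← hua, hD]; exact ua.inv_mul
  have hbD' : b * D' = 1 := by rw [← hub, hD']; exact ub.mul_inv
  have hD'b : D' * b = 1 := by rw [← hub, hD']; exact ub.inv_mul
  have hab : a * b = b * a := by
    rw [ha, hb]
    have h0 : Commute (1 - A.σ θ • T) T :=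
      (Commute.one_left T).sub_left ((Commute.refl T).smul_left _)
    have : Commute (1 - A.σ θ • T) (1 + θ • T) :=
      (Commute.one_right _).add_right (h0.smul_right θ)
    exact this.eq
  have hadja : A.adj a = b := by
    rw [ha, hb, A.adj_sub, A.one', A.smul', A.σσ, hT]
    simp
  have hadjb : A.adj b = a := by
    rw [ha, hb, A.add', A.one', A.smul', hT]
    simp [sub_eq_add_neg]
  have hadjD : A.adj D = D' := by
    have h1 : A.adj D * b = 1 := by rw [← hadja, ← A.mul', haD, A.one']
    calc A.adj D = A.adj D * (b * D') := by rw [hbD', mul_one]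
      _ = (A.adj D * b) * D' := by rw [Matrix.mul_assoc]
      _ = D' := by rw [h1, one_mul]
  have hbD : b * D = D * b := by
    calc b * D = (D * a) * b * D := by rw [hDa, one_mul]
      _ = D * (a * b) * D := by simp only [Matrix.mul_assoc]
      _ = D * (b * a) * D := by rw [hab]
      _ = D * b * (a * D) := by simp only [Matrix.mul_assoc]
      _ = D * b := by rw [haD, mul_one]
  have hD'a : D' * a = a * D' := by
    calc D' * a = D' * a * (b * D') := by rw [hbD', mul_one]
      _ = D' * (a * b) * D' := by simp only [Matrix.mul_assoc]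
      _ = D' * (b * a) * D' := by rw [hab]
      _ = (D' * b) * a * D' := by simp only [Matrix.mul_assoc]
      _ = a * D' := by rw [hD'b, one_mul]
  have h1 : b * D - 1 = T * D := by
    have : b * D - 1 = b * D - a * D := by rw [haD]
    rw [this, ← sub_mul, ha, hb]
    congr 1
    have : (1 + θ • T - (1 - A.σ θ • T)) = (θ + A.σ θ) • T := by
      rw [add_smul]; abel
    rw [this, hθ, one_smul]
  refine ⟨b * D, ?_, ?_, ?_⟩
  · rw [A.mul', hadjD, hadjb]
    calc b * D * (D' * a) = D * b * (a * D') := by rw [hbD, hD'a]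
      _ = D * (b * a) * D' := by simp only [Matrix.mul_assoc]
      _ = D * (a * b) * D' := by rw [hab]
      _ = (D * a) * (b * D') := by simp only [Matrix.mul_assoc]
      _ = 1 := by rw [hDa, hbD', mul_one]
  · have hTD : Commute T D := by
      have hTa : Commute T a := by
        rw [ha]
        exact (Commute.one_right T).sub_right ((Commute.refl T).smul_right _)
      show T * D = D * T
      calc T * D = (D * a) * T * D := by rw [hDa, one_mul]
        _ = D * (a * T) * D := by simp only [Matrix.mul_assoc]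
        _ = D * (T * a) * D := by rw [hTa.eq]
        _ = D * T * (a * D) := by simp only [Matrix.mul_assoc]
        _ = D * T := by rw [haD, mul_one]
    rw [h1, hTD.mul_pow, hnil, zero_mul]
  · rw [h1]
    apply Matrix.rank_mul_eq_left_of_isUnit_det
    rw [hD]
    exact (Matrix.isUnit_iff_isUnit_det _).mp ⟨ua⁻¹, rfl⟩

end

section
variable {K : Type*} [Field K] {n : ℕ}

theorem exists_herm_congr [Finite K] (σ : K →+* K) (hσ : σ ≠ RingHom.id K)
    (hσσ : ∀ x, σ (σ x) = x) (Φ : Matrix (Fin n) (Fin n) K)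
    (hΦ : (Φ.map σ)ᵀ = Φ) (hΦu : IsUnit Φ) :
    ∃ Q : Matrix (Fin n) (Fin n) K, (Q.map σ)ᵀ * Φ * Q = 1 := by
  classical
  set B : (Fin n → K) →ₛₗ[σ] (Fin n → K) →ₗ[K] K :=
    Matrix.toLinearMapₛₗ₂' K σ (RingHom.id K) Φ with hB
  have hBapp : ∀ x y : Fin n → K, B x y = ∑ i, ∑ j, σ (x i) * (y j * Φ i j) := by
    intro x y
    rw [hB, Matrix.toLinearMapₛₗ₂'_apply]
    simp only [RingHom.id_apply, smul_eq_mul]
  have hBapp' : ∀ x y : Fin n → K, B x y = (σ ∘ x) ⬝ᵥ (Φ *ᵥ y) := by
    intro x y
    rw [hBapp]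
    simp only [dotProduct, Matrix.mulVec, Function.comp, Finset.mul_sum]
    apply Finset.sum_congr rfl
    intro i _
    apply Finset.sum_congr rfl
    intro j _
    ring
  have hΦij : ∀ i j, σ (Φ j i) = Φ i j := by
    intro i j
    have := congrFun (congrFun hΦ i) j
    simpa using this
  have hS : B.IsSymm := by
    constructor
    intro x y
    rw [hBapp, hBapp, map_sum, Finset.sum_comm]
    apply Finset.sum_congr rfl
    intro j _
    rw [map_sum]
    apply Finset.sum_congr rfl
    intro i _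
    rw [map_mul, map_mul, hσσ, hΦij]
    ring
  have hND : B.Nondegenerate := by
    obtain ⟨Φu, hΦu'⟩ := hΦu
    constructor
    · intro x hx
      have h1 : (σ ∘ x) ᵥ* Φ = 0 := by
        funext j
        have := hx (Pi.single j 1)
        rw [hBapp', Matrix.mulVec_single_one] at this
        simpa [Matrix.vecMul, dotProduct, Matrix.col_apply] using this
      have h2 : (σ ∘ x) = 0 := by
        have := congrArg (fun w => w ᵥ* (Φu⁻¹).1) h1
        simp only [Matrix.vecMul_vecMul, Matrix.zero_vecMul] at this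
        rw [← hΦu', Units.mul_inv, Matrix.vecMul_one] at this
        exact this
      funext i
      have := congrFun h2 i
      simp only [Function.comp, Pi.zero_apply] at this
      have h3 := congrArg σ this
      rw [hσσ, map_zero] at h3
      exact h3
    · intro y hy
      have h1 : Φ *ᵥ y = 0 := by
        funext i
        have := hy (Pi.single i 1)
        rw [hBapp'] at this
        have h4 : σ ∘ (Pi.single i (1 : K) : Fin n → K) = Pi.single i 1 := by
          funext l
          by_cases hl : l = i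
          · subst hl; simp
          · simp [Pi.single_eq_of_ne hl]
        rw [h4, single_one_dotProduct] at this
        exact this
      have := congrArg (fun w => (Φu⁻¹).1 *ᵥ w) h1
      simp only [Matrix.mulVec_mulVec, Matrix.mulVec_zero] at this
      rw [← hΦu', Units.inv_mul, Matrix.one_mulVec] at this
      exact this
  obtain ⟨b, hb⟩ := Cfsg.Agent.S0755.result σ hσ hσσ B hS hND
  have hfr : Module.finrank K (Fin n → K) = n := Module.finrank_fin_fun K
  set b' : Basis (Fin n) K (Fin n → K) := b.reindex (finCongr hfr) with hb'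
  have hb'app : ∀ i j, B (b' i) (b' j) = if i = j then 1 else 0 := by
    intro i j
    rw [hb', Basis.reindex_apply, Basis.reindex_apply, hb]
    simp
  refine ⟨Matrix.of (fun i j => b' j i), ?_⟩
  ext j l
  rw [Matrix.mul_apply]
  have := hb'app j l
  rw [hBapp] at this
  rw [Matrix.one_apply, ← this]
  simp only [Matrix.mul_apply, Matrix.transpose_apply, Matrix.map_apply, Matrix.of_apply,
    Finset.sum_mul]
  rw [Finset.sum_comm]
  apply Finset.sum_congr rfl
  intro i _
  apply Finset.sum_congr rfl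
  intro m _
  ring

/-- the antidiagonal matrix with alternating signs. -/
def antiPhi (n : ℕ) (ε : K) : Matrix (Fin n) (Fin n) K :=
  Matrix.of fun i j => if (i : ℕ) + (j : ℕ) + 1 = n then (-1) ^ (i : ℕ) * ε else 0

theorem neg_one_pow_anti (i j : ℕ) (h : i + j + 1 = n) :
    (-1 : K) ^ j * (-1) ^ (n - 1) = (-1) ^ i := by
  have : n - 1 = i + j := by omega
  rw [this, ← pow_add]
  have h2 : j + (i + j) = i + (j + j) := by ring
  rw [h2, pow_add, Even.neg_one_pow ⟨j, rfl⟩, mul_one]

theorem antiPhi_herm (σ : K →+* K) (ε : K) (hε : σ ε = (-1) ^ (n - 1) * ε) :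
    ((antiPhi n ε).map σ)ᵀ = antiPhi n ε := by
  ext i j
  simp only [Matrix.transpose_apply, Matrix.map_apply, antiPhi, Matrix.of_apply]
  by_cases h : (i : ℕ) + (j : ℕ) + 1 = n
  · have h' : (j : ℕ) + (i : ℕ) + 1 = n := by omega
    rw [if_pos h, if_pos h', map_mul, map_pow, map_neg, map_one, hε, ← mul_assoc,
      neg_one_pow_anti (i : ℕ) (j : ℕ) h]
  · have h' : ¬ ((j : ℕ) + (i : ℕ) + 1 = n) := by omega
    rw [if_neg h, if_neg h', map_zero]

theorem antiPhi_shift (ε : K) :
    (shiftN K n)ᵀ * antiPhi n ε = -(antiPhi n ε * shiftN K n) := by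
  have h1 : (shiftN K n)ᵀ * antiPhi n ε = ((antiPhi n ε)ᵀ * shiftN K n)ᵀ := by
    rw [Matrix.transpose_mul, Matrix.transpose_transpose]
  rw [h1]
  ext i j
  rw [Matrix.transpose_apply, Matrix.neg_apply]
  by_cases hi : (i : ℕ) + 1 < n
  · rw [mul_shiftN_apply_lt _ j i hi, Matrix.transpose_apply]
    by_cases hj : (j : ℕ) + 1 < n
    · rw [mul_shiftN_apply_lt _ i j hj]
      simp only [antiPhi, Matrix.of_apply]
      by_cases h : (i : ℕ) + 1 + (j : ℕ) + 1 = n
      · have h' : (i : ℕ) + ((j : ℕ) + 1) + 1 = n := by omega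
        rw [if_pos h, if_pos h', pow_succ]
        ring
      · have h' : ¬ ((i : ℕ) + ((j : ℕ) + 1) + 1 = n) := by omega
        rw [if_neg h, if_neg h', neg_zero]
    · rw [mul_shiftN_apply_last _ i j hj]
      simp only [antiPhi, Matrix.of_apply]
      have h : ¬ ((i : ℕ) + 1 + (j : ℕ) + 1 = n) := by omega
      rw [if_neg h, neg_zero]
  · rw [mul_shiftN_apply_last _ j i hi]
    by_cases hj : (j : ℕ) + 1 < n
    · rw [mul_shiftN_apply_lt _ i j hj]
      simp only [antiPhi, Matrix.of_apply]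
      have h : ¬ ((i : ℕ) + ((j : ℕ) + 1) + 1 = n) := by omega
      rw [if_neg h, neg_zero]
    · rw [mul_shiftN_apply_last _ i j hj, neg_zero]

theorem antiPhi_sq (ε : K) :
    antiPhi n ε * antiPhi n ε = ((-1) ^ (n - 1) * ε * ε) • (1 : Matrix (Fin n) (Fin n) K) := by
  ext i k
  rw [Matrix.mul_apply, Finset.sum_eq_single (Fin.rev i)]
  · simp only [antiPhi, Matrix.of_apply, Matrix.smul_apply, Matrix.one_apply, smul_eq_mul,
      Fin.val_rev]
    have h1 : (i : ℕ) + (n - ((i : ℕ) + 1)) + 1 = n := by have := i.2; omega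
    rw [if_pos h1]
    by_cases hik : i = k
    · subst hik
      have h2 : n - ((i : ℕ) + 1) + (i : ℕ) + 1 = n := by have := i.2; omega
      rw [if_pos h2, if_pos rfl, mul_one]
      have h3 := neg_one_pow_anti (K := K) (n := n) (n - ((i : ℕ) + 1)) (i : ℕ) h2
      rw [← h3]
      have h4 : ((-1 : K) ^ (i : ℕ)) * ((-1) ^ (i : ℕ)) = 1 := by
        rw [← pow_add, Even.neg_one_pow ⟨(i : ℕ), rfl⟩]
      linear_combination ((-1 : K) ^ (n - 1) * ε * ε) * h4
    · have h2 : ¬ (n - ((i : ℕ) + 1) + (k : ℕ) + 1 = n) := by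
        intro h
        apply hik
        apply Fin.ext
        have := i.2
        omega
      rw [if_neg h2, if_neg hik, mul_zero, mul_zero]
  · intro j _ hj
    simp only [antiPhi, Matrix.of_apply]
    have h : ¬ ((i : ℕ) + (j : ℕ) + 1 = n) := by
      intro h
      apply hj
      apply Fin.ext
      rw [Fin.val_rev]
      omega
    rw [if_neg h, zero_mul]
  · intro h; exact absurd (Finset.mem_univ _) h

theorem antiPhi_isUnit (ε : K) (hε : ε ≠ 0) : IsUnit (antiPhi n ε) := by
  have hc : ((-1 : K) ^ (n - 1) * ε * ε) ≠ 0 :=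
    mul_ne_zero (mul_ne_zero (pow_ne_zero _ (neg_ne_zero.mpr one_ne_zero)) hε) hε
  have h1 := antiPhi_sq (n := n) ε
  refine ⟨⟨antiPhi n ε, ((-1 : K) ^ (n - 1) * ε * ε)⁻¹ • antiPhi n ε, ?_, ?_⟩, rfl⟩
  · rw [Matrix.mul_smul, h1, smul_smul, inv_mul_cancel₀ hc, one_smul]
  · rw [Matrix.smul_mul, h1, smul_smul, inv_mul_cancel₀ hc, one_smul]

end

end Cfsg.Agent.Lib.Helper16.RN
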