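import Mathlib
import Cfsg.Prelude.Def_LieTypeDatum
import Cfsg.Prelude.Def_KGroupFacts
import Cfsg.Agent.Lib.Helper16.H9b
import Cfsg.Agent.Lib.Helper16.GF3
import Cfsg.Agent.Lib.Helper16.UExist

set_option autoImplicit false
set_option linter.unusedSectionVars false
set_option linter.unusedVariables false

namespace Cfsg.Agent.Lib.Helper16.H9

open Matrix Cfsg.Agent.Lib.Helper16.PG Cfsg.Agent.Lib.Helper16.AP Cfsg.Agent.Lib.Helper16.PU
  Cfsg.Agent.Lib.Helper16.GF

universe u

section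
variable {n : ℕ} {F : Type u} [Field F] [Fintype F]

/-- in the coset of a field automorphism, the elements of the same order are conjugate to it. -/
theorem field_conj (hn : 1 ≤ n) (σ : RingAut F) (r : ℕ) (hord : orderOf σ = r) (hr0 : 0 < r)
    (g : GL (Fin n) F) (hpow : (Phi n F g * fieldL n σ) ^ r = 1) :
    ∃ h : GL (Fin n) F, Phi n F g * fieldL n σ = Phi n F h * fieldL n σ * (Phi n F h)⁻¹ := by
  have hσr : σ ^ r = 1 := by rw [← hord]; exact pow_orderOf_eq_one σ
  have hinj : ∀ i j, i < r → j < r → σ ^ i = σ ^ j → i = j := by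
    intro i j hi hj hij
    rw [← hord] at hi hj
    exact pow_injOn_Iio_orderOf hi hj hij
  rw [pow_Phi_fieldL, hσr] at hpow
  have h1 : fieldL n (1 : RingAut F) = 1 := map_one (fieldLHom n F)
  rw [h1, mul_one, Phi_eq_one_iff] at hpow
  obtain ⟨c, hc⟩ := hpow
  have hc' : scalGL n c = tw σ g r := hc
  have hfix : uσ σ c = c := by
    apply scalGL_injective hn
    have e1 : tw σ g (r + 1) = g * scalGL n (uσ σ c) := by rw [tw_succ, ← hc', mapGL_scalGL]
    have e2 : tw σ g (r + 1) = g * scalGL n c := by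
      rw [tw_add, hσr, mapGL_one_aut, tw_one, ← hc', scalGL_comm]
    exact mul_left_cancel (e1.symm.trans e2)
  obtain ⟨d, hd⟩ := norm_surj σ r hinj hr0 hσr c hfix
  set g' := g * scalGL n d⁻¹ with hg'
  have hg'tw : tw σ g' r = 1 := by
    rw [hg', tw_mul_scalGL, ← hc', ← scalGL_mul, ← nuHom_apply, map_inv, nuHom_apply, hd, mul_inv_cancel,
      scalGL_one]
  obtain ⟨B, hB⟩ := h90_GL σ r hinj hr0 hσr g' hg'tw
  refine ⟨B, ?_⟩
  have hPg : Phi n F g = Phi n F g' := by rw [hg', map_mul, Phi_scalGL, mul_one]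
  have hg'B : g' = B * (mapGL n σ B)⁻¹ := eq_mul_inv_of_mul_eq hB
  have h2 : fieldL n σ * (Phi n F B)⁻¹ = Phi n F (mapGL n σ B)⁻¹ * fieldL n σ := by
    rw [← map_inv, fieldL_Phi, map_inv]
  rw [mul_assoc (Phi n F B), h2, hPg, hg'B, map_mul, mul_assoc]

end

section
variable {n : ℕ} {F : Type u} [Field F] [Fintype F] {q : ℕ}

/-- inverse-transpose-conjugate on `GL_n`. -/
noncomputable def ist (n : ℕ) (σ : F ≃+* F) : GL (Fin n) F →* GL (Fin n) F := (mapGL n σ).comp (gTI n F)

theorem ist_apply (σ : F ≃+* F) (g : GL (Fin n) F) : ist n σ g = mapGL n σ (gTI n F g) := rfl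

theorem ist_inv_val (σ : F ≃+* F) (g : GL (Fin n) F) :
    (((ist n σ g)⁻¹ : GL (Fin n) F) : Matrix (Fin n) (Fin n) F) = ((g : Matrix (Fin n) (Fin n) F).map ⇑σ)ᵀ := by
  rw [ist_apply, mapGL_inv_val, gTI_inv_val, Matrix.transpose_map]

theorem ist_ist (hF : Fintype.card F = q ^ 2) (σ : F ≃+* F) (hσ : ∀ a, σ a = a ^ q) (g : GL (Fin n) F) :
    ist n σ (ist n σ g) = g := by
  rw [← _root_.inv_inj]
  apply Units.ext
  rw [ist_inv_val]
  have h1 : ((ist n σ g : GL (Fin n) F) : Matrix (Fin n) (Fin n) F) =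
      (((g⁻¹ : GL (Fin n) F) : Matrix (Fin n) (Fin n) F).map ⇑σ)ᵀ := by
    rw [ist_apply, mapGL_val, gTI_val, Matrix.transpose_map]
  rw [h1, ← Matrix.transpose_map, Matrix.transpose_transpose, map_map_bar hF σ hσ]

theorem ist_scalGL (σ : F ≃+* F) (c : Fˣ) : ist n σ (scalGL n c) = (scalGL n (uσ (σ : RingAut F) c))⁻¹ := by
  rw [← _root_.inv_inj, inv_inv]
  apply Units.ext
  rw [ist_inv_val, scalGL_val, scalGL_val, uσ_val]
  ext i j
  rw [Matrix.transpose_apply, Matrix.map_apply, Matrix.smul_apply, Matrix.smul_apply, smul_eq_mul, smul_eq_mul,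
    map_mul]
  by_cases hij : j = i
  · subst hij
    rw [Matrix.one_apply_eq, map_one]
  · rw [Matrix.one_apply_ne hij, Matrix.one_apply_ne (Ne.symm hij), map_zero]

theorem theta_Phi' (σ : F ≃+* F) (g : GL (Fin n) F) :
    theta n σ * Phi n F g = Phi n F (ist n σ g) * theta n σ := theta_Phi σ g

/-- in the coset of the graph-field involution, the involutions are conjugate to it. -/
theorem graph_field_conj (hF : Fintype.card F = q ^ 2) (hn : 1 ≤ n) (σ : F ≃+* F) (hσ : ∀ a, σ a = a ^ q)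
    (g : GL (Fin n) F) (hpow : (Phi n F g * theta n σ) ^ 2 = 1) :
    ∃ h : GL (Fin n) F, Phi n F g * theta n σ = Phi n F h * theta n σ * (Phi n F h)⁻¹ := by
  have hσσ : ∀ x, σ (σ x) = x := bar_bar hF σ hσ
  have hθ2 : theta n σ * theta n σ = 1 := theta_sq σ hσσ
  have h1 : Phi n F (g * ist n σ g) = 1 := by
    rw [← hpow, pow_two, map_mul]
    calc Phi n F g * Phi n F (ist n σ g)
        = Phi n F g * Phi n F (ist n σ g) * (theta n σ * theta n σ) := by rw [hθ2, mul_one]
      _ = Phi n F g * (Phi n F (ist n σ g) * theta n σ) * theta n σ := by simp only [mul_assoc]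
      _ = _ := by rw [← theta_Phi']; simp only [mul_assoc]
  rw [Phi_eq_one_iff] at h1
  obtain ⟨c, hc⟩ := h1
  have hc' : scalGL n c = g * ist n σ g := hc
  -- the multiplier has norm one
  have hcc : c * uσ (σ : RingAut F) c = 1 := by
    have e1 : ist n σ g * g = (scalGL n (uσ (σ : RingAut F) c))⁻¹ := by
      have := congrArg (ist n σ) hc'
      rw [map_mul, ist_ist hF σ hσ, ist_scalGL] at this
      exact this.symm
    have e2 : ist n σ g * g = scalGL n c := by
      have : ist n σ g = g⁻¹ * scalGL n c := by rw [hc', inv_mul_cancel_left]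
      rw [this, mul_assoc, scalGL_comm, inv_mul_cancel_left]
    have e3 : scalGL n (c * uσ (σ : RingAut F) c) = (scalGL n (1 : Fˣ) : GL (Fin n) F) := by
      rw [scalGL_mul, scalGL_one, ← e2, e1, inv_mul_cancel]
    exact scalGL_injective hn e3
  have hσne : (σ : RingAut F) ≠ 1 := by
    obtain ⟨θ, hθ⟩ := exists_moved hF σ hσ
    intro h
    apply hθ
    have := DFunLike.congr_fun h θ
    exact this
  have hσ2 : (σ : RingAut F) ^ 2 = 1 := by
    apply RingEquiv.ext
    intro x
    rw [pow_two]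
    exact hσσ x
  have hinj : ∀ i j, i < 2 → j < 2 → (σ : RingAut F) ^ i = (σ : RingAut F) ^ j → i = j := by
    intro i j hi hj hij
    interval_cases i <;> interval_cases j
    · rfl
    · exfalso; rw [pow_zero, pow_one] at hij; exact hσne hij.symm
    · exfalso; rw [pow_zero, pow_one] at hij; exact hσne hij
    · rfl
  have hnu : nu (σ : RingAut F) c 2 = 1 := by
    rw [nu_succ, nu_succ, nu_zero, map_one, mul_one, hcc]
  obtain ⟨e, he⟩ := h90_units (σ : RingAut F) 2 hinj (by norm_num) hσ2 c hnu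
  set g' := g * scalGL n e⁻¹ with hg'
  have hPg : Phi n F g = Phi n F g' := by rw [hg', map_mul, Phi_scalGL, mul_one]
  have hg'1 : g' * ist n σ g' = 1 := by
    rw [hg', map_mul, ist_scalGL, map_inv]
    have hk : (scalGL n ((uσ (σ : RingAut F) e)⁻¹) : GL (Fin n) F)⁻¹ = scalGL n (uσ (σ : RingAut F) e) := by
      rw [scalGL_inv, inv_inv]
    rw [hk]
    calc g * scalGL n e⁻¹ * (ist n σ g * scalGL n (uσ (σ : RingAut F) e))
        = g * (scalGL n e⁻¹ * ist n σ g) * scalGL n (uσ (σ : RingAut F) e) := by simp only [mul_assoc]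
      _ = (g * ist n σ g) * scalGL n e⁻¹ * scalGL n (uσ (σ : RingAut F) e) := by
          rw [scalGL_comm]; simp only [mul_assoc]
      _ = 1 := by
          rw [← hc', ← scalGL_mul, ← scalGL_mul, mul_right_comm, he, mul_inv_cancel, scalGL_one]
  have hherm : (((g' : GL (Fin n) F) : Matrix (Fin n) (Fin n) F).map ⇑σ)ᵀ = (g' : Matrix (Fin n) (Fin n) F) := by
    rw [← ist_inv_val]
    congr 1
    exact (eq_inv_of_mul_eq_one_left hg'1).symm
  have hσne' : (σ : F →+* F) ≠ RingHom.id F := by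
    obtain ⟨θ, hθ⟩ := exists_moved hF σ hσ
    intro h
    apply hθ
    have := RingHom.congr_fun h θ
    simpa using this
  obtain ⟨Q, hQ⟩ := Cfsg.Agent.Lib.Helper16.RN.exists_herm_congr (σ : F →+* F) hσne'
    (fun x => by simpa using hσσ x) (g' : Matrix (Fin n) (Fin n) F) (by simpa using hherm) g'.isUnit
  simp only [RingEquiv.coe_toRingHom] at hQ
  have hQunit : IsUnit Q := (Matrix.isUnit_iff_isUnit_det Q).mpr (Matrix.isUnit_det_of_left_inverse hQ)
  set Qg : GL (Fin n) F := hQunit.unit with hQg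
  have hQgval : (Qg : Matrix (Fin n) (Fin n) F) = Q := IsUnit.unit_spec hQunit
  have hQ' : (ist n σ Qg)⁻¹ * g' * Qg = 1 := by
    apply Units.ext
    rw [Units.val_mul, Units.val_mul, ist_inv_val, hQgval, Units.val_one]
    exact hQ
  have hg'Q : g' = ist n σ Qg * Qg⁻¹ := by
    have := eq_mul_inv_of_mul_eq hQ'
    rw [one_mul] at this
    rw [← this, mul_inv_cancel_left]
  refine ⟨ist n σ Qg, ?_⟩
  have h2 : theta n σ * (Phi n F (ist n σ Qg))⁻¹ = Phi n F Qg⁻¹ * theta n σ := by
    rw [← map_inv, theta_Phi', map_inv, ist_ist hF σ hσ]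
  rw [mul_assoc (Phi n F (ist n σ Qg)), h2, hPg, hg'Q, map_mul, mul_assoc]

end

end Cfsg.Agent.Lib.Helper16.H9
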