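import Mathlib
import Cfsg.Prelude.Def_LieTypeDatum
import Cfsg.Prelude.Def_KGroupFacts
import Cfsg.Agent.Lib.Helper16.H9c

set_option autoImplicit false
set_option linter.unusedSectionVars false
set_option linter.unusedVariables false

namespace Cfsg.Agent.Lib.Helper16.H9

open Matrix Cfsg.Agent.Lib.Helper16.PG Cfsg.Agent.Lib.Helper16.AP Cfsg.Agent.Lib.Helper16.PU
  Cfsg.Agent.Lib.Helper16.GF

universe u

section
variable {X : Type*} [Group X]

theorem conj_pow' (α y : X) (k : ℕ) : (α * y * α⁻¹) ^ k = α * y ^ k * α⁻¹ := by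
  have := map_pow (MulAut.conj α) y k
  rw [MulAut.conj_apply, MulAut.conj_apply] at this
  exact this.symm

/-- transport of the coset-conjugacy statement along a conjugation. -/
theorem coset_conj_transport (H : Subgroup X) [hH : H.Normal] (α x x₀ δ : X) (r : ℕ) (hα : α * x * α⁻¹ = x₀)
    (hδ : δ ∈ H) (hpow : (δ * x) ^ r = 1)
    (hmain : ∀ d ∈ H, (d * x₀) ^ r = 1 → ∃ h ∈ H, d * x₀ = h * x₀ * h⁻¹) :
    Cfsg.IsConjUnder H x (δ * x) := by
  have hd : α * δ * α⁻¹ ∈ H := hH.conj_mem δ hδ α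
  have h1 : α * δ * α⁻¹ * x₀ = α * (δ * x) * α⁻¹ := by
    rw [← hα]; group
  have h2 : (α * δ * α⁻¹ * x₀) ^ r = 1 := by
    rw [h1, conj_pow', hpow]; group
  obtain ⟨h, hh, he⟩ := hmain _ hd h2
  refine ⟨α⁻¹ * h * α, ?_, ?_⟩
  · have := hH.conj_mem h hh α⁻¹
    rwa [inv_inv] at this
  · have h3 : δ * x = α⁻¹ * (α * δ * α⁻¹ * x₀) * α := by
      rw [h1]; group
    rw [h3, he, ← hα]
    group

end

section
variable {n : ℕ} {F : Type u} [Field F] [Fintype F] {p f : ℕ} [Fact p.Prime]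

theorem theta_pow_odd (σ : F ≃+* F) (k : ℕ) :
    ∃ τ : F ≃+* F, theta n σ ^ (2 * k + 1) = fieldL n τ * iota n F := by
  induction k with
  | zero => exact ⟨σ, by rw [Nat.mul_zero, Nat.zero_add, pow_one]; rfl⟩
  | succ k ih =>
    obtain ⟨τ, hτ⟩ := ih
    refine ⟨τ.trans (σ.trans σ), ?_⟩
    have : 2 * (k + 1) + 1 = 2 + (2 * k + 1) := by ring
    rw [this, pow_add, hτ, pow_two, theta_mul_self, ← mul_assoc, ← fieldL_mul]

theorem S2697_aux (hF : Fintype.card F = p ^ f) (hf : 1 ≤ f) (hn : 2 ≤ n) (hs : n = 2 → 4 ≤ Fintype.card F)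
    (x δ : MulAut (Matrix.ProjectiveSpecialLinearGroup (Fin n) F))
    (hx : Cfsg.IsFieldAutClassPSL x ∨ Cfsg.IsGraphFieldAutClassPSL x) {r : ℕ} (hr : r.Prime)
    (hxr : orderOf x = r) (hδ : δ ∈ Cfsg.inndiagPSL n F) :
    orderOf (δ * x) = r ↔ Cfsg.IsConjUnder (Cfsg.inndiagPSL n F) x (δ * x) := by
  rw [inndiag_eq_range] at hδ ⊢
  have hN : ((Phi n F).range).Normal := Phi_range_normal hn
  constructor
  · intro ho
    have hpow : (δ * x) ^ r = 1 := by rw [← ho]; exact pow_orderOf_eq_one _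
    rcases hx with hx | hx
    · obtain ⟨α, σ, hσ, hstd⟩ := hx
      have hx₀ : α * x * α⁻¹ = fieldL n σ := (isStdField_iff σ _).mp hstd
      have hord : orderOf (σ : RingAut F) = r := by
        rw [← AF.orderOf_fieldL hn, ← hx₀, AF.orderOf_conj_eq, hxr]
      apply coset_conj_transport (Phi n F).range α x (fieldL n σ) δ r hx₀ hδ hpow
      rintro _ ⟨g, rfl⟩ hg
      obtain ⟨h, hh⟩ := field_conj (by omega) (σ : RingAut F) r hord hr.pos g hg
      exact ⟨Phi n F h, ⟨h, rfl⟩, hh⟩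
    · have hn3 : 3 ≤ n := hx.1
      have hr2 : r = 2 := by
        rcases hr.eq_two_or_odd' with h2 | hodd
        · exact h2
        · exfalso
          obtain ⟨-, α, φ, γ, σ', hσ', hφ, hγ, hconj⟩ := hx
          rw [isStdField_iff] at hφ
          rw [isInvTranspose_iff] at hγ
          subst hφ
          subst hγ
          have hconj' : α * x * α⁻¹ = theta n σ' := hconj
          obtain ⟨k, hk⟩ := hodd
          obtain ⟨τ, hτ⟩ := theta_pow_odd (n := n) σ' k
          rw [← hk, ← hconj', conj_pow', ← hxr, pow_orderOf_eq_one, mul_one, mul_inv_cancel] at hτ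
          apply fieldL_iota_ne_Phi hn3 τ 1
          rw [← hτ, map_one]
      subst hr2
      obtain ⟨hev, σ, g₀, hσ, hxg⟩ := graph_field_normal_form hF hn3 x hx hxr
      have h2f : 2 ∣ f := even_iff_two_dvd.mp hev
      have hF' : Fintype.card F = (p ^ (f / 2)) ^ 2 := by
        rw [hF, ← pow_mul, Nat.div_mul_cancel h2f]
      have hx₀ : (Phi n F g₀)⁻¹ * x * ((Phi n F g₀)⁻¹)⁻¹ = theta n σ := by
        rw [hxg]; group
      apply coset_conj_transport (Phi n F).range (Phi n F g₀)⁻¹ x (theta n σ) δ 2 hx₀ hδ hpow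
      rintro _ ⟨g, rfl⟩ hg
      obtain ⟨h, hh⟩ := graph_field_conj hF' (by omega) σ hσ g hg
      exact ⟨Phi n F h, ⟨h, rfl⟩, hh⟩
  · rintro ⟨h, hh, he⟩
    rw [he, AF.orderOf_conj_eq, hxr]

end

end Cfsg.Agent.Lib.Helper16.H9
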