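import Mathlib
import Cfsg.Agent.Lib.Helper16.OA22

set_option autoImplicit false
set_option linter.unusedSectionVars false
set_option linter.unusedVariables false

/-! Automorphisms of orthogonal groups, part 26: a semisimilarity inducing the identity is linear. -/

namespace Cfsg.Agent.Lib.Helper16.OA

open Matrix Cfsg.Agent.Lib.Helper28.HForm Cfsg.Agent.Lib.Helper28.OGen
  Cfsg.Agent.Lib.Helper28.OMax Cfsg.Agent.Lib.Helper28.OQ Cfsg.Agent.Lib.Helper28.OMax2
  Cfsg.Agent.Lib.Helper28.OIwa Cfsg.Agent.Lib.Helper28.OIwa2 Cfsg.Agent.Lib.Helper28.ONd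

variable {n : ℕ} {F : Type*} [Field F] {Q : (Fin n → F) → F}
  {f : (Fin n → F) → (Fin n → F) → F}

local notation:73 g:73 " ∙ " x:74 => Matrix.mulVec (Units.val g) x

variable {G : Subgroup (Matrix.GeneralLinearGroup (Fin n) F)}

section fin
variable [Fintype F] {Φ : (Fin n → F) → (Fin n → F)} {τ : F ≃+* F} {ν : F}

theorem ssim_fix_points (hq : QF Q f) (vf : VFacts Q f) (hG : SgGroupQ Q f G) (p : ℕ)
    [Fact p.Prime] [CharP F p] (hS : SSim Q Φ τ ν) (g : Matrix.GeneralLinearGroup (Fin n) F)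
    (hg : ∀ v : Fin n → F, g ∙ (fun i => τ (v i)) = Φ v)
    (hid : ∀ s s' : ↥G, (s' : Matrix.GeneralLinearGroup (Fin n) F) = cjHom g τ s →
      mkG G s' = mkG G s)
    {u : Fin n → F} (hu : Q u = 0) (hu0 : u ≠ 0) : Φ u ∈ Submodule.span F {u} := by
  have hf := hq.sym
  have hΦu : Q (Φ u) = 0 := by rw [hS.quad, hu, map_zero, mul_zero]
  have hΦu0 : Φ u ≠ 0 := fun h => hu0 (hS.ker hq h)
  apply Qb_le_iff hq vf hG p hu hu0 hΦu
  rintro _ ⟨r, hr, rfl⟩
  obtain ⟨y, hy, hry⟩ := hr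
  have h1 := cjHom_rho hS hq g hg hry
  have h2 : f (ν⁻¹ • Φ y) (Φ u) = 0 := by
    rw [hf.smul_left, hS.polar hq, hy, map_zero, mul_zero, mul_zero]
  have hmem : cjHom g τ r ∈ G := isRho_mem hq vf hG h1 hΦu hΦu0 h2
  have h3 := hid r ⟨cjHom g τ r, hmem⟩ rfl
  rw [← h3]
  exact Subgroup.mem_map_of_mem _ ⟨ν⁻¹ • Φ y, h2, h1⟩

/-- a semisimilarity inducing the identity automorphism has trivial field automorphism. -/
theorem ssim_tau_one (hq : QF Q f) (vf : VFacts Q f) (hG : SgGroupQ Q f G) (p : ℕ)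
    [Fact p.Prime] [CharP F p] (hS : SSim Q Φ τ ν) (g : Matrix.GeneralLinearGroup (Fin n) F)
    (hg : ∀ v : Fin n → F, g ∙ (fun i => τ (v i)) = Φ v)
    (hid : ∀ s s' : ↥G, (s' : Matrix.GeneralLinearGroup (Fin n) F) = cjHom g τ s →
      mkG G s' = mkG G s) (c : F) : τ c = c := by
  have hf := hq.sym
  obtain ⟨u, hu, hu0⟩ := vf.sing
  obtain ⟨w, hw, hwu, hwn⟩ := exists_perp_out hq vf hu hu0
  have hw0 : w ≠ 0 := by
    rintro rfl
    exact hwn (Submodule.zero_mem _)
  have hind : ∀ a b : F, a • u + b • w = 0 → a = 0 ∧ b = 0 :=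
    (LinearIndependent.pair_iff).1 (li2 u w hu0 hwn)
  obtain ⟨a, ha⟩ := Submodule.mem_span_singleton.1 (ssim_fix_points hq vf hG p hS g hg hid hu hu0)
  obtain ⟨b, hb⟩ := Submodule.mem_span_singleton.1 (ssim_fix_points hq vf hG p hS g hg hid hw hw0)
  have ha0 : a ≠ 0 := by
    rintro rfl
    rw [zero_smul] at ha
    exact hu0 (hS.ker hq ha.symm)
  have key : ∀ c : F, τ c * a = b * c ∧ True := by
    intro c
    have hx : Q (c • u + w) = 0 := by
      rw [hq.polar, hq.smul, hu, hw, hf.smul_left, s_symm hf, hwu]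
      ring
    have hx0 : c • u + w ≠ 0 := by
      intro h
      have := (hind c 1 (by rw [one_smul]; exact h)).2
      exact one_ne_zero this
    obtain ⟨k, hk⟩ := Submodule.mem_span_singleton.1
      (ssim_fix_points hq vf hG p hS g hg hid hx hx0)
    rw [hS.add, hS.smul, ← ha, ← hb] at hk
    have h1 : (k * c - τ c * a) • u + (k - b) • w = 0 := by
      have : (k * c - τ c * a) • u + (k - b) • w = k • (c • u + w) - (τ c • a • u + b • w) := by
        module
      rw [this, hk, sub_self]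
    obtain ⟨h2, h3⟩ := hind _ _ h1
    refine ⟨?_, trivial⟩
    have hkb : k = b := sub_eq_zero.1 h3
    rw [hkb] at h2
    exact (sub_eq_zero.1 h2).symm
  have h1 := (key 1).1
  rw [map_one, one_mul, mul_one] at h1
  have h2 := (key c).1
  rw [← h1] at h2
  have : (τ c - c) * a = 0 := by
    rw [sub_mul, h2]
    ring
  rcases mul_eq_zero.1 this with h | h
  · exact sub_eq_zero.1 h
  · exact absurd h ha0

end fin

end Cfsg.Agent.Lib.Helper16.OA
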