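import Mathlib
import Cfsg.Agent.Lib.Helper16.OA24
import Cfsg.Agent.Lib.Helper16.OA26

set_option autoImplicit false
set_option linter.unusedSectionVars false
set_option linter.unusedVariables false

/-! Automorphisms of orthogonal groups, part 27: the kernel lemma on an arbitrary index type. -/

namespace Cfsg.Agent.Lib.Helper16.OA

open Matrix Cfsg.Agent.Lib.Lead Cfsg.Agent.Lib.Helper28.OTrans Cfsg.Agent.Lib.Helper28.OGenQ

universe u

variable {ι : Type} [Fintype ι] [DecidableEq ι] {F : Type u} [Field F] {n : ℕ}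

/-- conjugation by the semilinear map `v ↦ g σ(v)` on `GL ι F`. -/
noncomputable def cjI (g : GL ι F) (σ : F ≃+* F) : GL ι F →* GL ι F :=
  (MulAut.conj g).toMonoidHom.comp (Matrix.GeneralLinearGroup.map (σ : F →+* F))

theorem cjI_val (g : GL ι F) (σ : F ≃+* F) (s : GL ι F) :
    ((cjI g σ s : GL ι F) : Matrix ι ι F) =
      (g : Matrix ι ι F) * ((s : Matrix ι ι F)).map σ * ((g⁻¹ : GL ι F) : Matrix ι ι F) := rfl

theorem cjHom_reindex (e : ι ≃ Fin n) (g s : GL ι F) (σ : F ≃+* F) :
    cjHom (RI.glReindex (F := F) e g) σ (RI.glReindex (F := F) e s) =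
      RI.glReindex (F := F) e (cjI g σ s) := by
  apply Units.ext
  rw [cjHom_val, RI.glReindex_coe, RI.glReindex_coe, RI.glReindex_coe, cjI_val, reindex_map,
    ← map_inv, RI.glReindex_coe]
  have h3 : ∀ A B : Matrix ι ι F, Matrix.reindex e e (A * B) =
      Matrix.reindex e e A * Matrix.reindex e e B := by
    intro A B
    exact map_mul (Matrix.reindexAlgEquiv F F e) A B
  rw [h3, h3]

theorem glReindex_mulVec_comp (e : ι ≃ Fin n) (g : GL ι F) (x : Fin n → F) :
    (((RI.glReindex (F := F) e g : GL (Fin n) F) : Matrix (Fin n) (Fin n) F) *ᵥ x) ∘ e =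
      (g : Matrix ι ι F) *ᵥ (x ∘ e) := by
  rw [RI.glReindex_coe, RI.reindex_mulVec]
  funext i
  simp

/-- a semisimilarity inducing the identity automorphism of `PΩ(Q)` has trivial field
automorphism. -/
theorem sigma_refl_of_induced_one [Fintype F] (Q : QuadraticForm F (ι → F))
    (hQ : (QuadraticMap.polarBilin Q).Nondegenerate) (hn : 7 ≤ Fintype.card ι)
    (g : GL ι F) (σ : F ≃+* F) (hs : Cfsg.IsSemisimilarityPair (⇑Q) g σ)
    (hi : Cfsg.IsInducedBySemilinearPOmega (⇑Q) g σ (MulEquiv.refl _)) (c : F) : σ c = c := by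
  obtain ⟨e, he⟩ : ∃ e : ι ≃ Fin (Fintype.card ι), e = Fintype.equivFin ι := ⟨_, rfl⟩
  have hQ' := RI.qReindex_nondeg e Q hQ
  have hq := qf_of_quad (RI.qReindex e Q) hQ'
  have vf := vfacts_quad hn (RI.qReindex e Q) hQ'
  have hG := sgGroupQ_quad hn (RI.qReindex e Q) hQ'
  obtain ⟨p, hp⟩ := CharP.exists F
  have hpp : Fact p.Prime := ⟨CharP.char_is_prime F p⟩
  obtain ⟨ν, hν⟩ := hs
  obtain ⟨g₀, hg₀⟩ : ∃ g₀ : GL (Fin (Fintype.card ι)) F, g₀ = RI.glReindex (F := F) e g := ⟨_, rfl⟩
  have hS : SSim (⇑(RI.qReindex e Q))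
      (fun v => (g₀ : Matrix (Fin (Fintype.card ι)) (Fin (Fintype.card ι)) F) *ᵥ
        (fun i => σ (v i))) σ (ν : F) :=
    { add := by
        intro x y
        rw [← Matrix.mulVec_add]
        congr 1
        funext i
        simp
      smul := by
        intro k x
        rw [← Matrix.mulVec_smul]
        congr 1
        funext i
        simp
      quad := by
        intro v
        rw [RI.qReindex_coe]
        show Q ((((g₀ : GL (Fin (Fintype.card ι)) F) : Matrix (Fin (Fintype.card ι)) (Fin (Fintype.card ι)) F) *ᵥ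
          (fun i => σ (v i))) ∘ e) = (ν : F) * σ (Q (v ∘ e))
        rw [hg₀, glReindex_mulVec_comp]
        have := hν (v ∘ e)
        exact this
      ne := Units.ne_zero ν }
  apply ssim_tau_one hq vf hG p hS g₀ (fun v => rfl)
  intro s₀ s₀' h
  obtain ⟨s, rfl⟩ := (omIso e Q).surjective s₀
  obtain ⟨s', rfl⟩ := (omIso e Q).surjective s₀'
  rw [omIso_coe, omIso_coe, hg₀, cjHom_reindex] at h
  have h1 := (RI.glReindex (F := F) e).injective h
  have h2 := hi s s' (by rw [h1, cjI_val])
  rw [← pomIso_mk, ← pomIso_mk]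
  congr 1
  exact h2.symm

end Cfsg.Agent.Lib.Helper16.OA
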