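import Mathlib
import Cfsg.Agent.Lib.Helper16.OA27
import Cfsg.Agent.Lib.Lead.OrthAut1

set_option autoImplicit false
set_option linter.unusedSectionVars false
set_option linter.unusedVariables false

/-! Automorphisms of orthogonal groups, part 28: field automorphisms of `PΩ(Q)` for a form defined
over the prime field. -/

namespace Cfsg.Agent.Lib.Helper16.OA

open Matrix Cfsg.Agent.Lib.Lead.OA

universe u

variable {ι : Type} [Fintype ι] [DecidableEq ι] {F : Type u} [Field F]

/-- the form commutes with all field automorphisms. -/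
def FieldCompat (Q : (ι → F) → F) : Prop :=
  ∀ (σ : F ≃+* F) (v : ι → F), Q (fun i => σ (v i)) = σ (Q v)

/-- entrywise field automorphism of `GL`. -/
noncomputable def glMapEquiv (σ : F ≃+* F) : GL ι F ≃* GL ι F :=
  Units.mapEquiv (σ.mapMatrix (m := ι)).toMulEquiv

theorem glMapEquiv_val (σ : F ≃+* F) (g : GL ι F) :
    ((glMapEquiv σ g : GL ι F) : Matrix ι ι F) = (g : Matrix ι ι F).map σ := rfl

theorem glMapEquiv_symm_val (σ : F ≃+* F) (g : GL ι F) :
    (((glMapEquiv σ).symm g : GL ι F) : Matrix ι ι F) = (g : Matrix ι ι F).map σ.symm := rfl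

theorem map_mem_iso {Q : (ι → F) → F} (hσ : FieldCompat Q) (σ : F ≃+* F) {s : GL ι F}
    (hs : s ∈ Cfsg.isometryGroup F Q) : glMapEquiv σ s ∈ Cfsg.isometryGroup F Q := by
  rw [mem_iso_iff'] at hs ⊢
  intro x
  have hx : x = fun i => σ ((fun j => σ.symm (x j)) i) := by
    funext i
    simp
  have h1 : ((glMapEquiv σ s : GL ι F) : Matrix ι ι F) *ᵥ
      (fun i => σ ((fun j => σ.symm (x j)) i)) =
      fun i => σ (((s : Matrix ι ι F) *ᵥ (fun j => σ.symm (x j))) i) := by
    funext i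
    exact (RingHom.map_mulVec (σ : F →+* F) (s : Matrix ι ι F) _ i).symm
  conv_lhs => rw [hx]
  rw [h1, hσ, hs, ← hσ, ← hx]

theorem glMapEquiv_symm_eq (σ : F ≃+* F) (g : GL ι F) :
    (glMapEquiv σ).symm g = glMapEquiv σ.symm g := by
  apply Units.ext
  rfl

theorem map_iso_field {Q : (ι → F) → F} (hσ : FieldCompat Q) (σ : F ≃+* F) :
    (Cfsg.isometryGroup F Q).map (glMapEquiv (ι := ι) σ).toMonoidHom = Cfsg.isometryGroup F Q := by
  ext h
  rw [Subgroup.mem_map_equiv]
  constructor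
  · intro hh
    have := map_mem_iso hσ σ hh
    rw [MulEquiv.apply_symm_apply] at this
    exact this
  · intro hh
    rw [glMapEquiv_symm_eq]
    exact map_mem_iso hσ σ.symm hh

/-- entrywise field automorphism of the isometry group. -/
noncomputable def fieldIsoEquiv (Q : (ι → F) → F) (hσ : FieldCompat Q) (σ : F ≃+* F) :
    ↥(Cfsg.isometryGroup F Q) ≃* ↥(Cfsg.isometryGroup F Q) :=
  ((glMapEquiv σ).subgroupMap (Cfsg.isometryGroup F Q)).trans
    (MulEquiv.subgroupCongr (map_iso_field hσ σ))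

theorem fieldIsoEquiv_coe (Q : (ι → F) → F) (hσ : FieldCompat Q) (σ : F ≃+* F)
    (s : ↥(Cfsg.isometryGroup F Q)) :
    ((fieldIsoEquiv Q hσ σ s : ↥(Cfsg.isometryGroup F Q)) : GL ι F) = glMapEquiv σ s := rfl

/-- entrywise field automorphisms of the isometry group. -/
noncomputable def fieldIso (Q : (ι → F) → F) (hσ : FieldCompat Q) :
    RingAut F →* MulAut ↥(Cfsg.isometryGroup F Q) where
  toFun σ := fieldIsoEquiv Q hσ σ
  map_one' := by
    apply MulEquiv.ext
    intro s
    apply Subtype.ext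
    rw [fieldIsoEquiv_coe]
    apply Units.ext
    ext i j
    rfl
  map_mul' := fun σ τ => by
    apply MulEquiv.ext
    intro s
    apply Subtype.ext
    rw [MulAut.mul_apply, fieldIsoEquiv_coe, fieldIsoEquiv_coe, fieldIsoEquiv_coe]
    apply Units.ext
    ext i j
    rfl

theorem fieldIso_coe (Q : (ι → F) → F) (hσ : FieldCompat Q) (σ : F ≃+* F)
    (s : ↥(Cfsg.isometryGroup F Q)) :
    ((fieldIso Q hσ σ s : ↥(Cfsg.isometryGroup F Q)) : GL ι F) = glMapEquiv σ s := rfl

/-- field automorphisms of `PΩ(Q)`. -/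
noncomputable def fieldO (Q : (ι → F) → F) (hσ : FieldCompat Q) :
    RingAut F →* MulAut (Cfsg.POmega F Q) :=
  (autQuot (Subgroup.center ↥(Cfsg.Omega F Q))).comp
    ((MulAut.characteristic (Cfsg.Omega F Q)).comp (fieldIso Q hσ))

theorem fieldO_mk (Q : (ι → F) → F) (hσ : FieldCompat Q) (σ : F ≃+* F)
    (s : ↥(Cfsg.Omega F Q)) :
    fieldO Q hσ σ (QuotientGroup.mk s) =
      QuotientGroup.mk (MulAut.characteristic (Cfsg.Omega F Q) (fieldIso Q hσ σ) s) := rfl

theorem fieldO_mk_coe (Q : (ι → F) → F) (hσ : FieldCompat Q) (σ : F ≃+* F)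
    (s : ↥(Cfsg.Omega F Q)) :
    (((MulAut.characteristic (Cfsg.Omega F Q) (fieldIso Q hσ σ) s : ↥(Cfsg.Omega F Q)) :
      ↥(Cfsg.isometryGroup F Q)) : GL ι F) =
      glMapEquiv σ ((s : ↥(Cfsg.isometryGroup F Q)) : GL ι F) := rfl

/-- an automorphism is induced by `(g, σ)` iff it is conjugation by `g` after the field
automorphism `σ`. -/
theorem induced_field_iff (Q : (ι → F) → F) (hσ : FieldCompat Q) (g : GL ι F) (hg : g ∈ GO Q)
    (σ : F ≃+* F) (β : Cfsg.POmega F Q ≃* Cfsg.POmega F Q) :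
    Cfsg.IsInducedBySemilinearPOmega Q g σ β ↔ β = cHom Q ⟨g, hg⟩ * fieldO Q hσ σ := by
  constructor
  · intro h
    apply MulEquiv.ext
    intro x
    induction x using QuotientGroup.induction_on with
    | H s =>
      rw [MulAut.mul_apply, fieldO_mk, cHom_mk]
      apply h s
      rfl
  · rintro rfl s s' hs
    rw [MulAut.mul_apply, fieldO_mk, cHom_mk]
    congr 1
    apply Subtype.ext
    apply Subtype.ext
    apply Units.ext
    rw [hs]
    rfl

theorem semisim_mem_GO {Q : (ι → F) → F} (hσ : FieldCompat Q) {g : GL ι F} {σ : F ≃+* F}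
    (h : Cfsg.IsSemisimilarityPair Q g σ) : g ∈ GO Q := by
  obtain ⟨c, hc⟩ := h
  refine ⟨c, fun v => ?_⟩
  have hv : v = fun i => σ ((fun j => σ.symm (v j)) i) := by
    funext i
    simp
  conv_lhs => rw [hv]
  rw [hc, ← hσ, ← hv]

end Cfsg.Agent.Lib.Helper16.OA
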