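import Mathlib
import Cfsg.Agent.Lib.Helper16.OA28

set_option autoImplicit false
set_option linter.unusedSectionVars false
set_option linter.unusedVariables false

/-! Automorphisms of orthogonal groups, part 29: `Aut = PGO · field automorphisms`. -/

namespace Cfsg.Agent.Lib.Helper16.OA

open Matrix Cfsg.Agent.Lib.Lead.OA

universe u

variable {ι : Type} [Fintype ι] [DecidableEq ι] {F : Type u} [Field F]

theorem aut_eq_mul [Fintype F] (Q : QuadraticForm F (ι → F))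
    (hQ : (QuadraticMap.polarBilin Q).Nondegenerate) (hn : 7 ≤ Fintype.card ι)
    (hT : 9 ≤ Fintype.card ι ∨ Fintype.card ι ≤ 7 ∨
      ∀ U : Submodule F (ι → F), (∀ u ∈ U, Q u = 0) → Module.finrank F U ≤ 3)
    (hσ : FieldCompat (⇑Q : (ι → F) → F)) (α : MulAut (Cfsg.POmega F (⇑Q : (ι → F) → F))) :
    ∃ (g : ↥(GO (⇑Q : (ι → F) → F))) (σ : RingAut F),
      α = cHom (⇑Q : (ι → F) → F) g * fieldO (⇑Q : (ι → F) → F) hσ σ := by
  obtain ⟨g, σ, hs, hi⟩ := aut_is_induced Q hQ hn hT α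
  have hg := semisim_mem_GO hσ hs
  exact ⟨⟨g, hg⟩, σ, (induced_field_iff _ hσ g hg σ α).1 hi⟩

theorem field_mem_pgo [Fintype F] (Q : QuadraticForm F (ι → F))
    (hQ : (QuadraticMap.polarBilin Q).Nondegenerate) (hn : 7 ≤ Fintype.card ι)
    (hσ : FieldCompat (⇑Q : (ι → F) → F)) (σ : RingAut F)
    (h : fieldO (⇑Q : (ι → F) → F) hσ σ ∈ (cHom (⇑Q : (ι → F) → F)).range) : σ = 1 := by
  obtain ⟨g, hg⟩ := h
  have h1 : (1 : MulAut (Cfsg.POmega F (⇑Q : (ι → F) → F))) =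
      cHom (⇑Q : (ι → F) → F) g⁻¹ * fieldO (⇑Q : (ι → F) → F) hσ σ := by
    rw [map_inv, hg, inv_mul_cancel]
  have hi : Cfsg.IsInducedBySemilinearPOmega (⇑Q : (ι → F) → F) ((g⁻¹ : ↥(GO _)) : GL ι F) σ
      (MulEquiv.refl _) :=
    (induced_field_iff _ hσ _ (g⁻¹).2 σ _).2 h1
  have hs : Cfsg.IsSemisimilarityPair (⇑Q : (ι → F) → F) ((g⁻¹ : ↥(GO _)) : GL ι F) σ := by
    obtain ⟨c, hc⟩ := (g⁻¹).2
    exact ⟨c, fun v => by rw [hc, hσ]⟩
  apply RingEquiv.ext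
  intro c
  exact sigma_refl_of_induced_one Q hQ hn _ σ hs hi c

theorem glMapEquiv_mem_GO {Q : (ι → F) → F} (hσ : FieldCompat Q) (σ : F ≃+* F) {g : GL ι F}
    (hg : g ∈ GO Q) : glMapEquiv σ g ∈ GO Q := by
  obtain ⟨c, hc⟩ := hg
  refine ⟨Units.map (σ : F →* F) c, fun x => ?_⟩
  have hx : x = fun i => σ ((fun j => σ.symm (x j)) i) := by
    funext i
    simp
  have h1 : ((glMapEquiv σ g : GL ι F) : Matrix ι ι F) *ᵥ
      (fun i => σ ((fun j => σ.symm (x j)) i)) =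
      fun i => σ (((g : Matrix ι ι F) *ᵥ (fun j => σ.symm (x j))) i) := by
    funext i
    exact (RingHom.map_mulVec (σ : F →+* F) (g : Matrix ι ι F) _ i).symm
  conv_lhs => rw [hx]
  rw [h1, hσ, hc, map_mul, ← hσ, ← hx]
  rfl

theorem fieldO_conj_cHom (Q : (ι → F) → F) (hσ : FieldCompat Q) (σ : RingAut F)
    (g : ↥(GO Q)) :
    fieldO Q hσ σ * cHom Q g * (fieldO Q hσ σ)⁻¹ =
      cHom Q ⟨glMapEquiv σ (g : GL ι F), glMapEquiv_mem_GO hσ σ g.2⟩ := by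
  rw [mul_inv_eq_iff_eq_mul]
  apply MulEquiv.ext
  intro x
  induction x using QuotientGroup.induction_on with
  | H s =>
    rw [MulAut.mul_apply, MulAut.mul_apply, cHom_mk, fieldO_mk, fieldO_mk, cHom_mk]
    congr 1
    apply Subtype.ext
    apply Subtype.ext
    rw [fieldO_mk_coe, cHom_mk_coe, cHom_mk_coe, fieldO_mk_coe, map_mul, map_mul, map_inv]

theorem pgo_normal [Fintype F] (Q : QuadraticForm F (ι → F))
    (hQ : (QuadraticMap.polarBilin Q).Nondegenerate) (hn : 7 ≤ Fintype.card ι)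
    (hT : 9 ≤ Fintype.card ι ∨ Fintype.card ι ≤ 7 ∨
      ∀ U : Submodule F (ι → F), (∀ u ∈ U, Q u = 0) → Module.finrank F U ≤ 3)
    (hσ : FieldCompat (⇑Q : (ι → F) → F)) :
    ((cHom (⇑Q : (ι → F) → F)).range).Normal := by
  constructor
  rintro _ ⟨h, rfl⟩ α
  obtain ⟨g, σ, rfl⟩ := aut_eq_mul Q hQ hn hT hσ α
  have e : cHom (⇑Q : (ι → F) → F) g * fieldO (⇑Q : (ι → F) → F) hσ σ *
      cHom (⇑Q : (ι → F) → F) h *
      (cHom (⇑Q : (ι → F) → F) g * fieldO (⇑Q : (ι → F) → F) hσ σ)⁻¹ =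
      cHom (⇑Q : (ι → F) → F) g * (fieldO (⇑Q : (ι → F) → F) hσ σ *
      cHom (⇑Q : (ι → F) → F) h * (fieldO (⇑Q : (ι → F) → F) hσ σ)⁻¹) *
      (cHom (⇑Q : (ι → F) → F) g)⁻¹ := by group
  rw [e, fieldO_conj_cHom, ← map_inv, ← map_mul, ← map_mul]
  exact ⟨_, rfl⟩

end Cfsg.Agent.Lib.Helper16.OA
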