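import Mathlib
import Cfsg.Agent.Lib.Helper16.SumQF
import Cfsg.Agent.Lib.Helper16.SpinE3

set_option autoImplicit false
set_option linter.unusedSectionVars false
set_option linter.unusedSimpArgs false
set_option linter.unusedVariables false

namespace Cfsg.Agent.Lib.Helper16

open Matrix Module Cfsg.Agent.Lib.helper6

variable {ι₁ ι₂ : Type} [Fintype ι₁] [DecidableEq ι₁] [Fintype ι₂] [DecidableEq ι₂]
  {F : Type*} [Field F]

theorem exists_list_of_gen (Q : QuadraticForm F (ι₁ → F))
    (hgen : Subgroup.closure (CDG.Rset Q) = ⊤) (g : ↥(Cfsg.isometryGroup F ⇑Q)) :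
    ∃ vs : List (ι₁ → F), (∀ v ∈ vs, Q v ≠ 0) ∧ g = (vs.map (reflG' Q)).prod := by
  have hg : g ∈ Subgroup.closure (CDG.Rset Q) := by
    rw [hgen]
    trivial
  induction hg using Subgroup.closure_induction with
  | mem x hx =>
    obtain ⟨v, hv, hxv⟩ := hx
    refine ⟨[v], ?_, ?_⟩
    · intro w hw
      rw [List.mem_singleton] at hw
      rw [hw]; exact hv
    · rw [List.map_singleton, List.prod_singleton, reflG'_eq Q v hv]
      apply iso_ext'
      rw [hxv, reflG_coe]
  | one => exact ⟨[], by simp, by simp⟩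
  | mul x y _ _ hx hy =>
    obtain ⟨vs, hvs, rfl⟩ := hx
    obtain ⟨ws, hws, rfl⟩ := hy
    refine ⟨vs ++ ws, ?_, ?_⟩
    · intro v hv
      rcases List.mem_append.mp hv with h | h
      · exact hvs v h
      · exact hws v h
    · rw [List.map_append, List.prod_append]
  | inv x _ hx =>
    obtain ⟨vs, hvs, rfl⟩ := hx
    refine ⟨vs.reverse, ?_, ?_⟩
    · intro v hv
      exact hvs v (List.mem_reverse.mp hv)
    · rw [List.prod_inv_reverse, List.map_reverse, List.map_map]
      congr 1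
      congr 1
      apply List.map_congr_left
      intro v hv
      rw [Function.comp_apply, reflG'_eq Q v (hvs v hv), reflG_inv]

theorem embL_prod_coe (Q₁ : QuadraticForm F (ι₁ → F)) (Q₂ : QuadraticForm F (ι₂ → F))
    (vs : List (ι₁ → F)) (hvs : ∀ v ∈ vs, Q₁ v ≠ 0) :
    ((embL Q₁ Q₂ (vs.map (reflG' Q₁)).prod : GL (ι₁ ⊕ ι₂) F) : Matrix (ι₁ ⊕ ι₂) (ι₁ ⊕ ι₂) F)
      = ((vs.map (fun v => (Sum.elim v 0 : ι₁ ⊕ ι₂ → F))).map
          (fun w => Cfsg.reflectionMatrix ⇑(sumQF Q₁ Q₂) w)).prod := by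
  induction vs with
  | nil =>
    simp only [List.map_nil, List.prod_nil, map_one]
    rfl
  | cons v vs ih =>
    rw [List.map_cons, List.prod_cons, map_mul, iso_mul_coe,
      ih (fun w hw => hvs w (List.mem_cons_of_mem _ hw)), List.map_cons, List.map_cons,
      List.prod_cons, reflG'_eq Q₁ v (hvs v List.mem_cons_self), embL_coe, reflG_coe,
      embL_refl_coe]

end Cfsg.Agent.Lib.Helper16
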