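import Mathlib
import Cfsg.Agent.Lib.Helper16.OA29
import Cfsg.Agent.Lib.Lead.OrthAut6

set_option autoImplicit false
set_option linter.unusedSectionVars false
set_option linter.unusedVariables false

/-! Automorphisms of orthogonal groups, part 30: similarity multipliers in odd dimension. -/

namespace Cfsg.Agent.Lib.Helper16.OA

open Matrix Cfsg.Agent.Lib.Lead.OA Cfsg.Agent.Lib.Helper16

universe u

variable {ι : Type} [Fintype ι] [DecidableEq ι] {F : Type u} [Field F]

/-- the squared determinant of a similarity is the multiplier to the power of the dimension. -/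
theorem det_sq_sim (Q : QuadraticForm F (ι → F)) (hQ : (QuadraticMap.polarBilin Q).Nondegenerate)
    (g : GL ι F) (c : F) (hc : ∀ v, Q ((g : Matrix ι ι F) *ᵥ v) = c * Q v) :
    (g : Matrix ι ι F).det ^ 2 = c ^ Fintype.card ι := by
  let B : LinearMap.BilinForm F (ι → F) := QuadraticMap.polarBilin Q
  have hB : ∀ x y, B x y = QuadraticMap.polar (⇑Q) x y := fun x y => rfl
  have hcomp : B.comp (Matrix.toLin' (g : Matrix ι ι F)) (Matrix.toLin' (g : Matrix ι ι F)) =
      c • B := by
    apply LinearMap.ext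
    intro x
    apply LinearMap.ext
    intro y
    rw [LinearMap.BilinForm.comp_apply, Matrix.toLin'_apply, Matrix.toLin'_apply,
      LinearMap.smul_apply, LinearMap.smul_apply, smul_eq_mul, hB, hB]
    unfold QuadraticMap.polar
    rw [← Matrix.mulVec_add, hc, hc, hc]
    ring
  have h1 := LinearMap.BilinForm.toMatrix'_comp B (Matrix.toLin' (g : Matrix ι ι F))
    (Matrix.toLin' (g : Matrix ι ι F))
  rw [hcomp, LinearMap.toMatrix'_toLin', map_smul] at h1
  have h2 := congrArg Matrix.det h1
  rw [Matrix.det_smul, Matrix.det_mul, Matrix.det_mul, Matrix.det_transpose] at h2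
  have hM : (LinearMap.BilinForm.toMatrix' B).det ≠ 0 := by
    rw [← Matrix.nondegenerate_iff_det_ne_zero, LinearMap.BilinForm.nondegenerate_toMatrix'_iff]
    exact hQ
  have h3 : ((g : Matrix ι ι F).det ^ 2 - c ^ Fintype.card ι) *
      (LinearMap.BilinForm.toMatrix' B).det = 0 := by
    linear_combination -h2
  rcases mul_eq_zero.1 h3 with h | h
  · exact sub_eq_zero.1 h
  · exact absurd h hM

theorem mult_sq_of_odd (Q : QuadraticForm F (ι → F))
    (hQ : (QuadraticMap.polarBilin Q).Nondegenerate) (m : ℕ) (hcard : Fintype.card ι = 2 * m + 1)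
    (g : ↥(GOq Q)) : ∃ a : Fˣ, a * a = mult Q g := by
  have h1 := det_sq_sim Q hQ (g : GL ι F) (mult Q g : F) (mult_spec Q g)
  rw [hcard] at h1
  refine ⟨detGO Q g * (mult Q g ^ m)⁻¹, ?_⟩
  apply Units.ext
  have hm : ((mult Q g : Fˣ) : F) ≠ 0 := Units.ne_zero _
  simp only [Units.val_mul, Units.val_inv_eq_inv_val, Units.val_pow_eq_pow_val, detGO_coe]
  field_simp
  rw [h1]
  ring

end Cfsg.Agent.Lib.Helper16.OA
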