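import Mathlib
import Cfsg.Agent.Lib.Helper16.OA30

set_option autoImplicit false
set_option linter.unusedSectionVars false
set_option linter.unusedVariables false

/-! Automorphisms of orthogonal groups, part 31: `PGO = PSO` and `|PGO : Inn| = 2` in odd
dimension. -/

namespace Cfsg.Agent.Lib.Helper16.OA

open Matrix Cfsg.Agent.Lib.Lead.OA Cfsg.Agent.Lib.Helper16

universe u

variable {ι : Type} [Fintype ι] [DecidableEq ι] {F : Type u} [Field F] [Fintype F]

theorem isoDet_negI_odd (Q : QuadraticForm F (ι → F)) (m : ℕ)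
    (hcard : Fintype.card ι = 2 * m + 1) :
    isoDet (⇑Q : (ι → F) → F) (negI Q) = -1 := by
  apply Units.ext
  rw [isoDet_coe, negI_coe, Matrix.det_neg, Matrix.det_one, mul_one, hcard, pow_succ, pow_mul]
  simp

theorem range_cHom_odd (Q : QuadraticForm F (ι → F)) (h2 : (2 : F) ≠ 0)
    (hQ : (QuadraticMap.polarBilin Q).Nondegenerate) (hn : 4 ≤ Fintype.card ι) (m : ℕ)
    (hcard : Fintype.card ι = 2 * m + 1) :
    (cHom (⇑Q : (ι → F) → F)).range = (isoDet (⇑Q : (ι → F) → F)).ker.map (c0 Q) := by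
  have hne := exists_ne_zero Q h2 hQ (by omega)
  apply le_antisymm
  · rintro _ ⟨g, rfl⟩
    obtain ⟨a, ha⟩ := mult_sq_of_odd Q hQ m hcard g
    have hmult : mult Q (scalGO Q a⁻¹ * g) = 1 := by
      have h1 : multHom Q hne (scalGO Q a⁻¹ * g) = multHom Q hne (scalGO Q a⁻¹) * multHom Q hne g :=
        map_mul _ _ _
      rw [multHom_apply, multHom_apply, multHom_apply, mult_scalGO Q hne, ← ha] at h1
      rw [h1]
      group
    have hiso := (mult_eq_one_iff Q hne _).1 hmult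
    have hscal : cHom (⇑Q : (ι → F) → F) (scalGO Q a⁻¹) = 1 :=
      (cHom_eq_one_iff h2 Q hQ hn _).2 ⟨_, scalGO_coe Q a⁻¹⟩
    have hc : c0 Q ⟨_, hiso⟩ = cHom (⇑Q : (ι → F) → F) g := by
      rw [c0_apply]
      have : isoToGO Q ⟨_, hiso⟩ = scalGO Q a⁻¹ * g := Subtype.ext rfl
      rw [this, map_mul, hscal, one_mul]
    rcases isoDet_pm' Q h2 hQ ⟨_, hiso⟩ with hd | hd
    · exact ⟨_, hd, hc⟩
    · refine ⟨⟨_, hiso⟩ * negI Q, ?_, ?_⟩
      · show _ ∈ (isoDet (⇑Q : (ι → F) → F)).ker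
        rw [MonoidHom.mem_ker, map_mul, hd, isoDet_negI_odd Q m hcard]
        simp
      · rw [map_mul, hc]
        have : c0 Q (negI Q) = 1 := (c0_ker_iff Q h2 hQ hn _).2 (Or.inr rfl)
        rw [this, mul_one]
  · rintro _ ⟨h, -, rfl⟩
    exact ⟨_, rfl⟩

theorem c0_inj_SO (Q : QuadraticForm F (ι → F)) (h2 : (2 : F) ≠ 0)
    (hQ : (QuadraticMap.polarBilin Q).Nondegenerate) (hn : 4 ≤ Fintype.card ι) (m : ℕ)
    (hcard : Fintype.card ι = 2 * m + 1) :
    Function.Injective ((c0 Q).comp (isoDet (⇑Q : (ι → F) → F)).ker.subtype) := by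
  rw [injective_iff_map_eq_one]
  intro x hx
  have hk : (x : ↥(Cfsg.isometryGroup F (⇑Q : (ι → F) → F))) ∈ (c0 Q).ker := hx
  rcases (c0_ker_iff Q h2 hQ hn _).1 hk with h | h
  · exact Subtype.ext h
  · exfalso
    have h1 : isoDet (⇑Q : (ι → F) → F) (x : ↥(Cfsg.isometryGroup F (⇑Q : (ι → F) → F))) = 1 := x.2
    rw [h, isoDet_negI_odd Q m hcard] at h1
    exact neg_one_ne_one h2 h1

theorem relIndex_inn_pgo_odd (Q : QuadraticForm F (ι → F)) (h2 : (2 : F) ≠ 0)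
    (hQ : (QuadraticMap.polarBilin Q).Nondegenerate) (hn : 4 ≤ Fintype.card ι) (m : ℕ)
    (hcard : Fintype.card ι = 2 * m + 1) :
    (Cfsg.Inn (Cfsg.POmega F (⇑Q : (ι → F) → F))).relIndex (cHom (⇑Q : (ι → F) → F)).range = 2 := by
  have hne := exists_ne_zero Q h2 hQ (by omega)
  have hΩSO : Cfsg.Omega F (⇑Q : (ι → F) → F) ≤ (isoDet (⇑Q : (ι → F) → F)).ker :=
    omega_le_ker (⇑Q) _
  rw [range_cHom_odd Q h2 hQ hn m hcard, inn_eq']
  set SO := (isoDet (⇑Q : (ι → F) → F)).ker with hSO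
  have e1 : (Cfsg.Omega F (⇑Q : (ι → F) → F)).map (c0 Q) =
      ((Cfsg.Omega F (⇑Q : (ι → F) → F)).subgroupOf SO).map ((c0 Q).comp SO.subtype) := by
    rw [← Subgroup.map_map, Subgroup.map_subgroupOf_eq_of_le hΩSO]
  have e2 : SO.map (c0 Q) = (⊤ : Subgroup SO).map ((c0 Q).comp SO.subtype) := by
    rw [← Subgroup.map_map, ← MonoidHom.range_eq_map, Subgroup.range_subtype]
  rw [e1, e2, Subgroup.relIndex_map_map_of_injective _ _ (c0_inj_SO Q h2 hQ hn m hcard),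
    Subgroup.relIndex_top_right]
  have h1 := Subgroup.relIndex_mul_index hΩSO
  rw [index_SO Q h2 hQ hne, Cfsg.Agent.Lib.Lead.RI.index_omega_general h2 (by omega) Q hQ] at h1
  show (Cfsg.Omega F (⇑Q : (ι → F) → F)).relIndex SO = 2
  omega

end Cfsg.Agent.Lib.Helper16.OA
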