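import Mathlib

set_option autoImplicit false
set_option linter.unusedSectionVars false
set_option linter.unusedVariables false

/-! Automorphisms of orthogonal groups, part 32: an abstract splitting lemma for `Out`. -/

namespace Cfsg.Agent.Lib.Helper16.OA

universe u v

/-- a normal subgroup of order two is central. -/
theorem normal_card_two_central {G : Type u} [Group G] (N : Subgroup G) [N.Normal]
    (hN : Nat.card N = 2) (n : G) (hn : n ∈ N) (g : G) : g * n = n * g := by
  by_cases h1 : n = 1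
  · rw [h1, mul_one, one_mul]
  · have h2 : g * n * g⁻¹ ∈ N := Subgroup.Normal.conj_mem inferInstance n hn g
    have h3 : g * n * g⁻¹ ≠ 1 := by
      intro h
      apply h1
      have : n = g⁻¹ * (g * n * g⁻¹) * g := by group
      rw [this, h]
      group
    have : Finite N := Nat.finite_of_card_ne_zero (by omega)
    have h4 : ∀ a b : N, a ≠ 1 → b ≠ 1 → a = b := by
      classical
      intro a b ha hb
      by_contra hab
      have : Fintype N := Fintype.ofFinite N
      have h5 : ({1, a, b} : Finset N).card = 3 := by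
        rw [Finset.card_insert_of_notMem, Finset.card_insert_of_notMem, Finset.card_singleton]
        · simpa using hab
        · simp only [Finset.mem_insert, Finset.mem_singleton, not_or]
          exact ⟨fun h => ha h.symm, fun h => hb h.symm⟩
      have h6 := Finset.card_le_univ ({1, a, b} : Finset N)
      rw [← Nat.card_eq_fintype_card, hN, h5] at h6
      omega
    have h5 := h4 ⟨g * n * g⁻¹, h2⟩ ⟨n, hn⟩ (fun h => h3 (congrArg Subtype.val h))
      (fun h => h1 (congrArg Subtype.val h))
    have h6 : g * n * g⁻¹ = n := congrArg Subtype.val h5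
    calc g * n = g * n * g⁻¹ * g := by group
      _ = n * g := by rw [h6]

theorem out_split {X : Type u} [Group X] (I P : Subgroup X) [hI : I.Normal] [hP : P.Normal]
    (hIP : I ≤ P) (hidx : I.relIndex P = 2) {R : Type v} [Group R] [IsCyclic R] (f : ℕ)
    (hf : 1 ≤ f) (hR : Nat.card R = f) (ψ : R →* X)
    (hgen : ∀ x : X, ∃ p ∈ P, ∃ r : R, x = p * ψ r) (hψ : ∀ r : R, ψ r ∈ P → r = 1) :
    Nonempty (X ⧸ I ≃* Multiplicative (ZMod 2 × ZMod f)) := by
  let π : X →* X ⧸ I := QuotientGroup.mk' I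
  have hπ : Function.Surjective π := QuotientGroup.mk'_surjective I
  let N : Subgroup (X ⧸ I) := P.map π
  have hNn : N.Normal := Subgroup.Normal.map hP π hπ
  have hNcard : Nat.card N = 2 := by
    have h1 : (⊥ : Subgroup (X ⧸ I)).relIndex N = 2 := by
      have h2 := Subgroup.relIndex_map_map π I P
      rw [QuotientGroup.ker_mk', sup_idem, sup_eq_left.2 hIP, hidx] at h2
      have h3 : I.map π = ⊥ := QuotientGroup.map_mk'_self I
      rw [h3] at h2
      exact h2
    rw [Subgroup.relIndex_bot_left] at h1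
    exact h1
  let ρ : R →* X ⧸ I := π.comp ψ
  have hρ : ∀ r : R, ρ r ∈ N → r = 1 := by
    rintro r ⟨p, hp, hpr⟩
    apply hψ
    have h1 : p⁻¹ * ψ r ∈ I := QuotientGroup.eq.1 hpr
    have h2 : ψ r = p * (p⁻¹ * ψ r) := by group
    rw [h2]
    exact P.mul_mem hp (hIP h1)
  let Ξ : N × R →* X ⧸ I :=
    { toFun := fun x => (x.1 : X ⧸ I) * ρ x.2
      map_one' := by simp
      map_mul' := fun x y => by
        simp only [Prod.fst_mul, Prod.snd_mul, Subgroup.coe_mul, map_mul]
        have hc := normal_card_two_central N hNcard (y.1 : X ⧸ I) y.1.2 (ρ x.2)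
        calc (x.1 : X ⧸ I) * (y.1 : X ⧸ I) * (ρ x.2 * ρ y.2)
            = (x.1 : X ⧸ I) * ((y.1 : X ⧸ I) * ρ x.2) * ρ y.2 := by group
          _ = (x.1 : X ⧸ I) * (ρ x.2 * (y.1 : X ⧸ I)) * ρ y.2 := by rw [hc]
          _ = _ := by group }
  have hΞinj : Function.Injective Ξ := by
    rw [injective_iff_map_eq_one]
    rintro ⟨n, r⟩ h
    have h1 : (n : X ⧸ I) * ρ r = 1 := h
    have h2 : ρ r = (n : X ⧸ I)⁻¹ := eq_inv_of_mul_eq_one_right h1
    have h3 : r = 1 := hρ r (by rw [h2]; exact N.inv_mem n.2)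
    rw [h3, map_one, mul_one] at h1
    rw [h3]
    exact Prod.ext (Subtype.ext h1) rfl
  have hΞsurj : Function.Surjective Ξ := by
    intro y
    obtain ⟨x, rfl⟩ := hπ y
    obtain ⟨p, hp, r, rfl⟩ := hgen x
    exact ⟨(⟨π p, ⟨p, hp, rfl⟩⟩, r), by simp [Ξ, ρ]⟩
  let e : N × R ≃* X ⧸ I := MulEquiv.ofBijective Ξ ⟨hΞinj, hΞsurj⟩
  have : NeZero f := ⟨by omega⟩
  have hcR : Nat.card R = Nat.card (Multiplicative (ZMod f)) := by
    rw [hR, Nat.card_eq_fintype_card, Fintype.card_multiplicative, ZMod.card]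
  have hcN : Nat.card N = Nat.card (Multiplicative (ZMod 2)) := by
    rw [hNcard, Nat.card_eq_fintype_card, Fintype.card_multiplicative, ZMod.card]
  have hNc : IsCyclic N := by
    have : Fact (Nat.Prime 2) := ⟨Nat.prime_two⟩
    exact isCyclic_of_prime_card hNcard
  let e₁ : R ≃* Multiplicative (ZMod f) := mulEquivOfCyclicCardEq hcR
  let e₂ : N ≃* Multiplicative (ZMod 2) := mulEquivOfCyclicCardEq hcN
  exact ⟨e.symm.trans ((MulEquiv.prodCongr e₂ e₁).trans
    (MulEquiv.prodMultiplicative (G := ZMod 2) (H := ZMod f)).symm)⟩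

end Cfsg.Agent.Lib.Helper16.OA
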