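import Mathlib
import Cfsg.Agent.Lib.Helper16.OA31
import Cfsg.Agent.Lib.Helper16.OA32
import Cfsg.Agent.Lib.Helper16.OA25
import Cfsg.Agent.Lib.Helper16.AP18

set_option autoImplicit false
set_option linter.unusedSectionVars false
set_option linter.unusedVariables false

/-! Automorphisms of orthogonal groups, part 33: `Out(PΩ_{2m+1}(q)) ≅ C₂ × C_f`. -/

namespace Cfsg.Agent.Lib.Helper16.OA

open Matrix Cfsg.Agent.Lib.Lead.OA Cfsg.Agent.Lib.Helper16

universe u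

section gen
variable {ι : Type} [Fintype ι] [DecidableEq ι] {F : Type u} [Field F] [Fintype F]

theorem conj_mk_eq_c0 (Q : QuadraticForm F (ι → F)) (s : ↥(Cfsg.Omega F (⇑Q : (ι → F) → F))) :
    MulAut.conj (QuotientGroup.mk s : Cfsg.POmega F (⇑Q : (ι → F) → F)) =
      c0 Q (s : ↥(Cfsg.isometryGroup F (⇑Q : (ι → F) → F))) := by
  apply MulEquiv.ext
  intro y
  induction y using QuotientGroup.induction_on with
  | H t =>
    rw [c0_apply, cHom_mk, MulAut.conj_apply]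
    rfl

theorem conj_POmega_injective (Q : QuadraticForm F (ι → F)) (h2 : (2 : F) ≠ 0)
    (hQ : (QuadraticMap.polarBilin Q).Nondegenerate) (hn : 4 ≤ Fintype.card ι) :
    Function.Injective (MulAut.conj : Cfsg.POmega F (⇑Q : (ι → F) → F) →*
      MulAut (Cfsg.POmega F (⇑Q : (ι → F) → F))) := by
  rw [injective_iff_map_eq_one]
  intro x hx
  induction x using QuotientGroup.induction_on with
  | H s =>
    rw [conj_mk_eq_c0] at hx
    have hk : (s : ↥(Cfsg.isometryGroup F (⇑Q : (ι → F) → F))) ∈ (c0 Q).ker := hx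
    rw [QuotientGroup.eq_one_iff, Subgroup.mem_center_iff]
    intro t
    apply Subtype.ext
    rcases (c0_ker_iff Q h2 hQ hn _).1 hk with h | h
    · rw [Subgroup.coe_mul, Subgroup.coe_mul, h, mul_one, one_mul]
    · rw [Subgroup.coe_mul, Subgroup.coe_mul, h]
      apply Subtype.ext
      apply Units.ext
      rw [Subgroup.coe_mul, Subgroup.coe_mul, Units.val_mul, Units.val_mul, negI_coe]
      simp

end gen

variable {F : Type u} [Field F] [Fintype F]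

theorem fieldCompat_odd (m : ℕ) : FieldCompat (Cfsg.quadFormOdd m F) := by
  intro σ v
  unfold Cfsg.quadFormOdd
  simp only [map_add, map_sum, map_mul, map_pow]

theorem out_odd_aux {p f m : ℕ} [Fact p.Prime] (hf : 1 ≤ f) (hF : Fintype.card F = p ^ f)
    (h2 : (2 : F) ≠ 0) (hm : 3 ≤ m) :
    Nonempty (Cfsg.Out (Cfsg.POmega F (Cfsg.quadFormOdd m F)) ≃*
      Multiplicative (ZMod 2 × ZMod f)) := by
  have hcard : Fintype.card (Unit ⊕ (Fin m ⊕ Fin m)) = 2 * m + 1 := by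
    simp; ring
  have hQ := qfOdd_nondeg (F := F) m h2
  have hn : 7 ≤ Fintype.card (Unit ⊕ (Fin m ⊕ Fin m)) := by rw [hcard]; omega
  have hT : 9 ≤ Fintype.card (Unit ⊕ (Fin m ⊕ Fin m)) ∨
      Fintype.card (Unit ⊕ (Fin m ⊕ Fin m)) ≤ 7 ∨
      ∀ U : Submodule F (Unit ⊕ (Fin m ⊕ Fin m) → F), (∀ u ∈ U, qfOdd m F u = 0) →
        Module.finrank F U ≤ 3 := by
    rw [hcard]
    by_cases h : 4 ≤ m
    · left; omega
    · right; left; omega
  have hσ : FieldCompat (⇑(qfOdd m F) : (Unit ⊕ (Fin m ⊕ Fin m) → F) → F) := by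
    rw [qfOdd_coe]
    exact fieldCompat_odd m
  obtain ⟨hcyc, hR⟩ := Cfsg.Agent.Lib.Helper16.AP.galF_cyclic_card hF
  have hP : ((cHom (⇑(qfOdd m F) : (Unit ⊕ (Fin m ⊕ Fin m) → F) → F)).range).Normal :=
    pgo_normal (qfOdd m F) hQ hn hT hσ
  have hidx := relIndex_inn_pgo_odd (qfOdd m F) h2 hQ (by omega) m hcard
  have hIP : Cfsg.Inn (Cfsg.POmega F (⇑(qfOdd m F) : (Unit ⊕ (Fin m ⊕ Fin m) → F) → F)) ≤
      (cHom (⇑(qfOdd m F) : (Unit ⊕ (Fin m ⊕ Fin m) → F) → F)).range := by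
    rw [inn_eq']
    rintro _ ⟨s, -, rfl⟩
    exact ⟨_, rfl⟩
  have key := out_split (Cfsg.Inn (Cfsg.POmega F (⇑(qfOdd m F) : (Unit ⊕ (Fin m ⊕ Fin m) → F) → F)))
    ((cHom (⇑(qfOdd m F) : (Unit ⊕ (Fin m ⊕ Fin m) → F) → F)).range) hIP hidx f hf hR
    (fieldO (⇑(qfOdd m F) : (Unit ⊕ (Fin m ⊕ Fin m) → F) → F) hσ)
    (fun x => by
      obtain ⟨g, σ, h⟩ := aut_eq_mul (qfOdd m F) hQ hn hT hσ x
      exact ⟨_, ⟨g, rfl⟩, σ, h⟩)
    (fun r hr => field_mem_pgo (qfOdd m F) hQ hn hσ r hr)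
  exact key

theorem two_ne_zero_of_ne {p f : ℕ} [Fact p.Prime] (hF : Fintype.card F = p ^ f) (hp : p ≠ 2) :
    (2 : F) ≠ 0 := by
  have : CharP F p := charP_of_card_eq_prime_pow hF
  intro h
  have h1 : ((2 : ℕ) : F) = 0 := by exact_mod_cast h
  rw [CharP.cast_eq_zero_iff F p] at h1
  exact hp ((Nat.prime_dvd_prime_iff_eq Fact.out Nat.prime_two).1 h1)

theorem S2604_aux {p f m : ℕ} [Fact p.Prime] (hf : 1 ≤ f) (hF : Fintype.card F = p ^ f)
    (hp : p ≠ 2) (hm : 3 ≤ m) :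
    Nonempty (Cfsg.Out (Cfsg.POmega F (Cfsg.quadFormOdd m F)) ≃*
      Multiplicative (ZMod 2 × ZMod f)) :=
  out_odd_aux hf hF (two_ne_zero_of_ne hF hp) hm

theorem S0816_aux (p f : ℕ) [Fact p.Prime] (hf : 1 ≤ f) (hF : Fintype.card F = p ^ f)
    (hodd : Odd p) (m : ℕ) (hm : 3 ≤ m) :
    Nat.card (MulAut (Cfsg.POmega F (Cfsg.quadFormOdd m F))) =
      2 * f * Nat.card (Cfsg.POmega F (Cfsg.quadFormOdd m F)) := by
  have hp : p ≠ 2 := by
    rintro rfl
    exact absurd hodd (by decide)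
  have h2 := two_ne_zero_of_ne hF hp
  obtain ⟨e⟩ := out_odd_aux hf hF h2 hm
  have : NeZero f := ⟨by omega⟩
  have h1 := Subgroup.card_mul_index (Cfsg.Inn (Cfsg.POmega F (Cfsg.quadFormOdd m F)))
  have h3 : (Cfsg.Inn (Cfsg.POmega F (Cfsg.quadFormOdd m F))).index = 2 * f := by
    have h4 : (Cfsg.Inn (Cfsg.POmega F (Cfsg.quadFormOdd m F))).index =
        Nat.card (Cfsg.Out (Cfsg.POmega F (Cfsg.quadFormOdd m F))) := rfl
    rw [h4, Nat.card_congr e.toEquiv, Nat.card_eq_fintype_card, Fintype.card_multiplicative,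
      Fintype.card_prod, ZMod.card, ZMod.card]
  have hcard : Fintype.card (Unit ⊕ (Fin m ⊕ Fin m)) = 2 * m + 1 := by
    simp; ring
  have hinj := conj_POmega_injective (qfOdd m F) h2 (qfOdd_nondeg (F := F) m h2)
    (by rw [hcard]; omega)
  have h5 : Nat.card (Cfsg.Inn (Cfsg.POmega F (Cfsg.quadFormOdd m F))) =
      Nat.card (Cfsg.POmega F (Cfsg.quadFormOdd m F)) :=
    (Nat.card_congr (MonoidHom.ofInjective hinj).toEquiv).symm
  rw [← h1, h3, h5]
  ring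

end Cfsg.Agent.Lib.Helper16.OA
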