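import Mathlib
import Cfsg.Agent.Lib.Helper16.OA29

set_option autoImplicit false
set_option linter.unusedSectionVars false
set_option linter.unusedVariables false

/-! Automorphisms of orthogonal groups, part 34: the semisimilarity group `ΓO(Q)` as a subgroup of
`GL ⋊ Aut(F)` and its action on `PΩ(Q)`. -/

namespace Cfsg.Agent.Lib.Helper16.OA

open Matrix Cfsg.Agent.Lib.Lead.OA

universe u

variable {ι : Type} [Fintype ι] [DecidableEq ι] {F : Type u} [Field F]

/-- the entrywise action of field automorphisms on `GL`. -/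
noncomputable def fldAct (ι : Type) [Fintype ι] [DecidableEq ι] (F : Type u) [Field F] :
    RingAut F →* MulAut (GL ι F) where
  toFun σ := glMapEquiv σ
  map_one' := by
    apply MulEquiv.ext
    intro g
    apply Units.ext
    ext i j
    rfl
  map_mul' σ τ := by
    apply MulEquiv.ext
    intro g
    apply Units.ext
    ext i j
    rfl

theorem fldAct_apply (σ : RingAut F) (g : GL ι F) : fldAct ι F σ g = glMapEquiv σ g := rfl

/-- the group of invertible semilinear maps, `GL ⋊ Aut(F)`. -/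
abbrev GammaL (ι : Type) [Fintype ι] [DecidableEq ι] (F : Type u) [Field F] : Type u :=
  GL ι F ⋊[fldAct ι F] RingAut F

theorem mulVec_map_field (σ : F ≃+* F) (g : GL ι F) (v : ι → F) :
    ((glMapEquiv σ g : GL ι F) : Matrix ι ι F) *ᵥ (fun i => σ (v i)) =
      fun i => σ (((g : Matrix ι ι F) *ᵥ v) i) := by
  funext i
  exact (RingHom.map_mulVec (σ : F →+* F) (g : Matrix ι ι F) v i).symm

/-- the semisimilarity group of `Q`. -/
def gammaO (Q : (ι → F) → F) : Subgroup (GammaL ι F) where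
  carrier := {x | Cfsg.IsSemisimilarityPair Q x.left x.right}
  one_mem' := ⟨1, fun v => by
    show Q (((1 : GL ι F) : Matrix ι ι F) *ᵥ fun i => v i) = ((1 : Fˣ) : F) * Q v
    rw [Units.val_one, Matrix.one_mulVec, Units.val_one, one_mul]⟩
  mul_mem' := by
    rintro x y ⟨c, hc⟩ ⟨d, hd⟩
    refine ⟨c * Units.map (x.right : F →* F) d, fun v => ?_⟩
    have h1 : (((x * y).left : GL ι F) : Matrix ι ι F) *ᵥ (fun i => (x * y).right (v i)) =
        (x.left : Matrix ι ι F) *ᵥ (fun i => x.right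
          (((y.left : Matrix ι ι F) *ᵥ (fun j => y.right (v j))) i)) := by
      rw [← mulVec_map_field, Matrix.mulVec_mulVec]
      rfl
    rw [h1, hc, hd, map_mul, Units.val_mul, mul_assoc]
    rfl
  inv_mem' := by
    rintro x ⟨c, hc⟩
    refine ⟨Units.map ((x.right⁻¹ : RingAut F) : F →* F) c⁻¹, fun v => ?_⟩
    have h1 : ((x⁻¹.left : GL ι F) : Matrix ι ι F) *ᵥ (fun i => x⁻¹.right (v i)) =
        fun i => (x.right⁻¹ : RingAut F) ((((x.left⁻¹ : GL ι F) : Matrix ι ι F) *ᵥ v) i) := by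
      rw [← mulVec_map_field]
      rfl
    have h2 := hc (fun i => (x.right⁻¹ : RingAut F) ((((x.left⁻¹ : GL ι F) : Matrix ι ι F) *ᵥ v) i))
    have h3 : (fun i => x.right ((x.right⁻¹ : RingAut F)
        ((((x.left⁻¹ : GL ι F) : Matrix ι ι F) *ᵥ v) i))) =
        ((x.left⁻¹ : GL ι F) : Matrix ι ι F) *ᵥ v := by
      funext i
      exact RingEquiv.apply_symm_apply x.right _
    rw [h3, Matrix.mulVec_mulVec, ← Units.val_mul, mul_inv_cancel, Units.val_one,
      Matrix.one_mulVec] at h2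
    rw [h1]
    have h4 : (x.right⁻¹ : RingAut F) (Q v) = (x.right⁻¹ : RingAut F) ((c : F) * x.right
        (Q fun i => (x.right⁻¹ : RingAut F) ((((x.left⁻¹ : GL ι F) : Matrix ι ι F) *ᵥ v) i))) := by
      rw [h2]
    rw [map_mul] at h4
    have h5 : (x.right⁻¹ : RingAut F) (x.right
        (Q fun i => (x.right⁻¹ : RingAut F) ((((x.left⁻¹ : GL ι F) : Matrix ι ι F) *ᵥ v) i))) =
        Q fun i => (x.right⁻¹ : RingAut F) ((((x.left⁻¹ : GL ι F) : Matrix ι ι F) *ᵥ v) i) :=
      RingEquiv.symm_apply_apply x.right _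
    rw [h5] at h4
    show _ = ((Units.map ((x.right⁻¹ : RingAut F) : F →* F) c⁻¹ : Fˣ) : F) *
      (x.right⁻¹ : RingAut F) (Q v)
    rw [h4, ← mul_assoc]
    have h6 : ((Units.map ((x.right⁻¹ : RingAut F) : F →* F) c⁻¹ : Fˣ) : F) *
        (x.right⁻¹ : RingAut F) (c : F) = 1 := by
      show (x.right⁻¹ : RingAut F) ((c⁻¹ : Fˣ) : F) * (x.right⁻¹ : RingAut F) (c : F) = 1
      rw [← map_mul, ← Units.val_mul, inv_mul_cancel, Units.val_one, map_one]
    rw [h6, one_mul]

theorem mem_gammaO (Q : (ι → F) → F) (x : GammaL ι F) :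
    x ∈ gammaO Q ↔ Cfsg.IsSemisimilarityPair Q x.left x.right := Iff.rfl

/-- the action of semilinear maps on `GL` by conjugation. -/
noncomputable def ssGL (ι : Type) [Fintype ι] [DecidableEq ι] (F : Type u) [Field F] :
    GammaL ι F →* MulAut (GL ι F) :=
  SemidirectProduct.lift (MulAut.conj : GL ι F →* MulAut (GL ι F)) (fldAct ι F) (fun σ => by
    apply MonoidHom.ext
    intro n
    apply MulEquiv.ext
    intro s
    simp only [MonoidHom.comp_apply, MulEquiv.coe_toMonoidHom, MulAut.conj_apply,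
      MulAut.mul_apply, MulAut.inv_apply]
    rw [map_mul, map_mul, map_inv, MulEquiv.apply_symm_apply])

theorem ssGL_apply (x : GammaL ι F) (s : GL ι F) :
    ssGL ι F x s = x.left * glMapEquiv x.right s * x.left⁻¹ := rfl

theorem ss_conj_mem {Q : (ι → F) → F} {x : GammaL ι F} (hx : x ∈ gammaO Q) {s : GL ι F}
    (hs : s ∈ Cfsg.isometryGroup F Q) : ssGL ι F x s ∈ Cfsg.isometryGroup F Q := by
  obtain ⟨c, hc⟩ := hx
  rw [mem_iso_iff'] at hs ⊢
  intro v
  set w : ι → F := fun i => (x.right⁻¹ : RingAut F) ((((x.left⁻¹ : GL ι F) : Matrix ι ι F) *ᵥ v) i)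
    with hw
  have hv : (x.left : Matrix ι ι F) *ᵥ (fun i => x.right (w i)) = v := by
    have h3 : (fun i => x.right (w i)) = ((x.left⁻¹ : GL ι F) : Matrix ι ι F) *ᵥ v := by
      funext i
      exact RingEquiv.apply_symm_apply x.right _
    rw [h3, Matrix.mulVec_mulVec, ← Units.val_mul, mul_inv_cancel, Units.val_one,
      Matrix.one_mulVec]
  have h1 : ((ssGL ι F x s : GL ι F) : Matrix ι ι F) *ᵥ v =
      (x.left : Matrix ι ι F) *ᵥ (fun i => x.right (((s : Matrix ι ι F) *ᵥ w) i)) := by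
    rw [← mulVec_map_field, ssGL_apply, Units.val_mul, Units.val_mul, ← Matrix.mulVec_mulVec,
      ← Matrix.mulVec_mulVec]
    congr 2
    have h3 : (fun i => x.right (w i)) = ((x.left⁻¹ : GL ι F) : Matrix ι ι F) *ᵥ v := by
      funext i
      exact RingEquiv.apply_symm_apply x.right _
    rw [h3]
  rw [h1, hc, hs, ← hc, hv]

/-- a semisimilarity acts on the isometry group. -/
noncomputable def ssIsoEquiv (Q : (ι → F) → F) (x : ↥(gammaO Q)) :
    ↥(Cfsg.isometryGroup F Q) ≃* ↥(Cfsg.isometryGroup F Q) where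
  toFun s := ⟨ssGL ι F (x : GammaL ι F) s, ss_conj_mem x.2 s.2⟩
  invFun s := ⟨ssGL ι F ((x⁻¹ : ↥(gammaO Q)) : GammaL ι F) s, ss_conj_mem (x⁻¹).2 s.2⟩
  left_inv s := by
    apply Subtype.ext
    show ssGL ι F ((x⁻¹ : ↥(gammaO Q)) : GammaL ι F) (ssGL ι F (x : GammaL ι F) s) = s
    rw [← MulAut.mul_apply, ← map_mul, Subgroup.coe_inv, inv_mul_cancel, map_one]
    rfl
  right_inv s := by
    apply Subtype.ext
    show ssGL ι F (x : GammaL ι F) (ssGL ι F ((x⁻¹ : ↥(gammaO Q)) : GammaL ι F) s) = s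
    rw [← MulAut.mul_apply, ← map_mul, Subgroup.coe_inv, mul_inv_cancel, map_one]
    rfl
  map_mul' s t := Subtype.ext (map_mul _ _ _)

theorem ssIsoEquiv_coe (Q : (ι → F) → F) (x : ↥(gammaO Q)) (s : ↥(Cfsg.isometryGroup F Q)) :
    ((ssIsoEquiv Q x s : ↥(Cfsg.isometryGroup F Q)) : GL ι F) = ssGL ι F (x : GammaL ι F) s := rfl

/-- the action of the semisimilarity group on the isometry group. -/
noncomputable def ssIsoHom (Q : (ι → F) → F) :
    ↥(gammaO Q) →* MulAut ↥(Cfsg.isometryGroup F Q) where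
  toFun x := ssIsoEquiv Q x
  map_one' := by
    apply MulEquiv.ext
    intro s
    apply Subtype.ext
    rw [ssIsoEquiv_coe, Subgroup.coe_one, map_one]
    rfl
  map_mul' x y := by
    apply MulEquiv.ext
    intro s
    apply Subtype.ext
    rw [MulAut.mul_apply, ssIsoEquiv_coe, ssIsoEquiv_coe, ssIsoEquiv_coe, Subgroup.coe_mul,
      map_mul]
    rfl

theorem ssIsoHom_coe (Q : (ι → F) → F) (x : ↥(gammaO Q)) (s : ↥(Cfsg.isometryGroup F Q)) :
    ((ssIsoHom Q x s : ↥(Cfsg.isometryGroup F Q)) : GL ι F) =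
      (x : GammaL ι F).left * glMapEquiv (x : GammaL ι F).right s * (x : GammaL ι F).left⁻¹ := rfl

/-- the action of the semisimilarity group on `PΩ(Q)`. -/
noncomputable def ssHom (Q : (ι → F) → F) : ↥(gammaO Q) →* MulAut (Cfsg.POmega F Q) :=
  (autQuot (Subgroup.center ↥(Cfsg.Omega F Q))).comp
    ((MulAut.characteristic (Cfsg.Omega F Q)).comp (ssIsoHom Q))

theorem ssHom_mk (Q : (ι → F) → F) (x : ↥(gammaO Q)) (s : ↥(Cfsg.Omega F Q)) :
    ssHom Q x (QuotientGroup.mk s) =
      QuotientGroup.mk (MulAut.characteristic (Cfsg.Omega F Q) (ssIsoHom Q x) s) := rfl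

theorem ssHom_mk_coe (Q : (ι → F) → F) (x : ↥(gammaO Q)) (s : ↥(Cfsg.Omega F Q)) :
    (((MulAut.characteristic (Cfsg.Omega F Q) (ssIsoHom Q x) s : ↥(Cfsg.Omega F Q)) :
      ↥(Cfsg.isometryGroup F Q)) : GL ι F) =
      (x : GammaL ι F).left * glMapEquiv (x : GammaL ι F).right
        ((s : ↥(Cfsg.isometryGroup F Q)) : GL ι F) * (x : GammaL ι F).left⁻¹ := rfl

/-- an automorphism is induced by the pair `(g, σ)` iff it is the image of `(g, σ)`. -/
theorem induced_ss_iff (Q : (ι → F) → F) (x : ↥(gammaO Q))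
    (β : Cfsg.POmega F Q ≃* Cfsg.POmega F Q) :
    Cfsg.IsInducedBySemilinearPOmega Q (x : GammaL ι F).left (x : GammaL ι F).right β ↔
      β = ssHom Q x := by
  constructor
  · intro h
    apply MulEquiv.ext
    intro y
    induction y using QuotientGroup.induction_on with
    | H s =>
      rw [ssHom_mk]
      apply h s
      rfl
  · rintro rfl s s' hs
    rw [ssHom_mk]
    congr 1
    apply Subtype.ext
    apply Subtype.ext
    apply Units.ext
    rw [hs]
    rfl

theorem inl_mem_gammaO (Q : (ι → F) → F) (g : GL ι F) :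
    (SemidirectProduct.inl g : GammaL ι F) ∈ gammaO Q ↔ g ∈ GO Q := by
  rw [mem_gammaO, mem_GO_iff]
  rfl

/-- the similarity group inside the semisimilarity group. -/
noncomputable def goIncl (Q : (ι → F) → F) : ↥(GO Q) →* ↥(gammaO Q) where
  toFun g := ⟨SemidirectProduct.inl (g : GL ι F), (inl_mem_gammaO Q _).2 g.2⟩
  map_one' := Subtype.ext (map_one _)
  map_mul' a b := Subtype.ext (map_mul _ _ _)

theorem goIncl_coe (Q : (ι → F) → F) (g : ↥(GO Q)) :
    ((goIncl Q g : ↥(gammaO Q)) : GammaL ι F) = SemidirectProduct.inl (g : GL ι F) := rfl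

theorem ssHom_goIncl (Q : (ι → F) → F) (g : ↥(GO Q)) : ssHom Q (goIncl Q g) = cHom Q g := by
  apply MulEquiv.ext
  intro y
  induction y using QuotientGroup.induction_on with
  | H s =>
    rw [ssHom_mk, cHom_mk]
    congr 1

/-- the field automorphism part of a semisimilarity. -/
noncomputable def ssRight (Q : (ι → F) → F) : ↥(gammaO Q) →* RingAut F :=
  (SemidirectProduct.rightHom).comp (gammaO Q).subtype

theorem ssRight_apply (Q : (ι → F) → F) (x : ↥(gammaO Q)) :
    ssRight Q x = (x : GammaL ι F).right := rfl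

theorem ssRight_ker (Q : (ι → F) → F) : (ssRight Q).ker = (goIncl Q).range := by
  ext x
  rw [MonoidHom.mem_ker, ssRight_apply]
  constructor
  · intro h
    have hx : (x : GammaL ι F) = SemidirectProduct.inl (x : GammaL ι F).left := by
      apply SemidirectProduct.ext
      · rfl
      · rw [h]; rfl
    have hg : (x : GammaL ι F).left ∈ GO Q := by
      rw [← inl_mem_gammaO, ← hx]
      exact x.2
    exact ⟨⟨_, hg⟩, Subtype.ext hx.symm⟩
  · rintro ⟨g, rfl⟩
    rfl

end Cfsg.Agent.Lib.Helper16.OA
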