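import Mathlib
import Cfsg.Agent.Lib.Helper16.OA34
import Cfsg.Agent.Lib.Helper16.OA33

set_option autoImplicit false
set_option linter.unusedSectionVars false
set_option linter.unusedVariables false

/-! Automorphisms of orthogonal groups, part 35: the kernel of the action of the semisimilarity
group consists of scalars (all characteristics), and the action is onto `Aut(PΩ)`. -/

namespace Cfsg.Agent.Lib.Helper16.OA

open Matrix Cfsg.Agent.Lib.Lead Cfsg.Agent.Lib.Lead.OA Cfsg.Agent.Lib.Helper28.OTrans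
  Cfsg.Agent.Lib.Helper28.OGenQ

universe u

variable {ι : Type} [Fintype ι] [DecidableEq ι] {F : Type u} [Field F] {n : ℕ}

/-- a semisimilarity inducing the identity automorphism of `PΩ(Q)` is a scalar matrix. -/
theorem scalar_of_induced_one [Fintype F] (Q : QuadraticForm F (ι → F))
    (hQ : (QuadraticMap.polarBilin Q).Nondegenerate) (hn : 7 ≤ Fintype.card ι)
    (g : GL ι F) (σ : F ≃+* F) (hs : Cfsg.IsSemisimilarityPair (⇑Q) g σ)
    (hi : Cfsg.IsInducedBySemilinearPOmega (⇑Q) g σ (MulEquiv.refl _)) :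
    ∃ d : F, (g : Matrix ι ι F) = d • (1 : Matrix ι ι F) := by
  have hσ := sigma_refl_of_induced_one Q hQ hn g σ hs hi
  obtain ⟨e, he⟩ : ∃ e : ι ≃ Fin (Fintype.card ι), e = Fintype.equivFin ι := ⟨_, rfl⟩
  have hQ' := RI.qReindex_nondeg e Q hQ
  have hq := qf_of_quad (RI.qReindex e Q) hQ'
  have vf := vfacts_quad hn (RI.qReindex e Q) hQ'
  have hG := sgGroupQ_quad hn (RI.qReindex e Q) hQ'
  obtain ⟨p, hp⟩ := CharP.exists F
  have hpp : Fact p.Prime := ⟨CharP.char_is_prime F p⟩
  obtain ⟨ν, hν⟩ := hs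
  obtain ⟨g₀, hg₀⟩ : ∃ g₀ : GL (Fin (Fintype.card ι)) F, g₀ = RI.glReindex (F := F) e g := ⟨_, rfl⟩
  have hS : SSim (⇑(RI.qReindex e Q))
      (fun v => (g₀ : Matrix (Fin (Fintype.card ι)) (Fin (Fintype.card ι)) F) *ᵥ
        (fun i => σ (v i))) σ (ν : F) :=
    { add := by
        intro x y
        rw [← Matrix.mulVec_add]
        congr 1
        funext i
        simp
      smul := by
        intro k x
        rw [← Matrix.mulVec_smul]
        congr 1
        funext i
        simp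
      quad := by
        intro v
        rw [RI.qReindex_coe]
        show Q ((((g₀ : GL (Fin (Fintype.card ι)) F) : Matrix (Fin (Fintype.card ι)) (Fin (Fintype.card ι)) F) *ᵥ
          (fun i => σ (v i))) ∘ e) = (ν : F) * σ (Q (v ∘ e))
        rw [hg₀, glReindex_mulVec_comp]
        have := hν (v ∘ e)
        exact this
      ne := Units.ne_zero ν }
  have hid : ∀ s₀ s₀' : ↥(Cfsg.Geo.omegaGL (⇑(RI.qReindex e Q))),
      (s₀' : GL (Fin (Fintype.card ι)) F) = cjHom g₀ σ s₀ →
      mkG (Cfsg.Geo.omegaGL (⇑(RI.qReindex e Q))) s₀' =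
        mkG (Cfsg.Geo.omegaGL (⇑(RI.qReindex e Q))) s₀ := by
    intro s₀ s₀' h
    obtain ⟨s, rfl⟩ := (omIso e Q).surjective s₀
    obtain ⟨s', rfl⟩ := (omIso e Q).surjective s₀'
    rw [omIso_coe, omIso_coe, hg₀, cjHom_reindex] at h
    have h1 := (RI.glReindex (F := F) e).injective h
    have h2 := hi s s' (by rw [h1, cjI_val])
    rw [← pomIso_mk, ← pomIso_mk]
    congr 1
    exact h2.symm
  have hfix : ∀ u : Fin (Fintype.card ι) → F, RI.qReindex e Q u = 0 → u ≠ 0 →
      ∃ b : F, (g₀ : Matrix (Fin (Fintype.card ι)) (Fin (Fintype.card ι)) F) *ᵥ u = b • u := by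
    intro u hu hu0
    have h1 := ssim_fix_points hq vf hG p hS g₀ (fun v => rfl) hid hu hu0
    obtain ⟨b, hb⟩ := Submodule.mem_span_singleton.1 h1
    refine ⟨b, ?_⟩
    rw [hb]
    congr 1
    funext i
    exact (hσ (u i)).symm
  obtain ⟨d, hd⟩ := scalar_of_hfix hq vf g₀ hfix
  refine ⟨d, ?_⟩
  have h0 : (g₀ : Matrix (Fin (Fintype.card ι)) (Fin (Fintype.card ι)) F) =
      d • (1 : Matrix (Fin (Fintype.card ι)) (Fin (Fintype.card ι)) F) := by
    apply Matrix.toLin'.injective
    apply LinearMap.ext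
    intro x
    rw [Matrix.toLin'_apply, hd, map_smul, Matrix.toLin'_one]
    rfl
  rw [hg₀, RI.glReindex_coe] at h0
  have h1 := congrArg (Matrix.reindex e.symm e.symm) h0
  rw [Matrix.reindex_apply, Matrix.reindex_apply, Matrix.reindex_apply] at h1
  simp only [Equiv.symm_symm, Matrix.submatrix_submatrix, Equiv.symm_comp_self,
    Matrix.submatrix_id_id] at h1
  rw [h1]
  ext i j
  simp [Matrix.one_apply]

theorem ssHom_surjective [Fintype F] (Q : QuadraticForm F (ι → F))
    (hQ : (QuadraticMap.polarBilin Q).Nondegenerate) (hn : 7 ≤ Fintype.card ι)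
    (hT : 9 ≤ Fintype.card ι ∨ Fintype.card ι ≤ 7 ∨
      ∀ U : Submodule F (ι → F), (∀ u ∈ U, Q u = 0) → Module.finrank F U ≤ 3) :
    Function.Surjective (ssHom (⇑Q : (ι → F) → F)) := by
  intro α
  obtain ⟨g, σ, hs, hi⟩ := aut_is_induced Q hQ hn hT α
  exact ⟨⟨⟨g, σ⟩, hs⟩, ((induced_ss_iff _ ⟨⟨g, σ⟩, hs⟩ α).1 hi).symm⟩

theorem ssHom_ker_le [Fintype F] (Q : QuadraticForm F (ι → F))
    (hQ : (QuadraticMap.polarBilin Q).Nondegenerate) (hn : 7 ≤ Fintype.card ι) :
    (ssHom (⇑Q : (ι → F) → F)).ker ≤ (ssRight (⇑Q : (ι → F) → F)).ker := by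
  intro x hx
  rw [MonoidHom.mem_ker] at hx ⊢
  have hi : Cfsg.IsInducedBySemilinearPOmega (⇑Q : (ι → F) → F) (x : GammaL ι F).left
      (x : GammaL ι F).right (MulEquiv.refl _) :=
    (induced_ss_iff _ x _).2 hx.symm
  apply RingEquiv.ext
  intro c
  exact sigma_refl_of_induced_one Q hQ hn _ _ x.2 hi c

theorem ssHom_ker_scalar [Fintype F] (Q : QuadraticForm F (ι → F))
    (hQ : (QuadraticMap.polarBilin Q).Nondegenerate) (hn : 7 ≤ Fintype.card ι)
    (x : ↥(gammaO (⇑Q : (ι → F) → F))) (hx : ssHom (⇑Q : (ι → F) → F) x = 1) :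
    ∃ d : F, ((x : GammaL ι F).left : Matrix ι ι F) = d • (1 : Matrix ι ι F) := by
  have hi : Cfsg.IsInducedBySemilinearPOmega (⇑Q : (ι → F) → F) (x : GammaL ι F).left
      (x : GammaL ι F).right (MulEquiv.refl _) :=
    (induced_ss_iff _ x _).2 hx.symm
  exact scalar_of_induced_one Q hQ hn _ _ x.2 hi

/-- the kernel of the action of the similarity group on `PΩ` consists of scalars, in all
characteristics. -/
theorem cHom_ker_scalar [Fintype F] (Q : QuadraticForm F (ι → F))
    (hQ : (QuadraticMap.polarBilin Q).Nondegenerate) (hn : 7 ≤ Fintype.card ι)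
    (g : ↥(GO (⇑Q : (ι → F) → F))) (hg : cHom (⇑Q : (ι → F) → F) g = 1) :
    ∃ d : F, ((g : GL ι F) : Matrix ι ι F) = d • (1 : Matrix ι ι F) := by
  rw [← ssHom_goIncl] at hg
  exact ssHom_ker_scalar Q hQ hn _ hg

theorem scalar_cHom_eq_one (Q : (ι → F) → F) (g : ↥(GO Q)) (d : F)
    (hd : ((g : GL ι F) : Matrix ι ι F) = d • (1 : Matrix ι ι F)) : cHom Q g = 1 := by
  apply MulEquiv.ext
  intro y
  induction y using QuotientGroup.induction_on with
  | H s =>
    rw [cHom_mk]
    congr 1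
    apply Subtype.ext
    apply Subtype.ext
    rw [cHom_mk_coe, mul_inv_eq_iff_eq_mul]
    apply Units.ext
    rw [Units.val_mul, Units.val_mul, hd, Matrix.smul_mul, Matrix.mul_smul, Matrix.one_mul,
      Matrix.mul_one]

/-- `PΩ(Q)` has trivial centre, in all characteristics. -/
theorem conj_POmega_injective' [Fintype F] (Q : QuadraticForm F (ι → F))
    (hQ : (QuadraticMap.polarBilin Q).Nondegenerate) (hn : 7 ≤ Fintype.card ι) :
    Function.Injective (MulAut.conj : Cfsg.POmega F (⇑Q : (ι → F) → F) →*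
      MulAut (Cfsg.POmega F (⇑Q : (ι → F) → F))) := by
  rw [injective_iff_map_eq_one]
  intro x hx
  induction x using QuotientGroup.induction_on with
  | H s =>
    rw [conj_mk_eq_c0, c0_apply] at hx
    obtain ⟨d, hd⟩ := cHom_ker_scalar Q hQ hn _ hx
    rw [QuotientGroup.eq_one_iff, Subgroup.mem_center_iff]
    intro t
    apply Subtype.ext
    apply Subtype.ext
    apply Units.ext
    rw [Subgroup.coe_mul, Subgroup.coe_mul, Subgroup.coe_mul, Subgroup.coe_mul, Units.val_mul,
      Units.val_mul]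
    have hd' : (((s : ↥(Cfsg.isometryGroup F (⇑Q : (ι → F) → F))) : GL ι F) : Matrix ι ι F) =
        d • (1 : Matrix ι ι F) := hd
    rw [hd', Matrix.smul_mul, Matrix.mul_smul, Matrix.one_mul, Matrix.mul_one]

end Cfsg.Agent.Lib.Helper16.OA
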