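import Mathlib
import Cfsg.Agent.Lib.Helper16.OA35

set_option autoImplicit false
set_option linter.unusedSectionVars false
set_option linter.unusedVariables false

/-! Automorphisms of orthogonal groups, part 36: the homomorphism `Aut(PΩ) → Aut(F)`. -/

namespace Cfsg.Agent.Lib.Helper16.OA

open Matrix Cfsg.Agent.Lib.Lead Cfsg.Agent.Lib.Lead.OA

universe u

/-- a homomorphism factoring through a surjection. -/
theorem exists_factor {Γ X R : Type*} [Group Γ] [Group X] [Group R] (Φ : Γ →* X) (ρ : Γ →* R)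
    (hΦ : Function.Surjective Φ) (hk : Φ.ker ≤ ρ.ker) :
    ∃ θ : X →* R, (∀ x, θ (Φ x) = ρ x) ∧ θ.ker = ρ.ker.map Φ ∧ θ.range = ρ.range := by
  let θ : X →* R := Φ.liftOfRightInverse (Function.surjInv hΦ) (Function.rightInverse_surjInv hΦ)
    ⟨ρ, hk⟩
  have h1 : ∀ x, θ (Φ x) = ρ x := fun x =>
    Φ.liftOfRightInverse_comp_apply (Function.surjInv hΦ) (Function.rightInverse_surjInv hΦ)
      ⟨ρ, hk⟩ x
  refine ⟨θ, h1, ?_, ?_⟩
  · ext y
    obtain ⟨x, rfl⟩ := hΦ y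
    rw [MonoidHom.mem_ker, h1]
    constructor
    · intro h
      exact ⟨x, h, rfl⟩
    · rintro ⟨x', hx', h⟩
      have h2 : ρ x' = ρ x := by rw [← h1, ← h1, h]
      rw [← h2]
      exact hx'
  · ext r
    constructor
    · rintro ⟨y, rfl⟩
      obtain ⟨x, rfl⟩ := hΦ y
      exact ⟨x, (h1 x).symm⟩
    · rintro ⟨x, rfl⟩
      exact ⟨Φ x, h1 x⟩

variable {ι : Type} [Fintype ι] [DecidableEq ι] {F : Type u} [Field F]

theorem map_ssRight_ker (Q : (ι → F) → F) :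
    (ssRight Q).ker.map (ssHom Q) = (cHom Q).range := by
  rw [ssRight_ker]
  ext α
  constructor
  · rintro ⟨_, ⟨g, rfl⟩, rfl⟩
    exact ⟨g, (ssHom_goIncl Q g).symm⟩
  · rintro ⟨g, rfl⟩
    exact ⟨_, ⟨g, rfl⟩, ssHom_goIncl Q g⟩

/-- the field automorphism attached to an automorphism of `PΩ(Q)`. -/
theorem exists_theta [Fintype F] (Q : QuadraticForm F (ι → F))
    (hQ : (QuadraticMap.polarBilin Q).Nondegenerate) (hn : 7 ≤ Fintype.card ι)
    (hT : 9 ≤ Fintype.card ι ∨ Fintype.card ι ≤ 7 ∨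
      ∀ U : Submodule F (ι → F), (∀ u ∈ U, Q u = 0) → Module.finrank F U ≤ 3) :
    ∃ θ : MulAut (Cfsg.POmega F (⇑Q : (ι → F) → F)) →* RingAut F,
      (∀ x, θ (ssHom (⇑Q : (ι → F) → F) x) = ssRight (⇑Q : (ι → F) → F) x) ∧
      θ.ker = (cHom (⇑Q : (ι → F) → F)).range ∧
      θ.range = (ssRight (⇑Q : (ι → F) → F)).range := by
  obtain ⟨θ, h1, h2, h3⟩ := exists_factor (ssHom (⇑Q : (ι → F) → F)) (ssRight (⇑Q : (ι → F) → F))
    (ssHom_surjective Q hQ hn hT) (ssHom_ker_le Q hQ hn)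
  exact ⟨θ, h1, by rw [h2, map_ssRight_ker], h3⟩

/-- if every field automorphism lifts to a semisimilarity, then `|Aut(PΩ)| = f |PGO|`. -/
theorem card_aut_eq [Fintype F] (Q : QuadraticForm F (ι → F))
    (hQ : (QuadraticMap.polarBilin Q).Nondegenerate) (hn : 7 ≤ Fintype.card ι)
    (hT : 9 ≤ Fintype.card ι ∨ Fintype.card ι ≤ 7 ∨
      ∀ U : Submodule F (ι → F), (∀ u ∈ U, Q u = 0) → Module.finrank F U ≤ 3)
    (hlift : Function.Surjective (ssRight (⇑Q : (ι → F) → F))) :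
    Nat.card (MulAut (Cfsg.POmega F (⇑Q : (ι → F) → F))) =
      Nat.card (RingAut F) * Nat.card ↥(cHom (⇑Q : (ι → F) → F)).range := by
  obtain ⟨θ, h1, h2, h3⟩ := exists_theta Q hQ hn hT
  have h4 := Subgroup.card_mul_index θ.ker
  rw [Subgroup.index_ker, h3, MonoidHom.range_eq_top.2 hlift, Subgroup.card_top, h2] at h4
  rw [← h4, mul_comm]

end Cfsg.Agent.Lib.Helper16.OA
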