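import Mathlib
import Cfsg.Agent.Lib.Helper16.OA36
import Cfsg.Agent.Lib.Helper16.H9d
import Cfsg.Agent.Lib.Helper16.QuadClass

set_option autoImplicit false
set_option linter.unusedSectionVars false
set_option linter.unusedVariables false

/-! Lang-type results for orthogonal groups, part 1: Hilbert 90 for `GL ι F`, twisted norms. -/

namespace Cfsg.Agent.Lib.Helper16.OL

open Matrix Cfsg.Agent.Lib.Lead.OA Cfsg.Agent.Lib.Helper16 Cfsg.Agent.Lib.Helper16.OA
  Cfsg.Agent.Lib.Helper16.H9 Cfsg.Agent.Lib.Helper16.PU Cfsg.Agent.Lib.Helper16.PG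

universe u

variable {ι : Type} [Fintype ι] [DecidableEq ι] {F : Type u} [Field F]

/-- the twisted partial norms of a matrix. -/
noncomputable def twI (σ : RingAut F) (g : GL ι F) : ℕ → GL ι F
  | 0 => 1
  | k + 1 => g * glMapEquiv σ (twI σ g k)

theorem twI_zero (σ : RingAut F) (g : GL ι F) : twI σ g 0 = 1 := rfl

theorem twI_succ (σ : RingAut F) (g : GL ι F) (k : ℕ) :
    twI σ g (k + 1) = g * glMapEquiv σ (twI σ g k) := rfl

theorem glReindex_map {n : ℕ} (e : ι ≃ Fin n) (σ : RingAut F) (g : GL ι F) :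
    Cfsg.Agent.Lib.Lead.RI.glReindex (F := F) e (glMapEquiv σ g) =
      mapGL n σ (Cfsg.Agent.Lib.Lead.RI.glReindex (F := F) e g) := by
  apply Units.ext
  rfl

theorem glReindex_twI {n : ℕ} (e : ι ≃ Fin n) (σ : RingAut F) (g : GL ι F) (k : ℕ) :
    Cfsg.Agent.Lib.Lead.RI.glReindex (F := F) e (twI σ g k) =
      tw σ (Cfsg.Agent.Lib.Lead.RI.glReindex (F := F) e g) k := by
  induction k with
  | zero => rw [twI_zero, tw_zero, map_one]
  | succ k ih => rw [twI_succ, tw_succ, map_mul, glReindex_map, ih]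

/-- Hilbert 90 for `GL ι F` and a cyclic group of field automorphisms. -/
theorem h90_I (σ : RingAut F) (r : ℕ) (hinj : ∀ i j, i < r → j < r → σ ^ i = σ ^ j → i = j)
    (hr0 : 0 < r) (hσr : σ ^ r = 1) (A : GL ι F) (hA : twI σ A r = 1) :
    ∃ B : GL ι F, A * glMapEquiv σ B = B := by
  classical
  let e : ι ≃ Fin (Fintype.card ι) := Fintype.equivFin ι
  have hA' : tw σ (Cfsg.Agent.Lib.Lead.RI.glReindex (F := F) e A) r = 1 := by
    rw [← glReindex_twI, hA, map_one]
  obtain ⟨B, hB⟩ := h90_GL σ r hinj hr0 hσr _ hA'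
  refine ⟨(Cfsg.Agent.Lib.Lead.RI.glReindex (F := F) e).symm B, ?_⟩
  apply (Cfsg.Agent.Lib.Lead.RI.glReindex (F := F) e).injective
  rw [map_mul, glReindex_map, MulEquiv.apply_symm_apply]
  exact hB

theorem glMapEquiv_one_aut (g : GL ι F) : glMapEquiv (1 : RingAut F) g = g := by
  apply Units.ext
  rw [glMapEquiv_val]
  ext i j
  rfl

theorem glMapEquiv_mul_aut (σ τ : RingAut F) (g : GL ι F) :
    glMapEquiv (σ * τ) g = glMapEquiv σ (glMapEquiv τ g) := by
  apply Units.ext
  rw [glMapEquiv_val, glMapEquiv_val, glMapEquiv_val]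
  ext i j
  rfl

theorem twI_add (σ : RingAut F) (g : GL ι F) (j k : ℕ) :
    twI σ g (j + k) = twI σ g j * glMapEquiv (σ ^ j) (twI σ g k) := by
  induction j with
  | zero => rw [Nat.zero_add, twI_zero, one_mul, pow_zero, glMapEquiv_one_aut]
  | succ j ih =>
    rw [Nat.add_right_comm, twI_succ, ih, map_mul, twI_succ, pow_succ', glMapEquiv_mul_aut, mul_assoc]

theorem twI_one (σ : RingAut F) (g : GL ι F) : twI σ g 1 = g := by
  rw [twI_succ, twI_zero, map_one, mul_one]

/-- scalar matrices. -/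
noncomputable abbrev scI (ι : Type) [Fintype ι] [DecidableEq ι] {F : Type u} [Field F] :
    Fˣ →* GL ι F := Matrix.GeneralLinearGroup.scalar ι

theorem scI_val (c : Fˣ) : ((scI ι c : GL ι F) : Matrix ι ι F) = (c : F) • (1 : Matrix ι ι F) := by
  rw [Matrix.GeneralLinearGroup.coe_scalar, Matrix.scalar_apply, ← Matrix.smul_one_eq_diagonal]

theorem scI_comm (c : Fˣ) (g : GL ι F) : scI ι c * g = g * scI ι c := by
  apply Units.ext
  rw [Units.val_mul, Units.val_mul, scI_val, Matrix.smul_mul, Matrix.mul_smul, Matrix.one_mul,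
    Matrix.mul_one]

theorem scI_injective [Nonempty ι] : Function.Injective (scI ι : Fˣ → GL ι F) := by
  intro c d h
  obtain ⟨i⟩ := ‹Nonempty ι›
  have h1 := congrArg (fun g : GL ι F => (g : Matrix ι ι F) i i) h
  simp only [scI_val, Matrix.smul_apply, Matrix.one_apply_eq, smul_eq_mul, mul_one] at h1
  exact Units.ext h1

theorem glMapEquiv_scI (σ : RingAut F) (c : Fˣ) : glMapEquiv σ (scI ι c) = scI ι (uσ σ c) := by
  apply Units.ext
  rw [glMapEquiv_val, scI_val, scI_val]
  ext i j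
  by_cases hij : i = j
  · subst hij
    simp [uσ_val]
  · simp [hij]

theorem twI_scI (σ : RingAut F) (d : Fˣ) (k : ℕ) : twI σ (scI ι d) k = scI ι (nu σ d k) := by
  induction k with
  | zero => rw [twI_zero, nu_zero, map_one]
  | succ k ih => rw [twI_succ, ih, glMapEquiv_scI, ← map_mul, nu_succ]

theorem twI_mul_scI (σ : RingAut F) (g : GL ι F) (e : Fˣ) (k : ℕ) :
    twI σ (g * scI ι e) k = twI σ g k * scI ι (nu σ e k) := by
  induction k with
  | zero => rw [twI_zero, twI_zero, nu_zero, map_one, mul_one]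
  | succ k ih =>
    rw [twI_succ, ih, map_mul, glMapEquiv_scI, twI_succ, nu_succ, map_mul]
    calc g * scI ι e * (glMapEquiv σ (twI σ g k) * scI ι (uσ σ (nu σ e k)))
        = g * (scI ι e * glMapEquiv σ (twI σ g k)) * scI ι (uσ σ (nu σ e k)) := by
          simp only [mul_assoc]
      _ = _ := by rw [scI_comm]; simp only [mul_assoc]

end Cfsg.Agent.Lib.Helper16.OL
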