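import Mathlib
import Cfsg.Agent.Lib.Helper16.OL1

set_option autoImplicit false
set_option linter.unusedSectionVars false
set_option linter.unusedVariables false

/-! Lang-type results for orthogonal groups, part 2: congruence of symmetric matrices over finite
fields of odd characteristic. -/

namespace Cfsg.Agent.Lib.Helper16.OL

open Matrix

universe u

section
variable {κ : Type*} [Fintype κ] [DecidableEq κ] {K : Type u} [Field K]

theorem sym_zero_of_quad (h2 : (2 : K) ≠ 0) (S : Matrix κ κ K) (hS : Sᵀ = S)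
    (h : ∀ v : κ → K, v ⬝ᵥ (S *ᵥ v) = 0) : S = 0 := by
  have hd : ∀ i, S i i = 0 := by
    intro i
    have := h (Pi.single i 1)
    rw [Matrix.mulVec_single_one, single_one_dotProduct] at this
    exact this
  ext i j
  have h1 := h (Pi.single i 1 + Pi.single j 1)
  rw [Matrix.mulVec_add, add_dotProduct, dotProduct_add, dotProduct_add,
    Matrix.mulVec_single_one, Matrix.mulVec_single_one, single_one_dotProduct,
    single_one_dotProduct, single_one_dotProduct, single_one_dotProduct] at h1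
  simp only [Matrix.col_apply] at h1
  have hji : S j i = S i j := by
    have := congrFun (congrFun hS i) j
    rw [Matrix.transpose_apply] at this
    exact this
  rw [hd i, hd j, hji] at h1
  have h3 : 2 * S i j = 0 := by linear_combination h1
  rcases mul_eq_zero.mp h3 with h4 | h4
  · exact absurd h4 h2
  · rw [h4]; rfl

theorem polarBilin_sym (A : Matrix κ κ K) (hA : Aᵀ = A) :
    QuadraticMap.polarBilin (LinearMap.BilinMap.toQuadraticMap (Matrix.toBilin' A)) =
      Matrix.toBilin' ((2 : K) • A) := by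
  rw [LinearMap.BilinMap.polarBilin_toQuadraticMap]
  apply LinearMap.ext₂
  intro x y
  rw [LinearMap.add_apply, LinearMap.add_apply, LinearMap.flip_apply, Matrix.toBilin'_apply',
    Matrix.toBilin'_apply', Matrix.toBilin'_apply', Matrix.smul_mulVec, dotProduct_smul, smul_eq_mul]
  have : y ⬝ᵥ (A *ᵥ x) = x ⬝ᵥ (A *ᵥ y) := by
    rw [Matrix.dotProduct_mulVec, ← hA, Matrix.vecMul_transpose, dotProduct_comm, hA]
  rw [this]
  ring

end

/-- congruence of symmetric matrices with the same discriminant, over a finite field of odd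
characteristic (index type `Fin (d+1)`). -/
theorem sym_congr_fin {K : Type u} [Field K] [Fintype K] (h2 : (2 : K) ≠ 0) {d : ℕ}
    (A₁ A₂ : Matrix (Fin (d + 1)) (Fin (d + 1)) K) (hA₁ : A₁ᵀ = A₁) (hA₂ : A₂ᵀ = A₂)
    (hd₁ : A₁.det ≠ 0) (hd₂ : A₂.det ≠ 0) (hsq : IsSquare (A₁.det * A₂.det)) :
    ∃ C : Matrix (Fin (d + 1)) (Fin (d + 1)) K, C.det ≠ 0 ∧ Cᵀ * A₂ * C = A₁ := by
  classical
  set Q₁ : QuadraticForm K (Fin (d + 1) → K) :=
    LinearMap.BilinMap.toQuadraticMap (Matrix.toBilin' A₁) with hQ₁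
  set Q₂ : QuadraticForm K (Fin (d + 1) → K) :=
    LinearMap.BilinMap.toQuadraticMap (Matrix.toBilin' A₂) with hQ₂
  have hp₁ : QuadraticMap.polarBilin Q₁ = Matrix.toBilin' ((2 : K) • A₁) := polarBilin_sym A₁ hA₁
  have hp₂ : QuadraticMap.polarBilin Q₂ = Matrix.toBilin' ((2 : K) • A₂) := polarBilin_sym A₂ hA₂
  have hdet : ∀ A : Matrix (Fin (d + 1)) (Fin (d + 1)) K, A.det ≠ 0 → ((2 : K) • A).det ≠ 0 := by
    intro A hA
    rw [Matrix.det_smul]
    exact mul_ne_zero (pow_ne_zero _ h2) hA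
  have hn₁ : (QuadraticMap.polarBilin Q₁).Nondegenerate := by
    rw [hp₁]
    exact Matrix.Nondegenerate.toBilin' (Matrix.nondegenerate_of_det_ne_zero (hdet A₁ hd₁))
  have hn₂ : (QuadraticMap.polarBilin Q₂).Nondegenerate := by
    rw [hp₂]
    exact Matrix.Nondegenerate.toBilin' (Matrix.nondegenerate_of_det_ne_zero (hdet A₂ hd₂))
  have hsq' : IsSquare ((LinearMap.BilinForm.toMatrix' (QuadraticMap.polarBilin Q₁)).det *
      (LinearMap.BilinForm.toMatrix' (QuadraticMap.polarBilin Q₂)).det) := by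
    rw [hp₁, hp₂, LinearMap.BilinForm.toMatrix'_toBilin', LinearMap.BilinForm.toMatrix'_toBilin',
      Matrix.det_smul, Matrix.det_smul]
    obtain ⟨s, hs⟩ := hsq
    refine ⟨(2 : K) ^ Fintype.card (Fin (d + 1)) * s, ?_⟩
    linear_combination ((2 : K) ^ Fintype.card (Fin (d + 1))) ^ 2 * hs
  obtain ⟨g, hg⟩ := Cfsg.Agent.Lib.Helper16.backward h2 Q₁ Q₂ hn₁ hn₂ hsq'
  set C : Matrix (Fin (d + 1)) (Fin (d + 1)) K := LinearMap.toMatrix' (g : (Fin (d + 1) → K) →ₗ[K] (Fin (d + 1) → K)) with hC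
  have hCv : ∀ v, C *ᵥ v = g v := fun v => by
    rw [hC, LinearMap.toMatrix'_mulVec]; rfl
  have hEq : Cᵀ * A₂ * C = A₁ := by
    have hsymm : (Cᵀ * A₂ * C - A₁)ᵀ = Cᵀ * A₂ * C - A₁ := by
      rw [Matrix.transpose_sub, Matrix.transpose_mul, Matrix.transpose_mul, Matrix.transpose_transpose,
        hA₁, hA₂, Matrix.mul_assoc]
    have := sym_zero_of_quad h2 _ hsymm (fun v => by
      rw [Matrix.sub_mulVec, dotProduct_sub, sub_eq_zero]
      have h1 := hg v
      rw [hQ₁, hQ₂, LinearMap.BilinMap.toQuadraticMap_apply, LinearMap.BilinMap.toQuadraticMap_apply,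
        Matrix.toBilin'_apply', Matrix.toBilin'_apply', ← hCv] at h1
      rw [← h1, Matrix.mul_assoc, ← Matrix.mulVec_mulVec, ← Matrix.mulVec_mulVec,
        Matrix.dotProduct_mulVec, Matrix.vecMul_transpose])
    exact sub_eq_zero.mp this
  refine ⟨C, ?_, hEq⟩
  intro h0
  apply hd₁
  rw [← hEq, Matrix.det_mul, Matrix.det_mul, h0, mul_zero]

/-- congruence of symmetric matrices with the same discriminant, over a finite field of odd
characteristic. -/
theorem sym_congr {κ : Type} [Fintype κ] [DecidableEq κ] {K : Type u} [Field K] [Fintype K]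
    (h2 : (2 : K) ≠ 0) (hκ : 0 < Fintype.card κ)
    (A₁ A₂ : Matrix κ κ K) (hA₁ : A₁ᵀ = A₁) (hA₂ : A₂ᵀ = A₂)
    (hd₁ : A₁.det ≠ 0) (hd₂ : A₂.det ≠ 0) (hsq : IsSquare (A₁.det * A₂.det)) :
    ∃ C : Matrix κ κ K, C.det ≠ 0 ∧ Cᵀ * A₂ * C = A₁ := by
  classical
  obtain ⟨d, hd⟩ : ∃ d, Fintype.card κ = d + 1 := ⟨Fintype.card κ - 1, by omega⟩
  let e : κ ≃ Fin (d + 1) := Fintype.equivFinOfCardEq hd
  obtain ⟨C, hC0, hC⟩ := sym_congr_fin h2 (Matrix.reindex e e A₁) (Matrix.reindex e e A₂)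
    (by rw [Matrix.transpose_reindex, hA₁]) (by rw [Matrix.transpose_reindex, hA₂])
    (by rw [Matrix.det_reindex_self]; exact hd₁) (by rw [Matrix.det_reindex_self]; exact hd₂)
    (by rw [Matrix.det_reindex_self, Matrix.det_reindex_self]; exact hsq)
  refine ⟨Matrix.reindex e.symm e.symm C, ?_, ?_⟩
  · rw [Matrix.det_reindex_self]; exact hC0
  · have := congrArg (Matrix.reindex e.symm e.symm) hC
    simp only [Matrix.reindex_apply, Equiv.symm_symm,
      Matrix.submatrix_submatrix, Equiv.symm_comp_self, Matrix.submatrix_id_id,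
      Matrix.transpose_submatrix] at this ⊢
    rw [← this]
    rw [← Matrix.submatrix_mul_equiv _ _ _ e, ← Matrix.submatrix_mul_equiv _ _ _ e]
    simp

/-- in odd dimension, any two invertible symmetric matrices are congruent up to a scalar. -/
theorem sym_sim_odd {κ : Type} [Fintype κ] [DecidableEq κ] {K : Type u} [Field K] [Fintype K]
    (h2 : (2 : K) ≠ 0) (m : ℕ) (hκ : Fintype.card κ = 2 * m + 1)
    (A₁ A₂ : Matrix κ κ K) (hA₁ : A₁ᵀ = A₁) (hA₂ : A₂ᵀ = A₂)
    (hd₁ : A₁.det ≠ 0) (hd₂ : A₂.det ≠ 0) :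
    ∃ (C : Matrix κ κ K) (e : K), C.det ≠ 0 ∧ e ≠ 0 ∧ Cᵀ * A₂ * C = e • A₁ := by
  set e : K := A₁.det * A₂.det with he
  have he0 : e ≠ 0 := mul_ne_zero hd₁ hd₂
  have hdet : (e • A₁).det = e ^ (2 * m + 1) * A₁.det := by rw [Matrix.det_smul, hκ]
  obtain ⟨C, hC0, hC⟩ := sym_congr h2 (by omega) (e • A₁) A₂
    (by rw [Matrix.transpose_smul, hA₁]) hA₂
    (by rw [hdet]; exact mul_ne_zero (pow_ne_zero _ he0) hd₁) hd₂
    (by
      rw [hdet]
      refine ⟨e ^ (m + 1), ?_⟩
      rw [he]; ring)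
  exact ⟨C, e, hC0, he0, hC⟩

end Cfsg.Agent.Lib.Helper16.OL
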