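import Mathlib
import Cfsg.Agent.Lib.Helper16.OL2
import Cfsg.Agent.Lib.Helper16.SemiFixed

set_option autoImplicit false
set_option linter.unusedSectionVars false
set_option linter.unusedVariables false

/-! Lang-type results for orthogonal groups, part 3: Hilbert 90 for the conformal orthogonal group
in odd dimension. -/

namespace Cfsg.Agent.Lib.Helper16.OL

open Matrix Cfsg.Agent.Lib.Lead.OA Cfsg.Agent.Lib.Helper16 Cfsg.Agent.Lib.Helper16.OA
  Cfsg.Agent.Lib.Helper16.H9

universe u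

variable {ι : Type} [Fintype ι] [DecidableEq ι] {F : Type u} [Field F]

/-- the Gram matrix of the polar form. -/
noncomputable def gramQ (Q : QuadraticForm F (ι → F)) : Matrix ι ι F :=
  LinearMap.BilinForm.toMatrix' (QuadraticMap.polarBilin Q)

theorem gramQ_apply (Q : QuadraticForm F (ι → F)) (i j : ι) :
    gramQ Q i j = QuadraticMap.polar (⇑Q) (Pi.single i 1) (Pi.single j 1) := by
  unfold gramQ
  rw [LinearMap.BilinForm.toMatrix'_apply]
  rfl

theorem gramQ_form (Q : QuadraticForm F (ι → F)) (x y : ι → F) :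
    x ⬝ᵥ (gramQ Q *ᵥ y) = QuadraticMap.polar (⇑Q) x y := by
  unfold gramQ
  rw [← Matrix.toBilin'_apply', Matrix.toBilin'_toMatrix']
  rfl

theorem gramQ_transpose (Q : QuadraticForm F (ι → F)) : (gramQ Q)ᵀ = gramQ Q := by
  ext i j
  rw [Matrix.transpose_apply, gramQ_apply, gramQ_apply, QuadraticMap.polar_comm]

theorem gramQ_det_ne_zero (Q : QuadraticForm F (ι → F))
    (hQ : (QuadraticMap.polarBilin Q).Nondegenerate) : (gramQ Q).det ≠ 0 := by
  unfold gramQ
  rw [← Matrix.nondegenerate_iff_det_ne_zero, LinearMap.BilinForm.nondegenerate_toMatrix'_iff]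
  exact hQ

theorem comp_single (σ : F ≃+* F) (i : ι) :
    (fun k => σ ((Pi.single i (1 : F) : ι → F) k)) = Pi.single i 1 := by
  funext k
  by_cases hk : k = i
  · subst hk; simp
  · simp [Pi.single_eq_of_ne hk]

theorem gramQ_map (Q : QuadraticForm F (ι → F)) (hσ : FieldCompat (⇑Q : (ι → F) → F))
    (σ : F ≃+* F) : (gramQ Q).map σ = gramQ Q := by
  ext i j
  rw [Matrix.map_apply, gramQ_apply]
  unfold QuadraticMap.polar
  rw [map_sub, map_sub, ← hσ, ← hσ, ← hσ]
  have h1 : (fun k => σ ((Pi.single i (1 : F) + Pi.single j (1 : F) : ι → F) k)) =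
      Pi.single i 1 + Pi.single j 1 := by
    funext k
    have a := congrFun (comp_single σ i) k
    have b := congrFun (comp_single σ j) k
    simp only at a b
    simp only [Pi.add_apply, map_add]
    rw [a, b]
  rw [h1, comp_single, comp_single]

/-- similarity in terms of the Gram matrix. -/
theorem gram_of_sim (Q : QuadraticForm F (ι → F)) (g : Matrix ι ι F) (c : F)
    (hc : ∀ v, Q (g *ᵥ v) = c * Q v) : gᵀ * gramQ Q * g = c • gramQ Q := by
  let B : LinearMap.BilinForm F (ι → F) := QuadraticMap.polarBilin Q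
  have hB : ∀ x y, B x y = QuadraticMap.polar (⇑Q) x y := fun x y => rfl
  have hcomp : B.comp (Matrix.toLin' g) (Matrix.toLin' g) = c • B := by
    apply LinearMap.ext
    intro x
    apply LinearMap.ext
    intro y
    rw [LinearMap.BilinForm.comp_apply, Matrix.toLin'_apply, Matrix.toLin'_apply,
      LinearMap.smul_apply, LinearMap.smul_apply, smul_eq_mul, hB, hB]
    unfold QuadraticMap.polar
    rw [← Matrix.mulVec_add, hc, hc, hc]
    ring
  have h1 := LinearMap.BilinForm.toMatrix'_comp B (Matrix.toLin' g) (Matrix.toLin' g)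
  rw [hcomp, LinearMap.toMatrix'_toLin', map_smul] at h1
  exact h1.symm

theorem two_mul_Q (Q : QuadraticForm F (ι → F)) (x : ι → F) :
    2 * Q x = x ⬝ᵥ (gramQ Q *ᵥ x) := by
  rw [gramQ_form, QuadraticMap.polar_self, two_smul, two_mul]

theorem gram_formI (B M : Matrix ι ι F) (u v : ι → F) :
    u ⬝ᵥ ((Bᵀ * M * B) *ᵥ v) = (B *ᵥ u) ⬝ᵥ (M *ᵥ (B *ᵥ v)) := by
  rw [← Matrix.mulVec_mulVec, ← Matrix.mulVec_mulVec, Matrix.dotProduct_mulVec, Matrix.vecMul_transpose]

theorem sim_of_gram (Q : QuadraticForm F (ι → F)) (h2 : (2 : F) ≠ 0) (g : Matrix ι ι F) (c : F)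
    (hg : gᵀ * gramQ Q * g = c • gramQ Q) (v : ι → F) : Q (g *ᵥ v) = c * Q v := by
  apply mul_left_cancel₀ h2
  rw [two_mul_Q, ← mul_assoc, mul_comm 2 c, mul_assoc, two_mul_Q, ← gram_formI, hg,
    Matrix.smul_mulVec, dotProduct_smul, smul_eq_mul]

/-- descent of similarity of symmetric matrices to a subfield, odd dimension. -/
theorem subfield_sim_odd [Fintype F] (h2 : (2 : F) ≠ 0) (K : Subfield F) (m : ℕ)
    (hκ : Fintype.card ι = 2 * m + 1) (A M : Matrix ι ι F)
    (hAK : ∀ i j, A i j ∈ K) (hMK : ∀ i j, M i j ∈ K) (hA : Aᵀ = A) (hM : Mᵀ = M)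
    (hdA : A.det ≠ 0) (hdM : M.det ≠ 0) :
    ∃ (C : Matrix ι ι F) (e : F), (∀ i j, C i j ∈ K) ∧ C.det ≠ 0 ∧ e ≠ 0 ∧ Cᵀ * A * C = e • M := by
  classical
  have hfK : Fintype K := Fintype.ofFinite K
  set A₁ : Matrix ι ι K := fun i j => ⟨A i j, hAK i j⟩ with hA₁
  set M₁ : Matrix ι ι K := fun i j => ⟨M i j, hMK i j⟩ with hM₁
  have hA₁map : A₁.map K.subtype = A := by ext i j; rfl
  have hM₁map : M₁.map K.subtype = M := by ext i j; rfl
  have h2K : (2 : K) ≠ 0 := by
    intro h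
    apply h2
    have := congrArg K.subtype h
    rwa [map_ofNat, map_zero] at this
  have hA₁s : A₁ᵀ = A₁ := by
    ext i j
    have := congrFun (congrFun hA i) j
    rw [Matrix.transpose_apply] at this
    exact this
  have hM₁s : M₁ᵀ = M₁ := by
    ext i j
    have := congrFun (congrFun hM i) j
    rw [Matrix.transpose_apply] at this
    exact this
  have hdetmap : ∀ X : Matrix ι ι K, (X.map K.subtype).det = K.subtype X.det := by
    intro X
    rw [← RingHom.mapMatrix_apply, ← RingHom.map_det]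
  have hdA₁ : A₁.det ≠ 0 := by
    intro h0
    apply hdA
    rw [← hA₁map, hdetmap, h0, map_zero]
  have hdM₁ : M₁.det ≠ 0 := by
    intro h0
    apply hdM
    rw [← hM₁map, hdetmap, h0, map_zero]
  obtain ⟨C₁, e₁, hC0, he0, hC⟩ := sym_sim_odd h2K m hκ M₁ A₁ hM₁s hA₁s hdM₁ hdA₁
  refine ⟨C₁.map K.subtype, K.subtype e₁, fun i j => (C₁ i j).2, ?_, ?_, ?_⟩
  · rw [hdetmap]
    intro h
    exact hC0 (K.subtype_injective (by rw [h, map_zero]))
  · intro h
    exact he0 (K.subtype_injective (by rw [h, map_zero]))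
  · rw [← hA₁map, ← hM₁map, ← Matrix.transpose_map, ← Matrix.map_mul, ← Matrix.map_mul, hC]
    ext i j
    simp

variable [Fintype F]

/-- Hilbert 90 for the conformal orthogonal group in odd dimension. -/
theorem h90_GO_odd (Q : QuadraticForm F (ι → F)) (h2 : (2 : F) ≠ 0)
    (hQ : (QuadraticMap.polarBilin Q).Nondegenerate) (hσc : FieldCompat (⇑Q : (ι → F) → F))
    (m : ℕ) (hcard : Fintype.card ι = 2 * m + 1) (σ : RingAut F) (r : ℕ)
    (hinj : ∀ i j, i < r → j < r → σ ^ i = σ ^ j → i = j) (hr0 : 0 < r) (hσr : σ ^ r = 1)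
    (g : GL ι F) (hg : g ∈ GO (⇑Q : (ι → F) → F)) (hA : twI σ g r = 1) :
    ∃ h : GL ι F, h ∈ GO (⇑Q : (ι → F) → F) ∧ g * glMapEquiv σ h = h := by
  classical
  obtain ⟨B, hB⟩ := h90_I σ r hinj hr0 hσr g hA
  obtain ⟨c, hc⟩ := hg
  set Bm : Matrix ι ι F := (B : Matrix ι ι F) with hBm
  set gm : Matrix ι ι F := (g : Matrix ι ι F) with hgm
  set M : Matrix ι ι F := gramQ Q with hMdef
  have hMσ : M.map ⇑σ = M := gramQ_map Q hσc σ
  have hMs : Mᵀ = M := gramQ_transpose Q
  have hMdet : M.det ≠ 0 := gramQ_det_ne_zero Q hQ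
  have hBval : gm * Bm.map ⇑σ = Bm := by
    have := congrArg (fun x : GL ι F => (x : Matrix ι ι F)) hB
    simp only [Units.val_mul, glMapEquiv_val] at this
    exact this
  have hgM : gmᵀ * M * gm = (c : F) • M := gram_of_sim Q gm c hc
  set A' : Matrix ι ι F := Bmᵀ * M * Bm with hA'
  have hσA' : A' = (c : F) • A'.map ⇑σ := by
    have h1 : A'.map ⇑σ = (Bm.map ⇑σ)ᵀ * M * Bm.map ⇑σ := by
      rw [hA', Matrix.map_mul, Matrix.map_mul, hMσ, Matrix.transpose_map]
    rw [h1]
    conv_lhs => rw [hA', ← hBval]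
    rw [Matrix.transpose_mul]
    calc (Bm.map ⇑σ)ᵀ * gmᵀ * M * (gm * Bm.map ⇑σ)
        = (Bm.map ⇑σ)ᵀ * (gmᵀ * M * gm) * Bm.map ⇑σ := by simp only [Matrix.mul_assoc]
      _ = _ := by rw [hgM, Matrix.mul_smul, Matrix.smul_mul]
  have hBdet : Bm.det ≠ 0 := by
    have h1 : IsUnit Bm.det := (Matrix.isUnit_iff_isUnit_det _).mp B.isUnit
    exact h1.ne_zero
  have hdetA' : A'.det ≠ 0 := by
    rw [hA', Matrix.det_mul, Matrix.det_mul, Matrix.det_transpose]
    exact mul_ne_zero (mul_ne_zero hBdet hMdet) hBdet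
  have hA's : A'ᵀ = A' := by
    rw [hA', Matrix.transpose_mul, Matrix.transpose_mul, Matrix.transpose_transpose, hMs,
      Matrix.mul_assoc]
  have hne : Nonempty ι := by
    rw [← Fintype.card_pos_iff, hcard]; omega
  obtain ⟨k₀, l₀, hk₀⟩ : ∃ k₀ l₀, A' k₀ l₀ ≠ 0 := by
    by_contra hno
    push Not at hno
    apply hdetA'
    have : A' = 0 := by
      ext i j
      exact hno i j
    rw [this]
    exact Matrix.det_zero
  set d : F := A' k₀ l₀ with hd
  have hσent : ∀ k l, A' k l = (c : F) * σ (A' k l) := by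
    intro k l
    have := congrFun (congrFun hσA' k) l
    rw [Matrix.smul_apply, Matrix.map_apply, smul_eq_mul] at this
    exact this
  have hdσ : σ d = (c : F)⁻¹ * d := by
    have := hσent k₀ l₀
    rw [← hd] at this
    rw [eq_inv_mul_iff_mul_eq₀ c.ne_zero]
    exact this.symm
  set A : Matrix ι ι F := d⁻¹ • A' with hAdef
  set K : Subfield F := FixedPoints.subfield (Subgroup.zpowers (σ : F ≃+* F)) F with hK
  have hAK : ∀ i j, A i j ∈ K := by
    intro i j
    rw [hK, Cfsg.Agent.Lib.Helper16.mem_fixed_iff]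
    have haσ : σ (A' i j) = (c : F)⁻¹ * A' i j := by
      rw [eq_inv_mul_iff_mul_eq₀ c.ne_zero]
      exact (hσent i j).symm
    rw [hAdef, Matrix.smul_apply, smul_eq_mul, map_mul, map_inv₀, hdσ, haσ]
    have hc0 : (c : F) ≠ 0 := c.ne_zero
    field_simp
  have hMK : ∀ i j, M i j ∈ K := by
    intro i j
    rw [hK, Cfsg.Agent.Lib.Helper16.mem_fixed_iff]
    have := congrFun (congrFun hMσ i) j
    rw [Matrix.map_apply] at this
    exact this
  have hAs : Aᵀ = A := by rw [hAdef, Matrix.transpose_smul, hA's]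
  have hdetA : A.det ≠ 0 := by
    rw [hAdef, Matrix.det_smul]
    exact mul_ne_zero (pow_ne_zero _ (inv_ne_zero hk₀)) hdetA'
  obtain ⟨C, e, hCK, hCdet, he0, hCcong⟩ :=
    subfield_sim_odd h2 K m hcard A M hAK hMK hAs hMs hdetA hMdet
  have hCσ : C.map ⇑σ = C := by
    ext i j
    rw [Matrix.map_apply]
    exact (Cfsg.Agent.Lib.Helper16.mem_fixed_iff (σ : F ≃+* F) (C i j)).mp (hCK i j)
  set Cg : GL ι F := Matrix.GeneralLinearGroup.mkOfDetNeZero C hCdet with hCg
  have hCgval : (Cg : Matrix ι ι F) = C := rfl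
  refine ⟨B * Cg, ⟨Units.mk0 (d * e) (mul_ne_zero hk₀ he0), ?_⟩, ?_⟩
  · intro v
    rw [Units.val_mul, hCgval, Units.val_mk0]
    apply sim_of_gram Q h2
    have h1 : (Bm * C)ᵀ * M * (Bm * C) = Cᵀ * A' * C := by
      rw [hA', Matrix.transpose_mul]; simp only [Matrix.mul_assoc]
    have h3 : A' = d • A := by
      rw [hAdef, smul_smul, mul_inv_cancel₀ hk₀, one_smul]
    rw [h1, h3, Matrix.mul_smul, Matrix.smul_mul, hCcong, smul_smul]
  · apply Units.ext
    rw [Units.val_mul, glMapEquiv_val, Units.val_mul, hCgval, Matrix.map_mul, hCσ, ← Matrix.mul_assoc]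
    show gm * Bm.map ⇑σ * C = Bm * C
    rw [hBval]

end Cfsg.Agent.Lib.Helper16.OL
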