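import Mathlib
import Cfsg.Agent.Lib.Helper16.OL3

set_option autoImplicit false
set_option linter.unusedSectionVars false
set_option linter.unusedVariables false

/-! Lang-type results for orthogonal groups, part 4: the coset of a field automorphism of
`Ω_{2m+1}(q)`. -/

namespace Cfsg.Agent.Lib.Helper16.OL

open Matrix Cfsg.Agent.Lib.Lead.OA Cfsg.Agent.Lib.Helper16 Cfsg.Agent.Lib.Helper16.OA
  Cfsg.Agent.Lib.Helper16.H9

universe u

variable {ι : Type} [Fintype ι] [DecidableEq ι] {F : Type u} [Field F]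

theorem scI_mem_GO (Q : QuadraticForm F (ι → F)) (c : Fˣ) : scI ι c ∈ GO (⇑Q : (ι → F) → F) := by
  refine ⟨c * c, fun v => ?_⟩
  rw [scI_val, Matrix.smul_mulVec, Matrix.one_mulVec, QuadraticMap.map_smul, Units.val_mul,
    smul_eq_mul]

theorem twI_mem {Q : (ι → F) → F} (hσc : FieldCompat Q) (σ : RingAut F) {g : GL ι F}
    (hg : g ∈ GO Q) (k : ℕ) : twI σ g k ∈ GO Q := by
  induction k with
  | zero => exact one_mem _
  | succ k ih => exact mul_mem hg (glMapEquiv_mem_GO hσc σ ih)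

theorem fieldO_mul_cHom (Q : (ι → F) → F) (hσc : FieldCompat Q) (σ : RingAut F) (g : ↥(GO Q)) :
    fieldO Q hσc σ * cHom Q g =
      cHom Q ⟨glMapEquiv σ (g : GL ι F), glMapEquiv_mem_GO hσc σ g.2⟩ * fieldO Q hσc σ := by
  rw [← fieldO_conj_cHom Q hσc σ g]
  group

theorem pow_cHom_fieldO (Q : (ι → F) → F) (hσc : FieldCompat Q) (σ : RingAut F) (g : GL ι F)
    (hg : g ∈ GO Q) (k : ℕ) :
    (cHom Q ⟨g, hg⟩ * fieldO Q hσc σ) ^ k =
      cHom Q ⟨twI σ g k, twI_mem hσc σ hg k⟩ * fieldO Q hσc (σ ^ k) := by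
  induction k with
  | zero =>
    rw [pow_zero, pow_zero, map_one]
    have : (⟨twI σ g 0, twI_mem hσc σ hg 0⟩ : ↥(GO Q)) = 1 := rfl
    rw [this, map_one, one_mul]
  | succ k ih =>
    rw [pow_succ', ih, pow_succ', map_mul]
    have h1 : (⟨twI σ g (k + 1), twI_mem hσc σ hg (k + 1)⟩ : ↥(GO Q)) =
        ⟨g, hg⟩ * ⟨glMapEquiv σ (twI σ g k), glMapEquiv_mem_GO hσc σ (twI_mem hσc σ hg k)⟩ := rfl
    rw [h1, map_mul]
    calc cHom Q ⟨g, hg⟩ * fieldO Q hσc σ * (cHom Q ⟨twI σ g k, twI_mem hσc σ hg k⟩ * fieldO Q hσc (σ ^ k))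
        = cHom Q ⟨g, hg⟩ * (fieldO Q hσc σ * cHom Q ⟨twI σ g k, twI_mem hσc σ hg k⟩) *
            fieldO Q hσc (σ ^ k) := by simp only [mul_assoc]
      _ = _ := by rw [fieldO_mul_cHom]; simp only [mul_assoc]

theorem isFieldAut_iff (Q : (ι → F) → F) (hσc : FieldCompat Q) (σ : F ≃+* F)
    (β : Cfsg.POmega F Q ≃* Cfsg.POmega F Q) :
    Cfsg.IsFieldAutPOmegaOf Q σ β ↔ β = fieldO Q hσc σ := by
  have h1 := induced_field_iff Q hσc (1 : GL ι F) (one_mem _) σ β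
  have h2 : (⟨(1 : GL ι F), one_mem _⟩ : ↥(GO Q)) = 1 := rfl
  rw [h2, map_one, one_mul] at h1
  rw [← h1]
  unfold Cfsg.IsFieldAutPOmegaOf Cfsg.IsInducedBySemilinearPOmega
  simp only [Units.val_one, inv_one, Matrix.one_mul, Matrix.mul_one]

variable [Fintype F]

theorem fieldO_injective (Q : QuadraticForm F (ι → F))
    (hQ : (QuadraticMap.polarBilin Q).Nondegenerate) (hn : 7 ≤ Fintype.card ι)
    (hσc : FieldCompat (⇑Q : (ι → F) → F)) :
    Function.Injective (fieldO (⇑Q : (ι → F) → F) hσc) := by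
  rw [injective_iff_map_eq_one]
  intro σ hσ
  apply field_mem_pgo Q hQ hn hσc σ
  rw [hσ]
  exact one_mem _

theorem orderOf_fieldO (Q : QuadraticForm F (ι → F))
    (hQ : (QuadraticMap.polarBilin Q).Nondegenerate) (hn : 7 ≤ Fintype.card ι)
    (hσc : FieldCompat (⇑Q : (ι → F) → F)) (σ : RingAut F) :
    orderOf (fieldO (⇑Q : (ι → F) → F) hσc σ) = orderOf σ :=
  orderOf_injective (fieldO (⇑Q : (ι → F) → F) hσc) (fieldO_injective Q hQ hn hσc) σ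

/-- in the coset of a field automorphism, the elements of the same order are conjugate to it
(odd dimension). -/
theorem field_conjO (Q : QuadraticForm F (ι → F)) (h2 : (2 : F) ≠ 0)
    (hQ : (QuadraticMap.polarBilin Q).Nondegenerate) (hn : 7 ≤ Fintype.card ι)
    (hσc : FieldCompat (⇑Q : (ι → F) → F)) (m : ℕ) (hcard : Fintype.card ι = 2 * m + 1)
    (σ : RingAut F) (r : ℕ) (hord : orderOf σ = r) (hr0 : 0 < r)
    (g : ↥(GO (⇑Q : (ι → F) → F)))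
    (hpow : (cHom (⇑Q : (ι → F) → F) g * fieldO (⇑Q : (ι → F) → F) hσc σ) ^ r = 1) :
    ∃ h : ↥(GO (⇑Q : (ι → F) → F)),
      cHom (⇑Q : (ι → F) → F) g * fieldO (⇑Q : (ι → F) → F) hσc σ =
        cHom (⇑Q : (ι → F) → F) h * fieldO (⇑Q : (ι → F) → F) hσc σ *
          (cHom (⇑Q : (ι → F) → F) h)⁻¹ := by
  have hne : Nonempty ι := by
    rw [← Fintype.card_pos_iff]; omega
  have hσr : σ ^ r = 1 := by rw [← hord]; exact pow_orderOf_eq_one σ
  have hinj : ∀ i j, i < r → j < r → σ ^ i = σ ^ j → i = j := by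
    intro i j hi hj hij
    rw [← hord] at hi hj
    exact pow_injOn_Iio_orderOf hi hj hij
  obtain ⟨g, hg⟩ := g
  rw [pow_cHom_fieldO, hσr, map_one, mul_one] at hpow
  obtain ⟨d, hd⟩ := cHom_ker_scalar Q hQ hn _ hpow
  have hd' : ((twI σ g r : GL ι F) : Matrix ι ι F) = d • (1 : Matrix ι ι F) := hd
  have hd0 : d ≠ 0 := by
    rintro rfl
    have h1 : IsUnit ((twI σ g r : GL ι F) : Matrix ι ι F).det :=
      (Matrix.isUnit_iff_isUnit_det _).mp (twI σ g r).isUnit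
    rw [hd', zero_smul, Matrix.det_zero] at h1
    exact not_isUnit_zero h1
  set c : Fˣ := Units.mk0 d hd0 with hc
  have hc' : twI σ g r = scI ι c := by
    apply Units.ext
    rw [hd', scI_val, hc, Units.val_mk0]
  have hfix : uσ σ c = c := by
    apply scI_injective (ι := ι)
    have e1 : twI σ g (r + 1) = g * scI ι (uσ σ c) := by rw [twI_succ, hc', glMapEquiv_scI]
    have e2 : twI σ g (r + 1) = g * scI ι c := by
      rw [twI_add, hσr, glMapEquiv_one_aut, twI_one, hc', scI_comm]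
    exact mul_left_cancel (e1.symm.trans e2)
  obtain ⟨e, he⟩ := Cfsg.Agent.Lib.Helper16.H9.norm_surj σ r hinj hr0 hσr c hfix
  set g' := g * scI ι e⁻¹ with hg'
  have hg'mem : g' ∈ GO (⇑Q : (ι → F) → F) := mul_mem hg (scI_mem_GO Q _)
  have hg'tw : twI σ g' r = 1 := by
    rw [hg', twI_mul_scI, hc', ← map_mul, ← nuHom_apply, map_inv, nuHom_apply, he, mul_inv_cancel,
      map_one]
  obtain ⟨B, hBmem, hB⟩ := h90_GO_odd Q h2 hQ hσc m hcard σ r hinj hr0 hσr g' hg'mem hg'tw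
  refine ⟨⟨B, hBmem⟩, ?_⟩
  have hPg : cHom (⇑Q : (ι → F) → F) ⟨g, hg⟩ = cHom (⇑Q : (ι → F) → F) ⟨g', hg'mem⟩ := by
    have : (⟨g', hg'mem⟩ : ↥(GO (⇑Q : (ι → F) → F))) = ⟨g, hg⟩ * ⟨scI ι e⁻¹, scI_mem_GO Q _⟩ := rfl
    rw [this, map_mul, scalar_cHom_eq_one (⇑Q : (ι → F) → F) ⟨scI ι e⁻¹, scI_mem_GO Q _⟩ _
      (scI_val e⁻¹), mul_one]
  have hg'B : (⟨g', hg'mem⟩ : ↥(GO (⇑Q : (ι → F) → F))) =
      ⟨B, hBmem⟩ * (⟨glMapEquiv σ B, glMapEquiv_mem_GO hσc σ hBmem⟩ : ↥(GO (⇑Q : (ι → F) → F)))⁻¹ := by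
    apply eq_mul_inv_of_mul_eq
    exact Subtype.ext hB
  have h3 : fieldO (⇑Q : (ι → F) → F) hσc σ * (cHom (⇑Q : (ι → F) → F) ⟨B, hBmem⟩)⁻¹ =
      (cHom (⇑Q : (ι → F) → F) ⟨glMapEquiv σ B, glMapEquiv_mem_GO hσc σ hBmem⟩)⁻¹ *
        fieldO (⇑Q : (ι → F) → F) hσc σ := by
    have := fieldO_mul_cHom (⇑Q : (ι → F) → F) hσc σ ⟨B, hBmem⟩
    rw [eq_inv_mul_iff_mul_eq, ← mul_assoc, ← this, mul_assoc, mul_inv_cancel, mul_one]
  rw [mul_assoc (cHom (⇑Q : (ι → F) → F) ⟨B, hBmem⟩), h3, hPg, hg'B, map_mul, map_inv, mul_assoc]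

end Cfsg.Agent.Lib.Helper16.OL
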