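import Mathlib
import Cfsg.Agent.Lib.Helper16.OL4

set_option autoImplicit false
set_option linter.unusedSectionVars false
set_option linter.unusedVariables false

/-! Lang-type results for orthogonal groups, part 5: S2735. -/

namespace Cfsg.Agent.Lib.Helper16.OL

open Matrix Cfsg.Agent.Lib.Lead.OA Cfsg.Agent.Lib.Helper16 Cfsg.Agent.Lib.Helper16.OA
  Cfsg.Agent.Lib.Helper16.H9

universe u

variable {ι : Type} [Fintype ι] [DecidableEq ι] {F : Type u} [Field F] [Fintype F]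

theorem coset_field_odd (Q : QuadraticForm F (ι → F)) (h2 : (2 : F) ≠ 0)
    (hQ : (QuadraticMap.polarBilin Q).Nondegenerate) (hn : 7 ≤ Fintype.card ι)
    (hT : 9 ≤ Fintype.card ι ∨ Fintype.card ι ≤ 7 ∨
      ∀ U : Submodule F (ι → F), (∀ u ∈ U, Q u = 0) → Module.finrank F U ≤ 3)
    (hσc : FieldCompat (⇑Q : (ι → F) → F)) (m : ℕ) (hcard : Fintype.card ι = 2 * m + 1)
    (x δ : MulAut (Cfsg.POmega F (⇑Q : (ι → F) → F)))
    (hx : Cfsg.IsFieldAutClassPOmega (⇑Q : (ι → F) → F) x) {r : ℕ} (hr : r.Prime)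
    (hxr : orderOf x = r) (hδ : δ ∈ (cHom (⇑Q : (ι → F) → F)).range) :
    orderOf (δ * x) = r ↔ Cfsg.IsConjUnder (cHom (⇑Q : (ι → F) → F)).range x (δ * x) := by
  have hN : ((cHom (⇑Q : (ι → F) → F)).range).Normal := pgo_normal Q hQ hn hT hσc
  constructor
  · intro ho
    have hpow : (δ * x) ^ r = 1 := by rw [← ho]; exact pow_orderOf_eq_one _
    obtain ⟨α, φ, σ, hσ, hstd, hconj⟩ := hx
    have hx₀ : α * x * α⁻¹ = fieldO (⇑Q : (ι → F) → F) hσc σ := by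
      rw [hconj]; exact (isFieldAut_iff _ hσc σ φ).mp hstd
    have hord : orderOf (σ : RingAut F) = r := by
      rw [← orderOf_fieldO Q hQ hn hσc, ← hx₀, AF.orderOf_conj_eq, hxr]
    apply coset_conj_transport (cHom (⇑Q : (ι → F) → F)).range α x
      (fieldO (⇑Q : (ι → F) → F) hσc σ) δ r hx₀ hδ hpow
    rintro _ ⟨g, rfl⟩ hg
    obtain ⟨h, hh⟩ := field_conjO Q h2 hQ hn hσc m hcard σ r hord hr.pos g hg
    exact ⟨cHom (⇑Q : (ι → F) → F) h, ⟨h, rfl⟩, hh⟩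
  · rintro ⟨h, hh, he⟩
    rw [he, AF.orderOf_conj_eq, hxr]

theorem two_ne_zero_of_odd_card (hodd : Odd (Fintype.card F)) : (2 : F) ≠ 0 := by
  intro h
  have h1 : ringChar F = 2 := by
    have : CharP F 2 := CharTwo.of_one_ne_zero_of_two_eq_zero one_ne_zero h
    exact ringChar.eq F 2
  have h3 := FiniteField.even_card_iff_char_two.mp h1
  rcases hodd with ⟨k, hk⟩
  omega

theorem S2735_aux (hodd : Odd (Fintype.card F)) {m : ℕ} (hm : 3 ≤ m)
    (x δ : MulAut (Cfsg.POmega F (Cfsg.quadFormOdd m F)))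
    (hx : Cfsg.IsFieldAutClassPOmega (Cfsg.quadFormOdd m F) x) {r : ℕ} (hr : r.Prime)
    (hxr : orderOf x = r) (hδ : δ ∈ Cfsg.inndiagPOmegaOdd m F) :
    orderOf (δ * x) = r ↔ Cfsg.IsConjUnder (Cfsg.inndiagPOmegaOdd m F) x (δ * x) := by
  have h2 : (2 : F) ≠ 0 := two_ne_zero_of_odd_card hodd
  have hcard : Fintype.card (Unit ⊕ (Fin m ⊕ Fin m)) = 2 * m + 1 := by
    simp; ring
  have hQ := qfOdd_nondeg (F := F) m h2
  have hn : 7 ≤ Fintype.card (Unit ⊕ (Fin m ⊕ Fin m)) := by rw [hcard]; omega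
  have hT : 9 ≤ Fintype.card (Unit ⊕ (Fin m ⊕ Fin m)) ∨
      Fintype.card (Unit ⊕ (Fin m ⊕ Fin m)) ≤ 7 ∨
      ∀ U : Submodule F (Unit ⊕ (Fin m ⊕ Fin m) → F), (∀ u ∈ U, qfOdd m F u = 0) →
        Module.finrank F U ≤ 3 := by
    rw [hcard]
    by_cases h : 4 ≤ m
    · left; omega
    · right; left; omega
  have hσc : FieldCompat (⇑(qfOdd m F) : (Unit ⊕ (Fin m ⊕ Fin m) → F) → F) := by
    rw [qfOdd_coe]
    exact fieldCompat_odd m
  have hinn : Cfsg.inndiagPOmegaOdd m F = (cHom (Cfsg.quadFormOdd m F)).range :=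
    pgoAut_eq (Cfsg.quadFormOdd m F)
  rw [hinn] at hδ ⊢
  exact coset_field_odd (qfOdd m F) h2 hQ hn hT hσc m hcard x δ hx hr hxr hδ

end Cfsg.Agent.Lib.Helper16.OL
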