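import Mathlib
import Cfsg.Agent.Lib.Helper16.OL5

set_option autoImplicit false
set_option linter.unusedSectionVars false
set_option linter.unusedVariables false

/-! Lang-type results for orthogonal groups, part 6: base change of isometry groups along a field
embedding. -/

namespace Cfsg.Agent.Lib.Helper16.OL

open Matrix Cfsg.Agent.Lib.Lead.OA Cfsg.Agent.Lib.Helper16 Cfsg.Agent.Lib.Helper16.OA
  Cfsg.Agent.Lib.Helper16.H9

universe u v

variable {ι : Type} [Fintype ι] [DecidableEq ι] {F : Type u} [Field F] {F₀ : Type v} [Field F₀]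

/-- compatibility of two quadratic forms with a field embedding. -/
def BaseCompat (j : F₀ →+* F) (Q₀ : (ι → F₀) → F₀) (Q : (ι → F) → F) : Prop :=
  ∀ v : ι → F₀, Q (fun i => j (v i)) = j (Q₀ v)

/-- base change of invertible matrices. -/
noncomputable def inclI (j : F₀ →+* F) : GL ι F₀ →* GL ι F := Matrix.GeneralLinearGroup.map j

theorem inclI_val (j : F₀ →+* F) (h : GL ι F₀) :
    ((inclI j h : GL ι F) : Matrix ι ι F) = (h : Matrix ι ι F₀).map ⇑j := rfl

theorem inclI_injective (j : F₀ →+* F) : Function.Injective (inclI (ι := ι) j) := by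
  intro a b hab
  apply Units.ext
  ext i k
  have := congrArg (fun g : GL ι F => (g : Matrix ι ι F) i k) hab
  simp only [inclI_val, Matrix.map_apply] at this
  exact j.injective this

theorem comp_single_base (j : F₀ →+* F) (i : ι) :
    (fun k => j ((Pi.single i (1 : F₀) : ι → F₀) k)) = Pi.single i 1 := by
  funext k
  by_cases hk : k = i
  · subst hk; simp
  · simp [Pi.single_eq_of_ne hk]

theorem gramQ_base (j : F₀ →+* F) (Q₀ : QuadraticForm F₀ (ι → F₀)) (Q : QuadraticForm F (ι → F))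
    (hc : BaseCompat j (⇑Q₀) (⇑Q)) : (gramQ Q₀).map ⇑j = gramQ Q := by
  ext i k
  rw [Matrix.map_apply, gramQ_apply, gramQ_apply]
  unfold QuadraticMap.polar
  rw [map_sub, map_sub, ← hc, ← hc, ← hc]
  have h1 : (fun l => j ((Pi.single i (1 : F₀) + Pi.single k (1 : F₀) : ι → F₀) l)) =
      Pi.single i 1 + Pi.single k 1 := by
    funext l
    have a : j ((Pi.single i (1 : F₀) : ι → F₀) l) = (Pi.single i 1 : ι → F) l :=
      congrFun (comp_single_base j i) l
    have b : j ((Pi.single k (1 : F₀) : ι → F₀) l) = (Pi.single k 1 : ι → F) l :=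
      congrFun (comp_single_base j k) l
    simp only [Pi.add_apply, map_add]
    rw [a, b]
  rw [h1, comp_single_base, comp_single_base]

theorem mem_iso_gram (Q : QuadraticForm F (ι → F)) (h2 : (2 : F) ≠ 0) (g : GL ι F) :
    g ∈ Cfsg.isometryGroup F (⇑Q : (ι → F) → F) ↔
      (g : Matrix ι ι F)ᵀ * gramQ Q * (g : Matrix ι ι F) = gramQ Q := by
  rw [mem_iso_iff']
  constructor
  · intro h
    have := gram_of_sim Q (g : Matrix ι ι F) 1 (fun v => by rw [h v, one_mul])
    rwa [one_smul] at this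
  · intro h v
    have := sim_of_gram Q h2 (g : Matrix ι ι F) 1 (by rw [h, one_smul]) v
    rwa [one_mul] at this

theorem inclI_mem_iso_iff (j : F₀ →+* F) (Q₀ : QuadraticForm F₀ (ι → F₀))
    (Q : QuadraticForm F (ι → F)) (hc : BaseCompat j (⇑Q₀) (⇑Q)) (h2 : (2 : F) ≠ 0)
    (h : GL ι F₀) :
    inclI j h ∈ Cfsg.isometryGroup F (⇑Q : (ι → F) → F) ↔
      h ∈ Cfsg.isometryGroup F₀ (⇑Q₀ : (ι → F₀) → F₀) := by
  have h2' : (2 : F₀) ≠ 0 := by
    intro h0
    apply h2
    have := congrArg j h0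
    rwa [map_ofNat, map_zero] at this
  rw [mem_iso_gram Q h2, mem_iso_gram Q₀ h2', inclI_val, ← gramQ_base j Q₀ Q hc,
    ← Matrix.transpose_map, ← Matrix.map_mul, ← Matrix.map_mul]
  constructor
  · intro h1
    ext a b
    have := congrFun (congrFun h1 a) b
    rw [Matrix.map_apply, Matrix.map_apply] at this
    exact j.injective this
  · intro h1
    rw [h1]

/-- base change of isometries. -/
noncomputable def inclIso (j : F₀ →+* F) (Q₀ : QuadraticForm F₀ (ι → F₀))
    (Q : QuadraticForm F (ι → F)) (hc : BaseCompat j (⇑Q₀) (⇑Q)) (h2 : (2 : F) ≠ 0) :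
    ↥(Cfsg.isometryGroup F₀ (⇑Q₀ : (ι → F₀) → F₀)) →* ↥(Cfsg.isometryGroup F (⇑Q : (ι → F) → F)) where
  toFun h := ⟨inclI j (h : GL ι F₀), (inclI_mem_iso_iff j Q₀ Q hc h2 _).mpr h.2⟩
  map_one' := Subtype.ext (map_one (inclI j))
  map_mul' a b := Subtype.ext (map_mul (inclI j) _ _)

theorem inclIso_coe (j : F₀ →+* F) (Q₀ : QuadraticForm F₀ (ι → F₀))
    (Q : QuadraticForm F (ι → F)) (hc : BaseCompat j (⇑Q₀) (⇑Q)) (h2 : (2 : F) ≠ 0)
    (h : ↥(Cfsg.isometryGroup F₀ (⇑Q₀ : (ι → F₀) → F₀))) :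
    ((inclIso j Q₀ Q hc h2 h : ↥(Cfsg.isometryGroup F (⇑Q : (ι → F) → F))) : GL ι F) =
      inclI j (h : GL ι F₀) := rfl

theorem inclIso_injective (j : F₀ →+* F) (Q₀ : QuadraticForm F₀ (ι → F₀))
    (Q : QuadraticForm F (ι → F)) (hc : BaseCompat j (⇑Q₀) (⇑Q)) (h2 : (2 : F) ≠ 0) :
    Function.Injective (inclIso j Q₀ Q hc h2) := by
  intro a b hab
  apply Subtype.ext
  apply inclI_injective j
  exact congrArg Subtype.val hab

theorem isoDet_inclIso (j : F₀ →+* F) (Q₀ : QuadraticForm F₀ (ι → F₀))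
    (Q : QuadraticForm F (ι → F)) (hc : BaseCompat j (⇑Q₀) (⇑Q)) (h2 : (2 : F) ≠ 0)
    (h : ↥(Cfsg.isometryGroup F₀ (⇑Q₀ : (ι → F₀) → F₀))) :
    isoDet (⇑Q : (ι → F) → F) (inclIso j Q₀ Q hc h2 h) =
      Units.map j.toMonoidHom (isoDet (⇑Q₀ : (ι → F₀) → F₀) h) := by
  apply Units.ext
  rw [isoDet_coe, inclIso_coe, inclI_val, ← RingHom.mapMatrix_apply, ← RingHom.map_det]
  rfl

/-- the reflection matrices are compatible with base change. -/
theorem reflectionMatrix_base (j : F₀ →+* F) (Q₀ : QuadraticForm F₀ (ι → F₀))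
    (Q : QuadraticForm F (ι → F)) (hc : BaseCompat j (⇑Q₀) (⇑Q)) (v : ι → F₀) :
    (Cfsg.reflectionMatrix (⇑Q₀ : (ι → F₀) → F₀) v).map ⇑j =
      Cfsg.reflectionMatrix (⇑Q : (ι → F) → F) (fun i => j (v i)) := by
  ext a b
  unfold Cfsg.reflectionMatrix Cfsg.polarVec
  simp only [Matrix.map_apply, Matrix.sub_apply, Matrix.smul_apply, Matrix.vecMulVec_apply,
    smul_eq_mul, map_sub, map_mul, map_inv₀]
  rw [← hc v]
  have hp : j (QuadraticMap.polar (⇑Q₀) v (Pi.single b 1)) =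
      QuadraticMap.polar (⇑Q) (fun i => j (v i)) (Pi.single b 1) := by
    unfold QuadraticMap.polar
    rw [map_sub, map_sub, ← hc, ← hc, ← hc, comp_single_base]
    have h1 : (fun l => j ((v + Pi.single b (1 : F₀) : ι → F₀) l)) =
        (fun i => j (v i)) + Pi.single b 1 := by
      funext l
      have b' : j ((Pi.single b (1 : F₀) : ι → F₀) l) = (Pi.single b 1 : ι → F) l :=
        congrFun (comp_single_base j b) l
      simp only [Pi.add_apply, map_add]
      rw [b']
    rw [h1]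
  rw [hp]
  congr 1
  by_cases hab : a = b
  · rw [hab, Matrix.one_apply_eq, Matrix.one_apply_eq, map_one]
  · rw [Matrix.one_apply_ne hab, Matrix.one_apply_ne hab, map_zero]

theorem inclIso_reflG (j : F₀ →+* F) (Q₀ : QuadraticForm F₀ (ι → F₀))
    (Q : QuadraticForm F (ι → F)) (hc : BaseCompat j (⇑Q₀) (⇑Q)) (h2 : (2 : F) ≠ 0)
    (v : ι → F₀) (hv : Q₀ v ≠ 0) (hv' : Q (fun i => j (v i)) ≠ 0) :
    inclIso j Q₀ Q hc h2 (reflG Q₀ v hv) = reflG Q (fun i => j (v i)) hv' := by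
  apply Subtype.ext
  apply Units.ext
  rw [inclIso_coe, inclI_val, reflG_coe, reflG_coe, reflectionMatrix_base j Q₀ Q hc]

end Cfsg.Agent.Lib.Helper16.OL
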