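import Mathlib
import Cfsg.Agent.Lib.Helper16.OL6

set_option autoImplicit false
set_option linter.unusedSectionVars false
set_option linter.unusedVariables false

/-! Lang-type results for orthogonal groups, part 7: the centraliser of a field automorphism in
`Inndiag(Ω_{2m+1}(q))`. -/

namespace Cfsg.Agent.Lib.Helper16.OL

open Matrix Cfsg.Agent.Lib.Lead.OA Cfsg.Agent.Lib.Helper16 Cfsg.Agent.Lib.Helper16.OA
  Cfsg.Agent.Lib.Helper16.H9

universe u v

variable {ι : Type} [Fintype ι] [DecidableEq ι] {F : Type u} [Field F] {F₀ : Type v} [Field F₀]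

/-- the special orthogonal group, as a subgroup of the isometry group. -/
noncomputable abbrev SOg (Q : QuadraticForm F (ι → F)) :
    Subgroup ↥(Cfsg.isometryGroup F (⇑Q : (ι → F) → F)) := (isoDet (⇑Q : (ι → F) → F)).ker

/-- the action of the special orthogonal group on `PΩ`. -/
noncomputable def PsiO [Fintype F] (Q : QuadraticForm F (ι → F)) :
    ↥(SOg Q) →* MulAut (Cfsg.POmega F (⇑Q : (ι → F) → F)) :=
  (c0 Q).comp (SOg Q).subtype

theorem PsiO_apply [Fintype F] (Q : QuadraticForm F (ι → F)) (s : ↥(SOg Q)) :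
    PsiO Q s = cHom (⇑Q : (ι → F) → F) (isoToGO Q (s : ↥(Cfsg.isometryGroup F (⇑Q : (ι → F) → F)))) :=
  rfl

theorem PsiO_injective [Fintype F] (Q : QuadraticForm F (ι → F)) (h2 : (2 : F) ≠ 0)
    (hQ : (QuadraticMap.polarBilin Q).Nondegenerate) (hn : 4 ≤ Fintype.card ι) (m : ℕ)
    (hcard : Fintype.card ι = 2 * m + 1) : Function.Injective (PsiO Q) :=
  c0_inj_SO Q h2 hQ hn m hcard

theorem PsiO_range [Fintype F] (Q : QuadraticForm F (ι → F)) (h2 : (2 : F) ≠ 0)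
    (hQ : (QuadraticMap.polarBilin Q).Nondegenerate) (hn : 4 ≤ Fintype.card ι) (m : ℕ)
    (hcard : Fintype.card ι = 2 * m + 1) : (PsiO Q).range = (cHom (⇑Q : (ι → F) → F)).range := by
  rw [range_cHom_odd Q h2 hQ hn m hcard]
  unfold PsiO
  rw [MonoidHom.range_comp, Subgroup.range_subtype]

/-- base change of special isometries. -/
noncomputable def inclSO (j : F₀ →+* F) (Q₀ : QuadraticForm F₀ (ι → F₀))
    (Q : QuadraticForm F (ι → F)) (hc : BaseCompat j (⇑Q₀) (⇑Q)) (h2 : (2 : F) ≠ 0) :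
    ↥(SOg Q₀) →* ↥(SOg Q) where
  toFun h := ⟨inclIso j Q₀ Q hc h2 h.1, by
    show _ ∈ (isoDet (⇑Q : (ι → F) → F)).ker
    rw [MonoidHom.mem_ker, isoDet_inclIso]
    have : isoDet (⇑Q₀ : (ι → F₀) → F₀) h.1 = 1 := h.2
    rw [this, map_one]⟩
  map_one' := Subtype.ext (map_one (inclIso j Q₀ Q hc h2))
  map_mul' a b := Subtype.ext (map_mul (inclIso j Q₀ Q hc h2) _ _)

theorem inclSO_coe (j : F₀ →+* F) (Q₀ : QuadraticForm F₀ (ι → F₀))
    (Q : QuadraticForm F (ι → F)) (hc : BaseCompat j (⇑Q₀) (⇑Q)) (h2 : (2 : F) ≠ 0)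
    (h : ↥(SOg Q₀)) :
    (((inclSO j Q₀ Q hc h2 h : ↥(SOg Q)) : ↥(Cfsg.isometryGroup F (⇑Q : (ι → F) → F))) : GL ι F) =
      inclI j ((h : ↥(Cfsg.isometryGroup F₀ (⇑Q₀ : (ι → F₀) → F₀))) : GL ι F₀) := rfl

theorem inclSO_injective (j : F₀ →+* F) (Q₀ : QuadraticForm F₀ (ι → F₀))
    (Q : QuadraticForm F (ι → F)) (hc : BaseCompat j (⇑Q₀) (⇑Q)) (h2 : (2 : F) ≠ 0) :
    Function.Injective (inclSO j Q₀ Q hc h2) := by
  intro a b hab
  apply Subtype.ext
  apply inclIso_injective j Q₀ Q hc h2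
  exact congrArg Subtype.val hab

/-- the special isometries fixed by a field automorphism come from the fixed field. -/
theorem inclSO_range (j : F₀ →+* F) (Q₀ : QuadraticForm F₀ (ι → F₀))
    (Q : QuadraticForm F (ι → F)) (hc : BaseCompat j (⇑Q₀) (⇑Q)) (h2 : (2 : F) ≠ 0)
    (σ : RingAut F) (hj : ∀ x, (∃ y, j y = x) ↔ σ x = x) (s : ↥(SOg Q)) :
    (∃ h : ↥(SOg Q₀), inclSO j Q₀ Q hc h2 h = s) ↔
      glMapEquiv σ ((s : ↥(Cfsg.isometryGroup F (⇑Q : (ι → F) → F))) : GL ι F) =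
        ((s : ↥(Cfsg.isometryGroup F (⇑Q : (ι → F) → F))) : GL ι F) := by
  classical
  constructor
  · rintro ⟨h, rfl⟩
    apply Units.ext
    rw [glMapEquiv_val, inclSO_coe, inclI_val]
    ext a b
    rw [Matrix.map_apply, Matrix.map_apply]
    exact (hj _).mp ⟨_, rfl⟩
  · intro hs
    set sm : Matrix ι ι F := (((s : ↥(Cfsg.isometryGroup F (⇑Q : (ι → F) → F))) : GL ι F) : Matrix ι ι F)
      with hsm
    have hfix : ∀ a b, ∃ y : F₀, j y = sm a b := by
      intro a b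
      rw [hj]
      have := congrArg (fun g : GL ι F => (g : Matrix ι ι F) a b) hs
      simp only [glMapEquiv_val, Matrix.map_apply] at this
      exact this
    choose H₀ hH₀ using hfix
    set Hm : Matrix ι ι F₀ := Matrix.of H₀ with hHm
    have hHmap : Hm.map ⇑j = sm := by
      ext a b
      rw [Matrix.map_apply, ← hH₀ a b]
      rfl
    have hdets : sm.det = 1 := by
      have h1 : isoDet (⇑Q : (ι → F) → F) (s : ↥(Cfsg.isometryGroup F (⇑Q : (ι → F) → F))) = 1 := s.2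
      have := congrArg Units.val h1
      rwa [isoDet_coe, Units.val_one] at this
    have hdetH : Hm.det = 1 := by
      apply j.injective
      rw [map_one, RingHom.map_det, RingHom.mapMatrix_apply, hHmap, hdets]
    set Hg : GL ι F₀ := Matrix.GeneralLinearGroup.mkOfDetNeZero Hm (by rw [hdetH]; exact one_ne_zero)
      with hHg
    have hHgval : (Hg : Matrix ι ι F₀) = Hm := rfl
    have hincl : inclI j Hg = ((s : ↥(Cfsg.isometryGroup F (⇑Q : (ι → F) → F))) : GL ι F) := by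
      apply Units.ext
      rw [inclI_val, hHgval, hHmap]
    have hHmem : Hg ∈ Cfsg.isometryGroup F₀ (⇑Q₀ : (ι → F₀) → F₀) := by
      rw [← inclI_mem_iso_iff j Q₀ Q hc h2, hincl]
      exact (s : ↥(Cfsg.isometryGroup F (⇑Q : (ι → F) → F))).2
    have hHSO : (⟨Hg, hHmem⟩ : ↥(Cfsg.isometryGroup F₀ (⇑Q₀ : (ι → F₀) → F₀))) ∈ SOg Q₀ := by
      show _ ∈ (isoDet (⇑Q₀ : (ι → F₀) → F₀)).ker
      rw [MonoidHom.mem_ker]
      apply Units.ext
      rw [isoDet_coe, Units.val_one]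
      exact hdetH
    refine ⟨⟨⟨Hg, hHmem⟩, hHSO⟩, ?_⟩
    apply Subtype.ext
    apply Subtype.ext
    rw [inclSO_coe]
    exact hincl

variable [Fintype F]

/-- the field automorphism applied to a special isometry. -/
theorem map_mem_SO (Q : QuadraticForm F (ι → F)) (hσc : FieldCompat (⇑Q : (ι → F) → F))
    (σ : RingAut F) (s : ↥(SOg Q)) :
    ∃ t : ↥(SOg Q), ((t : ↥(Cfsg.isometryGroup F (⇑Q : (ι → F) → F))) : GL ι F) =
      glMapEquiv σ ((s : ↥(Cfsg.isometryGroup F (⇑Q : (ι → F) → F))) : GL ι F) := by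
  have hmem : glMapEquiv σ ((s : ↥(Cfsg.isometryGroup F (⇑Q : (ι → F) → F))) : GL ι F) ∈
      Cfsg.isometryGroup F (⇑Q : (ι → F) → F) :=
    map_mem_iso hσc σ (s : ↥(Cfsg.isometryGroup F (⇑Q : (ι → F) → F))).2
  refine ⟨⟨⟨_, hmem⟩, ?_⟩, rfl⟩
  show _ ∈ (isoDet (⇑Q : (ι → F) → F)).ker
  rw [MonoidHom.mem_ker]
  apply Units.ext
  rw [isoDet_coe, Units.val_one]
  show ((glMapEquiv σ ((s : ↥(Cfsg.isometryGroup F (⇑Q : (ι → F) → F))) : GL ι F) : GL ι F) :
    Matrix ι ι F).det = 1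
  rw [glMapEquiv_val]
  have h1 : isoDet (⇑Q : (ι → F) → F) (s : ↥(Cfsg.isometryGroup F (⇑Q : (ι → F) → F))) = 1 := s.2
  have h3 := congrArg Units.val h1
  rw [isoDet_coe, Units.val_one] at h3
  have h4 : ((((s : ↥(Cfsg.isometryGroup F (⇑Q : (ι → F) → F))) : GL ι F) : Matrix ι ι F).map ⇑σ).det =
      σ ((((s : ↥(Cfsg.isometryGroup F (⇑Q : (ι → F) → F))) : GL ι F) : Matrix ι ι F).det) := by
    have := RingHom.map_det (σ : F →+* F)
      (((s : ↥(Cfsg.isometryGroup F (⇑Q : (ι → F) → F))) : GL ι F) : Matrix ι ι F)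
    rw [RingHom.mapMatrix_apply] at this
    exact this.symm
  rw [h4, h3, map_one]

/-- a special isometry commutes with the field automorphism iff it is fixed by it. -/
theorem PsiO_mem_centralizer (Q : QuadraticForm F (ι → F)) (h2 : (2 : F) ≠ 0)
    (hQ : (QuadraticMap.polarBilin Q).Nondegenerate) (hn : 4 ≤ Fintype.card ι) (m : ℕ)
    (hcard : Fintype.card ι = 2 * m + 1) (hσc : FieldCompat (⇑Q : (ι → F) → F))
    (σ : RingAut F) (s : ↥(SOg Q)) :
    PsiO Q s ∈ Subgroup.centralizer {fieldO (⇑Q : (ι → F) → F) hσc σ} ↔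
      glMapEquiv σ ((s : ↥(Cfsg.isometryGroup F (⇑Q : (ι → F) → F))) : GL ι F) =
        ((s : ↥(Cfsg.isometryGroup F (⇑Q : (ι → F) → F))) : GL ι F) := by
  obtain ⟨t, ht⟩ := map_mem_SO Q hσc σ s
  have hconj : fieldO (⇑Q : (ι → F) → F) hσc σ * PsiO Q s = PsiO Q t * fieldO (⇑Q : (ι → F) → F) hσc σ := by
    rw [PsiO_apply, PsiO_apply, fieldO_mul_cHom]
    congr 2
    apply Subtype.ext
    show glMapEquiv σ ((s : ↥(Cfsg.isometryGroup F (⇑Q : (ι → F) → F))) : GL ι F) =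
      ((t : ↥(Cfsg.isometryGroup F (⇑Q : (ι → F) → F))) : GL ι F)
    exact ht.symm
  rw [Subgroup.mem_centralizer_iff]
  constructor
  · intro h
    have h1 := h _ (Set.mem_singleton _)
    rw [hconj, mul_left_inj] at h1
    have h3 := PsiO_injective Q h2 hQ hn m hcard h1
    rw [← ht, h3]
  · intro h y hy
    rw [Set.mem_singleton_iff] at hy
    subst hy
    rw [hconj, mul_left_inj]
    congr 1
    apply Subtype.ext
    apply Subtype.ext
    rw [ht, h]

/-- the automorphisms induced by the special isometries over the subfield. -/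
noncomputable def LamO (j : F₀ →+* F) (Q₀ : QuadraticForm F₀ (ι → F₀))
    (Q : QuadraticForm F (ι → F)) (hc : BaseCompat j (⇑Q₀) (⇑Q)) (h2 : (2 : F) ≠ 0) :
    ↥(SOg Q₀) →* MulAut (Cfsg.POmega F (⇑Q : (ι → F) → F)) :=
  (PsiO Q).comp (inclSO j Q₀ Q hc h2)

theorem LamO_injective (j : F₀ →+* F) (Q₀ : QuadraticForm F₀ (ι → F₀))
    (Q : QuadraticForm F (ι → F)) (hc : BaseCompat j (⇑Q₀) (⇑Q)) (h2 : (2 : F) ≠ 0)
    (hQ : (QuadraticMap.polarBilin Q).Nondegenerate) (hn : 4 ≤ Fintype.card ι) (m : ℕ)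
    (hcard : Fintype.card ι = 2 * m + 1) : Function.Injective (LamO j Q₀ Q hc h2) :=
  (PsiO_injective Q h2 hQ hn m hcard).comp (inclSO_injective j Q₀ Q hc h2)

theorem LamO_range (j : F₀ →+* F) (Q₀ : QuadraticForm F₀ (ι → F₀))
    (Q : QuadraticForm F (ι → F)) (hc : BaseCompat j (⇑Q₀) (⇑Q)) (h2 : (2 : F) ≠ 0)
    (hQ : (QuadraticMap.polarBilin Q).Nondegenerate) (hn : 4 ≤ Fintype.card ι) (m : ℕ)
    (hcard : Fintype.card ι = 2 * m + 1) (hσc : FieldCompat (⇑Q : (ι → F) → F))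
    (σ : RingAut F) (hj : ∀ x, (∃ y, j y = x) ↔ σ x = x) :
    (LamO j Q₀ Q hc h2).range =
      (cHom (⇑Q : (ι → F) → F)).range ⊓
        Subgroup.centralizer {fieldO (⇑Q : (ι → F) → F) hσc σ} := by
  rw [← PsiO_range Q h2 hQ hn m hcard]
  ext y
  constructor
  · rintro ⟨H, rfl⟩
    refine ⟨⟨inclSO j Q₀ Q hc h2 H, rfl⟩, ?_⟩
    have : PsiO Q (inclSO j Q₀ Q hc h2 H) ∈
        Subgroup.centralizer {fieldO (⇑Q : (ι → F) → F) hσc σ} := by
      rw [PsiO_mem_centralizer Q h2 hQ hn m hcard hσc σ, ← inclSO_range j Q₀ Q hc h2 σ hj]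
      exact ⟨H, rfl⟩
    exact this
  · rintro ⟨⟨s, rfl⟩, hcen⟩
    have hcen' : PsiO Q s ∈ Subgroup.centralizer {fieldO (⇑Q : (ι → F) → F) hσc σ} := hcen
    rw [PsiO_mem_centralizer Q h2 hQ hn m hcard hσc σ, ← inclSO_range j Q₀ Q hc h2 σ hj] at hcen'
    obtain ⟨H, rfl⟩ := hcen'
    exact ⟨H, rfl⟩

/-- the centraliser of a field automorphism in the inner-diagonal group. -/
noncomputable def centFieldEquivO (j : F₀ →+* F) (Q₀ : QuadraticForm F₀ (ι → F₀))
    (Q : QuadraticForm F (ι → F)) (hc : BaseCompat j (⇑Q₀) (⇑Q)) (h2 : (2 : F) ≠ 0)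
    (hQ : (QuadraticMap.polarBilin Q).Nondegenerate) (hn : 4 ≤ Fintype.card ι) (m : ℕ)
    (hcard : Fintype.card ι = 2 * m + 1) (hσc : FieldCompat (⇑Q : (ι → F) → F))
    (σ : RingAut F) (hj : ∀ x, (∃ y, j y = x) ↔ σ x = x) :
    ↥((cHom (⇑Q : (ι → F) → F)).range ⊓
        Subgroup.centralizer {fieldO (⇑Q : (ι → F) → F) hσc σ}) ≃* ↥(SOg Q₀) :=
  ((MulEquiv.subgroupCongr (LamO_range j Q₀ Q hc h2 hQ hn m hcard hσc σ hj).symm).trans
    (MonoidHom.ofInjective (LamO_injective j Q₀ Q hc h2 hQ hn m hcard)).symm)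

/-- the inner-diagonal group is the special orthogonal group. -/
noncomputable def inndiagEquivSO (Q : QuadraticForm F (ι → F)) (h2 : (2 : F) ≠ 0)
    (hQ : (QuadraticMap.polarBilin Q).Nondegenerate) (hn : 4 ≤ Fintype.card ι) (m : ℕ)
    (hcard : Fintype.card ι = 2 * m + 1) :
    ↥((cHom (⇑Q : (ι → F) → F)).range) ≃* ↥(SOg Q) :=
  ((MulEquiv.subgroupCongr (PsiO_range Q h2 hQ hn m hcard).symm).trans
    (MonoidHom.ofInjective (PsiO_injective Q h2 hQ hn m hcard)).symm)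

end Cfsg.Agent.Lib.Helper16.OL
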