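import Mathlib
import Cfsg.Agent.Lib.Helper16.OL7

set_option autoImplicit false
set_option linter.unusedSectionVars false
set_option linter.unusedVariables false

/-! Lang-type results for orthogonal groups, part 8: squares under base change. -/

namespace Cfsg.Agent.Lib.Helper16.OL

open Matrix Cfsg.Agent.Lib.Lead.OA Cfsg.Agent.Lib.Helper16 Cfsg.Agent.Lib.Helper16.OA

universe u v

variable {F : Type u} [Field F] {F₀ : Type v} [Field F₀] [Fintype F] [Fintype F₀]

theorem ringChar_ne_two_of (h2 : (2 : F) ≠ 0) : ringChar F ≠ 2 := by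
  intro h
  have : CharP F 2 := ringChar.of_eq h
  exact h2 (CharTwo.two_eq_zero)

theorem two_ne_zero_base (j : F₀ →+* F) (h2 : (2 : F) ≠ 0) : (2 : F₀) ≠ 0 := by
  intro h0
  apply h2
  have := congrArg j h0
  rwa [map_ofNat, map_zero] at this

theorem card_odd_of (h2 : (2 : F) ≠ 0) : Fintype.card F % 2 = 1 :=
  FiniteField.odd_card_of_char_ne_two (ringChar_ne_two_of h2)

/-- elements of the subfield of index two are squares. -/
theorem isSquare_base_of_sq (j : F₀ →+* F) (h2 : (2 : F) ≠ 0)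
    (hcard : Fintype.card F = Fintype.card F₀ ^ 2) (y : F₀) (hy : y ≠ 0) : IsSquare (j y) := by
  have hjy : j y ≠ 0 := (map_ne_zero j).mpr hy
  rw [FiniteField.isSquare_iff (ringChar_ne_two_of h2) hjy, hcard]
  have hq := card_odd_of (two_ne_zero_base j h2)
  set q := Fintype.card F₀ with hqdef
  obtain ⟨t, ht⟩ : ∃ t, q = 2 * t + 1 := ⟨q / 2, by omega⟩
  have h1 : q ^ 2 / 2 = (q - 1) * (t + 1) := by
    rw [ht]
    have : (2 * t + 1) ^ 2 = 2 * (2 * t * (t + 1)) + 1 := by ring
    rw [this]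
    have h3 : (2 * (2 * t * (t + 1)) + 1) / 2 = 2 * t * (t + 1) := by omega
    rw [h3]
    congr 1
  rw [h1, pow_mul, ← map_pow, FiniteField.pow_card_sub_one_eq_one y hy, map_one, one_pow]

theorem geom_parity (q : ℕ) (hq : q % 2 = 1) (r : ℕ) :
    (∑ i ∈ Finset.range r, q ^ i) % 2 = r % 2 := by
  induction r with
  | zero => simp
  | succ r ih =>
    rw [Finset.sum_range_succ]
    have h1 : q ^ r % 2 = 1 := by
      rw [Nat.pow_mod, hq, one_pow]; rfl
    omega

/-- non-squares stay non-squares in extensions of odd degree. -/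
theorem not_isSquare_base_of_odd (j : F₀ →+* F) (h2 : (2 : F) ≠ 0) (r : ℕ) (hr : Odd r)
    (hcard : Fintype.card F = Fintype.card F₀ ^ r) (y : F₀) (hy0 : y ≠ 0) (hy : ¬ IsSquare y) :
    ¬ IsSquare (j y) := by
  have hjy : j y ≠ 0 := (map_ne_zero j).mpr hy0
  have h2' := two_ne_zero_base j h2
  rw [FiniteField.isSquare_iff (ringChar_ne_two_of h2) hjy, hcard]
  have hq := card_odd_of h2'
  set q := Fintype.card F₀ with hqdef
  have hy1 : y ^ (q / 2) = -1 := by
    rcases FiniteField.pow_dichotomy (ringChar_ne_two_of h2') hy0 with h | h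
    · exact absurd ((FiniteField.isSquare_iff (ringChar_ne_two_of h2') hy0).mpr h) hy
    · exact h
  obtain ⟨t, ht⟩ : ∃ t, q = 2 * t + 1 := ⟨q / 2, by omega⟩
  have hq2 : 2 ≤ q := by
    have : 1 < Fintype.card F₀ := Fintype.one_lt_card
    omega
  set N := ∑ i ∈ Finset.range r, q ^ i with hN
  have hgeo : q ^ r = (q - 1) * N + 1 := by
    have h3 := Nat.geomSum_eq hq2 r
    have h4 : (q - 1) ∣ q ^ r - 1 := by
      have := Nat.sub_dvd_pow_sub_pow q 1 r
      rwa [one_pow] at this
    have h5 : 1 ≤ q ^ r := Nat.one_le_pow _ _ (by omega)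
    rw [hN, h3, Nat.mul_div_cancel' h4]
    omega
  have h1 : q ^ r / 2 = (q / 2) * N := by
    rw [hgeo]
    have h6 : q - 1 = 2 * t := by omega
    have h7 : q / 2 = t := by omega
    rw [h6, h7, mul_assoc]
    omega
  have hNodd : N % 2 = 1 := by
    rw [hN, geom_parity q hq r]
    rcases hr with ⟨k, hk⟩
    omega
  rw [h1, pow_mul, ← map_pow, hy1, map_neg, map_one]
  have hodd : Odd N := Nat.odd_iff.mpr hNodd
  rw [hodd.neg_one_pow]
  intro h
  apply h2
  have : (2 : F) = 1 - (-1) := by ring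
  rw [this, h]
  ring

end Cfsg.Agent.Lib.Helper16.OL
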