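import Mathlib
import Cfsg.Agent.Lib.Helper16.OL8
import Cfsg.Agent.Lib.Helper16.SC3

set_option autoImplicit false
set_option linter.unusedSectionVars false
set_option linter.unusedVariables false

/-! Lang-type results for orthogonal groups, part 9: the class of a field automorphism of
`Ω_{2m+1}(q)` under `Inndiag` and `Inn`. -/

namespace Cfsg.Agent.Lib.Helper16.OL

open Matrix Cfsg.Agent.Lib.Lead.OA Cfsg.Agent.Lib.Helper16 Cfsg.Agent.Lib.Helper16.OA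

universe u v

variable {ι : Type} [Fintype ι] [DecidableEq ι] {F : Type u} [Field F] {F₀ : Type v} [Field F₀]
  [Fintype F] [Fintype F₀]

theorem sqSign_of_not {x : F} (hx : ¬ IsSquare x) : sqSign x = -1 := by
  rcases Int.units_eq_one_or (sqSign x) with h | h
  · exact absurd ((sqSign_eq_one_iff _).mp h) hx
  · exact h

/-- the spinor character on base-changed products of reflections. -/
theorem chi_incl_prod (j : F₀ →+* F) (Q₀ : QuadraticForm F₀ (ι → F₀))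
    (Q : QuadraticForm F (ι → F)) (hc : BaseCompat j (⇑Q₀) (⇑Q)) (h2 : (2 : F) ≠ 0)
    (χ : ↥(Cfsg.isometryGroup F (⇑Q : (ι → F) → F)) →* ℤˣ) (κ : ℤˣ)
    (hχ : ∀ (v : ι → F) (hv : Q v ≠ 0), χ (reflG Q v hv) = κ * sqSign (Q v))
    (vs : List (ι → F₀)) (hvs : ∀ v ∈ vs, Q₀ v ≠ 0) :
    χ (inclIso j Q₀ Q hc h2 (vs.map (reflG' Q₀)).prod) =
      κ ^ vs.length * sqSign (j (vs.map (fun v => Q₀ v)).prod) := by
  induction vs with
  | nil => simp [(sqSign_eq_one_iff (1 : F)).mpr ⟨1, by simp⟩]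
  | cons v vs ih =>
    have hv := hvs v List.mem_cons_self
    have hvs' : ∀ w ∈ vs, Q₀ w ≠ 0 := fun w hw => hvs w (List.mem_cons_of_mem _ hw)
    have hv' : Q (fun i => j (v i)) ≠ 0 := by
      rw [hc v]; exact (map_ne_zero j).mpr hv
    rw [List.map_cons, List.prod_cons, map_mul, map_mul, ih hvs', reflG'_eq Q₀ v hv,
      inclIso_reflG j Q₀ Q hc h2 v hv hv', hχ _ hv', hc v, List.map_cons, List.prod_cons, map_mul,
      sqSign_mul ((map_ne_zero j).mpr hv) ((map_ne_zero j).mpr (prod_Q_ne_zero Q₀ vs hvs')),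
      List.length_cons, pow_succ]
    rw [mul_mul_mul_comm, mul_comm κ]

/-- membership in `Inn` of the image of a special isometry is detected by the spinor character. -/
theorem comap_Inn_PsiO (Q : QuadraticForm F (ι → F)) (h2 : (2 : F) ≠ 0)
    (hQ : (QuadraticMap.polarBilin Q).Nondegenerate) (hn : 4 ≤ Fintype.card ι) (m : ℕ)
    (hcard : Fintype.card ι = 2 * m + 1)
    (χ : ↥(Cfsg.isometryGroup F (⇑Q : (ι → F) → F)) →* ℤˣ) (κ : ℤˣ)
    (hχ : ∀ (v : ι → F) (hv : Q v ≠ 0), χ (reflG Q v hv) = κ * sqSign (Q v)) :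
    (Cfsg.Inn (Cfsg.POmega F (⇑Q : (ι → F) → F))).comap (PsiO Q) =
      (⊥ : Subgroup ℤˣ).comap (χ.comp (SOg Q).subtype) := by
  ext s
  rw [Subgroup.mem_comap, Subgroup.mem_comap, Subgroup.mem_bot, inn_eq']
  constructor
  · rintro ⟨t, ht, hts⟩
    have htSO : t ∈ SOg Q := omega_le_ker (⇑Q : (ι → F) → F) _ ht
    have h1 : PsiO Q ⟨t, htSO⟩ = PsiO Q s := hts
    have h3 := PsiO_injective Q h2 hQ hn m hcard h1
    have h4 : (s : ↥(Cfsg.isometryGroup F (⇑Q : (ι → F) → F))) ∈ Cfsg.Omega F (⇑Q : (ι → F) → F) := by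
      rw [← h3]; exact ht
    exact omega_le_ker (⇑Q : (ι → F) → F) χ h4
  · intro h
    refine ⟨s.1, ?_, rfl⟩
    exact (mem_omega_iff' Q h2 hQ χ κ hχ s.1).mpr ⟨s.2, h⟩

theorem exists_chi_neg (Q : QuadraticForm F (ι → F)) (h2 : (2 : F) ≠ 0)
    (hQ : (QuadraticMap.polarBilin Q).Nondegenerate) (hn : 4 ≤ Fintype.card ι)
    (χ : ↥(Cfsg.isometryGroup F (⇑Q : (ι → F) → F)) →* ℤˣ) (κ : ℤˣ)
    (hχ : ∀ (v : ι → F) (hv : Q v ≠ 0), χ (reflG Q v hv) = κ * sqSign (Q v)) :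
    ∃ s : ↥(SOg Q), χ s.1 = -1 := by
  obtain ⟨δ, hδ0, hδ⟩ := Cfsg.Agent.Lib.Lead.OI.exists_nonsquare (F := F) h2
  obtain ⟨v, hv⟩ := exists_norm Q h2 hQ hn 1 one_ne_zero
  obtain ⟨w, hw⟩ := exists_norm Q h2 hQ hn δ hδ0
  have hv0 : Q v ≠ 0 := by rw [hv]; exact one_ne_zero
  have hw0 : Q w ≠ 0 := by rw [hw]; exact hδ0
  have hsq1 : sqSign (1 : F) = 1 := (sqSign_eq_one_iff _).mpr ⟨1, by simp⟩
  have hsqδ : sqSign δ = -1 := sqSign_of_not hδ
  refine ⟨⟨reflG Q v hv0 * reflG Q w hw0, ?_⟩, ?_⟩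
  · show _ ∈ (isoDet (⇑Q : (ι → F) → F)).ker
    rw [MonoidHom.mem_ker, map_mul, isoDet_reflG, isoDet_reflG]; simp
  · show χ (reflG Q v hv0 * reflG Q w hw0) = -1
    rw [map_mul, hχ, hχ, hv, hw, hsq1, hsqδ, mul_one, mul_neg, mul_neg, mul_one, Int.units_mul_self]

theorem chi_SO_surjective (Q : QuadraticForm F (ι → F)) (h2 : (2 : F) ≠ 0)
    (hQ : (QuadraticMap.polarBilin Q).Nondegenerate) (hn : 4 ≤ Fintype.card ι)
    (χ : ↥(Cfsg.isometryGroup F (⇑Q : (ι → F) → F)) →* ℤˣ) (κ : ℤˣ)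
    (hχ : ∀ (v : ι → F) (hv : Q v ≠ 0), χ (reflG Q v hv) = κ * sqSign (Q v)) :
    Function.Surjective (χ.comp (SOg Q).subtype) := by
  intro z
  rcases Int.units_eq_one_or z with h | h
  · exact ⟨1, by rw [map_one, h]⟩
  · obtain ⟨s, hs⟩ := exists_chi_neg Q h2 hQ hn χ κ hχ
    exact ⟨s, by rw [h]; exact hs⟩

/-- the split class count of a field automorphism, in terms of the spinor character. -/
theorem splitClassCount_fieldO_eq (j : F₀ →+* F) (Q₀ : QuadraticForm F₀ (ι → F₀))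
    (Q : QuadraticForm F (ι → F)) (hc : BaseCompat j (⇑Q₀) (⇑Q)) (h2 : (2 : F) ≠ 0)
    (hQ : (QuadraticMap.polarBilin Q).Nondegenerate) (hn : 4 ≤ Fintype.card ι) (m : ℕ)
    (hcard : Fintype.card ι = 2 * m + 1) (hσc : FieldCompat (⇑Q : (ι → F) → F))
    (σ : RingAut F) (hj : ∀ x, (∃ y, j y = x) ↔ σ x = x)
    (χ : ↥(Cfsg.isometryGroup F (⇑Q : (ι → F) → F)) →* ℤˣ) (κ : ℤˣ)
    (hχ : ∀ (v : ι → F) (hv : Q v ≠ 0), χ (reflG Q v hv) = κ * sqSign (Q v)) :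
    Cfsg.splitClassCount (cHom (⇑Q : (ι → F) → F)).range
        (Cfsg.Inn (Cfsg.POmega F (⇑Q : (ι → F) → F))) (fieldO (⇑Q : (ι → F) → F) hσc σ) =
      ((inclSO j Q₀ Q hc h2).range.map (χ.comp (SOg Q).subtype)).index := by
  have hInnN : (Cfsg.Inn (Cfsg.POmega F (⇑Q : (ι → F) → F))).Normal := inn_normal _
  have hIP : Cfsg.Inn (Cfsg.POmega F (⇑Q : (ι → F) → F)) ≤ (PsiO Q).range := by
    rw [PsiO_range Q h2 hQ hn m hcard, inn_eq']
    rintro _ ⟨s, -, rfl⟩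
    exact ⟨_, rfl⟩
  rw [← PsiO_range Q h2 hQ hn m hcard,
    SC.splitClassCount_via_hom (PsiO Q) (χ.comp (SOg Q).subtype)
      (chi_SO_surjective Q h2 hQ hn χ κ hχ) ⊥ _ hIP
      (comap_Inn_PsiO Q h2 hQ hn m hcard χ κ hχ), bot_sup_eq]
  congr 2
  ext s
  rw [Subgroup.mem_comap, PsiO_mem_centralizer Q h2 hQ hn m hcard hσc σ,
    ← inclSO_range j Q₀ Q hc h2 σ hj, MonoidHom.mem_range]

end Cfsg.Agent.Lib.Helper16.OL
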