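import Mathlib
import Cfsg.Agent.Lib.Helper16.OL9

set_option autoImplicit false
set_option linter.unusedSectionVars false
set_option linter.unusedVariables false

/-! Lang-type results for orthogonal groups, part 10: S2714. -/

namespace Cfsg.Agent.Lib.Helper16.OL

open Matrix Cfsg.Agent.Lib.Lead.OA Cfsg.Agent.Lib.Helper16 Cfsg.Agent.Lib.Helper16.OA
  Cfsg.Agent.Lib.Helper16.AP

universe u v

section gen
variable {ι : Type} [Fintype ι] [DecidableEq ι] {F : Type u} [Field F] {F₀ : Type v} [Field F₀]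
  [Fintype F] [Fintype F₀]

theorem index_chi_odd (j : F₀ →+* F) (Q₀ : QuadraticForm F₀ (ι → F₀))
    (Q : QuadraticForm F (ι → F)) (hc : BaseCompat j (⇑Q₀) (⇑Q)) (h2 : (2 : F) ≠ 0)
    (hQ₀ : (QuadraticMap.polarBilin Q₀).Nondegenerate) (hn : 4 ≤ Fintype.card ι)
    (χ : ↥(Cfsg.isometryGroup F (⇑Q : (ι → F) → F)) →* ℤˣ) (κ : ℤˣ)
    (hχ : ∀ (v : ι → F) (hv : Q v ≠ 0), χ (reflG Q v hv) = κ * sqSign (Q v))
    (r : ℕ) (hr : Odd r) (hcardF : Fintype.card F = Fintype.card F₀ ^ r) :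
    ((inclSO j Q₀ Q hc h2).range.map (χ.comp (SOg Q).subtype)).index = 1 := by
  have h2' := two_ne_zero_base j h2
  obtain ⟨y, hy0, hy⟩ := Cfsg.Agent.Lib.Lead.OI.exists_nonsquare (F := F₀) h2'
  have hjy := not_isSquare_base_of_odd j h2 r hr hcardF y hy0 hy
  obtain ⟨u, hu⟩ := exists_norm Q₀ h2' hQ₀ hn 1 one_ne_zero
  obtain ⟨w, hw⟩ := exists_norm Q₀ h2' hQ₀ hn y hy0
  have hu0 : Q₀ u ≠ 0 := by rw [hu]; exact one_ne_zero
  have hw0 : Q₀ w ≠ 0 := by rw [hw]; exact hy0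
  have hvs : ∀ v ∈ [u, w], Q₀ v ≠ 0 := by
    intro v hv
    simp only [List.mem_cons, List.not_mem_nil, or_false] at hv
    rcases hv with rfl | rfl
    · exact hu0
    · exact hw0
  have hprod := chi_incl_prod j Q₀ Q hc h2 χ κ hχ [u, w] hvs
  have hdet : isoDet (⇑Q₀ : (ι → F₀) → F₀) ([u, w].map (reflG' Q₀)).prod = 1 := by
    rw [isoDet_prod Q₀ [u, w] hvs]; simp
  set s₀ : ↥(SOg Q₀) := ⟨([u, w].map (reflG' Q₀)).prod, hdet⟩ with hs₀
  have hχs : (χ.comp (SOg Q).subtype) (inclSO j Q₀ Q hc h2 s₀) = -1 := by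
    show χ (inclIso j Q₀ Q hc h2 ([u, w].map (reflG' Q₀)).prod) = -1
    rw [hprod]
    simp only [List.length_cons, List.length_nil, List.map_cons, List.map_nil, List.prod_cons,
      List.prod_nil, hu, hw, one_mul, mul_one]
    rw [sqSign_of_not hjy]
    have : κ ^ (0 + 1 + 1) = 1 := by
      rw [pow_succ, pow_succ, pow_zero, one_mul, Int.units_mul_self]
    rw [this, one_mul]
  rw [Subgroup.index_eq_one, eq_top_iff]
  intro z _
  rcases Int.units_eq_one_or z with h | h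
  · rw [h]; exact one_mem _
  · rw [h, ← hχs]
    exact Subgroup.mem_map_of_mem _ ⟨s₀, rfl⟩

theorem index_chi_two (j : F₀ →+* F) (Q₀ : QuadraticForm F₀ (ι → F₀))
    (Q : QuadraticForm F (ι → F)) (hc : BaseCompat j (⇑Q₀) (⇑Q)) (h2 : (2 : F) ≠ 0)
    (hQ₀ : (QuadraticMap.polarBilin Q₀).Nondegenerate)
    (χ : ↥(Cfsg.isometryGroup F (⇑Q : (ι → F) → F)) →* ℤˣ) (κ : ℤˣ)
    (hχ : ∀ (v : ι → F) (hv : Q v ≠ 0), χ (reflG Q v hv) = κ * sqSign (Q v))
    (hcardF : Fintype.card F = Fintype.card F₀ ^ 2) :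
    ((inclSO j Q₀ Q hc h2).range.map (χ.comp (SOg Q).subtype)).index = 2 := by
  have h2' := two_ne_zero_base j h2
  have hbot : (inclSO j Q₀ Q hc h2).range.map (χ.comp (SOg Q).subtype) = ⊥ := by
    rw [eq_bot_iff]
    rintro _ ⟨_, ⟨s, rfl⟩, rfl⟩
    rw [Subgroup.mem_bot]
    show χ (inclIso j Q₀ Q hc h2 s.1) = 1
    obtain ⟨vs, hvs, hs⟩ := exists_list' Q₀ h2' hQ₀ s.1
    have hdet : isoDet (⇑Q₀ : (ι → F₀) → F₀) s.1 = 1 := s.2
    rw [hs, isoDet_prod Q₀ vs hvs] at hdet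
    have heven : Even vs.length :=
      (neg_one_pow_eq_one_iff_even (neg_one_ne_one h2')).mp hdet
    rw [hs, chi_incl_prod j Q₀ Q hc h2 χ κ hχ vs hvs]
    obtain ⟨k, hk⟩ := heven
    have hκ : κ ^ vs.length = 1 := by
      rw [hk, ← two_mul, pow_mul, pow_two, Int.units_mul_self, one_pow]
    rw [hκ, one_mul, sqSign_eq_one_iff]
    exact isSquare_base_of_sq j h2 hcardF _ (prod_Q_ne_zero Q₀ vs hvs)
  rw [hbot, Subgroup.index_bot]
  simp

end gen

section main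
variable {ι : Type} [Fintype ι] [DecidableEq ι] {F : Type u} [Field F] [Fintype F]

theorem baseCompat_odd {F₀ : Type v} [Field F₀] (j : F₀ →+* F) (m : ℕ) :
    BaseCompat j (Cfsg.quadFormOdd m F₀) (Cfsg.quadFormOdd m F) := by
  intro v
  unfold Cfsg.quadFormOdd
  simp only [map_add, map_sum, map_mul, map_pow]

theorem field_cent_split {F₀ : Type v} [Field F₀] [Fintype F₀] (Q : QuadraticForm F (ι → F))
    (Q₀ : QuadraticForm F₀ (ι → F₀)) (h2 : (2 : F) ≠ 0)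
    (hQ : (QuadraticMap.polarBilin Q).Nondegenerate) (hn : 7 ≤ Fintype.card ι)
    (hT : 9 ≤ Fintype.card ι ∨ Fintype.card ι ≤ 7 ∨
      ∀ U : Submodule F (ι → F), (∀ u ∈ U, Q u = 0) → Module.finrank F U ≤ 3)
    (hσc : FieldCompat (⇑Q : (ι → F) → F)) (m : ℕ) (hcard : Fintype.card ι = 2 * m + 1)
    (hQ₀ : (QuadraticMap.polarBilin Q₀).Nondegenerate)
    (hcompat : ∀ j : F₀ →+* F, BaseCompat j (⇑Q₀ : (ι → F₀) → F₀) (⇑Q : (ι → F) → F))
    {p f : ℕ} [Fact p.Prime] (hF : Fintype.card F = p ^ f)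
    (x : MulAut (Cfsg.POmega F (⇑Q : (ι → F) → F)))
    (hx : Cfsg.IsFieldAutClassPOmega (⇑Q : (ι → F) → F) x) {r : ℕ} (hr : r.Prime)
    (hxr : orderOf x = r) (hF₀ : Fintype.card F₀ = p ^ (f / r)) :
    r ∣ f ∧ Nonempty (↥((cHom (⇑Q : (ι → F) → F)).range ⊓ Subgroup.centralizer {x}) ≃*
        ↥((cHom (⇑Q₀ : (ι → F₀) → F₀)).range)) ∧
      (Odd r → Cfsg.splitClassCount (cHom (⇑Q : (ι → F) → F)).range
        (Cfsg.Inn (Cfsg.POmega F (⇑Q : (ι → F) → F))) x = 1) ∧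
      (r = 2 → Cfsg.splitClassCount (cHom (⇑Q : (ι → F) → F)).range
        (Cfsg.Inn (Cfsg.POmega F (⇑Q : (ι → F) → F))) x = 2) := by
  have hn4 : 4 ≤ Fintype.card ι := by omega
  have hN : ((cHom (⇑Q : (ι → F) → F)).range).Normal := pgo_normal Q hQ hn hT hσc
  have hInnN : (Cfsg.Inn (Cfsg.POmega F (⇑Q : (ι → F) → F))).Normal := inn_normal _
  have hIP : Cfsg.Inn (Cfsg.POmega F (⇑Q : (ι → F) → F)) ≤ (cHom (⇑Q : (ι → F) → F)).range := by
    rw [inn_eq']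
    rintro _ ⟨s, -, rfl⟩
    exact ⟨_, rfl⟩
  obtain ⟨α, φ, σ, hσ, hstd, hconj⟩ := hx
  have hx₀ : α * x * α⁻¹ = fieldO (⇑Q : (ι → F) → F) hσc σ := by
    rw [hconj]; exact (isFieldAut_iff _ hσc σ φ).mp hstd
  have hord : orderOf (σ : RingAut F) = r := by
    rw [← orderOf_fieldO Q hQ hn hσc, ← hx₀, AF.orderOf_conj_eq, hxr]
  obtain ⟨-, hcardG⟩ := galF_cyclic_card hF
  have hrf : r ∣ f := by
    have := orderOf_dvd_natCard (σ : RingAut F)
    rwa [hord, hcardG] at this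
  set F₀' : Subfield F := FixedPoints.subfield (Subgroup.zpowers σ) F with hF₀'def
  have hmem : ∀ y, y ∈ F₀' ↔ σ y = y := fun y => Cfsg.Agent.Lib.Helper16.mem_fixed_iff σ y
  have hF' : Fintype.card F = (p ^ (f / r)) ^ r := by
    rw [hF, ← pow_mul, Nat.div_mul_cancel hrf]
  have hcard' : Nat.card F₀' = p ^ (f / r) := Cfsg.Agent.Lib.Helper16.fixed_card hr hF' σ hord
  have : Fintype F₀' := Fintype.ofFinite _
  have hcc : Fintype.card F₀ = Fintype.card F₀' := by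
    rw [← Nat.card_eq_fintype_card (α := F₀'), hcard', hF₀]
  have e₀ : F₀ ≃+* F₀' := FiniteField.ringEquivOfCardEq hcc
  set j : F₀ →+* F := F₀'.subtype.comp e₀.toRingHom with hjdef
  have hj : ∀ y, (∃ z, j z = y) ↔ (σ : RingAut F) y = y := by
    intro y
    constructor
    · rintro ⟨z, rfl⟩
      exact (hmem _).mp (e₀ z).2
    · intro hy
      refine ⟨e₀.symm ⟨y, (hmem y).mpr hy⟩, ?_⟩
      show ((e₀ (e₀.symm ⟨y, (hmem y).mpr hy⟩) : F₀') : F) = y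
      rw [RingEquiv.apply_symm_apply]
  have h2' : (2 : F₀) ≠ 0 := two_ne_zero_base j h2
  have hc := hcompat j
  have hcardFF : Fintype.card F = Fintype.card F₀ ^ r := by rw [hF₀]; exact hF'
  obtain ⟨χ, κ, hχ⟩ := spin_char_formula h2 Q
  have hcount := splitClassCount_fieldO_eq j Q₀ Q hc h2 hQ hn4 m hcard hσc σ hj χ κ hχ
  refine ⟨hrf, ?_, ?_, ?_⟩
  · have e₁ := SC.centralizerConjEquiv (cHom (⇑Q : (ι → F) → F)).range α x
    rw [hx₀] at e₁
    exact ⟨(e₁.trans (centFieldEquivO j Q₀ Q hc h2 hQ hn4 m hcard hσc σ hj)).trans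
      (inndiagEquivSO Q₀ h2' hQ₀ hn4 m hcard).symm⟩
  · intro hro
    rw [← SC.splitClassCount_conj _ _ hIP α x, hx₀, hcount]
    exact index_chi_odd j Q₀ Q hc h2 hQ₀ hn4 χ κ hχ r hro hcardFF
  · intro hr2
    rw [← SC.splitClassCount_conj _ _ hIP α x, hx₀, hcount]
    rw [hr2] at hcardFF
    exact index_chi_two j Q₀ Q hc h2 hQ₀ χ κ hχ hcardFF

theorem S2714_aux {p f : ℕ} [Fact p.Prime] (hF : Fintype.card F = p ^ f) (hf : 1 ≤ f)
    (hodd : Odd (Fintype.card F)) {m : ℕ} (hm : 3 ≤ m)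
    (x : MulAut (Cfsg.POmega F (Cfsg.quadFormOdd m F)))
    (hx : Cfsg.IsFieldAutClassPOmega (Cfsg.quadFormOdd m F) x) {r : ℕ} (hr : r.Prime)
    (hxr : orderOf x = r) (F₀ : Type v) [Field F₀] [Fintype F₀]
    (hF₀ : Fintype.card F₀ = p ^ (f / r)) :
    r ∣ f ∧ Nonempty (↥(Cfsg.inndiagPOmegaOdd m F ⊓ Subgroup.centralizer {x}) ≃*
        ↥(Cfsg.inndiagPOmegaOdd m F₀)) ∧
      (Odd r → Cfsg.splitClassCount (Cfsg.inndiagPOmegaOdd m F)
        (Cfsg.Inn (Cfsg.POmega F (Cfsg.quadFormOdd m F))) x = 1) ∧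
      (r = 2 → Cfsg.splitClassCount (Cfsg.inndiagPOmegaOdd m F)
        (Cfsg.Inn (Cfsg.POmega F (Cfsg.quadFormOdd m F))) x = 2) := by
  have h2 : (2 : F) ≠ 0 := two_ne_zero_of_odd_card hodd
  have hcard : Fintype.card (Unit ⊕ (Fin m ⊕ Fin m)) = 2 * m + 1 := by
    simp; ring
  have hQ := qfOdd_nondeg (F := F) m h2
  have hn : 7 ≤ Fintype.card (Unit ⊕ (Fin m ⊕ Fin m)) := by rw [hcard]; omega
  have hT : 9 ≤ Fintype.card (Unit ⊕ (Fin m ⊕ Fin m)) ∨
      Fintype.card (Unit ⊕ (Fin m ⊕ Fin m)) ≤ 7 ∨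
      ∀ U : Submodule F (Unit ⊕ (Fin m ⊕ Fin m) → F), (∀ u ∈ U, qfOdd m F u = 0) →
        Module.finrank F U ≤ 3 := by
    rw [hcard]
    by_cases h : 4 ≤ m
    · left; omega
    · right; left; omega
  have hσc : FieldCompat (⇑(qfOdd m F) : (Unit ⊕ (Fin m ⊕ Fin m) → F) → F) := by
    rw [qfOdd_coe]
    exact fieldCompat_odd m
  have hinn : Cfsg.inndiagPOmegaOdd m F = (cHom (Cfsg.quadFormOdd m F)).range :=
    pgoAut_eq (Cfsg.quadFormOdd m F)
  have hinn₀ : Cfsg.inndiagPOmegaOdd m F₀ = (cHom (Cfsg.quadFormOdd m F₀)).range :=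
    pgoAut_eq (Cfsg.quadFormOdd m F₀)
  have h2' : (2 : F₀) ≠ 0 := by
    have hp : ((p : ℕ) : F₀) = 0 := by
      have : CharP F₀ p := by
        have hfr : f / r ≠ 0 := by
          intro h0
          rw [h0, pow_zero] at hF₀
          have : 1 < Fintype.card F₀ := Fintype.one_lt_card
          omega
        exact charP_of_card_eq_prime_pow hF₀
      exact CharP.cast_eq_zero F₀ p
    have hpF : ((p : ℕ) : F) = 0 := by
      have : CharP F p := charP_of_card_eq_prime_pow hF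
      exact CharP.cast_eq_zero F p
    intro h0
    have h20 : ((2 : ℕ) : F₀) = 0 := by exact_mod_cast h0
    have hch : CharP F₀ p := by
      have hfr : f / r ≠ 0 := by
        intro h0
        rw [h0, pow_zero] at hF₀
        have : 1 < Fintype.card F₀ := Fintype.one_lt_card
        omega
      exact charP_of_card_eq_prime_pow hF₀
    have hd : p ∣ 2 := (CharP.cast_eq_zero_iff F₀ p 2).mp h20
    have hp2 : p = 2 := (Nat.prime_dvd_prime_iff_eq (Fact.out) Nat.prime_two).mp hd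
    apply h2
    rw [hp2] at hpF
    exact_mod_cast hpF
  have hQ₀ := qfOdd_nondeg (F := F₀) m h2'
  have hcompat : ∀ j : F₀ →+* F, BaseCompat j (⇑(qfOdd m F₀) : (Unit ⊕ (Fin m ⊕ Fin m) → F₀) → F₀)
      (⇑(qfOdd m F) : (Unit ⊕ (Fin m ⊕ Fin m) → F) → F) := by
    intro j
    rw [qfOdd_coe, qfOdd_coe]
    exact baseCompat_odd j m
  rw [hinn, hinn₀]
  exact field_cent_split (qfOdd m F) (qfOdd m F₀) h2 hQ hn hT hσc m hcard hQ₀ hcompat hF x hx hr
    hxr hF₀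

end main

end Cfsg.Agent.Lib.Helper16.OL
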