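import Mathlib
import Cfsg.Agent.Lib.Helper16.OL10

set_option autoImplicit false
set_option linter.unusedSectionVars false
set_option linter.unusedVariables false

/-! Lang-type results for orthogonal groups, part 11: trace rigidity. -/

namespace Cfsg.Agent.Lib.Helper16.OL

open Matrix Cfsg.Agent.Lib.Lead.OA Cfsg.Agent.Lib.Helper16 Cfsg.Agent.Lib.Helper16.OA
  Cfsg.Agent.Lib.helper6

universe u v

variable {ι : Type} [Fintype ι] [DecidableEq ι] {F : Type u} [Field F] {F₀ : Type v} [Field F₀]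

/-- the trace of a product of two reflections. -/
theorem trace_refl_mul (Q : QuadraticForm F (ι → F)) (u v : ι → F) :
    (Cfsg.reflectionMatrix (⇑Q : (ι → F) → F) u * Cfsg.reflectionMatrix (⇑Q : (ι → F) → F) v).trace =
      (Fintype.card ι : F) - (Q u)⁻¹ * (2 * Q u) - (Q v)⁻¹ * (2 * Q v) +
        (Q u)⁻¹ * (Q v)⁻¹ * (QuadraticMap.polar (⇑Q) u v) ^ 2 := by
  unfold Cfsg.reflectionMatrix
  rw [Matrix.sub_mul, Matrix.mul_sub, Matrix.mul_sub, Matrix.one_mul, Matrix.mul_one, Matrix.one_mul,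
    Matrix.smul_mul, Matrix.mul_smul, Matrix.vecMulVec_mul_vecMulVec]
  simp only [Matrix.trace_sub, Matrix.trace_smul, Matrix.trace_one, Matrix.trace_vecMulVec,
    smul_eq_mul, dotProduct_smul]
  have h1 : ∀ a b : ι → F, a ⬝ᵥ Cfsg.polarVec (⇑Q : (ι → F) → F) b = QuadraticMap.polar (⇑Q) b a := by
    intro a b
    rw [dotProduct_comm, polarVec_dotProduct]
  rw [h1, h1, h1, polarVec_dotProduct, QuadraticMap.polar_self, QuadraticMap.polar_self,
    QuadraticMap.polar_comm (⇑Q) v u]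
  ring

theorem trace_refl_mul' (Q : QuadraticForm F (ι → F)) (u v : ι → F) (hu : Q u ≠ 0)
    (hv : Q v = Q u) (z : F) (hp : QuadraticMap.polar (⇑Q) u v = z * Q u) :
    (Cfsg.reflectionMatrix (⇑Q : (ι → F) → F) u * Cfsg.reflectionMatrix (⇑Q : (ι → F) → F) v).trace =
      (Fintype.card ι : F) - 4 + z ^ 2 := by
  rw [trace_refl_mul, hv, hp]
  field_simp
  ring

variable [Fintype F]

/-- an automorphism commuting with the image of a special isometry over the subfield fixes its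
trace. -/
theorem tau_fix_trace (j : F₀ →+* F) (Q₀ : QuadraticForm F₀ (ι → F₀))
    (Q : QuadraticForm F (ι → F)) (hc : BaseCompat j (⇑Q₀) (⇑Q)) (h2 : (2 : F) ≠ 0)
    (hQ : (QuadraticMap.polarBilin Q).Nondegenerate) (hn : 4 ≤ Fintype.card ι) (m : ℕ)
    (hcard : Fintype.card ι = 2 * m + 1) (hσc : FieldCompat (⇑Q : (ι → F) → F))
    (g : ↥(GO (⇑Q : (ι → F) → F))) (τ : RingAut F) (s : ↥(SOg Q₀))
    (hcomm : (cHom (⇑Q : (ι → F) → F) g * fieldO (⇑Q : (ι → F) → F) hσc τ) *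
        LamO j Q₀ Q hc h2 s =
      LamO j Q₀ Q hc h2 s * (cHom (⇑Q : (ι → F) → F) g * fieldO (⇑Q : (ι → F) → F) hσc τ)) :
    τ (j ((((s : ↥(Cfsg.isometryGroup F₀ (⇑Q₀ : (ι → F₀) → F₀))) : GL ι F₀) : Matrix ι ι F₀).trace)) =
      j ((((s : ↥(Cfsg.isometryGroup F₀ (⇑Q₀ : (ι → F₀) → F₀))) : GL ι F₀) : Matrix ι ι F₀).trace) := by
  set t₀ : ↥(SOg Q) := inclSO j Q₀ Q hc h2 s with ht₀
  obtain ⟨t₁, ht₁⟩ := map_mem_SO Q hσc τ t₀
  -- the conjugate of `τ(t₀)` by `g`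
  have hmem : (g : GL ι F) * ((t₁ : ↥(Cfsg.isometryGroup F (⇑Q : (ι → F) → F))) : GL ι F) *
      (g : GL ι F)⁻¹ ∈ Cfsg.isometryGroup F (⇑Q : (ι → F) → F) :=
    conj_mem_iso (⇑Q : (ι → F) → F) (g : GL ι F) g.2
      ((t₁ : ↥(Cfsg.isometryGroup F (⇑Q : (ι → F) → F))) : GL ι F)
      (t₁ : ↥(Cfsg.isometryGroup F (⇑Q : (ι → F) → F))).2
  have hdet : (⟨_, hmem⟩ : ↥(Cfsg.isometryGroup F (⇑Q : (ι → F) → F))) ∈ SOg Q := by
    show _ ∈ (isoDet (⇑Q : (ι → F) → F)).ker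
    rw [MonoidHom.mem_ker]
    apply Units.ext
    rw [isoDet_coe, Units.val_one]
    show (((g : GL ι F) * ((t₁ : ↥(Cfsg.isometryGroup F (⇑Q : (ι → F) → F))) : GL ι F) *
      (g : GL ι F)⁻¹ : GL ι F) : Matrix ι ι F).det = 1
    rw [Units.val_mul, Units.val_mul, Matrix.det_mul, Matrix.det_mul, mul_right_comm,
      ← Matrix.det_mul, ← Units.val_mul, mul_inv_cancel, Units.val_one, Matrix.det_one, one_mul]
    have h1 : isoDet (⇑Q : (ι → F) → F) (t₁ : ↥(Cfsg.isometryGroup F (⇑Q : (ι → F) → F))) = 1 := t₁.2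
    have h3 := congrArg Units.val h1
    rwa [isoDet_coe, Units.val_one] at h3
  set t₂ : ↥(SOg Q) := ⟨⟨_, hmem⟩, hdet⟩ with ht₂
  have hP1 : fieldO (⇑Q : (ι → F) → F) hσc τ * PsiO Q t₀ = PsiO Q t₁ * fieldO (⇑Q : (ι → F) → F) hσc τ := by
    rw [PsiO_apply, PsiO_apply, fieldO_mul_cHom]
    congr 2
    apply Subtype.ext
    show glMapEquiv τ ((t₀ : ↥(Cfsg.isometryGroup F (⇑Q : (ι → F) → F))) : GL ι F) =
      ((t₁ : ↥(Cfsg.isometryGroup F (⇑Q : (ι → F) → F))) : GL ι F)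
    exact ht₁.symm
  have hP2 : PsiO Q t₂ = cHom (⇑Q : (ι → F) → F) g * PsiO Q t₁ * (cHom (⇑Q : (ι → F) → F) g)⁻¹ := by
    rw [PsiO_apply, PsiO_apply, ← map_inv, ← map_mul, ← map_mul]
    congr 1
  have hL : LamO j Q₀ Q hc h2 s = PsiO Q t₀ := rfl
  rw [hL] at hcomm
  have hEq : PsiO Q t₂ = PsiO Q t₀ := by
    rw [hP2]
    have h5 : cHom (⇑Q : (ι → F) → F) g * PsiO Q t₁ * fieldO (⇑Q : (ι → F) → F) hσc τ =
        PsiO Q t₀ * cHom (⇑Q : (ι → F) → F) g * fieldO (⇑Q : (ι → F) → F) hσc τ := by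
      rw [mul_assoc, ← hP1, ← mul_assoc, hcomm, mul_assoc]
    have h6 := mul_right_cancel h5
    rw [h6, mul_inv_cancel_right]
  have hEq' := PsiO_injective Q h2 hQ hn m hcard hEq
  have hmat : ((g : GL ι F) : Matrix ι ι F) *
      ((((t₀ : ↥(Cfsg.isometryGroup F (⇑Q : (ι → F) → F))) : GL ι F) : Matrix ι ι F).map ⇑τ) *
      (((g : GL ι F)⁻¹ : GL ι F) : Matrix ι ι F) =
      (((t₀ : ↥(Cfsg.isometryGroup F (⇑Q : (ι → F) → F))) : GL ι F) : Matrix ι ι F) := by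
    have h7 := congrArg (fun x : ↥(SOg Q) =>
      (((x : ↥(Cfsg.isometryGroup F (⇑Q : (ι → F) → F))) : GL ι F) : Matrix ι ι F)) hEq'
    simp only [ht₂] at h7
    rw [Units.val_mul, Units.val_mul, ht₁, glMapEquiv_val] at h7
    exact h7
  have htr := congrArg Matrix.trace hmat
  rw [Matrix.trace_units_conj] at htr
  have ht₀val : (((t₀ : ↥(Cfsg.isometryGroup F (⇑Q : (ι → F) → F))) : GL ι F) : Matrix ι ι F) =
      ((((s : ↥(Cfsg.isometryGroup F₀ (⇑Q₀ : (ι → F₀) → F₀))) : GL ι F₀) : Matrix ι ι F₀)).map ⇑j := by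
    rw [ht₀, inclSO_coe, inclI_val]
  rw [ht₀val] at htr
  have hj : ∀ M : Matrix ι ι F₀, (M.map ⇑j).trace = j M.trace := by
    intro M
    have := AddMonoidHom.map_trace (j : F₀ →+ F) M
    exact this.symm
  have hτ : ∀ M : Matrix ι ι F, (M.map ⇑τ).trace = τ M.trace := by
    intro M
    have := AddMonoidHom.map_trace ((τ : F ≃+* F) : F →+ F) M
    exact this.symm
  rw [hτ, hj] at htr
  exact htr

/-- an automorphism commuting with the image of `Ω` over the subfield fixes the subfield. -/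
theorem tau_fix_field [Fintype F₀] (j : F₀ →+* F) (Q₀ : QuadraticForm F₀ (ι → F₀))
    (Q : QuadraticForm F (ι → F)) (hc : BaseCompat j (⇑Q₀) (⇑Q)) (h2 : (2 : F) ≠ 0)
    (hQ : (QuadraticMap.polarBilin Q).Nondegenerate) (hn : 4 ≤ Fintype.card ι) (m : ℕ)
    (hcard : Fintype.card ι = 2 * m + 1) (hσc : FieldCompat (⇑Q : (ι → F) → F))
    (hvec : ∀ z : F₀, ∃ u v : ι → F₀, Q₀ u ≠ 0 ∧ Q₀ v = Q₀ u ∧
      QuadraticMap.polar (⇑Q₀) u v = z * Q₀ u)
    (g : ↥(GO (⇑Q : (ι → F) → F))) (τ : RingAut F)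
    (hcomm : ∀ s : ↥(SOg Q₀),
      (s : ↥(Cfsg.isometryGroup F₀ (⇑Q₀ : (ι → F₀) → F₀))) ∈ Cfsg.Omega F₀ (⇑Q₀ : (ι → F₀) → F₀) →
      (cHom (⇑Q : (ι → F) → F) g * fieldO (⇑Q : (ι → F) → F) hσc τ) * LamO j Q₀ Q hc h2 s =
        LamO j Q₀ Q hc h2 s * (cHom (⇑Q : (ι → F) → F) g * fieldO (⇑Q : (ι → F) → F) hσc τ))
    (z : F₀) : τ (j z) = j z := by
  have h2' := two_ne_zero_base j h2
  have hsq : ∀ z : F₀, τ (j (z ^ 2)) = j (z ^ 2) := by
    intro z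
    obtain ⟨u, v, hu, hv, hp⟩ := hvec z
    have hv0 : Q₀ v ≠ 0 := by rw [hv]; exact hu
    have hvs : ∀ w ∈ [u, v], Q₀ w ≠ 0 := by
      intro w hw
      simp only [List.mem_cons, List.not_mem_nil, or_false] at hw
      rcases hw with rfl | rfl
      · exact hu
      · exact hv0
    have hΩ : ([u, v].map (reflG' Q₀)).prod ∈ Cfsg.Omega F₀ (⇑Q₀ : (ι → F₀) → F₀) := by
      apply master_backward h2' Q₀ [u, v] hvs ⟨1, rfl⟩
      simp only [List.map_cons, List.map_nil, List.prod_cons, List.prod_nil, mul_one, hv]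
      exact ⟨Q₀ u, rfl⟩
    have hdet : ([u, v].map (reflG' Q₀)).prod ∈ SOg Q₀ :=
      omega_le_ker (⇑Q₀ : (ι → F₀) → F₀) _ hΩ
    have h1 := tau_fix_trace j Q₀ Q hc h2 hQ hn m hcard hσc g τ ⟨_, hdet⟩ (hcomm ⟨_, hdet⟩ hΩ)
    have htr : ((((⟨_, hdet⟩ : ↥(SOg Q₀)) : ↥(Cfsg.isometryGroup F₀ (⇑Q₀ : (ι → F₀) → F₀))) : GL ι F₀) :
        Matrix ι ι F₀).trace = (Fintype.card ι : F₀) - 4 + z ^ 2 := by
      show (((([u, v].map (reflG' Q₀)).prod : ↥(Cfsg.isometryGroup F₀ (⇑Q₀ : (ι → F₀) → F₀))) : GL ι F₀) :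
        Matrix ι ι F₀).trace = _
      rw [prod_reflG'_coe Q₀ [u, v] hvs]
      simp only [List.map_cons, List.map_nil, List.prod_cons, List.prod_nil, mul_one]
      exact trace_refl_mul' Q₀ u v hu hv z hp
    rw [htr] at h1
    simp only [map_add, map_sub, map_natCast, map_ofNat, map_pow] at h1 ⊢
    exact add_left_cancel h1
  have h5 := hsq (z + 1)
  have h6 : (z + 1) ^ 2 = z ^ 2 + 2 * z + 1 := by ring
  rw [h6] at h5
  simp only [map_add, map_mul, map_one, map_ofNat] at h5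
  have h7 := hsq z
  rw [h7] at h5
  have h9 : (2 : F) * τ (j z) = 2 * j z := by
    have := add_right_cancel h5
    exact add_left_cancel this
  exact mul_left_cancel₀ h2 h9

end Cfsg.Agent.Lib.Helper16.OL
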