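import Mathlib
import Cfsg.Agent.Lib.Helper16.OL11

set_option autoImplicit false
set_option linter.unusedSectionVars false
set_option linter.unusedVariables false

/-! Lang-type results for orthogonal groups, part 12: a Galois-theoretic lemma. -/

namespace Cfsg.Agent.Lib.Helper16.OL

universe u

variable {F : Type u} [Field F] [Finite F]

/-- an automorphism fixing the fixed field of `σ` is a power of `σ`. -/
theorem mem_zpowers_of_fix (σ τ : F ≃+* F) (h : ∀ x, σ x = x → τ x = x) :
    τ ∈ Subgroup.zpowers σ := by
  classical
  have hft : Fintype F := Fintype.ofFinite F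
  have hfe : Finite (F ≃+* F) :=
    Finite.of_injective (fun e : F ≃+* F => (e : F → F)) DFunLike.coe_injective
  set G : Subgroup (F ≃+* F) := Subgroup.zpowers σ with hG
  have hfin : Finite G := inferInstance
  set K : Subfield F := FixedPoints.subfield G F with hK
  have hfix : ∀ k : K, τ (k : F) = (k : F) := by
    intro k
    apply h
    exact (Cfsg.Agent.Lib.Helper16.mem_fixed_iff σ (k : F)).mp k.2
  let τ' : F ≃ₐ[K] F := AlgEquiv.ofRingEquiv (f := τ) (fun k => hfix k)
  obtain ⟨g, hg⟩ := (FixedPoints.toAlgAut_bijective G F).2 τ'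
  have : (g : F ≃+* F) = τ := by
    apply RingEquiv.ext
    intro x
    have := congrArg (fun e : F ≃ₐ[K] F => e x) hg
    exact this
  rw [← this]
  exact g.2

end Cfsg.Agent.Lib.Helper16.OL
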