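import Mathlib
import Cfsg.Agent.Lib.Helper16.OL12
import Cfsg.Agent.S0295

set_option autoImplicit false
set_option linter.unusedSectionVars false
set_option linter.unusedVariables false

/-! Lang-type results for orthogonal groups, part 13: `Ω` inside `SO` in odd dimension. -/

namespace Cfsg.Agent.Lib.Helper16.OL

open Matrix Cfsg.Agent.Lib.Lead.OA Cfsg.Agent.Lib.Helper16 Cfsg.Agent.Lib.Helper16.OA
  Cfsg.Agent.Lib.helper6

universe u v

variable {ι : Type} [Fintype ι] [DecidableEq ι] {F : Type u} [Field F] [Fintype F]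

/-- `Ω` as a subgroup of the special orthogonal group. -/
noncomputable abbrev OmSO (Q : QuadraticForm F (ι → F)) : Subgroup ↥(SOg Q) :=
  (Cfsg.Omega F (⇑Q : (ι → F) → F)).subgroupOf (SOg Q)

theorem omega_le_SO (Q : QuadraticForm F (ι → F)) : Cfsg.Omega F (⇑Q : (ι → F) → F) ≤ SOg Q :=
  omega_le_ker (⇑Q : (ι → F) → F) _

theorem OmSO_index (Q : QuadraticForm F (ι → F)) (h2 : (2 : F) ≠ 0)
    (hQ : (QuadraticMap.polarBilin Q).Nondegenerate) (hn : 4 ≤ Fintype.card ι) :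
    (OmSO Q).index = 2 := by
  have hne := exists_ne_zero Q h2 hQ (by omega)
  have h1 := Subgroup.relIndex_mul_index (omega_le_SO Q)
  rw [index_SO Q h2 hQ hne, Cfsg.Agent.Lib.Lead.RI.index_omega_general h2 (by omega) Q hQ] at h1
  show (Cfsg.Omega F (⇑Q : (ι → F) → F)).relIndex (SOg Q) = 2
  omega

theorem OmSO_normal (Q : QuadraticForm F (ι → F)) : (OmSO Q).Normal := by
  have : (Cfsg.Omega F (⇑Q : (ι → F) → F)).Normal := by
    show (commutator _).Normal
    infer_instance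
  exact Subgroup.Normal.subgroupOf this _

/-- the image of `Ω` under `PsiO` is the group of inner automorphisms. -/
theorem PsiO_mem_Inn (Q : QuadraticForm F (ι → F)) (s : ↥(SOg Q)) (hs : s ∈ OmSO Q) :
    PsiO Q s ∈ Cfsg.Inn (Cfsg.POmega F (⇑Q : (ι → F) → F)) := by
  rw [inn_eq']
  exact ⟨s.1, hs, rfl⟩

/-- the centraliser of `Ω` in `SO` is trivial (odd dimension). -/
theorem centralizer_OmSO (Q : QuadraticForm F (ι → F)) (h2 : (2 : F) ≠ 0)
    (hQ : (QuadraticMap.polarBilin Q).Nondegenerate) (hn : 4 ≤ Fintype.card ι) (m : ℕ)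
    (hcard : Fintype.card ι = 2 * m + 1) (s : ↥(SOg Q))
    (hs : ∀ t : ↥(SOg Q), t ∈ OmSO Q → s * t = t * s) : s = 1 := by
  apply PsiO_injective Q h2 hQ hn m hcard
  rw [map_one]
  apply MulEquiv.ext
  intro k
  induction k using QuotientGroup.induction_on with
  | H t =>
    have htSO : (t : ↥(Cfsg.isometryGroup F (⇑Q : (ι → F) → F))) ∈ SOg Q := omega_le_SO Q t.2
    have h1 := hs ⟨t, htSO⟩ t.2
    have h3 : PsiO Q s * PsiO Q ⟨t, htSO⟩ = PsiO Q ⟨t, htSO⟩ * PsiO Q s := by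
      rw [← map_mul, ← map_mul, h1]
    have h4 : PsiO Q ⟨t, htSO⟩ = MulAut.conj (QuotientGroup.mk t : Cfsg.POmega F (⇑Q : (ι → F) → F)) :=
      (conj_mk_eq_c0 Q t).symm
    rw [h4] at h3
    have h5 : MulAut.conj (PsiO Q s (QuotientGroup.mk t : Cfsg.POmega F (⇑Q : (ι → F) → F))) =
        MulAut.conj (QuotientGroup.mk t : Cfsg.POmega F (⇑Q : (ι → F) → F)) := by
      have h6 : MulAut.conj (PsiO Q s (QuotientGroup.mk t : Cfsg.POmega F (⇑Q : (ι → F) → F))) =
          PsiO Q s * MulAut.conj (QuotientGroup.mk t : Cfsg.POmega F (⇑Q : (ι → F) → F)) *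
            (PsiO Q s)⁻¹ := by
        apply MulEquiv.ext
        intro y
        simp [MulAut.conj_apply]
      rw [h6, h3, mul_inv_cancel_right]
    exact conj_POmega_injective Q h2 hQ hn h5

/-- the centre of `Ω` is trivial (odd dimension). -/
theorem center_omega_bot (Q : QuadraticForm F (ι → F)) (h2 : (2 : F) ≠ 0)
    (hQ : (QuadraticMap.polarBilin Q).Nondegenerate) (hn : 4 ≤ Fintype.card ι) (m : ℕ)
    (hcard : Fintype.card ι = 2 * m + 1) :
    Subgroup.center ↥(Cfsg.Omega F (⇑Q : (ι → F) → F)) = ⊥ := by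
  rw [eq_bot_iff]
  intro z hz
  rw [Subgroup.mem_bot]
  have h1 : (QuotientGroup.mk z : Cfsg.POmega F (⇑Q : (ι → F) → F)) = 1 :=
    (QuotientGroup.eq_one_iff z).mpr hz
  have h3 := conj_mk_eq_c0 Q z
  rw [h1, map_one] at h3
  have hzSO : (z : ↥(Cfsg.isometryGroup F (⇑Q : (ι → F) → F))) ∈ SOg Q := omega_le_SO Q z.2
  have h4 : PsiO Q ⟨z, hzSO⟩ = PsiO Q 1 := by
    rw [map_one]; exact h3.symm
  have h5 := PsiO_injective Q h2 hQ hn m hcard h4
  apply Subtype.ext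
  have := congrArg (fun x : ↥(SOg Q) => (x : ↥(Cfsg.isometryGroup F (⇑Q : (ι → F) → F)))) h5
  exact this

/-- `Ω` is isomorphic to `PΩ` (odd dimension). -/
noncomputable def omegaEquivPOmega (Q : QuadraticForm F (ι → F)) (h2 : (2 : F) ≠ 0)
    (hQ : (QuadraticMap.polarBilin Q).Nondegenerate) (hn : 4 ≤ Fintype.card ι) (m : ℕ)
    (hcard : Fintype.card ι = 2 * m + 1) :
    Cfsg.POmega F (⇑Q : (ι → F) → F) ≃* ↥(Cfsg.Omega F (⇑Q : (ι → F) → F)) :=
  (QuotientGroup.quotientMulEquivOfEq (center_omega_bot Q h2 hQ hn m hcard)).trans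
    QuotientGroup.quotientBot

theorem OmSO_simple (Q : QuadraticForm F (ι → F)) (h2 : (2 : F) ≠ 0)
    (hQ : (QuadraticMap.polarBilin Q).Nondegenerate) (hn : 4 ≤ Fintype.card ι) (m : ℕ)
    (hcard : Fintype.card ι = 2 * m + 1)
    (hsimple : IsSimpleGroup (Cfsg.POmega F (⇑Q : (ι → F) → F))) :
    IsSimpleGroup ↥(OmSO Q) := by
  let e : Cfsg.POmega F (⇑Q : (ι → F) → F) ≃* ↥(OmSO Q) :=
    (omegaEquivPOmega Q h2 hQ hn m hcard).trans
      (Subgroup.subgroupOfEquivOfLe (omega_le_SO Q)).symm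
  exact e.symm.isSimpleGroup

theorem refl_comm_of_perp (Q : QuadraticForm F (ι → F)) (u v : ι → F)
    (hp : QuadraticMap.polar (⇑Q) u v = 0) :
    Cfsg.reflectionMatrix (⇑Q : (ι → F) → F) u * Cfsg.reflectionMatrix (⇑Q : (ι → F) → F) v =
      Cfsg.reflectionMatrix (⇑Q : (ι → F) → F) v * Cfsg.reflectionMatrix (⇑Q : (ι → F) → F) u := by
  have hp' : QuadraticMap.polar (⇑Q) v u = 0 := by rw [QuadraticMap.polar_comm]; exact hp
  unfold Cfsg.reflectionMatrix
  rw [Matrix.sub_mul, Matrix.mul_sub, Matrix.mul_sub, Matrix.one_mul, Matrix.mul_one, Matrix.one_mul,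
    Matrix.smul_mul, Matrix.mul_smul, Matrix.vecMulVec_mul_vecMulVec, polarVec_dotProduct, hp,
    Matrix.sub_mul, Matrix.mul_sub, Matrix.mul_sub, Matrix.one_mul, Matrix.mul_one, Matrix.one_mul,
    Matrix.smul_mul, Matrix.mul_smul, Matrix.vecMulVec_mul_vecMulVec, polarVec_dotProduct, hp']
  simp only [zero_smul, Matrix.vecMulVec_zero, smul_zero, sub_zero]
  abel

/-- `Ω` has even order. -/
theorem OmSO_even (Q : QuadraticForm F (ι → F)) (h2 : (2 : F) ≠ 0)
    (hvec0 : ∃ u v : ι → F, Q u ≠ 0 ∧ Q v = Q u ∧ QuadraticMap.polar (⇑Q) u v = 0) :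
    2 ∣ Nat.card ↥(OmSO Q) := by
  obtain ⟨u, v, hu, hv, hp⟩ := hvec0
  have hv0 : Q v ≠ 0 := by rw [hv]; exact hu
  have hvs : ∀ w ∈ [u, v], Q w ≠ 0 := by
    intro w hw
    simp only [List.mem_cons, List.not_mem_nil, or_false] at hw
    rcases hw with rfl | rfl
    · exact hu
    · exact hv0
  have hΩ : ([u, v].map (reflG' Q)).prod ∈ Cfsg.Omega F (⇑Q : (ι → F) → F) := by
    apply master_backward h2 Q [u, v] hvs ⟨1, rfl⟩
    simp only [List.map_cons, List.map_nil, List.prod_cons, List.prod_nil, mul_one, hv]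
    exact ⟨Q u, rfl⟩
  have hSO : ([u, v].map (reflG' Q)).prod ∈ SOg Q := omega_le_SO Q hΩ
  set t : ↥(OmSO Q) := ⟨⟨_, hSO⟩, hΩ⟩ with ht
  have hmat : ((((t : ↥(SOg Q)) : ↥(Cfsg.isometryGroup F (⇑Q : (ι → F) → F))) : GL ι F) : Matrix ι ι F) =
      Cfsg.reflectionMatrix (⇑Q : (ι → F) → F) u * Cfsg.reflectionMatrix (⇑Q : (ι → F) → F) v := by
    show (((([u, v].map (reflG' Q)).prod : ↥(Cfsg.isometryGroup F (⇑Q : (ι → F) → F))) : GL ι F) :
      Matrix ι ι F) = _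
    rw [prod_reflG'_coe Q [u, v] hvs]
    simp only [List.map_cons, List.map_nil, List.prod_cons, List.prod_nil, mul_one]
  have hne1 : t ≠ 1 := by
    intro h1
    have h3 := congrArg (fun x : ↥(OmSO Q) =>
      ((((x : ↥(SOg Q)) : ↥(Cfsg.isometryGroup F (⇑Q : (ι → F) → F))) : GL ι F) : Matrix ι ι F).trace) h1
    rw [hmat, trace_refl_mul' Q u v hu hv 0 (by rw [hp, zero_mul])] at h3
    have h4 : ((((1 : ↥(OmSO Q)) : ↥(SOg Q)) : ↥(Cfsg.isometryGroup F (⇑Q : (ι → F) → F))) : GL ι F) = 1 := rfl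
    rw [h4, Units.val_one, Matrix.trace_one] at h3
    have h5 : (4 : F) = 0 := by linear_combination -h3
    have h6 : (4 : F) = 2 * 2 := by norm_num
    rw [h6] at h5
    rcases mul_eq_zero.mp h5 with h | h <;> exact h2 h
  have hsq : t ^ 2 = 1 := by
    apply Subtype.ext
    apply Subtype.ext
    apply Subtype.ext
    apply Units.ext
    show ((((((t ^ 2 : ↥(OmSO Q)) : ↥(SOg Q)) : ↥(Cfsg.isometryGroup F (⇑Q : (ι → F) → F))) : GL ι F)) :
      Matrix ι ι F) = 1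
    have h7 : (((((t ^ 2 : ↥(OmSO Q)) : ↥(SOg Q)) : ↥(Cfsg.isometryGroup F (⇑Q : (ι → F) → F))) : GL ι F)) =
        ((((t : ↥(SOg Q)) : ↥(Cfsg.isometryGroup F (⇑Q : (ι → F) → F))) : GL ι F)) ^ 2 := rfl
    rw [h7, Units.val_pow_eq_pow_val, hmat, pow_two]
    calc Cfsg.reflectionMatrix (⇑Q : (ι → F) → F) u * Cfsg.reflectionMatrix (⇑Q : (ι → F) → F) v *
          (Cfsg.reflectionMatrix (⇑Q : (ι → F) → F) u * Cfsg.reflectionMatrix (⇑Q : (ι → F) → F) v)
        = Cfsg.reflectionMatrix (⇑Q : (ι → F) → F) u * (Cfsg.reflectionMatrix (⇑Q : (ι → F) → F) v *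
          Cfsg.reflectionMatrix (⇑Q : (ι → F) → F) u) * Cfsg.reflectionMatrix (⇑Q : (ι → F) → F) v := by
          simp only [Matrix.mul_assoc]
      _ = (Cfsg.reflectionMatrix (⇑Q : (ι → F) → F) u * Cfsg.reflectionMatrix (⇑Q : (ι → F) → F) u) *
          (Cfsg.reflectionMatrix (⇑Q : (ι → F) → F) v * Cfsg.reflectionMatrix (⇑Q : (ι → F) → F) v) := by
          rw [← refl_comm_of_perp Q u v hp]; simp only [Matrix.mul_assoc]
      _ = 1 := by rw [refl_mul_self Q u hu, refl_mul_self Q v hv0, Matrix.one_mul]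
  have hord : orderOf t = 2 := orderOf_eq_prime hsq hne1
  rw [← hord]
  exact orderOf_dvd_natCard t

end Cfsg.Agent.Lib.Helper16.OL
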