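import Mathlib

set_option autoImplicit false
set_option linter.unusedSectionVars false
set_option linter.unusedVariables false

/-! Automorphisms of orthogonal groups, part 37: the Frobenius automorphism generates `Aut(F)`. -/

namespace Cfsg.Agent.Lib.Helper16.OA

universe u

variable {F : Type u} [Field F] [Fintype F] {p f : ℕ} [Fact p.Prime]

/-- the Frobenius automorphism of a finite field of characteristic `p`. -/
noncomputable def frobAut (F : Type u) [Field F] [Fintype F] (p : ℕ) [Fact p.Prime] [CharP F p] :
    RingAut F :=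
  frobeniusEquiv F p

theorem frobAut_apply [CharP F p] (x : F) : frobAut F p x = x ^ p := rfl

theorem frobAut_pow_apply [CharP F p] (k : ℕ) (x : F) : (frobAut F p ^ k) x = x ^ p ^ k := by
  induction k generalizing x with
  | zero => simp
  | succ k ih =>
    rw [pow_succ, RingAut.mul_apply, ih, frobAut_apply, ← pow_mul, pow_succ, mul_comm]

theorem orderOf_frobAut [CharP F p] (hF : Fintype.card F = p ^ f) : orderOf (frobAut F p) = f := by
  let _ : Algebra (ZMod p) F := ZMod.algebra F p
  let e1 : (F ≃ₐ[ZMod p] F) →* RingAut F :=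
    { toFun := fun σ => σ.toRingEquiv
      map_one' := rfl
      map_mul' := fun _ _ => rfl }
  have hinj : Function.Injective e1 := by
    intro σ τ h
    apply AlgEquiv.ext
    intro x
    exact DFunLike.congr_fun h x
  have h1 : e1 (FiniteField.frobeniusAlgEquivOfAlgebraic (ZMod p) F) = frobAut F p := by
    apply RingEquiv.ext
    intro x
    show x ^ Fintype.card (ZMod p) = x ^ p
    rw [ZMod.card]
  rw [← h1, orderOf_injective e1 hinj, FiniteField.orderOf_frobeniusAlgEquivOfAlgebraic]
  have h2 := Module.card_eq_pow_finrank (K := ZMod p) (V := F)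
  rw [ZMod.card, hF] at h2
  exact (Nat.pow_right_injective (Fact.out : p.Prime).two_le h2).symm

theorem card_ringAut (hF : Fintype.card F = p ^ f) : Nat.card (RingAut F) = f := by
  have : CharP F p := charP_of_card_eq_prime_pow hF
  let _ : Algebra (ZMod p) F := ZMod.algebra F p
  let e1 : (F ≃ₐ[ZMod p] F) →* RingAut F :=
    { toFun := fun σ => σ.toRingEquiv
      map_one' := rfl
      map_mul' := fun _ _ => rfl }
  have hinj : Function.Injective e1 := by
    intro σ τ h
    apply AlgEquiv.ext
    intro x
    exact DFunLike.congr_fun h x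
  have hsurj : Function.Surjective e1 := by
    intro σ
    refine ⟨AlgEquiv.ofRingEquiv (f := σ) (fun x => ?_), ?_⟩
    · have := RingHom.ext_zmod ((σ : F →+* F).comp (algebraMap (ZMod p) F)) (algebraMap (ZMod p) F)
      exact DFunLike.congr_fun this x
    · apply RingEquiv.ext
      intro x
      rfl
  have h1 : Nat.card (RingAut F) = Nat.card (F ≃ₐ[ZMod p] F) :=
    (Nat.card_congr (Equiv.ofBijective e1 ⟨hinj, hsurj⟩)).symm
  rw [h1, IsGalois.card_aut_eq_finrank]
  have h2 := Module.card_eq_pow_finrank (K := ZMod p) (V := F)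
  rw [ZMod.card, hF] at h2
  exact (Nat.pow_right_injective (Fact.out : p.Prime).two_le h2).symm

theorem zpowers_frobAut [CharP F p] (hF : Fintype.card F = p ^ f) :
    Subgroup.zpowers (frobAut F p) = ⊤ := by
  have : Finite (RingAut F) := Finite.of_injective (fun σ : RingAut F => (σ : F → F))
    (fun σ τ h => RingEquiv.ext (congrFun h))
  apply Subgroup.eq_top_of_card_eq
  rw [Nat.card_zpowers, orderOf_frobAut hF, card_ringAut hF]

theorem exists_pow_frobAut [CharP F p] (hF : Fintype.card F = p ^ f) (σ : RingAut F) :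
    ∃ k : ℕ, σ = frobAut F p ^ k := by
  have : Finite (RingAut F) := Finite.of_injective (fun σ : RingAut F => (σ : F → F))
    (fun σ τ h => RingEquiv.ext (congrFun h))
  have h : σ ∈ Subgroup.zpowers (frobAut F p) := by
    rw [zpowers_frobAut hF]
    trivial
  obtain ⟨k, hk⟩ := (mem_powers_iff_mem_zpowers.2 h)
  exact ⟨k, hk.symm⟩

theorem frobAut_pow_eq_one_iff [CharP F p] (hF : Fintype.card F = p ^ f) (k : ℕ) :
    frobAut F p ^ k = 1 ↔ f ∣ k := by
  rw [← orderOf_frobAut hF, orderOf_dvd_iff_pow_eq_one]

end Cfsg.Agent.Lib.Helper16.OA
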