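import Mathlib
import Cfsg.Agent.Lib.Helper16.OA36
import Cfsg.Agent.Lib.Helper16.OA37

set_option autoImplicit false
set_option linter.unusedSectionVars false
set_option linter.unusedVariables false

/-! Automorphisms of orthogonal groups, part 38: semisimilarities of minus-type forms from the
binary anisotropic part. -/

namespace Cfsg.Agent.Lib.Helper16.OA

open Matrix Cfsg.Agent.Lib.Lead Cfsg.Agent.Lib.Lead.OA

universe u

variable {α : Type} [Fintype α] [DecidableEq α] {F : Type u} [Field F]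

/-- block embedding of `GL₂`. -/
noncomputable def blockGL (α : Type) [Fintype α] [DecidableEq α] (F : Type u) [Field F] :
    GL (Fin 2) F →* GL (α ⊕ Fin 2) F where
  toFun T := ⟨Matrix.fromBlocks 1 0 0 (T : Matrix (Fin 2) (Fin 2) F),
    Matrix.fromBlocks 1 0 0 ((T⁻¹ : GL (Fin 2) F) : Matrix (Fin 2) (Fin 2) F), by
      rw [Matrix.fromBlocks_multiply]
      simp [Matrix.fromBlocks_one], by
      rw [Matrix.fromBlocks_multiply]
      simp [Matrix.fromBlocks_one]⟩
  map_one' := by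
    apply Units.ext
    show Matrix.fromBlocks 1 0 0 ((1 : GL (Fin 2) F) : Matrix (Fin 2) (Fin 2) F) = 1
    rw [Units.val_one, Matrix.fromBlocks_one]
  map_mul' S T := by
    apply Units.ext
    show Matrix.fromBlocks 1 0 0 ((S * T : GL (Fin 2) F) : Matrix (Fin 2) (Fin 2) F) =
      Matrix.fromBlocks 1 0 0 (S : Matrix (Fin 2) (Fin 2) F) *
        Matrix.fromBlocks 1 0 0 (T : Matrix (Fin 2) (Fin 2) F)
    rw [Matrix.fromBlocks_multiply]
    simp

theorem blockGL_coe (T : GL (Fin 2) F) :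
    ((blockGL α F T : GL (α ⊕ Fin 2) F) : Matrix (α ⊕ Fin 2) (α ⊕ Fin 2) F) =
      Matrix.fromBlocks 1 0 0 (T : Matrix (Fin 2) (Fin 2) F) := rfl

theorem blockGL_mulVec (T : GL (Fin 2) F) (v : α ⊕ Fin 2 → F) :
    ((blockGL α F T : GL (α ⊕ Fin 2) F) : Matrix (α ⊕ Fin 2) (α ⊕ Fin 2) F) *ᵥ v =
      Sum.elim (v ∘ Sum.inl) ((T : Matrix (Fin 2) (Fin 2) F) *ᵥ (v ∘ Sum.inr)) := by
  rw [blockGL_coe, Matrix.fromBlocks_mulVec]
  simp

theorem blockGL_det (T : GL (Fin 2) F) :
    ((blockGL α F T : GL (α ⊕ Fin 2) F) : Matrix (α ⊕ Fin 2) (α ⊕ Fin 2) F).det =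
      (T : Matrix (Fin 2) (Fin 2) F).det := by
  rw [blockGL_coe, Matrix.det_fromBlocks_zero₂₁, Matrix.det_one, one_mul]

theorem blockGL_map (σ : F ≃+* F) (T : GL (Fin 2) F) :
    glMapEquiv σ (blockGL α F T) = blockGL α F (glMapEquiv σ T) := by
  apply Units.ext
  rw [glMapEquiv_val, blockGL_coe, blockGL_coe, glMapEquiv_val, Matrix.fromBlocks_map]
  congr 1
  · ext i j
    simp [Matrix.one_apply]
  · ext i j; simp
  · ext i j; simp

/-- the binary form `z₁² + a z₁ z₂ + b z₂²`. -/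
def binForm (a b : F) (z : Fin 2 → F) : F := z 0 ^ 2 + a * z 0 * z 1 + b * z 1 ^ 2

theorem quadFormMinus_eq (k : ℕ) (a b : F) (v : (Fin k ⊕ Fin k) ⊕ Fin 2 → F) :
    Cfsg.quadFormMinus k F a b v =
      (∑ i : Fin k, v (.inl (.inl i)) * v (.inl (.inr i))) + binForm a b (v ∘ Sum.inr) := rfl

/-- a `σ`-semilinear isometry of the binary part gives a semisimilarity of the minus form. -/
theorem minus_ss (k : ℕ) (a b : F) (T : GL (Fin 2) F) (σ : F ≃+* F)
    (hT : ∀ w : Fin 2 → F, binForm a b ((T : Matrix (Fin 2) (Fin 2) F) *ᵥ w) =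
      binForm (σ a) (σ b) w) :
    Cfsg.IsSemisimilarityPair (Cfsg.quadFormMinus k F a b) (blockGL (Fin k ⊕ Fin k) F T) σ := by
  refine ⟨1, fun v => ?_⟩
  rw [blockGL_mulVec, quadFormMinus_eq, quadFormMinus_eq, Units.val_one, one_mul, map_add, map_sum]
  congr 1
  · apply Finset.sum_congr rfl
    intro i _
    rw [map_mul]
    rfl
  · have h1 : (Sum.elim ((fun i => σ (v i)) ∘ Sum.inl)
        ((T : Matrix (Fin 2) (Fin 2) F) *ᵥ ((fun i => σ (v i)) ∘ Sum.inr))) ∘ Sum.inr =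
        (T : Matrix (Fin 2) (Fin 2) F) *ᵥ ((fun i => σ (v i)) ∘ Sum.inr) := by
      funext j
      rfl
    rw [h1, hT]
    unfold binForm
    simp only [map_add, map_mul, map_pow, Function.comp]

end Cfsg.Agent.Lib.Helper16.OA
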