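import Mathlib
import Cfsg.Agent.Lib.Helper16.OA38

set_option autoImplicit false
set_option linter.unusedSectionVars false
set_option linter.unusedVariables false

/-! Automorphisms of orthogonal groups, part 39: the Frobenius semisimilarity of a minus-type
form. -/

namespace Cfsg.Agent.Lib.Helper16.OA

open Matrix Cfsg.Agent.Lib.Lead Cfsg.Agent.Lib.Lead.OA

universe u

variable {F : Type u} [Field F]

/-- the binary twist in odd characteristic. -/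
noncomputable def tOdd (a s t : F) (ht : t ≠ 0) : GL (Fin 2) F :=
  Matrix.GeneralLinearGroup.mkOfDetNeZero !![1, (s - a * t) * 2⁻¹; 0, t] (by
    rw [Matrix.det_fin_two_of]
    simpa using ht)

theorem tOdd_coe (a s t : F) (ht : t ≠ 0) :
    ((tOdd a s t ht : GL (Fin 2) F) : Matrix (Fin 2) (Fin 2) F) =
      !![1, (s - a * t) * 2⁻¹; 0, t] := rfl

theorem tOdd_det (a s t : F) (ht : t ≠ 0) :
    ((tOdd a s t ht : GL (Fin 2) F) : Matrix (Fin 2) (Fin 2) F).det = t := by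
  rw [tOdd_coe, Matrix.det_fin_two_of]
  ring

theorem tOdd_spec (h2 : (2 : F) ≠ 0) (a b a' b' t : F) (ht : t ≠ 0)
    (hD : t ^ 2 * (a ^ 2 - 4 * b) = a' ^ 2 - 4 * b') (w : Fin 2 → F) :
    binForm a b (((tOdd a a' t ht : GL (Fin 2) F) : Matrix (Fin 2) (Fin 2) F) *ᵥ w) =
      binForm a' b' w := by
  have h : (2 : F)⁻¹ * 2 = 1 := inv_mul_cancel₀ h2
  unfold binForm
  rw [tOdd_coe]
  simp only [Matrix.mulVec, dotProduct, Fin.sum_univ_two, Matrix.of_apply, Matrix.cons_val_zero,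
    Matrix.cons_val_one, Matrix.cons_val', Matrix.cons_val_fin_one]
  linear_combination (-(w 1) ^ 2 * (2 : F)⁻¹ ^ 2) * hD +
    (w 0 * a' * w 1 - w 0 * a * t * w 1 - a' * a * t * w 1 ^ 2 * (2 : F)⁻¹ +
      a ^ 2 * t ^ 2 * w 1 ^ 2 * (2 : F)⁻¹ - (2 * (2 : F)⁻¹ + 1) * t ^ 2 * w 1 ^ 2 * b +
      (2 * (2 : F)⁻¹ + 1) * w 1 ^ 2 * b') * h

/-- the binary twist in characteristic two. -/
noncomputable def tEven (a b : F) (ha : a ≠ 0) : GL (Fin 2) F :=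
  Matrix.GeneralLinearGroup.mkOfDetNeZero !![1, b; 0, a] (by
    rw [Matrix.det_fin_two_of]
    simpa using ha)

theorem tEven_coe (a b : F) (ha : a ≠ 0) :
    ((tEven a b ha : GL (Fin 2) F) : Matrix (Fin 2) (Fin 2) F) = !![1, b; 0, a] := rfl

theorem tEven_spec (h2 : (2 : F) = 0) (a b : F) (ha : a ≠ 0) (w : Fin 2 → F) :
    binForm a b (((tEven a b ha : GL (Fin 2) F) : Matrix (Fin 2) (Fin 2) F) *ᵥ w) =
      binForm (a ^ 2) (b ^ 2) w := by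
  unfold binForm
  rw [tEven_coe]
  simp only [Matrix.mulVec, dotProduct, Fin.sum_univ_two, Matrix.of_apply, Matrix.cons_val_zero,
    Matrix.cons_val_one, Matrix.cons_val', Matrix.cons_val_fin_one]
  linear_combination (b * w 0 * w 1 + a ^ 2 * b * w 1 ^ 2) * h2

/-- anisotropy in odd characteristic: the discriminant is a non-square. -/
theorem disc_not_square (h2 : (2 : F) ≠ 0) (a b : F)
    (hab : ∀ z₁ z₂ : F, z₁ ^ 2 + a * z₁ * z₂ + b * z₂ ^ 2 = 0 → z₁ = 0 ∧ z₂ = 0) :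
    ¬ IsSquare (a ^ 2 - 4 * b) := by
  rintro ⟨r, hr⟩
  have h : (2 : F)⁻¹ * 2 = 1 := inv_mul_cancel₀ h2
  have h1 := hab ((-a + r) * 2⁻¹) 1 (by
    linear_combination (-(2 : F)⁻¹ ^ 2) * hr +
      ((a ^ 2 - a * r) * (2 : F)⁻¹ - b * (2 * (2 : F)⁻¹ + 1)) * h)
  exact one_ne_zero h1.2

theorem disc_ne_zero (h2 : (2 : F) ≠ 0) (a b : F)
    (hab : ∀ z₁ z₂ : F, z₁ ^ 2 + a * z₁ * z₂ + b * z₂ ^ 2 = 0 → z₁ = 0 ∧ z₂ = 0) :
    a ^ 2 - 4 * b ≠ 0 := by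
  intro h
  apply disc_not_square h2 a b hab
  rw [h]
  exact ⟨0, by ring⟩

/-- anisotropy in characteristic two: the middle coefficient is non-zero. -/
theorem mid_ne_zero [Fintype F] (h2 : (2 : F) = 0) (a b : F)
    (hab : ∀ z₁ z₂ : F, z₁ ^ 2 + a * z₁ * z₂ + b * z₂ ^ 2 = 0 → z₁ = 0 ∧ z₂ = 0) :
    a ≠ 0 := by
  rintro rfl
  have : CharP F 2 := CharTwo.of_one_ne_zero_of_two_eq_zero one_ne_zero h2
  obtain ⟨c, hc⟩ := FiniteField.isSquare_of_char_two (ringChar.eq F 2) b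
  have h1 := hab c 1 (by
    rw [hc]
    linear_combination (c * c) * h2)
  exact one_ne_zero h1.2

section frob

variable [Fintype F] {p : ℕ} [Fact p.Prime] [CharP F p]

theorem two_ne_zero_of_char (hp : p ≠ 2) : (2 : F) ≠ 0 := by
  intro h
  have h1 : ((2 : ℕ) : F) = 0 := by exact_mod_cast h
  rw [CharP.cast_eq_zero_iff F p] at h1
  exact hp ((Nat.prime_dvd_prime_iff_eq Fact.out Nat.prime_two).1 h1)

theorem two_eq_zero_of_char (hp : p = 2) : (2 : F) = 0 := by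
  subst hp
  exact CharTwo.two_eq_zero

theorem frob_disc (hp : p ≠ 2) (a b : F) :
    ((a ^ 2 - 4 * b) ^ ((p - 1) / 2)) ^ 2 * (a ^ 2 - 4 * b) = (a ^ p) ^ 2 - 4 * b ^ p := by
  have hp2 : (p - 1) / 2 * 2 + 1 = p := by
    have h1 := (Fact.out : p.Prime).eq_one_or_self_of_dvd 2
    have h2 : p % 2 = 1 := by
      rcases Nat.mod_two_eq_zero_or_one p with h | h
      · exfalso
        rcases h1 (Nat.dvd_of_mod_eq_zero h) with h3 | h3
        · omega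
        · exact hp h3.symm
      · exact h
    have h3 := (Fact.out : p.Prime).two_le
    omega
  rw [← pow_mul, ← pow_succ, hp2]
  have h1 : frobenius F p (a ^ 2 - 4 * b) = (frobenius F p a) ^ 2 - 4 * frobenius F p b := by
    rw [map_sub, map_mul, map_pow, map_ofNat]
  exact h1

/-- the Frobenius semisimilarity of a minus-type form, odd characteristic. -/
noncomputable def frobSSOdd (hp : p ≠ 2) (k : ℕ) (a b : F)
    (hab : ∀ z₁ z₂ : F, z₁ ^ 2 + a * z₁ * z₂ + b * z₂ ^ 2 = 0 → z₁ = 0 ∧ z₂ = 0) :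
    ↥(gammaO (Cfsg.quadFormMinus k F a b)) :=
  ⟨⟨blockGL (Fin k ⊕ Fin k) F (tOdd a (a ^ p) ((a ^ 2 - 4 * b) ^ ((p - 1) / 2))
      (pow_ne_zero _ (disc_ne_zero (two_ne_zero_of_char hp) a b hab))), frobAut F p⟩,
    minus_ss k a b _ _ (fun w => by
      rw [tOdd_spec (two_ne_zero_of_char hp) a b (a ^ p) (b ^ p) _ _ (frob_disc hp a b)]
      rfl)⟩

theorem frobSSOdd_right (hp : p ≠ 2) (k : ℕ) (a b : F)
    (hab : ∀ z₁ z₂ : F, z₁ ^ 2 + a * z₁ * z₂ + b * z₂ ^ 2 = 0 → z₁ = 0 ∧ z₂ = 0) :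
    ssRight _ (frobSSOdd hp k a b hab) = frobAut F p := rfl

theorem frobSSOdd_left (hp : p ≠ 2) (k : ℕ) (a b : F)
    (hab : ∀ z₁ z₂ : F, z₁ ^ 2 + a * z₁ * z₂ + b * z₂ ^ 2 = 0 → z₁ = 0 ∧ z₂ = 0) :
    ((frobSSOdd hp k a b hab : ↥(gammaO (Cfsg.quadFormMinus k F a b))) :
      GammaL ((Fin k ⊕ Fin k) ⊕ Fin 2) F).left =
      blockGL (Fin k ⊕ Fin k) F (tOdd a (a ^ p) ((a ^ 2 - 4 * b) ^ ((p - 1) / 2))
        (pow_ne_zero _ (disc_ne_zero (two_ne_zero_of_char hp) a b hab))) := rfl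

/-- the Frobenius semisimilarity of a minus-type form, characteristic two. -/
noncomputable def frobSSEven (hp : p = 2) (k : ℕ) (a b : F)
    (hab : ∀ z₁ z₂ : F, z₁ ^ 2 + a * z₁ * z₂ + b * z₂ ^ 2 = 0 → z₁ = 0 ∧ z₂ = 0) :
    ↥(gammaO (Cfsg.quadFormMinus k F a b)) :=
  ⟨⟨blockGL (Fin k ⊕ Fin k) F (tEven a b (mid_ne_zero (two_eq_zero_of_char hp) a b hab)),
      frobAut F p⟩,
    minus_ss k a b _ _ (fun w => by
      rw [tEven_spec (two_eq_zero_of_char hp) a b _]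
      subst hp
      rfl)⟩

theorem frobSSEven_right (hp : p = 2) (k : ℕ) (a b : F)
    (hab : ∀ z₁ z₂ : F, z₁ ^ 2 + a * z₁ * z₂ + b * z₂ ^ 2 = 0 → z₁ = 0 ∧ z₂ = 0) :
    ssRight _ (frobSSEven hp k a b hab) = frobAut F p := rfl

theorem frobSSEven_left (hp : p = 2) (k : ℕ) (a b : F)
    (hab : ∀ z₁ z₂ : F, z₁ ^ 2 + a * z₁ * z₂ + b * z₂ ^ 2 = 0 → z₁ = 0 ∧ z₂ = 0) :
    ((frobSSEven hp k a b hab : ↥(gammaO (Cfsg.quadFormMinus k F a b))) :
      GammaL ((Fin k ⊕ Fin k) ⊕ Fin 2) F).left =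
      blockGL (Fin k ⊕ Fin k) F (tEven a b (mid_ne_zero (two_eq_zero_of_char hp) a b hab)) := rfl

theorem ssRight_surjective_minus {f : ℕ} (hF : Fintype.card F = p ^ f) (k : ℕ) (a b : F)
    (hab : ∀ z₁ z₂ : F, z₁ ^ 2 + a * z₁ * z₂ + b * z₂ ^ 2 = 0 → z₁ = 0 ∧ z₂ = 0) :
    Function.Surjective (ssRight (Cfsg.quadFormMinus k F a b)) := by
  have hfrob : ∃ x₀, ssRight (Cfsg.quadFormMinus k F a b) x₀ = frobAut F p := by
    by_cases hp : p = 2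
    · exact ⟨_, frobSSEven_right hp k a b hab⟩
    · exact ⟨_, frobSSOdd_right hp k a b hab⟩
  obtain ⟨x₀, hx₀⟩ := hfrob
  intro σ
  obtain ⟨j, rfl⟩ := exists_pow_frobAut hF σ
  exact ⟨x₀ ^ j, by rw [map_pow, hx₀]⟩

end frob

end Cfsg.Agent.Lib.Helper16.OA
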