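import Mathlib
import Cfsg.Agent.Lib.Helper16.OA39
import Cfsg.Agent.Lib.Helper16.Char2K

set_option autoImplicit false
set_option linter.unusedSectionVars false
set_option linter.unusedVariables false

/-! Automorphisms of orthogonal groups, part 40: `|PGO : Inn| = 2` in characteristic two. -/

namespace Cfsg.Agent.Lib.Helper16.OA

open Matrix Cfsg.Agent.Lib.Lead Cfsg.Agent.Lib.Lead.OA Cfsg.Agent.Lib.Helper16

universe u

variable {ι : Type} [Fintype ι] [DecidableEq ι] {F : Type u} [Field F] [Fintype F]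

theorem range_cHom_char2 [CharP F 2] (Q : QuadraticForm F (ι → F)) (hne : ∃ v, Q v ≠ 0) :
    (cHom (⇑Q : (ι → F) → F)).range = (c0 Q).range := by
  apply le_antisymm
  · rintro _ ⟨g, rfl⟩
    obtain ⟨a0, ha0⟩ := FiniteField.isSquare_of_char_two (ringChar.eq F 2) ((mult Q g : Fˣ) : F)
    have ha00 : a0 ≠ 0 := by
      rintro rfl
      rw [mul_zero] at ha0
      exact Units.ne_zero _ ha0
    have ha : Units.mk0 a0 ha00 * Units.mk0 a0 ha00 = mult Q g := by
      apply Units.ext
      rw [Units.val_mul, Units.val_mk0, ha0]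
    set a : Fˣ := Units.mk0 a0 ha00
    have hmult : mult Q (scalGO Q a⁻¹ * g) = 1 := by
      have h1 : multHom Q hne (scalGO Q a⁻¹ * g) =
          multHom Q hne (scalGO Q a⁻¹) * multHom Q hne g := map_mul _ _ _
      rw [multHom_apply, multHom_apply, multHom_apply, mult_scalGO Q hne, ← ha] at h1
      rw [h1]
      group
    have hiso := (mult_eq_one_iff Q hne _).1 hmult
    have hscal : cHom (⇑Q : (ι → F) → F) (scalGO Q a⁻¹) = 1 :=
      scalar_cHom_eq_one _ _ _ (scalGO_coe Q a⁻¹)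
    refine ⟨⟨_, hiso⟩, ?_⟩
    rw [c0_apply]
    have : isoToGO Q ⟨_, hiso⟩ = scalGO Q a⁻¹ * g := Subtype.ext rfl
    rw [this, map_mul, hscal, one_mul]
  · rintro _ ⟨h, rfl⟩
    exact ⟨_, rfl⟩

theorem c0_injective_char2 [CharP F 2] (Q : QuadraticForm F (ι → F))
    (hQ : (QuadraticMap.polarBilin Q).Nondegenerate) (hn : 7 ≤ Fintype.card ι)
    (hne : ∃ v, Q v ≠ 0) : Function.Injective (c0 Q) := by
  rw [injective_iff_map_eq_one]
  intro h hh
  rw [c0_apply] at hh
  obtain ⟨d, hd⟩ := cHom_ker_scalar Q hQ hn _ hh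
  have h1 := mult_of_scalar Q hne (isoToGO Q h) d hd
  rw [mult_iso Q hne, Units.val_one] at h1
  have h3 : d = 1 := by
    have h4 : (d - 1) * (d - 1) = 0 := by
      have h2 : (2 : F) = 0 := CharTwo.two_eq_zero
      linear_combination -h1 + (1 - d) * h2
    have := mul_self_eq_zero.1 h4
    linear_combination this
  apply iso_ext'
  rw [h3, one_smul] at hd
  exact hd

theorem omega_index_char2 [CharP F 2] (Q : QuadraticForm F (ι → F))
    (hQ : (QuadraticMap.polarBilin Q).Nondegenerate) (hn : 5 ≤ Fintype.card ι)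
    (hne : ∃ v, Q v ≠ 0) : (Cfsg.Omega F (⇑Q : (ι → F) → F)).index = 2 := by
  have hk : (C2.dickson Q hQ).ker = Cfsg.Omega F (⇑Q : (ι → F) → F) := by
    ext g
    rw [MonoidHom.mem_ker]
    exact C2.dickson_eq_one_iff Q hQ (Or.inr (by omega)) g
  have hs : Function.Surjective (C2.dickson Q hQ) := by
    obtain ⟨v, hv⟩ := hne
    intro z
    rcases Int.units_eq_one_or z with rfl | rfl
    · exact ⟨1, map_one _⟩
    · exact ⟨_, C2.dickson_refl Q hQ v hv⟩
  rw [← hk, Subgroup.index_ker, MonoidHom.range_eq_top.2 hs, Subgroup.card_top]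
  simp

theorem relIndex_inn_pgo_char2 [CharP F 2] (Q : QuadraticForm F (ι → F))
    (hQ : (QuadraticMap.polarBilin Q).Nondegenerate) (hn : 7 ≤ Fintype.card ι)
    (hne : ∃ v, Q v ≠ 0) :
    (Cfsg.Inn (Cfsg.POmega F (⇑Q : (ι → F) → F))).relIndex (cHom (⇑Q : (ι → F) → F)).range = 2 := by
  rw [range_cHom_char2 Q hne, inn_eq', MonoidHom.range_eq_map,
    Subgroup.relIndex_map_map_of_injective _ _ (c0_injective_char2 Q hQ hn hne),
    Subgroup.relIndex_top_right]
  exact omega_index_char2 Q hQ (by omega) hne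

end Cfsg.Agent.Lib.Helper16.OA
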