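import Mathlib
import Cfsg.Agent.Lib.Helper16.SpinE3
import Cfsg.Agent.Lib.Helper16.Gram

set_option autoImplicit false
set_option linter.unusedSectionVars false
set_option linter.unusedSimpArgs false

namespace Cfsg.Agent.Lib.Helper16

open Matrix Cfsg.Agent.Lib.helper6

variable {ι : Type} [Fintype ι] [DecidableEq ι] {F : Type*} [Field F]

theorem prod_refl_ortho (h2 : (2 : F) ≠ 0) (Q : QuadraticForm F (ι → F)) (w : ι → F) (hw0 : Q w ≠ 0) :
    ∀ (vs : List (ι → F)), (∀ v ∈ vs, v = w ∨ QuadraticMap.polar (⇑Q) v w = 0) →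
      ∃ c : ℕ, (vs.map (fun v => Cfsg.reflectionMatrix ⇑Q v)).prod *ᵥ w = (-1 : F) ^ c • w ∧
        (∀ [DecidableEq (ι → F)], c = vs.count w) := by
  intro vs
  induction vs with
  | nil =>
    intro _
    refine ⟨0, by simp, ?_⟩
    intro _; simp
  | cons v vs ih =>
    intro hvs
    obtain ⟨c, hc, hcount⟩ := ih (fun u hu => hvs u (List.mem_cons_of_mem _ hu))
    rw [List.map_cons, List.prod_cons, ← Matrix.mulVec_mulVec, hc, Matrix.mulVec_smul,
      reflectionMatrix_mulVec]
    rcases hvs v List.mem_cons_self with hv | hv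
    · refine ⟨c + 1, ?_, ?_⟩
      · rw [hv, QuadraticMap.polar_self]
        have : (Q w)⁻¹ * (2 • Q w) = 2 := by
          rw [nsmul_eq_mul]; push_cast; field_simp
        rw [this, pow_succ, mul_smul, two_smul]
        congr 1
        rw [neg_one_smul]
        abel
      · intro _
        rw [hv, List.count_cons_self, hcount]
    · refine ⟨c, ?_, ?_⟩
      · rw [hv, mul_zero, zero_smul, sub_zero]
      · intro _
        by_cases hvw : v = w
        · exfalso
          rw [hvw, QuadraticMap.polar_self, nsmul_eq_mul] at hv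
          push_cast at hv
          rcases mul_eq_zero.mp hv with h | h
          · exact h2 h
          · exact hw0 h
        · rw [List.count_cons_of_ne (fun h => hvw h), hcount]

theorem prod_refl_basis [Fintype F] (h2 : (2 : F) ≠ 0) (Q : QuadraticForm F (ι → F))
    {κ : Type*} [Fintype κ] (v : Module.Basis κ F (ι → F))
    (hortho : ∀ i j, i ≠ j → QuadraticMap.polar (⇑Q) (v i) (v j) = 0) (hQ : ∀ i, Q (v i) ≠ 0)
    (vs : List (ι → F)) (hnodup : vs.Nodup) (hmem : ∀ u, u ∈ vs ↔ ∃ i, v i = u) :
    (vs.map (fun u => Cfsg.reflectionMatrix ⇑Q u)).prod = -1 := by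
  classical
  set M := (vs.map (fun u => Cfsg.reflectionMatrix ⇑Q u)).prod with hM
  have hb : ∀ j, M *ᵥ v j = -(v j) := by
    intro j
    obtain ⟨c, hc, hcount⟩ := prod_refl_ortho h2 Q (v j) (hQ j) vs (by
      intro u hu
      obtain ⟨i, rfl⟩ := (hmem u).mp hu
      by_cases hij : i = j
      · left; rw [hij]
      · right; exact hortho i j hij)
    rw [hc, hcount, List.count_eq_one_of_mem hnodup ((hmem _).mpr ⟨j, rfl⟩), pow_one, neg_one_smul]
  have hL : Matrix.mulVecLin M = -LinearMap.id := by
    apply v.ext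
    intro j
    rw [Matrix.mulVecLin_apply, hb]
    simp
  rw [Matrix.ext_iff_mulVec]
  intro x
  have := congrArg (fun L => L x) hL
  simp only [Matrix.mulVecLin_apply, LinearMap.neg_apply, LinearMap.id_apply] at this
  rw [this, Matrix.neg_mulVec, Matrix.one_mulVec]

end Cfsg.Agent.Lib.Helper16
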