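import Mathlib
import Cfsg.Agent.Lib.Helper16.OA40
import Cfsg.Agent.S2728

set_option autoImplicit false
set_option linter.unusedSectionVars false
set_option linter.unusedVariables false

/-! Automorphisms of orthogonal groups, part 41: `|Aut(PΩ⁻_{2m}(q))|`. -/

namespace Cfsg.Agent.Lib.Helper16.OA

open Matrix Cfsg.Agent.Lib.Lead Cfsg.Agent.Lib.Lead.OA Cfsg.Agent.Lib.Helper16

universe u

theorem card_eq_relIndex_mul {G : Type*} [Group G] (I P : Subgroup G) (h : I ≤ P) :
    Nat.card P = I.relIndex P * Nat.card I := by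
  have h1 := Subgroup.card_mul_index (I.subgroupOf P)
  rw [Nat.card_congr (Subgroup.subgroupOfEquivOfLe h).toEquiv] at h1
  rw [← h1, mul_comm]
  rfl

theorem relIndex_of_hom {G H : Type*} [Group G] [Group H] (I P : Subgroup G) (φ : ↥P →* H)
    (hs : Function.Surjective φ) (hk : φ.ker = I.subgroupOf P) : I.relIndex P = Nat.card H := by
  show (I.subgroupOf P).index = _
  rw [← hk, Subgroup.index_ker, MonoidHom.range_eq_top.2 hs, Subgroup.card_top]

variable {F : Type u} [Field F] [Fintype F]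

theorem minus_exists_ne_zero (k : ℕ) (a b : F) : ∃ v, qfMinus k F a b v ≠ 0 := by
  refine ⟨Pi.single (Sum.inr 0) 1, ?_⟩
  rw [qfMinus_coe]
  unfold Cfsg.quadFormMinus
  simp

theorem minus_hyps (k : ℕ) (hk : 3 ≤ k) (a b : F)
    (hab : ∀ z₁ z₂ : F, z₁ ^ 2 + a * z₁ * z₂ + b * z₂ ^ 2 = 0 → z₁ = 0 ∧ z₂ = 0) :
    (QuadraticMap.polarBilin (qfMinus k F a b)).Nondegenerate ∧
    7 ≤ Fintype.card ((Fin k ⊕ Fin k) ⊕ Fin 2) ∧
    (9 ≤ Fintype.card ((Fin k ⊕ Fin k) ⊕ Fin 2) ∨ Fintype.card ((Fin k ⊕ Fin k) ⊕ Fin 2) ≤ 7 ∨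
      ∀ U : Submodule F ((Fin k ⊕ Fin k) ⊕ Fin 2 → F), (∀ u ∈ U, qfMinus k F a b u = 0) →
        Module.finrank F U ≤ 3) := by
  have hcard : Fintype.card ((Fin k ⊕ Fin k) ⊕ Fin 2) = k + k + 2 := by simp
  refine ⟨OSemi.qfMinus_nondeg k a b hab, by rw [hcard]; omega, ?_⟩
  rw [hcard]
  by_cases h : 4 ≤ k
  · left; omega
  · right; right
    intro U hU
    have h3 : Module.finrank F ↥U ≤ k :=
      Cfsg.Agent.Lib.Lead.WI.minus_ts_le (k := k) (a := a) (b := b) hab U hU
    omega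

set_option maxHeartbeats 1600000 in
theorem S0818_aux (p f : ℕ) [Fact p.Prime] (hf : 1 ≤ f) (hF : Fintype.card F = p ^ f) (m : ℕ)
    (hm : 4 ≤ m) (a b : F)
    (hab : ∀ z₁ z₂ : F, z₁ ^ 2 + a * z₁ * z₂ + b * z₂ ^ 2 = 0 → z₁ = 0 ∧ z₂ = 0) :
    Nat.card (MulAut (Cfsg.POmega F (Cfsg.quadFormMinus (m - 1) F a b))) =
      (if p = 2 then 2 else (if Even (m * (p ^ f - 1) / 2) then 4 else 8)) * f *
        Nat.card (Cfsg.POmega F (Cfsg.quadFormMinus (m - 1) F a b)) := by
  have : CharP F p := charP_of_card_eq_prime_pow hF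
  obtain ⟨hQ, hn, hT⟩ := minus_hyps (m - 1) (by omega) a b hab
  have hne := minus_exists_ne_zero (F := F) (m - 1) a b
  have h1 := card_aut_eq (qfMinus (m - 1) F a b) hQ hn hT
    (ssRight_surjective_minus hF (m - 1) a b hab)
  rw [card_ringAut hF] at h1
  have hIP : Cfsg.Inn (Cfsg.POmega F (⇑(qfMinus (m - 1) F a b))) ≤
      (cHom (⇑(qfMinus (m - 1) F a b))).range := by
    rw [inn_eq']
    rintro _ ⟨s, -, rfl⟩
    exact ⟨_, rfl⟩
  have h2 := card_eq_relIndex_mul _ _ hIP
  have hinj := conj_POmega_injective' (qfMinus (m - 1) F a b) hQ hn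
  have h3 : Nat.card (Cfsg.Inn (Cfsg.POmega F (⇑(qfMinus (m - 1) F a b)))) =
      Nat.card (Cfsg.POmega F (⇑(qfMinus (m - 1) F a b))) :=
    (Nat.card_congr (MonoidHom.ofInjective hinj).toEquiv).symm
  have h4 : (Cfsg.Inn (Cfsg.POmega F (⇑(qfMinus (m - 1) F a b)))).relIndex
      (cHom (⇑(qfMinus (m - 1) F a b))).range =
      (if p = 2 then 2 else (if Even (m * (p ^ f - 1) / 2) then 4 else 8)) := by
    by_cases hp : p = 2
    · rw [if_pos hp]
      subst hp
      have h5 := relIndex_inn_pgo_char2 (qfMinus (m - 1) F a b) hQ hn hne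
      exact h5
    · rw [if_neg hp]
      have hpodd : Odd p := (Fact.out : p.Prime).odd_of_ne_two hp
      have hodd : Odd (Fintype.card F) := by rw [hF]; exact hpodd.pow
      have hS := Cfsg.Agent.S2728.result hodd (m := m - 1) (by omega) a b hab
      rw [pgoAut_eq] at hS
      have hq2 : (p ^ f) % 2 = 1 := Nat.odd_iff.1 hpodd.pow
      have hdiv : m * (p ^ f - 1) / 2 = m * ((p ^ f - 1) / 2) :=
        Nat.mul_div_assoc m (by omega)
      have hiff : Even (m * (p ^ f - 1) / 2) ↔ ¬ (Even (m - 1) ∧ Fintype.card F % 4 = 3) := by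
        rw [hdiv, Nat.even_mul, hF]
        have hm1 : Even (m - 1) ↔ ¬ Even m := by
          rw [Nat.even_iff, Nat.even_iff]
          omega
        rw [hm1]
        have hr : Even ((p ^ f - 1) / 2) ↔ p ^ f % 4 = 1 := by
          rw [Nat.even_iff]
          omega
        rw [hr]
        constructor
        · rintro (h | h) ⟨h5, h6⟩
          · exact h5 h
          · omega
        · intro h
          by_cases h5 : Even m
          · exact Or.inl h5
          · right
            have : ¬ p ^ f % 4 = 3 := fun h6 => h ⟨h5, h6⟩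
            omega
      by_cases hc : Even (m - 1) ∧ Fintype.card F % 4 = 3
      · rw [if_neg (fun h => (hiff.1 h) hc)]
        obtain ⟨φ, hφs, hφk⟩ := hS.1 hc
        exact (relIndex_of_hom _ _ φ hφs hφk).trans (by rw [DihedralGroup.nat_card])
      · rw [if_pos (hiff.2 hc)]
        obtain ⟨φ, hφs, hφk⟩ := hS.2 hc
        exact (relIndex_of_hom _ _ φ hφs hφk).trans (by
          rw [Nat.card_eq_fintype_card, Fintype.card_multiplicative, Fintype.card_prod, ZMod.card])
  rw [h2, h3, h4] at h1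
  rw [← qfMinus_coe, h1]
  ring

end Cfsg.Agent.Lib.Helper16.OA
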