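import Mathlib

set_option autoImplicit false
set_option linter.unusedSectionVars false
set_option linter.unusedVariables false

/-! Automorphisms of orthogonal groups, part 42: the absolute trace in characteristic two and the
Artin--Schreier equation. -/

namespace Cfsg.Agent.Lib.Helper16.OA

universe u

variable {F : Type u} [Field F] [Fintype F]

/-- the absolute trace of a field with `2 ^ f` elements. -/
def tr2 (f : ℕ) (β : F) : F := ∑ i ∈ Finset.range f, β ^ 2 ^ i

theorem tr2_succ (f : ℕ) (β : F) : tr2 (f + 1) β = tr2 f β + β ^ 2 ^ f := by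
  unfold tr2
  rw [Finset.sum_range_succ]

theorem tr2_sq [CharP F 2] (f : ℕ) (β : F) : tr2 f β ^ 2 + β = tr2 f β + β ^ 2 ^ f := by
  induction f with
  | zero => simp [tr2]
  | succ f ih =>
    rw [tr2_succ, add_pow_char, ← pow_mul, ← pow_succ]
    linear_combination ih

theorem tr2_sq_eq [CharP F 2] {f : ℕ} (hF : Fintype.card F = 2 ^ f) (β : F) :
    tr2 f β ^ 2 = tr2 f β := by
  have h1 := tr2_sq f β
  have h2 : β ^ 2 ^ f = β := by rw [← hF, FiniteField.pow_card]
  rw [h2] at h1
  exact add_right_cancel h1

theorem tr2_zero_or_one [CharP F 2] {f : ℕ} (hF : Fintype.card F = 2 ^ f) (β : F) :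
    tr2 f β = 0 ∨ tr2 f β = 1 := by
  have h1 := tr2_sq_eq hF β
  have h2 : tr2 f β * (tr2 f β - 1) = 0 := by linear_combination h1
  rcases mul_eq_zero.1 h2 with h | h
  · exact Or.inl h
  · exact Or.inr (by linear_combination h)

theorem tr2_add [CharP F 2] (f : ℕ) (x y : F) : tr2 f (x + y) = tr2 f x + tr2 f y := by
  unfold tr2
  rw [← Finset.sum_add_distrib]
  apply Finset.sum_congr rfl
  intro i _
  exact add_pow_char_pow x y 2 i

theorem tr2_artin [CharP F 2] {f : ℕ} (hF : Fintype.card F = 2 ^ f) (c : F) :
    tr2 f (c ^ 2 + c) = 0 := by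
  rw [tr2_add]
  have h1 : tr2 f (c ^ 2) = tr2 f c ^ 2 := by
    unfold tr2
    rw [sum_pow_char]
    apply Finset.sum_congr rfl
    intro i _
    rw [← pow_mul, ← pow_mul, mul_comm]
  rw [h1, tr2_sq_eq hF]
  exact CharTwo.add_self_eq_zero _

open Polynomial in
/-- the Artin--Schreier equation `c² + c = β` is solvable when the trace of `β` vanishes. -/
theorem exists_artin_schreier [CharP F 2] {f : ℕ} (hf : 1 ≤ f) (hF : Fintype.card F = 2 ^ f)
    (β : F) (hβ : tr2 f β = 0) : ∃ c : F, c ^ 2 + c = β := by
  classical
  let P : F[X] := ∑ i ∈ Finset.range f, (X : F[X]) ^ 2 ^ i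
  have hPeval : ∀ x : F, P.eval x = tr2 f x := by
    intro x
    simp only [P, tr2, eval_finsetSum, eval_pow, eval_X]
  have hdeg : P.natDegree ≤ 2 ^ (f - 1) := by
    apply Polynomial.natDegree_sum_le_of_forall_le
    intro i hi
    rw [natDegree_X_pow]
    apply Nat.pow_le_pow_right (by norm_num)
    rw [Finset.mem_range] at hi
    omega
  have hP0 : P ≠ 0 := by
    intro h
    have h1 : P.coeff 1 = 1 := by
      simp only [P, finsetSum_coeff, coeff_X_pow]
      rw [Finset.sum_eq_single 0]
      · simp
      · intro i _ hi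
        have : 2 ≤ 2 ^ i := by
          calc 2 = 2 ^ 1 := by norm_num
            _ ≤ 2 ^ i := Nat.pow_le_pow_right (by norm_num) (by omega)
        rw [if_neg (by omega)]
      · intro h0
        exfalso
        apply h0
        rw [Finset.mem_range]
        omega
    rw [h, coeff_zero] at h1
    exact zero_ne_one h1
  let S : Finset F := Finset.univ.image (fun c : F => c ^ 2 + c)
  have hSZ : S ⊆ P.roots.toFinset := by
    intro y hy
    obtain ⟨c, -, rfl⟩ := Finset.mem_image.1 hy
    rw [Multiset.mem_toFinset, mem_roots hP0, IsRoot, hPeval]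
    exact tr2_artin hF c
  have hcardS : 2 ^ (f - 1) ≤ S.card := by
    have h1 : (Finset.univ : Finset F).card ≤ 2 * S.card := by
      apply Finset.card_le_mul_card_image
      intro y _
      by_cases hy : ∃ c : F, c ^ 2 + c = y
      · obtain ⟨c, rfl⟩ := hy
        have : Finset.univ.filter (fun x : F => x ^ 2 + x = c ^ 2 + c) ⊆ {c, c + 1} := by
          intro x hx
          rw [Finset.mem_filter] at hx
          have h2 : (x - c) * (x - (c + 1)) = 0 := by
            have h3 : (2 : F) = 0 := CharTwo.two_eq_zero
            linear_combination hx.2 + (-x - c * x + c ^ 2 + c) * h3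
          rw [Finset.mem_insert, Finset.mem_singleton]
          rcases mul_eq_zero.1 h2 with h | h
          · exact Or.inl (by linear_combination h)
          · exact Or.inr (by linear_combination h)
        exact (Finset.card_le_card this).trans Finset.card_le_two
      · have : Finset.univ.filter (fun x : F => x ^ 2 + x = y) = ∅ := by
          rw [Finset.filter_eq_empty_iff]
          intro x _ hx
          exact hy ⟨x, hx⟩
        rw [this]
        simp
    rw [Finset.card_univ, hF] at h1
    have h2 : 2 ^ f = 2 * 2 ^ (f - 1) := by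
      rw [← pow_succ']
      congr 1
      omega
    omega
  have hcardZ : P.roots.toFinset.card ≤ 2 ^ (f - 1) :=
    (Multiset.toFinset_card_le _).trans ((Polynomial.card_roots' P).trans hdeg)
  have hSeq : S = P.roots.toFinset := Finset.eq_of_subset_of_card_le hSZ (hcardZ.trans hcardS)
  have hβZ : β ∈ P.roots.toFinset := by
    rw [Multiset.mem_toFinset, mem_roots hP0, IsRoot, hPeval]
    exact hβ
  rw [← hSeq] at hβZ
  obtain ⟨c, -, hc⟩ := Finset.mem_image.1 hβZ
  exact ⟨c, hc⟩

end Cfsg.Agent.Lib.Helper16.OA
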