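import Mathlib
import Cfsg.Agent.Lib.Helper16.OA41
import Cfsg.Agent.Lib.Helper16.OA42

set_option autoImplicit false
set_option linter.unusedSectionVars false
set_option linter.unusedVariables false

/-! Automorphisms of orthogonal groups, part 43: powers of block semisimilarities. -/

namespace Cfsg.Agent.Lib.Helper16.OA

open Matrix Cfsg.Agent.Lib.Lead Cfsg.Agent.Lib.Lead.OA Cfsg.Agent.Lib.Helper16

universe u

variable {α : Type} [Fintype α] [DecidableEq α] {F : Type u} [Field F]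

/-- the twisted product `T σ(T) ⋯ σ^{j-1}(T)`. -/
noncomputable def twProd (σ : RingAut F) (T : GL (Fin 2) F) : ℕ → GL (Fin 2) F
  | 0 => 1
  | j + 1 => twProd σ T j * glMapEquiv (σ ^ j) T

theorem twProd_zero (σ : RingAut F) (T : GL (Fin 2) F) : twProd σ T 0 = 1 := rfl

theorem twProd_succ (σ : RingAut F) (T : GL (Fin 2) F) (j : ℕ) :
    twProd σ T (j + 1) = twProd σ T j * glMapEquiv (σ ^ j) T := rfl

theorem pow_block (Q : (α ⊕ Fin 2 → F) → F) (x : ↥(gammaO Q)) (T : GL (Fin 2) F)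
    (hx : (x : GammaL (α ⊕ Fin 2) F).left = blockGL α F T) (j : ℕ) :
    ((x ^ j : ↥(gammaO Q)) : GammaL (α ⊕ Fin 2) F).left =
        blockGL α F (twProd (x : GammaL (α ⊕ Fin 2) F).right T j) ∧
      ((x ^ j : ↥(gammaO Q)) : GammaL (α ⊕ Fin 2) F).right =
        (x : GammaL (α ⊕ Fin 2) F).right ^ j := by
  induction j with
  | zero =>
    rw [pow_zero, pow_zero, twProd_zero, map_one]
    exact ⟨rfl, rfl⟩
  | succ j ih =>
    rw [pow_succ, Subgroup.coe_mul, SemidirectProduct.mul_left, SemidirectProduct.mul_right, ih.1,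
      ih.2, hx, twProd_succ, map_mul, fldAct_apply, blockGL_map, pow_succ]
    exact ⟨rfl, rfl⟩

theorem det_glMapEquiv {n : Type} [Fintype n] [DecidableEq n] (σ : F ≃+* F) (T : GL n F) :
    ((glMapEquiv σ T : GL n F) : Matrix n n F).det = σ ((T : Matrix n n F).det) := by
  rw [glMapEquiv_val]
  exact (RingHom.map_det (σ : F →+* F) (T : Matrix n n F)).symm

theorem det_twProd (σ : RingAut F) (T : GL (Fin 2) F) (j : ℕ) :
    ((twProd σ T j : GL (Fin 2) F) : Matrix (Fin 2) (Fin 2) F).det =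
      ∏ i ∈ Finset.range j, (σ ^ i) ((T : Matrix (Fin 2) (Fin 2) F).det) := by
  induction j with
  | zero => simp [twProd_zero]
  | succ j ih =>
    rw [twProd_succ, Units.val_mul, Matrix.det_mul, ih, det_glMapEquiv, Finset.prod_range_succ]

/-- the `f`-th power of a block semisimilarity whose field automorphism has order dividing `f`
is a similarity. -/
theorem pow_block_eq (Q : (α ⊕ Fin 2 → F) → F) (x : ↥(gammaO Q)) (T : GL (Fin 2) F)
    (hx : (x : GammaL (α ⊕ Fin 2) F).left = blockGL α F T) (j : ℕ)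
    (hj : (x : GammaL (α ⊕ Fin 2) F).right ^ j = 1) :
    ∃ hmem : blockGL α F (twProd (x : GammaL (α ⊕ Fin 2) F).right T j) ∈ GO Q,
      x ^ j = goIncl Q ⟨_, hmem⟩ := by
  obtain ⟨h1, h2⟩ := pow_block Q x T hx j
  rw [hj] at h2
  have h3 : ((x ^ j : ↥(gammaO Q)) : GammaL (α ⊕ Fin 2) F) =
      SemidirectProduct.inl (blockGL α F (twProd (x : GammaL (α ⊕ Fin 2) F).right T j)) := by
    apply SemidirectProduct.ext
    · exact h1
    · exact h2
  have hmem : blockGL α F (twProd (x : GammaL (α ⊕ Fin 2) F).right T j) ∈ GO Q := by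
    rw [← inl_mem_gammaO, ← h3]
    exact (x ^ j).2
  exact ⟨hmem, Subtype.ext h3⟩

end Cfsg.Agent.Lib.Helper16.OA
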