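import Mathlib
import Cfsg.Agent.Lib.Helper16.OA43

set_option autoImplicit false
set_option linter.unusedSectionVars false
set_option linter.unusedVariables false

/-! Automorphisms of orthogonal groups, part 44: in characteristic two the `f`-th power of the
Frobenius semisimilarity of a minus-type form is a reflection. -/

namespace Cfsg.Agent.Lib.Helper16.OA

open Matrix Cfsg.Agent.Lib.Lead Cfsg.Agent.Lib.Lead.OA Cfsg.Agent.Lib.Helper16

universe u

variable {F : Type u} [Field F] [Fintype F] [CharP F 2]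

theorem glMap_frob_tEven (a b : F) (ha : a ≠ 0) (j : ℕ) :
    ((glMapEquiv (frobAut F 2 ^ j) (tEven a b ha) : GL (Fin 2) F) : Matrix (Fin 2) (Fin 2) F) =
      !![1, b ^ 2 ^ j; 0, a ^ 2 ^ j] := by
  rw [glMapEquiv_val, tEven_coe]
  ext i k
  fin_cases i <;> fin_cases k
  · show (frobAut F 2 ^ j) 1 = 1
    exact map_one _
  · show (frobAut F 2 ^ j) b = b ^ 2 ^ j
    exact frobAut_pow_apply j b
  · show (frobAut F 2 ^ j) 0 = 0
    exact map_zero _
  · show (frobAut F 2 ^ j) a = a ^ 2 ^ j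
    exact frobAut_pow_apply j a

theorem twProd_even (a b : F) (ha : a ≠ 0) (j : ℕ) :
    ((twProd (frobAut F 2) (tEven a b ha) j : GL (Fin 2) F) : Matrix (Fin 2) (Fin 2) F) =
      !![1, a ^ 2 ^ j * tr2 j (b * (a ^ 2)⁻¹); 0, a ^ (2 ^ j - 1)] := by
  induction j with
  | zero =>
    rw [twProd_zero, Units.val_one]
    ext i k
    fin_cases i <;> fin_cases k <;> simp [tr2]
  | succ j ih =>
    rw [twProd_succ, Units.val_mul, ih, glMap_frob_tEven, tr2_succ]
    have h1 : 2 ^ j - 1 + 2 ^ j = 2 ^ (j + 1) - 1 := by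
      have := Nat.one_le_two_pow (n := j)
      rw [pow_succ]
      omega
    ext i k
    fin_cases i <;> fin_cases k
    · simp [Matrix.mul_apply, Fin.sum_univ_two]
    · simp only [Matrix.mul_apply, Fin.sum_univ_two]
      simp
      rw [pow_succ 2 j, pow_mul, mul_pow, inv_pow]
      field_simp
      ring
    · simp [Matrix.mul_apply, Fin.sum_univ_two]
    · simp only [Matrix.mul_apply, Fin.sum_univ_two]
      simp
      rw [← pow_add, h1]

theorem tr2_eq_one_of_aniso {f : ℕ} (hf : 1 ≤ f) (hF : Fintype.card F = 2 ^ f) (a b : F)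
    (ha : a ≠ 0)
    (hab : ∀ z₁ z₂ : F, z₁ ^ 2 + a * z₁ * z₂ + b * z₂ ^ 2 = 0 → z₁ = 0 ∧ z₂ = 0) :
    tr2 f (b * (a ^ 2)⁻¹) = 1 := by
  rcases tr2_zero_or_one hF (b * (a ^ 2)⁻¹) with h | h
  · exfalso
    obtain ⟨c, hc⟩ := exists_artin_schreier hf hF _ h
    have h2 : (2 : F) = 0 := CharTwo.two_eq_zero
    have h1 := hab (a * c) 1 (by
      have hb : b = (c ^ 2 + c) * a ^ 2 := by
        rw [hc]
        field_simp
      rw [hb]
      linear_combination (a ^ 2 * c ^ 2 + a ^ 2 * c) * h2)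
    exact one_ne_zero h1.2
  · exact h

theorem twProd_even_f {f : ℕ} (hf : 1 ≤ f) (hF : Fintype.card F = 2 ^ f) (a b : F) (ha : a ≠ 0)
    (hab : ∀ z₁ z₂ : F, z₁ ^ 2 + a * z₁ * z₂ + b * z₂ ^ 2 = 0 → z₁ = 0 ∧ z₂ = 0) :
    ((twProd (frobAut F 2) (tEven a b ha) f : GL (Fin 2) F) : Matrix (Fin 2) (Fin 2) F) =
      !![1, a; 0, 1] := by
  rw [twProd_even, tr2_eq_one_of_aniso hf hF a b ha hab, mul_one, ← hF, FiniteField.pow_card,
    FiniteField.pow_card_sub_one_eq_one a ha]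

/-- the reflection in the first anisotropic basis vector. -/
theorem block_eq_refl (k : ℕ) (a b : F) (T : GL (Fin 2) F)
    (hT : (T : Matrix (Fin 2) (Fin 2) F) = !![1, a; 0, 1]) :
    ((blockGL (Fin k ⊕ Fin k) F T : GL ((Fin k ⊕ Fin k) ⊕ Fin 2) F) :
      Matrix ((Fin k ⊕ Fin k) ⊕ Fin 2) ((Fin k ⊕ Fin k) ⊕ Fin 2) F) =
      Cfsg.reflectionMatrix (⇑(qfMinus k F a b)) (Pi.single (Sum.inr 0) 1) := by
  have h2 : (2 : F) = 0 := CharTwo.two_eq_zero
  apply Matrix.toLin'.injective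
  apply LinearMap.ext
  intro x
  rw [Matrix.toLin'_apply, Matrix.toLin'_apply, blockGL_mulVec,
    Cfsg.Agent.Lib.helper6.reflectionMatrix_mulVec, qfMinus_coe, polar_minus', hT]
  have hQ : Cfsg.quadFormMinus k F a b (Pi.single (Sum.inr 0) 1) = 1 := by
    unfold Cfsg.quadFormMinus
    simp
  rw [hQ]
  funext i
  rcases i with i | i
  · simp
  · fin_cases i
    · simp [dotProduct, Fin.sum_univ_two]
      linear_combination (x (Sum.inr 0) + a * x (Sum.inr 1)) * h2 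
    · simp [dotProduct, Fin.sum_univ_two]

/-- in characteristic two the `f`-th power of the Frobenius semisimilarity is not inner. -/
theorem frob_pow_not_inn_even {f : ℕ} (hf : 1 ≤ f) (hF : Fintype.card F = 2 ^ f) (k : ℕ)
    (hk : 3 ≤ k) (a b : F)
    (hab : ∀ z₁ z₂ : F, z₁ ^ 2 + a * z₁ * z₂ + b * z₂ ^ 2 = 0 → z₁ = 0 ∧ z₂ = 0) :
    ssHom (⇑(qfMinus k F a b)) ((frobSSEven (p := 2) rfl k a b hab) ^ f) ∉
      Cfsg.Inn (Cfsg.POmega F (⇑(qfMinus k F a b))) := by
  obtain ⟨hQ, hn, hT⟩ := minus_hyps k hk a b hab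
  have hne := minus_exists_ne_zero (F := F) k a b
  have ha : a ≠ 0 := mid_ne_zero (two_eq_zero_of_char (p := 2) rfl) a b hab
  have hx := frobSSEven_left (p := 2) rfl k a b hab
  have hj : ((frobSSEven (p := 2) rfl k a b hab : ↥(gammaO (Cfsg.quadFormMinus k F a b))) :
      GammaL ((Fin k ⊕ Fin k) ⊕ Fin 2) F).right ^ f = 1 :=
    (frobAut_pow_eq_one_iff hF f).2 dvd_rfl
  obtain ⟨hmem, hpow⟩ := pow_block_eq _ _ _ hx f hj
  have hu : qfMinus k F a b (Pi.single (Sum.inr 0) 1) ≠ 0 := by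
    rw [qfMinus_coe]
    unfold Cfsg.quadFormMinus
    simp
  have hmat := twProd_even_f hf hF a b ha hab
  have hrefl := block_eq_refl k a b _ hmat
  have he : (⟨_, hmem⟩ : ↥(GO (⇑(qfMinus k F a b)))) =
      isoToGO (qfMinus k F a b) (CDG.refl (qfMinus k F a b) _ hu) :=
    Subtype.ext (Units.ext hrefl)
  have h1 : ssHom (⇑(qfMinus k F a b)) ((frobSSEven (p := 2) rfl k a b hab) ^ f) =
      c0 (qfMinus k F a b) (CDG.refl (qfMinus k F a b) _ hu) := by
    rw [c0_apply, ← he, ← ssHom_goIncl]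
    exact congrArg _ hpow
  rw [h1, inn_eq']
  rintro ⟨ω, hω, h⟩
  have h3 := c0_injective_char2 (qfMinus k F a b) hQ hn hne h
  have hd := (C2.dickson_eq_one_iff (qfMinus k F a b) hQ (Or.inr (by omega)) ω).2 hω
  rw [h3, C2.dickson_refl] at hd
  exact absurd hd (by decide)

end Cfsg.Agent.Lib.Helper16.OA
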