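import Mathlib
import Cfsg.Agent.Lib.Helper16.OA44

set_option autoImplicit false
set_option linter.unusedSectionVars false
set_option linter.unusedVariables false

/-! Automorphisms of orthogonal groups, part 45: `Out(PΩ⁻_{2m}(2^f))` is cyclic of order `2f`. -/

namespace Cfsg.Agent.Lib.Helper16.OA

open Matrix Cfsg.Agent.Lib.Lead Cfsg.Agent.Lib.Lead.OA Cfsg.Agent.Lib.Helper16

universe u

theorem cyclic_of_ext {G R : Type*} [Group G] [Group R] (θ : G →* R) (f : ℕ) (hf : 1 ≤ f)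
    (hG : Nat.card G = 2 * f) (ψ : G) (hψ : orderOf (θ ψ) = f) (hψf : ψ ^ f ≠ 1) :
    IsCyclic G := by
  have : Finite G := Nat.finite_of_card_ne_zero (by omega)
  have h1 : f ∣ orderOf ψ := by
    rw [← hψ]
    exact orderOf_map_dvd θ ψ
  have h2 : orderOf ψ ∣ 2 * f := by
    rw [← hG]
    exact orderOf_dvd_natCard ψ
  have h3 : orderOf ψ ≠ f := by
    intro h
    apply hψf
    rw [← h]
    exact pow_orderOf_eq_one ψ
  obtain ⟨d, hd⟩ := h1
  have h4 : d ∣ 2 := by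
    rw [hd] at h2
    rw [mul_comm 2 f] at h2
    exact (Nat.mul_dvd_mul_iff_left (by omega)).1 h2
  have h5 : d = 1 ∨ d = 2 := by
    have := Nat.le_of_dvd (by norm_num) h4
    interval_cases d
    · simp at h4
    · exact Or.inl rfl
    · exact Or.inr rfl
  rcases h5 with rfl | rfl
  · rw [mul_one] at hd
    exact absurd hd h3
  · apply isCyclic_of_orderOf_eq_card ψ
    rw [hG, hd, mul_comm]

variable {F : Type u} [Field F] [Fintype F]

set_option maxHeartbeats 1600000 in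
theorem S2605_aux {f m : ℕ} (hf : 1 ≤ f) (hF : Fintype.card F = 2 ^ f) (hm : 4 ≤ m) (a b : F)
    (hab : ∀ z₁ z₂ : F, z₁ ^ 2 + a * z₁ * z₂ + b * z₂ ^ 2 = 0 → z₁ = 0 ∧ z₂ = 0) :
    IsCyclic (Cfsg.Out (Cfsg.POmega F (Cfsg.quadFormMinus (m - 1) F a b))) ∧
      Nat.card (Cfsg.Out (Cfsg.POmega F (Cfsg.quadFormMinus (m - 1) F a b))) = 2 * f := by
  have : Fact (Nat.Prime 2) := ⟨Nat.prime_two⟩
  have : CharP F 2 := charP_of_card_eq_prime_pow hF
  obtain ⟨hQ, hn, hT⟩ := minus_hyps (m - 1) (by omega) a b hab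
  have hne := minus_exists_ne_zero (F := F) (m - 1) a b
  obtain ⟨θ, hθ1, hθ2, hθ3⟩ := exists_theta (qfMinus (m - 1) F a b) hQ hn hT
  have h1 := card_aut_eq (qfMinus (m - 1) F a b) hQ hn hT
    (ssRight_surjective_minus hF (m - 1) a b hab)
  rw [card_ringAut hF] at h1
  have hIP : Cfsg.Inn (Cfsg.POmega F (⇑(qfMinus (m - 1) F a b))) ≤
      (cHom (⇑(qfMinus (m - 1) F a b))).range := by
    rw [inn_eq']
    rintro _ ⟨s, -, rfl⟩
    exact ⟨_, rfl⟩
  have h2 := card_eq_relIndex_mul _ _ hIP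
  rw [relIndex_inn_pgo_char2 (qfMinus (m - 1) F a b) hQ hn hne] at h2
  have h3 := Subgroup.card_eq_card_quotient_mul_card_subgroup
    (Cfsg.Inn (Cfsg.POmega F (⇑(qfMinus (m - 1) F a b))))
  have hI0 : 0 < Nat.card (Cfsg.Inn (Cfsg.POmega F (⇑(qfMinus (m - 1) F a b)))) := Nat.card_pos
  have hcard : Nat.card (Cfsg.Out (Cfsg.POmega F (⇑(qfMinus (m - 1) F a b)))) = 2 * f := by
    rw [h1, h2] at h3
    have h4 : (f * 2) * Nat.card (Cfsg.Inn (Cfsg.POmega F (⇑(qfMinus (m - 1) F a b)))) =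
        Nat.card (Cfsg.Out (Cfsg.POmega F (⇑(qfMinus (m - 1) F a b)))) *
          Nat.card (Cfsg.Inn (Cfsg.POmega F (⇑(qfMinus (m - 1) F a b)))) := by
      rw [← h3]; ring
    have h5 := Nat.eq_of_mul_eq_mul_right hI0 h4
    omega
  refine ⟨?_, hcard⟩
  have hIk : Cfsg.Inn (Cfsg.POmega F (⇑(qfMinus (m - 1) F a b))) ≤ θ.ker := by
    rw [hθ2]; exact hIP
  let θ' : Cfsg.Out (Cfsg.POmega F (⇑(qfMinus (m - 1) F a b))) →* RingAut F :=
    QuotientGroup.lift _ θ hIk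
  let x₀ : ↥(gammaO (⇑(qfMinus (m - 1) F a b))) := frobSSEven (p := 2) rfl (m - 1) a b hab
  have hψ : orderOf (θ' (QuotientGroup.mk (ssHom (⇑(qfMinus (m - 1) F a b)) x₀))) = f := by
    show orderOf (θ (ssHom (⇑(qfMinus (m - 1) F a b)) x₀)) = f
    rw [hθ1 x₀]
    exact orderOf_frobAut hF
  have hψf : (QuotientGroup.mk (ssHom (⇑(qfMinus (m - 1) F a b)) x₀) :
      Cfsg.Out (Cfsg.POmega F (⇑(qfMinus (m - 1) F a b)))) ^ f ≠ 1 := by
    rw [← QuotientGroup.mk_pow, ← map_pow]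
    intro h
    rw [QuotientGroup.eq_one_iff] at h
    exact frob_pow_not_inn_even hf hF (m - 1) (by omega) a b hab h
  exact cyclic_of_ext θ' f hf hcard _ hψ hψf

end Cfsg.Agent.Lib.Helper16.OA
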