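import Mathlib

set_option autoImplicit false
set_option linter.unusedSectionVars false
set_option linter.unusedVariables false

/-! Automorphisms of orthogonal groups, part 46: abstract extension lemmas
(`D₈ × C_f` and `C₂ × C_{2f}`). -/

namespace Cfsg.Agent.Lib.Helper16.OA

open DihedralGroup

/-- the map of `D₈` determined by the images of the generators. -/
def genMapD8 (a b : DihedralGroup 4) : DihedralGroup 4 → DihedralGroup 4
  | r i => a ^ i.val
  | sr i => b * a ^ i.val

set_option maxRecDepth 100000 in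
set_option maxHeartbeats 4000000 in
theorem genMapD8_pow4 : ∀ a b : DihedralGroup 4,
    a ^ 2 ≠ 1 → a ^ 4 = 1 → b ^ 2 = 1 → b ≠ 1 → b ≠ a ^ 2 →
    (∀ x, genMapD8 a b (genMapD8 a b (genMapD8 a b (genMapD8 a b x))) = x) := by
  decide

theorem mulAut_eq_genMapD8 (α : MulAut (DihedralGroup 4)) (x : DihedralGroup 4) :
    α x = genMapD8 (α (r 1)) (α (sr 0)) x := by
  rcases x with i | i
  · show α (r i) = α (r 1) ^ i.val
    rw [← map_pow, r_one_pow, ZMod.natCast_zmod_val]
  · show α (sr i) = α (sr 0) * α (r 1) ^ i.val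
    rw [← map_pow, ← map_mul, r_one_pow, ZMod.natCast_zmod_val, sr_mul_r, zero_add]

/-- every automorphism of `D₈` has order dividing four. -/
theorem mulAut_D8_pow4 (α : MulAut (DihedralGroup 4)) : α ^ 4 = 1 := by
  apply MulEquiv.ext
  intro x
  have h1 : α (r 1) ^ 2 ≠ 1 := by
    rw [← map_pow]
    intro h
    have := α.injective (h.trans (map_one α).symm)
    revert this
    decide
  have h2 : α (r 1) ^ 4 = 1 := by
    rw [← map_pow]
    have : (r 1 : DihedralGroup 4) ^ 4 = 1 := by decide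
    rw [this, map_one]
  have h3 : α (sr 0) ^ 2 = 1 := by
    rw [← map_pow]
    have : (sr 0 : DihedralGroup 4) ^ 2 = 1 := by decide
    rw [this, map_one]
  have h4 : α (sr 0) ≠ 1 := by
    intro h
    have := α.injective (h.trans (map_one α).symm)
    revert this
    decide
  have h5 : α (sr 0) ≠ α (r 1) ^ 2 := by
    rw [← map_pow]
    intro h
    have := α.injective h
    revert this
    decide
  have h6 := genMapD8_pow4 _ _ h1 h2 h3 h4 h5 x
  rw [← mulAut_eq_genMapD8, ← mulAut_eq_genMapD8, ← mulAut_eq_genMapD8, ← mulAut_eq_genMapD8] at h6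
  exact h6

/-- an extension of a cyclic group of odd order `f` by `D₈` is `D₈ × C_f`. -/
theorem dihedral_ext {G R : Type*} [Group G] [Group R] [Finite G] (θ : G →* R)
    (hθ : Function.Surjective θ) [IsCyclic R] (f : ℕ) (hR : Nat.card R = f) (hodd : Odd f)
    (e : ↥θ.ker ≃* DihedralGroup 4) :
    Nonempty (G ≃* DihedralGroup 4 × Multiplicative (ZMod f)) := by
  classical
  have hV8 : Nat.card θ.ker = 8 := by
    rw [Nat.card_congr e.toEquiv, DihedralGroup.nat_card]
  have hidx : θ.ker.index = f := by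
    rw [Subgroup.index_ker, MonoidHom.range_eq_top.2 hθ, Subgroup.card_top, hR]
  have hcop : Nat.Coprime (Nat.card θ.ker) θ.ker.index := by
    rw [hV8, hidx]
    have : Nat.Coprime (2 ^ 3) f := Nat.Coprime.pow_left 3 (Nat.coprime_two_left.2 hodd)
    exact this
  obtain ⟨K, hK⟩ := Subgroup.exists_right_complement'_of_coprime hcop
  have hKcard : Nat.card K = f := by
    rw [← hK.symm.index_eq_card, hidx]
  have hf0 : f ≠ 0 := by
    rintro rfl
    exact absurd hodd (by decide)
  have : NeZero f := ⟨hf0⟩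
  -- `K` is cyclic
  have hKinj : Function.Injective (θ.comp K.subtype) := by
    rw [injective_iff_map_eq_one]
    intro k hk
    have h1 : (k : G) ∈ θ.ker ⊓ K := ⟨hk, k.2⟩
    rw [hK.disjoint.eq_bot, Subgroup.mem_bot] at h1
    exact Subtype.ext h1
  have hKcyc : IsCyclic K := isCyclic_of_injective (θ.comp K.subtype) hKinj
  -- `K` centralises the kernel
  let Ψ : ↥K →* MulAut (DihedralGroup 4) :=
    (MulAut.congr e).toMonoidHom.comp ((MulAut.conjNormal (H := θ.ker)).comp K.subtype)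
  have hΨ : ∀ k : ↥K, Ψ k = 1 := by
    intro k
    have h4 := mulAut_D8_pow4 (Ψ k)
    have hf : Ψ k ^ f = 1 := by
      rw [← map_pow, ← hKcard, pow_card_eq_one', map_one]
    have h1 : orderOf (Ψ k) ∣ Nat.gcd 4 f :=
      Nat.dvd_gcd (orderOf_dvd_of_pow_eq_one h4) (orderOf_dvd_of_pow_eq_one hf)
    have h2 : Nat.gcd 4 f = 1 := by
      have : Nat.Coprime (2 ^ 2) f := Nat.Coprime.pow_left 2 (Nat.coprime_two_left.2 hodd)
      exact this
    rw [h2, Nat.dvd_one] at h1
    exact orderOf_eq_one_iff.1 h1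
  have hcomm : ∀ (v : ↥θ.ker) (k : ↥K), Commute (v : G) (k : G) := by
    intro v k
    have h1 := hΨ k
    have h2 : (MulAut.conjNormal (H := θ.ker)) (k : G) = 1 := by
      have h3 : (MulAut.congr e) ((MulAut.conjNormal (H := θ.ker)) (k : G)) = 1 := h1
      exact (MulAut.congr e).injective (h3.trans (map_one _).symm)
    have h3 := congrArg (fun β : MulAut ↥θ.ker => ((β v : ↥θ.ker) : G)) h2
    simp only [MulAut.conjNormal_apply, MulAut.one_apply] at h3
    show (v : G) * (k : G) = (k : G) * (v : G)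
    calc (v : G) * (k : G) = ((k : G) * (v : G) * (k : G)⁻¹) * (k : G) := by rw [h3]
      _ = (k : G) * (v : G) := by group
  let μ : ↥θ.ker × ↥K →* G := (θ.ker.subtype).noncommCoprod K.subtype hcomm
  have hμ : Function.Bijective μ := hK
  let E : ↥θ.ker × ↥K ≃* G := MulEquiv.ofBijective μ hμ
  have hcK : Nat.card K = Nat.card (Multiplicative (ZMod f)) := by
    rw [hKcard, Nat.card_eq_fintype_card, Fintype.card_multiplicative, ZMod.card]
  let e₂ : ↥K ≃* Multiplicative (ZMod f) := mulEquivOfCyclicCardEq hcK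
  exact ⟨E.symm.trans (MulEquiv.prodCongr e e₂)⟩

theorem order_two_f {G R : Type*} [Group G] [Group R] (θ : G →* R) (ψ : G) (f : ℕ) (hf : 1 ≤ f)
    (hψ : orderOf (θ ψ) = f) (h2 : ψ ^ (2 * f) = 1) (hne : ψ ^ f ≠ 1) : orderOf ψ = 2 * f := by
  have h1 : f ∣ orderOf ψ := by
    rw [← hψ]
    exact orderOf_map_dvd θ ψ
  have h2' : orderOf ψ ∣ 2 * f := orderOf_dvd_of_pow_eq_one h2
  have h3 : orderOf ψ ≠ f := by
    intro h
    apply hne
    rw [← h]
    exact pow_orderOf_eq_one ψ
  obtain ⟨d, hd⟩ := h1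
  have h4 : d ∣ 2 := by
    rw [hd, mul_comm 2 f] at h2'
    exact (Nat.mul_dvd_mul_iff_left (by omega)).1 h2'
  have h5 : d = 1 ∨ d = 2 := by
    have := Nat.le_of_dvd (by norm_num) h4
    interval_cases d
    · simp at h4
    · exact Or.inl rfl
    · exact Or.inr rfl
  rcases h5 with rfl | rfl
  · rw [mul_one] at hd
    exact absurd hd h3
  · rw [hd, mul_comm]

/-- a central extension of a cyclic group of order `f` by a four-group, non-split when `f` is
even, is `C₂ × C_{2f}`. -/
theorem klein_ext {G R : Type*} [Group G] [Group R] (θ : G →* R) (f : ℕ) (hf : 1 ≤ f)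
    (hG : Nat.card G = 4 * f) (hker : Nat.card θ.ker = 4)
    (hV : ∀ v ∈ θ.ker, v ^ 2 = 1) (hVc : ∀ v ∈ θ.ker, ∀ g : G, g * v = v * g)
    (ψ : G) (hψ : orderOf (θ ψ) = f) (hψf : Even f → ψ ^ f ≠ 1) :
    Nonempty (G ≃* Multiplicative (ZMod 2 × ZMod (2 * f))) := by
  classical
  have hfin : Finite G := Nat.finite_of_card_ne_zero (by omega)
  -- a lift of the generator whose `f`-th power is non-trivial
  obtain ⟨ψ', hψ', hψ'f⟩ : ∃ ψ' : G, orderOf (θ ψ') = f ∧ ψ' ^ f ≠ 1 := by
    by_cases h : ψ ^ f = 1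
    · have hodd : Odd f := by
        rcases Nat.even_or_odd f with he | ho
        · exact absurd h (hψf he)
        · exact ho
      have hnt : Nontrivial ↥θ.ker := by
        rw [← Finite.one_lt_card_iff_nontrivial, hker]
        norm_num
      obtain ⟨v, hv⟩ := exists_ne (1 : ↥θ.ker)
      refine ⟨(v : G) * ψ, ?_, ?_⟩
      · rw [map_mul, MonoidHom.mem_ker.1 v.2, one_mul]
        exact hψ
      · have hc : Commute (v : G) ψ := (hVc v v.2 ψ).symm
        rw [hc.mul_pow, h, mul_one]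
        obtain ⟨t, rfl⟩ := hodd
        rw [pow_succ, pow_mul, hV v v.2, one_pow, one_mul]
        intro h1
        exact hv (Subtype.ext h1)
    · exact ⟨ψ, hψ, h⟩
  have hw : ψ' ^ f ∈ θ.ker := by
    rw [MonoidHom.mem_ker, map_pow, ← hψ', pow_orderOf_eq_one]
  have hw2 : (ψ' ^ f) ^ 2 = 1 := hV _ hw
  have hord : orderOf ψ' = 2 * f := by
    apply order_two_f θ ψ' f hf hψ' _ hψ'f
    rw [mul_comm, pow_mul]
    exact hw2
  -- a third element of the kernel
  obtain ⟨v₀, hv₀, hv₀1, hv₀w⟩ : ∃ v₀ ∈ θ.ker, v₀ ≠ 1 ∧ v₀ ≠ ψ' ^ f := by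
    by_contra hcon
    push Not at hcon
    have hsub : (θ.ker : Set G) ⊆ {1, ψ' ^ f} := by
      intro v hv
      by_cases h1 : v = 1
      · exact Or.inl h1
      · exact Or.inr (hcon v hv h1)
    have h1 := Set.ncard_le_ncard hsub (Set.toFinite _)
    have h2 : (θ.ker : Set G).ncard = 4 := by
      rw [← hker]
      exact (Nat.card_coe_set_eq _).symm
    have h3 : ({1, ψ' ^ f} : Set G).ncard ≤ 2 := Set.ncard_insert_le _ _ |>.trans (by simp)
    omega
  have hv₀2 : v₀ ^ 2 = 1 := hV v₀ hv₀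
  have hcomm : ∀ (x : ↥(Subgroup.zpowers v₀)) (y : ↥(Subgroup.zpowers ψ')),
      Commute (x : G) (y : G) := by
    intro x y
    have hx : (x : G) ∈ θ.ker := (Subgroup.zpowers_le.2 hv₀) x.2
    exact (hVc _ hx _).symm
  let Ξ : ↥(Subgroup.zpowers v₀) × ↥(Subgroup.zpowers ψ') →* G :=
    (Subgroup.zpowers v₀).subtype.noncommCoprod (Subgroup.zpowers ψ').subtype hcomm
  have hΞ : ∀ z, Ξ z = (z.1 : G) * (z.2 : G) := fun z => rfl
  have hinj : Function.Injective Ξ := by
    rw [injective_iff_map_eq_one]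
    rintro ⟨x, y⟩ hxy
    rw [hΞ] at hxy
    obtain ⟨i, hi⟩ := (mem_powers_iff_mem_zpowers.2 x.2)
    obtain ⟨j, hj⟩ := (mem_powers_iff_mem_zpowers.2 y.2)
    have hi' : (x : G) = v₀ ^ (i % 2) := by
      rw [← hi]
      exact pow_eq_pow_mod i hv₀2
    have hx : (x : G) ∈ θ.ker := (Subgroup.zpowers_le.2 hv₀) x.2
    have hy : (y : G) ∈ θ.ker := by
      have : (y : G) = (x : G)⁻¹ := eq_inv_of_mul_eq_one_right hxy
      rw [this]
      exact θ.ker.inv_mem hx
    have hfj : f ∣ j := by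
      rw [← hψ', orderOf_dvd_iff_pow_eq_one, ← map_pow]
      have hj' : ψ' ^ j = (y : G) := hj
      rw [hj']
      exact hy
    obtain ⟨t, rfl⟩ := hfj
    have hj' : (y : G) = (ψ' ^ f) ^ (t % 2) := by
      rw [← pow_eq_pow_mod t hw2, ← pow_mul]
      exact hj.symm
    have hx1 : (x : G) = 1 := by
      rcases Nat.mod_two_eq_zero_or_one i with h0 | h0 <;>
        rcases Nat.mod_two_eq_zero_or_one t with h1 | h1
      · rw [hi', h0, pow_zero]
      · rw [hi', h0, pow_zero]
      · exfalso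
        rw [hi', hj', h0, h1, pow_one, pow_zero, mul_one] at hxy
        exact hv₀1 hxy
      · exfalso
        rw [hi', hj', h0, h1, pow_one, pow_one] at hxy
        apply hv₀w
        have h5 : ψ' ^ f = v₀⁻¹ := eq_inv_of_mul_eq_one_right hxy
        rw [h5]
        exact (inv_eq_of_mul_eq_one_right (by rw [← pow_two]; exact hv₀2)).symm
    have hy1 : (y : G) = 1 := by
      rw [hx1, one_mul] at hxy
      exact hxy
    exact Prod.ext (Subtype.ext hx1) (Subtype.ext hy1)
  have hov : orderOf v₀ = 2 := orderOf_eq_prime hv₀2 hv₀1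
  have hcard : Nat.card (↥(Subgroup.zpowers v₀) × ↥(Subgroup.zpowers ψ')) = Nat.card G := by
    rw [Nat.card_prod, Nat.card_zpowers, Nat.card_zpowers, hov, hord, hG]
    ring
  have hbij : Function.Bijective Ξ :=
    (Nat.bijective_iff_injective_and_card Ξ).2 ⟨hinj, hcard⟩
  let E : ↥(Subgroup.zpowers v₀) × ↥(Subgroup.zpowers ψ') ≃* G := MulEquiv.ofBijective Ξ hbij
  have : NeZero (2 * f) := ⟨by omega⟩
  have hc1 : Nat.card ↥(Subgroup.zpowers v₀) = Nat.card (Multiplicative (ZMod 2)) := by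
    rw [Nat.card_zpowers, hov, Nat.card_eq_fintype_card, Fintype.card_multiplicative, ZMod.card]
  have hc2 : Nat.card ↥(Subgroup.zpowers ψ') = Nat.card (Multiplicative (ZMod (2 * f))) := by
    rw [Nat.card_zpowers, hord, Nat.card_eq_fintype_card, Fintype.card_multiplicative, ZMod.card]
  let e₁ : ↥(Subgroup.zpowers v₀) ≃* Multiplicative (ZMod 2) := mulEquivOfCyclicCardEq hc1
  let e₂ : ↥(Subgroup.zpowers ψ') ≃* Multiplicative (ZMod (2 * f)) := mulEquivOfCyclicCardEq hc2
  exact ⟨E.symm.trans ((MulEquiv.prodCongr e₁ e₂).trans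
    (MulEquiv.prodMultiplicative (G := ZMod 2) (H := ZMod (2 * f))).symm)⟩

end Cfsg.Agent.Lib.Helper16.OA
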