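import Mathlib
import Cfsg.Agent.Lib.Helper16.OA45
import Cfsg.Agent.Lib.Helper16.OA46

set_option autoImplicit false
set_option linter.unusedSectionVars false
set_option linter.unusedVariables false

/-! Automorphisms of orthogonal groups, part 47: the group of semilinear isometries; the `f`-th
power of the Frobenius semisimilarity in odd characteristic. -/

namespace Cfsg.Agent.Lib.Helper16.OA

open Matrix Cfsg.Agent.Lib.Lead Cfsg.Agent.Lib.Lead.OA Cfsg.Agent.Lib.Helper16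

universe u

variable {ι : Type} [Fintype ι] [DecidableEq ι] {F : Type u} [Field F]

/-- the group of semilinear isometries of `Q`. -/
def gammaIso (Q : (ι → F) → F) : Subgroup (GammaL ι F) where
  carrier := {x | ∀ v : ι → F, Q ((x.left : Matrix ι ι F) *ᵥ (fun i => x.right (v i))) =
    x.right (Q v)}
  one_mem' := fun v => by
    show Q (((1 : GL ι F) : Matrix ι ι F) *ᵥ fun i => v i) = Q v
    rw [Units.val_one, Matrix.one_mulVec]
  mul_mem' := by
    intro x y hc hd v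
    have h1 : (((x * y).left : GL ι F) : Matrix ι ι F) *ᵥ (fun i => (x * y).right (v i)) =
        (x.left : Matrix ι ι F) *ᵥ (fun i => x.right
          (((y.left : Matrix ι ι F) *ᵥ (fun j => y.right (v j))) i)) := by
      rw [← mulVec_map_field, Matrix.mulVec_mulVec]
      rfl
    rw [h1, hc, hd]
    rfl
  inv_mem' := by
    intro x hc v
    have h1 : ((x⁻¹.left : GL ι F) : Matrix ι ι F) *ᵥ (fun i => x⁻¹.right (v i)) =
        fun i => (x.right⁻¹ : RingAut F) ((((x.left⁻¹ : GL ι F) : Matrix ι ι F) *ᵥ v) i) := by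
      rw [← mulVec_map_field]
      rfl
    have h2 := hc (fun i => (x.right⁻¹ : RingAut F) ((((x.left⁻¹ : GL ι F) : Matrix ι ι F) *ᵥ v) i))
    have h3 : (fun i => x.right ((x.right⁻¹ : RingAut F)
        ((((x.left⁻¹ : GL ι F) : Matrix ι ι F) *ᵥ v) i))) =
        ((x.left⁻¹ : GL ι F) : Matrix ι ι F) *ᵥ v := by
      funext i
      exact RingEquiv.apply_symm_apply x.right _
    rw [h3, Matrix.mulVec_mulVec, ← Units.val_mul, mul_inv_cancel, Units.val_one,
      Matrix.one_mulVec] at h2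
    rw [h1]
    show _ = (x.right⁻¹ : RingAut F) (Q v)
    rw [h2]
    exact (RingEquiv.symm_apply_apply x.right _).symm

theorem mem_gammaIso (Q : (ι → F) → F) (x : GammaL ι F) :
    x ∈ gammaIso Q ↔ ∀ v : ι → F, Q ((x.left : Matrix ι ι F) *ᵥ (fun i => x.right (v i))) =
      x.right (Q v) := Iff.rfl

theorem pow_left_iso {Q : (ι → F) → F} {x : GammaL ι F} (hx : x ∈ gammaIso Q) (j : ℕ)
    (hj : x.right ^ j = 1) : (x ^ j).left ∈ Cfsg.isometryGroup F Q := by
  have h1 := (gammaIso Q).pow_mem hx j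
  rw [mem_gammaIso] at h1
  rw [mem_iso_iff']
  intro v
  have h2 := h1 v
  have h3 : (x ^ j).right = 1 := by
    have : (x ^ j).right = x.right ^ j := map_pow SemidirectProduct.rightHom x j
    rw [this, hj]
  rw [h3] at h2
  exact h2

theorem minus_ss_iso (k : ℕ) (a b : F) (T : GL (Fin 2) F) (σ : RingAut F)
    (hT : ∀ w : Fin 2 → F, binForm a b ((T : Matrix (Fin 2) (Fin 2) F) *ᵥ w) =
      binForm (σ a) (σ b) w) :
    (⟨blockGL (Fin k ⊕ Fin k) F T, σ⟩ : GammaL ((Fin k ⊕ Fin k) ⊕ Fin 2) F) ∈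
      gammaIso (Cfsg.quadFormMinus k F a b) := by
  intro v
  show Cfsg.quadFormMinus k F a b
    (((blockGL (Fin k ⊕ Fin k) F T : GL ((Fin k ⊕ Fin k) ⊕ Fin 2) F) :
      Matrix ((Fin k ⊕ Fin k) ⊕ Fin 2) ((Fin k ⊕ Fin k) ⊕ Fin 2) F) *ᵥ fun i => σ (v i)) =
    σ (Cfsg.quadFormMinus k F a b v)
  rw [blockGL_mulVec, quadFormMinus_eq, quadFormMinus_eq, map_add, map_sum]
  congr 1
  · apply Finset.sum_congr rfl
    intro i _
    rw [map_mul]
    rfl
  · have h1 : (Sum.elim ((fun i => σ (v i)) ∘ Sum.inl)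
        ((T : Matrix (Fin 2) (Fin 2) F) *ᵥ ((fun i => σ (v i)) ∘ Sum.inr))) ∘ Sum.inr =
        (T : Matrix (Fin 2) (Fin 2) F) *ᵥ ((fun i => σ (v i)) ∘ Sum.inr) := by
      funext j
      rfl
    rw [h1, hT]
    unfold binForm
    simp only [map_add, map_mul, map_pow, Function.comp]

section frob

variable [Fintype F] {p : ℕ} [Fact p.Prime] [CharP F p]

theorem frobSSOdd_mem_iso (hp : p ≠ 2) (k : ℕ) (a b : F)
    (hab : ∀ z₁ z₂ : F, z₁ ^ 2 + a * z₁ * z₂ + b * z₂ ^ 2 = 0 → z₁ = 0 ∧ z₂ = 0) :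
    ((frobSSOdd hp k a b hab : ↥(gammaO (Cfsg.quadFormMinus k F a b))) :
      GammaL ((Fin k ⊕ Fin k) ⊕ Fin 2) F) ∈ gammaIso (Cfsg.quadFormMinus k F a b) :=
  minus_ss_iso k a b _ _ (fun w => by
    rw [tOdd_spec (two_ne_zero_of_char hp) a b (a ^ p) (b ^ p) _ _ (frob_disc hp a b)]
    rfl)

theorem prod_frob_pow (t : F) (f : ℕ) :
    ∏ i ∈ Finset.range f, (frobAut F p ^ i) t = t ^ (∑ i ∈ Finset.range f, p ^ i) := by
  rw [← Finset.prod_pow_eq_pow_sum]
  apply Finset.prod_congr rfl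
  intro i _
  exact frobAut_pow_apply i t

theorem geom_sum_id (p f : ℕ) (hp : 1 ≤ p) :
    (p - 1) * (∑ i ∈ Finset.range f, p ^ i) + 1 = p ^ f := by
  induction f with
  | zero => simp
  | succ f ih =>
    rw [Finset.sum_range_succ, mul_add, pow_succ]
    have h1 : (p - 1) * p ^ f + p ^ f = p ^ f * p := by
      obtain ⟨r, rfl⟩ : ∃ r, p = r + 1 := ⟨p - 1, by omega⟩
      simp only [Nat.add_sub_cancel]
      ring
    omega

theorem det_frob_pow_odd (hp : p ≠ 2) {f : ℕ} (hF : Fintype.card F = p ^ f) (k : ℕ) (a b : F)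
    (hab : ∀ z₁ z₂ : F, z₁ ^ 2 + a * z₁ * z₂ + b * z₂ ^ 2 = 0 → z₁ = 0 ∧ z₂ = 0) :
    (((((frobSSOdd hp k a b hab) ^ f : ↥(gammaO (Cfsg.quadFormMinus k F a b))) :
      GammaL ((Fin k ⊕ Fin k) ⊕ Fin 2) F).left : GL ((Fin k ⊕ Fin k) ⊕ Fin 2) F) :
      Matrix ((Fin k ⊕ Fin k) ⊕ Fin 2) ((Fin k ⊕ Fin k) ⊕ Fin 2) F).det = -1 := by
  have h2 := two_ne_zero_of_char (F := F) hp
  have hD := disc_not_square h2 a b hab
  have hD0 := disc_ne_zero h2 a b hab
  obtain ⟨h1, -⟩ := pow_block _ (frobSSOdd hp k a b hab) _ (frobSSOdd_left hp k a b hab) f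
  rw [h1, blockGL_det, det_twProd, tOdd_det]
  have hr : (frobSSOdd hp k a b hab : ↥(gammaO (Cfsg.quadFormMinus k F a b))).1.right =
      frobAut F p := rfl
  rw [hr, prod_frob_pow, ← pow_mul]
  have hpodd : p % 2 = 1 := by
    rcases Nat.mod_two_eq_zero_or_one p with h | h
    · exfalso
      rcases (Fact.out : p.Prime).eq_one_or_self_of_dvd 2 (Nat.dvd_of_mod_eq_zero h) with h3 | h3
      · omega
      · exact hp h3.symm
    · exact h
  have hp1 := (Fact.out : p.Prime).one_le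
  have hg := geom_sum_id p f hp1
  have hq : (p ^ f) % 2 = 1 := by
    rw [Nat.pow_mod, hpodd, one_pow]
    rfl
  have hexp : (p - 1) / 2 * ∑ i ∈ Finset.range f, p ^ i = Fintype.card F / 2 := by
    rw [hF]
    have h3 : (p - 1) = 2 * ((p - 1) / 2) := by omega
    rw [h3, mul_assoc] at hg
    omega
  rw [hexp]
  have hchar : ringChar F ≠ 2 := by
    rw [ringChar.eq F p]
    exact hp
  rcases FiniteField.pow_dichotomy hchar hD0 with h | h
  · exact absurd ((FiniteField.isSquare_iff hchar hD0).2 h) hD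
  · exact h

end frob

end Cfsg.Agent.Lib.Helper16.OA
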