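import Mathlib
import Cfsg.Agent.Lib.Helper16.OA47

set_option autoImplicit false
set_option linter.unusedSectionVars false
set_option linter.unusedVariables false

/-! Automorphisms of orthogonal groups, part 48: conjugating similarities by semisimilarities;
`PGO / PSO` is central in `Aut / PSO` (odd characteristic, even dimension). -/

namespace Cfsg.Agent.Lib.Helper16.OA

open Matrix Cfsg.Agent.Lib.Lead Cfsg.Agent.Lib.Lead.OA Cfsg.Agent.Lib.Helper16

universe u

variable {ι : Type} [Fintype ι] [DecidableEq ι] {F : Type u} [Field F]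

/-- conjugating a similarity of multiplier `c` by a semisimilarity `(g, σ)` gives a similarity of
multiplier `σ c`. -/
theorem ss_conj_mult {Q : (ι → F) → F} {x : GammaL ι F} (hx : x ∈ gammaO Q) {s : GL ι F} (c : F)
    (hs : ∀ v, Q ((s : Matrix ι ι F) *ᵥ v) = c * Q v) (v : ι → F) :
    Q (((ssGL ι F x s : GL ι F) : Matrix ι ι F) *ᵥ v) = x.right c * Q v := by
  obtain ⟨ν, hν⟩ := hx
  set w : ι → F := fun i => (x.right⁻¹ : RingAut F) ((((x.left⁻¹ : GL ι F) : Matrix ι ι F) *ᵥ v) i)
    with hw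
  have h3 : (fun i => x.right (w i)) = ((x.left⁻¹ : GL ι F) : Matrix ι ι F) *ᵥ v := by
    funext i
    exact RingEquiv.apply_symm_apply x.right _
  have hv : (x.left : Matrix ι ι F) *ᵥ (fun i => x.right (w i)) = v := by
    rw [h3, Matrix.mulVec_mulVec, ← Units.val_mul, mul_inv_cancel, Units.val_one,
      Matrix.one_mulVec]
  have h1 : ((ssGL ι F x s : GL ι F) : Matrix ι ι F) *ᵥ v =
      (x.left : Matrix ι ι F) *ᵥ (fun i => x.right (((s : Matrix ι ι F) *ᵥ w) i)) := by
    rw [← mulVec_map_field, ssGL_apply, Units.val_mul, Units.val_mul, ← Matrix.mulVec_mulVec,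
      ← Matrix.mulVec_mulVec]
    congr 2
    rw [h3]
  rw [h1, hν, hs, map_mul, ← hv, hν]
  ring

theorem ssGL_mem_GO {Q : (ι → F) → F} {x : GammaL ι F} (hx : x ∈ gammaO Q) {s : GL ι F}
    (hs : s ∈ GO Q) : ssGL ι F x s ∈ GO Q := by
  obtain ⟨c, hc⟩ := hs
  exact ⟨Units.map (x.right : F →* F) c, fun v => ss_conj_mult hx (c : F) hc v⟩

theorem conj_goIncl (Q : (ι → F) → F) (z : ↥(gammaO Q)) (h : ↥(GO Q)) :
    z * goIncl Q h * z⁻¹ = goIncl Q ⟨ssGL ι F (z : GammaL ι F) h, ssGL_mem_GO z.2 h.2⟩ := by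
  apply Subtype.ext
  rw [Subgroup.coe_mul, Subgroup.coe_mul, Subgroup.coe_inv, goIncl_coe, goIncl_coe]
  apply SemidirectProduct.ext
  · rw [SemidirectProduct.mul_left, SemidirectProduct.mul_left, SemidirectProduct.mul_right,
      SemidirectProduct.left_inl, SemidirectProduct.right_inl, SemidirectProduct.inv_left,
      SemidirectProduct.left_inl, mul_one]
    show _ = ssGL ι F (z : GammaL ι F) h
    rw [ssGL_apply, fldAct_apply, fldAct_apply, fldAct_apply]
    have : glMapEquiv ((z : GammaL ι F).right) (glMapEquiv ((z : GammaL ι F).right⁻¹)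
        ((z : GammaL ι F).left⁻¹)) = (z : GammaL ι F).left⁻¹ := by
      apply Units.ext
      ext i j
      exact RingEquiv.apply_symm_apply (z : GammaL ι F).right _
    rw [this]
  · rw [SemidirectProduct.mul_right, SemidirectProduct.mul_right, SemidirectProduct.right_inl,
      SemidirectProduct.inv_right, SemidirectProduct.right_inl, mul_one, mul_inv_cancel]

theorem ssHom_conj_cHom (Q : (ι → F) → F) (z : ↥(gammaO Q)) (h : ↥(GO Q)) :
    ssHom Q z * cHom Q h * (ssHom Q z)⁻¹ =
      cHom Q ⟨ssGL ι F (z : GammaL ι F) h, ssGL_mem_GO z.2 h.2⟩ := by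
  rw [← ssHom_goIncl, ← ssHom_goIncl, ← map_inv, ← map_mul, ← map_mul, conj_goIncl]

section fin

variable [Fintype F]

/-- a similarity with square multiplier and `det = mult ^ m` acts on `PΩ` as a special
isometry. -/
theorem cHom_mem_pso (Q : QuadraticForm F (ι → F)) (hne : ∃ v, Q v ≠ 0) (m : ℕ)
    (hcard : Fintype.card ι = 2 * m) (g : ↥(GOq Q)) (a : Fˣ) (ha : a * a = mult Q g)
    (heps : eps Q hne m g = 1) :
    cHom (⇑Q : (ι → F) → F) g ∈ (isoDet (⇑Q : (ι → F) → F)).ker.map (c0 Q) := by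
  have hmult : mult Q (scalGO Q a⁻¹ * g) = 1 := by
    have h1 : multHom Q hne (scalGO Q a⁻¹ * g) =
        multHom Q hne (scalGO Q a⁻¹) * multHom Q hne g := map_mul _ _ _
    rw [multHom_apply, multHom_apply, multHom_apply, mult_scalGO Q hne, ← ha] at h1
    rw [h1]
    group
  have hiso := (mult_eq_one_iff Q hne _).1 hmult
  have hscal : cHom (⇑Q : (ι → F) → F) (scalGO Q a⁻¹) = 1 :=
    scalar_cHom_eq_one _ _ _ (scalGO_coe Q a⁻¹)
  have he : isoToGO Q ⟨_, hiso⟩ = scalGO Q a⁻¹ * g := Subtype.ext rfl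
  refine ⟨⟨_, hiso⟩, ?_, ?_⟩
  · show _ ∈ (isoDet (⇑Q : (ι → F) → F)).ker
    rw [MonoidHom.mem_ker, ← eps_iso Q hne m, he, map_mul, eps_scal Q hne m hcard, heps, one_mul]
  · rw [c0_apply, he, map_mul, hscal, one_mul]

theorem eps_sq (Q : QuadraticForm F (ι → F)) (hQ : (QuadraticMap.polarBilin Q).Nondegenerate)
    (hne : ∃ v, Q v ≠ 0) (m : ℕ) (hcard : Fintype.card ι = 2 * m) (g : ↥(GOq Q)) :
    eps Q hne m g * eps Q hne m g = 1 := by
  have h1 := det_sq_sim Q hQ (g : GL ι F) (mult Q g : F) (mult_spec Q g)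
  rw [hcard] at h1
  apply Units.ext
  rw [eps_apply]
  have hm : ((mult Q g : Fˣ) : F) ≠ 0 := Units.ne_zero _
  simp only [Units.val_mul, Units.val_inv_eq_inv_val, Units.val_pow_eq_pow_val, detGO_coe,
    Units.val_one]
  field_simp
  rw [h1]
  ring

theorem isSquare_ratio (hchar : ringChar F ≠ 2) (σ : F ≃+* F) (c : Fˣ) :
    ∃ a : Fˣ, a * a = Units.map (σ : F →* F) c * c⁻¹ := by
  have hc0 : ((Units.map (σ : F →* F) c * c⁻¹ : Fˣ) : F) ≠ 0 := Units.ne_zero _
  have h1 : IsSquare ((Units.map (σ : F →* F) c * c⁻¹ : Fˣ) : F) := by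
    rw [FiniteField.isSquare_iff hchar hc0, Units.val_mul, mul_pow]
    have h2 : ((Units.map (σ : F →* F) c : Fˣ) : F) = σ (c : F) := rfl
    rw [h2, ← map_pow, Units.val_inv_eq_inv_val, inv_pow]
    rcases FiniteField.pow_dichotomy hchar (Units.ne_zero c) with h | h
    · rw [h, map_one, inv_one, mul_one]
    · rw [h, map_neg, map_one]
      norm_num
  obtain ⟨a0, ha0⟩ := h1
  have ha00 : a0 ≠ 0 := by
    rintro rfl
    rw [mul_zero] at ha0
    exact hc0 ha0
  refine ⟨Units.mk0 a0 ha00, ?_⟩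
  apply Units.ext
  rw [Units.val_mul, Units.val_mk0, ha0]

/-- modulo `PSO`, the image of the similarity group is central in `Aut(PΩ)`. -/
theorem comm_mem_pso (Q : QuadraticForm F (ι → F)) (hQ : (QuadraticMap.polarBilin Q).Nondegenerate)
    (hchar : ringChar F ≠ 2) (hne : ∃ v, Q v ≠ 0) (m : ℕ) (hcard : Fintype.card ι = 2 * m)
    (z : ↥(gammaO (⇑Q : (ι → F) → F))) (h : ↥(GOq Q)) :
    ssHom (⇑Q : (ι → F) → F) z * cHom (⇑Q : (ι → F) → F) h *
      (ssHom (⇑Q : (ι → F) → F) z)⁻¹ * (cHom (⇑Q : (ι → F) → F) h)⁻¹ ∈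
      (isoDet (⇑Q : (ι → F) → F)).ker.map (c0 Q) := by
  rw [ssHom_conj_cHom, ← map_inv, ← map_mul]
  set h' : ↥(GOq Q) := ⟨ssGL ι F (z : GammaL ι F) h, ssGL_mem_GO z.2 h.2⟩ with hh'
  have hmult' : mult Q h' = Units.map ((z : GammaL ι F).right : F →* F) (mult Q h) :=
    mult_unique Q hne h' _ (fun v => ss_conj_mult z.2 _ (mult_spec Q h) v)
  have hdet' : detGO Q h' = Units.map ((z : GammaL ι F).right : F →* F) (detGO Q h) := by
    apply Units.ext
    rw [detGO_coe]
    show ((ssGL ι F (z : GammaL ι F) h : GL ι F) : Matrix ι ι F).det = (z : GammaL ι F).right _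
    rw [ssGL_apply, Units.val_mul, Units.val_mul, Matrix.det_mul, Matrix.det_mul, det_glMapEquiv,
      detGO_coe, mul_comm, ← mul_assoc, ← Matrix.det_mul, ← Units.val_mul, inv_mul_cancel,
      Units.val_one, Matrix.det_one, one_mul]
  have hmultm : mult Q (h' * h⁻¹) = Units.map ((z : GammaL ι F).right : F →* F) (mult Q h) *
      (mult Q h)⁻¹ := by
    have h1 : multHom Q hne (h' * h⁻¹) = multHom Q hne h' * (multHom Q hne h)⁻¹ := by
      rw [map_mul, map_inv]
    rw [multHom_apply, multHom_apply, multHom_apply, hmult'] at h1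
    exact h1
  obtain ⟨a, ha⟩ := isSquare_ratio hchar (z : GammaL ι F).right (mult Q h)
  apply cHom_mem_pso Q hne m hcard (h' * h⁻¹) a (ha.trans hmultm.symm)
  rw [map_mul, map_inv]
  have heps' : eps Q hne m h' = Units.map ((z : GammaL ι F).right : F →* F) (eps Q hne m h) := by
    rw [eps_apply, eps_apply, hmult', hdet', map_mul, map_inv, map_pow]
  rw [heps']
  have hsq := eps_sq Q hQ hne m hcard h
  have hpm : eps Q hne m h = 1 ∨ eps Q hne m h = -1 := by
    have h1 : (eps Q hne m h - 1 : F) * (eps Q hne m h + 1 : F) = 0 := by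
      have h2 := congrArg Units.val hsq
      rw [Units.val_mul, Units.val_one] at h2
      linear_combination h2
    rcases mul_eq_zero.1 h1 with h3 | h3
    · left
      apply Units.ext
      rw [Units.val_one]
      linear_combination h3
    · right
      apply Units.ext
      rw [Units.val_neg, Units.val_one]
      linear_combination h3
  rcases hpm with h1 | h1
  · rw [h1, map_one, inv_one, mul_one]
  · rw [h1]
    apply Units.ext
    simp

end fin

end Cfsg.Agent.Lib.Helper16.OA
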