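import Mathlib
import Cfsg.Agent.Lib.Helper16.OL4

set_option autoImplicit false
set_option linter.unusedSectionVars false
set_option linter.unusedVariables false

/-! Lang-type results for even-dimensional orthogonal groups, part 1: the field automorphism
attached to a single automorphism `σ` of `F` compatible with the form. -/

namespace Cfsg.Agent.Lib.Helper16.OM

open Matrix Cfsg.Agent.Lib.Lead.OA Cfsg.Agent.Lib.Helper16 Cfsg.Agent.Lib.Helper16.OA
  Cfsg.Agent.Lib.Helper16.OL Cfsg.Agent.Lib.Helper16.H9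

universe u

variable {ι : Type} [Fintype ι] [DecidableEq ι] {F : Type u} [Field F]

/-- the form commutes with the field automorphism `σ`. -/
def SigCompat (Q : (ι → F) → F) (σ : RingAut F) : Prop :=
  ∀ v : ι → F, Q (fun i => σ (v i)) = σ (Q v)

theorem sigCompat_one (Q : (ι → F) → F) : SigCompat Q (1 : RingAut F) := fun v => rfl

theorem sigCompat_mul {Q : (ι → F) → F} {σ τ : RingAut F} (hσ : SigCompat Q σ)
    (hτ : SigCompat Q τ) : SigCompat Q (σ * τ) := by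
  intro v
  have h1 := hσ (fun i => τ (v i))
  rw [hτ v] at h1
  exact h1

theorem sigCompat_pow {Q : (ι → F) → F} {σ : RingAut F} (hσ : SigCompat Q σ) (k : ℕ) :
    SigCompat Q (σ ^ k) := by
  induction k with
  | zero => rw [pow_zero]; exact sigCompat_one Q
  | succ k ih => rw [pow_succ]; exact sigCompat_mul ih hσ

theorem inr_mem_gammaO {Q : (ι → F) → F} {σ : RingAut F} (hσ : SigCompat Q σ) :
    (SemidirectProduct.inr σ : GammaL ι F) ∈ gammaO Q := by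
  rw [mem_gammaO]
  refine ⟨1, fun v => ?_⟩
  show Q (((1 : GL ι F) : Matrix ι ι F) *ᵥ fun i => σ (v i)) = ((1 : Fˣ) : F) * σ (Q v)
  rw [Units.val_one, Matrix.one_mulVec, Units.val_one, one_mul]
  exact hσ v

/-- `σ` as an element of the semisimilarity group. -/
noncomputable def sigEl (Q : (ι → F) → F) (σ : RingAut F) (hσ : SigCompat Q σ) : ↥(gammaO Q) :=
  ⟨SemidirectProduct.inr σ, inr_mem_gammaO hσ⟩

/-- the standard field automorphism of `PΩ(Q)` attached to `σ`. -/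
noncomputable def phiS (Q : (ι → F) → F) (σ : RingAut F) (hσ : SigCompat Q σ) :
    MulAut (Cfsg.POmega F Q) := ssHom Q (sigEl Q σ hσ)

theorem isFieldAut_iff_phiS (Q : (ι → F) → F) (σ : F ≃+* F) (hσ : SigCompat Q σ)
    (β : Cfsg.POmega F Q ≃* Cfsg.POmega F Q) :
    Cfsg.IsFieldAutPOmegaOf Q σ β ↔ β = phiS Q σ hσ := by
  have h1 := induced_ss_iff Q (sigEl Q σ hσ) β
  rw [← phiS] at h1
  rw [← h1]
  unfold Cfsg.IsFieldAutPOmegaOf Cfsg.IsInducedBySemilinearPOmega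
  have e1 : ((sigEl Q σ hσ : ↥(gammaO Q)) : GammaL ι F).left = 1 := rfl
  have e2 : ((sigEl Q σ hσ : ↥(gammaO Q)) : GammaL ι F).right = σ := rfl
  rw [e1, e2]
  simp only [Units.val_one, inv_one, Matrix.one_mul, Matrix.mul_one]

theorem sigEl_mul_goIncl (Q : (ι → F) → F) (σ : RingAut F) (hσ : SigCompat Q σ) (g : ↥(GO Q))
    (hg : glMapEquiv σ (g : GL ι F) ∈ GO Q) :
    sigEl Q σ hσ * goIncl Q g = goIncl Q ⟨glMapEquiv σ (g : GL ι F), hg⟩ * sigEl Q σ hσ := by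
  apply Subtype.ext
  rw [Subgroup.coe_mul, Subgroup.coe_mul, goIncl_coe, goIncl_coe]
  show (SemidirectProduct.inr σ : GammaL ι F) * SemidirectProduct.inl (g : GL ι F) =
    SemidirectProduct.inl (glMapEquiv σ (g : GL ι F)) * SemidirectProduct.inr σ
  apply SemidirectProduct.ext
  · simp [fldAct_apply]
  · simp

theorem glMapEquiv_mem_GO_sig {Q : (ι → F) → F} {σ : RingAut F} (hσ : SigCompat Q σ) {g : GL ι F}
    (hg : g ∈ GO Q) : glMapEquiv σ g ∈ GO Q := by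
  have h1 : (sigEl Q σ hσ * goIncl Q ⟨g, hg⟩ * (sigEl Q σ hσ)⁻¹ : ↥(gammaO Q)).1 ∈ gammaO Q :=
    (sigEl Q σ hσ * goIncl Q ⟨g, hg⟩ * (sigEl Q σ hσ)⁻¹).2
  have h2 : ((sigEl Q σ hσ * goIncl Q ⟨g, hg⟩ * (sigEl Q σ hσ)⁻¹ : ↥(gammaO Q)) : GammaL ι F) =
      SemidirectProduct.inl (glMapEquiv σ g) := by
    rw [Subgroup.coe_mul, Subgroup.coe_mul, Subgroup.coe_inv, goIncl_coe]
    show (SemidirectProduct.inr σ : GammaL ι F) * SemidirectProduct.inl g *
      (SemidirectProduct.inr σ)⁻¹ = SemidirectProduct.inl (glMapEquiv σ g)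
    apply SemidirectProduct.ext
    · simp [fldAct_apply]
    · simp
  rw [h2] at h1
  exact (inl_mem_gammaO Q _).1 h1

theorem phiS_mul_cHom (Q : (ι → F) → F) (σ : RingAut F) (hσ : SigCompat Q σ) (g : ↥(GO Q)) :
    phiS Q σ hσ * cHom Q g =
      cHom Q ⟨glMapEquiv σ (g : GL ι F), glMapEquiv_mem_GO_sig hσ g.2⟩ * phiS Q σ hσ := by
  unfold phiS
  rw [← ssHom_goIncl, ← ssHom_goIncl, ← map_mul, ← map_mul, sigEl_mul_goIncl]

theorem sigEl_one (Q : (ι → F) → F) : sigEl Q 1 (sigCompat_one Q) = 1 := by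
  apply Subtype.ext
  rfl

theorem sigEl_mul (Q : (ι → F) → F) (σ τ : RingAut F) (hσ : SigCompat Q σ) (hτ : SigCompat Q τ) :
    sigEl Q (σ * τ) (sigCompat_mul hσ hτ) = sigEl Q σ hσ * sigEl Q τ hτ := by
  apply Subtype.ext
  show (SemidirectProduct.inr (σ * τ) : GammaL ι F) =
    SemidirectProduct.inr σ * SemidirectProduct.inr τ
  rw [map_mul]

theorem sigEl_pow (Q : (ι → F) → F) (σ : RingAut F) (hσ : SigCompat Q σ) (k : ℕ) :
    sigEl Q (σ ^ k) (sigCompat_pow hσ k) = sigEl Q σ hσ ^ k := by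
  apply Subtype.ext
  rw [Subgroup.coe_pow]
  show (SemidirectProduct.inr (σ ^ k) : GammaL ι F) = (SemidirectProduct.inr σ) ^ k
  rw [map_pow]

theorem phiS_pow (Q : (ι → F) → F) (σ : RingAut F) (hσ : SigCompat Q σ) (k : ℕ) :
    phiS Q σ hσ ^ k = phiS Q (σ ^ k) (sigCompat_pow hσ k) := by
  unfold phiS
  rw [← map_pow, sigEl_pow]

theorem phiS_congr (Q : (ι → F) → F) {σ τ : RingAut F} (h : σ = τ) (hσ : SigCompat Q σ)
    (hτ : SigCompat Q τ) : phiS Q σ hσ = phiS Q τ hτ := by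
  subst h; rfl

theorem phiS_one (Q : (ι → F) → F) (h1 : SigCompat Q (1 : RingAut F)) : phiS Q 1 h1 = 1 := by
  unfold phiS
  have : sigEl Q 1 h1 = 1 := sigEl_one Q
  rw [this, map_one]

theorem twI_mem_sig {Q : (ι → F) → F} {σ : RingAut F} (hσ : SigCompat Q σ) {g : GL ι F}
    (hg : g ∈ GO Q) (k : ℕ) : twI σ g k ∈ GO Q := by
  induction k with
  | zero => exact one_mem _
  | succ k ih => exact mul_mem hg (glMapEquiv_mem_GO_sig hσ ih)

theorem pow_cHom_phiS (Q : (ι → F) → F) (σ : RingAut F) (hσ : SigCompat Q σ) (g : GL ι F)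
    (hg : g ∈ GO Q) (k : ℕ) :
    (cHom Q ⟨g, hg⟩ * phiS Q σ hσ) ^ k =
      cHom Q ⟨twI σ g k, twI_mem_sig hσ hg k⟩ * phiS Q σ hσ ^ k := by
  induction k with
  | zero =>
    rw [pow_zero, pow_zero]
    have : (⟨twI σ g 0, twI_mem_sig hσ hg 0⟩ : ↥(GO Q)) = 1 := rfl
    rw [this, map_one, one_mul]
  | succ k ih =>
    rw [pow_succ', ih, pow_succ']
    have h1 : (⟨twI σ g (k + 1), twI_mem_sig hσ hg (k + 1)⟩ : ↥(GO Q)) =
        ⟨g, hg⟩ * ⟨glMapEquiv σ (twI σ g k), glMapEquiv_mem_GO_sig hσ (twI_mem_sig hσ hg k)⟩ := rfl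
    rw [h1, map_mul]
    calc cHom Q ⟨g, hg⟩ * phiS Q σ hσ * (cHom Q ⟨twI σ g k, twI_mem_sig hσ hg k⟩ * phiS Q σ hσ ^ k)
        = cHom Q ⟨g, hg⟩ * (phiS Q σ hσ * cHom Q ⟨twI σ g k, twI_mem_sig hσ hg k⟩) *
            phiS Q σ hσ ^ k := by simp only [mul_assoc]
      _ = _ := by rw [phiS_mul_cHom]; simp only [mul_assoc]

end Cfsg.Agent.Lib.Helper16.OM
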