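import Mathlib
import Cfsg.Agent.Lib.Helper16.OM1

set_option autoImplicit false
set_option linter.unusedSectionVars false
set_option linter.unusedVariables false

/-! Lang-type results for even-dimensional orthogonal groups, part 2: conjugacy in the coset of a
field automorphism, given Hilbert 90 for the similarity group. -/

namespace Cfsg.Agent.Lib.Helper16.OM

open Matrix Cfsg.Agent.Lib.Lead.OA Cfsg.Agent.Lib.Helper16 Cfsg.Agent.Lib.Helper16.OA
  Cfsg.Agent.Lib.Helper16.OL Cfsg.Agent.Lib.Helper16.H9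

universe u

variable {ι : Type} [Fintype ι] [DecidableEq ι] {F : Type u} [Field F] [Fintype F]

/-- a standard field automorphism in the image of the similarity group is trivial. -/
theorem phiS_mem_pgo (Q : QuadraticForm F (ι → F))
    (hQ : (QuadraticMap.polarBilin Q).Nondegenerate) (hn : 7 ≤ Fintype.card ι) (σ : RingAut F)
    (hσ : SigCompat (⇑Q : (ι → F) → F) σ)
    (h : phiS (⇑Q : (ι → F) → F) σ hσ ∈ (cHom (⇑Q : (ι → F) → F)).range) : σ = 1 := by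
  obtain ⟨g, hg⟩ := h
  have h1 : ssHom (⇑Q : (ι → F) → F) ((goIncl _ g)⁻¹ * sigEl _ σ hσ) = 1 := by
    rw [map_mul, map_inv, ssHom_goIncl, hg]
    unfold phiS
    rw [inv_mul_cancel]
  have h2 := ssHom_ker_le Q hQ hn (MonoidHom.mem_ker.mpr h1)
  rw [MonoidHom.mem_ker, ssRight_apply] at h2
  have h3 : (((goIncl (⇑Q : (ι → F) → F) g)⁻¹ * sigEl _ σ hσ : ↥(gammaO (⇑Q : (ι → F) → F))) :
      GammaL ι F).right = σ := by
    rw [Subgroup.coe_mul, Subgroup.coe_inv, goIncl_coe]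
    show ((SemidirectProduct.inl (g : GL ι F))⁻¹ * SemidirectProduct.inr σ : GammaL ι F).right = σ
    simp
  rw [h3] at h2
  exact h2

theorem phiS_eq_one_iff (Q : QuadraticForm F (ι → F))
    (hQ : (QuadraticMap.polarBilin Q).Nondegenerate) (hn : 7 ≤ Fintype.card ι) (σ : RingAut F)
    (hσ : SigCompat (⇑Q : (ι → F) → F) σ) :
    phiS (⇑Q : (ι → F) → F) σ hσ = 1 ↔ σ = 1 := by
  constructor
  · intro h
    apply phiS_mem_pgo Q hQ hn σ hσ
    rw [h]
    exact one_mem _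
  · rintro rfl
    exact phiS_one _ hσ

theorem orderOf_phiS (Q : QuadraticForm F (ι → F))
    (hQ : (QuadraticMap.polarBilin Q).Nondegenerate) (hn : 7 ≤ Fintype.card ι) (σ : RingAut F)
    (hσ : SigCompat (⇑Q : (ι → F) → F) σ) :
    orderOf (phiS (⇑Q : (ι → F) → F) σ hσ) = orderOf σ := by
  apply orderOf_eq_orderOf_iff.mpr
  intro k
  rw [phiS_pow, phiS_eq_one_iff Q hQ hn]

/-- in the coset of a standard field automorphism, the elements of the same order are conjugate to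
it, given Hilbert 90 for the similarity group. -/
theorem field_conj_sig (Q : QuadraticForm F (ι → F))
    (hQ : (QuadraticMap.polarBilin Q).Nondegenerate) (hn : 7 ≤ Fintype.card ι)
    (σ : RingAut F) (hσ : SigCompat (⇑Q : (ι → F) → F) σ) (r : ℕ) (hord : orderOf σ = r)
    (hr0 : 0 < r)
    (H90 : ∀ g : GL ι F, g ∈ GO (⇑Q : (ι → F) → F) → twI σ g r = 1 →
      ∃ h : GL ι F, h ∈ GO (⇑Q : (ι → F) → F) ∧ g * glMapEquiv σ h = h)
    (g : ↥(GO (⇑Q : (ι → F) → F)))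
    (hpow : (cHom (⇑Q : (ι → F) → F) g * phiS (⇑Q : (ι → F) → F) σ hσ) ^ r = 1) :
    ∃ h : ↥(GO (⇑Q : (ι → F) → F)),
      cHom (⇑Q : (ι → F) → F) g * phiS (⇑Q : (ι → F) → F) σ hσ =
        cHom (⇑Q : (ι → F) → F) h * phiS (⇑Q : (ι → F) → F) σ hσ *
          (cHom (⇑Q : (ι → F) → F) h)⁻¹ := by
  have hne : Nonempty ι := by
    rw [← Fintype.card_pos_iff]; omega
  have hσr : σ ^ r = 1 := by rw [← hord]; exact pow_orderOf_eq_one σ
  have hinj : ∀ i j, i < r → j < r → σ ^ i = σ ^ j → i = j := by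
    intro i j hi hj hij
    rw [← hord] at hi hj
    exact pow_injOn_Iio_orderOf hi hj hij
  obtain ⟨g, hg⟩ := g
  have hφr : phiS (⇑Q : (ι → F) → F) σ hσ ^ r = 1 := by
    rw [phiS_pow, phiS_eq_one_iff Q hQ hn]; exact hσr
  rw [pow_cHom_phiS, hφr, mul_one] at hpow
  obtain ⟨d, hd⟩ := cHom_ker_scalar Q hQ hn _ hpow
  have hd' : ((twI σ g r : GL ι F) : Matrix ι ι F) = d • (1 : Matrix ι ι F) := hd
  have hd0 : d ≠ 0 := by
    rintro rfl
    have h1 : IsUnit ((twI σ g r : GL ι F) : Matrix ι ι F).det :=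
      (Matrix.isUnit_iff_isUnit_det _).mp (twI σ g r).isUnit
    rw [hd', zero_smul, Matrix.det_zero] at h1
    exact not_isUnit_zero h1
  set c : Fˣ := Units.mk0 d hd0 with hc
  have hc' : twI σ g r = scI ι c := by
    apply Units.ext
    rw [hd', scI_val, hc, Units.val_mk0]
  have hfix : uσ σ c = c := by
    apply scI_injective (ι := ι)
    have e1 : twI σ g (r + 1) = g * scI ι (uσ σ c) := by rw [twI_succ, hc', glMapEquiv_scI]
    have e2 : twI σ g (r + 1) = g * scI ι c := by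
      rw [twI_add, hσr, glMapEquiv_one_aut, twI_one, hc', scI_comm]
    exact mul_left_cancel (e1.symm.trans e2)
  obtain ⟨e, he⟩ := Cfsg.Agent.Lib.Helper16.H9.norm_surj σ r hinj hr0 hσr c hfix
  set g' := g * scI ι e⁻¹ with hg'
  have hg'mem : g' ∈ GO (⇑Q : (ι → F) → F) := mul_mem hg (scI_mem_GO Q _)
  have hg'tw : twI σ g' r = 1 := by
    rw [hg', twI_mul_scI, hc', ← map_mul, ← nuHom_apply, map_inv, nuHom_apply, he, mul_inv_cancel,
      map_one]
  obtain ⟨B, hBmem, hB⟩ := H90 g' hg'mem hg'tw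
  refine ⟨⟨B, hBmem⟩, ?_⟩
  have hPg : cHom (⇑Q : (ι → F) → F) ⟨g, hg⟩ = cHom (⇑Q : (ι → F) → F) ⟨g', hg'mem⟩ := by
    have : (⟨g', hg'mem⟩ : ↥(GO (⇑Q : (ι → F) → F))) = ⟨g, hg⟩ * ⟨scI ι e⁻¹, scI_mem_GO Q _⟩ := rfl
    rw [this, map_mul, scalar_cHom_eq_one (⇑Q : (ι → F) → F) ⟨scI ι e⁻¹, scI_mem_GO Q _⟩ _
      (scI_val e⁻¹), mul_one]
  have hg'B : (⟨g', hg'mem⟩ : ↥(GO (⇑Q : (ι → F) → F))) =
      ⟨B, hBmem⟩ * (⟨glMapEquiv σ B, glMapEquiv_mem_GO_sig hσ hBmem⟩ :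
        ↥(GO (⇑Q : (ι → F) → F)))⁻¹ := by
    apply eq_mul_inv_of_mul_eq
    exact Subtype.ext hB
  have h3 : phiS (⇑Q : (ι → F) → F) σ hσ * (cHom (⇑Q : (ι → F) → F) ⟨B, hBmem⟩)⁻¹ =
      (cHom (⇑Q : (ι → F) → F) ⟨glMapEquiv σ B, glMapEquiv_mem_GO_sig hσ hBmem⟩)⁻¹ *
        phiS (⇑Q : (ι → F) → F) σ hσ := by
    have := phiS_mul_cHom (⇑Q : (ι → F) → F) σ hσ ⟨B, hBmem⟩
    rw [eq_inv_mul_iff_mul_eq, ← mul_assoc, ← this, mul_assoc, mul_inv_cancel, mul_one]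
  rw [mul_assoc (cHom (⇑Q : (ι → F) → F) ⟨B, hBmem⟩), h3, hPg, hg'B, map_mul, map_inv, mul_assoc]

end Cfsg.Agent.Lib.Helper16.OM
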