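import Mathlib
import Cfsg.Agent.Lib.Helper16.OM2
import Cfsg.Agent.Lib.Helper16.OL6
import Cfsg.Agent.Lib.Helper16.OClass1

set_option autoImplicit false
set_option linter.unusedSectionVars false
set_option linter.unusedVariables false

/-! Lang-type results for even-dimensional orthogonal groups, part 3: extension of identities from
rational vectors, and descent of a quadratic form compatible with a field automorphism. -/

namespace Cfsg.Agent.Lib.Helper16.OM

open Matrix Cfsg.Agent.Lib.Lead.OA Cfsg.Agent.Lib.Helper16 Cfsg.Agent.Lib.Helper16.OA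
  Cfsg.Agent.Lib.Helper16.OL Cfsg.Agent.Lib.Helper16.H9

universe u v

section ext

variable {κ : Type} [Fintype κ] [DecidableEq κ] {F : Type u} [Field F] {F₀ : Type v} [Field F₀]

/-- two quadratic forms agreeing on the rational vectors are equal. -/
theorem qf_ext_rational (j : F₀ →+* F) (Q₁ Q₂ : QuadraticForm F (κ → F))
    (h : ∀ v : κ → F₀, Q₁ (fun i => j (v i)) = Q₂ (fun i => j (v i))) (w : κ → F) :
    Q₁ w = Q₂ w := by
  have hs : ∀ k : κ, (Pi.basisFun F κ) k = fun i => j ((Pi.single k (1 : F₀) : κ → F₀) i) := by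
    intro k
    rw [Pi.basisFun_apply]
    exact (comp_single_base j k).symm
  have hadd : ∀ k l : κ, (Pi.basisFun F κ) k + (Pi.basisFun F κ) l =
      fun i => j ((Pi.single k (1 : F₀) + Pi.single l (1 : F₀) : κ → F₀) i) := by
    intro k l
    rw [hs, hs]
    funext i
    simp only [Pi.add_apply, map_add]
  apply Cfsg.Agent.Lib.Helper16.OSemi.qf_ext_basis (Pi.basisFun F κ) Q₁ Q₂
  · intro k l
    unfold QuadraticMap.polar
    rw [hadd, hs, hs, h, h, h]
  · intro k
    rw [hs, h]

variable {ι : Type} [Fintype ι] [DecidableEq ι]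

theorem mulVec_map_base (j : F₀ →+* F) (M : Matrix ι κ F₀) (v : κ → F₀) :
    (M.map ⇑j) *ᵥ (fun i => j (v i)) = fun i => j ((M *ᵥ v) i) := by
  funext i
  exact (RingHom.map_mulVec j M v i).symm

/-- a similarity relation over the small field extends to the large field. -/
theorem sim_ext (j : F₀ →+* F) (Q₀ : QuadraticForm F₀ (ι → F₀)) (Q : QuadraticForm F (ι → F))
    (hc : BaseCompat j (⇑Q₀) (⇑Q)) (R₀ : QuadraticForm F₀ (κ → F₀)) (R : QuadraticForm F (κ → F))
    (hR : BaseCompat j (⇑R₀) (⇑R)) (M : Matrix ι κ F₀) (c : F₀)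
    (h : ∀ v : κ → F₀, Q₀ (M *ᵥ v) = c * R₀ v) (w : κ → F) :
    Q ((M.map ⇑j) *ᵥ w) = j c * R w := by
  have key := qf_ext_rational j (Q.comp (Matrix.toLin' (M.map ⇑j))) (j c • R) (fun v => by
    rw [QuadraticMap.comp_apply, Matrix.toLin'_apply, mulVec_map_base, hc, h, map_mul,
      _root_.smul_apply, smul_eq_mul, hR]) w
  rw [QuadraticMap.comp_apply, Matrix.toLin'_apply, _root_.smul_apply, smul_eq_mul] at key
  exact key

end ext

section descent

variable {ι : Type} [Fintype ι] [DecidableEq ι] {F : Type u} [Field F] [Fintype F]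

/-- the fixed field of `σ`. -/
abbrev fixS (σ : RingAut F) : Subfield F := FixedPoints.subfield (Subgroup.zpowers σ) F

theorem mem_fixS (σ : RingAut F) (y : F) : y ∈ fixS σ ↔ σ y = y :=
  Cfsg.Agent.Lib.Helper16.mem_fixed_iff σ y

theorem sig_coe_fixS (σ : RingAut F) (v : ι → fixS σ) :
    (fun i => σ ((v i : F))) = fun i => ((v i : fixS σ) : F) := by
  funext i
  exact (mem_fixS σ _).mp (v i).2

theorem sigCompat_val_mem {Q : (ι → F) → F} {σ : RingAut F} (hσ : SigCompat Q σ)
    (v : ι → fixS σ) : Q (fun i => ((v i : fixS σ) : F)) ∈ fixS σ := by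
  rw [mem_fixS, ← hσ, sig_coe_fixS]

/-- descent of a `σ`-compatible quadratic form to the fixed field of `σ`. -/
noncomputable def descend (Q : QuadraticForm F (ι → F)) (σ : RingAut F)
    (hσ : SigCompat (⇑Q : (ι → F) → F) σ) : QuadraticForm (fixS σ) (ι → fixS σ) :=
  QuadraticMap.ofPolar (fun v => ⟨Q (fun i => ((v i : fixS σ) : F)), sigCompat_val_mem hσ v⟩)
    (by
      intro a x
      apply Subtype.ext
      have h1 : (fun i => (((a • x) i : fixS σ) : F)) = (a : F) • fun i => ((x i : fixS σ) : F) := by
        funext i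
        simp
      show Q (fun i => (((a • x) i : fixS σ) : F)) = _
      rw [h1, QuadraticMap.map_smul]
      rfl)
    (by
      intro x x' y
      apply Subtype.ext
      unfold QuadraticMap.polar
      have e : ∀ p q : ι → fixS σ, (fun i => (((p + q) i : fixS σ) : F)) =
          (fun i => ((p i : fixS σ) : F)) + fun i => ((q i : fixS σ) : F) := by
        intro p q; funext i; simp
      simp only [Subfield.coe_add, Subfield.coe_sub]
      rw [e, e, e, e]
      have := QuadraticMap.polar_add_left Q (fun i => ((x i : fixS σ) : F))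
        (fun i => ((x' i : fixS σ) : F)) (fun i => ((y i : fixS σ) : F))
      unfold QuadraticMap.polar at this
      exact this)
    (by
      intro a x y
      apply Subtype.ext
      unfold QuadraticMap.polar
      have e : ∀ p q : ι → fixS σ, (fun i => (((p + q) i : fixS σ) : F)) =
          (fun i => ((p i : fixS σ) : F)) + fun i => ((q i : fixS σ) : F) := by
        intro p q; funext i; simp
      have h1 : (fun i => (((a • x) i : fixS σ) : F)) = (a : F) • fun i => ((x i : fixS σ) : F) := by
        funext i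
        simp
      simp only [Subfield.coe_sub, smul_eq_mul, Subfield.coe_mul]
      rw [e (a • x) y, h1, e x y]
      have := QuadraticMap.polar_smul_left Q (a : F) (fun i => ((x i : fixS σ) : F))
        (fun i => ((y i : fixS σ) : F))
      unfold QuadraticMap.polar at this
      rw [smul_eq_mul] at this
      exact this)

theorem descend_apply (Q : QuadraticForm F (ι → F)) (σ : RingAut F)
    (hσ : SigCompat (⇑Q : (ι → F) → F) σ) (v : ι → fixS σ) :
    ((descend Q σ hσ v : fixS σ) : F) = Q (fun i => ((v i : fixS σ) : F)) := rfl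

theorem descend_compat (Q : QuadraticForm F (ι → F)) (σ : RingAut F)
    (hσ : SigCompat (⇑Q : (ι → F) → F) σ) :
    BaseCompat (fixS σ).subtype (⇑(descend Q σ hσ)) (⇑Q) := by
  intro v
  rfl

end descent

end Cfsg.Agent.Lib.Helper16.OM
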