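import Mathlib
import Cfsg.Agent.Lib.Helper16.OM3

set_option autoImplicit false
set_option linter.unusedSectionVars false
set_option linter.unusedVariables false

/-! Lang-type results for even-dimensional orthogonal groups, part 4: non-degeneracy descends. -/

namespace Cfsg.Agent.Lib.Helper16.OM

open Matrix Cfsg.Agent.Lib.Lead.OA Cfsg.Agent.Lib.Helper16 Cfsg.Agent.Lib.Helper16.OA
  Cfsg.Agent.Lib.Helper16.OL Cfsg.Agent.Lib.Helper16.H9

universe u v

variable {ι : Type} [Fintype ι] [DecidableEq ι] {F : Type u} [Field F] {F₀ : Type v} [Field F₀]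

theorem polar_base (j : F₀ →+* F) (Q₀ : QuadraticForm F₀ (ι → F₀)) (Q : QuadraticForm F (ι → F))
    (hc : BaseCompat j (⇑Q₀) (⇑Q)) (x y : ι → F₀) :
    QuadraticMap.polar (⇑Q) (fun i => j (x i)) (fun i => j (y i)) =
      j (QuadraticMap.polar (⇑Q₀) x y) := by
  unfold QuadraticMap.polar
  rw [map_sub, map_sub, ← hc, ← hc, ← hc]
  have e : ((fun i => j (x i)) + fun i => j (y i)) = fun i => j ((x + y) i) := by
    funext i
    simp
  rw [e]

theorem nondeg_base (j : F₀ →+* F) (Q₀ : QuadraticForm F₀ (ι → F₀)) (Q : QuadraticForm F (ι → F))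
    (hc : BaseCompat j (⇑Q₀) (⇑Q)) (hQ : (QuadraticMap.polarBilin Q).Nondegenerate) :
    (QuadraticMap.polarBilin Q₀).Nondegenerate := by
  have hleft : ∀ x : ι → F₀, (∀ y, QuadraticMap.polarBilin Q₀ x y = 0) → x = 0 := by
    intro x hx
    have h1 : ∀ w : ι → F, QuadraticMap.polarBilin Q (fun i => j (x i)) w = 0 := by
      intro w
      have hw : w ∈ Submodule.span F (Set.range (Pi.basisFun F ι)) := by
        rw [(Pi.basisFun F ι).span_eq]; trivial
      induction hw using Submodule.span_induction with
      | mem z hz =>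
        obtain ⟨k, rfl⟩ := hz
        rw [Pi.basisFun_apply, ← comp_single_base j k, QuadraticMap.polarBilin_apply_apply,
          polar_base j Q₀ Q hc]
        have := hx (Pi.single k 1)
        rw [QuadraticMap.polarBilin_apply_apply] at this
        rw [this, map_zero]
      | zero => simp
      | add a b _ _ ha hb => rw [map_add, ha, hb, add_zero]
      | smul c a _ ha => rw [map_smul, ha, smul_zero]
    have h2 := hQ.1 _ h1
    funext i
    have := congrFun h2 i
    simp only [Pi.zero_apply] at this ⊢
    exact (map_eq_zero j).mp this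
  refine ⟨hleft, ?_⟩
  intro y hy
  apply hleft
  intro x
  have := hy x
  rw [QuadraticMap.polarBilin_apply_apply] at this ⊢
  rw [QuadraticMap.polar_comm]; exact this

end Cfsg.Agent.Lib.Helper16.OM
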