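import Mathlib
import Cfsg.Agent.Lib.Helper16.OM4

set_option autoImplicit false
set_option linter.unusedSectionVars false
set_option linter.unusedVariables false

/-! Lang-type results for even-dimensional orthogonal groups, part 5: from a cocycle in the
similarity group to a `σ`-compatible form similar to the original one. -/

namespace Cfsg.Agent.Lib.Helper16.OM

open Matrix Cfsg.Agent.Lib.Lead.OA Cfsg.Agent.Lib.Helper16 Cfsg.Agent.Lib.Helper16.OA
  Cfsg.Agent.Lib.Helper16.OL Cfsg.Agent.Lib.Helper16.H9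

universe u

variable {ι : Type} [Fintype ι] [DecidableEq ι] {F : Type u} [Field F]

theorem nondeg_of_sim (Q P : QuadraticForm F (ι → F)) (B : GL ι F) (d : F) (hd : d ≠ 0)
    (h : ∀ v, Q ((B : Matrix ι ι F) *ᵥ v) = d * P v)
    (hQ : (QuadraticMap.polarBilin Q).Nondegenerate) :
    (QuadraticMap.polarBilin P).Nondegenerate := by
  have hpol : ∀ x y, QuadraticMap.polar (⇑Q) ((B : Matrix ι ι F) *ᵥ x) ((B : Matrix ι ι F) *ᵥ y) =
      d * QuadraticMap.polar (⇑P) x y := by
    intro x y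
    unfold QuadraticMap.polar
    rw [← Matrix.mulVec_add, h, h, h]
    ring
  have hsurj : ∀ w : ι → F, ∃ y, (B : Matrix ι ι F) *ᵥ y = w := by
    intro w
    refine ⟨((B⁻¹ : GL ι F) : Matrix ι ι F) *ᵥ w, ?_⟩
    rw [Matrix.mulVec_mulVec, ← Units.val_mul, mul_inv_cancel, Units.val_one, Matrix.one_mulVec]
  have hleft : ∀ x : ι → F, (∀ y, QuadraticMap.polarBilin P x y = 0) → x = 0 := by
    intro x hx
    have h1 : ∀ w, QuadraticMap.polarBilin Q ((B : Matrix ι ι F) *ᵥ x) w = 0 := by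
      intro w
      obtain ⟨y, rfl⟩ := hsurj w
      rw [QuadraticMap.polarBilin_apply_apply, hpol]
      have := hx y
      rw [QuadraticMap.polarBilin_apply_apply] at this
      rw [this, mul_zero]
    have h2 := hQ.1 _ h1
    have h3 : ((B⁻¹ : GL ι F) : Matrix ι ι F) *ᵥ ((B : Matrix ι ι F) *ᵥ x) = 0 := by
      rw [h2, Matrix.mulVec_zero]
    rwa [Matrix.mulVec_mulVec, ← Units.val_mul, inv_mul_cancel, Units.val_one,
      Matrix.one_mulVec] at h3
  refine ⟨hleft, ?_⟩
  intro y hy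
  apply hleft
  intro x
  have := hy x
  rw [QuadraticMap.polarBilin_apply_apply] at this ⊢
  rw [QuadraticMap.polar_comm]; exact this

variable [Fintype F]

theorem sig_coe_fix (σ : RingAut F) (v : ι → fixS σ) :
    (fun i => σ ((fun k => ((v k : fixS σ) : F)) i)) = fun i => ((v i : fixS σ) : F) :=
  sig_coe_fixS σ v

/-- from a cocycle `g` in the similarity group: a matrix `B` with `g σ(B) = B` and a
`σ`-compatible form `P` with `Q ∘ B = d P`. -/
theorem descent_data (Q : QuadraticForm F (ι → F))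
    (hQ : (QuadraticMap.polarBilin Q).Nondegenerate) (hne : ∃ v, Q v ≠ 0) (σ : RingAut F)
    (hσ : SigCompat (⇑Q : (ι → F) → F) σ) (r : ℕ)
    (hinj : ∀ i j, i < r → j < r → σ ^ i = σ ^ j → i = j) (hr0 : 0 < r) (hσr : σ ^ r = 1)
    (g : GL ι F) (hg : g ∈ GO (⇑Q : (ι → F) → F)) (hA : twI σ g r = 1) :
    ∃ (B : GL ι F) (d : F) (P : QuadraticForm F (ι → F)), g * glMapEquiv σ B = B ∧ d ≠ 0 ∧
      SigCompat (⇑P : (ι → F) → F) σ ∧ (∀ v, Q ((B : Matrix ι ι F) *ᵥ v) = d * P v) := by
  classical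
  obtain ⟨B, hB⟩ := h90_I σ r hinj hr0 hσr g hA
  obtain ⟨c, hc⟩ := hg
  set P' : QuadraticForm F (ι → F) := Q.comp (Matrix.toLin' (B : Matrix ι ι F)) with hP'
  have hP'app : ∀ v, P' v = Q ((B : Matrix ι ι F) *ᵥ v) := by
    intro v
    rw [hP', QuadraticMap.comp_apply, Matrix.toLin'_apply]
  have hBval : (g : Matrix ι ι F) * ((B : Matrix ι ι F)).map ⇑σ = (B : Matrix ι ι F) := by
    have := congrArg (fun x : GL ι F => (x : Matrix ι ι F)) hB
    simp only [Units.val_mul, glMapEquiv_val] at this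
    exact this
  have hP'σ : ∀ v : ι → F, P' (fun i => σ (v i)) = (c : F) * σ (P' v) := by
    intro v
    rw [hP'app, hP'app]
    conv_lhs => rw [← hBval, ← Matrix.mulVec_mulVec]
    rw [hc]
    have h1 : ((B : Matrix ι ι F)).map ⇑σ *ᵥ (fun i => σ (v i)) =
        fun i => σ (((B : Matrix ι ι F) *ᵥ v) i) := by
      have := mulVec_map_field σ B v
      rw [glMapEquiv_val] at this
      exact this
    rw [h1, hσ]
  -- a rational vector on which `P'` does not vanish
  obtain ⟨v₀, hv₀⟩ : ∃ v₀ : ι → fixS σ, P' (fun i => ((v₀ i : fixS σ) : F)) ≠ 0 := by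
    by_contra hcon
    push Not at hcon
    have hzero : ∀ w, P' w = (0 : QuadraticForm F (ι → F)) w :=
      qf_ext_rational (fixS σ).subtype P' 0 (fun v => by
        rw [_root_.zero_apply]
        exact hcon v)
    obtain ⟨u, hu⟩ := hne
    apply hu
    have := hzero (((B⁻¹ : GL ι F) : Matrix ι ι F) *ᵥ u)
    rw [hP'app, Matrix.mulVec_mulVec, ← Units.val_mul, mul_inv_cancel, Units.val_one,
      Matrix.one_mulVec, _root_.zero_apply] at this
    exact this
  set d : F := P' (fun i => ((v₀ i : fixS σ) : F)) with hd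
  have hdσ : d = (c : F) * σ d := by
    have := hP'σ (fun i => ((v₀ i : fixS σ) : F))
    rw [sig_coe_fix] at this
    exact this
  have hc0 : (c : F) ≠ 0 := c.ne_zero
  refine ⟨B, d, d⁻¹ • P', hB, hv₀, ?_, ?_⟩
  · intro v
    rw [_root_.smul_apply, _root_.smul_apply, smul_eq_mul, smul_eq_mul, hP'σ, map_mul, map_inv₀]
    have hσd : σ d = (c : F)⁻¹ * d := by
      rw [eq_inv_mul_iff_mul_eq₀ hc0]; exact hdσ.symm
    rw [hσd]
    field_simp
  · intro v
    rw [_root_.smul_apply, smul_eq_mul, hP'app]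
    field_simp

end Cfsg.Agent.Lib.Helper16.OM
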