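import Mathlib
import Cfsg.Agent.Lib.Helper16.OM5
import Cfsg.Agent.Lib.Helper16.OA41
import Cfsg.Agent.Lib.Helper16.OPlane
import Cfsg.Agent.Lib.Helper16.PlusFam
import Cfsg.Agent.Lib.Helper16.WittMat

set_option autoImplicit false
set_option linter.unusedSectionVars false
set_option linter.unusedVariables false

/-! Lang-type results for even-dimensional orthogonal groups, part 6: Hilbert 90 for the similarity
group of a minus-type form whose coefficients are fixed by `σ`. -/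

namespace Cfsg.Agent.Lib.Helper16.OM

open Matrix Cfsg.Agent.Lib.Lead.OA Cfsg.Agent.Lib.Helper16 Cfsg.Agent.Lib.Helper16.OA
  Cfsg.Agent.Lib.Helper16.OL Cfsg.Agent.Lib.Helper16.H9 Cfsg.Agent.Lib.Helper16.OSemi

universe u

variable {F : Type u} [Field F] [Fintype F] {m : ℕ}

theorem sigCompat_minus (σ : RingAut F) (a b : F) (ha : σ a = a) (hb : σ b = b) :
    SigCompat (⇑(qfMinus m F a b) : ((Fin m ⊕ Fin m) ⊕ Fin 2 → F) → F) σ := by
  intro v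
  rw [qfMinus_coe]
  have := quadFormMinus_map (σ : F →+* F) (k := m) a b v
  have e1 : ((σ : F →+* F) a) = a := ha
  have e2 : ((σ : F →+* F) b) = b := hb
  rw [e1, e2] at this
  exact this

/-- base change of a linear equivalence over the fixed field: the matrix. -/
theorem baseCompat_minus (σ : RingAut F) (a₀ b₀ : fixS σ) :
    BaseCompat (fixS σ).subtype (⇑(qfMinus m (fixS σ) a₀ b₀)) (⇑(qfMinus m F (a₀ : F) (b₀ : F))) := by
  intro v
  rw [qfMinus_coe, qfMinus_coe]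
  exact quadFormMinus_map (fixS σ).subtype a₀ b₀ v

theorem baseCompat_plus (σ : RingAut F) (k : ℕ) :
    BaseCompat (fixS σ).subtype (⇑(qfPlus k (fixS σ))) (⇑(qfPlus k F)) := by
  intro v
  rw [qfPlus_coe, qfPlus_coe]
  unfold Cfsg.quadFormPlus
  simp only [map_sum, map_mul]

theorem aniso_fix (σ : RingAut F) (a₀ b₀ : fixS σ)
    (hab : ∀ z₁ z₂ : F, z₁ ^ 2 + (a₀ : F) * z₁ * z₂ + (b₀ : F) * z₂ ^ 2 = 0 → z₁ = 0 ∧ z₂ = 0) :
    ∀ z₁ z₂ : fixS σ, z₁ ^ 2 + a₀ * z₁ * z₂ + b₀ * z₂ ^ 2 = 0 → z₁ = 0 ∧ z₂ = 0 := by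
  intro z₁ z₂ h
  have h1 := congrArg (fun x : fixS σ => (x : F)) h
  simp only [Subfield.coe_add, Subfield.coe_mul, SubmonoidClass.coe_pow, ZeroMemClass.coe_zero] at h1
  obtain ⟨e1, e2⟩ := hab _ _ h1
  exact ⟨Subtype.ext e1, Subtype.ext e2⟩

theorem map_fix_eq (σ : RingAut F) {ι : Type} [Fintype ι] [DecidableEq ι] (M₀ : GL ι (fixS σ)) :
    glMapEquiv σ (inclI (fixS σ).subtype M₀) = inclI (fixS σ).subtype M₀ := by
  apply Units.ext
  rw [glMapEquiv_val, inclI_val]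
  ext i k
  rw [Matrix.map_apply, Matrix.map_apply]
  exact (mem_fixS σ _).mp (M₀.1 i k).2

set_option maxHeartbeats 1600000 in
/-- Hilbert 90 for the similarity group of a minus-type form with `σ`-fixed coefficients. -/
theorem h90_GO_minus (a b : F)
    (hab : ∀ z₁ z₂ : F, z₁ ^ 2 + a * z₁ * z₂ + b * z₂ ^ 2 = 0 → z₁ = 0 ∧ z₂ = 0)
    (σ : RingAut F) (ha : σ a = a) (hb : σ b = b) (r : ℕ)
    (hinj : ∀ i j, i < r → j < r → σ ^ i = σ ^ j → i = j) (hr0 : 0 < r) (hσr : σ ^ r = 1)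
    (g : GL ((Fin m ⊕ Fin m) ⊕ Fin 2) F)
    (hg : g ∈ GO (⇑(qfMinus m F a b) : ((Fin m ⊕ Fin m) ⊕ Fin 2 → F) → F))
    (hA : twI σ g r = 1) :
    ∃ h : GL ((Fin m ⊕ Fin m) ⊕ Fin 2) F,
      h ∈ GO (⇑(qfMinus m F a b) : ((Fin m ⊕ Fin m) ⊕ Fin 2 → F) → F) ∧
        g * glMapEquiv σ h = h := by
  classical
  have hQ := OSemi.qfMinus_nondeg m a b hab
  have hne := minus_exists_ne_zero (F := F) m a b
  have hσc := sigCompat_minus (m := m) σ a b ha hb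
  obtain ⟨B, d, P, hB, hd, hPσ, hQB⟩ :=
    descent_data (qfMinus m F a b) hQ hne σ hσc r hinj hr0 hσr g hg hA
  have hP := nondeg_of_sim (qfMinus m F a b) P B d hd hQB hQ
  have : Fintype (fixS σ) := Fintype.ofFinite _
  set P₀ := descend P σ hPσ with hP₀def
  have hP₀c := descend_compat P σ hPσ
  have hP₀ := nondeg_base (fixS σ).subtype P₀ P hP₀c hP
  have hcard : Fintype.card ((Fin m ⊕ Fin m) ⊕ Fin 2) = 2 * (m + 1) := by
    simp; ring
  have hcl := classify (m := m + 1) (by omega) hcard P₀ hP₀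
  rw [Nat.add_sub_cancel] at hcl
  rcases hcl with ⟨Φ, hΦ⟩ | ⟨ζ, hζ, Φ, hΦ⟩
  · exfalso
    set M₀ : Matrix ((Fin m ⊕ Fin m) ⊕ Fin 2) (Fin (m + 1) ⊕ Fin (m + 1)) (fixS σ) :=
      LinearMap.toMatrix' Φ.toLinearMap with hM₀
    set N₀ : Matrix (Fin (m + 1) ⊕ Fin (m + 1)) ((Fin m ⊕ Fin m) ⊕ Fin 2) (fixS σ) :=
      LinearMap.toMatrix' Φ.symm.toLinearMap with hN₀
    have hNM : N₀ * M₀ = 1 := by
      rw [hN₀, hM₀, ← LinearMap.toMatrix'_comp]
      have : Φ.symm.toLinearMap ∘ₗ Φ.toLinearMap = LinearMap.id := by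
        ext x; simp
      rw [this, LinearMap.toMatrix'_id]
    have hsim := sim_ext (fixS σ).subtype P₀ P hP₀c (qfPlus (m + 1) (fixS σ)) (qfPlus (m + 1) F)
      (baseCompat_plus σ (m + 1)) M₀ 1 (fun v => by
        rw [hM₀, LinearMap.toMatrix'_mulVec, one_mul, qfPlus_coe]
        exact hΦ v)
    set Bm : Matrix ((Fin m ⊕ Fin m) ⊕ Fin 2) ((Fin m ⊕ Fin m) ⊕ Fin 2) F :=
      ((B : GL ((Fin m ⊕ Fin m) ⊕ Fin 2) F) : Matrix ((Fin m ⊕ Fin m) ⊕ Fin 2) ((Fin m ⊕ Fin m) ⊕ Fin 2) F)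
      with hBm
    set Bi : Matrix ((Fin m ⊕ Fin m) ⊕ Fin 2) ((Fin m ⊕ Fin m) ⊕ Fin 2) F :=
      ((B⁻¹ : GL ((Fin m ⊕ Fin m) ⊕ Fin 2) F) : Matrix ((Fin m ⊕ Fin m) ⊕ Fin 2) ((Fin m ⊕ Fin m) ⊕ Fin 2) F)
      with hBi
    have hBiB : Bi * Bm = 1 := by
      rw [hBi, hBm, ← Units.val_mul, inv_mul_cancel, Units.val_one]
    set M : Matrix ((Fin m ⊕ Fin m) ⊕ Fin 2) (Fin (m + 1) ⊕ Fin (m + 1)) F :=
      M₀.map ⇑(fixS σ).subtype with hM
    set N : Matrix (Fin (m + 1) ⊕ Fin (m + 1)) ((Fin m ⊕ Fin m) ⊕ Fin 2) F :=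
      N₀.map ⇑(fixS σ).subtype with hN
    have hNM' : N * M = 1 := by
      rw [hN, hM, ← Matrix.map_mul, hNM]
      exact Matrix.map_one _ (map_zero _) (map_one _)
    set L : (Fin (m + 1) ⊕ Fin (m + 1) → F) →ₗ[F] ((Fin m ⊕ Fin m) ⊕ Fin 2 → F) :=
      Matrix.toLin' (Bm * M) with hL
    have hLinj : Function.Injective L := by
      intro x y hxy
      have h1 : (N * Bi) *ᵥ (L x) = (N * Bi) *ᵥ (L y) := by rw [hxy]
      have h2 : ∀ z, (N * Bi) *ᵥ (L z) = z := by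
        intro z
        rw [hL, Matrix.toLin'_apply, Matrix.mulVec_mulVec]
        have : N * Bi * (Bm * M) = 1 := by
          rw [Matrix.mul_assoc, ← Matrix.mul_assoc Bi, hBiB, Matrix.one_mul, hNM']
        rw [this, Matrix.one_mulVec]
      rwa [h2, h2] at h1
    set U : Submodule F ((Fin m ⊕ Fin m) ⊕ Fin 2 → F) := (EPlus (m + 1) F).map L with hU
    have hUts : ∀ u ∈ U, Cfsg.quadFormMinus m F a b u = 0 := by
      rintro _ ⟨w, hw, rfl⟩
      rw [hL, Matrix.toLin'_apply, ← Matrix.mulVec_mulVec, ← qfMinus_coe, hQB, hsim]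
      have : qfPlus (m + 1) F w = 0 := EPlus_TS w hw
      rw [this, mul_zero, mul_zero]
    have hUfr : Module.finrank F ↥U = m + 1 := by
      have h1 := (Submodule.equivMapOfInjective L hLinj (EPlus (m + 1) F)).finrank_eq
      rw [EPlus_finrank] at h1
      exact h1.symm
    have h5 : Module.finrank F ↥U ≤ m :=
      Cfsg.Agent.Lib.Lead.WI.minus_ts_le (k := m) (a := a) (b := b) hab U hUts
    rw [hUfr] at h5
    omega
  · set a₀ : fixS σ := ⟨a, (mem_fixS σ a).mpr ha⟩ with ha₀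
    set b₀ : fixS σ := ⟨b, (mem_fixS σ b).mpr hb⟩ with hb₀
    have hab₀ := aniso_fix σ a₀ b₀ hab
    obtain ⟨Ψ, hΨ⟩ := minus_change m a₀ b₀ 1 ζ hab₀ (aniso_of_irred ζ hζ)
    set M₀ : GL ((Fin m ⊕ Fin m) ⊕ Fin 2) (fixS σ) := linEquivToGL (Ψ.trans Φ) with hM₀
    have hsim := sim_ext (fixS σ).subtype P₀ P hP₀c (qfMinus m (fixS σ) a₀ b₀)
      (qfMinus m F a b) (baseCompat_minus σ a₀ b₀) (M₀ : Matrix _ _ (fixS σ)) 1 (fun v => by
        rw [hM₀, linEquivToGL_mulVec, one_mul, LinearEquiv.trans_apply, hΦ, hΨ, qfMinus_coe])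
    set bGL : GL ((Fin m ⊕ Fin m) ⊕ Fin 2) F := inclI (fixS σ).subtype M₀ with hbGL
    refine ⟨B * bGL, ?_, ?_⟩
    · rw [mem_GO_iff]
      refine ⟨Units.mk0 d hd, fun v => ?_⟩
      rw [Units.val_mul, ← Matrix.mulVec_mulVec, hQB, hbGL, inclI_val, hsim, map_one, one_mul,
        Units.val_mk0]
    · rw [map_mul, ← mul_assoc, hB, hbGL, map_fix_eq]

end Cfsg.Agent.Lib.Helper16.OM
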