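import Mathlib
import Cfsg.Prelude.Def_LieTypeDatum
import Cfsg.Agent.Lib.Helper16.SpinE1
import Cfsg.Agent.Lib.helper6.Quad

set_option autoImplicit false
set_option linter.unusedSectionVars false
set_option linter.unusedVariables false

namespace Cfsg.Agent.Lib.Helper16.PSC

open Module Matrix Cfsg Cfsg.Agent.Lib.helper6

variable {ι : Type} [Fintype ι] [DecidableEq ι] {K : Type*} [Field K]
variable (Q : QuadraticForm K (ι → K))

/-- orthogonal complement for the polar form -/
abbrev orth (U : Submodule K (ι → K)) : Submodule K (ι → K) :=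
  LinearMap.BilinForm.orthogonal (QuadraticMap.polarBilin Q) U

theorem polar_of_ts {U : Submodule K (ι → K)} (hU : Cfsg.Geo.IsTotallySingularQuad (⇑Q) U)
    {u w : ι → K} (hu : u ∈ U) (hw : w ∈ U) : QuadraticMap.polar (⇑Q) u w = 0 := by
  unfold QuadraticMap.polar
  rw [hU _ (U.add_mem hu hw), hU _ hu, hU _ hw]; ring

theorem ts_le_orth {U : Submodule K (ι → K)} (hU : Cfsg.Geo.IsTotallySingularQuad (⇑Q) U) :
    U ≤ orth Q U := by
  intro w hw u hu
  exact polar_of_ts Q hU hu hw

theorem finrank_orth (hQ : (QuadraticMap.polarBilin Q).Nondegenerate) (n : ℕ)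
    (hcard : Fintype.card ι = 2 * n) (W : Submodule K (ι → K)) :
    finrank K ↥(orth Q W) = 2 * n - finrank K ↥W := by
  rw [LinearMap.BilinForm.finrank_orthogonal hQ, Module.finrank_fintype_fun_eq_card, hcard]

theorem finrank_le_two (n : ℕ) (hcard : Fintype.card ι = 2 * n) (W : Submodule K (ι → K)) :
    finrank K ↥W ≤ 2 * n := by
  have := Submodule.finrank_le W
  rwa [Module.finrank_fintype_fun_eq_card, hcard] at this

theorem ts_finrank_le (hQ : (QuadraticMap.polarBilin Q).Nondegenerate) (n : ℕ)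
    (hcard : Fintype.card ι = 2 * n) {U : Submodule K (ι → K)}
    (hU : Cfsg.Geo.IsTotallySingularQuad (⇑Q) U) : finrank K ↥U ≤ n := by
  have h1 := Submodule.finrank_mono (ts_le_orth Q hU)
  rw [finrank_orth Q hQ n hcard] at h1
  omega

theorem ts_orth_eq (hQ : (QuadraticMap.polarBilin Q).Nondegenerate) (n : ℕ)
    (hcard : Fintype.card ι = 2 * n) {U : Submodule K (ι → K)}
    (hU : Cfsg.Geo.IsTotallySingularQuad (⇑Q) U) (hn : finrank K ↥U = n) :
    orth Q U = U := by
  symm
  apply Submodule.eq_of_le_of_finrank_le (ts_le_orth Q hU)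
  rw [finrank_orth Q hQ n hcard, hn]
  omega

theorem isMax_of_finrank (hQ : (QuadraticMap.polarBilin Q).Nondegenerate) (n : ℕ)
    (hcard : Fintype.card ι = 2 * n) {U : Submodule K (ι → K)}
    (hU : Cfsg.Geo.IsTotallySingularQuad (⇑Q) U) (hn : finrank K ↥U = n) :
    Cfsg.IsMaxTotallySingular (⇑Q) U := by
  refine ⟨hU, fun W hW hUW => ?_⟩
  symm
  apply Submodule.eq_of_le_of_finrank_le hUW
  rw [hn]
  exact ts_finrank_le Q hQ n hcard hW

theorem orth_sup (U W : Submodule K (ι → K)) :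
    orth Q (U ⊔ W) =
      orth Q U ⊓ orth Q W := by
  apply le_antisymm
  · exact le_inf (LinearMap.BilinForm.orthogonal_le le_sup_left)
      (LinearMap.BilinForm.orthogonal_le le_sup_right)
  · rintro x ⟨hx1, hx2⟩ y hy
    obtain ⟨u, hu, w, hw, rfl⟩ := Submodule.mem_sup.mp hy
    show QuadraticMap.polarBilin Q (u + w) x = 0
    rw [map_add, LinearMap.add_apply]
    have h1 : QuadraticMap.polarBilin Q u x = 0 := hx1 u hu
    have h2 : QuadraticMap.polarBilin Q w x = 0 := hx2 w hw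
    rw [h1, h2, add_zero]

/-- every maximal totally singular subspace has dimension `n` -/
theorem finrank_of_isMax (hQ : (QuadraticMap.polarBilin Q).Nondegenerate) (n : ℕ)
    (hcard : Fintype.card ι = 2 * n) (E : Submodule K (ι → K))
    (hE : Cfsg.Geo.IsTotallySingularQuad (⇑Q) E) (hEn : finrank K ↥E = n)
    {U : Submodule K (ι → K)} (hU : Cfsg.IsMaxTotallySingular (⇑Q) U) : finrank K ↥U = n := by
  set O := orth Q U with hO
  have hW : Cfsg.Geo.IsTotallySingularQuad (⇑Q) (U ⊔ (E ⊓ O)) := by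
    intro x hx
    obtain ⟨u, hu, e, he, rfl⟩ := Submodule.mem_sup.mp hx
    have h1 : QuadraticMap.polar (⇑Q) u e = 0 := he.2 u hu
    have h2 : Q (u + e) = Q u + Q e + QuadraticMap.polar (⇑Q) u e := by
      unfold QuadraticMap.polar; ring
    rw [h2, h1, hU.1 u hu, hE e he.1]; ring
  have h3 := hU.2 _ hW le_sup_left
  have h4 : E ⊓ O ≤ U := by
    rw [← h3]; exact le_sup_right
  have h5 : E ⊓ O = E ⊓ U := by
    apply le_antisymm
    · exact le_inf inf_le_left h4
    · exact inf_le_inf_left _ (ts_le_orth Q hU.1)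
  have h6 : E ⊓ O = orth Q (E ⊔ U) := by
    rw [orth_sup, ts_orth_eq Q hQ n hcard hE hEn]
  have h7 := finrank_orth Q hQ n hcard (E ⊔ U)
  rw [← h6, h5] at h7
  have h8 := Submodule.finrank_sup_add_finrank_inf_eq E U
  have h9 := finrank_le_two (K := K) n hcard (E ⊔ U)
  have h10 := ts_finrank_le Q hQ n hcard hU.1
  omega


theorem polar_sim' (g : Matrix ι ι K) (μ : K) (hg : ∀ v, Q (g *ᵥ v) = μ * Q v) (x y : ι → K) :
    QuadraticMap.polar (⇑Q) (g *ᵥ x) (g *ᵥ y) = μ * QuadraticMap.polar (⇑Q) x y := by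
  unfold QuadraticMap.polar
  rw [← Matrix.mulVec_add, hg, hg, hg]
  ring

/-- a similarity stabilising a totally singular subspace of dimension `n` has determinant `μ ^ n` -/
theorem det_of_stab (hQ : (QuadraticMap.polarBilin Q).Nondegenerate) (n : ℕ)
    (hcard : Fintype.card ι = 2 * n) {U : Submodule K (ι → K)}
    (hU : Cfsg.Geo.IsTotallySingularQuad (⇑Q) U) (hn : finrank K ↥U = n)
    (g : Matrix ι ι K) (μ : K) (hg : ∀ v, Q (g *ᵥ v) = μ * Q v)
    (hgU : ∀ u ∈ U, g *ᵥ u ∈ U) : g.det = μ ^ n := by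
  set f : (ι → K) →ₗ[K] (ι → K) := Matrix.toLin' g with hf
  have hfv : ∀ v, f v = g *ᵥ v := fun v => Matrix.toLin'_apply g v
  have he : U ≤ U.comap f := fun u hu => by
    rw [Submodule.mem_comap, hfv]; exact hgU u hu
  have hdet := LinearMap.det_eq_det_mul_det U f he
  have hdet0 : LinearMap.det f = g.det := by rw [hf, LinearMap.det_toLin']
  rw [← hdet0, hdet]
  set fU := f.restrict he with hfU
  set fQ := U.mapQ U f he with hfQ
  -- the pairing map
  set ψ : (ι → K) →ₗ[K] Module.Dual K ↥U := U.dualRestrict ∘ₗ (QuadraticMap.polarBilin Q) with hψ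
  have hψa : ∀ v (u : ↥U), ψ v u = QuadraticMap.polar (⇑Q) v (u : ι → K) := fun v u => rfl
  have hker : U = LinearMap.ker ψ := by
    ext v
    rw [LinearMap.mem_ker]
    constructor
    · intro hv
      ext u
      rw [hψa, LinearMap.zero_apply]
      exact polar_of_ts Q hU hv u.2
    · intro hv
      rw [← ts_orth_eq Q hQ n hcard hU hn]
      intro u hu
      show QuadraticMap.polar (⇑Q) u v = 0
      rw [QuadraticMap.polar_comm]
      have := LinearMap.congr_fun hv ⟨u, hu⟩
      rw [hψa] at this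
      exact this
  set ψQ : ((ι → K) ⧸ U) →ₗ[K] Module.Dual K ↥U := U.liftQ ψ (le_of_eq hker) with hψQ
  have hinj : Function.Injective ψQ := by
    rw [← LinearMap.ker_eq_bot]
    exact Submodule.ker_liftQ_eq_bot' U ψ hker
  have hfr : finrank K ((ι → K) ⧸ U) = finrank K (Module.Dual K ↥U) := by
    have h1 := Submodule.finrank_quotient_add_finrank U
    rw [Module.finrank_fintype_fun_eq_card, hcard, hn] at h1
    rw [Subspace.dual_finrank_eq, hn]
    omega
  set e : ((ι → K) ⧸ U) ≃ₗ[K] Module.Dual K ↥U := LinearEquiv.ofInjectiveOfFinrankEq ψQ hinj hfr with he'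
  have hee : ∀ x, e x = ψQ x := fun x => rfl
  have key : fU.dualMap ∘ₗ ((e : ((ι → K) ⧸ U) →ₗ[K] Module.Dual K ↥U) ∘ₗ fQ ∘ₗ
      (e.symm : Module.Dual K ↥U →ₗ[K] ((ι → K) ⧸ U))) = μ • LinearMap.id := by
    apply LinearMap.ext
    intro φ
    obtain ⟨x, rfl⟩ := e.surjective φ
    obtain ⟨v, rfl⟩ := Submodule.mkQ_surjective U x
    simp only [LinearMap.coe_comp, LinearEquiv.coe_coe, Function.comp_apply,
      LinearEquiv.symm_apply_apply, LinearMap.smul_apply, LinearMap.id_coe, id_eq]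
    ext u
    rw [LinearMap.dualMap_apply, hee, hee, LinearMap.smul_apply]
    show ψQ (U.mapQ U f he (U.mkQ v)) (fU u) = μ • ψQ (U.mkQ v) u
    rw [Submodule.mkQ_apply, Submodule.mapQ_apply, hψQ, Submodule.liftQ_apply, Submodule.liftQ_apply,
      hψa, hψa]
    show QuadraticMap.polar (⇑Q) (f v) (f (u : ι → K)) = _
    rw [hfv, hfv, polar_sim' Q g μ hg, smul_eq_mul]
  have h1 : LinearMap.det fU * LinearMap.det fQ =
      LinearMap.det (fU.dualMap ∘ₗ ((e : ((ι → K) ⧸ U) →ₗ[K] Module.Dual K ↥U) ∘ₗ fQ ∘ₗ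
      (e.symm : Module.Dual K ↥U →ₗ[K] ((ι → K) ⧸ U)))) := by
    rw [LinearMap.det_comp, LinearMap.det_conj, LinearMap.det_dualMap]
  rw [h1, key, LinearMap.det_smul, LinearMap.det_id, mul_one, Subspace.dual_finrank_eq, hn]

end Cfsg.Agent.Lib.Helper16.PSC
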