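import Mathlib
import Cfsg.Agent.Lib.Helper16.OM6
import Cfsg.Agent.Lib.Helper16.PSC1
import Cfsg.Agent.Lib.Helper16.FamRefl

set_option autoImplicit false
set_option linter.unusedSectionVars false
set_option linter.unusedVariables false

/-! Lang-type results for even-dimensional orthogonal groups, part 7: class preservation in terms
of the family character, in every characteristic; base change of isometries. -/

namespace Cfsg.Agent.Lib.Helper16.OM

open Matrix Module Cfsg.Agent.Lib.Lead.OA Cfsg.Agent.Lib.Helper16 Cfsg.Agent.Lib.Helper16.OA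
  Cfsg.Agent.Lib.Helper16.OL Cfsg.Agent.Lib.Helper16.PSC

universe u v

section fam

variable {ι : Type} [Fintype ι] [DecidableEq ι] {K : Type u} [Field K]

theorem toLin'_eq_mulVecLin (M : Matrix ι ι K) : Matrix.toLin' M = Matrix.mulVecLin M := by
  ext v
  simp

/-- an isometry preserves the two classes of maximal totally singular subspaces iff its family
character is trivial. -/
theorem psc_iff_famChar (Q : QuadraticForm K (ι → K))
    (hQ : (QuadraticMap.polarBilin Q).Nondegenerate) (n : ℕ) (hcard : Fintype.card ι = 2 * n)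
    (E : Submodule K (ι → K)) (hE : TS Q E) (dE : finrank K ↥E = n)
    (g : ↥(Cfsg.isometryGroup K (⇑Q : (ι → K) → K))) :
    Cfsg.PreservesSingularClasses (⇑Q : (ι → K) → K) ((g : GL ι K) : Matrix ι ι K) ↔
      famChar Q n E g = 1 := by
  have hdim := finrank_pi_eq_two_mul (F := K) hcard
  rw [famChar_eq_one_iff]
  set gm : Matrix ι ι K := ((g : GL ι K) : Matrix ι ι K) with hgm
  constructor
  · intro h
    have h1 := h E (isMax_of_finrank Q hQ n hcard hE dE)
    unfold Cfsg.SameParityClass Cfsg.imageSubmodule at h1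
    rw [toLin'_eq_mulVecLin, dE] at h1
    have hle : finrank K ↥(E ⊓ E.map (Matrix.mulVecLin gm)) ≤ n := by
      rw [← dE]; exact Submodule.finrank_mono inf_le_left
    obtain ⟨t, ht⟩ := h1
    exact ⟨n - t, by omega⟩
  · intro h U hU
    have dU := finrank_of_isMax Q hQ n hcard E hE dE hU
    have hUts : TS Q U := hU.1
    unfold Cfsg.SameParityClass Cfsg.imageSubmodule
    rw [toLin'_eq_mulVecLin, dU]
    set gE := E.map (Matrix.mulVecLin gm) with hgE
    set gU := U.map (Matrix.mulVecLin gm) with hgU
    have hTSgE : TS Q gE := map_TS Q g E hE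
    have hTSgU : TS Q gU := map_TS Q g U hUts
    have dgE : finrank K gE = n := by rw [hgE, hgm, finrank_map_GL, dE]
    have dgU : finrank K gU = n := by rw [hgU, hgm, finrank_map_GL, dU]
    have k1 := two_families_parity' hQ hdim E U gU hE hUts hTSgU dE dU dgU
    have k2 := two_families_parity' hQ hdim E gE gU hE hTSgE hTSgU dE dgE dgU
    have e2 : gE ⊓ gU = (E ⊓ U).map (Matrix.mulVecLin gm) := by
      rw [hgE, hgU, hgm, map_inf_GL]
    rw [e2, hgm, finrank_map_GL] at k2
    have hle : finrank K ↥(U ⊓ gU) ≤ n := by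
      rw [← dU]; exact Submodule.finrank_mono inf_le_left
    obtain ⟨t1, ht1⟩ := k1
    obtain ⟨t2, ht2⟩ := k2
    obtain ⟨t3, ht3⟩ := h
    rw [Nat.even_sub hle]
    constructor
    · intro hn
      rw [Nat.even_iff] at hn ⊢
      omega
    · intro hn
      rw [Nat.even_iff] at hn ⊢
      omega

end fam

end Cfsg.Agent.Lib.Helper16.OM
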