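import Mathlib
import Cfsg.Agent.Lib.Helper16.PSC1

set_option autoImplicit false
set_option linter.unusedSectionVars false
set_option linter.unusedVariables false

namespace Cfsg.Agent.Lib.Helper16.PSC

open Module Matrix Cfsg Cfsg.Agent.Lib.helper6 Cfsg.Agent.Lib.Helper16

variable {ι : Type} [Fintype ι] [DecidableEq ι] {K : Type*} [Field K]
variable (Q : QuadraticForm K (ι → K))

theorem Q_sub (u w : ι → K) : Q (u - w) = Q u + Q w - QuadraticMap.polar (⇑Q) u w := by
  rw [sub_eq_add_neg, QuadraticMap.map_add (⇑Q), QuadraticMap.map_neg, QuadraticMap.polar_neg_right]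
  ring

/-- one reflection moves `W` one step closer to `U` -/
theorem refl_step (hQ : (QuadraticMap.polarBilin Q).Nondegenerate) (n : ℕ)
    (hcard : Fintype.card ι = 2 * n) {U W : Submodule K (ι → K)}
    (hU : Cfsg.Geo.IsTotallySingularQuad (⇑Q) U) (hUn : finrank K ↥U = n)
    (hW : Cfsg.Geo.IsTotallySingularQuad (⇑Q) W) (hWn : finrank K ↥W = n) (hne : U ≠ W) :
    ∃ v, Q v ≠ 0 ∧ finrank K ↥(U ⊓ W.map (Matrix.toLin' (Cfsg.reflectionMatrix (⇑Q) v))) =
      finrank K ↥(U ⊓ W) + 1 := by
  have hWU : ¬ W ≤ U := by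
    intro h
    apply hne
    symm
    apply Submodule.eq_of_le_of_finrank_le h
    rw [hUn, hWn]
  obtain ⟨w, hwW, hwU⟩ := SetLike.not_le_iff_exists.mp hWU
  have hwO : w ∉ orth Q U := by
    rw [ts_orth_eq Q hQ n hcard hU hUn]; exact hwU
  have : ∃ u ∈ U, QuadraticMap.polar (⇑Q) u w ≠ 0 := by
    by_contra hcon
    push Not at hcon
    exact hwO (fun u hu => hcon u hu)
  obtain ⟨u, huU, huw⟩ := this
  have hQu : Q u = 0 := hU u huU
  have hQw : Q w = 0 := hW w hwW
  set v := u - w with hv
  have hQv : Q v = - QuadraticMap.polar (⇑Q) u w := by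
    rw [hv, Q_sub, hQu, hQw]; ring
  have hQv0 : Q v ≠ 0 := by
    rw [hQv]; exact neg_ne_zero.mpr huw
  refine ⟨v, hQv0, ?_⟩
  set r := Cfsg.reflectionMatrix (⇑Q) v with hr
  have hrw : r *ᵥ w = u := by
    rw [hr, reflectionMatrix_mulVec]
    have h1 : QuadraticMap.polar (⇑Q) v w = QuadraticMap.polar (⇑Q) u w := by
      rw [hv, QuadraticMap.polar_sub_left, QuadraticMap.polar_self, hQw]; simp
    rw [h1, hQv, hv]
    have h3 : (-QuadraticMap.polar (⇑Q) u w)⁻¹ * QuadraticMap.polar (⇑Q) u w = -1 := by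
      field_simp
    rw [h3]
    simp
  have huW : u ∉ W := by
    intro h
    exact huw (polar_of_ts Q hW h hwW)
  have hu0 : u ≠ 0 := by
    rintro rfl
    exact huW W.zero_mem
  have heq : U ⊓ W.map (Matrix.toLin' r) = (U ⊓ W) ⊔ Submodule.span K {u} := by
    apply le_antisymm
    · rintro y ⟨hyU, x, hxW, rfl⟩
      rw [Matrix.toLin'_apply] at hyU ⊢
      rw [hr, reflectionMatrix_mulVec] at hyU ⊢
      set c := (Q v)⁻¹ * QuadraticMap.polar (⇑Q) v x with hc
      have hz : x + c • w ∈ U ⊓ W := by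
        constructor
        · have : x + c • w = (x - c • v) + c • u := by
            rw [hv, smul_sub]; abel
          rw [this]
          exact U.add_mem hyU (U.smul_mem _ huU)
        · exact W.add_mem hxW (W.smul_mem _ hwW)
      have : x - c • v = (x + c • w) + (-c) • u := by
        rw [hv, smul_sub, neg_smul]; abel
      rw [this]
      exact Submodule.add_mem_sup hz (Submodule.smul_mem _ _ (Submodule.mem_span_singleton_self u))
    · apply sup_le
      · rintro x ⟨hxU, hxW⟩
        refine ⟨hxU, x, hxW, ?_⟩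
        rw [Matrix.toLin'_apply, hr, reflectionMatrix_mulVec]
        have h1 : QuadraticMap.polar (⇑Q) v x = 0 := by
          rw [hv, QuadraticMap.polar_sub_left, polar_of_ts Q hU huU hxU, polar_of_ts Q hW hwW hxW]
          ring
        rw [h1, mul_zero, zero_smul, sub_zero]
      · rw [Submodule.span_singleton_le_iff_mem]
        refine ⟨huU, w, hwW, ?_⟩
        rw [Matrix.toLin'_apply]
        exact hrw
  rw [heq]
  have hdisj : Disjoint (U ⊓ W) (Submodule.span K {u}) := by
    rw [Submodule.disjoint_span_singleton' hu0]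
    exact fun h => huW h.2
  have h1 := Submodule.finrank_sup_add_finrank_inf_eq (U ⊓ W) (Submodule.span K {u})
  rw [disjoint_iff.mp hdisj, finrank_bot, finrank_span_singleton hu0] at h1
  omega

theorem sim_injective (hQ : (QuadraticMap.polarBilin Q).Nondegenerate)
    (g : Matrix ι ι K) (μ : K) (hμ : μ ≠ 0) (hg : ∀ v, Q (g *ᵥ v) = μ * Q v) :
    Function.Injective (Matrix.toLin' g) := by
  rw [← LinearMap.ker_eq_bot, Submodule.eq_bot_iff]
  intro x hx
  rw [LinearMap.mem_ker, Matrix.toLin'_apply] at hx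
  apply hQ.1 x
  intro y
  show QuadraticMap.polar (⇑Q) x y = 0
  have h1 := polar_sim' Q g μ hg x y
  rw [hx] at h1
  have h3 : QuadraticMap.polar (⇑Q) (0 : ι → K) (g *ᵥ y) = 0 := QuadraticMap.polar_zero_left _ _
  rw [h3] at h1
  rcases mul_eq_zero.mp h1.symm with h | h
  · exact absurd h hμ
  · exact h

theorem map_ts (g : Matrix ι ι K) (μ : K) (hg : ∀ v, Q (g *ᵥ v) = μ * Q v)
    {U : Submodule K (ι → K)} (hU : Cfsg.Geo.IsTotallySingularQuad (⇑Q) U) :
    Cfsg.Geo.IsTotallySingularQuad (⇑Q) (U.map (Matrix.toLin' g)) := by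
  rintro _ ⟨u, hu, rfl⟩
  rw [Matrix.toLin'_apply, hg, hU u hu, mul_zero]

/-- the determinant of a similarity, in terms of how it moves a maximal totally singular subspace -/
theorem det_sim (hQ : (QuadraticMap.polarBilin Q).Nondegenerate) (n : ℕ)
    (hcard : Fintype.card ι = 2 * n) {U : Submodule K (ι → K)}
    (hU : Cfsg.Geo.IsTotallySingularQuad (⇑Q) U) (hUn : finrank K ↥U = n) (μ : K) (hμ : μ ≠ 0) :
    ∀ (d : ℕ) (g : Matrix ι ι K), (∀ v, Q (g *ᵥ v) = μ * Q v) →
      n - finrank K ↥(U ⊓ U.map (Matrix.toLin' g)) = d → g.det = (-1) ^ d * μ ^ n := by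
  intro d
  induction d with
  | zero =>
    intro g hg hd
    rw [pow_zero, one_mul]
    have hinj := sim_injective Q hQ g μ hμ hg
    have hfr : finrank K ↥(U.map (Matrix.toLin' g)) = n := by
      rw [← hUn]
      exact (Submodule.equivMapOfInjective _ hinj U).finrank_eq.symm
    have h1 : U ⊓ U.map (Matrix.toLin' g) = U := by
      apply Submodule.eq_of_le_of_finrank_le inf_le_left
      omega
    have h2 : U ≤ U.map (Matrix.toLin' g) := inf_eq_left.mp h1
    have h3 : U = U.map (Matrix.toLin' g) := by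
      apply Submodule.eq_of_le_of_finrank_le h2
      rw [hfr, hUn]
    apply det_of_stab Q hQ n hcard hU hUn g μ hg
    intro u hu
    rw [h3]
    exact ⟨u, hu, Matrix.toLin'_apply g u⟩
  | succ d ih =>
    intro g hg hd
    have hinj := sim_injective Q hQ g μ hμ hg
    obtain ⟨W, hWdef⟩ : ∃ W, W = U.map (Matrix.toLin' g) := ⟨_, rfl⟩
    rw [← hWdef] at hd
    have hfr : finrank K ↥W = n := by
      rw [hWdef]
      rw [← hUn]
      exact (Submodule.equivMapOfInjective _ hinj U).finrank_eq.symm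
    have hW : Cfsg.Geo.IsTotallySingularQuad (⇑Q) W := by
      rw [hWdef]; exact map_ts Q g μ hg hU
    have hne : U ≠ W := by
      intro h
      rw [← h, inf_idem, hUn] at hd
      omega
    obtain ⟨v, hv, hstep⟩ := refl_step Q hQ n hcard hU hUn hW hfr hne
    set r := Cfsg.reflectionMatrix (⇑Q) v with hr
    have hg' : ∀ x, Q ((r * g) *ᵥ x) = μ * Q x := by
      intro x
      rw [← Matrix.mulVec_mulVec, hr, refl_pres Q v hv, hg]
    have hmap : U.map (Matrix.toLin' (r * g)) = W.map (Matrix.toLin' r) := by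
      rw [Matrix.toLin'_mul, Submodule.map_comp, hWdef]
    have h1 := ih (r * g) hg' (by rw [hmap, hstep]; omega)
    rw [Matrix.det_mul, hr, refl_det Q v hv] at h1
    rw [pow_succ]
    linear_combination -h1

/-- the criterion: a similarity preserves the two classes of maximal totally singular subspaces iff
its determinant is the `n`-th power of its multiplier -/
theorem psc_iff (h2 : (2 : K) ≠ 0) (hQ : (QuadraticMap.polarBilin Q).Nondegenerate) (n : ℕ)
    (hcard : Fintype.card ι = 2 * n) (E : Submodule K (ι → K))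
    (hE : Cfsg.Geo.IsTotallySingularQuad (⇑Q) E) (hEn : finrank K ↥E = n)
    (g : Matrix ι ι K) (μ : K) (hμ : μ ≠ 0) (hg : ∀ v, Q (g *ᵥ v) = μ * Q v) :
    Cfsg.PreservesSingularClasses (⇑Q) g ↔ g.det = μ ^ n := by
  have hpow : ∀ d : ℕ, (-1 : K) ^ d = 1 ↔ Even d := by
    intro d
    constructor
    · intro h
      by_contra hodd
      rw [Nat.not_even_iff_odd] at hodd
      rw [hodd.neg_one_pow] at h
      apply h2
      linear_combination -h
    · intro h
      exact h.neg_one_pow
  have hμn : μ ^ n ≠ 0 := pow_ne_zero _ hμ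
  constructor
  · intro h
    have h1 := h E (isMax_of_finrank Q hQ n hcard hE hEn)
    unfold Cfsg.SameParityClass Cfsg.imageSubmodule at h1
    rw [hEn] at h1
    rw [det_sim Q hQ n hcard hE hEn μ hμ _ g hg rfl, (hpow _).mpr h1, one_mul]
  · intro h U hU
    have hUn := finrank_of_isMax Q hQ n hcard E hE hEn hU
    unfold Cfsg.SameParityClass Cfsg.imageSubmodule
    rw [hUn]
    have h1 := det_sim Q hQ n hcard hU.1 hUn μ hμ _ g hg rfl
    rw [h] at h1
    rw [← hpow]
    have : ((-1 : K) ^ (n - finrank K ↥(U ⊓ U.map (Matrix.toLin' g))) - 1) * μ ^ n = 0 := by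
      linear_combination -h1
    rcases mul_eq_zero.mp this with h' | h'
    · linear_combination h'
    · exact absurd h' hμn

end Cfsg.Agent.Lib.Helper16.PSC
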