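import Mathlib
import Cfsg.Agent.Lib.Lead.OrthAut7

set_option autoImplicit false
set_option linter.unusedSectionVars false
set_option linter.unusedVariables false

namespace Cfsg.Agent.Lib.Helper16.PSC

open Module Matrix Cfsg Cfsg.Agent.Lib.helper6 Cfsg.Agent.Lib.Helper16 Cfsg.Agent.Lib.Lead.OA

/-! ### abstract lemmas on groups of order four -/

theorem orderOf_four {G : Type*} [Group G] (h4 : Nat.card G = 4) (x : G) (hx : x ^ 2 ≠ 1) :
    orderOf x = 4 := by
  have hdvd : orderOf x ∣ 4 := h4 ▸ orderOf_dvd_natCard x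
  have hmem : orderOf x ∈ Nat.divisors 4 := Nat.mem_divisors.mpr ⟨hdvd, by norm_num⟩
  have hdiv : Nat.divisors 4 = {1, 2, 4} := by decide
  rw [hdiv] at hmem
  simp only [Finset.mem_insert, Finset.mem_singleton] at hmem
  rcases hmem with h | h | h
  · exfalso; apply hx; rw [orderOf_eq_one_iff.mp h]; simp
  · exfalso; apply hx; rw [← h]; exact pow_orderOf_eq_one x
  · exact h

theorem iso_zmod4 {G : Type*} [Group G] (h4 : Nat.card G = 4) (x : G) (hx : x ^ 2 ≠ 1) :
    Nonempty (G ≃* Multiplicative (ZMod 4)) := by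
  have hfin : Finite G := Nat.finite_of_card_ne_zero (by omega)
  have hord := orderOf_four h4 x hx
  have hcyc : IsCyclic G := isCyclic_of_orderOf_eq_card x (by rw [hord, h4])
  exact ⟨mulEquivOfCyclicCardEq (by rw [h4]; simp)⟩

theorem iso_klein {G : Type*} [Group G] (h4 : Nat.card G = 4) (x y : G) (hx1 : x ≠ 1)
    (hy1 : y ≠ 1) (hxy : x ≠ y) (hx : x ^ 2 = 1) (hy : y ^ 2 = 1) :
    Nonempty (G ≃* Multiplicative (ZMod 2 × ZMod 2)) := by
  have hfin : Finite G := Nat.finite_of_card_ne_zero (by omega)
  have hexp : ∀ g : G, g ^ 2 = 1 := by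
    intro g
    by_contra hg
    have hord := orderOf_four h4 g hg
    have htop : Subgroup.zpowers g = ⊤ := by
      apply Subgroup.eq_top_of_card_eq
      rw [Nat.card_zpowers, hord, h4]
    have key : ∀ z : G, z ^ 2 = 1 → z = 1 ∨ z = g ^ 2 := by
      intro z hz
      have hz' : z ∈ Subgroup.zpowers g := htop ▸ Subgroup.mem_top z
      obtain ⟨k, rfl⟩ := Subgroup.mem_zpowers_iff.mp hz'
      rw [← zpow_natCast, ← _root_.zpow_mul] at hz
      have hd := (orderOf_dvd_iff_zpow_eq_one).mpr hz
      rw [hord] at hd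
      have h2k : (2 : ℤ) ∣ k := by
        obtain ⟨t, ht⟩ := hd
        exact ⟨t, by push_cast at ht; omega⟩
      obtain ⟨j, rfl⟩ := h2k
      have hg4 : g ^ (4 : ℤ) = 1 := by
        have := pow_orderOf_eq_one g
        rw [hord] at this
        exact_mod_cast this
      rcases Int.even_or_odd' j with ⟨i, rfl | rfl⟩
      · left
        have : (2 : ℤ) * (2 * i) = 4 * i := by ring
        rw [this, _root_.zpow_mul, hg4, _root_.one_zpow]
      · right
        have : (2 : ℤ) * (2 * i + 1) = 4 * i + 2 := by ring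
        rw [this, _root_.zpow_add, _root_.zpow_mul, hg4, _root_.one_zpow, one_mul]
        exact zpow_natCast g 2
    rcases key x hx with h | h
    · exact hx1 h
    · rcases key y hy with h' | h'
      · exact hy1 h'
      · exact hxy (h.trans h'.symm)
  have hnt : Nontrivial G := ⟨⟨x, 1, hx1⟩⟩
  have hK : IsKleinFour G :=
    { card_four := h4
      exponent_two := by
        apply (Monoid.exponent_eq_prime_iff Nat.prime_two).mpr
        intro g hg
        exact orderOf_eq_prime (hexp g) hg }
  exact IsKleinFour.nonempty_mulEquiv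

/-- a version of the transfer lemma in terms of a subgroup of the source -/
theorem lemmaA' {A B C : Type*} [Group A] [Group B] [Group C] (c : A →* B) (H : Subgroup A)
    (P : Subgroup B) (hP : P ≤ H.map c) (ψ : ↥H →* C) (hψ : Function.Surjective ψ)
    (hker : ∀ a : ↥H, ψ a = 1 ↔ c a ∈ P) :
    ∃ φ : ↥(H.map c) →* C, Function.Surjective φ ∧ φ.ker = P.subgroupOf (H.map c) := by
  set c' : ↥H →* B := c.comp H.subtype with hc'
  have hr : c'.range = H.map c := by
    rw [hc', MonoidHom.range_comp, Subgroup.range_subtype]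
  have hSmap : (P.comap c').map c' = P := by
    rw [Subgroup.map_comap_eq, hr]
    exact inf_eq_right.mpr hP
  have key := lemmaA c' (P.comap c') ψ hψ
    (fun a ha => by
      rw [MonoidHom.mem_ker, hker]
      exact ha)
    (fun a ha => by
      rw [MonoidHom.mem_ker] at ha ⊢
      rw [hker]
      have : c (a : A) = 1 := ha
      rw [this]
      exact P.one_mem)
    (fun a ha => ⟨a, by
      rw [MonoidHom.mem_ker, hker] at ha
      exact ha, rfl⟩)
  rw [hSmap, hr] at key
  exact key

end Cfsg.Agent.Lib.Helper16.PSC
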