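import Mathlib
import Cfsg.Agent.Lib.Helper16.PSC3

set_option autoImplicit false
set_option linter.unusedSectionVars false
set_option linter.unusedVariables false

namespace Cfsg.Agent.Lib.Helper16.PSC

open Module Matrix Cfsg Cfsg.Agent.Lib.helper6 Cfsg.Agent.Lib.Helper16 Cfsg.Agent.Lib.Lead.OA

variable {ι : Type} [Fintype ι] [DecidableEq ι] {F : Type*} [Field F] [Fintype F]
variable (Q : QuadraticForm F (ι → F))

theorem exists_of_mem_inn (h2 : (2 : F) ≠ 0) (hQ : (QuadraticMap.polarBilin Q).Nondegenerate)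
    (hn : 4 ≤ Fintype.card ι) (g : ↥(GOq Q))
    (hg : cHom (⇑Q : (ι → F) → F) g ∈ Cfsg.Inn (Cfsg.POmega F (⇑Q : (ι → F) → F))) :
    ∃ (z : Fˣ) (s : ↥(Cfsg.isometryGroup F (⇑Q : (ι → F) → F))),
      s ∈ Cfsg.Omega F (⇑Q : (ι → F) → F) ∧ g = scalGO Q z * isoToGO Q s := by
  rw [inn_eq'] at hg
  obtain ⟨s, hs, hsg⟩ := hg
  have h1 : g * (isoToGO Q s)⁻¹ ∈ (cHom (⇑Q : (ι → F) → F)).ker := by
    rw [MonoidHom.mem_ker, map_mul, map_inv, ← hsg, c0_apply]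
    exact mul_inv_cancel _
  obtain ⟨z, hz⟩ := scal_of_ker Q h2 hQ hn _ h1
  exact ⟨z, s, hs, by rw [← hz]; group⟩

theorem exists_of_mem_pso (h2 : (2 : F) ≠ 0) (hQ : (QuadraticMap.polarBilin Q).Nondegenerate)
    (hn : 4 ≤ Fintype.card ι) (g : ↥(GOq Q))
    (hg : cHom (⇑Q : (ι → F) → F) g ∈ Cfsg.psoAut F (⇑Q : (ι → F) → F)) :
    ∃ (z : Fˣ) (s : ↥(Cfsg.isometryGroup F (⇑Q : (ι → F) → F))),
      isoDet (⇑Q : (ι → F) → F) s = 1 ∧ g = scalGO Q z * isoToGO Q s := by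
  rw [psoAut_eq'] at hg
  obtain ⟨s, hs, hsg⟩ := hg
  have h1 : g * (isoToGO Q s)⁻¹ ∈ (cHom (⇑Q : (ι → F) → F)).ker := by
    rw [MonoidHom.mem_ker, map_mul, map_inv, ← hsg, c0_apply]
    exact mul_inv_cancel _
  obtain ⟨z, hz⟩ := scal_of_ker Q h2 hQ hn _ h1
  exact ⟨z, s, MonoidHom.mem_ker.mp hs, by rw [← hz]; group⟩

theorem cHom_scal_mul (h2 : (2 : F) ≠ 0) (hQ : (QuadraticMap.polarBilin Q).Nondegenerate)
    (hn : 4 ≤ Fintype.card ι) (z : Fˣ) (s : ↥(Cfsg.isometryGroup F (⇑Q : (ι → F) → F))) :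
    cHom (⇑Q : (ι → F) → F) (scalGO Q z * isoToGO Q s) = c0 Q s := by
  rw [map_mul, scal_mem_ker Q h2 hQ hn, one_mul, c0_apply]

theorem mem_inn_of (h2 : (2 : F) ≠ 0) (hQ : (QuadraticMap.polarBilin Q).Nondegenerate)
    (hn : 4 ≤ Fintype.card ι) (z : Fˣ) (s : ↥(Cfsg.isometryGroup F (⇑Q : (ι → F) → F)))
    (hs : s ∈ Cfsg.Omega F (⇑Q : (ι → F) → F)) :
    cHom (⇑Q : (ι → F) → F) (scalGO Q z * isoToGO Q s) ∈
      Cfsg.Inn (Cfsg.POmega F (⇑Q : (ι → F) → F)) := by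
  rw [cHom_scal_mul Q h2 hQ hn, inn_eq']
  exact ⟨s, hs, rfl⟩

theorem mem_pso_of (h2 : (2 : F) ≠ 0) (hQ : (QuadraticMap.polarBilin Q).Nondegenerate)
    (hn : 4 ≤ Fintype.card ι) (z : Fˣ) (s : ↥(Cfsg.isometryGroup F (⇑Q : (ι → F) → F)))
    (hs : isoDet (⇑Q : (ι → F) → F) s = 1) :
    cHom (⇑Q : (ι → F) → F) (scalGO Q z * isoToGO Q s) ∈ Cfsg.psoAut F (⇑Q : (ι → F) → F) := by
  rw [cHom_scal_mul Q h2 hQ hn, psoAut_eq']
  exact ⟨s, MonoidHom.mem_ker.mpr hs, rfl⟩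

theorem mult_scal_mul (hne : ∃ v, Q v ≠ 0) (z : Fˣ)
    (s : ↥(Cfsg.isometryGroup F (⇑Q : (ι → F) → F))) :
    mult Q (scalGO Q z * isoToGO Q s) = z * z := by
  have h : mult Q (scalGO Q z * isoToGO Q s) = mult Q (scalGO Q z) * mult Q (isoToGO Q s) :=
    map_mul (multHom Q hne) _ _
  rw [h, mult_scalGO Q hne, mult_iso Q hne, mul_one]

theorem eps_scal_mul (hne : ∃ v, Q v ≠ 0) (m : ℕ) (hcard : Fintype.card ι = 2 * m) (z : Fˣ)
    (s : ↥(Cfsg.isometryGroup F (⇑Q : (ι → F) → F))) :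
    eps Q hne m (scalGO Q z * isoToGO Q s) = isoDet (⇑Q : (ι → F) → F) s := by
  rw [map_mul, eps_scal Q hne m hcard, one_mul, eps_iso]

theorem scalGO_mul (a b : Fˣ) : scalGO Q a * scalGO Q b = scalGO Q (a * b) := by
  apply Subtype.ext
  show Matrix.GeneralLinearGroup.scalar ι a * Matrix.GeneralLinearGroup.scalar ι b =
    Matrix.GeneralLinearGroup.scalar ι (a * b)
  rw [map_mul]

theorem scalGO_one : scalGO Q 1 = 1 := by
  apply Subtype.ext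
  show Matrix.GeneralLinearGroup.scalar ι (1 : Fˣ) = 1
  rw [map_one]

/-- a similarity with square multiplier is a scalar times an isometry -/
theorem iso_of_sq (hne : ∃ v, Q v ≠ 0) (g : ↥(GOq Q)) (hg : IsSquare (mult Q g : F)) :
    ∃ (z : Fˣ) (s : ↥(Cfsg.isometryGroup F (⇑Q : (ι → F) → F))), g = scalGO Q z * isoToGO Q s := by
  obtain ⟨μ, hμ⟩ := hg
  have hμ0 : μ ≠ 0 := by
    rintro rfl
    rw [mul_zero] at hμ
    exact Units.ne_zero _ hμ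
  set a : Fˣ := Units.mk0 μ hμ0 with ha
  set s := scalGO Q a⁻¹ * g with hs
  have hms : mult Q s = 1 := by
    have h : mult Q s = mult Q (scalGO Q a⁻¹) * mult Q g := map_mul (multHom Q hne) _ _
    rw [h, mult_scalGO Q hne]
    apply Units.ext
    rw [Units.val_mul, Units.val_mul, hμ, ha]
    simp only [Units.val_inv_eq_inv_val, Units.val_mk0, Units.val_one]
    field_simp
  have hsO := (mult_eq_one_iff Q hne s).mp hms
  refine ⟨a, ⟨(s : GL ι F), hsO⟩, ?_⟩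
  have h1 : isoToGO Q ⟨(s : GL ι F), hsO⟩ = s := rfl
  rw [h1, hs, ← mul_assoc, scalGO_mul, mul_inv_cancel, scalGO_one, one_mul]


theorem sqSign_neg_one_of_not {x : F} (hx : ¬ IsSquare x) : sqSign x = -1 := by
  rcases Int.units_eq_one_or (sqSign x) with h | h
  · exact absurd ((sqSign_eq_one_iff _).mp h) hx
  · exact h

theorem pso_le_D (hne : ∃ v, Q v ≠ 0) (m : ℕ) :
    Cfsg.psoAut F (⇑Q : (ι → F) → F) ≤ (eps Q hne m).ker.map (cHom (⇑Q : (ι → F) → F)) := by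
  rw [psoAut_eq']
  rintro _ ⟨s, hs, rfl⟩
  refine ⟨isoToGO Q s, ?_, rfl⟩
  show isoToGO Q s ∈ (eps Q hne m).ker
  rw [MonoidHom.mem_ker, eps_iso]
  exact MonoidHom.mem_ker.mp hs

/-- the image of the group of similarities with `det = mult ^ m`, modulo the image of `SO` -/
theorem inndiag_mod_pso (h2 : (2 : F) ≠ 0) (hQ : (QuadraticMap.polarBilin Q).Nondegenerate)
    (hn : 4 ≤ Fintype.card ι) (m : ℕ) (hcard : Fintype.card ι = 2 * m)
    (hne : ∃ v, Q v ≠ 0) (g₁ : ↥(GOq Q))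
    (hg₁ : ¬ IsSquare (mult Q g₁ : F)) (hg₁e : eps Q hne m g₁ = 1) :
    ∃ φ : ↥((eps Q hne m).ker.map (cHom (⇑Q : (ι → F) → F))) →* Multiplicative (ZMod 2),
      Function.Surjective φ ∧
      φ.ker = (Cfsg.psoAut F (⇑Q : (ι → F) → F)).subgroupOf
        ((eps Q hne m).ker.map (cHom (⇑Q : (ι → F) → F))) := by
  have hp2 : Fact (Nat.Prime 2) := ⟨Nat.prime_two⟩
  have e2 : ℤˣ ≃* Multiplicative (ZMod 2) :=
    mulEquivOfPrimeCardEq (p := 2) (by simp) (by simp)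
  apply lemmaA' (cHom (⇑Q : (ι → F) → F)) (eps Q hne m).ker (Cfsg.psoAut F (⇑Q : (ι → F) → F))
    (pso_le_D Q hne m)
    (e2.toMonoidHom.comp ((psi1 Q hne).comp (Subgroup.subtype _)))
  · apply e2.surjective.comp
    intro y
    rcases Int.units_eq_one_or y with rfl | rfl
    · exact ⟨1, map_one _⟩
    · refine ⟨⟨g₁, MonoidHom.mem_ker.mpr hg₁e⟩, ?_⟩
      show psi1 Q hne g₁ = -1
      rw [psi1_apply]
      exact sqSign_neg_one_of_not hg₁
  · intro a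
    have h1 : (e2.toMonoidHom.comp ((psi1 Q hne).comp (Subgroup.subtype _))) a = 1 ↔
        IsSquare (mult Q (a : ↥(GOq Q)) : F) := by
      rw [MonoidHom.comp_apply]
      show e2 _ = 1 ↔ _
      rw [e2.map_eq_one_iff]
      show psi1 Q hne (a : ↥(GOq Q)) = 1 ↔ _
      rw [psi1_apply, sqSign_eq_one_iff]
    rw [h1]
    constructor
    · intro hsq
      obtain ⟨z, s, hzs⟩ := iso_of_sq Q hne _ hsq
      have hae : eps Q hne m (a : ↥(GOq Q)) = 1 := MonoidHom.mem_ker.mp a.2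
      rw [hzs, eps_scal_mul Q hne m hcard] at hae
      rw [hzs]
      exact mem_pso_of Q h2 hQ hn z s hae
    · intro hmem
      obtain ⟨z, s, hs, hzs⟩ := exists_of_mem_pso Q h2 hQ hn _ hmem
      rw [hzs, mult_scal_mul Q hne]
      exact ⟨(z : F), by rw [Units.val_mul]⟩

end Cfsg.Agent.Lib.Helper16.PSC
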