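import Mathlib
import Cfsg.Agent.Lib.Helper16.PSC4

set_option autoImplicit false
set_option linter.unusedSectionVars false
set_option linter.unusedVariables false

namespace Cfsg.Agent.Lib.Helper16.PSC

open Module Matrix Cfsg Cfsg.Agent.Lib.helper6 Cfsg.Agent.Lib.Helper16 Cfsg.Agent.Lib.Lead.OA

variable {ι : Type} [Fintype ι] [DecidableEq ι] {F : Type*} [Field F] [Fintype F]
variable (Q : QuadraticForm F (ι → F))

/-- case `-1 ∉ Ω`: the quotient is of order two -/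
theorem inndiag_C2 (h2 : (2 : F) ≠ 0) (hQ : (QuadraticMap.polarBilin Q).Nondegenerate)
    (hn : 4 ≤ Fintype.card ι) (m : ℕ) (hcard : Fintype.card ι = 2 * m)
    (hne : ∃ v, Q v ≠ 0) (g₁ : ↥(GOq Q))
    (hg₁ : ¬ IsSquare (mult Q g₁ : F)) (hg₁e : eps Q hne m g₁ = 1)
    (hno : ¬ ∃ g : ↥(Cfsg.isometryGroup F (⇑Q : (ι → F) → F)),
      g ∈ Cfsg.Omega F (⇑Q : (ι → F) → F) ∧ ((g : GL ι F) : Matrix ι ι F) = -1) :
    ∃ φ : ↥((eps Q hne m).ker.map (cHom (⇑Q : (ι → F) → F))) →* Multiplicative (ZMod 2),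
      Function.Surjective φ ∧
      φ.ker = (Cfsg.Inn (Cfsg.POmega F (⇑Q : (ι → F) → F))).subgroupOf
        ((eps Q hne m).ker.map (cHom (⇑Q : (ι → F) → F))) := by
  rw [inn_eq_pso_of_not Q h2 hQ hn m hcard hno]
  exact inndiag_mod_pso Q h2 hQ hn m hcard hne g₁ hg₁ hg₁e

theorem inn_le_D (hne : ∃ v, Q v ≠ 0) (m : ℕ) :
    Cfsg.Inn (Cfsg.POmega F (⇑Q : (ι → F) → F)) ≤
      (eps Q hne m).ker.map (cHom (⇑Q : (ι → F) → F)) :=
  le_trans (inn_le_pso Q) (pso_le_D Q hne m)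

theorem relIndex_inn_D (h2 : (2 : F) ≠ 0) (hQ : (QuadraticMap.polarBilin Q).Nondegenerate)
    (hn : 4 ≤ Fintype.card ι) (m : ℕ) (hcard : Fintype.card ι = 2 * m)
    (hne : ∃ v, Q v ≠ 0) (g₁ : ↥(GOq Q))
    (hg₁ : ¬ IsSquare (mult Q g₁ : F)) (hg₁e : eps Q hne m g₁ = 1)
    (hneg : ∃ g : ↥(Cfsg.isometryGroup F (⇑Q : (ι → F) → F)),
      g ∈ Cfsg.Omega F (⇑Q : (ι → F) → F) ∧ ((g : GL ι F) : Matrix ι ι F) = -1) :
    (Cfsg.Inn (Cfsg.POmega F (⇑Q : (ι → F) → F))).relIndex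
      ((eps Q hne m).ker.map (cHom (⇑Q : (ι → F) → F))) = 4 := by
  have h1 := (relIndex_inn_pso Q h2 hQ hn m hcard).1 hneg
  obtain ⟨φ, hφs, hφk⟩ := inndiag_mod_pso Q h2 hQ hn m hcard hne g₁ hg₁ hg₁e
  have h4 : (Cfsg.psoAut F (⇑Q : (ι → F) → F)).relIndex
      ((eps Q hne m).ker.map (cHom (⇑Q : (ι → F) → F))) = 2 := by
    show ((Cfsg.psoAut F (⇑Q : (ι → F) → F)).subgroupOf
      ((eps Q hne m).ker.map (cHom (⇑Q : (ι → F) → F)))).index = 2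
    rw [← hφk, Subgroup.index_ker, MonoidHom.range_eq_top.mpr hφs, Subgroup.card_top]
    simp
  have h5 := Subgroup.relIndex_mul_relIndex _ _ _ (inn_le_pso Q) (pso_le_D Q hne m)
  rw [h1, h4] at h5
  exact h5.symm

/-- an isometry inducing an inner automorphism lies in `Ω`, when `-1 ∈ Ω` -/
theorem mem_omega_of_inn (h2 : (2 : F) ≠ 0) (hQ : (QuadraticMap.polarBilin Q).Nondegenerate)
    (hn : 4 ≤ Fintype.card ι)
    (hneg : ∃ g : ↥(Cfsg.isometryGroup F (⇑Q : (ι → F) → F)),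
      g ∈ Cfsg.Omega F (⇑Q : (ι → F) → F) ∧ ((g : GL ι F) : Matrix ι ι F) = -1)
    (t : ↥(Cfsg.isometryGroup F (⇑Q : (ι → F) → F)))
    (ht : c0 Q t ∈ Cfsg.Inn (Cfsg.POmega F (⇑Q : (ι → F) → F))) :
    t ∈ Cfsg.Omega F (⇑Q : (ι → F) → F) := by
  have hker : (c0 Q).ker ≤ Cfsg.Omega F (⇑Q : (ι → F) → F) := by
    obtain ⟨g, hgΩ, hg⟩ := hneg
    have hg' : g = negI Q := iso_ext' _ _ _ (by rw [hg, negI_coe])
    intro h hh
    rcases (c0_ker_iff Q h2 hQ hn h).mp hh with rfl | rfl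
    · exact Subgroup.one_mem _
    · rw [← hg']; exact hgΩ
  rw [inn_eq'] at ht
  obtain ⟨s, hs, hst⟩ := ht
  have h1 : s⁻¹ * t ∈ (c0 Q).ker := by
    rw [MonoidHom.mem_ker, map_mul, map_inv, hst]
    exact inv_mul_cancel _
  have h3 : t = s * (s⁻¹ * t) := by group
  rw [h3]
  exact Subgroup.mul_mem _ hs (hker h1)

/-- the quotient map from the group of similarities with `det = mult ^ m` -/
noncomputable def piD (hne : ∃ v, Q v ≠ 0) (m : ℕ) :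
    ↥(eps Q hne m).ker →* (↥((eps Q hne m).ker.map (cHom (⇑Q : (ι → F) → F))) ⧸
      (Cfsg.Inn (Cfsg.POmega F (⇑Q : (ι → F) → F))).subgroupOf
        ((eps Q hne m).ker.map (cHom (⇑Q : (ι → F) → F)))) :=
  have : ((Cfsg.Inn (Cfsg.POmega F (⇑Q : (ι → F) → F))).subgroupOf
        ((eps Q hne m).ker.map (cHom (⇑Q : (ι → F) → F)))).Normal :=
    have := inn_normal (Cfsg.POmega F (⇑Q : (ι → F) → F))
    Subgroup.normal_subgroupOf
  (QuotientGroup.mk' _).comp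
    (((cHom (⇑Q : (ι → F) → F)).comp (Subgroup.subtype _)).codRestrict
      ((eps Q hne m).ker.map (cHom (⇑Q : (ι → F) → F)))
      (fun a => Subgroup.mem_map_of_mem _ a.2))

theorem piD_eq_one_iff (hne : ∃ v, Q v ≠ 0) (m : ℕ) (a : ↥(eps Q hne m).ker) :
    piD Q hne m a = 1 ↔
      cHom (⇑Q : (ι → F) → F) (a : ↥(GOq Q)) ∈ Cfsg.Inn (Cfsg.POmega F (⇑Q : (ι → F) → F)) := by
  unfold piD
  rw [MonoidHom.comp_apply, QuotientGroup.mk'_apply, QuotientGroup.eq_one_iff,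
    Subgroup.mem_subgroupOf]
  rfl


theorem card_quot_D (h2 : (2 : F) ≠ 0) (hQ : (QuadraticMap.polarBilin Q).Nondegenerate)
    (hn : 4 ≤ Fintype.card ι) (m : ℕ) (hcard : Fintype.card ι = 2 * m)
    (hne : ∃ v, Q v ≠ 0) (g₁ : ↥(GOq Q))
    (hg₁ : ¬ IsSquare (mult Q g₁ : F)) (hg₁e : eps Q hne m g₁ = 1)
    (hneg : ∃ g : ↥(Cfsg.isometryGroup F (⇑Q : (ι → F) → F)),
      g ∈ Cfsg.Omega F (⇑Q : (ι → F) → F) ∧ ((g : GL ι F) : Matrix ι ι F) = -1) :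
    Nat.card (↥((eps Q hne m).ker.map (cHom (⇑Q : (ι → F) → F))) ⧸
      (Cfsg.Inn (Cfsg.POmega F (⇑Q : (ι → F) → F))).subgroupOf
        ((eps Q hne m).ker.map (cHom (⇑Q : (ι → F) → F)))) = 4 :=
  relIndex_inn_D Q h2 hQ hn m hcard hne g₁ hg₁ hg₁e hneg

theorem not_mem_inn_of_nonsq (h2 : (2 : F) ≠ 0) (hQ : (QuadraticMap.polarBilin Q).Nondegenerate)
    (hn : 4 ≤ Fintype.card ι) (hne : ∃ v, Q v ≠ 0) (g : ↥(GOq Q))
    (hg : ¬ IsSquare (mult Q g : F)) :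
    cHom (⇑Q : (ι → F) → F) g ∉ Cfsg.Inn (Cfsg.POmega F (⇑Q : (ι → F) → F)) := by
  intro h
  obtain ⟨z, s, hs, hzs⟩ := exists_of_mem_inn Q h2 hQ hn g h
  apply hg
  rw [hzs, mult_scal_mul Q hne]
  exact ⟨(z : F), by rw [Units.val_mul]⟩

/-- case `-1 ∈ Ω`, cyclic quotient -/
theorem inndiag_C4 (h2 : (2 : F) ≠ 0) (hQ : (QuadraticMap.polarBilin Q).Nondegenerate)
    (hn : 4 ≤ Fintype.card ι) (m : ℕ) (hcard : Fintype.card ι = 2 * m)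
    (hne : ∃ v, Q v ≠ 0) (g₁ : ↥(GOq Q))
    (hg₁ : ¬ IsSquare (mult Q g₁ : F)) (hg₁e : eps Q hne m g₁ = 1)
    (hneg : ∃ g : ↥(Cfsg.isometryGroup F (⇑Q : (ι → F) → F)),
      g ∈ Cfsg.Omega F (⇑Q : (ι → F) → F) ∧ ((g : GL ι F) : Matrix ι ι F) = -1)
    (hC4 : ∀ (z : Fˣ) (s : ↥(Cfsg.isometryGroup F (⇑Q : (ι → F) → F))),
      s ∈ Cfsg.Omega F (⇑Q : (ι → F) → F) → g₁ * g₁ ≠ scalGO Q z * isoToGO Q s) :
    ∃ φ : ↥((eps Q hne m).ker.map (cHom (⇑Q : (ι → F) → F))) →* Multiplicative (ZMod 4),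
      Function.Surjective φ ∧
      φ.ker = (Cfsg.Inn (Cfsg.POmega F (⇑Q : (ι → F) → F))).subgroupOf
        ((eps Q hne m).ker.map (cHom (⇑Q : (ι → F) → F))) := by
  have h4 := card_quot_D Q h2 hQ hn m hcard hne g₁ hg₁ hg₁e hneg
  have hInnN : (Cfsg.Inn (Cfsg.POmega F (⇑Q : (ι → F) → F))).Normal := inn_normal _
  have hIN : ((Cfsg.Inn (Cfsg.POmega F (⇑Q : (ι → F) → F))).subgroupOf
        ((eps Q hne m).ker.map (cHom (⇑Q : (ι → F) → F)))).Normal := Subgroup.normal_subgroupOf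
  set x := piD Q hne m ⟨g₁, MonoidHom.mem_ker.mpr hg₁e⟩ with hx
  have hx2 : x ^ 2 ≠ 1 := by
    rw [hx, ← map_pow, Ne, piD_eq_one_iff]
    intro h
    obtain ⟨z, s, hs, hzs⟩ := exists_of_mem_inn Q h2 hQ hn _ h
    apply hC4 z s hs
    rw [← hzs, pow_two]
    rfl
  obtain ⟨e⟩ := iso_zmod4 h4 x hx2
  exact lemmaB _ e

set_option maxHeartbeats 4000000 in
/-- case `-1 ∈ Ω`, elementary abelian quotient -/
theorem inndiag_K4 (h2 : (2 : F) ≠ 0) (hQ : (QuadraticMap.polarBilin Q).Nondegenerate)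
    (hn : 4 ≤ Fintype.card ι) (m : ℕ) (hcard : Fintype.card ι = 2 * m)
    (hne : ∃ v, Q v ≠ 0) (g₁ : ↥(GOq Q))
    (hg₁ : ¬ IsSquare (mult Q g₁ : F)) (hg₁e : eps Q hne m g₁ = 1)
    (hneg : ∃ g : ↥(Cfsg.isometryGroup F (⇑Q : (ι → F) → F)),
      g ∈ Cfsg.Omega F (⇑Q : (ι → F) → F) ∧ ((g : GL ι F) : Matrix ι ι F) = -1)
    (hK : ∃ (z : Fˣ) (s : ↥(Cfsg.isometryGroup F (⇑Q : (ι → F) → F))),
      s ∈ Cfsg.Omega F (⇑Q : (ι → F) → F) ∧ g₁ * g₁ = scalGO Q z * isoToGO Q s) :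
    ∃ φ : ↥((eps Q hne m).ker.map (cHom (⇑Q : (ι → F) → F))) →*
        Multiplicative (ZMod 2 × ZMod 2),
      Function.Surjective φ ∧
      φ.ker = (Cfsg.Inn (Cfsg.POmega F (⇑Q : (ι → F) → F))).subgroupOf
        ((eps Q hne m).ker.map (cHom (⇑Q : (ι → F) → F))) := by
  have h4 := card_quot_D Q h2 hQ hn m hcard hne g₁ hg₁ hg₁e hneg
  have hInnN : (Cfsg.Inn (Cfsg.POmega F (⇑Q : (ι → F) → F))).Normal := inn_normal _
  have hIN : ((Cfsg.Inn (Cfsg.POmega F (⇑Q : (ι → F) → F))).subgroupOf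
        ((eps Q hne m).ker.map (cHom (⇑Q : (ι → F) → F)))).Normal := Subgroup.normal_subgroupOf
  obtain ⟨χ, κ, hχ⟩ := spin_char_formula h2 Q
  obtain ⟨δ, hδ0, hδ⟩ := Cfsg.Agent.Lib.Lead.OI.exists_nonsquare (F := F) h2
  obtain ⟨v, hv⟩ := exists_norm Q h2 hQ hn 1 one_ne_zero
  obtain ⟨w, hw⟩ := exists_norm Q h2 hQ hn δ hδ0
  have hv0 : Q v ≠ 0 := by rw [hv]; exact one_ne_zero
  have hw0 : Q w ≠ 0 := by rw [hw]; exact hδ0
  have hsq1 : sqSign (1 : F) = 1 := (sqSign_eq_one_iff _).mpr ⟨1, by simp⟩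
  have hsqδ : sqSign δ = -1 := sqSign_neg_one_of_not hδ
  set s₀ := reflG Q v hv0 * reflG Q w hw0 with hs₀
  have hdet : isoDet (⇑Q : (ι → F) → F) s₀ = 1 := by
    rw [hs₀, map_mul, isoDet_reflG, isoDet_reflG]; simp
  have hχs : χ s₀ = -1 := by
    rw [hs₀, map_mul, hχ, hχ, hv, hw, hsq1, hsqδ, mul_one, mul_neg, mul_one, mul_neg,
      Int.units_mul_self]
  have hs₀mem : isoToGO Q s₀ ∈ (eps Q hne m).ker := by
    rw [MonoidHom.mem_ker, eps_iso]; exact hdet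
  set x := piD Q hne m ⟨g₁, MonoidHom.mem_ker.mpr hg₁e⟩ with hx
  set y := piD Q hne m ⟨isoToGO Q s₀, hs₀mem⟩ with hy
  have hx1 : x ≠ 1 := by
    rw [hx, Ne, piD_eq_one_iff]
    exact not_mem_inn_of_nonsq Q h2 hQ hn hne g₁ hg₁
  have hy1 : y ≠ 1 := by
    rw [hy, Ne, piD_eq_one_iff]
    intro h
    have h3 := mem_omega_of_inn Q h2 hQ hn hneg s₀ h
    have h5 := omega_le_ker (⇑Q) χ h3
    rw [MonoidHom.mem_ker, hχs] at h5
    exact absurd h5 (by decide)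
  have hxy : x ≠ y := by
    intro h
    have h1 : x * y⁻¹ = 1 := by rw [h]; exact mul_inv_cancel _
    rw [hx, hy, ← map_inv, ← map_mul, piD_eq_one_iff] at h1
    apply not_mem_inn_of_nonsq Q h2 hQ hn hne _ _ h1
    have hm : mult Q (g₁ * (isoToGO Q s₀)⁻¹) = mult Q g₁ := by
      have h : mult Q (g₁ * (isoToGO Q s₀)⁻¹) = mult Q g₁ * (mult Q (isoToGO Q s₀))⁻¹ := by
        have := map_mul (multHom Q hne) g₁ (isoToGO Q s₀)⁻¹
        rw [map_inv] at this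
        exact this
      rw [h, mult_iso Q hne, inv_one, mul_one]
    show ¬ IsSquare ((mult Q (g₁ * (isoToGO Q s₀)⁻¹) : Fˣ) : F)
    rw [hm]
    exact hg₁
  have hx2 : x ^ 2 = 1 := by
    rw [hx, ← map_pow, piD_eq_one_iff]
    obtain ⟨z, s, hs, hzs⟩ := hK
    have : ((⟨g₁, MonoidHom.mem_ker.mpr hg₁e⟩ : ↥(eps Q hne m).ker) ^ 2 : ↥(eps Q hne m).ker).1 =
        scalGO Q z * isoToGO Q s := by
      rw [← hzs, pow_two]; rfl
    rw [this]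
    exact mem_inn_of Q h2 hQ hn z s hs
  have hy2 : y ^ 2 = 1 := by
    rw [hy, ← map_pow, piD_eq_one_iff]
    have : ((⟨isoToGO Q s₀, hs₀mem⟩ : ↥(eps Q hne m).ker) ^ 2 : ↥(eps Q hne m).ker).1 =
        isoToGO Q (s₀ * s₀) := by
      rw [pow_two]; rfl
    rw [this, ← c0_apply, inn_eq']
    refine ⟨s₀ * s₀, ?_, rfl⟩
    show s₀ * s₀ ∈ Cfsg.Omega F (⇑Q : (ι → F) → F)
    rw [mem_omega_iff' Q h2 hQ χ κ hχ]
    constructor
    · rw [map_mul, hdet, one_mul]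
    · rw [map_mul, hχs]; rfl
  obtain ⟨e⟩ := iso_klein h4 x y hx1 hy1 hxy hx2 hy2
  exact lemmaB _ e

end Cfsg.Agent.Lib.Helper16.PSC
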