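import Mathlib
import Cfsg.Agent.Lib.Helper16.PSC5
import Cfsg.Agent.Lib.Helper16.PSC2

set_option autoImplicit false
set_option linter.unusedSectionVars false
set_option linter.unusedVariables false

namespace Cfsg.Agent.Lib.Helper16.PSC

open Module Matrix Cfsg Cfsg.Agent.Lib.helper6 Cfsg.Agent.Lib.Helper16 Cfsg.Agent.Lib.Lead.OA

section general

variable {ι : Type} [Fintype ι] [DecidableEq ι] {F : Type*} [Field F]
variable (Q : QuadraticForm F (ι → F))

theorem Q_hyp (e f : ι → F) (he : Q e = 0) (hf : Q f = 0)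
    (hef : QuadraticMap.polar (⇑Q) e f = 1) (c : F) : Q (e - c • f) = -c := by
  rw [Q_sub, QuadraticMap.map_smul, QuadraticMap.polar_smul_right, he, hf, hef]
  simp

/-- the product of the reflections in `e - f` and `e - c f` scales the hyperbolic pair -/
theorem refl_pair_apply (e f : ι → F) (he : Q e = 0) (hf : Q f = 0)
    (hef : QuadraticMap.polar (⇑Q) e f = 1) (c : F) (hc : c ≠ 0) (x : ι → F) :
    Cfsg.reflectionMatrix (⇑Q) (e - f) *ᵥ (Cfsg.reflectionMatrix (⇑Q) (e - c • f) *ᵥ x) =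
      x + ((c - 1) * QuadraticMap.polar (⇑Q) x f) • e +
        ((c⁻¹ - 1) * QuadraticMap.polar (⇑Q) x e) • f := by
  have hQ2 := Q_hyp Q e f he hf hef c
  have hQ1 : Q (e - f) = -1 := by
    have := Q_hyp Q e f he hf hef 1
    rwa [one_smul] at this
  have hee : QuadraticMap.polar (⇑Q) e e = 0 := by rw [QuadraticMap.polar_self, he]; simp
  have hff : QuadraticMap.polar (⇑Q) f f = 0 := by rw [QuadraticMap.polar_self, hf]; simp
  have hfe : QuadraticMap.polar (⇑Q) f e = 1 := by rw [QuadraticMap.polar_comm]; exact hef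
  set α := QuadraticMap.polar (⇑Q) e x with hα
  set β := QuadraticMap.polar (⇑Q) f x with hβ
  have hxe : QuadraticMap.polar (⇑Q) x e = α := QuadraticMap.polar_comm _ _ _
  have hxf : QuadraticMap.polar (⇑Q) x f = β := QuadraticMap.polar_comm _ _ _
  rw [hxe, hxf]
  have h2 : Cfsg.reflectionMatrix (⇑Q) (e - c • f) *ᵥ x =
      x + (c⁻¹ * α - β) • e - (α - c * β) • f := by
    rw [reflectionMatrix_mulVec, hQ2, QuadraticMap.polar_sub_left, QuadraticMap.polar_smul_left,
      ← hα, ← hβ]
    ext k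
    simp only [Pi.sub_apply, Pi.add_apply, Pi.smul_apply, smul_eq_mul]
    field_simp
    ring
  rw [h2, reflectionMatrix_mulVec, hQ1]
  have h3 : QuadraticMap.polar (⇑Q) (e - f) (x + (c⁻¹ * α - β) • e - (α - c * β) • f) =
      c * β - c⁻¹ * α := by
    rw [QuadraticMap.polar_sub_left, QuadraticMap.polar_sub_right, QuadraticMap.polar_sub_right,
      QuadraticMap.polar_add_right, QuadraticMap.polar_add_right, QuadraticMap.polar_smul_right,
      QuadraticMap.polar_smul_right, QuadraticMap.polar_smul_right, QuadraticMap.polar_smul_right,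
      hee, hff, hef, hfe, ← hα, ← hβ]
    simp only [smul_eq_mul]
    ring
  rw [h3]
  ext k
  simp only [Pi.sub_apply, Pi.add_apply, Pi.smul_apply, smul_eq_mul]
  field_simp
  ring

/-- the scaling map on a set of hyperbolic pairs -/
noncomputable def DS {m : ℕ} (e f : Fin m → (ι → F)) (c : F) (S : Finset (Fin m)) (x : ι → F) :
    ι → F :=
  x + ∑ i ∈ S, (((c - 1) * QuadraticMap.polar (⇑Q) x (f i)) • e i +
    ((c⁻¹ - 1) * QuadraticMap.polar (⇑Q) x (e i)) • f i)

theorem polar_DS {m : ℕ} (e f : Fin m → (ι → F)) (c : F) (S : Finset (Fin m)) (x z : ι → F)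
    (hez : ∀ j ∈ S, QuadraticMap.polar (⇑Q) (e j) z = 0)
    (hfz : ∀ j ∈ S, QuadraticMap.polar (⇑Q) (f j) z = 0) :
    QuadraticMap.polar (⇑Q) (DS Q e f c S x) z = QuadraticMap.polar (⇑Q) x z := by
  unfold DS
  rw [QuadraticMap.polar_add_left]
  have : QuadraticMap.polar (⇑Q) (∑ i ∈ S, (((c - 1) * QuadraticMap.polar (⇑Q) x (f i)) • e i +
    ((c⁻¹ - 1) * QuadraticMap.polar (⇑Q) x (e i)) • f i)) z = 0 := by
    have h1 : ∀ y, QuadraticMap.polar (⇑Q) y z = (QuadraticMap.polarBilin Q).flip z y := fun y => rfl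
    rw [h1, map_sum]
    apply Finset.sum_eq_zero
    intro j hj
    rw [← h1, QuadraticMap.polar_add_left, QuadraticMap.polar_smul_left,
      QuadraticMap.polar_smul_left, hez j hj, hfz j hj]
    simp
  rw [this, add_zero]

variable [Fintype F]

theorem hyp_scale (h2 : (2 : F) ≠ 0) (χ : ↥(Cfsg.isometryGroup F (⇑Q : (ι → F) → F)) →* ℤˣ)
    (κ : ℤˣ) (hχ : ∀ (v : ι → F) (hv : Q v ≠ 0), χ (reflG Q v hv) = κ * sqSign (Q v))
    {m : ℕ} (e f : Fin m → (ι → F)) (he : ∀ i, Q (e i) = 0) (hf : ∀ i, Q (f i) = 0)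
    (hef : ∀ i j, QuadraticMap.polar (⇑Q) (e i) (f j) = if i = j then 1 else 0)
    (hee : ∀ i j, QuadraticMap.polar (⇑Q) (e i) (e j) = 0)
    (hff : ∀ i j, QuadraticMap.polar (⇑Q) (f i) (f j) = 0)
    (c : F) (hc : c ≠ 0) (S : Finset (Fin m)) :
    ∃ τ : ↥(Cfsg.isometryGroup F (⇑Q : (ι → F) → F)),
      isoDet (⇑Q : (ι → F) → F) τ = 1 ∧ χ τ = sqSign c ^ S.card ∧
      ∀ x, ((τ : GL ι F) : Matrix ι ι F) *ᵥ x = DS Q e f c S x := by
  classical
  induction S using Finset.induction_on with
  | empty =>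
    refine ⟨1, map_one _, by simp, fun x => ?_⟩
    unfold DS
    rw [Finset.sum_empty, add_zero]
    show (1 : Matrix ι ι F) *ᵥ x = x
    rw [Matrix.one_mulVec]
  | insert i S hi ih =>
    obtain ⟨τ, hτd, hτχ, hτx⟩ := ih
    have hii : QuadraticMap.polar (⇑Q) (e i) (f i) = 1 := by rw [hef, if_pos rfl]
    have hQ1 : Q (e i - f i) ≠ 0 := by
      have := Q_hyp Q (e i) (f i) (he i) (hf i) hii 1
      rw [one_smul] at this
      rw [this]; simp
    have hQ2 : Q (e i - c • f i) ≠ 0 := by
      rw [Q_hyp Q (e i) (f i) (he i) (hf i) hii c]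
      exact neg_ne_zero.mpr hc
    refine ⟨reflG Q _ hQ1 * reflG Q _ hQ2 * τ, ?_, ?_, ?_⟩
    · rw [map_mul, map_mul, isoDet_reflG, isoDet_reflG, hτd]; simp
    · rw [map_mul, map_mul, hχ, hχ, hτχ, Finset.card_insert_of_notMem hi, pow_succ]
      have h1 : Q (e i - f i) = -1 := by
        have := Q_hyp Q (e i) (f i) (he i) (hf i) hii 1
        rwa [one_smul] at this
      rw [h1, Q_hyp Q (e i) (f i) (he i) (hf i) hii c]
      have h3 : sqSign (-1 : F) * sqSign (-c) = sqSign c := by
        rw [← sqSign_mul (by simp) (neg_ne_zero.mpr hc)]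
        congr 1
        ring
      calc κ * sqSign (-1 : F) * (κ * sqSign (-c)) * sqSign c ^ S.card
          = (κ * κ) * (sqSign (-1 : F) * sqSign (-c)) * sqSign c ^ S.card := by
            rw [mul_mul_mul_comm]
        _ = sqSign c ^ S.card * sqSign c := by
            rw [Int.units_mul_self, one_mul, h3, mul_comm]
    · intro x
      have hmat : (((reflG Q _ hQ1 * reflG Q _ hQ2 * τ : ↥(Cfsg.isometryGroup F (⇑Q : (ι → F) → F))) :
          GL ι F) : Matrix ι ι F) = Cfsg.reflectionMatrix (⇑Q) (e i - f i) *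
            Cfsg.reflectionMatrix (⇑Q) (e i - c • f i) * ((τ : GL ι F) : Matrix ι ι F) := rfl
      rw [hmat, ← Matrix.mulVec_mulVec, ← Matrix.mulVec_mulVec, hτx,
        refl_pair_apply Q (e i) (f i) (he i) (hf i) hii c hc]
      have h1 : QuadraticMap.polar (⇑Q) (DS Q e f c S x) (f i) = QuadraticMap.polar (⇑Q) x (f i) := by
        apply polar_DS
        · intro j hj
          rw [hef, if_neg]
          rintro rfl
          exact hi hj
        · intro j hj
          exact hff j i
      have h3 : QuadraticMap.polar (⇑Q) (DS Q e f c S x) (e i) = QuadraticMap.polar (⇑Q) x (e i) := by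
        apply polar_DS
        · intro j hj
          exact hee j i
        · intro j hj
          rw [QuadraticMap.polar_comm, hef, if_neg]
          rintro rfl
          exact hi hj
      rw [h1, h3]
      unfold DS
      rw [Finset.sum_insert hi]
      abel

end general

end Cfsg.Agent.Lib.Helper16.PSC
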