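import Mathlib
import Cfsg.Agent.Lib.Helper16.PSC6
import Cfsg.Agent.Lib.Lead.OrthAutPlus
import Cfsg.Agent.S0790

set_option autoImplicit false
set_option linter.unusedSectionVars false
set_option linter.unusedVariables false
set_option linter.unusedSimpArgs false

namespace Cfsg.Agent.Lib.Helper16.PSC

open Module Matrix Cfsg Cfsg.Agent.Lib.helper6 Cfsg.Agent.Lib.Helper16 Cfsg.Agent.Lib.Lead.OA
  Cfsg.Agent.Lib.Lead.OAP

section general

variable {ι : Type} [Fintype ι] [DecidableEq ι] {F : Type*} [Field F] [Fintype F]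
variable (Q : QuadraticForm F (ι → F))

theorem eps_eq_one_iff (hne : ∃ v, Q v ≠ 0) (m : ℕ) (g : ↥(GOq Q)) :
    eps Q hne m g = 1 ↔ (((g : GL ι F)) : Matrix ι ι F).det = (mult Q g : F) ^ m := by
  rw [eps_apply, mul_inv_eq_one, ← detGO_coe, ← Units.val_pow_eq_pow_val]
  exact Units.ext_iff

/-- the criterion in terms of `eps` -/
theorem psc_iff_eps (h2 : (2 : F) ≠ 0) (hQ : (QuadraticMap.polarBilin Q).Nondegenerate) (m : ℕ)
    (hcard : Fintype.card ι = 2 * m) (hne : ∃ v, Q v ≠ 0) (E : Submodule F (ι → F))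
    (hE : Cfsg.Geo.IsTotallySingularQuad (⇑Q) E) (hEn : finrank F ↥E = m) (g : ↥(GOq Q)) :
    Cfsg.PreservesSingularClasses (⇑Q) (((g : GL ι F)) : Matrix ι ι F) ↔ eps Q hne m g = 1 := by
  rw [eps_eq_one_iff]
  exact psc_iff Q h2 hQ m hcard E hE hEn _ (mult Q g : F) (Units.ne_zero _) (mult_spec Q g)

/-- the group generated by the automorphisms induced by class-preserving similarities -/
theorem autSub_psc_eq (h2 : (2 : F) ≠ 0) (hQ : (QuadraticMap.polarBilin Q).Nondegenerate) (m : ℕ)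
    (hcard : Fintype.card ι = 2 * m) (hne : ∃ v, Q v ≠ 0) (E : Submodule F (ι → F))
    (hE : Cfsg.Geo.IsTotallySingularQuad (⇑Q) E) (hEn : finrank F ↥E = m) :
    Cfsg.autSubgroupOf (fun β : Cfsg.POmega F (⇑Q : (ι → F) → F) ≃* Cfsg.POmega F (⇑Q : (ι → F) → F) =>
      ∃ g : GL ι F, g ∈ Cfsg.Geo.quadSimilarityGroup (F := F) (⇑Q : (ι → F) → F) ∧
        Cfsg.PreservesSingularClasses (⇑Q : (ι → F) → F) (g : Matrix ι ι F) ∧
        Cfsg.IsInducedBySemilinearPOmega (⇑Q : (ι → F) → F) g (RingEquiv.refl F) β) =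
      (eps Q hne m).ker.map (cHom (⇑Q : (ι → F) → F)) := by
  set S : Subgroup (GL ι F) := (eps Q hne m).ker.map (GOq Q).subtype with hS
  have hSle : S ≤ GO (⇑Q : (ι → F) → F) := by
    rintro _ ⟨g, -, rfl⟩
    exact g.2
  have hSmem : ∀ g : GL ι F, g ∈ S ↔ g ∈ Cfsg.Geo.quadSimilarityGroup (F := F) (⇑Q : (ι → F) → F) ∧
      Cfsg.PreservesSingularClasses (⇑Q : (ι → F) → F) (g : Matrix ι ι F) := by
    intro g
    constructor
    · rintro ⟨g', hg', rfl⟩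
      exact ⟨g'.2, (psc_iff_eps Q h2 hQ m hcard hne E hE hEn g').mpr (MonoidHom.mem_ker.mp hg')⟩
    · rintro ⟨hg, hpsc⟩
      exact ⟨⟨g, hg⟩, MonoidHom.mem_ker.mpr
        ((psc_iff_eps Q h2 hQ m hcard hne E hE hEn ⟨g, hg⟩).mp hpsc), rfl⟩
  have h1 := autSub_eq (⇑Q : (ι → F) → F) S hSle
  have h3 : S.subgroupOf (GO (⇑Q : (ι → F) → F)) = (eps Q hne m).ker := by
    rw [hS]
    exact Subgroup.comap_map_eq_self_of_injective (Subgroup.subtype_injective _) _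
  rw [h3] at h1
  rw [← h1]
  congr 1
  funext β
  apply propext
  constructor
  · rintro ⟨g, hg, hpsc, hind⟩
    exact ⟨g, (hSmem g).mpr ⟨hg, hpsc⟩, hind⟩
  · rintro ⟨g, hgS, hind⟩
    obtain ⟨hg, hpsc⟩ := (hSmem g).mp hgS
    exact ⟨g, hg, hpsc, hind⟩

end general

section plus

variable {F : Type*} [Field F] [Fintype F] {m : ℕ}

theorem inndiagPlus_eq (h2 : (2 : F) ≠ 0) (hne : ∃ v, qfPlus m F v ≠ 0) :
    Cfsg.inndiagPOmegaPlus m F =
      (eps (qfPlus m F) hne m).ker.map (cHom (Cfsg.quadFormPlus m F)) :=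
  autSub_psc_eq (qfPlus m F) h2 (qfPlus_nondeg m F) m (card_plus_index m) hne (EPlus m F)
    EPlus_TS EPlus_finrank

/-- the standard hyperbolic pairs -/
def eP (i : Fin m) : Fin m ⊕ Fin m → F := Pi.single (Sum.inl i) 1
def fP (i : Fin m) : Fin m ⊕ Fin m → F := Pi.single (Sum.inr i) 1

theorem polar_x_fP (x : Fin m ⊕ Fin m → F) (i : Fin m) :
    QuadraticMap.polar (⇑(qfPlus m F)) x (fP i) = x (Sum.inl i) := by
  rw [qfPlus_coe, polar_plus]
  unfold fP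
  simp [Pi.single_apply]

theorem polar_x_eP (x : Fin m ⊕ Fin m → F) (i : Fin m) :
    QuadraticMap.polar (⇑(qfPlus m F)) x (eP i) = x (Sum.inr i) := by
  rw [qfPlus_coe, polar_plus]
  unfold eP
  simp [Pi.single_apply]

theorem Q_eP (i : Fin m) : qfPlus m F (eP i) = 0 := by
  show Cfsg.quadFormPlus m F (eP i) = 0
  unfold Cfsg.quadFormPlus eP
  simp [Pi.single_apply]

theorem Q_fP (i : Fin m) : qfPlus m F (fP i) = 0 := by
  show Cfsg.quadFormPlus m F (fP i) = 0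
  unfold Cfsg.quadFormPlus fP
  simp [Pi.single_apply]

/-- the isometry `diag(c, c⁻¹)` and its spinor character -/
theorem exists_tPlus (h2 : (2 : F) ≠ 0)
    (χ : ↥(Cfsg.isometryGroup F (⇑(qfPlus m F) : (Fin m ⊕ Fin m → F) → F)) →* ℤˣ)
    (κ : ℤˣ) (hχ : ∀ (v : Fin m ⊕ Fin m → F) (hv : qfPlus m F v ≠ 0),
      χ (reflG (qfPlus m F) v hv) = κ * sqSign (qfPlus m F v))
    (c : Fˣ) :
    ∃ τ : ↥(Cfsg.isometryGroup F (⇑(qfPlus m F) : (Fin m ⊕ Fin m → F) → F)),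
      isoDet (⇑(qfPlus m F) : (Fin m ⊕ Fin m → F) → F) τ = 1 ∧ χ τ = sqSign (c : F) ^ m ∧
      (⟨dPlus c, dPlus_mem c⟩ : ↥(GOq (qfPlus m F))) * ⟨dPlus c, dPlus_mem c⟩ =
        scalGO (qfPlus m F) c * isoToGO (qfPlus m F) τ := by
  obtain ⟨τ, hτd, hτχ, hτx⟩ := hyp_scale (qfPlus m F) h2 χ κ hχ (eP (F := F) (m := m)) fP Q_eP Q_fP
    (fun i j => by
      rw [polar_x_fP]
      unfold eP
      simp [Pi.single_apply, eq_comm])
    (fun i j => by
      rw [polar_x_eP]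
      unfold eP
      simp [Pi.single_apply])
    (fun i j => by
      rw [polar_x_fP]
      unfold fP
      simp [Pi.single_apply])
    (c : F) (Units.ne_zero c) Finset.univ
  refine ⟨τ, hτd, by rw [hτχ, Finset.card_univ, Fintype.card_fin], ?_⟩
  apply Subtype.ext
  apply Units.ext
  show ((dPlus c : GL (Fin m ⊕ Fin m) F) : Matrix (Fin m ⊕ Fin m) (Fin m ⊕ Fin m) F) *
      ((dPlus c : GL (Fin m ⊕ Fin m) F) : Matrix (Fin m ⊕ Fin m) (Fin m ⊕ Fin m) F) =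
    (((scalGO (qfPlus m F) c : ↥(GOq (qfPlus m F))) : GL (Fin m ⊕ Fin m) F) :
      Matrix (Fin m ⊕ Fin m) (Fin m ⊕ Fin m) F) *
    ((τ : GL (Fin m ⊕ Fin m) F) : Matrix (Fin m ⊕ Fin m) (Fin m ⊕ Fin m) F)
  rw [scalGO_coe, dPlus_coe, Matrix.ext_iff_mulVec]
  intro x
  rw [← Matrix.mulVec_mulVec, ← Matrix.mulVec_mulVec, hτx, Matrix.smul_mulVec, Matrix.one_mulVec]
  unfold DS
  funext k
  rw [Matrix.mulVec_diagonal, Matrix.mulVec_diagonal]
  have hc0 : (c : F) ≠ 0 := Units.ne_zero c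
  rcases k with k | k
  · simp only [Sum.elim_inl, Pi.smul_apply, Pi.add_apply, Finset.sum_apply, smul_eq_mul,
      polar_x_fP, polar_x_eP]
    unfold eP fP
    simp only [Pi.single_apply, Sum.inl.injEq, reduceCtorEq, if_false, mul_zero, add_zero,
      mul_ite, mul_one, Finset.sum_ite_eq, Finset.mem_univ, if_true]
    ring
  · simp only [Sum.elim_inr, Pi.smul_apply, Pi.add_apply, Finset.sum_apply, smul_eq_mul,
      polar_x_fP, polar_x_eP]
    unfold eP fP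
    simp only [Pi.single_apply, Sum.inr.injEq, reduceCtorEq, if_false, mul_zero, zero_add,
      mul_ite, mul_one, Finset.sum_ite_eq, Finset.mem_univ, if_true]
    field_simp
    ring

set_option maxHeartbeats 4000000 in
theorem S2725_aux (hodd : Odd (Fintype.card F)) (hm : 4 ≤ m) :
    ((Odd m ∧ Fintype.card F % 4 = 3) → (∃ φ : ↥(Cfsg.inndiagPOmegaPlus m F) →* Multiplicative (ZMod 2), Function.Surjective φ ∧ φ.ker = (Cfsg.Inn (Cfsg.POmega F (Cfsg.quadFormPlus m F))).subgroupOf (Cfsg.inndiagPOmegaPlus m F))) ∧ ((Odd m ∧ Fintype.card F % 4 = 1) → (∃ φ : ↥(Cfsg.inndiagPOmegaPlus m F) →* Multiplicative (ZMod 4), Function.Surjective φ ∧ φ.ker = (Cfsg.Inn (Cfsg.POmega F (Cfsg.quadFormPlus m F))).subgroupOf (Cfsg.inndiagPOmegaPlus m F))) ∧ (Even m → (∃ φ : ↥(Cfsg.inndiagPOmegaPlus m F) →* Multiplicative (ZMod 2 × ZMod 2), Function.Surjective φ ∧ φ.ker = (Cfsg.Inn (Cfsg.POmega F (Cfsg.quadFormPlus m F))).subgroupOf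 (Cfsg.inndiagPOmegaPlus m F))) := by
  have h2 := two_ne_zero_of_odd hodd
  have hQ := qfPlus_nondeg m F
  have hcard := card_plus (m := m)
  have hn : 4 ≤ Fintype.card (Fin m ⊕ Fin m) := by rw [hcard]; omega
  have hne := exists_ne_zero (qfPlus m F) h2 hQ (by omega)
  obtain ⟨δ, hδ0, hδ⟩ := Cfsg.Agent.Lib.Lead.OI.exists_nonsquare (F := F) h2
  set c : Fˣ := Units.mk0 δ hδ0 with hc
  set g₁ : ↥(GOq (qfPlus m F)) := ⟨dPlus c, dPlus_mem c⟩ with hg₁def
  have hg₁ : ¬ IsSquare ((mult (qfPlus m F) g₁ : Fˣ) : F) := by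
    rw [hg₁def, mult_dPlus hne]; exact hδ
  have hg₁e : eps (qfPlus m F) hne m g₁ = 1 := eps_dPlus hne c
  have hiff := Cfsg.Agent.S0790.result (F := F) rfl hodd m (by omega)
  have hq : Fintype.card F % 2 = 1 := Nat.odd_iff.mp hodd
  have har := pow_mod_four_iff (Fintype.card F) m hq
  obtain ⟨χ, κ, hχ⟩ := spin_char_formula h2 (qfPlus m F)
  obtain ⟨τ, hτd, hτχ, hτg⟩ := exists_tPlus h2 χ κ hχ c
  have hsc : sqSign (c : F) = -1 := sqSign_neg_one_of_not hδ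
  rw [hsc] at hτχ
  rw [inndiagPlus_eq h2 hne]
  refine ⟨?_, ?_, ?_⟩
  · intro hcase
    have hno : ¬ ∃ g : ↥(Cfsg.isometryGroup F (Cfsg.quadFormPlus m F)),
        g ∈ Cfsg.Omega F (Cfsg.quadFormPlus m F) ∧
        ((g : Matrix.GeneralLinearGroup (Fin m ⊕ Fin m) F) :
          Matrix (Fin m ⊕ Fin m) (Fin m ⊕ Fin m) F) = -1 :=
      fun hneg => (har.mp (hiff.mp hneg)) hcase
    exact inndiag_C2 (qfPlus m F) h2 hQ hn m hcard hne g₁ hg₁ hg₁e hno
  · intro hcase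
    have hneg := hiff.mpr (har.mpr (fun h => by omega))
    apply inndiag_C4 (qfPlus m F) h2 hQ hn m hcard hne g₁ hg₁ hg₁e hneg
    intro z s hs heq
    rw [hτg] at heq
    have h1 := congrArg (cHom (⇑(qfPlus m F))) heq
    rw [cHom_scal_mul _ h2 hQ hn, cHom_scal_mul _ h2 hQ hn] at h1
    have h3 : c0 (qfPlus m F) τ ∈ Cfsg.Inn (Cfsg.POmega F (⇑(qfPlus m F))) := by
      rw [h1, inn_eq']
      exact ⟨s, hs, rfl⟩
    have h4 := mem_omega_of_inn (qfPlus m F) h2 hQ hn hneg τ h3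
    have h5 := omega_le_ker (⇑(qfPlus m F)) χ h4
    rw [MonoidHom.mem_ker, hτχ, hcase.1.neg_one_pow] at h5
    exact absurd h5 (by decide)
  · intro hcase
    have hneg := hiff.mpr (har.mpr (fun h => (Nat.not_odd_iff_even.mpr hcase) h.1))
    apply inndiag_K4 (qfPlus m F) h2 hQ hn m hcard hne g₁ hg₁ hg₁e hneg
    refine ⟨c, τ, ?_, hτg⟩
    rw [mem_omega_iff' (qfPlus m F) h2 hQ χ κ hχ]
    exact ⟨hτd, by rw [hτχ, hcase.neg_one_pow]⟩

end plus

end Cfsg.Agent.Lib.Helper16.PSC
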