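import Mathlib
import Cfsg.Agent.Lib.Helper16.PSC7
import Cfsg.Agent.Lib.Lead.OrthAutMinus

set_option autoImplicit false
set_option linter.unusedSectionVars false
set_option linter.unusedVariables false
set_option linter.unusedSimpArgs false

namespace Cfsg.Agent.Lib.Helper16.PSC

open Module Matrix Cfsg Cfsg.Agent.Lib.helper6 Cfsg.Agent.Lib.Helper16 Cfsg.Agent.Lib.Lead.OA
  Cfsg.Agent.Lib.Lead.OAP Cfsg.Agent.Lib.Lead.OAM

section minus

variable {F : Type*} [Field F] {m : ℕ} (a b : F)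

/-- the standard hyperbolic pairs of the minus form -/
def eM (i : Fin m) : (Fin m ⊕ Fin m) ⊕ Fin 2 → F := Pi.single (Sum.inl (Sum.inl i)) 1
def fM (i : Fin m) : (Fin m ⊕ Fin m) ⊕ Fin 2 → F := Pi.single (Sum.inl (Sum.inr i)) 1
/-- a vector of the binary part -/
def bM (w₁ w₂ : F) : (Fin m ⊕ Fin m) ⊕ Fin 2 → F :=
  Sum.elim (fun _ => 0) ![w₁, w₂]

theorem bM_inl (w₁ w₂ : F) (k : Fin m ⊕ Fin m) : bM (m := m) w₁ w₂ (Sum.inl k) = 0 := rfl
theorem bM_zero (w₁ w₂ : F) : bM (m := m) w₁ w₂ (Sum.inr 0) = w₁ := rfl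
theorem bM_one (w₁ w₂ : F) : bM (m := m) w₁ w₂ (Sum.inr 1) = w₂ := rfl

theorem polarM_x_fM (x : (Fin m ⊕ Fin m) ⊕ Fin 2 → F) (i : Fin m) :
    QuadraticMap.polar (⇑(qfMinus m F a b)) x (fM i) = x (Sum.inl (Sum.inl i)) := by
  rw [qfMinus_coe, polar_minus']
  unfold fM
  simp [Pi.single_apply]

theorem polarM_x_eM (x : (Fin m ⊕ Fin m) ⊕ Fin 2 → F) (i : Fin m) :
    QuadraticMap.polar (⇑(qfMinus m F a b)) x (eM i) = x (Sum.inl (Sum.inr i)) := by
  rw [qfMinus_coe, polar_minus']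
  unfold eM
  simp [Pi.single_apply]

theorem polarM_bM_x (w₁ w₂ : F) (x : (Fin m ⊕ Fin m) ⊕ Fin 2 → F) :
    QuadraticMap.polar (⇑(qfMinus m F a b)) (bM w₁ w₂) x =
      2 * w₁ * x (Sum.inr 0) + a * (w₁ * x (Sum.inr 1) + x (Sum.inr 0) * w₂) +
        2 * b * w₂ * x (Sum.inr 1) := by
  rw [qfMinus_coe, polar_minus']
  simp only [bM_inl, bM_zero, bM_one, zero_mul, mul_zero, add_zero, Finset.sum_const_zero, zero_add]

theorem QM_eM (i : Fin m) : qfMinus m F a b (eM i) = 0 := by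
  show Cfsg.quadFormMinus m F a b (eM i) = 0
  unfold Cfsg.quadFormMinus eM
  simp [Pi.single_apply]

theorem QM_fM (i : Fin m) : qfMinus m F a b (fM i) = 0 := by
  show Cfsg.quadFormMinus m F a b (fM i) = 0
  unfold Cfsg.quadFormMinus fM
  simp [Pi.single_apply]

theorem QM_bM (w₁ w₂ : F) :
    qfMinus m F a b (bM w₁ w₂) = w₁ ^ 2 + a * w₁ * w₂ + b * w₂ ^ 2 := by
  show Cfsg.quadFormMinus m F a b (bM w₁ w₂) = _
  unfold Cfsg.quadFormMinus
  simp only [bM_inl, bM_zero, bM_one, zero_mul, Finset.sum_const_zero, zero_add]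

/-- the action of the two binary reflections -/
theorem refl_bin_apply (w₁ w₂ c : F) (hc : w₁ ^ 2 + a * w₁ * w₂ + b * w₂ ^ 2 = c) (hc0 : c ≠ 0)
    (x : (Fin m ⊕ Fin m) ⊕ Fin 2 → F) :
    Cfsg.reflectionMatrix (⇑(qfMinus m F a b)) (bM w₁ w₂) *ᵥ
      (Cfsg.reflectionMatrix (⇑(qfMinus m F a b)) (bM 1 0) *ᵥ x) =
    Sum.elim (fun k => x (Sum.inl k))
      ![c⁻¹ * (w₁ * (w₁ * x (Sum.inr 0) - b * w₂ * x (Sum.inr 1)) -
          b * w₂ * (w₂ * x (Sum.inr 0) + (w₁ + a * w₂) * x (Sum.inr 1))),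
        c⁻¹ * (w₂ * (w₁ * x (Sum.inr 0) - b * w₂ * x (Sum.inr 1)) +
          (w₁ + a * w₂) * (w₂ * x (Sum.inr 0) + (w₁ + a * w₂) * x (Sum.inr 1)))] := by
  rw [reflectionMatrix_mulVec, reflectionMatrix_mulVec, QM_bM, QM_bM, polarM_bM_x, polarM_bM_x, hc]
  funext k
  rcases k with k | k
  · simp only [Pi.sub_apply, Pi.smul_apply, bM_inl, smul_eq_mul, mul_zero, sub_zero, Sum.elim_inl]
  · fin_cases k
    · simp only [Pi.sub_apply, Pi.smul_apply, bM_zero, bM_one, smul_eq_mul, Sum.elim_inr,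
        Fin.zero_eta, Fin.isValue, Matrix.cons_val_zero]
      field_simp
      rw [← hc]
      ring
    · simp only [Pi.sub_apply, Pi.smul_apply, bM_zero, bM_one, smul_eq_mul, Sum.elim_inr,
        Fin.mk_one, Fin.isValue, Matrix.cons_val_one, Matrix.cons_val_zero]
      field_simp
      rw [← hc]
      ring

theorem mMinus_mulVec (c w₁ w₂ : F) (v : (Fin m ⊕ Fin m) ⊕ Fin 2 → F) :
    mMinus (m := m) a b c w₁ w₂ *ᵥ v =
      Sum.elim (Sum.elim (fun i => c * v (Sum.inl (Sum.inl i))) (fun i => v (Sum.inl (Sum.inr i))))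
        ![w₁ * v (Sum.inr 0) + -b * w₂ * v (Sum.inr 1),
          w₂ * v (Sum.inr 0) + (w₁ + a * w₂) * v (Sum.inr 1)] := by
  unfold mMinus
  rw [Matrix.fromBlocks_mulVec]
  funext k
  rcases k with (k | k) | k
  · simp only [Sum.elim_inl, Matrix.zero_mulVec, add_zero, Pi.add_apply]
    rw [Matrix.mulVec_diagonal]
    rfl
  · simp only [Sum.elim_inl, Sum.elim_inr, Matrix.zero_mulVec, add_zero, Pi.add_apply]
    rw [Matrix.mulVec_diagonal]
    simp
  · fin_cases k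
    · simp [Matrix.mulVec, dotProduct, Fin.sum_univ_two]
    · simp [Matrix.mulVec, dotProduct, Fin.sum_univ_two]

variable [Fintype F]

theorem exists_tMinus (h2 : (2 : F) ≠ 0)
    (χ : ↥(Cfsg.isometryGroup F (⇑(qfMinus m F a b) : ((Fin m ⊕ Fin m) ⊕ Fin 2 → F) → F)) →* ℤˣ)
    (κ : ℤˣ) (hχ : ∀ (v : (Fin m ⊕ Fin m) ⊕ Fin 2 → F) (hv : qfMinus m F a b v ≠ 0),
      χ (reflG (qfMinus m F a b) v hv) = κ * sqSign (qfMinus m F a b v))
    (c : Fˣ) (w₁ w₂ : F) (hc : w₁ ^ 2 + a * w₁ * w₂ + b * w₂ ^ 2 = (c : F)) :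
    ∃ τ : ↥(Cfsg.isometryGroup F (⇑(qfMinus m F a b) : ((Fin m ⊕ Fin m) ⊕ Fin 2 → F) → F)),
      isoDet (⇑(qfMinus m F a b) : ((Fin m ⊕ Fin m) ⊕ Fin 2 → F) → F) τ = 1 ∧
      χ τ = sqSign (c : F) ^ (m + 1) ∧
      (⟨dMinus a b c w₁ w₂ hc, dMinus_mem a b c w₁ w₂ hc⟩ : ↥(GOq (qfMinus m F a b))) *
        ⟨dMinus a b c w₁ w₂ hc, dMinus_mem a b c w₁ w₂ hc⟩ =
        scalGO (qfMinus m F a b) c * isoToGO (qfMinus m F a b) τ := by
  have hc0 : (c : F) ≠ 0 := Units.ne_zero c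
  obtain ⟨τh, hτd, hτχ, hτx⟩ := hyp_scale (qfMinus m F a b) h2 χ κ hχ
    (eM (F := F) (m := m)) fM (QM_eM a b) (QM_fM a b)
    (fun i j => by
      rw [polarM_x_fM]
      unfold eM
      simp [Pi.single_apply, eq_comm])
    (fun i j => by
      rw [polarM_x_eM]
      unfold eM
      simp [Pi.single_apply])
    (fun i j => by
      rw [polarM_x_fM]
      unfold fM
      simp [Pi.single_apply])
    (c : F) hc0 Finset.univ
  have hQw : qfMinus m F a b (bM w₁ w₂) = (c : F) := by rw [QM_bM, hc]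
  have hQ1 : qfMinus m F a b (bM 1 0) = 1 := by rw [QM_bM]; ring
  have hQw0 : qfMinus m F a b (bM w₁ w₂) ≠ 0 := by rw [hQw]; exact hc0
  have hQ10 : qfMinus m F a b (bM 1 0) ≠ 0 := by rw [hQ1]; exact one_ne_zero
  set τb := reflG (qfMinus m F a b) _ hQw0 * reflG (qfMinus m F a b) _ hQ10 with hτb
  have hsq1 : sqSign (1 : F) = 1 := (sqSign_eq_one_iff _).mpr ⟨1, by simp⟩
  refine ⟨τh * τb, ?_, ?_, ?_⟩
  · rw [map_mul, hτd, hτb, map_mul, isoDet_reflG, isoDet_reflG]; simp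
  · rw [map_mul, hτχ, hτb, map_mul, hχ, hχ, hQw, hQ1, hsq1, Finset.card_univ, Fintype.card_fin,
      pow_succ, mul_one]
    congr 1
    rw [mul_comm κ, mul_assoc, Int.units_mul_self, mul_one]
  · apply Subtype.ext
    apply Units.ext
    show mMinus (m := m) a b c w₁ w₂ * mMinus (m := m) a b c w₁ w₂ =
      (((scalGO (qfMinus m F a b) c : ↥(GOq (qfMinus m F a b))) : GL ((Fin m ⊕ Fin m) ⊕ Fin 2) F) :
        Matrix ((Fin m ⊕ Fin m) ⊕ Fin 2) ((Fin m ⊕ Fin m) ⊕ Fin 2) F) *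
      (((τh : GL ((Fin m ⊕ Fin m) ⊕ Fin 2) F) :
          Matrix ((Fin m ⊕ Fin m) ⊕ Fin 2) ((Fin m ⊕ Fin m) ⊕ Fin 2) F) *
        (Cfsg.reflectionMatrix (⇑(qfMinus m F a b)) (bM w₁ w₂) *
          Cfsg.reflectionMatrix (⇑(qfMinus m F a b)) (bM 1 0)))
    rw [scalGO_coe, Matrix.ext_iff_mulVec]
    intro x
    rw [← Matrix.mulVec_mulVec, ← Matrix.mulVec_mulVec, ← Matrix.mulVec_mulVec, hτx,
      ← Matrix.mulVec_mulVec, refl_bin_apply a b w₁ w₂ (c : F) hc hc0, Matrix.smul_mulVec, Matrix.one_mulVec,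
      mMinus_mulVec, mMinus_mulVec]
    unfold DS
    funext k
    rcases k with (k | k) | k
    · simp only [Sum.elim_inl, Pi.smul_apply, Pi.add_apply, Finset.sum_apply, smul_eq_mul,
        polarM_x_fM, polarM_x_eM]
      unfold eM fM
      simp only [Pi.single_apply, Sum.inl.injEq, reduceCtorEq, if_false, mul_zero, add_zero,
        mul_ite, mul_one, Finset.sum_ite_eq, Finset.mem_univ, if_true]
      ring
    · simp only [Sum.elim_inl, Sum.elim_inr, Pi.smul_apply, Pi.add_apply, Finset.sum_apply,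
        smul_eq_mul, polarM_x_fM, polarM_x_eM]
      unfold eM fM
      simp only [Pi.single_apply, Sum.inl.injEq, Sum.inr.injEq, reduceCtorEq, if_false, mul_zero,
        zero_add, mul_ite, mul_one, Finset.sum_ite_eq, Finset.mem_univ, if_true]
      field_simp
      ring
    · fin_cases k
      · simp only [Sum.elim_inl, Sum.elim_inr, Pi.smul_apply, Pi.add_apply, Finset.sum_apply,
          smul_eq_mul, polarM_x_fM, polarM_x_eM, Fin.zero_eta, Fin.isValue, Matrix.cons_val_zero]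
        unfold eM fM
        simp only [Pi.single_apply, reduceCtorEq, if_false, mul_zero, add_zero,
          Finset.sum_const_zero, Matrix.cons_val_one, Matrix.cons_val_zero]
        field_simp
        ring
      · simp only [Sum.elim_inl, Sum.elim_inr, Pi.smul_apply, Pi.add_apply, Finset.sum_apply,
          smul_eq_mul, polarM_x_fM, polarM_x_eM, Fin.mk_one, Fin.isValue, Matrix.cons_val_one,
          Matrix.cons_val_zero]
        unfold eM fM
        simp only [Pi.single_apply, reduceCtorEq, if_false, mul_zero, add_zero,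
          Finset.sum_const_zero, Matrix.cons_val_one, Matrix.cons_val_zero]
        field_simp
        ring

end minus

end Cfsg.Agent.Lib.Helper16.PSC
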