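import Mathlib
import Cfsg.Agent.Lib.Helper16.PSC8
import Cfsg.Agent.Lib.Lead.Binary

set_option autoImplicit false
set_option linter.unusedSectionVars false
set_option linter.unusedVariables false
set_option linter.unusedSimpArgs false

namespace Cfsg.Agent.Lib.Helper16.PSC

open Module Matrix Cfsg Cfsg.Agent.Lib.helper6 Cfsg.Agent.Lib.Helper16

section ext

variable {F : Type*} [Field F] {K : Type*} [Field K] [Algebra F K] {m : ℕ} (a b : F)

/-- the polar form commutes with extension of scalars -/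
theorem polar_map (x y : (Fin m ⊕ Fin m) ⊕ Fin 2 → F) :
    QuadraticMap.polar (Cfsg.quadFormMinus m K (algebraMap F K a) (algebraMap F K b))
      (algebraMap F K ∘ x) (algebraMap F K ∘ y) =
    algebraMap F K (QuadraticMap.polar (Cfsg.quadFormMinus m F a b) x y) := by
  rw [polar_minus', polar_minus']
  simp only [Function.comp_apply, map_add, map_mul, map_sum, map_ofNat]

theorem nondeg_minus_of_disc (a' b' : K) (h2 : (2 : K) ≠ 0) (hd : a' ^ 2 - 4 * b' ≠ 0) :
    (QuadraticMap.polarBilin (qfMinus m K a' b')).Nondegenerate := by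
  have hleft : ∀ x : (Fin m ⊕ Fin m) ⊕ Fin 2 → K,
      (∀ y, QuadraticMap.polarBilin (qfMinus m K a' b') x y = 0) → x = 0 := by
    intro x hx
    have hx' : ∀ y, QuadraticMap.polar (Cfsg.quadFormMinus m K a' b') x y = 0 := hx
    have h0 := hx' (Pi.single (Sum.inr 0) 1)
    have h1 := hx' (Pi.single (Sum.inr 1) 1)
    rw [polar_minus'] at h0 h1
    simp [Pi.single_apply] at h0 h1
    have hx1 : x (Sum.inr 1) = 0 := by
      have : (a' ^ 2 - 4 * b') * x (Sum.inr 1) = 0 := by linear_combination a' * h0 - 2 * h1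
      rcases mul_eq_zero.mp this with h' | h'
      · exact absurd h' hd
      · exact h'
    have hx0 : x (Sum.inr 0) = 0 := by
      rw [hx1] at h0
      have : 2 * x (Sum.inr 0) = 0 := by linear_combination h0
      rcases mul_eq_zero.mp this with h' | h'
      · exact absurd h' h2
      · exact h'
    funext k
    rcases k with (i | i) | k
    · have := hx' (Pi.single (Sum.inl (Sum.inr i)) 1)
      rw [polar_minus'] at this
      simpa [Pi.single_apply] using this
    · have := hx' (Pi.single (Sum.inl (Sum.inl i)) 1)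
      rw [polar_minus'] at this
      simpa [Pi.single_apply] using this
    · fin_cases k
      · exact hx0
      · exact hx1
  refine ⟨hleft, ?_⟩
  intro y hy
  apply hleft
  intro x
  have := hy x
  rw [QuadraticMap.polarBilin_apply_apply] at this ⊢
  rw [QuadraticMap.polar_comm]; exact this

/-- a similarity over `F` remains one over an extension field -/
theorem sim_map (h2 : (2 : K) ≠ 0) (g : Matrix ((Fin m ⊕ Fin m) ⊕ Fin 2) ((Fin m ⊕ Fin m) ⊕ Fin 2) F)
    (μ : F) (hg : ∀ v, Cfsg.quadFormMinus m F a b (g *ᵥ v) = μ * Cfsg.quadFormMinus m F a b v)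
    (v : (Fin m ⊕ Fin m) ⊕ Fin 2 → K) :
    qfMinus m K (algebraMap F K a) (algebraMap F K b) (g.map (algebraMap F K) *ᵥ v) =
      algebraMap F K μ * qfMinus m K (algebraMap F K a) (algebraMap F K b) v := by
  set φ := algebraMap F K with hφ
  set QK := qfMinus m K (φ a) (φ b) with hQK
  set gK := g.map φ with hgK
  -- polar identity over `F`
  have hpF : ∀ x y, QuadraticMap.polar (Cfsg.quadFormMinus m F a b) (g *ᵥ x) (g *ᵥ y) =
      μ * QuadraticMap.polar (Cfsg.quadFormMinus m F a b) x y := by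
    intro x y
    unfold QuadraticMap.polar
    rw [← Matrix.mulVec_add, hg, hg, hg]
    ring
  have hmv : ∀ x : (Fin m ⊕ Fin m) ⊕ Fin 2 → F, gK *ᵥ (φ ∘ x) = φ ∘ (g *ᵥ x) := by
    intro x
    funext i
    exact (RingHom.map_mulVec φ g x i).symm
  have hsingle : ∀ i : (Fin m ⊕ Fin m) ⊕ Fin 2, (Pi.single i (1 : K) : (Fin m ⊕ Fin m) ⊕ Fin 2 → K) =
      φ ∘ (Pi.single i (1 : F)) := by
    intro i
    funext k
    by_cases hk : k = i
    · subst hk; simp
    · simp [Pi.single_apply, hk]
  -- the two bilinear forms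
  have hB : (QuadraticMap.polarBilin QK).compl₁₂ (Matrix.toLin' gK) (Matrix.toLin' gK) =
      φ μ • QuadraticMap.polarBilin QK := by
    apply LinearMap.BilinForm.ext_basis (Pi.basisFun K ((Fin m ⊕ Fin m) ⊕ Fin 2))
    intro i j
    rw [LinearMap.compl₁₂_apply, Pi.basisFun_apply, Pi.basisFun_apply, Matrix.toLin'_apply,
      Matrix.toLin'_apply, LinearMap.smul_apply, LinearMap.smul_apply, hsingle i, hsingle j,
      hmv, hmv]
    show QuadraticMap.polar (Cfsg.quadFormMinus m K (φ a) (φ b)) _ _ =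
      φ μ • QuadraticMap.polar (Cfsg.quadFormMinus m K (φ a) (φ b)) _ _
    rw [polar_map, polar_map, hpF, map_mul, smul_eq_mul]
  have h1 := LinearMap.congr_fun (LinearMap.congr_fun hB v) v
  rw [LinearMap.compl₁₂_apply, Matrix.toLin'_apply, LinearMap.smul_apply, LinearMap.smul_apply,
    QuadraticMap.polarBilin_apply_apply, QuadraticMap.polarBilin_apply_apply,
    QuadraticMap.polar_self, QuadraticMap.polar_self, smul_eq_mul] at h1
  have h3 : (2 : K) * QK (gK *ᵥ v) = 2 * (φ μ * QK v) := by
    have e1 : ∀ t : K, (2 : ℕ) • t = 2 * t := fun t => by rw [nsmul_eq_mul]; norm_num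
    rw [e1, e1] at h1
    linear_combination h1
  exact mul_left_cancel₀ h2 h3

end ext

section root

variable {F : Type*} [Field F] [Fintype F] {K : Type*} [Field K] [Algebra F K]

/-- every element of a finite field of odd order is a square in a quadratic extension -/
theorem isSquare_algebraMap (hodd : Odd (Fintype.card F)) (hfr : Module.finrank F K = 2) (d : F) :
    IsSquare (algebraMap F K d) := by
  by_cases hd : d = 0
  · rw [hd, map_zero]; exact ⟨0, by simp⟩
  have hfin : Module.Finite F K := Module.finite_of_finrank_pos (by omega)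
  have hKfin : Finite K := Module.finite_of_finite F
  have hKft : Fintype K := Fintype.ofFinite K
  have hcK : Fintype.card K = Fintype.card F ^ 2 := by
    rw [← hfr]; exact Module.card_eq_pow_finrank
  have h2F : (2 : F) ≠ 0 := Cfsg.Agent.Lib.Lead.OAP.two_ne_zero_of_odd hodd
  have h2K : (2 : K) ≠ 0 := by
    have : (2 : K) = algebraMap F K 2 := (map_ofNat (algebraMap F K) 2).symm
    rw [this]
    exact fun h => h2F ((algebraMap F K).injective (by rw [h, map_zero]))
  have hchar : ringChar K ≠ 2 := by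
    intro h
    have : CharP K 2 := by rw [← h]; exact ringChar.charP K
    exact h2K (CharTwo.two_eq_zero)
  have hd0 : algebraMap F K d ≠ 0 := by
    intro h
    exact hd ((algebraMap F K).injective (by rw [h, map_zero]))
  rw [FiniteField.isSquare_iff hchar hd0, hcK]
  obtain ⟨t, ht⟩ := hodd
  have e1 : Fintype.card F ^ 2 / 2 = (Fintype.card F - 1) * (t + 1) := by
    rw [ht]
    have : (2 * t + 1) ^ 2 = 2 * (2 * t * (t + 1)) + 1 := by ring
    rw [this]
    have : (2 * (2 * t * (t + 1)) + 1) / 2 = 2 * t * (t + 1) := by omega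
    rw [this]
    simp
  rw [e1, pow_mul, ← map_pow, FiniteField.pow_card_sub_one_eq_one d hd, map_one, one_pow]

theorem exists_root (hodd : Odd (Fintype.card F)) (hfr : Module.finrank F K = 2) (a b : F) :
    ∃ θ : K, θ ^ 2 + algebraMap F K a * θ + algebraMap F K b = 0 := by
  obtain ⟨ρ, hρ⟩ := isSquare_algebraMap (K := K) hodd hfr (a ^ 2 - 4 * b)
  have h2F : (2 : F) ≠ 0 := Cfsg.Agent.Lib.Lead.OAP.two_ne_zero_of_odd hodd
  have h2K : (2 : K) ≠ 0 := by
    have : (2 : K) = algebraMap F K 2 := (map_ofNat (algebraMap F K) 2).symm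
    rw [this]
    exact fun h => h2F ((algebraMap F K).injective (by rw [h, map_zero]))
  refine ⟨(-algebraMap F K a + ρ) / 2, ?_⟩
  have h4 : algebraMap F K a ^ 2 - 4 * algebraMap F K b = ρ * ρ := by
    rw [← hρ, map_sub, map_pow, map_mul, map_ofNat]
  field_simp
  linear_combination -h4

end root

section EK

variable {K : Type*} [Field K] {m : ℕ} (a' b' θ : K)

/-- a parametrisation of a totally singular subspace of dimension `m + 1` -/
def jK : (Fin (m + 1) → K) →ₗ[K] ((Fin m ⊕ Fin m) ⊕ Fin 2 → K) :=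
  LinearMap.pi (Sum.elim (Sum.elim (fun i => LinearMap.proj (Fin.castSucc i)) (fun _ => 0))
    ![θ • LinearMap.proj (Fin.last m), LinearMap.proj (Fin.last m)])

theorem jK_inl_inl (x : Fin (m + 1) → K) (i : Fin m) :
    jK (m := m) θ x (Sum.inl (Sum.inl i)) = x (Fin.castSucc i) := rfl
theorem jK_inl_inr (x : Fin (m + 1) → K) (i : Fin m) :
    jK (m := m) θ x (Sum.inl (Sum.inr i)) = 0 := rfl
theorem jK_inr_zero (x : Fin (m + 1) → K) :
    jK (m := m) θ x (Sum.inr 0) = θ * x (Fin.last m) := rfl
theorem jK_inr_one (x : Fin (m + 1) → K) :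
    jK (m := m) θ x (Sum.inr 1) = x (Fin.last m) := rfl

theorem jK_injective : Function.Injective (jK (m := m) θ) := by
  rw [← LinearMap.ker_eq_bot, Submodule.eq_bot_iff]
  intro x hx
  rw [LinearMap.mem_ker] at hx
  funext k
  refine Fin.lastCases ?_ (fun i => ?_) k
  · have := congrFun hx (Sum.inr 1)
    rw [jK_inr_one] at this
    exact this
  · have := congrFun hx (Sum.inl (Sum.inl i))
    rw [jK_inl_inl] at this
    exact this

theorem jK_sing (hθ : θ ^ 2 + a' * θ + b' = 0) (x : Fin (m + 1) → K) :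
    qfMinus m K a' b' (jK (m := m) θ x) = 0 := by
  show Cfsg.quadFormMinus m K a' b' (jK (m := m) θ x) = 0
  unfold Cfsg.quadFormMinus
  simp only [jK_inl_inl, jK_inl_inr, jK_inr_zero, jK_inr_one, mul_zero, Finset.sum_const_zero,
    zero_add]
  linear_combination (x (Fin.last m)) ^ 2 * hθ

theorem range_jK_ts (hθ : θ ^ 2 + a' * θ + b' = 0) :
    Cfsg.Geo.IsTotallySingularQuad (⇑(qfMinus m K a' b')) (LinearMap.range (jK (m := m) θ)) := by
  rintro _ ⟨x, rfl⟩
  exact jK_sing a' b' θ hθ x

theorem range_jK_finrank : finrank K ↥(LinearMap.range (jK (m := m) θ)) = m + 1 := by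
  rw [LinearMap.finrank_range_of_inj (jK_injective θ), Module.finrank_fintype_fun_eq_card,
    Fintype.card_fin]

end EK

section crit

universe u

variable {F : Type u} [Field F] [Fintype F] {m : ℕ} (a b : F)

theorem card_minus_index (m : ℕ) : Fintype.card ((Fin m ⊕ Fin m) ⊕ Fin 2) = 2 * (m + 1) := by
  simp only [Fintype.card_sum, Fintype.card_fin]; ring

theorem psc_K_iff {K : Type*} [Field K] [Algebra F K] (hodd : Odd (Fintype.card F))
    (hab : ∀ z₁ z₂ : F, z₁ ^ 2 + a * z₁ * z₂ + b * z₂ ^ 2 = 0 → z₁ = 0 ∧ z₂ = 0)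
    (hfr : Module.finrank F K = 2)
    (g : Matrix ((Fin m ⊕ Fin m) ⊕ Fin 2) ((Fin m ⊕ Fin m) ⊕ Fin 2) F) (μ : F) (hμ : μ ≠ 0)
    (hg : ∀ v, Cfsg.quadFormMinus m F a b (g *ᵥ v) = μ * Cfsg.quadFormMinus m F a b v) :
    Cfsg.PreservesSingularClasses
      (Cfsg.quadFormMinus m K (algebraMap F K a) (algebraMap F K b)) (g.map (algebraMap F K)) ↔
      g.det = μ ^ (m + 1) := by
  have hinj : Function.Injective (algebraMap F K) := (algebraMap F K).injective
  have h2F : (2 : F) ≠ 0 := Cfsg.Agent.Lib.Lead.OAP.two_ne_zero_of_odd hodd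
  have h2K : (2 : K) ≠ 0 := by
    have : (2 : K) = algebraMap F K 2 := (map_ofNat (algebraMap F K) 2).symm
    rw [this]
    exact fun h => h2F (hinj (by rw [h, map_zero]))
  have hdF : a ^ 2 - 4 * b ≠ 0 := Cfsg.Agent.Lib.Lead.Bin.disc_ne_zero hab
  have hdK : algebraMap F K a ^ 2 - 4 * algebraMap F K b ≠ 0 := by
    have : algebraMap F K a ^ 2 - 4 * algebraMap F K b = algebraMap F K (a ^ 2 - 4 * b) := by
      rw [map_sub, map_pow, map_mul, map_ofNat]
    rw [this]
    exact fun h => hdF (hinj (by rw [h, map_zero]))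
  obtain ⟨θ, hθ⟩ := exists_root (K := K) hodd hfr a b
  have hμK : algebraMap F K μ ≠ 0 := fun h => hμ (hinj (by rw [h, map_zero]))
  have key := psc_iff (qfMinus m K (algebraMap F K a) (algebraMap F K b)) h2K
    (nondeg_minus_of_disc _ _ h2K hdK) (m + 1) (card_minus_index m)
    (LinearMap.range (jK (m := m) θ)) (range_jK_ts _ _ θ hθ) (range_jK_finrank θ)
    (g.map (algebraMap F K)) (algebraMap F K μ) hμK (sim_map a b h2K g μ hg)
  rw [qfMinus_coe] at key
  rw [key]
  have hdet : (g.map (algebraMap F K)).det = algebraMap F K g.det := by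
    rw [RingHom.map_det, RingHom.mapMatrix_apply]
  rw [hdet, ← map_pow]
  exact hinj.eq_iff

theorem psc_minus_iff (hodd : Odd (Fintype.card F))
    (hab : ∀ z₁ z₂ : F, z₁ ^ 2 + a * z₁ * z₂ + b * z₂ ^ 2 = 0 → z₁ = 0 ∧ z₂ = 0)
    (g : Matrix ((Fin m ⊕ Fin m) ⊕ Fin 2) ((Fin m ⊕ Fin m) ⊕ Fin 2) F) (μ : F) (hμ : μ ≠ 0)
    (hg : ∀ v, Cfsg.quadFormMinus m F a b (g *ᵥ v) = μ * Cfsg.quadFormMinus m F a b v) :
    Cfsg.PreservesSingularClassesMinus m a b g ↔ g.det = μ ^ (m + 1) := by
  constructor
  · rintro ⟨K, instK, instA, hfr, hpsc⟩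
    exact (psc_K_iff a b (K := K) hodd hab hfr g μ hμ hg).mp hpsc
  · intro hdet
    set p : Polynomial F := Polynomial.C 1 * Polynomial.X ^ 2 + Polynomial.C a * Polynomial.X +
      Polynomial.C b with hp
    have hdeg : p.natDegree = 2 := Polynomial.natDegree_quadratic one_ne_zero
    have hirr : Irreducible p := by
      apply Polynomial.irreducible_of_degree_le_three_of_not_isRoot
      · rw [hdeg]; decide
      · intro x hx
        have h1 : x ^ 2 + a * x * 1 + b * 1 ^ 2 = 0 := by
          have : p.eval x = 0 := hx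
          rw [hp] at this
          simp only [Polynomial.eval_add, Polynomial.eval_mul, Polynomial.eval_C,
            Polynomial.eval_pow, Polynomial.eval_X] at this
          linear_combination this
        exact one_ne_zero (hab x 1 h1).2
    have hfact : Fact (Irreducible p) := ⟨hirr⟩
    have hp0 : p ≠ 0 := hirr.ne_zero
    have hfr : Module.finrank F (AdjoinRoot p) = 2 := by
      rw [(AdjoinRoot.powerBasis hp0).finrank, AdjoinRoot.powerBasis_dim, hdeg]
    exact ⟨AdjoinRoot p, inferInstance, inferInstance, hfr,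
      (psc_K_iff a b (K := AdjoinRoot p) hodd hab hfr g μ hμ hg).mpr hdet⟩

end crit

end Cfsg.Agent.Lib.Helper16.PSC
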