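import Mathlib
import Cfsg.Agent.Lib.Helper16.OM7
import Cfsg.Agent.Lib.Helper16.PSC9
import Cfsg.Agent.Lib.Helper16.Char2K

set_option autoImplicit false
set_option linter.unusedSectionVars false
set_option linter.unusedVariables false

/-! Lang-type results for even-dimensional orthogonal groups, part 8: in characteristic two, an
isometry of a minus-type form preserves the singular classes iff it lies in `Ω`. -/

namespace Cfsg.Agent.Lib.Helper16.OM

open Matrix Module Cfsg.Agent.Lib.Lead.OA Cfsg.Agent.Lib.Helper16 Cfsg.Agent.Lib.Helper16.OA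
  Cfsg.Agent.Lib.Helper16.OL Cfsg.Agent.Lib.Helper16.PSC

universe u v

section base

variable {ι : Type} [Fintype ι] [DecidableEq ι] {F : Type u} [Field F] {K : Type v} [Field K]

theorem inclI_mem_iso (j : F →+* K) (Q₀ : QuadraticForm F (ι → F)) (Q : QuadraticForm K (ι → K))
    (hc : BaseCompat j (⇑Q₀) (⇑Q)) (h : GL ι F)
    (hh : h ∈ Cfsg.isometryGroup F (⇑Q₀ : (ι → F) → F)) :
    inclI j h ∈ Cfsg.isometryGroup K (⇑Q : (ι → K) → K) := by
  rw [mem_iso_iff'] at hh ⊢
  intro w
  have := sim_ext j Q₀ Q hc Q₀ Q hc (h : Matrix ι ι F) 1 (fun v => by rw [hh, one_mul]) w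
  rw [map_one, one_mul] at this
  rw [inclI_val]
  exact this

/-- base change of isometries, in every characteristic. -/
noncomputable def inclIsoG (j : F →+* K) (Q₀ : QuadraticForm F (ι → F))
    (Q : QuadraticForm K (ι → K)) (hc : BaseCompat j (⇑Q₀) (⇑Q)) :
    ↥(Cfsg.isometryGroup F (⇑Q₀ : (ι → F) → F)) →* ↥(Cfsg.isometryGroup K (⇑Q : (ι → K) → K)) where
  toFun h := ⟨inclI j (h : GL ι F), inclI_mem_iso j Q₀ Q hc _ h.2⟩
  map_one' := Subtype.ext (map_one (inclI j))
  map_mul' a b := Subtype.ext (map_mul (inclI j) _ _)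

theorem inclIsoG_coe (j : F →+* K) (Q₀ : QuadraticForm F (ι → F))
    (Q : QuadraticForm K (ι → K)) (hc : BaseCompat j (⇑Q₀) (⇑Q))
    (h : ↥(Cfsg.isometryGroup F (⇑Q₀ : (ι → F) → F))) :
    (((inclIsoG j Q₀ Q hc h : ↥(Cfsg.isometryGroup K (⇑Q : (ι → K) → K))) : GL ι K) :
      Matrix ι ι K) = ((h : GL ι F) : Matrix ι ι F).map ⇑j := rfl

end base

section minus

variable {F : Type u} [Field F] [Fintype F] {m : ℕ} (a b : F)

theorem nondeg_minus_disc {K : Type v} [Field K] (a' b' : K) (hd : a' ^ 2 - 4 * b' ≠ 0) :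
    (QuadraticMap.polarBilin (qfMinus m K a' b')).Nondegenerate := by
  have hleft : ∀ x : (Fin m ⊕ Fin m) ⊕ Fin 2 → K,
      (∀ y, QuadraticMap.polarBilin (qfMinus m K a' b') x y = 0) → x = 0 := by
    intro x hx
    have h0 : 2 * x (Sum.inr 0) + a' * x (Sum.inr 1) = 0 := by
      have := hx (Pi.single (Sum.inr 0) 1)
      rw [QuadraticMap.polarBilin_apply_apply, qfMinus_coe, polar_minus'] at this
      simpa [Pi.single_apply] using this
    have h1 : a' * x (Sum.inr 0) + 2 * b' * x (Sum.inr 1) = 0 := by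
      have := hx (Pi.single (Sum.inr 1) 1)
      rw [QuadraticMap.polarBilin_apply_apply, qfMinus_coe, polar_minus'] at this
      simpa [Pi.single_apply] using this
    have hx0 : x (Sum.inr 0) = 0 := by
      have : (a' ^ 2 - 4 * b') * x (Sum.inr 0) = 0 := by linear_combination a' * h1 - 2 * b' * h0
      exact (mul_eq_zero.mp this).resolve_left hd
    have hx1 : x (Sum.inr 1) = 0 := by
      have : (a' ^ 2 - 4 * b') * x (Sum.inr 1) = 0 := by linear_combination a' * h0 - 2 * h1
      exact (mul_eq_zero.mp this).resolve_left hd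
    funext t
    rcases t with (i | i) | t
    · have := hx (Pi.single (Sum.inl (Sum.inr i)) 1)
      rw [QuadraticMap.polarBilin_apply_apply, qfMinus_coe, polar_minus'] at this
      simpa [Pi.single_apply] using this
    · have := hx (Pi.single (Sum.inl (Sum.inl i)) 1)
      rw [QuadraticMap.polarBilin_apply_apply, qfMinus_coe, polar_minus'] at this
      simpa [Pi.single_apply] using this
    · have ht : t = 0 ∨ t = 1 := by fin_cases t <;> simp
      rcases ht with rfl | rfl
      · exact hx0
      · exact hx1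
  refine ⟨hleft, ?_⟩
  intro y hy
  apply hleft
  intro x
  have := hy x
  rw [QuadraticMap.polarBilin_apply_apply] at this ⊢
  rw [QuadraticMap.polar_comm]; exact this

theorem baseCompat_minus_alg {K : Type v} [Field K] [Algebra F K] :
    BaseCompat (algebraMap F K) (⇑(qfMinus m F a b))
      (⇑(qfMinus m K (algebraMap F K a) (algebraMap F K b))) := by
  intro v
  rw [qfMinus_coe, qfMinus_coe]
  exact quadFormMinus_map (algebraMap F K) a b v

/-- the character of the isometry group over `F` given by the action on the two classes of maximal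
totally singular subspaces over a quadratic extension. -/
theorem exists_classChar {K : Type v} [Field K] [Algebra F K] (hfr : Module.finrank F K = 2)
    (hab : ∀ z₁ z₂ : F, z₁ ^ 2 + a * z₁ * z₂ + b * z₂ ^ 2 = 0 → z₁ = 0 ∧ z₂ = 0) :
    ∃ χ : ↥(Cfsg.isometryGroup F (⇑(qfMinus m F a b) : ((Fin m ⊕ Fin m) ⊕ Fin 2 → F) → F)) →* ℤˣ,
      (∀ (u : (Fin m ⊕ Fin m) ⊕ Fin 2 → F) (hu : qfMinus m F a b u ≠ 0),
        χ (CDG.refl (qfMinus m F a b) u hu) = -1) ∧
      ∀ g, χ g = 1 ↔ Cfsg.PreservesSingularClasses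
        (Cfsg.quadFormMinus m K (algebraMap F K a) (algebraMap F K b))
        (((g : GL ((Fin m ⊕ Fin m) ⊕ Fin 2) F) :
          Matrix ((Fin m ⊕ Fin m) ⊕ Fin 2) ((Fin m ⊕ Fin m) ⊕ Fin 2) F).map (algebraMap F K)) := by
  classical
  have hinj : Function.Injective (algebraMap F K) := (algebraMap F K).injective
  have hfin : Module.Finite F K := Module.finite_of_finrank_pos (by rw [hfr]; norm_num)
  have hFK : Finite K := Module.finite_of_finite F
  have : Fintype K := Fintype.ofFinite K
  have hdF : a ^ 2 - 4 * b ≠ 0 := disc_ne_zero_of_aniso a b hab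
  have hdK : algebraMap F K a ^ 2 - 4 * algebraMap F K b ≠ 0 := by
    have : algebraMap F K a ^ 2 - 4 * algebraMap F K b = algebraMap F K (a ^ 2 - 4 * b) := by
      rw [map_sub, map_pow, map_mul, map_ofNat]
    rw [this]
    exact fun h => hdF (hinj (by rw [h, map_zero]))
  obtain ⟨θ, hθ⟩ := exists_root_of_aniso (K := K) hfr a b hab
  set QK := qfMinus m K (algebraMap F K a) (algebraMap F K b) with hQK
  have hQKn := nondeg_minus_disc (m := m) (algebraMap F K a) (algebraMap F K b) hdK
  have hcardK := card_minus_index m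
  set E : Submodule K ((Fin m ⊕ Fin m) ⊕ Fin 2 → K) := LinearMap.range (jK (m := m) θ) with hE
  have hEts : TS QK E := range_jK_ts _ _ θ hθ
  have dE : finrank K ↥E = m + 1 := range_jK_finrank θ
  have hc := baseCompat_minus_alg (m := m) a b (K := K)
  refine ⟨(famCharHom QK hQKn hcardK E hEts dE).comp (inclIsoG (algebraMap F K) _ QK hc), ?_, ?_⟩
  · intro u hu
    show famChar QK (m + 1) E (inclIsoG (algebraMap F K) _ QK hc (CDG.refl (qfMinus m F a b) u hu))
      = -1
    apply famChar_refl QK hQKn hcardK E hEts dE _ (fun i => algebraMap F K (u i))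
    · rw [hc u]
      exact fun h => hu (hinj (by rw [h, map_zero]))
    · rw [inclIsoG_coe, CDG.refl_coe]
      exact reflectionMatrix_base (algebraMap F K) _ QK hc u
  · intro g
    show famChar QK (m + 1) E (inclIsoG (algebraMap F K) _ QK hc g) = 1 ↔ _
    rw [← psc_iff_famChar QK hQKn (m + 1) hcardK E hEts dE, inclIsoG_coe, hQK, qfMinus_coe]

end minus

end Cfsg.Agent.Lib.Helper16.OM
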