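import Mathlib
import Cfsg.Agent.Lib.Helper16.OM8

set_option autoImplicit false
set_option linter.unusedSectionVars false
set_option linter.unusedVariables false

/-! Lang-type results for even-dimensional orthogonal groups, part 9: transporting `PΩ` along a
linear isometry between two forms on the same space. -/

namespace Cfsg.Agent.Lib.Helper16.OM

open Matrix Module Cfsg.Agent.Lib.Lead.OA Cfsg.Agent.Lib.Helper16 Cfsg.Agent.Lib.Helper16.OA
  Cfsg.Agent.Lib.Helper16.OL Cfsg.Agent.Lib.Helper16.PSC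

universe u v

section generic

variable {G : Type u} {H : Type v} [Group G] [Group H]

theorem map_commutator_equiv (e : G ≃* H) :
    (commutator G).map (e : G →* H) = commutator H := by
  rw [commutator_def, commutator_def, Subgroup.map_commutator,
    Subgroup.map_top_of_surjective _ e.surjective]

/-- an isomorphism of groups restricts to the commutator subgroups. -/
noncomputable def commEquiv (e : G ≃* H) : ↥(commutator G) ≃* ↥(commutator H) :=
  (e.subgroupMap (commutator G)).trans (MulEquiv.subgroupCongr (map_commutator_equiv e))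

theorem commEquiv_coe (e : G ≃* H) (x : ↥(commutator G)) :
    ((commEquiv e x : ↥(commutator H)) : H) = e x := rfl

theorem map_center_equiv (e : G ≃* H) :
    (Subgroup.center G).map (e : G →* H) = Subgroup.center H := by
  ext y
  rw [Subgroup.mem_map, Subgroup.mem_center_iff]
  constructor
  · rintro ⟨x, hx, rfl⟩ h
    rw [Subgroup.mem_center_iff] at hx
    obtain ⟨g, rfl⟩ := e.surjective h
    show e g * e x = e x * e g
    rw [← map_mul, ← map_mul, hx g]
  · intro hy
    refine ⟨e.symm y, ?_, e.apply_symm_apply y⟩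
    rw [Subgroup.mem_center_iff]
    intro g
    apply e.injective
    rw [map_mul, map_mul, e.apply_symm_apply]
    exact hy (e g)

/-- an isomorphism of groups induces one of the quotients by the centres. -/
noncomputable def centerQuotEquiv (e : G ≃* H) :
    G ⧸ Subgroup.center G ≃* H ⧸ Subgroup.center H :=
  QuotientGroup.congr (Subgroup.center G) (Subgroup.center H) e (map_center_equiv e)

theorem centerQuotEquiv_mk (e : G ≃* H) (x : G) :
    centerQuotEquiv e (QuotientGroup.mk x) = QuotientGroup.mk (e x) := rfl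

/-- transport of automorphisms along an isomorphism. -/
noncomputable def autTr {X : Type u} {Y : Type v} [Group X] [Group Y] (ψ : X ≃* Y) :
    MulAut X ≃* MulAut Y where
  toFun β := (ψ.symm.trans β).trans ψ
  invFun β := (ψ.trans β).trans ψ.symm
  left_inv β := by
    apply MulEquiv.ext
    intro x
    simp
  right_inv β := by
    apply MulEquiv.ext
    intro x
    simp
  map_mul' β γ := by
    apply MulEquiv.ext
    intro x
    simp [MulAut.mul_apply]

theorem autTr_def {X : Type u} {Y : Type v} [Group X] [Group Y] (ψ : X ≃* Y) (β : MulAut X) :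
    autTr ψ β = (ψ.symm.trans β).trans ψ := rfl

theorem autTr_apply {X : Type u} {Y : Type v} [Group X] [Group Y] (ψ : X ≃* Y) (β : MulAut X)
    (x : X) : autTr ψ β (ψ x) = ψ (β x) := by
  show ψ (β (ψ.symm (ψ x))) = _
  rw [MulEquiv.symm_apply_apply]

theorem autTr_apply' {X : Type u} {Y : Type v} [Group X] [Group Y] (ψ : X ≃* Y) (β : MulAut X)
    (y : Y) : autTr ψ β y = ψ (β (ψ.symm y)) := rfl

theorem autTr_conj {X : Type u} {Y : Type v} [Group X] [Group Y] (ψ : X ≃* Y) (g : X) :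
    autTr ψ (MulAut.conj g) = MulAut.conj (ψ g) := by
  apply MulEquiv.ext
  intro y
  obtain ⟨x, rfl⟩ := ψ.surjective y
  rw [autTr_apply, MulAut.conj_apply, MulAut.conj_apply, map_mul, map_mul, map_inv]

theorem autTr_inn_iff {X : Type u} {Y : Type v} [Group X] [Group Y] (ψ : X ≃* Y) (β : MulAut X) :
    β ∈ Cfsg.Inn X ↔ autTr ψ β ∈ Cfsg.Inn Y := by
  constructor
  · rintro ⟨g, rfl⟩
    exact ⟨ψ g, (autTr_conj ψ g).symm⟩
  · rintro ⟨g, hg⟩
    refine ⟨ψ.symm g, ?_⟩
    apply (autTr ψ).injective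
    rw [autTr_conj, MulEquiv.apply_symm_apply]
    exact hg

/-- comparing the transports along two isomorphisms. -/
theorem autTr_eq_conj {X : Type u} {Y : Type v} [Group X] [Group Y] (ψ₀ ψ : X ≃* Y) (β : MulAut X) :
    autTr ψ β = (ψ₀.symm.trans ψ : MulAut Y) * autTr ψ₀ β * (ψ₀.symm.trans ψ : MulAut Y)⁻¹ := by
  apply MulEquiv.ext
  intro y
  rw [MulAut.mul_apply, MulAut.mul_apply, autTr_apply', autTr_apply']
  show _ = ψ (ψ₀.symm (ψ₀ (β (ψ₀.symm ((ψ₀.symm.trans ψ : MulAut Y)⁻¹ y)))))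
  rw [MulEquiv.symm_apply_apply]
  have : (ψ₀.symm.trans ψ : MulAut Y)⁻¹ y = ψ₀ (ψ.symm y) := rfl
  rw [this, MulEquiv.symm_apply_apply]

theorem autTr_mem_iff {X : Type u} {Y : Type v} [Group X] [Group Y] (ψ₀ ψ : X ≃* Y)
    (D : Subgroup (MulAut X)) (D' : Subgroup (MulAut Y)) (hN : D'.Normal)
    (h₀ : ∀ β, β ∈ D ↔ autTr ψ₀ β ∈ D') (β : MulAut X) : β ∈ D ↔ autTr ψ β ∈ D' := by
  rw [h₀ β, autTr_eq_conj ψ₀ ψ β]
  constructor
  · intro h
    exact hN.conj_mem _ h _
  · intro h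
    have := hN.conj_mem _ h (ψ₀.symm.trans ψ : MulAut Y)⁻¹
    rw [inv_inv] at this
    have e : (ψ₀.symm.trans ψ : MulAut Y)⁻¹ * ((ψ₀.symm.trans ψ : MulAut Y) * autTr ψ₀ β *
        (ψ₀.symm.trans ψ : MulAut Y)⁻¹) * (ψ₀.symm.trans ψ : MulAut Y) = autTr ψ₀ β := by group
    rwa [e] at this

end generic

section transport

variable {ι : Type} [Fintype ι] [DecidableEq ι] {F : Type u} [Field F]

/-- the invertible matrix `t` carries the form `Q` to the form `Q'`. -/
def Carries (Q Q' : (ι → F) → F) (t : GL ι F) : Prop :=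
  ∀ v, Q' ((t : Matrix ι ι F) *ᵥ v) = Q v

theorem carries_inv {Q Q' : (ι → F) → F} {t : GL ι F} (ht : Carries Q Q' t) :
    Carries Q' Q t⁻¹ := by
  intro v
  rw [← ht, Matrix.mulVec_mulVec, ← Units.val_mul, mul_inv_cancel, Units.val_one,
    Matrix.one_mulVec]

theorem conj_mem_iso {Q Q' : (ι → F) → F} {t : GL ι F} (ht : Carries Q Q' t) {g : GL ι F}
    (hg : g ∈ Cfsg.isometryGroup F Q) : t * g * t⁻¹ ∈ Cfsg.isometryGroup F Q' := by
  rw [mem_iso_iff'] at hg ⊢
  intro v
  rw [Units.val_mul, Units.val_mul, ← Matrix.mulVec_mulVec, ← Matrix.mulVec_mulVec, ht, hg,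
    carries_inv ht]

theorem conj_mem_GO {Q Q' : (ι → F) → F} {t : GL ι F} (ht : Carries Q Q' t) {g : GL ι F}
    (hg : g ∈ GO Q) : t * g * t⁻¹ ∈ GO Q' := by
  obtain ⟨c, hc⟩ := hg
  refine ⟨c, fun v => ?_⟩
  rw [Units.val_mul, Units.val_mul, ← Matrix.mulVec_mulVec, ← Matrix.mulVec_mulVec, ht, hc,
    carries_inv ht]

/-- conjugation by `t` as an isomorphism of the isometry groups. -/
noncomputable def isoConj {Q Q' : (ι → F) → F} {t : GL ι F} (ht : Carries Q Q' t) :
    ↥(Cfsg.isometryGroup F Q) ≃* ↥(Cfsg.isometryGroup F Q') where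
  toFun g := ⟨t * (g : GL ι F) * t⁻¹, conj_mem_iso ht g.2⟩
  invFun g := ⟨t⁻¹ * (g : GL ι F) * t, by
    have := conj_mem_iso (carries_inv ht) g.2
    rwa [inv_inv] at this⟩
  left_inv g := by
    apply Subtype.ext
    show t⁻¹ * (t * (g : GL ι F) * t⁻¹) * t = g
    group
  right_inv g := by
    apply Subtype.ext
    show t * (t⁻¹ * (g : GL ι F) * t) * t⁻¹ = g
    group
  map_mul' g h := by
    apply Subtype.ext
    show t * ((g : GL ι F) * (h : GL ι F)) * t⁻¹ = t * (g : GL ι F) * t⁻¹ * (t * (h : GL ι F) * t⁻¹)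
    group

theorem isoConj_coe {Q Q' : (ι → F) → F} {t : GL ι F} (ht : Carries Q Q' t)
    (g : ↥(Cfsg.isometryGroup F Q)) :
    ((isoConj ht g : ↥(Cfsg.isometryGroup F Q')) : GL ι F) = t * (g : GL ι F) * t⁻¹ := rfl

/-- the isomorphism `PΩ(Q) ≃* PΩ(Q')` induced by `t`. -/
noncomputable def psiT {Q Q' : (ι → F) → F} {t : GL ι F} (ht : Carries Q Q' t) :
    Cfsg.POmega F Q ≃* Cfsg.POmega F Q' :=
  centerQuotEquiv (commEquiv (isoConj ht))

theorem psiT_mk {Q Q' : (ι → F) → F} {t : GL ι F} (ht : Carries Q Q' t)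
    (s : ↥(Cfsg.Omega F Q)) :
    psiT ht (QuotientGroup.mk s) = QuotientGroup.mk (commEquiv (isoConj ht) s) := rfl

theorem psiT_mk_coe {Q Q' : (ι → F) → F} {t : GL ι F} (ht : Carries Q Q' t)
    (s : ↥(Cfsg.Omega F Q)) :
    (((commEquiv (isoConj ht) s : ↥(Cfsg.Omega F Q')) : ↥(Cfsg.isometryGroup F Q')) : GL ι F) =
      t * ((s : ↥(Cfsg.isometryGroup F Q)) : GL ι F) * t⁻¹ := rfl

/-- transport of automorphisms along `psiT`. -/
noncomputable def PsiT {Q Q' : (ι → F) → F} {t : GL ι F} (ht : Carries Q Q' t) :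
    MulAut (Cfsg.POmega F Q) ≃* MulAut (Cfsg.POmega F Q') := autTr (psiT ht)

theorem PsiT_apply {Q Q' : (ι → F) → F} {t : GL ι F} (ht : Carries Q Q' t)
    (β : MulAut (Cfsg.POmega F Q)) (x : Cfsg.POmega F Q) :
    PsiT ht β (psiT ht x) = psiT ht (β x) := autTr_apply _ _ _

theorem PsiT_cHom {Q Q' : (ι → F) → F} {t : GL ι F} (ht : Carries Q Q' t) (g : ↥(GO Q)) :
    PsiT ht (cHom Q g) = cHom Q' ⟨t * (g : GL ι F) * t⁻¹, conj_mem_GO ht g.2⟩ := by
  apply MulEquiv.ext
  intro y
  obtain ⟨x, rfl⟩ := (psiT ht).surjective y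
  rw [PsiT_apply]
  induction x using QuotientGroup.induction_on with
  | H s =>
    rw [cHom_mk, psiT_mk, psiT_mk, cHom_mk]
    congr 1
    apply Subtype.ext
    apply Subtype.ext
    rw [psiT_mk_coe, cHom_mk_coe, cHom_mk_coe, psiT_mk_coe]
    show t * ((g : GL ι F) * _ * (g : GL ι F)⁻¹) * t⁻¹ =
      t * (g : GL ι F) * t⁻¹ * (t * _ * t⁻¹) * (t * (g : GL ι F) * t⁻¹)⁻¹
    group

end transport

end Cfsg.Agent.Lib.Helper16.OM
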