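import Mathlib
import Cfsg.Agent.Lib.Helper16.PSC9
import Cfsg.Agent.S0791

set_option autoImplicit false
set_option linter.unusedSectionVars false
set_option linter.unusedVariables false
set_option linter.unusedSimpArgs false

namespace Cfsg.Agent.Lib.Helper16.PSC

open Module Matrix Cfsg Cfsg.Agent.Lib.helper6 Cfsg.Agent.Lib.Helper16 Cfsg.Agent.Lib.Lead.OA
  Cfsg.Agent.Lib.Lead.OAP Cfsg.Agent.Lib.Lead.OAM

section general

variable {ι : Type} [Fintype ι] [DecidableEq ι] {F : Type*} [Field F] [Fintype F]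
variable (Q : QuadraticForm F (ι → F))

/-- the group generated by the automorphisms induced by the similarities satisfying a predicate
equivalent to `eps = 1` -/
theorem autSub_pred_eq (m : ℕ) (hne : ∃ v, Q v ≠ 0) (P : Matrix ι ι F → Prop)
    (hP : ∀ g : ↥(GOq Q), P (((g : GL ι F)) : Matrix ι ι F) ↔ eps Q hne m g = 1) :
    Cfsg.autSubgroupOf (fun β : Cfsg.POmega F (⇑Q : (ι → F) → F) ≃* Cfsg.POmega F (⇑Q : (ι → F) → F) =>
      ∃ g : GL ι F, g ∈ Cfsg.Geo.quadSimilarityGroup (F := F) (⇑Q : (ι → F) → F) ∧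
        P (g : Matrix ι ι F) ∧
        Cfsg.IsInducedBySemilinearPOmega (⇑Q : (ι → F) → F) g (RingEquiv.refl F) β) =
      (eps Q hne m).ker.map (cHom (⇑Q : (ι → F) → F)) := by
  set S : Subgroup (GL ι F) := (eps Q hne m).ker.map (GOq Q).subtype with hS
  have hSle : S ≤ GO (⇑Q : (ι → F) → F) := by
    rintro _ ⟨g, -, rfl⟩
    exact g.2
  have hSmem : ∀ g : GL ι F, g ∈ S ↔ g ∈ Cfsg.Geo.quadSimilarityGroup (F := F) (⇑Q : (ι → F) → F) ∧
      P (g : Matrix ι ι F) := by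
    intro g
    constructor
    · rintro ⟨g', hg', rfl⟩
      exact ⟨g'.2, (hP g').mpr (MonoidHom.mem_ker.mp hg')⟩
    · rintro ⟨hg, hpsc⟩
      exact ⟨⟨g, hg⟩, MonoidHom.mem_ker.mpr ((hP ⟨g, hg⟩).mp hpsc), rfl⟩
  have h1 := autSub_eq (⇑Q : (ι → F) → F) S hSle
  have h3 : S.subgroupOf (GO (⇑Q : (ι → F) → F)) = (eps Q hne m).ker := by
    rw [hS]
    exact Subgroup.comap_map_eq_self_of_injective (Subgroup.subtype_injective _) _
  rw [h3] at h1
  rw [← h1]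
  congr 1
  funext β
  apply propext
  constructor
  · rintro ⟨g, hg, hpsc, hind⟩
    exact ⟨g, (hSmem g).mpr ⟨hg, hpsc⟩, hind⟩
  · rintro ⟨g, hgS, hind⟩
    obtain ⟨hg, hpsc⟩ := (hSmem g).mp hgS
    exact ⟨g, hg, hpsc, hind⟩

end general

section minus

universe u

variable {F : Type u} [Field F] [Fintype F] {m : ℕ} (a b : F)

theorem inndiagMinus_eq (hodd : Odd (Fintype.card F))
    (hab : ∀ z₁ z₂ : F, z₁ ^ 2 + a * z₁ * z₂ + b * z₂ ^ 2 = 0 → z₁ = 0 ∧ z₂ = 0)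
    (hne : ∃ v, qfMinus m F a b v ≠ 0) :
    Cfsg.inndiagPOmegaMinus m F a b =
      (eps (qfMinus m F a b) hne (m + 1)).ker.map (cHom (Cfsg.quadFormMinus m F a b)) := by
  apply autSub_pred_eq (qfMinus m F a b) (m + 1) hne
    (fun g => Cfsg.PreservesSingularClassesMinus m a b g)
  intro g
  rw [eps_eq_one_iff]
  exact psc_minus_iff a b hodd hab _ (mult (qfMinus m F a b) g : F) (Units.ne_zero _)
    (mult_spec (qfMinus m F a b) g)

set_option maxHeartbeats 4000000 in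
theorem S2729_aux (hodd : Odd (Fintype.card F)) (hm : 3 ≤ m)
    (hab : ∀ z₁ z₂ : F, z₁ ^ 2 + a * z₁ * z₂ + b * z₂ ^ 2 = 0 → z₁ = 0 ∧ z₂ = 0) :
    ((Even m ∧ Fintype.card F % 4 = 3) → (∃ φ : ↥(Cfsg.inndiagPOmegaMinus m F a b) →* Multiplicative (ZMod 4), Function.Surjective φ ∧ φ.ker = (Cfsg.Inn (Cfsg.POmega F (Cfsg.quadFormMinus m F a b))).subgroupOf (Cfsg.inndiagPOmegaMinus m F a b))) ∧ (¬ (Even m ∧ Fintype.card F % 4 = 3) → (∃ φ : ↥(Cfsg.inndiagPOmegaMinus m F a b) →* Multiplicative (ZMod 2), Function.Surjective φ ∧ φ.ker = (Cfsg.Inn (Cfsg.POmega F (Cfsg.quadFormMinus m F a b))).subgroupOf (Cfsg.inndiagPOmegaMinus m F a b))) := by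
  have h2 := two_ne_zero_of_odd hodd
  have hQ := Cfsg.Agent.S0791.nondeg_minus m a b hab
  have hcard := card_minus (m := m)
  have hn : 4 ≤ Fintype.card ((Fin m ⊕ Fin m) ⊕ Fin 2) := by rw [hcard]; omega
  have hne := exists_ne_zero (qfMinus m F a b) h2 hQ (by omega)
  obtain ⟨δ, hδ0, hδ⟩ := Cfsg.Agent.Lib.Lead.OI.exists_nonsquare (F := F) h2
  obtain ⟨w₁, w₂, hc⟩ := exists_norm_binary a b h2 hab δ hδ0
  set c : Fˣ := Units.mk0 δ hδ0 with hcdef
  have hc' : w₁ ^ 2 + a * w₁ * w₂ + b * w₂ ^ 2 = ((c : Fˣ) : F) := hc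
  set g₁ : ↥(GOq (qfMinus m F a b)) := ⟨dMinus a b c w₁ w₂ hc', dMinus_mem a b c w₁ w₂ hc'⟩
    with hg₁def
  have hg₁ : ¬ IsSquare ((mult (qfMinus m F a b) g₁ : Fˣ) : F) := by
    rw [hg₁def, mult_dMinus a b hne]; exact hδ
  have hg₁e : eps (qfMinus m F a b) hne (m + 1) g₁ = 1 := eps_dMinus a b hne c w₁ w₂ hc'
  have hiff0 := Cfsg.Agent.S0791.result (F := F) rfl hodd (m + 1) (by omega) a b hab
  have hiff : (∃ g : ↥(Cfsg.isometryGroup F (Cfsg.quadFormMinus m F a b)),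
      g ∈ Cfsg.Omega F (Cfsg.quadFormMinus m F a b) ∧
      ((g : Matrix.GeneralLinearGroup ((Fin m ⊕ Fin m) ⊕ Fin 2) F) :
        Matrix ((Fin m ⊕ Fin m) ⊕ Fin 2) ((Fin m ⊕ Fin m) ⊕ Fin 2) F) = -1) ↔
      Fintype.card F ^ (m + 1) % 4 = 3 := hiff0
  have hq : Fintype.card F % 2 = 1 := Nat.odd_iff.mp hodd
  have har := pow_mod_four_iff3 (Fintype.card F) (m + 1) hq
  have hpar : Odd (m + 1) ↔ Even m := by
    rw [Nat.odd_add_one, Nat.not_odd_iff_even]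
  rw [inndiagMinus_eq a b hodd hab hne]
  constructor
  · intro hcase
    have hneg := hiff.mpr (har.mpr ⟨hpar.mpr hcase.1, hcase.2⟩)
    obtain ⟨χ, κ, hχ⟩ := spin_char_formula h2 (qfMinus m F a b)
    obtain ⟨τ, hτd, hτχ, hτg⟩ := exists_tMinus a b h2 χ κ hχ c w₁ w₂ hc'
    have hsc : sqSign (c : F) = -1 := sqSign_neg_one_of_not hδ
    rw [hsc, (hpar.mpr hcase.1).neg_one_pow] at hτχ
    apply inndiag_C4 (qfMinus m F a b) h2 hQ hn (m + 1) hcard hne g₁ hg₁ hg₁e hneg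
    intro z s hs heq
    rw [hτg] at heq
    have h1 := congrArg (cHom (⇑(qfMinus m F a b))) heq
    rw [cHom_scal_mul _ h2 hQ hn, cHom_scal_mul _ h2 hQ hn] at h1
    have h3 : c0 (qfMinus m F a b) τ ∈ Cfsg.Inn (Cfsg.POmega F (⇑(qfMinus m F a b))) := by
      rw [h1, inn_eq']
      exact ⟨s, hs, rfl⟩
    have h4 := mem_omega_of_inn (qfMinus m F a b) h2 hQ hn hneg τ h3
    have h5 := omega_le_ker (⇑(qfMinus m F a b)) χ h4
    rw [MonoidHom.mem_ker, hτχ] at h5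
    exact absurd h5 (by decide)
  · intro hcase
    have hno : ¬ ∃ g : ↥(Cfsg.isometryGroup F (Cfsg.quadFormMinus m F a b)),
        g ∈ Cfsg.Omega F (Cfsg.quadFormMinus m F a b) ∧
        ((g : Matrix.GeneralLinearGroup ((Fin m ⊕ Fin m) ⊕ Fin 2) F) :
          Matrix ((Fin m ⊕ Fin m) ⊕ Fin 2) ((Fin m ⊕ Fin m) ⊕ Fin 2) F) = -1 := by
      intro hneg
      have := har.mp (hiff.mp hneg)
      exact hcase ⟨hpar.mp this.1, this.2⟩
    exact inndiag_C2 (qfMinus m F a b) h2 hQ hn (m + 1) hcard hne g₁ hg₁ hg₁e hno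

end minus

end Cfsg.Agent.Lib.Helper16.PSC
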