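import Mathlib
import Cfsg.Agent.Lib.Helper16.OM9
import Cfsg.Agent.Lib.Helper16.PSC10
import Cfsg.Agent.Lib.Helper16.OA48

set_option autoImplicit false
set_option linter.unusedSectionVars false
set_option linter.unusedVariables false

/-! Lang-type results for even-dimensional orthogonal groups, part 10: in odd characteristic the
group `Inndiag` of a minus-type form is carried to `Inndiag` by every isomorphism. -/

namespace Cfsg.Agent.Lib.Helper16.OM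

open Matrix Module Cfsg.Agent.Lib.Lead Cfsg.Agent.Lib.Lead.OA Cfsg.Agent.Lib.Helper16
  Cfsg.Agent.Lib.Helper16.OA Cfsg.Agent.Lib.Helper16.OL Cfsg.Agent.Lib.Helper16.PSC

universe u

section oddchar

variable {ι : Type} [Fintype ι] [DecidableEq ι] {F : Type u} [Field F] [Fintype F]

theorem mult_conj (Q Q' : QuadraticForm F (ι → F)) {t : GL ι F}
    (ht : Carries (⇑Q : (ι → F) → F) (⇑Q' : (ι → F) → F) t)
    (hne' : ∃ v, Q' v ≠ 0) (g : ↥(GOq Q)) :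
    mult Q' ⟨t * (g : GL ι F) * t⁻¹, conj_mem_GO ht g.2⟩ = mult Q g := by
  apply mult_unique Q' hne'
  intro v
  show Q' (((t * (g : GL ι F) * t⁻¹ : GL ι F) : Matrix ι ι F) *ᵥ v) = _
  rw [Units.val_mul, Units.val_mul, ← Matrix.mulVec_mulVec, ← Matrix.mulVec_mulVec]
  have h1 := ht (((g : GL ι F) : Matrix ι ι F) *ᵥ (((t⁻¹ : GL ι F) : Matrix ι ι F) *ᵥ v))
  have h2 := mult_spec Q g (((t⁻¹ : GL ι F) : Matrix ι ι F) *ᵥ v)
  have h3 := carries_inv ht v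
  rw [h1, h2, h3]

theorem eps_conj (Q Q' : QuadraticForm F (ι → F)) {t : GL ι F}
    (ht : Carries (⇑Q : (ι → F) → F) (⇑Q' : (ι → F) → F) t)
    (hne : ∃ v, Q v ≠ 0) (hne' : ∃ v, Q' v ≠ 0) (k : ℕ) (g : ↥(GOq Q)) :
    eps Q' hne' k ⟨t * (g : GL ι F) * t⁻¹, conj_mem_GO ht g.2⟩ = eps Q hne k g := by
  have hdet : detGO Q' ⟨t * (g : GL ι F) * t⁻¹, conj_mem_GO ht g.2⟩ = detGO Q g := by
    apply Units.ext
    rw [detGO_coe, detGO_coe]
    show ((t * (g : GL ι F) * t⁻¹ : GL ι F) : Matrix ι ι F).det = _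
    rw [Units.val_mul, Units.val_mul, Matrix.det_mul, Matrix.det_mul, mul_comm, ← mul_assoc,
      ← Matrix.det_mul, ← Units.val_mul, inv_mul_cancel, Units.val_one, Matrix.det_one, one_mul]
  rw [eps_apply, eps_apply, mult_conj Q Q' ht hne', hdet]

theorem epsKer_PsiT_iff (Q Q' : QuadraticForm F (ι → F)) {t : GL ι F}
    (ht : Carries (⇑Q : (ι → F) → F) (⇑Q' : (ι → F) → F) t)
    (hne : ∃ v, Q v ≠ 0) (hne' : ∃ v, Q' v ≠ 0) (k : ℕ)
    (β : MulAut (Cfsg.POmega F (⇑Q : (ι → F) → F))) :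
    β ∈ (eps Q hne k).ker.map (cHom (⇑Q : (ι → F) → F)) ↔
      autTr (psiT ht) β ∈ (eps Q' hne' k).ker.map (cHom (⇑Q' : (ι → F) → F)) := by
  constructor
  · rintro ⟨g, hg, rfl⟩
    refine ⟨⟨t * (g : GL ι F) * t⁻¹, conj_mem_GO ht g.2⟩, ?_, (PsiT_cHom ht g).symm⟩
    have hg1 : eps Q hne k g = 1 := MonoidHom.mem_ker.mp hg
    apply MonoidHom.mem_ker.mpr
    rw [eps_conj Q Q' ht hne hne', hg1]
  · rintro ⟨g', hg', hβ⟩
    have hmem : t⁻¹ * (g' : GL ι F) * t ∈ GO (⇑Q : (ι → F) → F) := by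
      have := conj_mem_GO (carries_inv ht) g'.2
      rwa [inv_inv] at this
    set g : ↥(GOq Q) := ⟨t⁻¹ * (g' : GL ι F) * t, hmem⟩ with hgdef
    have e1 : (⟨t * (g : GL ι F) * t⁻¹, conj_mem_GO ht g.2⟩ : ↥(GOq Q')) = g' := by
      apply Subtype.ext
      show t * (t⁻¹ * (g' : GL ι F) * t) * t⁻¹ = g'
      group
    refine ⟨g, ?_, ?_⟩
    · have hg1 : eps Q' hne' k g' = 1 := MonoidHom.mem_ker.mp hg'
      apply MonoidHom.mem_ker.mpr
      rw [← eps_conj Q Q' ht hne hne', e1, hg1]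
    · apply (autTr (psiT ht)).injective
      have := PsiT_cHom ht g
      rw [e1] at this
      rw [← hβ]
      exact this

theorem epsKer_normal (Q : QuadraticForm F (ι → F)) (hne : ∃ v, Q v ≠ 0) (k : ℕ)
    (hsurj : Function.Surjective (ssHom (⇑Q : (ι → F) → F))) :
    ((eps Q hne k).ker.map (cHom (⇑Q : (ι → F) → F))).Normal := by
  constructor
  intro n hn α
  obtain ⟨z, rfl⟩ := hsurj α
  obtain ⟨h, hh, rfl⟩ := hn
  rw [ssHom_conj_cHom]
  set h' : ↥(GOq Q) := ⟨ssGL ι F (z : GammaL ι F) h, ssGL_mem_GO z.2 h.2⟩ with hh'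
  have hmult' : mult Q h' = Units.map ((z : GammaL ι F).right : F →* F) (mult Q h) :=
    mult_unique Q hne h' _ (fun v => ss_conj_mult z.2 _ (mult_spec Q h) v)
  have hdet' : detGO Q h' = Units.map ((z : GammaL ι F).right : F →* F) (detGO Q h) := by
    apply Units.ext
    rw [detGO_coe]
    show ((ssGL ι F (z : GammaL ι F) h : GL ι F) : Matrix ι ι F).det = (z : GammaL ι F).right _
    rw [ssGL_apply, Units.val_mul, Units.val_mul, Matrix.det_mul, Matrix.det_mul, det_glMapEquiv,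
      detGO_coe, mul_comm, ← mul_assoc, ← Matrix.det_mul, ← Units.val_mul, inv_mul_cancel,
      Units.val_one, Matrix.det_one, one_mul]
  have heps' : eps Q hne k h' = Units.map ((z : GammaL ι F).right : F →* F) (eps Q hne k h) := by
    rw [eps_apply, eps_apply, hmult', hdet', map_mul, map_inv, map_pow]
  refine ⟨h', ?_, rfl⟩
  have hh1 : eps Q hne k h = 1 := MonoidHom.mem_ker.mp hh
  apply MonoidHom.mem_ker.mpr
  rw [heps', hh1, map_one]

end oddchar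

section minus

variable {F : Type u} [Field F] [Fintype F] {m : ℕ}

theorem exists_carrier_minus (a b a' b' : F)
    (hab : ∀ z₁ z₂ : F, z₁ ^ 2 + a * z₁ * z₂ + b * z₂ ^ 2 = 0 → z₁ = 0 ∧ z₂ = 0)
    (hab' : ∀ z₁ z₂ : F, z₁ ^ 2 + a' * z₁ * z₂ + b' * z₂ ^ 2 = 0 → z₁ = 0 ∧ z₂ = 0) :
    ∃ t : GL ((Fin m ⊕ Fin m) ⊕ Fin 2) F,
      Carries (⇑(qfMinus m F a b) : ((Fin m ⊕ Fin m) ⊕ Fin 2 → F) → F)
        (⇑(qfMinus m F a' b') : ((Fin m ⊕ Fin m) ⊕ Fin 2 → F) → F) t := by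
  obtain ⟨T, hT⟩ := OSemi.minus_change m a b a' b' hab hab'
  refine ⟨linEquivToGL T, fun v => ?_⟩
  rw [linEquivToGL_mulVec]
  exact hT v

theorem inndiag_autTr_iff_odd (hodd : Odd (Fintype.card F)) (hm : 3 ≤ m) (a b a' b' : F)
    (hab : ∀ z₁ z₂ : F, z₁ ^ 2 + a * z₁ * z₂ + b * z₂ ^ 2 = 0 → z₁ = 0 ∧ z₂ = 0)
    (hab' : ∀ z₁ z₂ : F, z₁ ^ 2 + a' * z₁ * z₂ + b' * z₂ ^ 2 = 0 → z₁ = 0 ∧ z₂ = 0)
    (ψ : Cfsg.POmega F (Cfsg.quadFormMinus m F a b) ≃* Cfsg.POmega F (Cfsg.quadFormMinus m F a' b'))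
    (β : MulAut (Cfsg.POmega F (Cfsg.quadFormMinus m F a b))) :
    β ∈ Cfsg.inndiagPOmegaMinus m F a b ↔ autTr ψ β ∈ Cfsg.inndiagPOmegaMinus m F a' b' := by
  have hne := minus_exists_ne_zero (F := F) m a b
  have hne' := minus_exists_ne_zero (F := F) m a' b'
  obtain ⟨hQ', hn', hT'⟩ := minus_hyps m hm a' b' hab'
  obtain ⟨t, ht⟩ := exists_carrier_minus (m := m) a b a' b' hab hab'
  rw [inndiagMinus_eq a b hodd hab hne, inndiagMinus_eq a' b' hodd hab' hne']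
  exact autTr_mem_iff (psiT ht) ψ _ _
    (epsKer_normal (qfMinus m F a' b') hne' (m + 1) (ssHom_surjective _ hQ' hn' hT'))
    (epsKer_PsiT_iff (qfMinus m F a b) (qfMinus m F a' b') ht hne hne' (m + 1)) β

end minus

end Cfsg.Agent.Lib.Helper16.OM
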