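import Mathlib
import Cfsg.Agent.Lib.Helper16.OM10
import Cfsg.Agent.Lib.Helper16.OA40
import Cfsg.Agent.Lib.Helper16.Char2J

set_option autoImplicit false
set_option linter.unusedSectionVars false
set_option linter.unusedVariables false

/-! Lang-type results for even-dimensional orthogonal groups, part 11: in characteristic two the
group `Inndiag` of a minus-type form is the group of inner automorphisms. -/

namespace Cfsg.Agent.Lib.Helper16.OM

open Matrix Module Cfsg.Agent.Lib.Lead Cfsg.Agent.Lib.Lead.OA Cfsg.Agent.Lib.Helper16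
  Cfsg.Agent.Lib.Helper16.OA Cfsg.Agent.Lib.Helper16.OL Cfsg.Agent.Lib.Helper16.PSC

universe u

section gen

variable {ι : Type} [Fintype ι] [DecidableEq ι] {K : Type u} [Field K]

theorem psc_smul (Q : (ι → K) → K) (c : K) (hc : c ≠ 0) (g : Matrix ι ι K) :
    Cfsg.PreservesSingularClasses Q (c • g) ↔ Cfsg.PreservesSingularClasses Q g := by
  have h1 : ∀ U : Submodule K (ι → K), Cfsg.imageSubmodule (c • g) U = Cfsg.imageSubmodule g U := by
    intro U
    unfold Cfsg.imageSubmodule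
    rw [map_smul, Submodule.map_smul _ _ _ hc]
  unfold Cfsg.PreservesSingularClasses
  simp only [h1]

end gen

section minus

variable {F : Type u} [Field F] [Fintype F] {m : ℕ} (a b : F)

theorem pscMinus_smul (c : F) (hc : c ≠ 0)
    (g : Matrix ((Fin m ⊕ Fin m) ⊕ Fin 2) ((Fin m ⊕ Fin m) ⊕ Fin 2) F) :
    Cfsg.PreservesSingularClassesMinus m a b (c • g) ↔
      Cfsg.PreservesSingularClassesMinus m a b g := by
  unfold Cfsg.PreservesSingularClassesMinus
  constructor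
  · rintro ⟨K, iK, iA, hfr, h⟩
    refine ⟨K, iK, iA, hfr, ?_⟩
    have e : (c • g).map (algebraMap F K) = algebraMap F K c • g.map (algebraMap F K) := by
      ext i j
      simp [Matrix.map_apply, Matrix.smul_apply]
    rw [e] at h
    exact (psc_smul _ _ (fun h0 => hc ((algebraMap F K).injective (by rw [h0, map_zero]))) _).1 h
  · rintro ⟨K, iK, iA, hfr, h⟩
    refine ⟨K, iK, iA, hfr, ?_⟩
    have e : (c • g).map (algebraMap F K) = algebraMap F K c • g.map (algebraMap F K) := by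
      ext i j
      simp [Matrix.map_apply, Matrix.smul_apply]
    rw [e]
    exact (psc_smul _ _ (fun h0 => hc ((algebraMap F K).injective (by rw [h0, map_zero]))) _).2 h

theorem exists_quadratic_ext
    (hab : ∀ z₁ z₂ : F, z₁ ^ 2 + a * z₁ * z₂ + b * z₂ ^ 2 = 0 → z₁ = 0 ∧ z₂ = 0) :
    ∃ (K : Type u) (_ : Field K) (_ : Algebra F K), Module.finrank F K = 2 := by
  set p : Polynomial F := Polynomial.C 1 * Polynomial.X ^ 2 + Polynomial.C a * Polynomial.X +
    Polynomial.C b with hp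
  have hdeg : p.natDegree = 2 := Polynomial.natDegree_quadratic one_ne_zero
  have hirr : Irreducible p := by
    apply Polynomial.irreducible_of_degree_le_three_of_not_isRoot
    · rw [hdeg]; decide
    · intro x hx
      have h1 : x ^ 2 + a * x * 1 + b * 1 ^ 2 = 0 := by
        have : p.eval x = 0 := hx
        rw [hp] at this
        simp only [Polynomial.eval_add, Polynomial.eval_mul, Polynomial.eval_C,
          Polynomial.eval_pow, Polynomial.eval_X] at this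
        linear_combination this
      exact one_ne_zero (hab x 1 h1).2
  have hfact : Fact (Irreducible p) := ⟨hirr⟩
  have hp0 : p ≠ 0 := hirr.ne_zero
  have hfr : Module.finrank F (AdjoinRoot p) = 2 := by
    rw [(AdjoinRoot.powerBasis hp0).finrank, AdjoinRoot.powerBasis_dim, hdeg]
  exact ⟨AdjoinRoot p, inferInstance, inferInstance, hfr⟩

theorem pscMinus_iff_omega [CharP F 2] (hm : 2 ≤ m)
    (hab : ∀ z₁ z₂ : F, z₁ ^ 2 + a * z₁ * z₂ + b * z₂ ^ 2 = 0 → z₁ = 0 ∧ z₂ = 0)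
    (g : ↥(Cfsg.isometryGroup F (⇑(qfMinus m F a b) : ((Fin m ⊕ Fin m) ⊕ Fin 2 → F) → F))) :
    Cfsg.PreservesSingularClassesMinus m a b
      ((g : GL ((Fin m ⊕ Fin m) ⊕ Fin 2) F) :
        Matrix ((Fin m ⊕ Fin m) ⊕ Fin 2) ((Fin m ⊕ Fin m) ⊕ Fin 2) F) ↔
      g ∈ Cfsg.Omega F (⇑(qfMinus m F a b) : ((Fin m ⊕ Fin m) ⊕ Fin 2 → F) → F) := by
  have hQ := OSemi.qfMinus_nondeg m a b hab
  have hcd : Fintype.card F ≠ 2 ∨ Fintype.card ((Fin m ⊕ Fin m) ⊕ Fin 2) ≠ 4 := by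
    right
    rw [card_minus_index]
    omega
  constructor
  · rintro ⟨K, iK, iA, hfr, hpsc⟩
    obtain ⟨χ, hχ1, hχ2⟩ := exists_classChar (m := m) a b (K := K) hfr hab
    exact (C2.ker_eq_omega (qfMinus m F a b) hQ hcd χ hχ1 g).1 ((hχ2 g).2 hpsc)
  · intro hg
    obtain ⟨K, iK, iA, hfr⟩ := exists_quadratic_ext a b hab
    obtain ⟨χ, hχ1, hχ2⟩ := exists_classChar (m := m) a b (K := K) hfr hab
    exact ⟨K, iK, iA, hfr, (hχ2 g).1 ((C2.ker_eq_omega (qfMinus m F a b) hQ hcd χ hχ1 g).2 hg)⟩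

theorem inndiagMinus_eq_inn_char2 [CharP F 2] (hm : 2 ≤ m)
    (hab : ∀ z₁ z₂ : F, z₁ ^ 2 + a * z₁ * z₂ + b * z₂ ^ 2 = 0 → z₁ = 0 ∧ z₂ = 0) :
    Cfsg.inndiagPOmegaMinus m F a b =
      Cfsg.Inn (Cfsg.POmega F (Cfsg.quadFormMinus m F a b)) := by
  have hne := minus_exists_ne_zero (F := F) m a b
  set Q := qfMinus m F a b with hQdef
  have hinn : Cfsg.Inn (Cfsg.POmega F (Cfsg.quadFormMinus m F a b)) =
      (Cfsg.Omega F (⇑Q : ((Fin m ⊕ Fin m) ⊕ Fin 2 → F) → F)).map (c0 Q) := inn_eq' Q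
  rw [hinn]
  apply le_antisymm
  · unfold Cfsg.inndiagPOmegaMinus Cfsg.autSubgroupOf
    refine (Subgroup.closure_le _).2 ?_
    rintro β ⟨g0, hg0, hpsc, hind⟩
    have hβ : β = cHom (⇑Q : ((Fin m ⊕ Fin m) ⊕ Fin 2 → F) → F) ⟨g0, hg0⟩ :=
      (induced_iff _ g0 hg0 β).1 hind
    set g : ↥(GOq Q) := ⟨g0, hg0⟩ with hg
    obtain ⟨a0, ha0⟩ := FiniteField.isSquare_of_char_two (ringChar.eq F 2) ((mult Q g : Fˣ) : F)
    have ha00 : a0 ≠ 0 := by
      rintro rfl
      rw [mul_zero] at ha0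
      exact Units.ne_zero _ ha0
    have ha : Units.mk0 a0 ha00 * Units.mk0 a0 ha00 = mult Q g := by
      apply Units.ext
      rw [Units.val_mul, Units.val_mk0, ha0]
    set c : Fˣ := Units.mk0 a0 ha00
    have hmult : mult Q (scalGO Q c⁻¹ * g) = 1 := by
      have h1 : multHom Q hne (scalGO Q c⁻¹ * g) =
          multHom Q hne (scalGO Q c⁻¹) * multHom Q hne g := map_mul _ _ _
      rw [multHom_apply, multHom_apply, multHom_apply, mult_scalGO Q hne, ← ha] at h1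
      rw [h1]
      group
    have hiso := (mult_eq_one_iff Q hne _).1 hmult
    have hscal : cHom (⇑Q : ((Fin m ⊕ Fin m) ⊕ Fin 2 → F) → F) (scalGO Q c⁻¹) = 1 :=
      scalar_cHom_eq_one _ _ _ (scalGO_coe Q c⁻¹)
    have e1 : isoToGO Q ⟨_, hiso⟩ = scalGO Q c⁻¹ * g := Subtype.ext rfl
    have hmat : (((scalGO Q c⁻¹ * g : ↥(GOq Q)) : GL ((Fin m ⊕ Fin m) ⊕ Fin 2) F) :
        Matrix ((Fin m ⊕ Fin m) ⊕ Fin 2) ((Fin m ⊕ Fin m) ⊕ Fin 2) F) =
        ((c⁻¹ : Fˣ) : F) • (g0 : Matrix ((Fin m ⊕ Fin m) ⊕ Fin 2) ((Fin m ⊕ Fin m) ⊕ Fin 2) F) := by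
      rw [Subgroup.coe_mul, Units.val_mul, scalGO_coe, Matrix.smul_mul, Matrix.one_mul]
    refine ⟨⟨_, hiso⟩, ?_, ?_⟩
    · apply (pscMinus_iff_omega a b hm hab ⟨_, hiso⟩).1
      show Cfsg.PreservesSingularClassesMinus m a b
        (((scalGO Q c⁻¹ * g : ↥(GOq Q)) : GL ((Fin m ⊕ Fin m) ⊕ Fin 2) F) :
          Matrix ((Fin m ⊕ Fin m) ⊕ Fin 2) ((Fin m ⊕ Fin m) ⊕ Fin 2) F)
      rw [hmat]
      exact (pscMinus_smul a b _ (Units.ne_zero _) _).2 hpsc
    · rw [c0_apply, e1, map_mul, hscal, one_mul, hβ]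
  · rintro _ ⟨s, hs, rfl⟩
    unfold Cfsg.inndiagPOmegaMinus Cfsg.autSubgroupOf
    apply Subgroup.subset_closure
    refine ⟨(s : GL ((Fin m ⊕ Fin m) ⊕ Fin 2) F), (isoToGO Q s).2,
      (pscMinus_iff_omega a b hm hab s).2 hs, ?_⟩
    exact (induced_iff _ _ (isoToGO Q s).2 _).2 rfl

end minus

end Cfsg.Agent.Lib.Helper16.OM
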