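import Mathlib
import Cfsg.Agent.Lib.Helper16.OM11
import Cfsg.Agent.Lib.Helper16.SpinE1

set_option autoImplicit false
set_option linter.unusedSectionVars false
set_option linter.unusedVariables false

/-! Lang-type results for even-dimensional orthogonal groups, part 12: the coset theorem for the
standard field automorphism of a minus-type form with `σ`-fixed coefficients. -/

namespace Cfsg.Agent.Lib.Helper16.OM

open Matrix Module Cfsg.Agent.Lib.Lead Cfsg.Agent.Lib.Lead.OA Cfsg.Agent.Lib.Helper16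
  Cfsg.Agent.Lib.Helper16.OA Cfsg.Agent.Lib.Helper16.OL Cfsg.Agent.Lib.Helper16.PSC

universe u

section finish

theorem conj_finish {A : Type*} [Group A] (D : Subgroup A) (φ c ρ : A) (hcomm : ρ * φ = φ * ρ)
    (h : c ∈ D ∨ c * ρ ∈ D) : ∃ d ∈ D, c * φ * c⁻¹ = d * φ * d⁻¹ := by
  rcases h with h | h
  · exact ⟨c, h, rfl⟩
  · refine ⟨c * ρ, h, ?_⟩
    have h1 : ρ * φ * ρ⁻¹ = φ := by rw [hcomm, mul_inv_cancel_right]
    calc c * φ * c⁻¹ = c * (ρ * φ * ρ⁻¹) * c⁻¹ := by rw [h1]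
      _ = c * ρ * φ * (c * ρ)⁻¹ := by group

end finish

section refl

variable {ι : Type} [Fintype ι] [DecidableEq ι] {F : Type u} [Field F]

theorem refl_sigma_fixed (Q : QuadraticForm F (ι → F)) (σ : RingAut F)
    (hσ : SigCompat (⇑Q : (ι → F) → F) σ) (u : ι → F) (hu : Q u ≠ 0)
    (hfix : ∀ i, σ (u i) = u i) :
    glMapEquiv σ ((CDG.refl Q u hu : ↥(Cfsg.isometryGroup F (⇑Q : (ι → F) → F))) : GL ι F) =
      ((CDG.refl Q u hu : ↥(Cfsg.isometryGroup F (⇑Q : (ι → F) → F))) : GL ι F) := by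
  apply Units.ext
  rw [glMapEquiv_val, CDG.refl_coe]
  have h1 := reflectionMatrix_base ((σ : F ≃+* F) : F →+* F) Q Q hσ u
  have h2 : (fun i => ((σ : F ≃+* F) : F →+* F) (u i)) = u := funext hfix
  rw [h2] at h1
  exact h1

/-- the automorphism induced by a reflection in a `σ`-fixed vector commutes with the standard field
automorphism. -/
theorem cHom_refl_comm (Q : QuadraticForm F (ι → F)) (σ : RingAut F)
    (hσ : SigCompat (⇑Q : (ι → F) → F) σ) (u : ι → F) (hu : Q u ≠ 0)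
    (hfix : ∀ i, σ (u i) = u i) :
    cHom (⇑Q : (ι → F) → F) (isoToGO Q (CDG.refl Q u hu)) * phiS (⇑Q : (ι → F) → F) σ hσ =
      phiS (⇑Q : (ι → F) → F) σ hσ * cHom (⇑Q : (ι → F) → F) (isoToGO Q (CDG.refl Q u hu)) := by
  rw [phiS_mul_cHom]
  congr 2
  apply Subtype.ext
  exact (refl_sigma_fixed Q σ hσ u hu hfix).symm

theorem isoDet_CDGrefl (Q : QuadraticForm F (ι → F)) (u : ι → F) (hu : Q u ≠ 0) :
    isoDet (⇑Q : (ι → F) → F) (CDG.refl Q u hu) = -1 := by
  apply Units.ext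
  rw [isoDet_coe, CDG.refl_coe, refl_det Q u hu]
  simp

end refl

section dich

variable {ι : Type} [Fintype ι] [DecidableEq ι] {F : Type u} [Field F] [Fintype F]

/-- odd characteristic: the kernel of `eps` has index at most two, and reflections lie outside. -/
theorem eps_dichotomy (Q : QuadraticForm F (ι → F))
    (hQ : (QuadraticMap.polarBilin Q).Nondegenerate) (hne : ∃ v, Q v ≠ 0) (k : ℕ)
    (hcard : Fintype.card ι = 2 * k) (u : ι → F) (hu : Q u ≠ 0) (h : ↥(GOq Q)) :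
    cHom (⇑Q : (ι → F) → F) h ∈ (eps Q hne k).ker.map (cHom (⇑Q : (ι → F) → F)) ∨
      cHom (⇑Q : (ι → F) → F) h * cHom (⇑Q : (ι → F) → F) (isoToGO Q (CDG.refl Q u hu)) ∈
        (eps Q hne k).ker.map (cHom (⇑Q : (ι → F) → F)) := by
  by_cases h1 : eps Q hne k h = 1
  · left
    exact ⟨h, MonoidHom.mem_ker.mpr h1, rfl⟩
  · right
    refine ⟨h * isoToGO Q (CDG.refl Q u hu), MonoidHom.mem_ker.mpr ?_, map_mul _ _ _⟩
    have hsq := eps_sq Q hQ hne k hcard h
    have h2 : ((eps Q hne k h : Fˣ) : F) * ((eps Q hne k h : Fˣ) : F) = 1 := by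
      rw [← Units.val_mul, hsq, Units.val_one]
    have h3 : ((eps Q hne k h : Fˣ) : F) = -1 := by
      rcases mul_self_eq_one_iff.mp h2 with h4 | h4
      · exact absurd (Units.ext h4) h1
      · exact h4
    rw [map_mul, eps_iso, isoDet_CDGrefl]
    apply Units.ext
    rw [Units.val_mul, h3, Units.val_neg, Units.val_one]
    ring

/-- characteristic two: `Inn` has index at most two in the image of the similarity group, and
reflections lie outside. -/
theorem inn_dichotomy [CharP F 2] (Q : QuadraticForm F (ι → F))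
    (hQ : (QuadraticMap.polarBilin Q).Nondegenerate) (hne : ∃ v, Q v ≠ 0)
    (hcd : Fintype.card F ≠ 2 ∨ Fintype.card ι ≠ 4) (u : ι → F) (hu : Q u ≠ 0) (h : ↥(GOq Q)) :
    cHom (⇑Q : (ι → F) → F) h ∈ (Cfsg.Omega F (⇑Q : (ι → F) → F)).map (c0 Q) ∨
      cHom (⇑Q : (ι → F) → F) h * cHom (⇑Q : (ι → F) → F) (isoToGO Q (CDG.refl Q u hu)) ∈
        (Cfsg.Omega F (⇑Q : (ι → F) → F)).map (c0 Q) := by
  have hr : cHom (⇑Q : (ι → F) → F) h ∈ (c0 Q).range := by
    rw [← range_cHom_char2 Q hne]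
    exact ⟨h, rfl⟩
  obtain ⟨h₀, hh₀⟩ := hr
  rw [← hh₀]
  by_cases h1 : h₀ ∈ Cfsg.Omega F (⇑Q : (ι → F) → F)
  · left
    exact ⟨h₀, h1, rfl⟩
  · right
    refine ⟨h₀ * CDG.refl Q u hu, ?_, ?_⟩
    · have hd : C2.dickson Q hQ h₀ = -1 := by
        rcases Int.units_eq_one_or (C2.dickson Q hQ h₀) with h2 | h2
        · exact absurd ((C2.dickson_eq_one_iff Q hQ hcd h₀).1 h2) h1
        · exact h2
      apply (C2.dickson_eq_one_iff Q hQ hcd _).1
      rw [map_mul, hd, C2.dickson_refl]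
      rfl
    · rw [map_mul, c0_apply, c0_apply]

end dich

end Cfsg.Agent.Lib.Helper16.OM
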