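import Mathlib
import Cfsg.Agent.Lib.Helper16.OM12

set_option autoImplicit false
set_option linter.unusedSectionVars false
set_option linter.unusedVariables false

/-! Lang-type results for even-dimensional orthogonal groups, part 13: the coset theorem for field
automorphisms of minus-type orthogonal groups, all characteristics. -/

namespace Cfsg.Agent.Lib.Helper16.OM

open Matrix Module Cfsg.Agent.Lib.Lead Cfsg.Agent.Lib.Lead.OA Cfsg.Agent.Lib.Helper16
  Cfsg.Agent.Lib.Helper16.OA Cfsg.Agent.Lib.Helper16.OL Cfsg.Agent.Lib.Helper16.PSC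

universe u

section std

variable {F : Type u} [Field F] [Fintype F] {m : ℕ}

set_option maxHeartbeats 4000000 in
/-- the image of the similarity group contains `Inndiag`, with the dichotomy for reflections. -/
theorem inndiag_minus_data (hm : 3 ≤ m) (a b : F)
    (hab : ∀ z₁ z₂ : F, z₁ ^ 2 + a * z₁ * z₂ + b * z₂ ^ 2 = 0 → z₁ = 0 ∧ z₂ = 0)
    (u : (Fin m ⊕ Fin m) ⊕ Fin 2 → F) (hu : qfMinus m F a b u ≠ 0) :
    (∀ δ ∈ Cfsg.inndiagPOmegaMinus m F a b,
      ∃ g : ↥(GOq (qfMinus m F a b)), δ = cHom (Cfsg.quadFormMinus m F a b) g) ∧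
    ∀ h : ↥(GOq (qfMinus m F a b)),
      cHom (Cfsg.quadFormMinus m F a b) h ∈ Cfsg.inndiagPOmegaMinus m F a b ∨
      cHom (Cfsg.quadFormMinus m F a b) h *
        cHom (Cfsg.quadFormMinus m F a b) (isoToGO (qfMinus m F a b) (CDG.refl (qfMinus m F a b) u hu)) ∈
          Cfsg.inndiagPOmegaMinus m F a b := by
  have hne := minus_exists_ne_zero (F := F) m a b
  obtain ⟨hQ, hn, hT⟩ := minus_hyps m hm a b hab
  by_cases hch : ringChar F = 2
  · have hcp : CharP F 2 := by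
      rw [← hch]; exact ringChar.charP F
    have hD := inndiagMinus_eq_inn_char2 a b (by omega : 2 ≤ m) hab
    have hinn : Cfsg.Inn (Cfsg.POmega F (Cfsg.quadFormMinus m F a b)) =
        (Cfsg.Omega F (⇑(qfMinus m F a b) : ((Fin m ⊕ Fin m) ⊕ Fin 2 → F) → F)).map
          (c0 (qfMinus m F a b)) := inn_eq' (qfMinus m F a b)
    rw [hD, hinn]
    have hcd : Fintype.card F ≠ 2 ∨ Fintype.card ((Fin m ⊕ Fin m) ⊕ Fin 2) ≠ 4 := by
      right
      rw [card_minus_index]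
      omega
    refine ⟨?_, fun h => inn_dichotomy (qfMinus m F a b) hQ hne hcd u hu h⟩
    rintro δ ⟨s, hs, rfl⟩
    exact ⟨isoToGO _ s, rfl⟩
  · have hodd : Odd (Fintype.card F) := Nat.odd_iff.mpr (FiniteField.odd_card_of_char_ne_two hch)
    have hD := inndiagMinus_eq a b hodd hab hne
    rw [hD]
    refine ⟨?_, fun h => ?_⟩
    · rintro δ ⟨g, hg, rfl⟩
      exact ⟨g, rfl⟩
    · have := eps_dichotomy (qfMinus m F a b) hQ hne (m + 1) (card_minus_index m) u hu h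
      exact this

set_option maxHeartbeats 1600000 in
/-- the coset theorem for the standard field automorphism of a form with `σ`-fixed coefficients. -/
theorem lang_minus_std (hm : 3 ≤ m) (a b : F)
    (hab : ∀ z₁ z₂ : F, z₁ ^ 2 + a * z₁ * z₂ + b * z₂ ^ 2 = 0 → z₁ = 0 ∧ z₂ = 0)
    (σ : RingAut F) (ha : σ a = a) (hb : σ b = b)
    (hσ : SigCompat (Cfsg.quadFormMinus m F a b) σ) {r : ℕ} (hr : r.Prime)
    (hord : orderOf σ = r)
    (δ : MulAut (Cfsg.POmega F (Cfsg.quadFormMinus m F a b)))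
    (hδ : δ ∈ Cfsg.inndiagPOmegaMinus m F a b)
    (hpow : orderOf (δ * phiS (Cfsg.quadFormMinus m F a b) σ hσ) = r) :
    ∃ h ∈ Cfsg.inndiagPOmegaMinus m F a b,
      δ * phiS (Cfsg.quadFormMinus m F a b) σ hσ =
        h * phiS (Cfsg.quadFormMinus m F a b) σ hσ * h⁻¹ := by
  obtain ⟨hQ, hn, hT⟩ := minus_hyps m hm a b hab
  set u : (Fin m ⊕ Fin m) ⊕ Fin 2 → F := Pi.single (Sum.inr 0) 1 with hu_def
  have hu : qfMinus m F a b u ≠ 0 := by
    rw [qfMinus_coe]
    unfold Cfsg.quadFormMinus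
    simp [hu_def]
  have hufix : ∀ i, σ (u i) = u i := by
    intro i
    rw [hu_def]
    by_cases hi : i = Sum.inr 0
    · rw [hi, Pi.single_eq_same, map_one]
    · rw [Pi.single_eq_of_ne hi, map_zero]
  obtain ⟨hD1, hD2⟩ := inndiag_minus_data hm a b hab u hu
  obtain ⟨g, rfl⟩ := hD1 δ hδ
  have hr0 : 0 < r := hr.pos
  have hσr : σ ^ r = 1 := by rw [← hord]; exact pow_orderOf_eq_one σ
  have hinj : ∀ i j, i < r → j < r → σ ^ i = σ ^ j → i = j := by
    intro i j hi hj hij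
    rw [← hord] at hi hj
    exact pow_injOn_Iio_orderOf (Set.mem_Iio.mpr hi) (Set.mem_Iio.mpr hj) hij
  have hpow' : (cHom (Cfsg.quadFormMinus m F a b) g * phiS (Cfsg.quadFormMinus m F a b) σ hσ) ^ r
      = 1 := by
    rw [← hpow]; exact pow_orderOf_eq_one _
  obtain ⟨h, hh⟩ := field_conj_sig (qfMinus m F a b) hQ hn σ hσ r hord hr0
    (fun g hg hA => h90_GO_minus a b hab σ ha hb r hinj hr0 hσr g hg hA) g hpow'
  have hcomm := cHom_refl_comm (qfMinus m F a b) σ hσ u hu hufix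
  obtain ⟨d, hd, hd2⟩ := conj_finish (Cfsg.inndiagPOmegaMinus m F a b)
    (phiS (Cfsg.quadFormMinus m F a b) σ hσ) (cHom (Cfsg.quadFormMinus m F a b) h)
    (cHom (Cfsg.quadFormMinus m F a b) (isoToGO (qfMinus m F a b) (CDG.refl (qfMinus m F a b) u hu)))
    hcomm (hD2 h)
  exact ⟨d, hd, hh.trans hd2⟩

end std

section main

variable {F : Type u} [Field F] [Fintype F] {m : ℕ}

theorem inndiag_autTr_iff (hm : 3 ≤ m) (a b a' b' : F)
    (hab : ∀ z₁ z₂ : F, z₁ ^ 2 + a * z₁ * z₂ + b * z₂ ^ 2 = 0 → z₁ = 0 ∧ z₂ = 0)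
    (hab' : ∀ z₁ z₂ : F, z₁ ^ 2 + a' * z₁ * z₂ + b' * z₂ ^ 2 = 0 → z₁ = 0 ∧ z₂ = 0)
    (ψ : Cfsg.POmega F (Cfsg.quadFormMinus m F a b) ≃* Cfsg.POmega F (Cfsg.quadFormMinus m F a' b'))
    (β : MulAut (Cfsg.POmega F (Cfsg.quadFormMinus m F a b))) :
    β ∈ Cfsg.inndiagPOmegaMinus m F a b ↔ autTr ψ β ∈ Cfsg.inndiagPOmegaMinus m F a' b' := by
  by_cases hch : ringChar F = 2
  · have hcp : CharP F 2 := by
      rw [← hch]; exact ringChar.charP F
    rw [inndiagMinus_eq_inn_char2 a b (by omega : 2 ≤ m) hab,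
      inndiagMinus_eq_inn_char2 a' b' (by omega : 2 ≤ m) hab']
    exact autTr_inn_iff ψ β
  · have hodd : Odd (Fintype.card F) := Nat.odd_iff.mpr (FiniteField.odd_card_of_char_ne_two hch)
    exact inndiag_autTr_iff_odd hodd hm a b a' b' hab hab' ψ β

set_option maxHeartbeats 1600000 in
theorem S2737_aux (hm : 3 ≤ m) (a b : F)
    (hab : ∀ z₁ z₂ : F, z₁ ^ 2 + a * z₁ * z₂ + b * z₂ ^ 2 = 0 → z₁ = 0 ∧ z₂ = 0)
    (x δ : MulAut (Cfsg.POmega F (Cfsg.quadFormMinus m F a b)))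
    (hx : Cfsg.IsFieldAutClassPOmegaMinus m x) {r : ℕ} (hr : r.Prime) (hxr : orderOf x = r)
    (hδ : δ ∈ Cfsg.inndiagPOmegaMinus m F a b) :
    orderOf (δ * x) = r ↔ Cfsg.IsConjUnder (Cfsg.inndiagPOmegaMinus m F a b) x (δ * x) := by
  constructor
  · intro hpow
    obtain ⟨a', b', ψ, σ, hab', hσ1, ha', hb', hfa⟩ := hx
    have hσ' : SigCompat (Cfsg.quadFormMinus m F a' b') σ := sigCompat_minus σ a' b' ha' hb'
    have hφ : autTr ψ x = phiS (Cfsg.quadFormMinus m F a' b') σ hσ' :=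
      (isFieldAut_iff_phiS (Cfsg.quadFormMinus m F a' b') σ hσ' _).1 hfa
    obtain ⟨hQ', hn', hT'⟩ := minus_hyps m hm a' b' hab'
    have hordσ : orderOf (σ : RingAut F) = r := by
      have h1 := orderOf_phiS (qfMinus m F a' b') hQ' hn' σ hσ'
      have h2 : orderOf (autTr ψ x) = orderOf x := (autTr ψ).orderOf_eq x
      rw [hφ] at h2
      rw [← hxr, ← h2]
      exact h1.symm
    have hδ' : autTr ψ δ ∈ Cfsg.inndiagPOmegaMinus m F a' b' :=
      (inndiag_autTr_iff hm a b a' b' hab hab' ψ δ).1 hδ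
    have hpow' : orderOf (autTr ψ δ * phiS (Cfsg.quadFormMinus m F a' b') σ hσ') = r := by
      rw [← hφ, ← map_mul, (autTr ψ).orderOf_eq]
      exact hpow
    obtain ⟨h', hh', hconj⟩ := lang_minus_std hm a' b' hab' σ ha' hb' hσ' hr hordσ (autTr ψ δ) hδ' hpow'
    refine ⟨(autTr ψ).symm h', ?_, ?_⟩
    · rw [inndiag_autTr_iff hm a b a' b' hab hab' ψ, MulEquiv.apply_symm_apply]
      exact hh'
    · apply (autTr ψ).injective
      rw [map_mul, map_mul, map_mul, map_inv, MulEquiv.apply_symm_apply, hφ]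
      exact hconj
  · rintro ⟨h, hh, e⟩
    rw [e]
    have := (MulAut.conj h).orderOf_eq x
    rw [MulAut.conj_apply] at this
    rw [this, hxr]

end main

end Cfsg.Agent.Lib.Helper16.OM
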