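import Mathlib
import Cfsg.Agent.Lib.Helper16.OM13

set_option autoImplicit false
set_option linter.unusedSectionVars false
set_option linter.unusedVariables false

/-! Lang-type results for even-dimensional orthogonal groups, part 14: block matrices acting on the
last hyperbolic pair; the explicit isometry from a minus-type form to the plus-type form over a
field containing a root of the binary part. -/

namespace Cfsg.Agent.Lib.Helper16.OM

open Matrix Module Cfsg.Agent.Lib.Helper16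

universe u

section blk

variable {K : Type u} [Field K] {n : ℕ}

/-- the vector with value `p` at the last index and `c` elsewhere. -/
def lastVec (p c : K) : Fin (n + 1) → K := Fin.lastCases p (fun _ => c)

@[simp] theorem lastVec_last (p c : K) : lastVec (n := n) p c (Fin.last n) = p := by
  simp [lastVec]

@[simp] theorem lastVec_castSucc (p c : K) (i : Fin n) : lastVec (n := n) p c i.castSucc = c := by
  simp [lastVec]

/-- the matrix acting as `[[p, q], [p', q']]` on the last hyperbolic pair and trivially on the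
others. -/
def blk (p q p' q' : K) : Matrix (Fin (n + 1) ⊕ Fin (n + 1)) (Fin (n + 1) ⊕ Fin (n + 1)) K :=
  Matrix.fromBlocks (Matrix.diagonal (lastVec p 1)) (Matrix.diagonal (lastVec q 0))
    (Matrix.diagonal (lastVec p' 0)) (Matrix.diagonal (lastVec q' 1))

theorem blk_mul (p q p' q' a b a' b' : K) :
    blk (n := n) p q p' q' * blk a b a' b' =
      blk (p * a + q * a') (p * b + q * b') (p' * a + q' * a') (p' * b + q' * b') := by
  unfold blk
  rw [Matrix.fromBlocks_multiply]
  simp only [Matrix.diagonal_mul_diagonal, Matrix.diagonal_add]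
  congr 2 <;>
  · funext i
    refine Fin.lastCases ?_ (fun j => ?_) i <;> simp

theorem blk_one : blk (n := n) (1 : K) 0 0 1 = 1 := by
  unfold blk
  have h1 : lastVec (n := n) (1 : K) 1 = fun _ => 1 := by
    funext i
    refine Fin.lastCases ?_ (fun j => ?_) i <;> simp
  have h0 : lastVec (n := n) (0 : K) 0 = fun _ => 0 := by
    funext i
    refine Fin.lastCases ?_ (fun j => ?_) i <;> simp
  rw [h1, h0]
  have : Matrix.diagonal (fun _ : Fin (n + 1) => (0 : K)) = 0 := Matrix.diagonal_zero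
  rw [this]
  have h2 : Matrix.diagonal (fun _ : Fin (n + 1) => (1 : K)) = 1 := Matrix.diagonal_one
  rw [h2, Matrix.fromBlocks_one]

theorem blk_map (σ : K ≃+* K) (p q p' q' : K) :
    (blk (n := n) p q p' q').map σ = blk (σ p) (σ q) (σ p') (σ q') := by
  unfold blk
  rw [Matrix.fromBlocks_map]
  have h : ∀ x c : K, (Matrix.diagonal (lastVec (n := n) x c)).map σ =
      Matrix.diagonal (lastVec (σ x) (σ c)) := by
    intro x c
    rw [Matrix.diagonal_map (map_zero σ)]
    congr 1
    funext i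
    refine Fin.lastCases ?_ (fun j => ?_) i <;> simp
  rw [h, h, h, h, map_one, map_zero]

theorem blk_mulVec_inl (p q p' q' : K) (w : Fin (n + 1) ⊕ Fin (n + 1) → K) (i : Fin (n + 1)) :
    (blk p q p' q' *ᵥ w) (Sum.inl i) = lastVec p 1 i * w (Sum.inl i) + lastVec q 0 i * w (Sum.inr i) := by
  unfold blk
  rw [Matrix.fromBlocks_mulVec]
  simp [Matrix.mulVec_diagonal]

theorem blk_mulVec_inr (p q p' q' : K) (w : Fin (n + 1) ⊕ Fin (n + 1) → K) (i : Fin (n + 1)) :
    (blk p q p' q' *ᵥ w) (Sum.inr i) = lastVec p' 0 i * w (Sum.inl i) + lastVec q' 1 i * w (Sum.inr i) := by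
  unfold blk
  rw [Matrix.fromBlocks_mulVec]
  simp [Matrix.mulVec_diagonal]

theorem plus_blk (p q p' q' : K) (w : Fin (n + 1) ⊕ Fin (n + 1) → K) :
    Cfsg.quadFormPlus (n + 1) K (blk p q p' q' *ᵥ w) =
      ∑ i : Fin n, w (Sum.inl i.castSucc) * w (Sum.inr i.castSucc) +
        (p * w (Sum.inl (Fin.last n)) + q * w (Sum.inr (Fin.last n))) *
          (p' * w (Sum.inl (Fin.last n)) + q' * w (Sum.inr (Fin.last n))) := by
  unfold Cfsg.quadFormPlus
  rw [Fin.sum_univ_castSucc]
  simp only [blk_mulVec_inl, blk_mulVec_inr, lastVec_castSucc, lastVec_last, one_mul, zero_mul,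
    add_zero, zero_add]

/-- the reindexing from the coordinates of the minus-type form to those of the plus-type form. -/
def reIdx (n : ℕ) : (Fin n ⊕ Fin n) ⊕ Fin 2 ≃ Fin (n + 1) ⊕ Fin (n + 1) where
  toFun := Sum.elim (Sum.elim (fun i => Sum.inl i.castSucc) (fun i => Sum.inr i.castSucc))
    ![Sum.inl (Fin.last n), Sum.inr (Fin.last n)]
  invFun := Sum.elim (Fin.lastCases (Sum.inr 0) (fun i => Sum.inl (Sum.inl i)))
    (Fin.lastCases (Sum.inr 1) (fun i => Sum.inl (Sum.inr i)))
  left_inv := by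
    rintro ((i | i) | t)
    · simp
    · simp
    · fin_cases t <;> simp
  right_inv := by
    rintro (i | i)
    · refine Fin.lastCases ?_ (fun j => ?_) i <;> simp
    · refine Fin.lastCases ?_ (fun j => ?_) i <;> simp

theorem minus_reIdx (a b : K) (w : Fin (n + 1) ⊕ Fin (n + 1) → K) :
    Cfsg.quadFormMinus n K a b (w ∘ reIdx n) =
      ∑ i : Fin n, w (Sum.inl i.castSucc) * w (Sum.inr i.castSucc) +
        (w (Sum.inl (Fin.last n)) ^ 2 + a * w (Sum.inl (Fin.last n)) * w (Sum.inr (Fin.last n)) +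
          b * w (Sum.inr (Fin.last n)) ^ 2) := by
  unfold Cfsg.quadFormMinus
  simp [reIdx]

/-- over a field containing the two roots of the binary part, the minus-type form is carried to the
plus-type form by an explicit block matrix. -/
theorem plus_blk_root (ζ θ θ' : K) (hsum : θ + θ' = -1) (hprod : θ * θ' = ζ)
    (w : Fin (n + 1) ⊕ Fin (n + 1) → K) :
    Cfsg.quadFormPlus (n + 1) K (blk 1 (-θ) 1 (-θ') *ᵥ w) =
      Cfsg.quadFormMinus n K 1 ζ (w ∘ reIdx n) := by
  rw [plus_blk, minus_reIdx, ← hprod]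
  congr 1
  have h1 : θ' = -1 - θ := by linear_combination hsum
  rw [h1]
  ring

end blk

section swap

variable {K : Type u} [Field K] {n : ℕ}

/-- the swap of the two vectors of the last hyperbolic pair. -/
def swapLast (n : ℕ) (K : Type u) [Field K] :
    Matrix (Fin (n + 1) ⊕ Fin (n + 1)) (Fin (n + 1) ⊕ Fin (n + 1)) K := blk 0 1 1 0

theorem swapLast_mul_self : swapLast n K * swapLast n K = 1 := by
  unfold swapLast
  rw [blk_mul]
  simp only [mul_zero, mul_one, zero_add, add_zero]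
  exact blk_one

/-- the swap as an invertible matrix. -/
def swapGL (n : ℕ) (K : Type u) [Field K] : GL (Fin (n + 1) ⊕ Fin (n + 1)) K :=
  ⟨swapLast n K, swapLast n K, swapLast_mul_self, swapLast_mul_self⟩

theorem swapGL_val : ((swapGL n K : GL (Fin (n + 1) ⊕ Fin (n + 1)) K) :
    Matrix (Fin (n + 1) ⊕ Fin (n + 1)) (Fin (n + 1) ⊕ Fin (n + 1)) K) = swapLast n K := rfl

/-- the difference of the two vectors of the last hyperbolic pair. -/
def u0 (n : ℕ) (K : Type u) [Field K] : Fin (n + 1) ⊕ Fin (n + 1) → K :=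
  Pi.single (Sum.inl (Fin.last n)) 1 - Pi.single (Sum.inr (Fin.last n)) 1

theorem u0_inl_last : u0 n K (Sum.inl (Fin.last n)) = 1 := by simp [u0]
theorem u0_inr_last : u0 n K (Sum.inr (Fin.last n)) = -1 := by simp [u0]
theorem u0_inl_castSucc (i : Fin n) : u0 n K (Sum.inl i.castSucc) = 0 := by
  have : (Sum.inl i.castSucc : Fin (n + 1) ⊕ Fin (n + 1)) ≠ Sum.inl (Fin.last n) := by
    intro h
    exact (Fin.castSucc_lt_last i).ne (Sum.inl_injective h)
  simp [u0, this]
theorem u0_inr_castSucc (i : Fin n) : u0 n K (Sum.inr i.castSucc) = 0 := by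
  have : (Sum.inr i.castSucc : Fin (n + 1) ⊕ Fin (n + 1)) ≠ Sum.inr (Fin.last n) := by
    intro h
    exact (Fin.castSucc_lt_last i).ne (Sum.inr_injective h)
  simp [u0, this]

theorem Q_u0 : Cfsg.quadFormPlus (n + 1) K (u0 n K) = -1 := by
  unfold Cfsg.quadFormPlus
  rw [Fin.sum_univ_castSucc]
  simp only [u0_inl_castSucc, u0_inr_castSucc, u0_inl_last, u0_inr_last, mul_zero,
    Finset.sum_const_zero, zero_add, one_mul]

theorem polar_u0 (w : Fin (n + 1) ⊕ Fin (n + 1) → K) :
    QuadraticMap.polar (Cfsg.quadFormPlus (n + 1) K) (u0 n K) w =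
      w (Sum.inr (Fin.last n)) - w (Sum.inl (Fin.last n)) := by
  rw [polar_plus, Fin.sum_univ_castSucc]
  simp only [u0_inl_castSucc, u0_inr_castSucc, u0_inl_last, u0_inr_last, mul_zero, zero_mul,
    add_zero, Finset.sum_const_zero, zero_add, one_mul, mul_neg, mul_one]
  ring

theorem u0_fixed (σ : K ≃+* K) (i : Fin (n + 1) ⊕ Fin (n + 1)) : σ (u0 n K i) = u0 n K i := by
  rcases i with i | i
  · refine Fin.lastCases ?_ (fun j => ?_) i
    · rw [u0_inl_last, map_one]
    · rw [u0_inl_castSucc, map_zero]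
  · refine Fin.lastCases ?_ (fun j => ?_) i
    · rw [u0_inr_last, map_neg, map_one]
    · rw [u0_inr_castSucc, map_zero]

theorem swapLast_eq_refl :
    swapLast n K = Cfsg.reflectionMatrix (Cfsg.quadFormPlus (n + 1) K) (u0 n K) := by
  apply Matrix.toLin'.injective
  apply LinearMap.ext
  intro w
  rw [Matrix.toLin'_apply, Matrix.toLin'_apply]
  have h1 := Cfsg.Agent.Lib.helper6.reflectionMatrix_mulVec (qfPlus (n + 1) K) (u0 n K) w
  rw [qfPlus_coe] at h1
  rw [h1, polar_u0, Q_u0]
  funext i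
  rcases i with i | i
  · unfold swapLast
    rw [blk_mulVec_inl]
    refine Fin.lastCases ?_ (fun j => ?_) i
    · simp only [lastVec_last, Pi.sub_apply, Pi.smul_apply, u0_inl_last, smul_eq_mul]
      field_simp
      ring
    · simp only [lastVec_castSucc, Pi.sub_apply, Pi.smul_apply, u0_inl_castSucc, smul_eq_mul]
      ring
  · unfold swapLast
    rw [blk_mulVec_inr]
    refine Fin.lastCases ?_ (fun j => ?_) i
    · simp only [lastVec_last, Pi.sub_apply, Pi.smul_apply, u0_inr_last, smul_eq_mul]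
      field_simp
      ring
    · simp only [lastVec_castSucc, Pi.sub_apply, Pi.smul_apply, u0_inr_castSucc, smul_eq_mul]
      ring

end swap

section ST

variable {K : Type u} [Field K] {n : ℕ}

/-- the inverse of the block matrix `blk 1 (-θ) 1 (-θ')`, as an invertible matrix. -/
noncomputable def TGL (n : ℕ) (θ θ' : K) (hΔ : θ - θ' ≠ 0) : GL (Fin (n + 1) ⊕ Fin (n + 1)) K :=
  ⟨blk (-θ' / (θ - θ')) (θ / (θ - θ')) (-1 / (θ - θ')) (1 / (θ - θ')), blk 1 (-θ) 1 (-θ'), by
    rw [blk_mul]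
    have e1 : -θ' / (θ - θ') * 1 + θ / (θ - θ') * 1 = 1 := by
      field_simp
      try ring
    have e2 : -θ' / (θ - θ') * -θ + θ / (θ - θ') * -θ' = 0 := by
      field_simp
      try ring
    have e3 : -1 / (θ - θ') * 1 + 1 / (θ - θ') * 1 = 0 := by
      field_simp
      try ring
    have e4 : -1 / (θ - θ') * -θ + 1 / (θ - θ') * -θ' = 1 := by
      field_simp
      try ring
    rw [e1, e2, e3, e4]
    exact blk_one, by
    rw [blk_mul]
    have e1 : 1 * (-θ' / (θ - θ')) + -θ * (-1 / (θ - θ')) = 1 := by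
      field_simp
      try ring
    have e2 : 1 * (θ / (θ - θ')) + -θ * (1 / (θ - θ')) = 0 := by
      field_simp
      try ring
    have e3 : 1 * (-θ' / (θ - θ')) + -θ' * (-1 / (θ - θ')) = 0 := by
      field_simp
      try ring
    have e4 : 1 * (θ / (θ - θ')) + -θ' * (1 / (θ - θ')) = 1 := by
      field_simp
      try ring
    rw [e1, e2, e3, e4]
    exact blk_one⟩

theorem TGL_val (θ θ' : K) (hΔ : θ - θ' ≠ 0) :
    ((TGL n θ θ' hΔ : GL (Fin (n + 1) ⊕ Fin (n + 1)) K) :
      Matrix (Fin (n + 1) ⊕ Fin (n + 1)) (Fin (n + 1) ⊕ Fin (n + 1)) K) =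
      blk (-θ' / (θ - θ')) (θ / (θ - θ')) (-1 / (θ - θ')) (1 / (θ - θ')) := rfl

theorem S_mul_TGL (θ θ' : K) (hΔ : θ - θ' ≠ 0) :
    blk 1 (-θ) 1 (-θ') * ((TGL n θ θ' hΔ : GL (Fin (n + 1) ⊕ Fin (n + 1)) K) :
      Matrix (Fin (n + 1) ⊕ Fin (n + 1)) (Fin (n + 1) ⊕ Fin (n + 1)) K) = 1 :=
  (TGL n θ θ' hΔ).inv_val

/-- the plus-type form pulled back along `T` is the (reindexed) minus-type form. -/
theorem plus_eq_minus_TGL (ζ θ θ' : K) (hsum : θ + θ' = -1) (hprod : θ * θ' = ζ)
    (hΔ : θ - θ' ≠ 0) (w : Fin (n + 1) ⊕ Fin (n + 1) → K) :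
    Cfsg.quadFormMinus n K 1 ζ
      ((((TGL n θ θ' hΔ : GL (Fin (n + 1) ⊕ Fin (n + 1)) K) :
        Matrix (Fin (n + 1) ⊕ Fin (n + 1)) (Fin (n + 1) ⊕ Fin (n + 1)) K) *ᵥ w) ∘ reIdx n) =
      Cfsg.quadFormPlus (n + 1) K w := by
  rw [← plus_blk_root ζ θ θ' hsum hprod, Matrix.mulVec_mulVec, S_mul_TGL, Matrix.one_mulVec]

/-- applying a field automorphism swapping the two roots to `T` multiplies it by the swap. -/
theorem TGL_map (σ : K ≃+* K) (θ θ' : K) (hΔ : θ - θ' ≠ 0) (h1 : σ θ = θ') (h2 : σ θ' = θ) :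
    ((TGL n θ θ' hΔ : GL (Fin (n + 1) ⊕ Fin (n + 1)) K) :
      Matrix (Fin (n + 1) ⊕ Fin (n + 1)) (Fin (n + 1) ⊕ Fin (n + 1)) K).map σ =
    ((TGL n θ θ' hΔ : GL (Fin (n + 1) ⊕ Fin (n + 1)) K) :
      Matrix (Fin (n + 1) ⊕ Fin (n + 1)) (Fin (n + 1) ⊕ Fin (n + 1)) K) * swapLast n K := by
  have hΔ' : θ' - θ ≠ 0 := by
    intro h
    apply hΔ
    linear_combination -h
  rw [TGL_val, blk_map]
  unfold swapLast
  rw [blk_mul]
  simp only [map_div₀, map_neg, map_sub, map_one, h1, h2, mul_zero, mul_one, zero_add, add_zero]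
  congr 1 <;> field_simp <;> ring

end ST

end Cfsg.Agent.Lib.Helper16.OM
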