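import Mathlib
import Cfsg.Agent.Lib.Helper16.OM14

set_option autoImplicit false
set_option linter.unusedSectionVars false
set_option linter.unusedVariables false

/-! Lang-type results for even-dimensional orthogonal groups, part 15: the Hilbert 90 dichotomy for
the similarity group of the plus-type form. -/

namespace Cfsg.Agent.Lib.Helper16.OM

open Matrix Cfsg.Agent.Lib.Lead.OA Cfsg.Agent.Lib.Helper16 Cfsg.Agent.Lib.Helper16.OA
  Cfsg.Agent.Lib.Helper16.OL Cfsg.Agent.Lib.Helper16.H9 Cfsg.Agent.Lib.Helper16.OSemi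

universe u

variable {F : Type u} [Field F] [Fintype F] {n : ℕ}

theorem sigCompat_plus (σ : RingAut F) (k : ℕ) :
    SigCompat (⇑(qfPlus k F) : (Fin k ⊕ Fin k → F) → F) σ := by
  intro v
  rw [qfPlus_coe]
  unfold Cfsg.quadFormPlus
  simp only [map_sum, map_mul]

theorem plus_exists_ne_zero (k : ℕ) (hk : 1 ≤ k) : ∃ v, qfPlus k F v ≠ 0 := by
  refine ⟨Pi.single (Sum.inl ⟨0, hk⟩) 1 + Pi.single (Sum.inr ⟨0, hk⟩) 1, ?_⟩
  rw [qfPlus_coe]
  unfold Cfsg.quadFormPlus
  rw [Finset.sum_eq_single (⟨0, hk⟩ : Fin k)]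
  · simp
  · intro b _ hb
    have h1 : (Sum.inl b : Fin k ⊕ Fin k) ≠ Sum.inl ⟨0, hk⟩ := fun h => hb (Sum.inl_injective h)
    simp [Pi.single_apply, h1]
  · intro h
    exact absurd (Finset.mem_univ _) h

/-- the reindexed minus-type form on the coordinates of the plus-type form. -/
noncomputable def qfMinusRe (n : ℕ) (K : Type u) [Field K] (a b : K) :
    QuadraticForm K (Fin (n + 1) ⊕ Fin (n + 1) → K) :=
  (qfMinus n K a b).comp (LinearEquiv.funCongrLeft K K (reIdx n)).toLinearMap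

theorem qfMinusRe_apply (K : Type u) [Field K] (a b : K) (w : Fin (n + 1) ⊕ Fin (n + 1) → K) :
    qfMinusRe n K a b w = Cfsg.quadFormMinus n K a b (w ∘ reIdx n) := rfl

theorem baseCompat_minusRe (σ : RingAut F) (a₀ b₀ : fixS σ) :
    BaseCompat (fixS σ).subtype (⇑(qfMinusRe n (fixS σ) a₀ b₀)) (⇑(qfMinusRe n F (a₀ : F) (b₀ : F))) := by
  intro v
  rw [qfMinusRe_apply, qfMinusRe_apply]
  exact quadFormMinus_map (fixS σ).subtype a₀ b₀ (v ∘ reIdx n)

theorem glMapEquiv_TGL (σ : RingAut F) (θ θ' : F) (hΔ : θ - θ' ≠ 0) (h1 : σ θ = θ')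
    (h2 : σ θ' = θ) : glMapEquiv σ (TGL n θ θ' hΔ) = TGL n θ θ' hΔ * swapGL n F := by
  apply Units.ext
  rw [glMapEquiv_val, Units.val_mul, swapGL_val]
  exact TGL_map σ θ θ' hΔ h1 h2

set_option maxHeartbeats 3200000 in
/-- Hilbert 90 for the similarity group of the plus-type form, up to the swap of the last
hyperbolic pair. -/
theorem h90_GO_plus (σ : RingAut F) (r : ℕ)
    (hinj : ∀ i j, i < r → j < r → σ ^ i = σ ^ j → i = j) (hr0 : 0 < r) (hσr : σ ^ r = 1)
    (g : GL (Fin (n + 1) ⊕ Fin (n + 1)) F)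
    (hg : g ∈ GO (⇑(qfPlus (n + 1) F) : (Fin (n + 1) ⊕ Fin (n + 1) → F) → F))
    (hA : twI σ g r = 1) :
    ∃ h : GL (Fin (n + 1) ⊕ Fin (n + 1)) F,
      h ∈ GO (⇑(qfPlus (n + 1) F) : (Fin (n + 1) ⊕ Fin (n + 1) → F) → F) ∧
        (g * glMapEquiv σ h = h ∨ g * glMapEquiv σ h = h * swapGL n F) := by
  classical
  have hQ := qfPlus_nondeg (n + 1) F
  have hne := plus_exists_ne_zero (F := F) (n + 1) (by omega)
  have hσc := sigCompat_plus σ (n + 1)
  obtain ⟨B, d, P, hB, hd, hPσ, hQB⟩ :=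
    descent_data (qfPlus (n + 1) F) hQ hne σ hσc r hinj hr0 hσr g hg hA
  have hP := nondeg_of_sim (qfPlus (n + 1) F) P B d hd hQB hQ
  have : Fintype (fixS σ) := Fintype.ofFinite _
  set P₀ := descend P σ hPσ with hP₀def
  have hP₀c := descend_compat P σ hPσ
  have hP₀ := nondeg_base (fixS σ).subtype P₀ P hP₀c hP
  have hcard : Fintype.card (Fin (n + 1) ⊕ Fin (n + 1)) = 2 * (n + 1) := by
    simp; ring
  have hcl := classify (m := n + 1) (by omega) hcard P₀ hP₀
  rw [Nat.add_sub_cancel] at hcl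
  rcases hcl with ⟨Φ, hΦ⟩ | ⟨ζ, hζ, Φ, hΦ⟩
  · -- plus type over the fixed field
    set M₀ : GL (Fin (n + 1) ⊕ Fin (n + 1)) (fixS σ) := linEquivToGL Φ with hM₀
    have hsim := sim_ext (fixS σ).subtype P₀ P hP₀c (qfPlus (n + 1) (fixS σ)) (qfPlus (n + 1) F)
      (baseCompat_plus σ (n + 1)) (M₀ : Matrix _ _ (fixS σ)) 1 (fun v => by
        rw [hM₀, linEquivToGL_mulVec, one_mul, hΦ, qfPlus_coe])
    set bGL : GL (Fin (n + 1) ⊕ Fin (n + 1)) F := inclI (fixS σ).subtype M₀ with hbGL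
    refine ⟨B * bGL, ?_, Or.inl ?_⟩
    · rw [mem_GO_iff]
      refine ⟨Units.mk0 d hd, fun v => ?_⟩
      rw [Units.val_mul, ← Matrix.mulVec_mulVec, hQB, hbGL, inclI_val, hsim, map_one, one_mul,
        Units.val_mk0]
    · rw [map_mul, ← mul_assoc, hB, hbGL, map_fix_eq]
  · -- minus type over the fixed field
    by_cases hroot : ∃ θ : F, θ ^ 2 + θ + (ζ : F) = 0
    · obtain ⟨θ, hθ⟩ := hroot
      set θ' : F := σ θ with hθ'def
      have hζfix : σ (ζ : F) = (ζ : F) := (mem_fixS σ _).mp ζ.2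
      have hθ' : θ' ^ 2 + θ' + (ζ : F) = 0 := by
        have := congrArg σ hθ
        rw [map_add, map_add, map_pow, hζfix, map_zero] at this
        exact this
      have hneq : θ - θ' ≠ 0 := by
        intro h
        have h1 : σ θ = θ := by
          rw [← hθ'def]
          exact (sub_eq_zero.mp h).symm
        apply hζ ⟨θ, (mem_fixS σ θ).mpr h1⟩
        apply Subtype.ext
        simp only [Subfield.coe_add, SubmonoidClass.coe_pow, ZeroMemClass.coe_zero]
        exact hθ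
      have hsum : θ + θ' = -1 := by
        have h1 : (θ - θ') * (θ + θ' + 1) = 0 := by linear_combination hθ - hθ'
        rcases mul_eq_zero.mp h1 with h2 | h2
        · exact absurd h2 hneq
        · linear_combination h2
      have hprod : θ * θ' = (ζ : F) := by
        have h1 : θ' = -1 - θ := by linear_combination hsum
        rw [h1]
        linear_combination -hθ
      have hσθ' : σ θ' = θ := by
        have h1 : θ' = -1 - θ := by linear_combination hsum
        have h2 : σ θ' = -1 - σ θ := by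
          conv_lhs => rw [h1]
          rw [map_sub, map_neg, map_one]
        rw [h2, ← hθ'def]
        linear_combination -hsum
      set Φ' : (Fin (n + 1) ⊕ Fin (n + 1) → fixS σ) ≃ₗ[fixS σ] (Fin (n + 1) ⊕ Fin (n + 1) → fixS σ) :=
        (LinearEquiv.funCongrLeft (fixS σ) (fixS σ) (reIdx n)).trans Φ with hΦ'
      set M₀ : GL (Fin (n + 1) ⊕ Fin (n + 1)) (fixS σ) := linEquivToGL Φ' with hM₀
      have hsim := sim_ext (fixS σ).subtype P₀ P hP₀c (qfMinusRe n (fixS σ) 1 ζ)
        (qfMinusRe n F ((1 : fixS σ) : F) (ζ : F)) (baseCompat_minusRe σ 1 ζ)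
        (M₀ : Matrix _ _ (fixS σ)) 1 (fun v => by
          rw [hM₀, linEquivToGL_mulVec, one_mul, hΦ', LinearEquiv.trans_apply, hΦ, qfMinusRe_apply]
          rfl)
      set bGL : GL (Fin (n + 1) ⊕ Fin (n + 1)) F := inclI (fixS σ).subtype M₀ with hbGL
      set T : GL (Fin (n + 1) ⊕ Fin (n + 1)) F := TGL n θ θ' hneq with hT
      refine ⟨B * bGL * T, ?_, Or.inr ?_⟩
      · rw [mem_GO_iff]
        refine ⟨Units.mk0 d hd, fun v => ?_⟩
        rw [Units.val_mul, Units.val_mul, ← Matrix.mulVec_mulVec, ← Matrix.mulVec_mulVec, hQB, hbGL,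
          inclI_val, hsim, map_one, one_mul, Units.val_mk0, qfMinusRe_apply, hT]
        have e1 : ((1 : fixS σ) : F) = 1 := rfl
        rw [e1, plus_eq_minus_TGL (ζ : F) θ θ' hsum hprod hneq, qfPlus_coe]
      · rw [map_mul, map_mul, ← mul_assoc, ← mul_assoc, hB, hbGL, map_fix_eq, hT,
          glMapEquiv_TGL σ θ θ' hneq rfl hσθ', mul_assoc, mul_assoc, mul_assoc]
    · exfalso
      have hroot' : ∀ t : F, t ^ 2 + t + (ζ : F) ≠ 0 := fun t ht => hroot ⟨t, ht⟩
      have hab := aniso_of_irred (ζ : F) hroot'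
      set M₀ : Matrix (Fin (n + 1) ⊕ Fin (n + 1)) ((Fin n ⊕ Fin n) ⊕ Fin 2) (fixS σ) :=
        LinearMap.toMatrix' Φ.toLinearMap with hM₀
      set N₀ : Matrix ((Fin n ⊕ Fin n) ⊕ Fin 2) (Fin (n + 1) ⊕ Fin (n + 1)) (fixS σ) :=
        LinearMap.toMatrix' Φ.symm.toLinearMap with hN₀
      have hMN : M₀ * N₀ = 1 := by
        rw [hN₀, hM₀, ← LinearMap.toMatrix'_comp]
        have : Φ.toLinearMap ∘ₗ Φ.symm.toLinearMap = LinearMap.id := by
          ext x; simp
        rw [this, LinearMap.toMatrix'_id]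
      have hNM : N₀ * M₀ = 1 := by
        rw [hN₀, hM₀, ← LinearMap.toMatrix'_comp]
        have : Φ.symm.toLinearMap ∘ₗ Φ.toLinearMap = LinearMap.id := by
          ext x; simp
        rw [this, LinearMap.toMatrix'_id]
      have hsim := sim_ext (fixS σ).subtype P₀ P hP₀c (qfMinus n (fixS σ) 1 ζ)
        (qfMinus n F ((1 : fixS σ) : F) (ζ : F)) (baseCompat_minus σ 1 ζ) M₀ 1 (fun v => by
          rw [hM₀, LinearMap.toMatrix'_mulVec, one_mul, qfMinus_coe]
          exact hΦ v)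
      set Bm : Matrix (Fin (n + 1) ⊕ Fin (n + 1)) (Fin (n + 1) ⊕ Fin (n + 1)) F :=
        ((B : GL (Fin (n + 1) ⊕ Fin (n + 1)) F) :
          Matrix (Fin (n + 1) ⊕ Fin (n + 1)) (Fin (n + 1) ⊕ Fin (n + 1)) F) with hBm
      set Bi : Matrix (Fin (n + 1) ⊕ Fin (n + 1)) (Fin (n + 1) ⊕ Fin (n + 1)) F :=
        ((B⁻¹ : GL (Fin (n + 1) ⊕ Fin (n + 1)) F) :
          Matrix (Fin (n + 1) ⊕ Fin (n + 1)) (Fin (n + 1) ⊕ Fin (n + 1)) F) with hBi
      have hBiB : Bi * Bm = 1 := by
        rw [hBi, hBm, ← Units.val_mul, inv_mul_cancel, Units.val_one]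
      have hBBi : Bm * Bi = 1 := by
        rw [hBi, hBm, ← Units.val_mul, mul_inv_cancel, Units.val_one]
      set M : Matrix (Fin (n + 1) ⊕ Fin (n + 1)) ((Fin n ⊕ Fin n) ⊕ Fin 2) F :=
        M₀.map ⇑(fixS σ).subtype with hM
      set N : Matrix ((Fin n ⊕ Fin n) ⊕ Fin 2) (Fin (n + 1) ⊕ Fin (n + 1)) F :=
        N₀.map ⇑(fixS σ).subtype with hN
      have hMN' : M * N = 1 := by
        rw [hN, hM, ← Matrix.map_mul, hMN]
        exact Matrix.map_one _ (map_zero _) (map_one _)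
      set L : (Fin (n + 1) ⊕ Fin (n + 1) → F) →ₗ[F] ((Fin n ⊕ Fin n) ⊕ Fin 2 → F) :=
        Matrix.toLin' (N * Bi) with hL
      have hLinj : Function.Injective L := by
        intro x y hxy
        have h1 : (Bm * M) *ᵥ (L x) = (Bm * M) *ᵥ (L y) := by rw [hxy]
        have h2 : ∀ z, (Bm * M) *ᵥ (L z) = z := by
          intro z
          rw [hL, Matrix.toLin'_apply, Matrix.mulVec_mulVec]
          have : Bm * M * (N * Bi) = 1 := by
            rw [Matrix.mul_assoc, ← Matrix.mul_assoc M, hMN', Matrix.one_mul, hBBi]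
          rw [this, Matrix.one_mulVec]
        rwa [h2, h2] at h1
      set U : Submodule F ((Fin n ⊕ Fin n) ⊕ Fin 2 → F) := (EPlus (n + 1) F).map L with hU
      have hUts : ∀ u ∈ U, Cfsg.quadFormMinus n F 1 (ζ : F) u = 0 := by
        rintro _ ⟨w, hw, rfl⟩
        have h1 := hsim (L w)
        rw [map_one, one_mul] at h1
        have e1 : ((1 : fixS σ) : F) = 1 := rfl
        rw [e1, qfMinus_coe] at h1
        rw [← h1]
        have h2 : M *ᵥ (L w) = Bi *ᵥ w := by
          rw [hL, Matrix.toLin'_apply, Matrix.mulVec_mulVec, ← Matrix.mul_assoc, hMN',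
            Matrix.one_mul]
        rw [h2]
        have h3 := hQB (Bi *ᵥ w)
        rw [Matrix.mulVec_mulVec, hBBi, Matrix.one_mulVec] at h3
        have h4 : qfPlus (n + 1) F w = 0 := EPlus_TS w hw
        rw [h4] at h3
        rcases mul_eq_zero.mp h3.symm with h5 | h5
        · exact absurd h5 hd
        · exact h5
      have hUfr : Module.finrank F ↥U = n + 1 := by
        have h1 := (Submodule.equivMapOfInjective L hLinj (EPlus (n + 1) F)).finrank_eq
        rw [EPlus_finrank] at h1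
        exact h1.symm
      have h5 : Module.finrank F ↥U ≤ n :=
        Cfsg.Agent.Lib.Lead.WI.minus_ts_le (k := n) (a := (1 : F)) (b := (ζ : F)) hab U hUts
      rw [hUfr] at h5
      omega

end Cfsg.Agent.Lib.Helper16.OM
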