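import Mathlib
import Cfsg.Agent.Lib.Helper16.OM15
import Cfsg.Agent.Lib.Helper16.PSC7

set_option autoImplicit false
set_option linter.unusedSectionVars false
set_option linter.unusedVariables false

/-! Lang-type results for even-dimensional orthogonal groups, part 16: the twisted form of the coset
theorem; `Inndiag` of the plus-type form in characteristic two; reflections lie outside
`Inndiag`. -/

namespace Cfsg.Agent.Lib.Helper16.OM

open Matrix Module Cfsg.Agent.Lib.Lead Cfsg.Agent.Lib.Lead.OA Cfsg.Agent.Lib.Helper16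
  Cfsg.Agent.Lib.Helper16.OA Cfsg.Agent.Lib.Helper16.OL Cfsg.Agent.Lib.Helper16.PSC
  Cfsg.Agent.Lib.Helper16.H9

universe u

section tw

variable {ι : Type} [Fintype ι] [DecidableEq ι] {F : Type u} [Field F] [Fintype F]

/-- in the coset of a standard field automorphism, the elements of the same order are conjugate to
it or to its product with a fixed similarity, given the corresponding form of Hilbert 90. -/
theorem field_conj_sig_tw (Q : QuadraticForm F (ι → F))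
    (hQ : (QuadraticMap.polarBilin Q).Nondegenerate) (hn : 7 ≤ Fintype.card ι)
    (σ : RingAut F) (hσ : SigCompat (⇑Q : (ι → F) → F) σ) (r : ℕ) (hord : orderOf σ = r)
    (hr0 : 0 < r) (γ₀ : ↥(GO (⇑Q : (ι → F) → F)))
    (H90 : ∀ g : GL ι F, g ∈ GO (⇑Q : (ι → F) → F) → twI σ g r = 1 →
      ∃ h : GL ι F, h ∈ GO (⇑Q : (ι → F) → F) ∧
        (g * glMapEquiv σ h = h ∨ g * glMapEquiv σ h = h * (γ₀ : GL ι F)))
    (g : ↥(GO (⇑Q : (ι → F) → F)))
    (hpow : (cHom (⇑Q : (ι → F) → F) g * phiS (⇑Q : (ι → F) → F) σ hσ) ^ r = 1) :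
    ∃ h : ↥(GO (⇑Q : (ι → F) → F)),
      cHom (⇑Q : (ι → F) → F) g * phiS (⇑Q : (ι → F) → F) σ hσ =
        cHom (⇑Q : (ι → F) → F) h * phiS (⇑Q : (ι → F) → F) σ hσ *
          (cHom (⇑Q : (ι → F) → F) h)⁻¹ ∨
      cHom (⇑Q : (ι → F) → F) g * phiS (⇑Q : (ι → F) → F) σ hσ =
        cHom (⇑Q : (ι → F) → F) h *
          (cHom (⇑Q : (ι → F) → F) γ₀ * phiS (⇑Q : (ι → F) → F) σ hσ) *
          (cHom (⇑Q : (ι → F) → F) h)⁻¹ := by
  have hne : Nonempty ι := by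
    rw [← Fintype.card_pos_iff]; omega
  have hσr : σ ^ r = 1 := by rw [← hord]; exact pow_orderOf_eq_one σ
  have hinj : ∀ i j, i < r → j < r → σ ^ i = σ ^ j → i = j := by
    intro i j hi hj hij
    rw [← hord] at hi hj
    exact pow_injOn_Iio_orderOf hi hj hij
  obtain ⟨g, hg⟩ := g
  have hφr : phiS (⇑Q : (ι → F) → F) σ hσ ^ r = 1 := by
    rw [phiS_pow, phiS_eq_one_iff Q hQ hn]; exact hσr
  rw [pow_cHom_phiS, hφr, mul_one] at hpow
  obtain ⟨d, hd⟩ := cHom_ker_scalar Q hQ hn _ hpow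
  have hd' : ((twI σ g r : GL ι F) : Matrix ι ι F) = d • (1 : Matrix ι ι F) := hd
  have hd0 : d ≠ 0 := by
    rintro rfl
    have h1 : IsUnit ((twI σ g r : GL ι F) : Matrix ι ι F).det :=
      (Matrix.isUnit_iff_isUnit_det _).mp (twI σ g r).isUnit
    rw [hd', zero_smul, Matrix.det_zero] at h1
    exact not_isUnit_zero h1
  set c : Fˣ := Units.mk0 d hd0 with hc
  have hc' : twI σ g r = scI ι c := by
    apply Units.ext
    rw [hd', scI_val, hc, Units.val_mk0]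
  have hfix : uσ σ c = c := by
    apply scI_injective (ι := ι)
    have e1 : twI σ g (r + 1) = g * scI ι (uσ σ c) := by rw [twI_succ, hc', glMapEquiv_scI]
    have e2 : twI σ g (r + 1) = g * scI ι c := by
      rw [twI_add, hσr, glMapEquiv_one_aut, twI_one, hc', scI_comm]
    exact mul_left_cancel (e1.symm.trans e2)
  obtain ⟨e, he⟩ := Cfsg.Agent.Lib.Helper16.H9.norm_surj σ r hinj hr0 hσr c hfix
  set g' := g * scI ι e⁻¹ with hg'
  have hg'mem : g' ∈ GO (⇑Q : (ι → F) → F) := mul_mem hg (scI_mem_GO Q _)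
  have hg'tw : twI σ g' r = 1 := by
    rw [hg', twI_mul_scI, hc', ← map_mul, ← nuHom_apply, map_inv, nuHom_apply, he, mul_inv_cancel,
      map_one]
  obtain ⟨B, hBmem, hB⟩ := H90 g' hg'mem hg'tw
  refine ⟨⟨B, hBmem⟩, ?_⟩
  have hPg : cHom (⇑Q : (ι → F) → F) ⟨g, hg⟩ = cHom (⇑Q : (ι → F) → F) ⟨g', hg'mem⟩ := by
    have : (⟨g', hg'mem⟩ : ↥(GO (⇑Q : (ι → F) → F))) = ⟨g, hg⟩ * ⟨scI ι e⁻¹, scI_mem_GO Q _⟩ := rfl
    rw [this, map_mul, scalar_cHom_eq_one (⇑Q : (ι → F) → F) ⟨scI ι e⁻¹, scI_mem_GO Q _⟩ _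
      (scI_val e⁻¹), mul_one]
  have h3 : phiS (⇑Q : (ι → F) → F) σ hσ * (cHom (⇑Q : (ι → F) → F) ⟨B, hBmem⟩)⁻¹ =
      (cHom (⇑Q : (ι → F) → F) ⟨glMapEquiv σ B, glMapEquiv_mem_GO_sig hσ hBmem⟩)⁻¹ *
        phiS (⇑Q : (ι → F) → F) σ hσ := by
    have := phiS_mul_cHom (⇑Q : (ι → F) → F) σ hσ ⟨B, hBmem⟩
    rw [eq_inv_mul_iff_mul_eq, ← mul_assoc, ← this, mul_assoc, mul_inv_cancel, mul_one]
  rcases hB with hB | hB
  · left
    have hg'B : (⟨g', hg'mem⟩ : ↥(GO (⇑Q : (ι → F) → F))) =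
        ⟨B, hBmem⟩ * (⟨glMapEquiv σ B, glMapEquiv_mem_GO_sig hσ hBmem⟩ :
          ↥(GO (⇑Q : (ι → F) → F)))⁻¹ := by
      apply eq_mul_inv_of_mul_eq
      exact Subtype.ext hB
    rw [mul_assoc (cHom (⇑Q : (ι → F) → F) ⟨B, hBmem⟩), h3, hPg, hg'B, map_mul, map_inv, mul_assoc]
  · right
    have hg'B : (⟨g', hg'mem⟩ : ↥(GO (⇑Q : (ι → F) → F))) =
        ⟨B, hBmem⟩ * γ₀ * (⟨glMapEquiv σ B, glMapEquiv_mem_GO_sig hσ hBmem⟩ :
          ↥(GO (⇑Q : (ι → F) → F)))⁻¹ := by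
      apply eq_mul_inv_of_mul_eq
      exact Subtype.ext hB
    rw [mul_assoc (cHom (⇑Q : (ι → F) → F) ⟨B, hBmem⟩), mul_assoc (cHom (⇑Q : (ι → F) → F) γ₀),
      h3, hPg, hg'B, map_mul, map_mul, map_inv]
    simp only [mul_assoc]

end tw

section notmem

variable {ι : Type} [Fintype ι] [DecidableEq ι] {F : Type u} [Field F] [Fintype F]

/-- odd characteristic: reflections induce automorphisms outside the image of `ker eps`. -/
theorem eps_refl_not_mem (h2 : (2 : F) ≠ 0) (Q : QuadraticForm F (ι → F))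
    (hQ : (QuadraticMap.polarBilin Q).Nondegenerate) (hn : 7 ≤ Fintype.card ι)
    (hne : ∃ v, Q v ≠ 0) (k : ℕ) (hcard : Fintype.card ι = 2 * k) (u : ι → F) (hu : Q u ≠ 0) :
    cHom (⇑Q : (ι → F) → F) (isoToGO Q (CDG.refl Q u hu)) ∉
      (eps Q hne k).ker.map (cHom (⇑Q : (ι → F) → F)) := by
  rintro ⟨g, hg, hgc⟩
  have hg1 : eps Q hne k g = 1 := MonoidHom.mem_ker.mp hg
  have h1 : cHom (⇑Q : (ι → F) → F) (g⁻¹ * isoToGO Q (CDG.refl Q u hu)) = 1 := by
    rw [map_mul, map_inv, hgc, inv_mul_cancel]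
  obtain ⟨d, hd⟩ := cHom_ker_scalar Q hQ hn _ h1
  have hnei : Nonempty ι := by
    have : 0 < Fintype.card ι := by omega
    exact Fintype.card_pos_iff.mp this
  have hd0 : d ≠ 0 := by
    rintro rfl
    have h3 : IsUnit (((g⁻¹ * isoToGO Q (CDG.refl Q u hu) : ↥(GOq Q)) : GL ι F) :
        Matrix ι ι F).det := (Matrix.isUnit_iff_isUnit_det _).mp (Units.isUnit _)
    rw [hd, zero_smul, Matrix.det_zero] at h3
    exact not_isUnit_zero h3
  have h4 : g⁻¹ * isoToGO Q (CDG.refl Q u hu) = scalGO Q (Units.mk0 d hd0) := by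
    apply Subtype.ext
    apply Units.ext
    rw [hd, scalGO_coe, Units.val_mk0]
  have h5 : eps Q hne k (g⁻¹ * isoToGO Q (CDG.refl Q u hu)) = 1 := by
    rw [h4, eps_scal Q hne k hcard]
  rw [map_mul, map_inv, hg1, inv_one, one_mul, eps_iso, isoDet_CDGrefl] at h5
  have h6 : ((-1 : Fˣ) : F) = 1 := by rw [h5, Units.val_one]
  rw [Units.val_neg, Units.val_one] at h6
  apply h2
  linear_combination -h6

/-- characteristic two: reflections induce non-inner automorphisms. -/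
theorem inn_refl_not_mem [CharP F 2] (Q : QuadraticForm F (ι → F))
    (hQ : (QuadraticMap.polarBilin Q).Nondegenerate) (hn : 7 ≤ Fintype.card ι)
    (hne : ∃ v, Q v ≠ 0) (hcd : Fintype.card F ≠ 2 ∨ Fintype.card ι ≠ 4) (u : ι → F)
    (hu : Q u ≠ 0) :
    cHom (⇑Q : (ι → F) → F) (isoToGO Q (CDG.refl Q u hu)) ∉
      (Cfsg.Omega F (⇑Q : (ι → F) → F)).map (c0 Q) := by
  rintro ⟨s, hs, hsc⟩
  have h1 : s = CDG.refl Q u hu := by
    apply c0_injective_char2 Q hQ hn hne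
    rw [hsc, c0_apply]
  rw [h1] at hs
  have h2 := (C2.dickson_eq_one_iff Q hQ hcd _).2 hs
  rw [C2.dickson_refl] at h2
  exact absurd h2 (by decide)

end notmem

section plus2

variable {F : Type u} [Field F] [Fintype F] {m : ℕ}

theorem pscPlus_iff_omega [CharP F 2] (hm : 3 ≤ m)
    (g : ↥(Cfsg.isometryGroup F (⇑(qfPlus m F) : (Fin m ⊕ Fin m → F) → F))) :
    Cfsg.PreservesSingularClasses (Cfsg.quadFormPlus m F)
      ((g : GL (Fin m ⊕ Fin m) F) : Matrix (Fin m ⊕ Fin m) (Fin m ⊕ Fin m) F) ↔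
      g ∈ Cfsg.Omega F (⇑(qfPlus m F) : (Fin m ⊕ Fin m → F) → F) := by
  have hQ := qfPlus_nondeg m F
  have hcd : Fintype.card F ≠ 2 ∨ Fintype.card (Fin m ⊕ Fin m) ≠ 4 := by
    right
    rw [card_plus_index]
    omega
  have h1 := psc_iff_famChar (qfPlus m F) hQ m (card_plus_index m) (EPlus m F) EPlus_TS
    EPlus_finrank g
  refine Iff.trans h1 ?_
  exact C2.ker_eq_omega (qfPlus m F) hQ hcd
    (famCharHom (qfPlus m F) hQ (card_plus_index m) (EPlus m F) EPlus_TS EPlus_finrank)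
    (fun u hu => famChar_refl (qfPlus m F) hQ (card_plus_index m) (EPlus m F) EPlus_TS
      EPlus_finrank _ u hu (CDG.refl_coe _ u hu)) g

theorem inndiagPlus_eq_inn_char2 [CharP F 2] (hm : 3 ≤ m) :
    Cfsg.inndiagPOmegaPlus m F = Cfsg.Inn (Cfsg.POmega F (Cfsg.quadFormPlus m F)) := by
  have hne := plus_exists_ne_zero (F := F) m (by omega)
  set Q := qfPlus m F with hQdef
  have hinn : Cfsg.Inn (Cfsg.POmega F (Cfsg.quadFormPlus m F)) =
      (Cfsg.Omega F (⇑Q : (Fin m ⊕ Fin m → F) → F)).map (c0 Q) := inn_eq' Q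
  rw [hinn]
  apply le_antisymm
  · unfold Cfsg.inndiagPOmegaPlus Cfsg.autSubgroupOf
    refine (Subgroup.closure_le _).2 ?_
    rintro β ⟨g0, hg0, hpsc, hind⟩
    have hβ : β = cHom (⇑Q : (Fin m ⊕ Fin m → F) → F) ⟨g0, hg0⟩ :=
      (induced_iff _ g0 hg0 β).1 hind
    set g : ↥(GOq Q) := ⟨g0, hg0⟩ with hg
    obtain ⟨a0, ha0⟩ := FiniteField.isSquare_of_char_two (ringChar.eq F 2) ((mult Q g : Fˣ) : F)
    have ha00 : a0 ≠ 0 := by
      rintro rfl
      rw [mul_zero] at ha0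
      exact Units.ne_zero _ ha0
    have ha : Units.mk0 a0 ha00 * Units.mk0 a0 ha00 = mult Q g := by
      apply Units.ext
      rw [Units.val_mul, Units.val_mk0, ha0]
    set c : Fˣ := Units.mk0 a0 ha00
    have hmult : mult Q (scalGO Q c⁻¹ * g) = 1 := by
      have h1 : multHom Q hne (scalGO Q c⁻¹ * g) =
          multHom Q hne (scalGO Q c⁻¹) * multHom Q hne g := map_mul _ _ _
      rw [multHom_apply, multHom_apply, multHom_apply, mult_scalGO Q hne, ← ha] at h1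
      rw [h1]
      group
    have hiso := (mult_eq_one_iff Q hne _).1 hmult
    have hscal : cHom (⇑Q : (Fin m ⊕ Fin m → F) → F) (scalGO Q c⁻¹) = 1 :=
      scalar_cHom_eq_one _ _ _ (scalGO_coe Q c⁻¹)
    have e1 : isoToGO Q ⟨_, hiso⟩ = scalGO Q c⁻¹ * g := Subtype.ext rfl
    have hmat : (((scalGO Q c⁻¹ * g : ↥(GOq Q)) : GL (Fin m ⊕ Fin m) F) :
        Matrix (Fin m ⊕ Fin m) (Fin m ⊕ Fin m) F) =
        ((c⁻¹ : Fˣ) : F) • (g0 : Matrix (Fin m ⊕ Fin m) (Fin m ⊕ Fin m) F) := by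
      rw [Subgroup.coe_mul, Units.val_mul, scalGO_coe, Matrix.smul_mul, Matrix.one_mul]
    refine ⟨⟨_, hiso⟩, ?_, ?_⟩
    · apply (pscPlus_iff_omega hm ⟨_, hiso⟩).1
      show Cfsg.PreservesSingularClasses (Cfsg.quadFormPlus m F)
        (((scalGO Q c⁻¹ * g : ↥(GOq Q)) : GL (Fin m ⊕ Fin m) F) :
          Matrix (Fin m ⊕ Fin m) (Fin m ⊕ Fin m) F)
      rw [hmat]
      exact (psc_smul _ _ (Units.ne_zero _) _).2 hpsc
    · rw [c0_apply, e1, map_mul, hscal, one_mul, hβ]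
  · rintro _ ⟨s, hs, rfl⟩
    unfold Cfsg.inndiagPOmegaPlus Cfsg.autSubgroupOf
    apply Subgroup.subset_closure
    refine ⟨(s : GL (Fin m ⊕ Fin m) F), (isoToGO Q s).2,
      (pscPlus_iff_omega hm s).2 hs, ?_⟩
    exact (induced_iff _ _ (isoToGO Q s).2 _).2 rfl

end plus2

end Cfsg.Agent.Lib.Helper16.OM
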