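import Mathlib
import Cfsg.Agent.Lib.Helper16.OM16

set_option autoImplicit false
set_option linter.unusedSectionVars false
set_option linter.unusedVariables false

/-! Lang-type results for even-dimensional orthogonal groups, part 17: the parity argument for a
normal subgroup of index at most two in a subgroup normalised by a fixed element. -/

namespace Cfsg.Agent.Lib.Helper16.OM

universe u

section parity

variable {A : Type u} [Group A]

/-- from the dichotomy with respect to one element outside `D`, the product of two elements of `P`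
outside `D` lies in `D`. -/
theorem index_two_of_dichotomy (D P : Subgroup A) (hDN : D.Normal) (ρ : A) (hρP : ρ ∈ P)
    (hdich : ∀ h ∈ P, h ∈ D ∨ h * ρ ∈ D) {x y : A} (hx : x ∈ P) (hy : y ∈ P) (hxD : x ∉ D)
    (hyD : y ∉ D) : x * y ∈ D := by
  have h1 : x * ρ ∈ D := (hdich x hx).resolve_left hxD
  have h2 : ρ⁻¹ * y ∈ D := by
    rcases hdich (ρ⁻¹ * y) (P.mul_mem (P.inv_mem hρP) hy) with h | h
    · exact h
    · exfalso
      apply hyD
      have := hDN.conj_mem _ h ρ
      have e : ρ * (ρ⁻¹ * y * ρ) * ρ⁻¹ = y := by group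
      rwa [e] at this
  have e : x * y = x * ρ * (ρ⁻¹ * y) := by group
  rw [e]
  exact D.mul_mem h1 h2

theorem mul_mem_iff_parity (D P : Subgroup A)
    (hidx : ∀ x y : A, x ∈ P → y ∈ P → x ∉ D → y ∉ D → x * y ∈ D) {x y : A} (hx : x ∈ P)
    (hy : y ∈ P) : x * y ∈ D ↔ (x ∈ D ↔ y ∈ D) := by
  constructor
  · intro h
    constructor
    · intro hxD
      have := D.mul_mem (D.inv_mem hxD) h
      rwa [inv_mul_cancel_left] at this
    · intro hyD
      have := D.mul_mem h (D.inv_mem hyD)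
      rwa [mul_inv_cancel_right] at this
  · intro h
    by_cases hxD : x ∈ D
    · exact D.mul_mem hxD (h.1 hxD)
    · exact hidx x y hx hy hxD (fun hyD => hxD (h.2 hyD))

/-- the parity argument: in `P φ`, conjugate elements `y₁ φ` and `y₂ φ` (under `P`) have `y₁`
and `y₂` in the same coset of `D`. -/
theorem twist_mem_iff (D P : Subgroup A) (hDN : D.Normal)
    (hidx : ∀ x y : A, x ∈ P → y ∈ P → x ∉ D → y ∉ D → x * y ∈ D) (φ : A)
    (hφP : ∀ c ∈ P, φ * c * φ⁻¹ ∈ P) {y₁ y₂ c : A} (hy₁ : y₁ ∈ P) (hy₂ : y₂ ∈ P) (hc : c ∈ P)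
    (h : y₁ * φ = c * (y₂ * φ) * c⁻¹) : y₁ ∈ D ↔ y₂ ∈ D := by
  set c' : A := φ * c⁻¹ * φ⁻¹ with hc'
  have hc'P : c' ∈ P := hφP _ (P.inv_mem hc)
  have hcc' : c ∈ D ↔ c' ∈ D := by
    constructor
    · intro hcD
      exact hDN.conj_mem _ (D.inv_mem hcD) φ
    · intro hc'D
      have := hDN.conj_mem _ hc'D φ⁻¹
      have e : φ⁻¹ * c' * φ⁻¹⁻¹ = c⁻¹ := by rw [hc']; group
      rw [e] at this
      have := D.inv_mem this
      rwa [inv_inv] at this
  have e : y₁ = c * (y₂ * c') := by
    have : y₁ = c * (y₂ * φ) * c⁻¹ * φ⁻¹ := by rw [← h]; group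
    rw [this, hc']; group
  rw [e, mul_mem_iff_parity D P hidx hc (P.mul_mem hy₂ hc'P),
    mul_mem_iff_parity D P hidx hy₂ hc'P]
  constructor
  · intro h1
    by_cases hcD : c ∈ D
    · exact ((h1.1 hcD).2 (hcc'.1 hcD))
    · by_contra hy₂D
      apply hcD
      apply h1.2
      constructor
      · intro h2; exact absurd h2 hy₂D
      · intro h2; exact absurd (hcc'.2 h2) hcD
  · intro hy₂D
    constructor
    · intro hcD
      exact ⟨fun _ => hcc'.1 hcD, fun _ => hy₂D⟩
    · intro h2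
      exact hcc'.2 (h2.1 hy₂D)

end parity

end Cfsg.Agent.Lib.Helper16.OM
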