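import Mathlib
import Cfsg.Agent.Lib.Helper16.OM17
import Cfsg.Agent.Lib.Helper16.OL13

set_option autoImplicit false
set_option linter.unusedSectionVars false
set_option linter.unusedVariables false

/-! Lang-type results for even-dimensional orthogonal groups, part 18: the coset theorems for the
standard field and graph-field automorphisms of the plus-type form, for a subgroup `D` with the
properties of `Inndiag`. -/

namespace Cfsg.Agent.Lib.Helper16.OM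

open Matrix Module Cfsg.Agent.Lib.Lead Cfsg.Agent.Lib.Lead.OA Cfsg.Agent.Lib.Helper16
  Cfsg.Agent.Lib.Helper16.OA Cfsg.Agent.Lib.Helper16.OL Cfsg.Agent.Lib.Helper16.PSC

universe u

section gen

variable {ι : Type} [Fintype ι] [DecidableEq ι] {F : Type u} [Field F] [Fintype F]

theorem phiS_conj_cHom_mem (Q : (ι → F) → F) (σ : RingAut F) (hσ : SigCompat Q σ)
    (c : MulAut (Cfsg.POmega F Q)) (hc : c ∈ (cHom Q).range) :
    phiS Q σ hσ * c * (phiS Q σ hσ)⁻¹ ∈ (cHom Q).range := by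
  obtain ⟨h, rfl⟩ := hc
  rw [phiS_mul_cHom, mul_assoc, mul_inv_cancel, mul_one]
  exact ⟨_, rfl⟩

theorem cHom_refl_comm_refl (Q : QuadraticForm F (ι → F)) (v w : ι → F) (hv : Q v ≠ 0)
    (hw : Q w ≠ 0) (hp : QuadraticMap.polar (⇑Q) v w = 0) :
    cHom (⇑Q : (ι → F) → F) (isoToGO Q (CDG.refl Q w hw)) *
      cHom (⇑Q : (ι → F) → F) (isoToGO Q (CDG.refl Q v hv)) =
    cHom (⇑Q : (ι → F) → F) (isoToGO Q (CDG.refl Q v hv)) *
      cHom (⇑Q : (ι → F) → F) (isoToGO Q (CDG.refl Q w hw)) := by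
  rw [← map_mul, ← map_mul, ← map_mul, ← map_mul]
  congr 2
  apply Subtype.ext
  apply Units.ext
  rw [Subgroup.coe_mul, Subgroup.coe_mul, Units.val_mul, Units.val_mul, CDG.refl_coe, CDG.refl_coe]
  exact (refl_comm_of_perp Q v w hp).symm

end gen

section plus

variable {F : Type u} [Field F] [Fintype F] {n : ℕ}

set_option quotPrecheck false in
local notation "QP" => (qfPlus (n + 1) F)
set_option quotPrecheck false in
local notation "QPf" => (⇑(qfPlus (n + 1) F) : (Fin (n + 1) ⊕ Fin (n + 1) → F) → F)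

theorem Q_u0_ne : qfPlus (n + 1) F (u0 n F) ≠ 0 := by
  rw [qfPlus_coe, Q_u0]
  exact neg_ne_zero.mpr one_ne_zero

theorem refl_u0_eq_swap :
    (((isoToGO (qfPlus (n + 1) F) (CDG.refl (qfPlus (n + 1) F) (u0 n F) Q_u0_ne) :
      ↥(GOq (qfPlus (n + 1) F))) : GL (Fin (n + 1) ⊕ Fin (n + 1)) F)) = swapGL n F := by
  apply Units.ext
  rw [swapGL_val, swapLast_eq_refl]
  rfl

set_option maxHeartbeats 1600000 in
/-- the coset theorem for the standard field automorphism of the plus-type form. -/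
theorem lang_plus_field (hn : 7 ≤ Fintype.card (Fin (n + 1) ⊕ Fin (n + 1)))
    (D : Subgroup (MulAut (Cfsg.POmega F (⇑(qfPlus (n + 1) F) : (Fin (n + 1) ⊕ Fin (n + 1) → F) → F))))
    (hDN : D.Normal)
    (hD1 : ∀ δ ∈ D, ∃ g : ↥(GOq (qfPlus (n + 1) F)),
      δ = cHom (⇑(qfPlus (n + 1) F) : (Fin (n + 1) ⊕ Fin (n + 1) → F) → F) g)
    (hD2 : ∀ (u : Fin (n + 1) ⊕ Fin (n + 1) → F) (hu : qfPlus (n + 1) F u ≠ 0)
      (h : ↥(GOq (qfPlus (n + 1) F))),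
      cHom (⇑(qfPlus (n + 1) F) : (Fin (n + 1) ⊕ Fin (n + 1) → F) → F) h ∈ D ∨
      cHom (⇑(qfPlus (n + 1) F) : (Fin (n + 1) ⊕ Fin (n + 1) → F) → F) h *
        cHom (⇑(qfPlus (n + 1) F) : (Fin (n + 1) ⊕ Fin (n + 1) → F) → F)
          (isoToGO (qfPlus (n + 1) F) (CDG.refl (qfPlus (n + 1) F) u hu)) ∈ D)
    (hD3 : ∀ (u : Fin (n + 1) ⊕ Fin (n + 1) → F) (hu : qfPlus (n + 1) F u ≠ 0),
      cHom (⇑(qfPlus (n + 1) F) : (Fin (n + 1) ⊕ Fin (n + 1) → F) → F)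
          (isoToGO (qfPlus (n + 1) F) (CDG.refl (qfPlus (n + 1) F) u hu)) ∉ D)
    (σ : RingAut F)
    (hσ : SigCompat (⇑(qfPlus (n + 1) F) : (Fin (n + 1) ⊕ Fin (n + 1) → F) → F) σ) {r : ℕ}
    (hr0 : 0 < r) (hord : orderOf σ = r)
    (d : MulAut (Cfsg.POmega F (⇑(qfPlus (n + 1) F) : (Fin (n + 1) ⊕ Fin (n + 1) → F) → F)))
    (hd : d ∈ D)
    (hpow : (d * phiS (⇑(qfPlus (n + 1) F) : (Fin (n + 1) ⊕ Fin (n + 1) → F) → F) σ hσ) ^ r = 1) :
    ∃ h ∈ D, d * phiS (⇑(qfPlus (n + 1) F) : (Fin (n + 1) ⊕ Fin (n + 1) → F) → F) σ hσ =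
      h * phiS (⇑(qfPlus (n + 1) F) : (Fin (n + 1) ⊕ Fin (n + 1) → F) → F) σ hσ * h⁻¹ := by
  have hQ := qfPlus_nondeg (n + 1) F
  have hσr : σ ^ r = 1 := by rw [← hord]; exact pow_orderOf_eq_one σ
  have hinj : ∀ i j, i < r → j < r → σ ^ i = σ ^ j → i = j := by
    intro i j hi hj hij
    rw [← hord] at hi hj
    exact pow_injOn_Iio_orderOf (Set.mem_Iio.mpr hi) (Set.mem_Iio.mpr hj) hij
  have H90 : ∀ g : GL (Fin (n + 1) ⊕ Fin (n + 1)) F,
      g ∈ GO QPf → twI σ g r = 1 →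
      ∃ h : GL (Fin (n + 1) ⊕ Fin (n + 1)) F, h ∈ GO QPf ∧
        (g * glMapEquiv σ h = h ∨ g * glMapEquiv σ h = h *
          ((isoToGO QP (CDG.refl QP (u0 n F) Q_u0_ne) : ↥(GOq QP)) :
            GL (Fin (n + 1) ⊕ Fin (n + 1)) F)) := by
    intro g hg hA
    rw [refl_u0_eq_swap]
    exact h90_GO_plus σ r hinj hr0 hσr g hg hA
  obtain ⟨g, rfl⟩ := hD1 d hd
  have hidx : ∀ x y, x ∈ (cHom QPf).range → y ∈ (cHom QPf).range → x ∉ D → y ∉ D → x * y ∈ D := by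
    intro x y hx hy hxD hyD
    refine index_two_of_dichotomy D (cHom QPf).range hDN
      (cHom QPf (isoToGO QP (CDG.refl QP (u0 n F) Q_u0_ne))) ⟨_, rfl⟩ ?_ hx hy hxD hyD
    rintro _ ⟨h, rfl⟩
    exact hD2 (u0 n F) Q_u0_ne h
  obtain ⟨h, hA | hB⟩ := field_conj_sig_tw QP hQ hn σ hσ r hord hr0
    (isoToGO QP (CDG.refl QP (u0 n F) Q_u0_ne)) H90 g hpow
  · have hcomm := cHom_refl_comm QP σ hσ (u0 n F) Q_u0_ne (fun i => u0_fixed σ i)
    obtain ⟨d', hd', e⟩ := conj_finish D (phiS QPf σ hσ) (cHom QPf h)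
      (cHom QPf (isoToGO QP (CDG.refl QP (u0 n F) Q_u0_ne))) hcomm (hD2 (u0 n F) Q_u0_ne h)
    exact ⟨d', hd', hA.trans e⟩
  · exfalso
    have := twist_mem_iff D (cHom QPf).range hDN hidx (phiS QPf σ hσ)
      (phiS_conj_cHom_mem _ σ hσ)
      (y₁ := cHom QPf g)
      (y₂ := cHom QPf (isoToGO QP (CDG.refl QP (u0 n F) Q_u0_ne)))
      (c := cHom QPf h) ⟨_, rfl⟩ ⟨_, rfl⟩ ⟨_, rfl⟩ hB
    exact hD3 (u0 n F) Q_u0_ne (this.1 hd)

/-- a non-singular vector with `σ`-fixed entries orthogonal to a given one. -/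
theorem exists_perp_fixed (σ : RingAut F) (v : Fin (n + 1) ⊕ Fin (n + 1) → F)
    (hv : qfPlus (n + 1) F v ≠ 0) (hvfix : ∀ i, σ (v i) = v i) :
    ∃ w : Fin (n + 1) ⊕ Fin (n + 1) → F, qfPlus (n + 1) F w ≠ 0 ∧ (∀ i, σ (w i) = w i) ∧
      QuadraticMap.polar QPf v w = 0 := by
  rw [qfPlus_coe] at hv
  unfold Cfsg.quadFormPlus at hv
  obtain ⟨j, -, hj⟩ := Finset.exists_ne_zero_of_sum_ne_zero hv
  have hj1 : v (Sum.inl j) ≠ 0 := left_ne_zero_of_mul hj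
  have hj2 : v (Sum.inr j) ≠ 0 := right_ne_zero_of_mul hj
  refine ⟨Pi.single (Sum.inl j) (v (Sum.inl j)) - Pi.single (Sum.inr j) (v (Sum.inr j)), ?_, ?_, ?_⟩
  · rw [qfPlus_coe]
    unfold Cfsg.quadFormPlus
    rw [Finset.sum_eq_single j]
    · simp only [Pi.sub_apply, Pi.single_eq_same, ne_eq, reduceCtorEq, not_false_eq_true,
        Pi.single_eq_of_ne, sub_zero, zero_sub]
      rw [mul_neg]
      exact neg_ne_zero.mpr hj
    · intro b _ hb
      have h1 : (Sum.inl b : Fin (n + 1) ⊕ Fin (n + 1)) ≠ Sum.inl j :=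
        fun h => hb (Sum.inl_injective h)
      simp [Pi.single_apply, h1]
    · intro h
      exact absurd (Finset.mem_univ _) h
  · intro i
    rw [Pi.sub_apply, map_sub]
    congr 1
    · by_cases hi : i = Sum.inl j
      · rw [hi, Pi.single_eq_same, hvfix]
      · rw [Pi.single_eq_of_ne hi, map_zero]
    · by_cases hi : i = Sum.inr j
      · rw [hi, Pi.single_eq_same, hvfix]
      · rw [Pi.single_eq_of_ne hi, map_zero]
  · rw [qfPlus_coe, polar_plus, Finset.sum_eq_single j]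
    · simp only [Pi.sub_apply, Pi.single_eq_same, ne_eq, reduceCtorEq, not_false_eq_true,
        Pi.single_eq_of_ne, sub_zero, zero_sub]
      ring
    · intro b _ hb
      have h1 : (Sum.inl b : Fin (n + 1) ⊕ Fin (n + 1)) ≠ Sum.inl j :=
        fun h => hb (Sum.inl_injective h)
      have h2 : (Sum.inr b : Fin (n + 1) ⊕ Fin (n + 1)) ≠ Sum.inr j :=
        fun h => hb (Sum.inr_injective h)
      simp [h1, h2]
    · intro h
      exact absurd (Finset.mem_univ _) h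

set_option maxHeartbeats 3200000 in
/-- the coset theorem for the standard graph-field automorphism of the plus-type form. -/
theorem lang_plus_gf (hn : 7 ≤ Fintype.card (Fin (n + 1) ⊕ Fin (n + 1)))
    (D : Subgroup (MulAut (Cfsg.POmega F QPf)))
    (hDN : D.Normal)
    (hD1 : ∀ δ ∈ D, ∃ g : ↥(GOq QP), δ = cHom QPf g)
    (hD2 : ∀ (u : Fin (n + 1) ⊕ Fin (n + 1) → F) (hu : qfPlus (n + 1) F u ≠ 0) (h : ↥(GOq QP)),
      cHom QPf h ∈ D ∨ cHom QPf h * cHom QPf (isoToGO QP (CDG.refl QP u hu)) ∈ D)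
    (hD3 : ∀ (u : Fin (n + 1) ⊕ Fin (n + 1) → F) (hu : qfPlus (n + 1) F u ≠ 0),
      cHom QPf (isoToGO QP (CDG.refl QP u hu)) ∉ D)
    (σ : RingAut F) (hσ : SigCompat QPf σ) (hord : orderOf σ = 2)
    (v : Fin (n + 1) ⊕ Fin (n + 1) → F) (hv : qfPlus (n + 1) F v ≠ 0) (hvfix : ∀ i, σ (v i) = v i)
    (hx₀ : (cHom QPf (isoToGO QP (CDG.refl QP v hv)) * phiS QPf σ hσ) ^ 2 = 1)
    (d : MulAut (Cfsg.POmega F QPf)) (hd : d ∈ D)
    (hpow : (d * (cHom QPf (isoToGO QP (CDG.refl QP v hv)) * phiS QPf σ hσ)) ^ 2 = 1) :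
    ∃ h ∈ D, d * (cHom QPf (isoToGO QP (CDG.refl QP v hv)) * phiS QPf σ hσ) =
      h * (cHom QPf (isoToGO QP (CDG.refl QP v hv)) * phiS QPf σ hσ) * h⁻¹ := by
  have hQ := qfPlus_nondeg (n + 1) F
  have hσr : σ ^ 2 = 1 := by rw [← hord]; exact pow_orderOf_eq_one σ
  have hinj : ∀ i j, i < 2 → j < 2 → σ ^ i = σ ^ j → i = j := by
    intro i j hi hj hij
    rw [← hord] at hi hj
    exact pow_injOn_Iio_orderOf (Set.mem_Iio.mpr hi) (Set.mem_Iio.mpr hj) hij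
  have H90 : ∀ g : GL (Fin (n + 1) ⊕ Fin (n + 1)) F,
      g ∈ GO QPf → twI σ g 2 = 1 →
      ∃ h : GL (Fin (n + 1) ⊕ Fin (n + 1)) F, h ∈ GO QPf ∧
        (g * glMapEquiv σ h = h ∨ g * glMapEquiv σ h = h *
          ((isoToGO QP (CDG.refl QP (u0 n F) Q_u0_ne) : ↥(GOq QP)) :
            GL (Fin (n + 1) ⊕ Fin (n + 1)) F)) := by
    intro g hg hA
    rw [refl_u0_eq_swap]
    exact h90_GO_plus σ 2 hinj (by norm_num) hσr g hg hA
  obtain ⟨g, rfl⟩ := hD1 d hd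
  have hidx : ∀ x y, x ∈ (cHom QPf).range → y ∈ (cHom QPf).range → x ∉ D → y ∉ D → x * y ∈ D := by
    intro x y hx hy hxD hyD
    refine index_two_of_dichotomy D (cHom QPf).range hDN
      (cHom QPf (isoToGO QP (CDG.refl QP (u0 n F) Q_u0_ne))) ⟨_, rfl⟩ ?_ hx hy hxD hyD
    rintro _ ⟨h, rfl⟩
    exact hD2 (u0 n F) Q_u0_ne h
  -- the two elements of the coset are both conjugate to the twisted standard element
  have key : ∀ y : ↥(GOq QP), cHom QPf y ∉ D → (cHom QPf y * phiS QPf σ hσ) ^ 2 = 1 →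
      ∃ h : ↥(GOq QP), cHom QPf y * phiS QPf σ hσ =
        cHom QPf h * (cHom QPf (isoToGO QP (CDG.refl QP (u0 n F) Q_u0_ne)) * phiS QPf σ hσ) *
          (cHom QPf h)⁻¹ := by
    intro y hyD hy2
    obtain ⟨h, hA | hB⟩ := field_conj_sig_tw QP hQ hn σ hσ 2 hord (by norm_num)
      (isoToGO QP (CDG.refl QP (u0 n F) Q_u0_ne)) H90 y hy2
    · exfalso
      have hA' : cHom QPf y * phiS QPf σ hσ =
          cHom QPf h * (1 * phiS QPf σ hσ) * (cHom QPf h)⁻¹ := by rw [one_mul]; exact hA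
      have := twist_mem_iff D (cHom QPf).range hDN hidx (phiS QPf σ hσ)
        (phiS_conj_cHom_mem _ σ hσ) (y₁ := cHom QPf y) (y₂ := 1) (c := cHom QPf h)
        ⟨_, rfl⟩ (one_mem _) ⟨_, rfl⟩ hA'
      exact hyD (this.2 (one_mem _))
    · exact ⟨h, hB⟩
  have hγvD := hD3 v hv
  have hyD : cHom QPf (g * isoToGO QP (CDG.refl QP v hv)) ∉ D := by
    rw [map_mul]
    intro h
    apply hγvD
    have := D.mul_mem (D.inv_mem hd) h
    rwa [inv_mul_cancel_left] at this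
  have hpow' : (cHom QPf (g * isoToGO QP (CDG.refl QP v hv)) * phiS QPf σ hσ) ^ 2 = 1 := by
    rw [map_mul, mul_assoc]
    exact hpow
  obtain ⟨h₁, e₁⟩ := key _ hyD hpow'
  obtain ⟨h₂, e₂⟩ := key _ hγvD hx₀
  obtain ⟨w, hw, hwfix, hvw⟩ := exists_perp_fixed σ v hv hvfix
  have hcomm1 := cHom_refl_comm QP σ hσ w hw hwfix
  have hcomm2 := cHom_refl_comm_refl QP v w hv hw hvw
  have hcomm : cHom QPf (isoToGO QP (CDG.refl QP w hw)) *
      (cHom QPf (isoToGO QP (CDG.refl QP v hv)) * phiS QPf σ hσ) =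
      (cHom QPf (isoToGO QP (CDG.refl QP v hv)) * phiS QPf σ hσ) *
        cHom QPf (isoToGO QP (CDG.refl QP w hw)) := by
    rw [← mul_assoc, hcomm2, mul_assoc, hcomm1, mul_assoc]
  have hdich := hD2 w hw (h₁ * h₂⁻¹)
  obtain ⟨d', hd', e⟩ := conj_finish D
    (cHom QPf (isoToGO QP (CDG.refl QP v hv)) * phiS QPf σ hσ) (cHom QPf (h₁ * h₂⁻¹))
    (cHom QPf (isoToGO QP (CDG.refl QP w hw))) hcomm hdich
  refine ⟨d', hd', ?_⟩
  rw [← e, ← mul_assoc, ← map_mul, e₁, map_mul, map_inv, e₂]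
  group

end plus

end Cfsg.Agent.Lib.Helper16.OM
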