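import Mathlib
import Cfsg.Agent.Lib.Helper16.OM18
import Cfsg.Agent.Lib.Helper16.H9d

set_option autoImplicit false
set_option linter.unusedSectionVars false
set_option linter.unusedVariables false

/-! Lang-type results for even-dimensional orthogonal groups, part 19: the coset theorem for field
and graph-field automorphisms of plus-type orthogonal groups, all characteristics. -/

namespace Cfsg.Agent.Lib.Helper16.OM

open Matrix Module Cfsg.Agent.Lib.Lead Cfsg.Agent.Lib.Lead.OA Cfsg.Agent.Lib.Helper16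
  Cfsg.Agent.Lib.Helper16.OA Cfsg.Agent.Lib.Helper16.OL Cfsg.Agent.Lib.Helper16.PSC
  Cfsg.Agent.Lib.Helper16.H9

universe u

section plus

variable {F : Type u} [Field F] [Fintype F] {n : ℕ}

set_option quotPrecheck false in
local notation "QP" => (qfPlus (n + 1) F)
set_option quotPrecheck false in
local notation "QPf" => (⇑(qfPlus (n + 1) F) : (Fin (n + 1) ⊕ Fin (n + 1) → F) → F)

set_option maxHeartbeats 4000000 in
/-- the properties of `Inndiag` of the plus-type form used in the coset theorems. -/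
theorem inndiag_plus_data (hn4 : 4 ≤ n) :
    ∃ D : Subgroup (MulAut (Cfsg.POmega F QPf)), Cfsg.inndiagPOmegaPlus (n + 1) F = D ∧
      D.Normal ∧ (∀ δ ∈ D, ∃ g : ↥(GOq QP), δ = cHom QPf g) ∧
      (∀ (u : Fin (n + 1) ⊕ Fin (n + 1) → F) (hu : qfPlus (n + 1) F u ≠ 0) (h : ↥(GOq QP)),
        cHom QPf h ∈ D ∨ cHom QPf h * cHom QPf (isoToGO QP (CDG.refl QP u hu)) ∈ D) ∧
      (∀ (u : Fin (n + 1) ⊕ Fin (n + 1) → F) (hu : qfPlus (n + 1) F u ≠ 0),
        cHom QPf (isoToGO QP (CDG.refl QP u hu)) ∉ D) := by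
  have hQ := qfPlus_nondeg (n + 1) F
  have hne := plus_exists_ne_zero (F := F) (n + 1) (by omega)
  have hcard := card_plus_index (n + 1)
  have hn : 7 ≤ Fintype.card (Fin (n + 1) ⊕ Fin (n + 1)) := by rw [hcard]; omega
  have h9 : 9 ≤ Fintype.card (Fin (n + 1) ⊕ Fin (n + 1)) := by rw [hcard]; omega
  by_cases hch : ringChar F = 2
  · have hcp : CharP F 2 := by
      rw [← hch]; exact ringChar.charP F
    have hcd : Fintype.card F ≠ 2 ∨ Fintype.card (Fin (n + 1) ⊕ Fin (n + 1)) ≠ 4 := by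
      right
      rw [hcard]
      omega
    refine ⟨(Cfsg.Omega F QPf).map (c0 QP), ?_, ?_, ?_, ?_, ?_⟩
    · rw [inndiagPlus_eq_inn_char2 (by omega : 3 ≤ n + 1)]
      exact inn_eq' QP
    · have := inn_normal (Cfsg.POmega F QPf)
      rw [inn_eq' QP] at this
      exact this
    · rintro δ ⟨s, hs, rfl⟩
      exact ⟨isoToGO _ s, rfl⟩
    · intro u hu h
      exact inn_dichotomy QP hQ hne hcd u hu h
    · intro u hu
      exact inn_refl_not_mem QP hQ hn hne hcd u hu
  · have h2 : (2 : F) ≠ 0 := by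
      intro h
      apply hch
      have : CharP F 2 := CharTwo.of_one_ne_zero_of_two_eq_zero one_ne_zero h
      exact ringChar.eq F 2
    refine ⟨(eps QP hne (n + 1)).ker.map (cHom QPf), ?_, ?_, ?_, ?_, ?_⟩
    · exact inndiagPlus_eq h2 hne
    · exact epsKer_normal QP hne (n + 1) (ssHom_surjective QP hQ hn (Or.inl h9))
    · rintro δ ⟨g, hg, rfl⟩
      exact ⟨g, rfl⟩
    · intro u hu h
      exact eps_dichotomy QP hQ hne (n + 1) hcard u hu h
    · intro u hu
      exact eps_refl_not_mem h2 QP hQ hn hne (n + 1) hcard u hu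

set_option maxHeartbeats 4000000 in
theorem S2736_core (hn4 : 4 ≤ n)
    (x δ : MulAut (Cfsg.POmega F (Cfsg.quadFormPlus (n + 1) F)))
    (hx : Cfsg.IsFieldAutClassPOmega (Cfsg.quadFormPlus (n + 1) F) x ∨
      Cfsg.IsGraphFieldAutClassPOmegaPlus (n + 1) x) {r : ℕ} (hr : r.Prime)
    (hxr : orderOf x = r) (hδ : δ ∈ Cfsg.inndiagPOmegaPlus (n + 1) F)
    (hpow : orderOf (δ * x) = r) :
    Cfsg.IsConjUnder (Cfsg.inndiagPOmegaPlus (n + 1) F) x (δ * x) := by
  obtain ⟨D, hDeq, hDN, hD1, hD2, hD3⟩ := inndiag_plus_data (F := F) hn4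
  have hQ := qfPlus_nondeg (n + 1) F
  have hcard := card_plus_index (n + 1)
  have hn : 7 ≤ Fintype.card (Fin (n + 1) ⊕ Fin (n + 1)) := by rw [hcard]; omega
  rw [hDeq] at hδ ⊢
  have hpow1 : (δ * x) ^ r = 1 := by rw [← hpow]; exact pow_orderOf_eq_one _
  rcases hx with ⟨α, φ, σ, hσ1, hfa, hα⟩ | ⟨α, γ, φ, σ, v, ρ, hσ1, hv, hvfix, hρ, hind, hfa, hα⟩
  · -- field automorphisms
    have hσ : SigCompat QPf σ := sigCompat_plus σ (n + 1)
    have hφ : φ = phiS QPf σ hσ := (isFieldAut_iff_phiS QPf σ hσ _).1 hfa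
    have hordφ : orderOf φ = r := by
      rw [← hα, ← hxr]
      have := (MulAut.conj α).orderOf_eq x
      rwa [MulAut.conj_apply] at this
    have hordσ : orderOf (σ : RingAut F) = r := by
      rw [← hordφ, hφ]
      exact (orderOf_phiS QP hQ hn σ hσ).symm
    rw [hφ] at hα
    exact coset_conj_transport D α x _ δ r hα hδ hpow1
      (fun d hd hp => lang_plus_field hn D hDN hD1 hD2 hD3 σ hσ hr.pos hordσ d hd hp)
  · -- graph-field automorphisms
    have hσ : SigCompat QPf σ := sigCompat_plus σ (n + 1)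
    have hφ : φ = phiS QPf σ hσ := (isFieldAut_iff_phiS QPf σ hσ _).1 hfa
    have hv' : qfPlus (n + 1) F v ≠ 0 := hv
    have hρeq : ρ = ((CDG.refl QP v hv' : ↥(Cfsg.isometryGroup F QPf)) :
        GL (Fin (n + 1) ⊕ Fin (n + 1)) F) := by
      apply Units.ext
      rw [hρ, CDG.refl_coe]
      rfl
    have hρmem : ρ ∈ GO QPf := by
      rw [hρeq]
      exact (isoToGO QP (CDG.refl QP v hv')).2
    have hγ : γ = cHom QPf (isoToGO QP (CDG.refl QP v hv')) := by
      have h1 := (induced_iff QPf ρ hρmem γ).1 hind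
      rw [h1]
      congr 1
      apply Subtype.ext
      exact hρeq
    set γv := cHom QPf (isoToGO QP (CDG.refl QP v hv')) with hγv
    set φs := phiS QPf σ hσ with hφs
    have hα' : α * x * α⁻¹ = γv * φs := by
      rw [hα]
      exact congrArg₂ (· * ·) hγ hφ
    have hx₀ord : orderOf (γv * φs) = r := by
      rw [← hα', ← hxr]
      have := (MulAut.conj α).orderOf_eq x
      rwa [MulAut.conj_apply] at this
    have hcomm : γv * φs = φs * γv := cHom_refl_comm QP σ hσ v hv' hvfix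
    have hx₀pow : (γv * φs) ^ r = 1 := by rw [← hx₀ord]; exact pow_orderOf_eq_one _
    have hmulpow : γv ^ r * φs ^ r = 1 := by
      rw [← (Commute.mul_pow (show Commute γv φs from hcomm) r)]
      exact hx₀pow
    have hσr : (σ : RingAut F) ^ r = 1 := by
      apply phiS_mem_pgo QP hQ hn (σ ^ r) (sigCompat_pow hσ r)
      rw [← phiS_pow QPf σ hσ r]
      have h1 : φs ^ r = (γv ^ r)⁻¹ := eq_inv_of_mul_eq_one_right hmulpow
      rw [← hφs, h1, hγv, ← map_pow, ← map_inv]
      exact ⟨_, rfl⟩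
    have hσne : (σ : RingAut F) ≠ 1 := hσ1
    have hordσ : orderOf (σ : RingAut F) = r := by
      have h1 : orderOf (σ : RingAut F) ∣ r := orderOf_dvd_of_pow_eq_one hσr
      rcases (Nat.dvd_prime hr).mp h1 with h2 | h2
      · exact absurd (orderOf_eq_one_iff.mp h2) hσne
      · exact h2
    have hφr : φs ^ r = 1 := by
      rw [hφs, phiS_pow]
      rw [phiS_congr QPf hσr (sigCompat_pow hσ r) (sigCompat_one _)]
      exact phiS_one _ _
    have hγr : γv ^ r = 1 := by
      rw [hφr, mul_one] at hmulpow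
      exact hmulpow
    have hγ2 : γv ^ 2 = 1 := by
      rw [hγv, ← map_pow, ← map_pow]
      have : (CDG.refl QP v hv') ^ 2 = 1 := by
        rw [pow_two]
        exact CDG.Rset_sq QP _ (CDG.refl_mem QP v hv')
      rw [this, map_one, map_one]
    have hγne : γv ≠ 1 := by
      intro h
      apply hD3 v hv'
      rw [← hγv, h]
      exact one_mem _
    have hr2 : r = 2 := by
      have h1 : orderOf γv = 2 := orderOf_eq_prime hγ2 hγne
      have h2 : 2 ∣ r := by
        rw [← h1]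
        exact orderOf_dvd_of_pow_eq_one hγr
      exact ((Nat.prime_dvd_prime_iff_eq Nat.prime_two hr).mp h2).symm
    subst hr2
    exact coset_conj_transport D α x _ δ 2 hα' hδ hpow1
      (fun d hd hp => lang_plus_gf hn D hDN hD1 hD2 hD3 σ hσ hordσ v hv' hvfix hx₀pow d hd hp)

theorem S2736_aux {m : ℕ} (hm : 5 ≤ m)
    (x δ : MulAut (Cfsg.POmega F (Cfsg.quadFormPlus m F)))
    (hx : Cfsg.IsFieldAutClassPOmega (Cfsg.quadFormPlus m F) x ∨
      Cfsg.IsGraphFieldAutClassPOmegaPlus m x) {r : ℕ} (hr : r.Prime)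
    (hxr : orderOf x = r) (hδ : δ ∈ Cfsg.inndiagPOmegaPlus m F) :
    orderOf (δ * x) = r ↔ Cfsg.IsConjUnder (Cfsg.inndiagPOmegaPlus m F) x (δ * x) := by
  obtain ⟨n, rfl⟩ : ∃ n, m = n + 1 := ⟨m - 1, by omega⟩
  constructor
  · intro hpow
    exact S2736_core (by omega) x δ hx hr hxr hδ hpow
  · rintro ⟨h, hh, e⟩
    rw [e]
    have := (MulAut.conj h).orderOf_eq x
    rw [MulAut.conj_apply] at this
    rw [this, hxr]

end plus

end Cfsg.Agent.Lib.Helper16.OM
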