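import Mathlib
import Cfsg.Agent.Lib.Helper16.OM19

set_option autoImplicit false
set_option linter.unusedSectionVars false
set_option linter.unusedVariables false

/-! Lang-type results for even-dimensional orthogonal groups, part 20: base change of similarities;
the centraliser of a standard field automorphism in the image of the similarity group. -/

namespace Cfsg.Agent.Lib.Helper16.OM

open Matrix Module Cfsg.Agent.Lib.Lead Cfsg.Agent.Lib.Lead.OA Cfsg.Agent.Lib.Helper16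
  Cfsg.Agent.Lib.Helper16.OA Cfsg.Agent.Lib.Helper16.OL Cfsg.Agent.Lib.Helper16.PSC
  Cfsg.Agent.Lib.Helper16.H9

universe u v

section base

variable {ι : Type} [Fintype ι] [DecidableEq ι] {F : Type u} [Field F] {F₀ : Type v} [Field F₀]

theorem inclI_mem_GO (j : F₀ →+* F) (Q₀ : QuadraticForm F₀ (ι → F₀)) (Q : QuadraticForm F (ι → F))
    (hc : BaseCompat j (⇑Q₀) (⇑Q)) (h : GL ι F₀) (hh : h ∈ GO (⇑Q₀ : (ι → F₀) → F₀)) :
    inclI j h ∈ GO (⇑Q : (ι → F) → F) := by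
  obtain ⟨c, hcc⟩ := hh
  refine ⟨Units.map (j : F₀ →* F) c, fun w => ?_⟩
  have := sim_ext j Q₀ Q hc Q₀ Q hc (h : Matrix ι ι F₀) (c : F₀) hcc w
  rw [inclI_val]
  exact this

/-- base change of similarities. -/
noncomputable def inclGO (j : F₀ →+* F) (Q₀ : QuadraticForm F₀ (ι → F₀))
    (Q : QuadraticForm F (ι → F)) (hc : BaseCompat j (⇑Q₀) (⇑Q)) :
    ↥(GO (⇑Q₀ : (ι → F₀) → F₀)) →* ↥(GO (⇑Q : (ι → F) → F)) where
  toFun h := ⟨inclI j (h : GL ι F₀), inclI_mem_GO j Q₀ Q hc _ h.2⟩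
  map_one' := Subtype.ext (map_one (inclI j))
  map_mul' a b := Subtype.ext (map_mul (inclI j) _ _)

theorem inclGO_coe (j : F₀ →+* F) (Q₀ : QuadraticForm F₀ (ι → F₀))
    (Q : QuadraticForm F (ι → F)) (hc : BaseCompat j (⇑Q₀) (⇑Q))
    (h : ↥(GO (⇑Q₀ : (ι → F₀) → F₀))) :
    ((inclGO j Q₀ Q hc h : ↥(GO (⇑Q : (ι → F) → F))) : GL ι F) = inclI j (h : GL ι F₀) := rfl

theorem glMapEquiv_inclI (j : F₀ →+* F) (σ : RingAut F) (hj : ∀ y, σ (j y) = j y) (h : GL ι F₀) :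
    glMapEquiv σ (inclI j h) = inclI j h := by
  apply Units.ext
  rw [glMapEquiv_val, inclI_val]
  ext a b
  rw [Matrix.map_apply, Matrix.map_apply]
  exact hj _

theorem exists_inclI_of_fixed (j : F₀ →+* F) (σ : RingAut F)
    (hj : ∀ x, (∃ y, j y = x) ↔ σ x = x) (g : GL ι F) (hg : glMapEquiv σ g = g) :
    ∃ H : GL ι F₀, inclI j H = g := by
  classical
  set gm : Matrix ι ι F := (g : Matrix ι ι F) with hgm
  have hfix : ∀ a b, ∃ y : F₀, j y = gm a b := by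
    intro a b
    rw [hj]
    have := congrArg (fun g : GL ι F => (g : Matrix ι ι F) a b) hg
    simp only [glMapEquiv_val, Matrix.map_apply] at this
    exact this
  choose H₀ hH₀ using hfix
  set Hm : Matrix ι ι F₀ := Matrix.of H₀ with hHm
  have hHmap : Hm.map ⇑j = gm := by
    ext a b
    rw [Matrix.map_apply, ← hH₀ a b]
    rfl
  have hdetg : gm.det ≠ 0 := by
    have h1 : IsUnit gm.det := (Matrix.isUnit_iff_isUnit_det _).mp g.isUnit
    exact h1.ne_zero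
  have hdetH : Hm.det ≠ 0 := by
    intro h0
    apply hdetg
    rw [← hHmap]
    have := RingHom.map_det j Hm
    rw [RingHom.mapMatrix_apply] at this
    rw [← this, h0, map_zero]
  refine ⟨Matrix.GeneralLinearGroup.mkOfDetNeZero Hm hdetH, ?_⟩
  apply Units.ext
  rw [inclI_val]
  exact hHmap

theorem mem_GO_of_inclI (j : F₀ →+* F) (Q₀ : QuadraticForm F₀ (ι → F₀))
    (Q : QuadraticForm F (ι → F)) (hc : BaseCompat j (⇑Q₀) (⇑Q)) (hne₀ : ∃ v, Q₀ v ≠ 0)
    (H : GL ι F₀) (hH : inclI j H ∈ GO (⇑Q : (ι → F) → F)) : H ∈ GO (⇑Q₀ : (ι → F₀) → F₀) := by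
  obtain ⟨c, hcc⟩ := hH
  obtain ⟨v₀, hv₀⟩ := hne₀
  have key : ∀ v : ι → F₀, j (Q₀ ((H : Matrix ι ι F₀) *ᵥ v)) = (c : F) * j (Q₀ v) := by
    intro v
    have h1 := hcc (fun i => j (v i))
    rw [inclI_val, mulVec_map_base, hc, hc] at h1
    exact h1
  have hjv₀ : j (Q₀ v₀) ≠ 0 := fun h => hv₀ (j.injective (by rw [h, map_zero]))
  set c₀ : F₀ := Q₀ ((H : Matrix ι ι F₀) *ᵥ v₀) / Q₀ v₀ with hc₀
  have hcj : (c : F) = j c₀ := by
    rw [hc₀, map_div₀, key v₀]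
    field_simp
  have hc₀0 : c₀ ≠ 0 := by
    intro h
    rw [h, map_zero] at hcj
    exact Units.ne_zero c hcj
  refine ⟨Units.mk0 c₀ hc₀0, fun v => ?_⟩
  apply j.injective
  rw [key v, hcj, Units.val_mk0, map_mul]

end base

section cent

variable {ι : Type} [Fintype ι] [DecidableEq ι] {F : Type u} [Field F] [Fintype F]
  {F₀ : Type v} [Field F₀]

theorem glMapEquiv_pow_of_scalar (σ : RingAut F) (g : GL ι F) (c : Fˣ)
    (h : glMapEquiv σ g = g * scI ι c) (k : ℕ) :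
    glMapEquiv (σ ^ k) g = g * scI ι (nu σ c k) := by
  induction k with
  | zero => rw [pow_zero, glMapEquiv_one_aut, nu_zero, map_one, mul_one]
  | succ k ih =>
    rw [pow_succ', glMapEquiv_mul_aut, ih, map_mul, h, glMapEquiv_scI, mul_assoc, ← map_mul,
      nu_succ]

/-- the automorphisms induced by the similarities over the subfield. -/
noncomputable def LamG (j : F₀ →+* F) (Q₀ : QuadraticForm F₀ (ι → F₀))
    (Q : QuadraticForm F (ι → F)) (hc : BaseCompat j (⇑Q₀) (⇑Q)) :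
    ↥(GO (⇑Q₀ : (ι → F₀) → F₀)) →* MulAut (Cfsg.POmega F (⇑Q : (ι → F) → F)) :=
  (cHom (⇑Q : (ι → F) → F)).comp (inclGO j Q₀ Q hc)

theorem LamG_apply (j : F₀ →+* F) (Q₀ : QuadraticForm F₀ (ι → F₀))
    (Q : QuadraticForm F (ι → F)) (hc : BaseCompat j (⇑Q₀) (⇑Q))
    (h : ↥(GO (⇑Q₀ : (ι → F₀) → F₀))) :
    LamG j Q₀ Q hc h = cHom (⇑Q : (ι → F) → F) (inclGO j Q₀ Q hc h) := rfl

theorem LamG_range (j : F₀ →+* F) (Q₀ : QuadraticForm F₀ (ι → F₀))
    (Q : QuadraticForm F (ι → F)) (hc : BaseCompat j (⇑Q₀) (⇑Q))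
    (hQ : (QuadraticMap.polarBilin Q).Nondegenerate) (hn : 7 ≤ Fintype.card ι)
    (hne₀ : ∃ v, Q₀ v ≠ 0) (σ : RingAut F) (hσ : SigCompat (⇑Q : (ι → F) → F) σ) (r : ℕ)
    (hord : orderOf σ = r) (hr0 : 0 < r) (hj : ∀ x, (∃ y, j y = x) ↔ σ x = x) :
    (LamG j Q₀ Q hc).range =
      (cHom (⇑Q : (ι → F) → F)).range ⊓
        Subgroup.centralizer {phiS (⇑Q : (ι → F) → F) σ hσ} := by
  have hnei : Nonempty ι := by
    rw [← Fintype.card_pos_iff]; omega
  have hσr : σ ^ r = 1 := by rw [← hord]; exact pow_orderOf_eq_one σ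
  have hinj : ∀ i j, i < r → j < r → σ ^ i = σ ^ j → i = j := by
    intro i j hi hj hij
    rw [← hord] at hi hj
    exact pow_injOn_Iio_orderOf (Set.mem_Iio.mpr hi) (Set.mem_Iio.mpr hj) hij
  ext y
  constructor
  · rintro ⟨H, rfl⟩
    refine ⟨⟨_, rfl⟩, ?_⟩
    show _ ∈ Subgroup.centralizer {phiS (⇑Q : (ι → F) → F) σ hσ}
    rw [Subgroup.mem_centralizer_iff]
    intro z hz
    rw [Set.mem_singleton_iff] at hz
    subst hz
    rw [LamG_apply, phiS_mul_cHom]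
    congr 2
    apply Subtype.ext
    show glMapEquiv σ (inclI j (H : GL ι F₀)) = inclI j (H : GL ι F₀)
    exact glMapEquiv_inclI j σ (fun y => (hj _).mp ⟨y, rfl⟩) _
  · rintro ⟨⟨g, rfl⟩, hcen⟩
    have hcen' : cHom (⇑Q : (ι → F) → F) g ∈
        Subgroup.centralizer {phiS (⇑Q : (ι → F) → F) σ hσ} := hcen
    rw [Subgroup.mem_centralizer_iff] at hcen'
    have h1 := hcen' _ (Set.mem_singleton _)
    rw [phiS_mul_cHom, mul_left_inj] at h1
    obtain ⟨g, hg⟩ := g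
    have h2 : cHom (⇑Q : (ι → F) → F)
        ((⟨g, hg⟩ : ↥(GO (⇑Q : (ι → F) → F)))⁻¹ *
          ⟨glMapEquiv σ g, glMapEquiv_mem_GO_sig hσ hg⟩) = 1 := by
      rw [map_mul, map_inv, h1, inv_mul_cancel]
    obtain ⟨d, hd⟩ := cHom_ker_scalar Q hQ hn _ h2
    have hd' : ((g⁻¹ * glMapEquiv σ g : GL ι F) : Matrix ι ι F) = d • (1 : Matrix ι ι F) := hd
    have hd0 : d ≠ 0 := by
      rintro rfl
      have h3 : IsUnit ((g⁻¹ * glMapEquiv σ g : GL ι F) : Matrix ι ι F).det :=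
        (Matrix.isUnit_iff_isUnit_det _).mp (Units.isUnit _)
      rw [hd', zero_smul, Matrix.det_zero] at h3
      exact not_isUnit_zero h3
    set c : Fˣ := Units.mk0 d hd0 with hcdef
    have hgc : glMapEquiv σ g = g * scI ι c := by
      have h3 : g⁻¹ * glMapEquiv σ g = scI ι c := by
        apply Units.ext
        rw [hd', scI_val, hcdef, Units.val_mk0]
      rw [← h3, mul_inv_cancel_left]
    have hnu : nu σ c r = 1 := by
      have h3 := glMapEquiv_pow_of_scalar σ g c hgc r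
      rw [hσr, glMapEquiv_one_aut] at h3
      have h4 : scI ι (nu σ c r) = scI ι (1 : Fˣ) := by
        rw [map_one]
        exact (mul_left_cancel (a := g) (by rw [mul_one]; exact h3.symm))
      exact scI_injective h4
    obtain ⟨e, he⟩ := h90_units σ r hinj hr0 hσr c hnu
    set g' : GL ι F := g * scI ι e with hg'
    have hg'mem : g' ∈ GO (⇑Q : (ι → F) → F) := mul_mem hg (scI_mem_GO Q _)
    have hg'fix : glMapEquiv σ g' = g' := by
      rw [hg', map_mul, hgc, glMapEquiv_scI, mul_assoc, ← map_mul, he]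
    obtain ⟨H, hH⟩ := exists_inclI_of_fixed j σ hj g' hg'fix
    have hHmem : H ∈ GO (⇑Q₀ : (ι → F₀) → F₀) := by
      apply mem_GO_of_inclI j Q₀ Q hc hne₀
      rw [hH]
      exact hg'mem
    refine ⟨⟨H, hHmem⟩, ?_⟩
    rw [LamG_apply]
    have e1 : inclGO j Q₀ Q hc ⟨H, hHmem⟩ =
        (⟨g, hg⟩ : ↥(GO (⇑Q : (ι → F) → F))) * ⟨scI ι e, scI_mem_GO Q _⟩ := by
      apply Subtype.ext
      rw [inclGO_coe]
      exact hH
    rw [e1, map_mul, scalar_cHom_eq_one (⇑Q : (ι → F) → F) ⟨scI ι e, scI_mem_GO Q _⟩ _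
      (scI_val e), mul_one]

end cent

end Cfsg.Agent.Lib.Helper16.OM
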