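import Mathlib
import Cfsg.Agent.Lib.Helper16.OM20

set_option autoImplicit false
set_option linter.unusedSectionVars false
set_option linter.unusedVariables false

/-! Lang-type results for even-dimensional orthogonal groups, part 21: base change of multipliers,
determinants and reflections; the kernel of the base-change map to automorphisms. -/

namespace Cfsg.Agent.Lib.Helper16.OM

open Matrix Module Cfsg.Agent.Lib.Lead Cfsg.Agent.Lib.Lead.OA Cfsg.Agent.Lib.Helper16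
  Cfsg.Agent.Lib.Helper16.OA Cfsg.Agent.Lib.Helper16.OL Cfsg.Agent.Lib.Helper16.PSC
  Cfsg.Agent.Lib.Helper16.H9

universe u v

section base

variable {ι : Type} [Fintype ι] [DecidableEq ι] {F : Type u} [Field F] {F₀ : Type v} [Field F₀]

theorem mult_inclGO (j : F₀ →+* F) (Q₀ : QuadraticForm F₀ (ι → F₀)) (Q : QuadraticForm F (ι → F))
    (hc : BaseCompat j (⇑Q₀) (⇑Q)) (hne : ∃ v, Q v ≠ 0) (g₀ : ↥(GOq Q₀)) :
    mult Q (inclGO j Q₀ Q hc g₀) = Units.map (j : F₀ →* F) (mult Q₀ g₀) := by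
  apply mult_unique Q hne
  intro w
  have := sim_ext j Q₀ Q hc Q₀ Q hc ((g₀ : GL ι F₀) : Matrix ι ι F₀) (mult Q₀ g₀ : F₀)
    (mult_spec Q₀ g₀) w
  rw [inclGO_coe, inclI_val]
  exact this

theorem detGO_inclGO (j : F₀ →+* F) (Q₀ : QuadraticForm F₀ (ι → F₀)) (Q : QuadraticForm F (ι → F))
    (hc : BaseCompat j (⇑Q₀) (⇑Q)) (g₀ : ↥(GOq Q₀)) :
    detGO Q (inclGO j Q₀ Q hc g₀) = Units.map (j : F₀ →* F) (detGO Q₀ g₀) := by
  apply Units.ext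
  rw [detGO_coe, inclGO_coe, inclI_val]
  show _ = j ((detGO Q₀ g₀ : F₀ˣ) : F₀)
  rw [detGO_coe]
  have := RingHom.map_det j ((g₀ : GL ι F₀) : Matrix ι ι F₀)
  rw [RingHom.mapMatrix_apply] at this
  exact this.symm

theorem unitsMap_injective (j : F₀ →+* F) : Function.Injective (Units.map (j : F₀ →* F)) := by
  intro a b hab
  apply Units.ext
  apply j.injective
  have := congrArg (fun x : Fˣ => (x : F)) hab
  exact this

theorem inclGO_isoToGO (j : F₀ →+* F) (Q₀ : QuadraticForm F₀ (ι → F₀))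
    (Q : QuadraticForm F (ι → F)) (hc : BaseCompat j (⇑Q₀) (⇑Q))
    (s₀ : ↥(Cfsg.isometryGroup F₀ (⇑Q₀ : (ι → F₀) → F₀))) :
    inclGO j Q₀ Q hc (isoToGO Q₀ s₀) = isoToGO Q (inclIsoG j Q₀ Q hc s₀) := by
  apply Subtype.ext
  rfl

theorem inclIsoG_refl (j : F₀ →+* F) (Q₀ : QuadraticForm F₀ (ι → F₀))
    (Q : QuadraticForm F (ι → F)) (hc : BaseCompat j (⇑Q₀) (⇑Q)) (u₀ : ι → F₀) (hu₀ : Q₀ u₀ ≠ 0)
    (hu : Q (fun i => j (u₀ i)) ≠ 0) :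
    inclIsoG j Q₀ Q hc (CDG.refl Q₀ u₀ hu₀) = CDG.refl Q (fun i => j (u₀ i)) hu := by
  apply Subtype.ext
  apply Units.ext
  rw [inclIsoG_coe, CDG.refl_coe, CDG.refl_coe]
  exact reflectionMatrix_base j Q₀ Q hc u₀

theorem base_ne_zero (j : F₀ →+* F) (Q₀ : QuadraticForm F₀ (ι → F₀))
    (Q : QuadraticForm F (ι → F)) (hc : BaseCompat j (⇑Q₀) (⇑Q)) (u₀ : ι → F₀) (hu₀ : Q₀ u₀ ≠ 0) :
    Q (fun i => j (u₀ i)) ≠ 0 := by
  rw [hc u₀]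
  exact fun h => hu₀ (j.injective (by rw [h, map_zero]))

theorem inclGO_scalar (j : F₀ →+* F) (Q₀ : QuadraticForm F₀ (ι → F₀))
    (Q : QuadraticForm F (ι → F)) (hc : BaseCompat j (⇑Q₀) (⇑Q)) (g₀ : ↥(GOq Q₀)) (d₀ : F₀)
    (h : ((g₀ : GL ι F₀) : Matrix ι ι F₀) = d₀ • (1 : Matrix ι ι F₀)) :
    (((inclGO j Q₀ Q hc g₀ : ↥(GOq Q)) : GL ι F) : Matrix ι ι F) = j d₀ • (1 : Matrix ι ι F) := by
  rw [inclGO_coe, inclI_val, h]
  ext a b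
  rw [Matrix.map_apply, Matrix.smul_apply, Matrix.smul_apply, smul_eq_mul, smul_eq_mul, map_mul]
  by_cases hab : a = b
  · rw [hab, Matrix.one_apply_eq, Matrix.one_apply_eq, map_one]
  · rw [Matrix.one_apply_ne hab, Matrix.one_apply_ne hab, map_zero]

theorem scalar_of_inclGO (j : F₀ →+* F) (Q₀ : QuadraticForm F₀ (ι → F₀))
    (Q : QuadraticForm F (ι → F)) (hc : BaseCompat j (⇑Q₀) (⇑Q)) (g₀ : ↥(GOq Q₀)) (d : F)
    (h : (((inclGO j Q₀ Q hc g₀ : ↥(GOq Q)) : GL ι F) : Matrix ι ι F) = d • (1 : Matrix ι ι F))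
    (hnei : Nonempty ι) :
    ∃ d₀ : F₀, ((g₀ : GL ι F₀) : Matrix ι ι F₀) = d₀ • (1 : Matrix ι ι F₀) := by
  obtain ⟨i₀⟩ := hnei
  refine ⟨((g₀ : GL ι F₀) : Matrix ι ι F₀) i₀ i₀, ?_⟩
  rw [inclGO_coe, inclI_val] at h
  have hent : ∀ a b, j (((g₀ : GL ι F₀) : Matrix ι ι F₀) a b) = (d • (1 : Matrix ι ι F)) a b := by
    intro a b
    rw [← h, Matrix.map_apply]
  ext a b
  apply j.injective
  rw [hent a b, Matrix.smul_apply, Matrix.smul_apply, smul_eq_mul, smul_eq_mul, map_mul, hent i₀ i₀,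
    Matrix.smul_apply, smul_eq_mul, Matrix.one_apply_eq, mul_one]
  by_cases hab : a = b
  · rw [hab, Matrix.one_apply_eq, Matrix.one_apply_eq, map_one]
  · rw [Matrix.one_apply_ne hab, Matrix.one_apply_ne hab, map_zero]

end base

section ker

variable {ι : Type} [Fintype ι] [DecidableEq ι] {F : Type u} [Field F] [Fintype F]
  {F₀ : Type v} [Field F₀] [Fintype F₀]

theorem eps_inclGO (j : F₀ →+* F) (Q₀ : QuadraticForm F₀ (ι → F₀)) (Q : QuadraticForm F (ι → F))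
    (hc : BaseCompat j (⇑Q₀) (⇑Q)) (hne₀ : ∃ v, Q₀ v ≠ 0) (hne : ∃ v, Q v ≠ 0) (k : ℕ)
    (g₀ : ↥(GOq Q₀)) :
    eps Q hne k (inclGO j Q₀ Q hc g₀) = Units.map (j : F₀ →* F) (eps Q₀ hne₀ k g₀) := by
  rw [eps_apply, eps_apply, mult_inclGO j Q₀ Q hc hne, detGO_inclGO, map_mul, map_inv, map_pow]

theorem LamG_eq_one_iff (j : F₀ →+* F) (Q₀ : QuadraticForm F₀ (ι → F₀))
    (Q : QuadraticForm F (ι → F)) (hc : BaseCompat j (⇑Q₀) (⇑Q))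
    (hQ₀ : (QuadraticMap.polarBilin Q₀).Nondegenerate)
    (hQ : (QuadraticMap.polarBilin Q).Nondegenerate) (hn : 7 ≤ Fintype.card ι)
    (g₀ : ↥(GOq Q₀)) :
    LamG j Q₀ Q hc g₀ = 1 ↔ cHom (⇑Q₀ : (ι → F₀) → F₀) g₀ = 1 := by
  have hnei : Nonempty ι := by
    rw [← Fintype.card_pos_iff]; omega
  rw [LamG_apply]
  constructor
  · intro h
    obtain ⟨d, hd⟩ := cHom_ker_scalar Q hQ hn _ h
    obtain ⟨d₀, hd₀⟩ := scalar_of_inclGO j Q₀ Q hc g₀ d hd hnei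
    exact scalar_cHom_eq_one _ g₀ d₀ hd₀
  · intro h
    obtain ⟨d₀, hd₀⟩ := cHom_ker_scalar Q₀ hQ₀ hn _ h
    exact scalar_cHom_eq_one _ _ (j d₀) (inclGO_scalar j Q₀ Q hc g₀ d₀ hd₀)

theorem cHom_mem_epsKer_iff (Q : QuadraticForm F (ι → F))
    (hQ : (QuadraticMap.polarBilin Q).Nondegenerate) (hn : 7 ≤ Fintype.card ι)
    (hne : ∃ v, Q v ≠ 0) (k : ℕ) (hcard : Fintype.card ι = 2 * k) (g : ↥(GOq Q)) :
    cHom (⇑Q : (ι → F) → F) g ∈ (eps Q hne k).ker.map (cHom (⇑Q : (ι → F) → F)) ↔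
      eps Q hne k g = 1 := by
  constructor
  · rintro ⟨g', hg', hgg⟩
    have hg1 : eps Q hne k g' = 1 := MonoidHom.mem_ker.mp hg'
    have h1 : cHom (⇑Q : (ι → F) → F) (g'⁻¹ * g) = 1 := by
      rw [map_mul, map_inv, hgg, inv_mul_cancel]
    obtain ⟨d, hd⟩ := cHom_ker_scalar Q hQ hn _ h1
    have hnei : Nonempty ι := by
      rw [← Fintype.card_pos_iff]; omega
    have hd0 : d ≠ 0 := by
      rintro rfl
      have h3 : IsUnit (((g'⁻¹ * g : ↥(GOq Q)) : GL ι F) : Matrix ι ι F).det :=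
        (Matrix.isUnit_iff_isUnit_det _).mp (Units.isUnit _)
      rw [hd, zero_smul, Matrix.det_zero] at h3
      exact not_isUnit_zero h3
    have h2 : g'⁻¹ * g = scalGO Q (Units.mk0 d hd0) := by
      apply Subtype.ext
      apply Units.ext
      rw [hd, scalGO_coe, Units.val_mk0]
    have h3 : g = g' * scalGO Q (Units.mk0 d hd0) := by
      rw [← h2, mul_inv_cancel_left]
    rw [h3, map_mul, hg1, eps_scal Q hne k hcard, mul_one]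
  · intro h
    exact ⟨g, MonoidHom.mem_ker.mpr h, rfl⟩

theorem K1_odd (j : F₀ →+* F) (Q₀ : QuadraticForm F₀ (ι → F₀))
    (Q : QuadraticForm F (ι → F)) (hc : BaseCompat j (⇑Q₀) (⇑Q))
    (hQ₀ : (QuadraticMap.polarBilin Q₀).Nondegenerate)
    (hQ : (QuadraticMap.polarBilin Q).Nondegenerate) (hn : 7 ≤ Fintype.card ι)
    (hne₀ : ∃ v, Q₀ v ≠ 0) (hne : ∃ v, Q v ≠ 0) (k : ℕ) (hcard : Fintype.card ι = 2 * k)
    (g₀ : ↥(GOq Q₀)) :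
    cHom (⇑Q₀ : (ι → F₀) → F₀) g₀ ∈ (eps Q₀ hne₀ k).ker.map (cHom (⇑Q₀ : (ι → F₀) → F₀)) ↔
      LamG j Q₀ Q hc g₀ ∈ (eps Q hne k).ker.map (cHom (⇑Q : (ι → F) → F)) := by
  rw [LamG_apply, cHom_mem_epsKer_iff Q₀ hQ₀ hn hne₀ k hcard,
    cHom_mem_epsKer_iff Q hQ hn hne k hcard, eps_inclGO j Q₀ Q hc hne₀ hne]
  constructor
  · intro h
    rw [h, map_one]
  · intro h
    apply unitsMap_injective j
    rw [h, map_one]

theorem inclIsoG_mem_omega (j : F₀ →+* F) (Q₀ : QuadraticForm F₀ (ι → F₀))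
    (Q : QuadraticForm F (ι → F)) (hc : BaseCompat j (⇑Q₀) (⇑Q))
    (s₀ : ↥(Cfsg.isometryGroup F₀ (⇑Q₀ : (ι → F₀) → F₀)))
    (hs₀ : s₀ ∈ Cfsg.Omega F₀ (⇑Q₀ : (ι → F₀) → F₀)) :
    inclIsoG j Q₀ Q hc s₀ ∈ Cfsg.Omega F (⇑Q : (ι → F) → F) := by
  have h1 : (commutator ↥(Cfsg.isometryGroup F₀ (⇑Q₀ : (ι → F₀) → F₀))).map (inclIsoG j Q₀ Q hc) ≤
      commutator ↥(Cfsg.isometryGroup F (⇑Q : (ι → F) → F)) := by
    rw [commutator_def, commutator_def, Subgroup.map_commutator]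
    exact Subgroup.commutator_mono le_top le_top
  exact h1 ⟨s₀, hs₀, rfl⟩

theorem K1_char2 [CharP F 2] [CharP F₀ 2] (j : F₀ →+* F) (Q₀ : QuadraticForm F₀ (ι → F₀))
    (Q : QuadraticForm F (ι → F)) (hc : BaseCompat j (⇑Q₀) (⇑Q))
    (hQ₀ : (QuadraticMap.polarBilin Q₀).Nondegenerate)
    (hQ : (QuadraticMap.polarBilin Q).Nondegenerate) (hn : 7 ≤ Fintype.card ι)
    (hne₀ : ∃ v, Q₀ v ≠ 0) (hne : ∃ v, Q v ≠ 0) (g₀ : ↥(GOq Q₀)) :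
    cHom (⇑Q₀ : (ι → F₀) → F₀) g₀ ∈ (Cfsg.Omega F₀ (⇑Q₀ : (ι → F₀) → F₀)).map (c0 Q₀) ↔
      LamG j Q₀ Q hc g₀ ∈ (Cfsg.Omega F (⇑Q : (ι → F) → F)).map (c0 Q) := by
  have hfwd : ∀ g₀ : ↥(GOq Q₀),
      cHom (⇑Q₀ : (ι → F₀) → F₀) g₀ ∈ (Cfsg.Omega F₀ (⇑Q₀ : (ι → F₀) → F₀)).map (c0 Q₀) →
      LamG j Q₀ Q hc g₀ ∈ (Cfsg.Omega F (⇑Q : (ι → F) → F)).map (c0 Q) := by
    rintro g₀ ⟨s₀, hs₀, hsg⟩
    rw [c0_apply] at hsg
    have h1 : cHom (⇑Q₀ : (ι → F₀) → F₀) (g₀⁻¹ * isoToGO Q₀ s₀) = 1 := by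
      rw [map_mul, map_inv, hsg, inv_mul_cancel]
    have h2 := (LamG_eq_one_iff j Q₀ Q hc hQ₀ hQ hn _).mpr h1
    rw [map_mul, map_inv, inv_mul_eq_one] at h2
    rw [h2]
    refine ⟨inclIsoG j Q₀ Q hc s₀, inclIsoG_mem_omega j Q₀ Q hc s₀ hs₀, ?_⟩
    rw [c0_apply, LamG_apply, inclGO_isoToGO]
  refine ⟨hfwd g₀, fun h => ?_⟩
  by_contra hcon
  obtain ⟨u₀, hu₀⟩ := hne₀
  have hcd₀ : Fintype.card F₀ ≠ 2 ∨ Fintype.card ι ≠ 4 := Or.inr (by omega)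
  have hcd : Fintype.card F ≠ 2 ∨ Fintype.card ι ≠ 4 := Or.inr (by omega)
  rcases inn_dichotomy Q₀ hQ₀ ⟨u₀, hu₀⟩ hcd₀ u₀ hu₀ g₀ with h1 | h1
  · exact hcon h1
  · rw [← map_mul] at h1
    have h2 := hfwd _ h1
    rw [map_mul] at h2
    have h3 := (Subgroup.mul_mem_cancel_left _ h).mp h2
    have hu := base_ne_zero j Q₀ Q hc u₀ hu₀
    rw [LamG_apply, inclGO_isoToGO, inclIsoG_refl j Q₀ Q hc u₀ hu₀ hu] at h3
    exact inn_refl_not_mem Q hQ hn hne hcd _ hu h3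

end ker

end Cfsg.Agent.Lib.Helper16.OM
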