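import Mathlib
import Cfsg.Agent.Lib.Helper16.OM21

set_option autoImplicit false
set_option linter.unusedSectionVars false
set_option linter.unusedVariables false

/-! Lang-type results for even-dimensional orthogonal groups, part 22: the centraliser of a standard
field automorphism in the inner-diagonal group of a minus-type group. -/

namespace Cfsg.Agent.Lib.Helper16.OM

open Matrix Module Cfsg.Agent.Lib.Lead Cfsg.Agent.Lib.Lead.OA Cfsg.Agent.Lib.Helper16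
  Cfsg.Agent.Lib.Helper16.OA Cfsg.Agent.Lib.Helper16.OL Cfsg.Agent.Lib.Helper16.PSC
  Cfsg.Agent.Lib.Helper16.H9

universe u v

section gen

variable {ι : Type} [Fintype ι] [DecidableEq ι] {F : Type u} [Field F] [Fintype F]
  {F₀ : Type v} [Field F₀] [Fintype F₀]

/-- the centraliser of the standard field automorphism in a subgroup of the image of the similarity
group which is compatible with base change. -/
theorem centIso_of_K1 (j : F₀ →+* F) (Q₀ : QuadraticForm F₀ (ι → F₀))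
    (Q : QuadraticForm F (ι → F)) (hc : BaseCompat j (⇑Q₀) (⇑Q))
    (hQ₀ : (QuadraticMap.polarBilin Q₀).Nondegenerate)
    (hQ : (QuadraticMap.polarBilin Q).Nondegenerate) (hn : 7 ≤ Fintype.card ι)
    (hne₀ : ∃ v, Q₀ v ≠ 0) (σ : RingAut F) (hσ : SigCompat (⇑Q : (ι → F) → F) σ) (r : ℕ)
    (hord : orderOf σ = r) (hr0 : 0 < r) (hj : ∀ x, (∃ y, j y = x) ↔ σ x = x)
    (D₀ : Subgroup (MulAut (Cfsg.POmega F₀ (⇑Q₀ : (ι → F₀) → F₀))))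
    (D : Subgroup (MulAut (Cfsg.POmega F (⇑Q : (ι → F) → F))))
    (hD₀ : D₀ ≤ (cHom (⇑Q₀ : (ι → F₀) → F₀)).range)
    (hD : D ≤ (cHom (⇑Q : (ι → F) → F)).range)
    (hK1 : ∀ g₀ : ↥(GOq Q₀), cHom (⇑Q₀ : (ι → F₀) → F₀) g₀ ∈ D₀ ↔ LamG j Q₀ Q hc g₀ ∈ D) :
    Nonempty (↥(D ⊓ Subgroup.centralizer {phiS (⇑Q : (ι → F) → F) σ hσ}) ≃* ↥D₀) := by
  have hrange := LamG_range j Q₀ Q hc hQ hn hne₀ σ hσ r hord hr0 hj
  set S₀ : Subgroup ↥(GOq Q₀) := D₀.comap (cHom (⇑Q₀ : (ι → F₀) → F₀)) with hS₀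
  set C : Subgroup (MulAut (Cfsg.POmega F (⇑Q : (ι → F) → F))) :=
    D ⊓ Subgroup.centralizer {phiS (⇑Q : (ι → F) → F) σ hσ} with hC
  have hmemC : ∀ g : ↥S₀, LamG j Q₀ Q hc (g : ↥(GOq Q₀)) ∈ C := by
    intro g
    refine ⟨(hK1 _).mp g.2, ?_⟩
    have h1 : LamG j Q₀ Q hc (g : ↥(GOq Q₀)) ∈ (LamG j Q₀ Q hc).range := ⟨_, rfl⟩
    rw [hrange] at h1
    exact h1.2
  let f₁ : ↥S₀ →* ↥D₀ :=
    ((cHom (⇑Q₀ : (ι → F₀) → F₀)).comp S₀.subtype).codRestrict D₀ (fun g => g.2)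
  let f₂ : ↥S₀ →* ↥C := ((LamG j Q₀ Q hc).comp S₀.subtype).codRestrict C hmemC
  have hs₁ : Function.Surjective f₁ := by
    rintro ⟨y, hy⟩
    obtain ⟨g₀, rfl⟩ := hD₀ hy
    exact ⟨⟨g₀, hy⟩, rfl⟩
  have hs₂ : Function.Surjective f₂ := by
    rintro ⟨y, hy⟩
    have h1 : y ∈ (LamG j Q₀ Q hc).range := by
      rw [hrange]
      exact ⟨hD hy.1, hy.2⟩
    obtain ⟨g₀, rfl⟩ := h1
    exact ⟨⟨g₀, (hK1 g₀).mpr hy.1⟩, rfl⟩
  have hker : f₂.ker = f₁.ker := by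
    ext g
    rw [MonoidHom.mem_ker, MonoidHom.mem_ker]
    constructor
    · intro h
      have h1 : LamG j Q₀ Q hc (g : ↥(GOq Q₀)) = 1 := congrArg Subtype.val h
      apply Subtype.ext
      exact (LamG_eq_one_iff j Q₀ Q hc hQ₀ hQ hn _).mp h1
    · intro h
      have h1 : cHom (⇑Q₀ : (ι → F₀) → F₀) (g : ↥(GOq Q₀)) = 1 := congrArg Subtype.val h
      apply Subtype.ext
      exact (LamG_eq_one_iff j Q₀ Q hc hQ₀ hQ hn _).mpr h1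
  exact ⟨(QuotientGroup.quotientKerEquivOfSurjective f₂ hs₂).symm.trans
    ((QuotientGroup.quotientMulEquivOfEq hker).trans
      (QuotientGroup.quotientKerEquivOfSurjective f₁ hs₁))⟩

end gen

section minus

variable {F : Type u} [Field F] [Fintype F] {F₀ : Type v} [Field F₀] [Fintype F₀] {m : ℕ}

theorem baseCompat_minus_gen (j : F₀ →+* F) (a₀ b₀ : F₀) :
    BaseCompat j (⇑(qfMinus m F₀ a₀ b₀)) (⇑(qfMinus m F (j a₀) (j b₀))) := by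
  intro v
  rw [qfMinus_coe, qfMinus_coe]
  exact quadFormMinus_map j a₀ b₀ v

theorem inndiagMinus_le_range (hm : 3 ≤ m) (a b : F)
    (hab : ∀ z₁ z₂ : F, z₁ ^ 2 + a * z₁ * z₂ + b * z₂ ^ 2 = 0 → z₁ = 0 ∧ z₂ = 0) :
    Cfsg.inndiagPOmegaMinus m F a b ≤ (cHom (Cfsg.quadFormMinus m F a b)).range := by
  obtain ⟨u, hu⟩ := minus_exists_ne_zero (F := F) m a b
  obtain ⟨hD1, -⟩ := inndiag_minus_data hm a b hab u hu
  intro δ hδ
  obtain ⟨g, rfl⟩ := hD1 δ hδ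
  exact ⟨g, rfl⟩

set_option maxHeartbeats 1600000 in
theorem K1_minus (hm : 3 ≤ m) (j : F₀ →+* F) (a₀ b₀ : F₀)
    (hab₀ : ∀ z₁ z₂ : F₀, z₁ ^ 2 + a₀ * z₁ * z₂ + b₀ * z₂ ^ 2 = 0 → z₁ = 0 ∧ z₂ = 0)
    (hab : ∀ z₁ z₂ : F, z₁ ^ 2 + j a₀ * z₁ * z₂ + j b₀ * z₂ ^ 2 = 0 → z₁ = 0 ∧ z₂ = 0)
    (g₀ : ↥(GOq (qfMinus m F₀ a₀ b₀))) :
    cHom (Cfsg.quadFormMinus m F₀ a₀ b₀) g₀ ∈ Cfsg.inndiagPOmegaMinus m F₀ a₀ b₀ ↔
      LamG j (qfMinus m F₀ a₀ b₀) (qfMinus m F (j a₀) (j b₀)) (baseCompat_minus_gen j a₀ b₀) g₀ ∈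
        Cfsg.inndiagPOmegaMinus m F (j a₀) (j b₀) := by
  obtain ⟨hQ₀, hn, -⟩ := minus_hyps m hm a₀ b₀ hab₀
  obtain ⟨hQ, -, -⟩ := minus_hyps m hm (j a₀) (j b₀) hab
  have hne₀ := minus_exists_ne_zero (F := F₀) m a₀ b₀
  have hne := minus_exists_ne_zero (F := F) m (j a₀) (j b₀)
  by_cases hch : ringChar F = 2
  · have hcp : CharP F 2 := by
      rw [← hch]; exact ringChar.charP F
    have hcp₀ : CharP F₀ 2 := RingHom.charP j j.injective 2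
    rw [inndiagMinus_eq_inn_char2 a₀ b₀ (by omega : 2 ≤ m) hab₀,
      inndiagMinus_eq_inn_char2 (j a₀) (j b₀) (by omega : 2 ≤ m) hab]
    have hinn₀ : Cfsg.Inn (Cfsg.POmega F₀ (Cfsg.quadFormMinus m F₀ a₀ b₀)) =
        (Cfsg.Omega F₀ (⇑(qfMinus m F₀ a₀ b₀) : ((Fin m ⊕ Fin m) ⊕ Fin 2 → F₀) → F₀)).map
          (c0 (qfMinus m F₀ a₀ b₀)) := inn_eq' (qfMinus m F₀ a₀ b₀)
    have hinn : Cfsg.Inn (Cfsg.POmega F (Cfsg.quadFormMinus m F (j a₀) (j b₀))) =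
        (Cfsg.Omega F (⇑(qfMinus m F (j a₀) (j b₀)) : ((Fin m ⊕ Fin m) ⊕ Fin 2 → F) → F)).map
          (c0 (qfMinus m F (j a₀) (j b₀))) := inn_eq' (qfMinus m F (j a₀) (j b₀))
    rw [hinn₀, hinn]
    exact K1_char2 j (qfMinus m F₀ a₀ b₀) (qfMinus m F (j a₀) (j b₀)) (baseCompat_minus_gen j a₀ b₀)
      hQ₀ hQ hn hne₀ hne g₀
  · have hodd : Odd (Fintype.card F) := Nat.odd_iff.mpr (FiniteField.odd_card_of_char_ne_two hch)
    have hch₀ : ringChar F₀ ≠ 2 := by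
      intro h0
      have hcp₀ : CharP F₀ 2 := by
        rw [← h0]; exact ringChar.charP F₀
      have hcp : CharP F 2 := charP_of_injective_ringHom j.injective 2
      exact hch (ringChar.eq F 2)
    have hodd₀ : Odd (Fintype.card F₀) :=
      Nat.odd_iff.mpr (FiniteField.odd_card_of_char_ne_two hch₀)
    rw [inndiagMinus_eq a₀ b₀ hodd₀ hab₀ hne₀, inndiagMinus_eq (j a₀) (j b₀) hodd hab hne]
    exact K1_odd j (qfMinus m F₀ a₀ b₀) (qfMinus m F (j a₀) (j b₀)) (baseCompat_minus_gen j a₀ b₀)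
      hQ₀ hQ hn hne₀ hne (m + 1) (card_minus_index m) g₀

set_option maxHeartbeats 1600000 in
/-- the centraliser of the standard field automorphism in the inner-diagonal group. -/
theorem centIso_minus (hm : 3 ≤ m) (j : F₀ →+* F) (a₀ b₀ : F₀)
    (hab₀ : ∀ z₁ z₂ : F₀, z₁ ^ 2 + a₀ * z₁ * z₂ + b₀ * z₂ ^ 2 = 0 → z₁ = 0 ∧ z₂ = 0)
    (hab : ∀ z₁ z₂ : F, z₁ ^ 2 + j a₀ * z₁ * z₂ + j b₀ * z₂ ^ 2 = 0 → z₁ = 0 ∧ z₂ = 0)
    (σ : RingAut F) (hσ : SigCompat (Cfsg.quadFormMinus m F (j a₀) (j b₀)) σ) (r : ℕ)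
    (hord : orderOf σ = r) (hr0 : 0 < r) (hj : ∀ x, (∃ y, j y = x) ↔ σ x = x) :
    Nonempty (↥(Cfsg.inndiagPOmegaMinus m F (j a₀) (j b₀) ⊓
        Subgroup.centralizer {phiS (Cfsg.quadFormMinus m F (j a₀) (j b₀)) σ hσ}) ≃*
      ↥(Cfsg.inndiagPOmegaMinus m F₀ a₀ b₀)) := by
  obtain ⟨hQ₀, hn, -⟩ := minus_hyps m hm a₀ b₀ hab₀
  obtain ⟨hQ, -, -⟩ := minus_hyps m hm (j a₀) (j b₀) hab
  have hne₀ := minus_exists_ne_zero (F := F₀) m a₀ b₀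
  exact centIso_of_K1 j (qfMinus m F₀ a₀ b₀) (qfMinus m F (j a₀) (j b₀))
    (baseCompat_minus_gen j a₀ b₀) hQ₀ hQ hn hne₀ σ hσ r hord hr0 hj
    (Cfsg.inndiagPOmegaMinus m F₀ a₀ b₀) (Cfsg.inndiagPOmegaMinus m F (j a₀) (j b₀))
    (inndiagMinus_le_range hm a₀ b₀ hab₀) (inndiagMinus_le_range hm (j a₀) (j b₀) hab)
    (fun g₀ => K1_minus hm j a₀ b₀ hab₀ hab g₀)

end minus

end Cfsg.Agent.Lib.Helper16.OM
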