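import Mathlib
import Cfsg.Agent.Lib.Helper16.OM22

set_option autoImplicit false
set_option linter.unusedSectionVars false
set_option linter.unusedVariables false

namespace Cfsg.Agent.Lib.Helper16.OM

open Matrix Module Cfsg.Agent.Lib.Lead Cfsg.Agent.Lib.Lead.OA Cfsg.Agent.Lib.Helper16
  Cfsg.Agent.Lib.Helper16.OA Cfsg.Agent.Lib.Helper16.OL Cfsg.Agent.Lib.Helper16.PSC
  Cfsg.Agent.Lib.Helper16.H9

universe u v

section grp

theorem zmod4_gen : ∀ y : Multiplicative (ZMod 4), (∀ t, y ≠ t * t) → ∀ z, ∃ k : ℕ, z = y ^ k := by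
  have h : ∀ y : ZMod 4, (∀ t, y ≠ t + t) → ∀ z, ∃ k : Fin 4, z = (k : ℕ) • y := by decide
  intro y hy z
  obtain ⟨k, hk⟩ := h (Multiplicative.toAdd y) (fun t ht => hy (Multiplicative.ofAdd t) (by
    apply Multiplicative.toAdd.injective
    rw [ht]; rfl)) (Multiplicative.toAdd z)
  refine ⟨k, ?_⟩
  apply Multiplicative.toAdd.injective
  rw [hk]; rfl

theorem zmod2_gen : ∀ y : Multiplicative (ZMod 2), (∀ t, y ≠ t * t) → ∀ z, ∃ k : ℕ, z = y ^ k := by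
  have h : ∀ y : ZMod 2, (∀ t, y ≠ t + t) → ∀ z, ∃ k : Fin 2, z = (k : ℕ) • y := by decide
  intro y hy z
  obtain ⟨k, hk⟩ := h (Multiplicative.toAdd y) (fun t ht => hy (Multiplicative.ofAdd t) (by
    apply Multiplicative.toAdd.injective
    rw [ht]; rfl)) (Multiplicative.toAdd z)
  refine ⟨k, ?_⟩
  apply Multiplicative.toAdd.injective
  rw [hk]; rfl

theorem le_sup_of_nonsq {G : Type*} [Group G] (D K C : Subgroup G) (hKD : K ≤ D) (hCD : C ≤ D)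
    {A : Type*} [Group A] (hA : ∀ y : A, (∀ t, y ≠ t * t) → ∀ z, ∃ k : ℕ, z = y ^ k)
    (φ : ↥D →* A) (hsurj : Function.Surjective φ) (hker : φ.ker = K.subgroupOf D)
    (δ₀ : G) (hδ₀C : δ₀ ∈ C) (hns : ∀ κ ∈ K, ∀ ε ∈ D, δ₀ ≠ κ * (ε * ε)) : D ≤ K ⊔ C := by
  set d₀ : ↥D := ⟨δ₀, hCD hδ₀C⟩ with hd₀
  have hnsq : ∀ t, φ d₀ ≠ t * t := by
    intro t ht
    obtain ⟨ε, rfl⟩ := hsurj t
    have h1 : d₀ * (ε * ε)⁻¹ ∈ φ.ker := by
      rw [MonoidHom.mem_ker, map_mul, map_inv, map_mul, ht, mul_inv_cancel]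
    rw [hker, Subgroup.mem_subgroupOf] at h1
    apply hns _ h1 (ε : G) ε.2
    show δ₀ = ((d₀ * (ε * ε)⁻¹ : ↥D) : G) * ((ε : G) * (ε : G))
    rw [Subgroup.coe_mul, Subgroup.coe_inv, Subgroup.coe_mul]
    show δ₀ = δ₀ * _ * _
    group
  intro δ hδ
  obtain ⟨k, hk⟩ := hA (φ d₀) hnsq (φ ⟨δ, hδ⟩)
  have h1 : (⟨δ, hδ⟩ : ↥D) * (d₀ ^ k)⁻¹ ∈ φ.ker := by
    rw [MonoidHom.mem_ker, map_mul, map_inv, map_pow, hk, mul_inv_cancel]
  rw [hker, Subgroup.mem_subgroupOf] at h1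
  have h2 : δ = (((⟨δ, hδ⟩ : ↥D) * (d₀ ^ k)⁻¹ : ↥D) : G) * δ₀ ^ k := by
    rw [Subgroup.coe_mul, Subgroup.coe_inv, Subgroup.coe_pow]
    show δ = δ * (δ₀ ^ k)⁻¹ * δ₀ ^ k
    group
  rw [h2]
  exact Subgroup.mul_mem_sup h1 (pow_mem hδ₀C k)

end grp

section minus

variable {F : Type u} [Field F] [Fintype F] {F₀ : Type v} [Field F₀] [Fintype F₀] {m : ℕ}

set_option maxHeartbeats 4000000 in
/-- the inner-diagonal group is generated by the inner automorphisms and the centraliser of a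
standard field automorphism of odd order. -/
theorem split_minus (hm : 3 ≤ m) (j : F₀ →+* F) (a₀ b₀ : F₀)
    (hab₀ : ∀ z₁ z₂ : F₀, z₁ ^ 2 + a₀ * z₁ * z₂ + b₀ * z₂ ^ 2 = 0 → z₁ = 0 ∧ z₂ = 0)
    (hab : ∀ z₁ z₂ : F, z₁ ^ 2 + j a₀ * z₁ * z₂ + j b₀ * z₂ ^ 2 = 0 → z₁ = 0 ∧ z₂ = 0)
    (σ : RingAut F) (hσ : SigCompat (Cfsg.quadFormMinus m F (j a₀) (j b₀)) σ) (r : ℕ)
    (hord : orderOf σ = r) (hrodd : Odd r) (hcard : Fintype.card F = Fintype.card F₀ ^ r)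
    (hj : ∀ x, (∃ y, j y = x) ↔ σ x = x) :
    Cfsg.inndiagPOmegaMinus m F (j a₀) (j b₀) ≤
      Cfsg.Inn (Cfsg.POmega F (Cfsg.quadFormMinus m F (j a₀) (j b₀))) ⊔
        (Cfsg.inndiagPOmegaMinus m F (j a₀) (j b₀) ⊓
          Subgroup.centralizer {phiS (Cfsg.quadFormMinus m F (j a₀) (j b₀)) σ hσ}) := by
  obtain ⟨hQ₀, hn, -⟩ := minus_hyps m hm a₀ b₀ hab₀
  obtain ⟨hQ, -, -⟩ := minus_hyps m hm (j a₀) (j b₀) hab
  have hne₀ := minus_exists_ne_zero (F := F₀) m a₀ b₀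
  have hne := minus_exists_ne_zero (F := F) m (j a₀) (j b₀)
  have hr0 : 0 < r := hrodd.pos
  by_cases hch : ringChar F = 2
  · have hcp : CharP F 2 := by
      rw [← hch]; exact ringChar.charP F
    rw [inndiagMinus_eq_inn_char2 (j a₀) (j b₀) (by omega : 2 ≤ m) hab]
    exact le_sup_left
  · have hodd : Odd (Fintype.card F) := Nat.odd_iff.mpr (FiniteField.odd_card_of_char_ne_two hch)
    have h2 : (2 : F) ≠ 0 := Cfsg.Agent.Lib.Lead.OAP.two_ne_zero_of_odd hodd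
    have h2₀ : (2 : F₀) ≠ 0 := two_ne_zero_base j h2
    have hch₀ : ringChar F₀ ≠ 2 := ringChar_ne_two_of h2₀
    have hodd₀ : Odd (Fintype.card F₀) :=
      Nat.odd_iff.mpr (FiniteField.odd_card_of_char_ne_two hch₀)
    obtain ⟨δ, hδ0, hδ⟩ := Cfsg.Agent.Lib.Lead.OI.exists_nonsquare (F := F₀) h2₀
    obtain ⟨w₁, w₂, hcw⟩ := Cfsg.Agent.Lib.Lead.OAM.exists_norm_binary a₀ b₀ h2₀ hab₀ δ hδ0
    set c : F₀ˣ := Units.mk0 δ hδ0 with hcdef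
    have hc' : w₁ ^ 2 + a₀ * w₁ * w₂ + b₀ * w₂ ^ 2 = ((c : F₀ˣ) : F₀) := hcw
    set g₁ : ↥(GOq (qfMinus m F₀ a₀ b₀)) :=
      ⟨Cfsg.Agent.Lib.Lead.OAM.dMinus a₀ b₀ c w₁ w₂ hc',
        Cfsg.Agent.Lib.Lead.OAM.dMinus_mem a₀ b₀ c w₁ w₂ hc'⟩ with hg₁def
    have hg₁m : mult (qfMinus m F₀ a₀ b₀) g₁ = c :=
      Cfsg.Agent.Lib.Lead.OAM.mult_dMinus a₀ b₀ hne₀ c w₁ w₂ hc'
    have hg₁e : eps (qfMinus m F₀ a₀ b₀) hne₀ (m + 1) g₁ = 1 :=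
      Cfsg.Agent.Lib.Lead.OAM.eps_dMinus a₀ b₀ hne₀ c w₁ w₂ hc'
    have hbc := baseCompat_minus_gen (m := m) j a₀ b₀
    set δ₀ := LamG j (qfMinus m F₀ a₀ b₀) (qfMinus m F (j a₀) (j b₀)) hbc g₁ with hδ₀def
    have hδ₀D : δ₀ ∈ Cfsg.inndiagPOmegaMinus m F (j a₀) (j b₀) := by
      apply (K1_minus hm j a₀ b₀ hab₀ hab g₁).mp
      rw [inndiagMinus_eq a₀ b₀ hodd₀ hab₀ hne₀]
      exact ⟨g₁, MonoidHom.mem_ker.mpr hg₁e, rfl⟩
    have hδ₀C : δ₀ ∈ Subgroup.centralizer {phiS (Cfsg.quadFormMinus m F (j a₀) (j b₀)) σ hσ} := by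
      have h1 : δ₀ ∈ (LamG j (qfMinus m F₀ a₀ b₀) (qfMinus m F (j a₀) (j b₀)) hbc).range :=
        ⟨g₁, rfl⟩
      rw [LamG_range j (qfMinus m F₀ a₀ b₀) (qfMinus m F (j a₀) (j b₀)) hbc hQ hn hne₀ σ hσ r hord
        hr0 hj] at h1
      exact h1.2
    have hmultY : ((mult (qfMinus m F (j a₀) (j b₀))
        (inclGO j (qfMinus m F₀ a₀ b₀) (qfMinus m F (j a₀) (j b₀)) hbc g₁) : Fˣ) : F) = j δ := by
      rw [mult_inclGO j _ _ hbc hne, hg₁m]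
      rfl
    have hnsqF : ¬ IsSquare (j δ) := not_isSquare_base_of_odd j h2 r hrodd hcard δ hδ0 hδ
    have hInnD : Cfsg.Inn (Cfsg.POmega F (Cfsg.quadFormMinus m F (j a₀) (j b₀))) ≤
        Cfsg.inndiagPOmegaMinus m F (j a₀) (j b₀) := by
      rw [inndiagMinus_eq (j a₀) (j b₀) hodd hab hne]
      have hinn : Cfsg.Inn (Cfsg.POmega F (Cfsg.quadFormMinus m F (j a₀) (j b₀))) =
          (Cfsg.Omega F (⇑(qfMinus m F (j a₀) (j b₀)) : ((Fin m ⊕ Fin m) ⊕ Fin 2 → F) → F)).map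
            (c0 (qfMinus m F (j a₀) (j b₀))) := inn_eq' (qfMinus m F (j a₀) (j b₀))
      rw [hinn]
      rintro _ ⟨s, hs, rfl⟩
      refine ⟨isoToGO _ s, MonoidHom.mem_ker.mpr ?_, rfl⟩
      exact (eps_iso (qfMinus m F (j a₀) (j b₀)) hne (m + 1) s).trans
        (MonoidHom.mem_ker.mp (omega_le_ker _ (isoDet _) hs))
    have hns : ∀ κ ∈ Cfsg.Inn (Cfsg.POmega F (Cfsg.quadFormMinus m F (j a₀) (j b₀))),
        ∀ ε ∈ Cfsg.inndiagPOmegaMinus m F (j a₀) (j b₀), δ₀ ≠ κ * (ε * ε) := by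
      intro κ hκ ε hε heq
      have hinn : Cfsg.Inn (Cfsg.POmega F (Cfsg.quadFormMinus m F (j a₀) (j b₀))) =
          (Cfsg.Omega F (⇑(qfMinus m F (j a₀) (j b₀)) : ((Fin m ⊕ Fin m) ⊕ Fin 2 → F) → F)).map
            (c0 (qfMinus m F (j a₀) (j b₀))) := inn_eq' (qfMinus m F (j a₀) (j b₀))
      rw [hinn] at hκ
      obtain ⟨s, hs, rfl⟩ := hκ
      obtain ⟨e, rfl⟩ : ∃ e : ↥(GOq (qfMinus m F (j a₀) (j b₀))),
          cHom (⇑(qfMinus m F (j a₀) (j b₀))) e = ε := inndiagMinus_le_range hm (j a₀) (j b₀) hab hε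
      set X : ↥(GOq (qfMinus m F (j a₀) (j b₀))) := isoToGO _ s * (e * e) with hX
      set Y : ↥(GOq (qfMinus m F (j a₀) (j b₀))) :=
        inclGO j (qfMinus m F₀ a₀ b₀) (qfMinus m F (j a₀) (j b₀)) hbc g₁ with hY
      have heq' : cHom (⇑(qfMinus m F (j a₀) (j b₀))) Y = cHom (⇑(qfMinus m F (j a₀) (j b₀))) X := by
        rw [hX, map_mul, map_mul]
        exact heq
      have h1 : cHom (⇑(qfMinus m F (j a₀) (j b₀))) (X⁻¹ * Y) = 1 := by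
        rw [map_mul, map_inv, inv_mul_eq_one]
        exact heq'.symm
      obtain ⟨d, hd⟩ := cHom_ker_scalar (qfMinus m F (j a₀) (j b₀)) hQ hn _ h1
      have h3 := mult_of_scalar (qfMinus m F (j a₀) (j b₀)) hne _ d hd
      have hmX : multHom (qfMinus m F (j a₀) (j b₀)) hne X =
          multHom (qfMinus m F (j a₀) (j b₀)) hne e * multHom (qfMinus m F (j a₀) (j b₀)) hne e := by
        rw [hX, map_mul, map_mul]
        show mult (qfMinus m F (j a₀) (j b₀)) (isoToGO _ s) * _ = _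
        rw [mult_iso _ hne, one_mul]
      have h4 : mult (qfMinus m F (j a₀) (j b₀)) (X⁻¹ * Y) =
          (mult (qfMinus m F (j a₀) (j b₀)) e * mult (qfMinus m F (j a₀) (j b₀)) e)⁻¹ *
            mult (qfMinus m F (j a₀) (j b₀)) Y := by
        show multHom (qfMinus m F (j a₀) (j b₀)) hne (X⁻¹ * Y) = _
        rw [map_mul, map_inv, hmX]
        rfl
      rw [h4] at h3
      apply hnsqF
      rw [← hmultY]
      refine ⟨((mult (qfMinus m F (j a₀) (j b₀)) e : Fˣ) : F) * d, ?_⟩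
      have hμ : ((mult (qfMinus m F (j a₀) (j b₀)) e : Fˣ) : F) ≠ 0 := Units.ne_zero _
      rw [Units.val_mul, Units.val_inv_eq_inv_val, Units.val_mul] at h3
      field_simp at h3
      rw [h3]
      ring
    have hCD : Cfsg.inndiagPOmegaMinus m F (j a₀) (j b₀) ⊓
        Subgroup.centralizer {phiS (Cfsg.quadFormMinus m F (j a₀) (j b₀)) σ hσ} ≤
        Cfsg.inndiagPOmegaMinus m F (j a₀) (j b₀) := inf_le_left
    obtain ⟨hA4, hA2⟩ := S2729_aux (a := j a₀) (b := j b₀) hodd hm hab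
    by_cases hcase : Even m ∧ Fintype.card F % 4 = 3
    · obtain ⟨φ', hsurj, hker⟩ := hA4 hcase
      exact le_sup_of_nonsq _ _ _ hInnD hCD zmod4_gen φ' hsurj hker δ₀ ⟨hδ₀D, hδ₀C⟩ hns
    · obtain ⟨φ', hsurj, hker⟩ := hA2 hcase
      exact le_sup_of_nonsq _ _ _ hInnD hCD zmod2_gen φ' hsurj hker δ₀ ⟨hδ₀D, hδ₀C⟩ hns

end minus

end Cfsg.Agent.Lib.Helper16.OM
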