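import Mathlib
import Cfsg.Agent.Lib.Helper16.OM23

set_option autoImplicit false
set_option linter.unusedSectionVars false
set_option linter.unusedVariables false

/-! Lang-type results for even-dimensional orthogonal groups, part 24: field automorphisms of prime
order of minus-type orthogonal groups. -/

namespace Cfsg.Agent.Lib.Helper16.OM

open Matrix Module Cfsg.Agent.Lib.Lead Cfsg.Agent.Lib.Lead.OA Cfsg.Agent.Lib.Helper16
  Cfsg.Agent.Lib.Helper16.OA Cfsg.Agent.Lib.Helper16.OL Cfsg.Agent.Lib.Helper16.PSC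
  Cfsg.Agent.Lib.Helper16.H9

universe u v

section grp

variable {A : Type*} {B : Type*} [Group A] [Group B]

theorem map_inf_cent (Ψ : A ≃* B) (D : Subgroup A) (D' : Subgroup B)
    (hD : ∀ β, β ∈ D ↔ Ψ β ∈ D') (x : A) :
    (D ⊓ Subgroup.centralizer {x}).map Ψ.toMonoidHom = D' ⊓ Subgroup.centralizer {Ψ x} := by
  ext y
  rw [Subgroup.mem_map, Subgroup.mem_inf]
  constructor
  · rintro ⟨β, hβ, rfl⟩
    rw [Subgroup.mem_inf] at hβ
    obtain ⟨hβD, hβC⟩ := hβ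
    refine ⟨(hD β).mp hβD, ?_⟩
    rw [Subgroup.mem_centralizer_iff] at hβC ⊢
    intro z hz
    rw [Set.mem_singleton_iff] at hz
    subst hz
    have := hβC x (Set.mem_singleton x)
    show Ψ x * Ψ β = Ψ β * Ψ x
    rw [← map_mul, ← map_mul, this]
  · rintro ⟨hyD, hyC⟩
    refine ⟨Ψ.symm y, Subgroup.mem_inf.mpr ⟨?_, ?_⟩, Ψ.apply_symm_apply y⟩
    · rw [hD, MulEquiv.apply_symm_apply]
      exact hyD
    · rw [Subgroup.mem_centralizer_iff] at hyC ⊢
      intro z hz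
      rw [Set.mem_singleton_iff] at hz
      subst hz
      have := hyC (Ψ z) (Set.mem_singleton _)
      apply Ψ.injective
      rw [map_mul, map_mul, MulEquiv.apply_symm_apply]
      exact this

theorem cent_transport (Ψ : A ≃* B) (D : Subgroup A) (D' : Subgroup B)
    (hD : ∀ β, β ∈ D ↔ Ψ β ∈ D') (x : A) :
    Nonempty (↥(D ⊓ Subgroup.centralizer {x}) ≃* ↥(D' ⊓ Subgroup.centralizer {Ψ x})) :=
  ⟨(Ψ.subgroupMap (D ⊓ Subgroup.centralizer {x})).trans
    (MulEquiv.subgroupCongr (map_inf_cent Ψ D D' hD x))⟩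

theorem split_transport (Ψ : A ≃* B) (D K : Subgroup A) (D' K' : Subgroup B)
    (hD : ∀ β, β ∈ D ↔ Ψ β ∈ D') (hK : ∀ β, β ∈ K ↔ Ψ β ∈ K') (x : A)
    (h : D' ≤ K' ⊔ (D' ⊓ Subgroup.centralizer {Ψ x})) :
    D ≤ K ⊔ (D ⊓ Subgroup.centralizer {x}) := by
  have hK' : K.map Ψ.toMonoidHom = K' := by
    ext y
    rw [Subgroup.mem_map]
    constructor
    · rintro ⟨β, hβ, rfl⟩
      exact (hK β).mp hβ
    · intro hy
      refine ⟨Ψ.symm y, ?_, Ψ.apply_symm_apply y⟩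
      rw [hK, MulEquiv.apply_symm_apply]
      exact hy
  rw [← hK', ← map_inf_cent Ψ D D' hD x, ← Subgroup.map_sup] at h
  intro δ hδ
  obtain ⟨δ', hδ', e⟩ := h ((hD δ).mp hδ)
  have : δ' = δ := Ψ.injective e
  rw [← this]
  exact hδ'

end grp

section minus

variable {F : Type u} [Field F] [Fintype F] {m : ℕ}

theorem sigma_order_ne_two (a b : F)
    (hab : ∀ z₁ z₂ : F, z₁ ^ 2 + a * z₁ * z₂ + b * z₂ ^ 2 = 0 → z₁ = 0 ∧ z₂ = 0)
    (σ : RingAut F) (ha : σ a = a) (hb : σ b = b) (hord : orderOf σ = 2) : False := by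
  classical
  have hfo : IsOfFinOrder σ := orderOf_pos_iff.mp (by rw [hord]; norm_num)
  have : Finite (Subgroup.zpowers σ) := Set.finite_coe_iff.mpr hfo.finite_zpowers
  have : Fintype (Subgroup.zpowers σ) := Fintype.ofFinite _
  have h1 := FixedPoints.finrank_eq_card (Subgroup.zpowers σ) F
  have h2 : Fintype.card (Subgroup.zpowers σ) = 2 := by
    rw [← Nat.card_eq_fintype_card, Nat.card_zpowers, hord]
  have hfr : finrank (fixS σ) F = 2 := by rw [← h2]; exact h1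
  have : Fintype (fixS σ) := Fintype.ofFinite _
  set a₀ : fixS σ := ⟨a, (mem_fixS σ a).mpr ha⟩ with ha₀
  set b₀ : fixS σ := ⟨b, (mem_fixS σ b).mpr hb⟩ with hb₀
  have han := aniso_fix σ a₀ b₀ hab
  obtain ⟨t, ht⟩ := exists_root_of_aniso (F := fixS σ) (K := F) hfr a₀ b₀ han
  have e1 : algebraMap (fixS σ) F a₀ = a := rfl
  have e2 : algebraMap (fixS σ) F b₀ = b := rfl
  rw [e1, e2] at ht
  have := hab t 1 (by linear_combination ht)
  exact one_ne_zero this.2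

set_option maxHeartbeats 1600000 in
theorem inn_le_inndiagMinus (hm : 3 ≤ m) (a b : F)
    (hab : ∀ z₁ z₂ : F, z₁ ^ 2 + a * z₁ * z₂ + b * z₂ ^ 2 = 0 → z₁ = 0 ∧ z₂ = 0) :
    Cfsg.Inn (Cfsg.POmega F (Cfsg.quadFormMinus m F a b)) ≤ Cfsg.inndiagPOmegaMinus m F a b := by
  have hne := minus_exists_ne_zero (F := F) m a b
  by_cases hch : ringChar F = 2
  · have hcp : CharP F 2 := by
      rw [← hch]; exact ringChar.charP F
    rw [inndiagMinus_eq_inn_char2 a b (by omega : 2 ≤ m) hab]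
  · have hodd : Odd (Fintype.card F) := Nat.odd_iff.mpr (FiniteField.odd_card_of_char_ne_two hch)
    rw [inndiagMinus_eq a b hodd hab hne]
    have hinn : Cfsg.Inn (Cfsg.POmega F (Cfsg.quadFormMinus m F a b)) =
        (Cfsg.Omega F (⇑(qfMinus m F a b) : ((Fin m ⊕ Fin m) ⊕ Fin 2 → F) → F)).map
          (c0 (qfMinus m F a b)) := inn_eq' (qfMinus m F a b)
    rw [hinn]
    rintro _ ⟨s, hs, rfl⟩
    refine ⟨isoToGO (qfMinus m F a b) s, MonoidHom.mem_ker.mpr ?_, rfl⟩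
    exact (eps_iso (qfMinus m F a b) hne (m + 1) s).trans
      (MonoidHom.mem_ker.mp (omega_le_ker (⇑(qfMinus m F a b))
        (isoDet (⇑(qfMinus m F a b) : ((Fin m ⊕ Fin m) ⊕ Fin 2 → F) → F)) hs))

end minus

section main

variable {F : Type u} [Field F] [Fintype F] {m : ℕ}

set_option maxHeartbeats 4000000 in
theorem S2716_aux {p f : ℕ} [Fact p.Prime] (hF : Fintype.card F = p ^ f) (hm : 3 ≤ m) (a b : F)
    (hab : ∀ z₁ z₂ : F, z₁ ^ 2 + a * z₁ * z₂ + b * z₂ ^ 2 = 0 → z₁ = 0 ∧ z₂ = 0)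
    (x : MulAut (Cfsg.POmega F (Cfsg.quadFormMinus m F a b)))
    (hx : Cfsg.IsFieldAutClassPOmegaMinus m x) {r : ℕ} (hr : r.Prime) (hxr : orderOf x = r)
    (F₀ : Type v) [Field F₀] [Fintype F₀] (hF₀ : Fintype.card F₀ = p ^ (f / r)) :
    Odd r ∧ r ∣ f ∧
      (∃ a₀ b₀ : F₀, (∀ z₁ z₂ : F₀, z₁ ^ 2 + a₀ * z₁ * z₂ + b₀ * z₂ ^ 2 = 0 → z₁ = 0 ∧ z₂ = 0) ∧
        Nonempty (↥(Cfsg.inndiagPOmegaMinus m F a b ⊓ Subgroup.centralizer {x}) ≃*
          ↥(Cfsg.inndiagPOmegaMinus m F₀ a₀ b₀))) ∧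
      Cfsg.splitClassCount (Cfsg.inndiagPOmegaMinus m F a b)
        (Cfsg.Inn (Cfsg.POmega F (Cfsg.quadFormMinus m F a b))) x = 1 := by
  obtain ⟨a', b', ψ, σ, hab', hσ1, ha', hb', hfa⟩ := hx
  have hσ' : SigCompat (Cfsg.quadFormMinus m F a' b') σ := sigCompat_minus σ a' b' ha' hb'
  have hφ : autTr ψ x = phiS (Cfsg.quadFormMinus m F a' b') σ hσ' :=
    (isFieldAut_iff_phiS (Cfsg.quadFormMinus m F a' b') σ hσ' _).1 hfa
  obtain ⟨hQ', hn', hT'⟩ := minus_hyps m hm a' b' hab'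
  have hord : orderOf (σ : RingAut F) = r := by
    have h1 := orderOf_phiS (qfMinus m F a' b') hQ' hn' σ hσ'
    have h2 : orderOf (autTr ψ x) = orderOf x := (autTr ψ).orderOf_eq x
    rw [hφ] at h2
    rw [← hxr, ← h2]
    exact h1.symm
  -- r is odd
  have hrodd : Odd r := by
    rcases hr.eq_two_or_odd' with h2 | h2
    · exfalso
      rw [h2] at hord
      exact sigma_order_ne_two a' b' hab' σ ha' hb' hord
    · exact h2
  -- r divides f
  obtain ⟨-, hcardG⟩ := Cfsg.Agent.Lib.Helper16.AP.galF_cyclic_card hF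
  have hrf : r ∣ f := by
    have := orderOf_dvd_natCard (σ : RingAut F)
    rwa [hord, hcardG] at this
  -- the fixed field
  set F₀' : Subfield F := FixedPoints.subfield (Subgroup.zpowers σ) F with hF₀'def
  have hmem : ∀ y, y ∈ F₀' ↔ σ y = y := fun y => Cfsg.Agent.Lib.Helper16.mem_fixed_iff σ y
  have hF' : Fintype.card F = (p ^ (f / r)) ^ r := by
    rw [hF, ← pow_mul, Nat.div_mul_cancel hrf]
  have hcard' : Nat.card F₀' = p ^ (f / r) := Cfsg.Agent.Lib.Helper16.fixed_card hr hF' σ hord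
  have : Fintype F₀' := Fintype.ofFinite _
  have hcc : Fintype.card F₀ = Fintype.card F₀' := by
    rw [← Nat.card_eq_fintype_card (α := F₀'), hcard', hF₀]
  have e₀ : F₀ ≃+* F₀' := FiniteField.ringEquivOfCardEq hcc
  set j : F₀ →+* F := F₀'.subtype.comp e₀.toRingHom with hjdef
  have hj : ∀ y, (∃ z, j z = y) ↔ (σ : RingAut F) y = y := by
    intro y
    constructor
    · rintro ⟨z, rfl⟩
      exact (hmem _).mp (e₀ z).2
    · intro hy
      refine ⟨e₀.symm ⟨y, (hmem y).mpr hy⟩, ?_⟩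
      show ((e₀ (e₀.symm ⟨y, (hmem y).mpr hy⟩) : F₀') : F) = y
      rw [RingEquiv.apply_symm_apply]
  have hcardFF : Fintype.card F = Fintype.card F₀ ^ r := by rw [hF₀]; exact hF'
  obtain ⟨a₀, ha₀⟩ := (hj a').mpr ha'
  obtain ⟨b₀, hb₀⟩ := (hj b').mpr hb'
  subst ha₀
  subst hb₀
  have hab₀ : ∀ z₁ z₂ : F₀, z₁ ^ 2 + a₀ * z₁ * z₂ + b₀ * z₂ ^ 2 = 0 → z₁ = 0 ∧ z₂ = 0 := by
    intro z₁ z₂ h
    have h1 := congrArg j h
    simp only [map_add, map_mul, map_pow, map_zero] at h1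
    obtain ⟨e1, e2⟩ := hab' _ _ h1
    exact ⟨j.injective (by rw [e1, map_zero]), j.injective (by rw [e2, map_zero])⟩
  have hD : ∀ β, β ∈ Cfsg.inndiagPOmegaMinus m F a b ↔
      autTr ψ β ∈ Cfsg.inndiagPOmegaMinus m F (j a₀) (j b₀) :=
    fun β => inndiag_autTr_iff hm a b (j a₀) (j b₀) hab hab' ψ β
  have hK : ∀ β, β ∈ Cfsg.Inn (Cfsg.POmega F (Cfsg.quadFormMinus m F a b)) ↔
      autTr ψ β ∈ Cfsg.Inn (Cfsg.POmega F (Cfsg.quadFormMinus m F (j a₀) (j b₀))) :=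
    fun β => autTr_inn_iff ψ β
  refine ⟨hrodd, hrf, ⟨a₀, b₀, hab₀, ?_⟩, ?_⟩
  · obtain ⟨e1⟩ := cent_transport (autTr ψ) _ _ hD x
    rw [hφ] at e1
    obtain ⟨e2⟩ := centIso_minus hm j a₀ b₀ hab₀ hab' σ hσ' r hord hr.pos hj
    exact ⟨e1.trans e2⟩
  · have hInnN : (Cfsg.Inn (Cfsg.POmega F (Cfsg.quadFormMinus m F a b))).Normal := inn_normal _
    rw [SC.splitClassCount_eq_relIndex _ _ (inn_le_inndiagMinus hm a b hab) x,
      Subgroup.relIndex_eq_one]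
    apply split_transport (autTr ψ) _ _ _ _ hD hK x
    rw [hφ]
    exact split_minus hm j a₀ b₀ hab₀ hab' σ hσ' r hord hrodd hcardFF hj

end main

end Cfsg.Agent.Lib.Helper16.OM
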