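import Mathlib
import Cfsg.Agent.Lib.Helper16.OM24

set_option autoImplicit false
set_option linter.unusedSectionVars false
set_option linter.unusedVariables false

/-! Lang-type results for even-dimensional orthogonal groups, part 25: transport of the automorphism
group of `PΩ(Q)` along a reindexing of the coordinates. -/

namespace Cfsg.Agent.Lib.Helper16.OM

open Matrix Module Cfsg.Agent.Lib.Lead Cfsg.Agent.Lib.Lead.OA Cfsg.Agent.Lib.Helper16
  Cfsg.Agent.Lib.Helper16.OA Cfsg.Agent.Lib.Helper16.OL Cfsg.Agent.Lib.Helper16.PSC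
  Cfsg.Agent.Lib.Helper16.H9

universe u

section re

variable {ι κ : Type} [Fintype ι] [DecidableEq ι] [Fintype κ] [DecidableEq κ]
  {F : Type u} [Field F]

theorem reindex_mulVec_comp (e : ι ≃ κ) (g : GL ι F) (x : κ → F) :
    (((RI.glReindex (F := F) e g : GL κ F) : Matrix κ κ F) *ᵥ x) ∘ e =
      (g : Matrix ι ι F) *ᵥ (x ∘ e) := by
  rw [RI.glReindex_coe, RI.reindex_mulVec]
  funext i
  simp

theorem glReindex_mem_GO (e : ι ≃ κ) (Q : QuadraticForm F (ι → F)) {g : GL ι F}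
    (hg : g ∈ GO (⇑Q : (ι → F) → F)) :
    RI.glReindex (F := F) e g ∈ GO (⇑(RI.qReindex e Q) : (κ → F) → F) := by
  obtain ⟨c, hc⟩ := hg
  refine ⟨c, fun x => ?_⟩
  rw [RI.qReindex_coe]
  show Q ((((RI.glReindex (F := F) e g : GL κ F) : Matrix κ κ F) *ᵥ x) ∘ e) = _
  rw [reindex_mulVec_comp, hc]

/-- reindexing of similarities. -/
noncomputable def reGO (e : ι ≃ κ) (Q : QuadraticForm F (ι → F)) :
    ↥(GOq Q) →* ↥(GOq (RI.qReindex e Q)) where
  toFun g := ⟨RI.glReindex (F := F) e (g : GL ι F), glReindex_mem_GO e Q g.2⟩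
  map_one' := Subtype.ext (map_one _)
  map_mul' a b := Subtype.ext (map_mul _ _ _)

theorem reGO_coe (e : ι ≃ κ) (Q : QuadraticForm F (ι → F)) (g : ↥(GOq Q)) :
    ((reGO e Q g : ↥(GOq (RI.qReindex e Q))) : GL κ F) = RI.glReindex (F := F) e (g : GL ι F) := rfl

/-- reindexing of isometries. -/
noncomputable def reIso (e : ι ≃ κ) (Q : QuadraticForm F (ι → F)) :
    ↥(Cfsg.isometryGroup F (⇑Q : (ι → F) → F)) ≃*
      ↥(Cfsg.isometryGroup F (⇑(RI.qReindex e Q) : (κ → F) → F)) :=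
  RI.isoReindex e (⇑Q : (ι → F) → F)

theorem reIso_coe (e : ι ≃ κ) (Q : QuadraticForm F (ι → F))
    (s : ↥(Cfsg.isometryGroup F (⇑Q : (ι → F) → F))) :
    ((reIso e Q s : ↥(Cfsg.isometryGroup F (⇑(RI.qReindex e Q) : (κ → F) → F))) : GL κ F) =
      RI.glReindex (F := F) e (s : GL ι F) := rfl

/-- the induced isomorphism `PΩ(Q) ≃* PΩ(Q ∘ e)`. -/
noncomputable def rhoRe (e : ι ≃ κ) (Q : QuadraticForm F (ι → F)) :
    Cfsg.POmega F (⇑Q : (ι → F) → F) ≃* Cfsg.POmega F (⇑(RI.qReindex e Q) : (κ → F) → F) :=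
  centerQuotEquiv (commEquiv (reIso e Q))

theorem rhoRe_mk (e : ι ≃ κ) (Q : QuadraticForm F (ι → F))
    (s : ↥(Cfsg.Omega F (⇑Q : (ι → F) → F))) :
    rhoRe e Q (QuotientGroup.mk s) = QuotientGroup.mk (commEquiv (reIso e Q) s) := rfl

theorem rhoRe_mk_coe (e : ι ≃ κ) (Q : QuadraticForm F (ι → F))
    (s : ↥(Cfsg.Omega F (⇑Q : (ι → F) → F))) :
    (((commEquiv (reIso e Q) s : ↥(Cfsg.Omega F (⇑(RI.qReindex e Q) : (κ → F) → F))) :
      ↥(Cfsg.isometryGroup F (⇑(RI.qReindex e Q) : (κ → F) → F))) : GL κ F) =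
      RI.glReindex (F := F) e ((s : ↥(Cfsg.isometryGroup F (⇑Q : (ι → F) → F))) : GL ι F) := rfl

/-- transport of automorphisms along the reindexing. -/
noncomputable def ReT (e : ι ≃ κ) (Q : QuadraticForm F (ι → F)) :
    MulAut (Cfsg.POmega F (⇑Q : (ι → F) → F)) ≃*
      MulAut (Cfsg.POmega F (⇑(RI.qReindex e Q) : (κ → F) → F)) := autTr (rhoRe e Q)

theorem ReT_apply (e : ι ≃ κ) (Q : QuadraticForm F (ι → F))
    (β : MulAut (Cfsg.POmega F (⇑Q : (ι → F) → F))) (x : Cfsg.POmega F (⇑Q : (ι → F) → F)) :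
    ReT e Q β (rhoRe e Q x) = rhoRe e Q (β x) := autTr_apply _ _ _

theorem ReT_cHom (e : ι ≃ κ) (Q : QuadraticForm F (ι → F)) (g : ↥(GOq Q)) :
    ReT e Q (cHom (⇑Q : (ι → F) → F) g) =
      cHom (⇑(RI.qReindex e Q) : (κ → F) → F) (reGO e Q g) := by
  apply MulEquiv.ext
  intro y
  obtain ⟨x, rfl⟩ := (rhoRe e Q).surjective y
  rw [ReT_apply]
  induction x using QuotientGroup.induction_on with
  | H s =>
    rw [cHom_mk, rhoRe_mk, rhoRe_mk, cHom_mk]
    congr 1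
    apply Subtype.ext
    apply Subtype.ext
    rw [rhoRe_mk_coe, cHom_mk_coe, cHom_mk_coe, rhoRe_mk_coe, reGO_coe, map_mul, map_mul, map_inv]

theorem sigCompat_re (e : ι ≃ κ) (Q : QuadraticForm F (ι → F)) (σ : RingAut F)
    (hσ : SigCompat (⇑Q : (ι → F) → F) σ) :
    SigCompat (⇑(RI.qReindex e Q) : (κ → F) → F) σ := by
  intro v
  rw [RI.qReindex_coe]
  exact hσ (v ∘ e)

theorem glReindex_glMapEquiv (e : ι ≃ κ) (σ : RingAut F) (g : GL ι F) :
    RI.glReindex (F := F) e (glMapEquiv σ g) = glMapEquiv σ (RI.glReindex (F := F) e g) := by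
  apply Units.ext
  rfl

theorem ReT_phiS (e : ι ≃ κ) (Q : QuadraticForm F (ι → F)) (σ : RingAut F)
    (hσ : SigCompat (⇑Q : (ι → F) → F) σ) :
    ReT e Q (phiS (⇑Q : (ι → F) → F) σ hσ) =
      phiS (⇑(RI.qReindex e Q) : (κ → F) → F) σ (sigCompat_re e Q σ hσ) := by
  apply MulEquiv.ext
  intro y
  obtain ⟨x, rfl⟩ := (rhoRe e Q).surjective y
  rw [ReT_apply]
  induction x using QuotientGroup.induction_on with
  | H s =>
    unfold phiS
    rw [ssHom_mk, rhoRe_mk, rhoRe_mk, ssHom_mk]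
    congr 1
    apply Subtype.ext
    apply Subtype.ext
    rw [rhoRe_mk_coe, ssHom_mk_coe, ssHom_mk_coe, rhoRe_mk_coe]
    show RI.glReindex (F := F) e (1 * glMapEquiv σ _ * 1⁻¹) = 1 * glMapEquiv σ _ * 1⁻¹
    simp only [one_mul, inv_one, mul_one]
    exact glReindex_glMapEquiv e σ _

end re

section eps

variable {ι κ : Type} [Fintype ι] [DecidableEq ι] [Fintype κ] [DecidableEq κ]
  {F : Type u} [Field F] [Fintype F]

theorem re_exists_ne_zero (e : ι ≃ κ) (Q : QuadraticForm F (ι → F)) (hne : ∃ v, Q v ≠ 0) :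
    ∃ v, RI.qReindex e Q v ≠ 0 := by
  obtain ⟨v, hv⟩ := hne
  refine ⟨v ∘ e.symm, ?_⟩
  rw [RI.qReindex_coe]
  have : (v ∘ e.symm) ∘ e = v := by
    funext i
    simp
  show Q ((v ∘ e.symm) ∘ e) ≠ 0
  rw [this]
  exact hv

theorem mult_reGO (e : ι ≃ κ) (Q : QuadraticForm F (ι → F))
    (hne' : ∃ v, RI.qReindex e Q v ≠ 0) (g : ↥(GOq Q)) :
    mult (RI.qReindex e Q) (reGO e Q g) = mult Q g := by
  apply mult_unique _ hne'
  intro x
  rw [RI.qReindex_coe, reGO_coe]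
  show Q ((((RI.glReindex (F := F) e (g : GL ι F) : GL κ F) : Matrix κ κ F) *ᵥ x) ∘ e) = _
  rw [reindex_mulVec_comp, mult_spec]

theorem detGO_reGO (e : ι ≃ κ) (Q : QuadraticForm F (ι → F)) (g : ↥(GOq Q)) :
    detGO (RI.qReindex e Q) (reGO e Q g) = detGO Q g := by
  apply Units.ext
  rw [detGO_coe, detGO_coe, reGO_coe, RI.glReindex_coe]
  exact Matrix.det_reindex_self e _

theorem eps_reGO (e : ι ≃ κ) (Q : QuadraticForm F (ι → F)) (hne : ∃ v, Q v ≠ 0)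
    (hne' : ∃ v, RI.qReindex e Q v ≠ 0) (k : ℕ) (g : ↥(GOq Q)) :
    eps (RI.qReindex e Q) hne' k (reGO e Q g) = eps Q hne k g := by
  rw [eps_apply, eps_apply, mult_reGO e Q hne', detGO_reGO]

theorem reGO_surjective (e : ι ≃ κ) (Q : QuadraticForm F (ι → F)) :
    Function.Surjective (reGO e Q) := by
  rintro ⟨g', hg'⟩
  obtain ⟨c, hc⟩ := hg'
  have hmem : (RI.glReindex (F := F) e).symm g' ∈ GO (⇑Q : (ι → F) → F) := by
    refine ⟨c, fun v => ?_⟩
    have h1 := hc (v ∘ e.symm)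
    rw [RI.qReindex_coe] at h1
    have h2 := reindex_mulVec_comp e ((RI.glReindex (F := F) e).symm g') (v ∘ e.symm)
    rw [MulEquiv.apply_symm_apply] at h2
    have h3 : (v ∘ e.symm) ∘ e = v := by
      funext i
      simp
    rw [h3] at h2
    have h4 : Q (((g' : Matrix κ κ F) *ᵥ (v ∘ e.symm)) ∘ e) = (c : F) * Q ((v ∘ e.symm) ∘ e) := h1
    rw [h2, h3] at h4
    exact h4
  refine ⟨⟨(RI.glReindex (F := F) e).symm g', hmem⟩, ?_⟩
  apply Subtype.ext
  rw [reGO_coe]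
  exact MulEquiv.apply_symm_apply _ _

theorem ReT_epsKer_iff (e : ι ≃ κ) (Q : QuadraticForm F (ι → F)) (hne : ∃ v, Q v ≠ 0)
    (hne' : ∃ v, RI.qReindex e Q v ≠ 0) (k : ℕ)
    (β : MulAut (Cfsg.POmega F (⇑Q : (ι → F) → F))) :
    β ∈ (eps Q hne k).ker.map (cHom (⇑Q : (ι → F) → F)) ↔
      ReT e Q β ∈ (eps (RI.qReindex e Q) hne' k).ker.map
        (cHom (⇑(RI.qReindex e Q) : (κ → F) → F)) := by
  constructor
  · rintro ⟨g, hg, rfl⟩
    refine ⟨reGO e Q g, MonoidHom.mem_ker.mpr ?_, (ReT_cHom e Q g).symm⟩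
    rw [eps_reGO e Q hne hne']
    exact MonoidHom.mem_ker.mp hg
  · rintro ⟨g', hg', hβ⟩
    obtain ⟨g, rfl⟩ := reGO_surjective e Q g'
    refine ⟨g, MonoidHom.mem_ker.mpr ?_, ?_⟩
    · rw [← eps_reGO e Q hne hne']
      exact MonoidHom.mem_ker.mp hg'
    · apply (ReT e Q).injective
      rw [ReT_cHom]
      exact hβ

end eps

section gen

variable {X : Type*} {Y : Type*} {Z : Type*} [Group X] [Group Y] [Group Z]

theorem autTr_trans (ψ₁ : X ≃* Y) (ψ₂ : Y ≃* Z) (β : MulAut X) :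
    autTr (ψ₁.trans ψ₂) β = autTr ψ₂ (autTr ψ₁ β) := by
  apply MulEquiv.ext
  intro z
  rfl

theorem autTr_symm_apply (ψ : X ≃* Y) (β : MulAut X) :
    autTr ψ.symm (autTr ψ β) = β := by
  apply MulEquiv.ext
  intro x
  show ψ.symm (ψ (β (ψ.symm (ψ x)))) = β x
  rw [MulEquiv.symm_apply_apply, MulEquiv.symm_apply_apply]

theorem autTr_apply_symm (ψ : X ≃* Y) (β : MulAut Y) :
    autTr ψ (autTr ψ.symm β) = β := by
  apply MulEquiv.ext
  intro y
  show ψ (ψ.symm (β (ψ (ψ.symm y)))) = β y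
  rw [MulEquiv.apply_symm_apply, MulEquiv.apply_symm_apply]

end gen

end Cfsg.Agent.Lib.Helper16.OM
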