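import Mathlib
import Cfsg.Agent.Lib.Helper16.OM25

set_option autoImplicit false
set_option linter.unusedSectionVars false
set_option linter.unusedVariables false

/-! Lang-type results for even-dimensional orthogonal groups, part 26: transport of a standard field
automorphism along a change of coordinates; the graph-field automorphism of the plus-type group in
twisted coordinates. -/

namespace Cfsg.Agent.Lib.Helper16.OM

open Matrix Module Cfsg.Agent.Lib.Lead Cfsg.Agent.Lib.Lead.OA Cfsg.Agent.Lib.Helper16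
  Cfsg.Agent.Lib.Helper16.OA Cfsg.Agent.Lib.Helper16.OL Cfsg.Agent.Lib.Helper16.PSC
  Cfsg.Agent.Lib.Helper16.H9

universe u v

section tr

variable {ι : Type} [Fintype ι] [DecidableEq ι] {F : Type u} [Field F]

/-- transport of the standard field automorphism along a change of coordinates. -/
theorem PsiT_phiS {Q Q' : (ι → F) → F} {t : GL ι F} (ht : Carries Q Q' t) (σ : RingAut F)
    (hσ : SigCompat Q σ) (hσ' : SigCompat Q' σ) (hmem : t * (glMapEquiv σ t)⁻¹ ∈ GO Q') :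
    PsiT ht (phiS Q σ hσ) = cHom Q' ⟨t * (glMapEquiv σ t)⁻¹, hmem⟩ * phiS Q' σ hσ' := by
  apply MulEquiv.ext
  intro y
  obtain ⟨x, rfl⟩ := (psiT ht).surjective y
  rw [PsiT_apply]
  induction x using QuotientGroup.induction_on with
  | H s =>
    rw [MulAut.mul_apply]
    unfold phiS
    rw [ssHom_mk, psiT_mk, psiT_mk, ssHom_mk, cHom_mk]
    congr 1
    apply Subtype.ext
    apply Subtype.ext
    rw [psiT_mk_coe, ssHom_mk_coe, cHom_mk_coe, ssHom_mk_coe, psiT_mk_coe]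
    show t * (1 * glMapEquiv σ _ * 1⁻¹) * t⁻¹ =
      t * (glMapEquiv σ t)⁻¹ * (1 * glMapEquiv σ (t * _ * t⁻¹) * 1⁻¹) * (t * (glMapEquiv σ t)⁻¹)⁻¹
    rw [map_mul, map_mul, map_inv]
    group

end tr

section twist

variable {F : Type u} [Field F] [Fintype F] {n : ℕ}

set_option quotPrecheck false in
local notation "QP" => (qfPlus (n + 1) F)
set_option quotPrecheck false in
local notation "QPf" => (⇑(qfPlus (n + 1) F) : (Fin (n + 1) ⊕ Fin (n + 1) → F) → F)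

/-- the minus-type form with binary part `z₁² + z₁ z₂ + ζ z₂²`, in the coordinates of the plus-type
form. -/
noncomputable abbrev Rtw (n : ℕ) (F : Type u) [Field F] (ζ : F) :
    QuadraticForm F (Fin (n + 1) ⊕ Fin (n + 1) → F) :=
  RI.qReindex (reIdx n) (qfMinus n F 1 ζ)

theorem Rtw_apply (ζ : F) (w : Fin (n + 1) ⊕ Fin (n + 1) → F) :
    Rtw n F ζ w = Cfsg.quadFormMinus n F 1 ζ (w ∘ reIdx n) := rfl

theorem carries_TGL (ζ θ θ' : F) (hsum : θ + θ' = -1) (hprod : θ * θ' = ζ) (hΔ : θ - θ' ≠ 0) :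
    Carries QPf (⇑(Rtw n F ζ) : (Fin (n + 1) ⊕ Fin (n + 1) → F) → F) (TGL n θ θ' hΔ) := by
  intro v
  rw [Rtw_apply, qfPlus_coe]
  exact plus_eq_minus_TGL ζ θ θ' hsum hprod hΔ v

theorem swapGL_mem_GO : swapGL n F ∈ GO QPf := by
  rw [← refl_u0_eq_swap]
  exact (isoToGO QP (CDG.refl QP (u0 n F) Q_u0_ne)).2

theorem sigCompat_Rtw (σ : RingAut F) (ζ : F) (hζ : σ ζ = ζ) :
    SigCompat (⇑(Rtw n F ζ) : (Fin (n + 1) ⊕ Fin (n + 1) → F) → F) σ :=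
  sigCompat_re (reIdx n) (qfMinus n F 1 ζ) σ (sigCompat_minus σ 1 ζ (map_one σ) hζ)

/-- the transport of automorphisms from the plus-type form to the minus-type form with split binary
part. -/
noncomputable def ThetaTw (ζ θ θ' : F) (hsum : θ + θ' = -1) (hprod : θ * θ' = ζ)
    (hΔ : θ - θ' ≠ 0) :
    MulAut (Cfsg.POmega F QPf) ≃*
      MulAut (Cfsg.POmega F (⇑(qfMinus n F 1 ζ) : ((Fin n ⊕ Fin n) ⊕ Fin 2 → F) → F)) :=
  (PsiT (carries_TGL ζ θ θ' hsum hprod hΔ)).trans (ReT (reIdx n) (qfMinus n F 1 ζ)).symm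

theorem ThetaTw_eq_iff (ζ θ θ' : F) (hsum : θ + θ' = -1) (hprod : θ * θ' = ζ)
    (hΔ : θ - θ' ≠ 0) (β : MulAut (Cfsg.POmega F QPf))
    (β' : MulAut (Cfsg.POmega F (⇑(qfMinus n F 1 ζ) : ((Fin n ⊕ Fin n) ⊕ Fin 2 → F) → F))) :
    ThetaTw ζ θ θ' hsum hprod hΔ β = β' ↔
      PsiT (carries_TGL ζ θ θ' hsum hprod hΔ) β = ReT (reIdx n) (qfMinus n F 1 ζ) β' := by
  unfold ThetaTw
  rw [MulEquiv.trans_apply, MulEquiv.symm_apply_eq]

set_option maxHeartbeats 1600000 in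
/-- in the twisted coordinates the standard graph-field automorphism is the standard field
automorphism. -/
theorem ThetaTw_gf (ζ θ θ' : F) (hsum : θ + θ' = -1) (hprod : θ * θ' = ζ) (hΔ : θ - θ' ≠ 0)
    (σ : RingAut F) (h1 : σ θ = θ') (h2 : σ θ' = θ) (hζ : σ ζ = ζ)
    (hσ : SigCompat QPf σ) :
    ThetaTw ζ θ θ' hsum hprod hΔ
        (cHom QPf (isoToGO QP (CDG.refl QP (u0 n F) Q_u0_ne)) * phiS QPf σ hσ) =
      phiS (⇑(qfMinus n F 1 ζ) : ((Fin n ⊕ Fin n) ⊕ Fin 2 → F) → F) σ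
        (sigCompat_minus σ 1 ζ (map_one σ) hζ) := by
  rw [ThetaTw_eq_iff, ReT_phiS]
  have ht := carries_TGL (n := n) ζ θ θ' hsum hprod hΔ
  have hσT : glMapEquiv σ (TGL n θ θ' hΔ) = TGL n θ θ' hΔ * swapGL n F :=
    glMapEquiv_TGL σ θ θ' hΔ h1 h2
  have hswinv : (swapGL n F)⁻¹ ∈ GO QPf := inv_mem swapGL_mem_GO
  have hmem : TGL n θ θ' hΔ * (glMapEquiv σ (TGL n θ θ' hΔ))⁻¹ ∈
      GO (⇑(Rtw n F ζ) : (Fin (n + 1) ⊕ Fin (n + 1) → F) → F) := by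
    have := conj_mem_GO ht hswinv
    have e : TGL n θ θ' hΔ * (glMapEquiv σ (TGL n θ θ' hΔ))⁻¹ =
        TGL n θ θ' hΔ * (swapGL n F)⁻¹ * (TGL n θ θ' hΔ)⁻¹ := by
      rw [hσT]; group
    rw [e]
    exact this
  rw [map_mul, PsiT_cHom ht, PsiT_phiS ht σ hσ (sigCompat_Rtw σ ζ hζ) hmem, ← mul_assoc, ← map_mul]
  have e1 : (⟨TGL n θ θ' hΔ *
        ((isoToGO QP (CDG.refl QP (u0 n F) Q_u0_ne) : ↥(GOq QP)) : GL (Fin (n + 1) ⊕ Fin (n + 1)) F) *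
        (TGL n θ θ' hΔ)⁻¹, conj_mem_GO ht (isoToGO QP (CDG.refl QP (u0 n F) Q_u0_ne)).2⟩ :
      ↥(GO (⇑(Rtw n F ζ) : (Fin (n + 1) ⊕ Fin (n + 1) → F) → F))) *
      ⟨TGL n θ θ' hΔ * (glMapEquiv σ (TGL n θ θ' hΔ))⁻¹, hmem⟩ = 1 := by
    apply Subtype.ext
    show TGL n θ θ' hΔ *
        ((isoToGO QP (CDG.refl QP (u0 n F) Q_u0_ne) : ↥(GOq QP)) : GL (Fin (n + 1) ⊕ Fin (n + 1)) F) *
        (TGL n θ θ' hΔ)⁻¹ * (TGL n θ θ' hΔ * (glMapEquiv σ (TGL n θ θ' hΔ))⁻¹) = 1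
    rw [refl_u0_eq_swap, hσT]
    group
  rw [e1, map_one, one_mul]

end twist

section twist2

variable {F : Type u} [Field F] [Fintype F] {n : ℕ}

set_option quotPrecheck false in
local notation "QP" => (qfPlus (n + 1) F)
set_option quotPrecheck false in
local notation "QPf" => (⇑(qfPlus (n + 1) F) : (Fin (n + 1) ⊕ Fin (n + 1) → F) → F)

theorem ThetaTw_inn_iff (ζ θ θ' : F) (hsum : θ + θ' = -1) (hprod : θ * θ' = ζ)
    (hΔ : θ - θ' ≠ 0) (β : MulAut (Cfsg.POmega F QPf)) :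
    β ∈ Cfsg.Inn (Cfsg.POmega F QPf) ↔
      ThetaTw ζ θ θ' hsum hprod hΔ β ∈
        Cfsg.Inn (Cfsg.POmega F (⇑(qfMinus n F 1 ζ) : ((Fin n ⊕ Fin n) ⊕ Fin 2 → F) → F)) := by
  have h1 := autTr_inn_iff (psiT (carries_TGL (n := n) ζ θ θ' hsum hprod hΔ)) β
  have h2 := autTr_inn_iff (rhoRe (reIdx n) (qfMinus n F 1 ζ)) (ThetaTw ζ θ θ' hsum hprod hΔ β)
  have h3 : autTr (rhoRe (reIdx n) (qfMinus n F 1 ζ)) (ThetaTw ζ θ θ' hsum hprod hΔ β) =
      autTr (psiT (carries_TGL (n := n) ζ θ θ' hsum hprod hΔ)) β :=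
    ((ThetaTw_eq_iff ζ θ θ' hsum hprod hΔ β _).mp rfl).symm
  rw [h2, h3]
  exact h1

theorem ThetaTw_epsKer_iff (ζ θ θ' : F) (hsum : θ + θ' = -1) (hprod : θ * θ' = ζ)
    (hΔ : θ - θ' ≠ 0) (hneP : ∃ v, qfPlus (n + 1) F v ≠ 0)
    (hneM : ∃ v, qfMinus n F 1 ζ v ≠ 0) (β : MulAut (Cfsg.POmega F QPf)) :
    β ∈ (eps QP hneP (n + 1)).ker.map (cHom QPf) ↔
      ThetaTw ζ θ θ' hsum hprod hΔ β ∈ (eps (qfMinus n F 1 ζ) hneM (n + 1)).ker.map
        (cHom (⇑(qfMinus n F 1 ζ) : ((Fin n ⊕ Fin n) ⊕ Fin 2 → F) → F)) := by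
  have hneR := re_exists_ne_zero (reIdx n) (qfMinus n F 1 ζ) hneM
  have h1 := epsKer_PsiT_iff QP (Rtw n F ζ) (carries_TGL (n := n) ζ θ θ' hsum hprod hΔ) hneP hneR
    (n + 1) β
  have h2 := ReT_epsKer_iff (reIdx n) (qfMinus n F 1 ζ) hneM hneR (n + 1)
    (ThetaTw ζ θ θ' hsum hprod hΔ β)
  have h3 : ReT (reIdx n) (qfMinus n F 1 ζ) (ThetaTw ζ θ θ' hsum hprod hΔ β) =
      autTr (psiT (carries_TGL (n := n) ζ θ θ' hsum hprod hΔ)) β :=
    ((ThetaTw_eq_iff ζ θ θ' hsum hprod hΔ β _).mp rfl).symm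
  rw [h2, h3]
  exact h1

end twist2

end Cfsg.Agent.Lib.Helper16.OM
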