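import Mathlib
import Cfsg.Agent.Lib.Helper16.OM26

set_option autoImplicit false
set_option linter.unusedSectionVars false
set_option linter.unusedVariables false

/-! Lang-type results for even-dimensional orthogonal groups, part 27: the centraliser of the standard
graph-field automorphism of the plus-type group in its inner-diagonal group. -/

namespace Cfsg.Agent.Lib.Helper16.OM

open Matrix Module Cfsg.Agent.Lib.Lead Cfsg.Agent.Lib.Lead.OA Cfsg.Agent.Lib.Helper16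
  Cfsg.Agent.Lib.Helper16.OA Cfsg.Agent.Lib.Helper16.OL Cfsg.Agent.Lib.Helper16.PSC
  Cfsg.Agent.Lib.Helper16.H9

universe u v

section cent

variable {F : Type u} [Field F] [Fintype F] {F₀ : Type v} [Field F₀] [Fintype F₀] {n : ℕ}

set_option quotPrecheck false in
local notation "QP" => (qfPlus (n + 1) F)
set_option quotPrecheck false in
local notation "QPf" => (⇑(qfPlus (n + 1) F) : (Fin (n + 1) ⊕ Fin (n + 1) → F) → F)

theorem baseCompat_minus_one (j : F₀ →+* F) (ζ₀ : F₀) :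
    BaseCompat j (⇑(qfMinus n F₀ 1 ζ₀)) (⇑(qfMinus n F 1 (j ζ₀))) := by
  have := baseCompat_minus_gen (m := n) j 1 ζ₀
  rwa [map_one] at this

theorem nondeg_minus_base (j : F₀ →+* F) (ζ₀ : F₀)
    (hab₀ : ∀ z₁ z₂ : F₀, z₁ ^ 2 + 1 * z₁ * z₂ + ζ₀ * z₂ ^ 2 = 0 → z₁ = 0 ∧ z₂ = 0) :
    (QuadraticMap.polarBilin (qfMinus n F 1 (j ζ₀))).Nondegenerate := by
  apply nondeg_minus_disc
  have h1 := disc_ne_zero_of_aniso (1 : F₀) ζ₀ hab₀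
  intro h
  apply h1
  apply j.injective
  rw [map_sub, map_pow, map_one, map_mul, map_zero]
  have : j 4 = 4 := map_ofNat j 4
  rw [this]
  exact h

set_option maxHeartbeats 1600000 in
/-- the centraliser of the standard graph-field automorphism. -/
theorem centIso_tw (hn : 4 ≤ n) (j : F₀ →+* F) (ζ₀ : F₀)
    (hab₀ : ∀ z₁ z₂ : F₀, z₁ ^ 2 + 1 * z₁ * z₂ + ζ₀ * z₂ ^ 2 = 0 → z₁ = 0 ∧ z₂ = 0)
    (θ θ' : F) (hsum : θ + θ' = -1) (hprod : θ * θ' = j ζ₀) (hΔ : θ - θ' ≠ 0)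
    (σ : RingAut F) (h1 : σ θ = θ') (h2 : σ θ' = θ) (hσ : SigCompat QPf σ) (r : ℕ)
    (hord : orderOf σ = r) (hr0 : 0 < r) (hj : ∀ x, (∃ y, j y = x) ↔ σ x = x) :
    Nonempty (↥(Cfsg.inndiagPOmegaPlus (n + 1) F ⊓ Subgroup.centralizer
        {cHom QPf (isoToGO QP (CDG.refl QP (u0 n F) Q_u0_ne)) * phiS QPf σ hσ}) ≃*
      ↥(Cfsg.inndiagPOmegaMinus n F₀ 1 ζ₀)) := by
  have hζ : σ (j ζ₀) = j ζ₀ := (hj _).mp ⟨ζ₀, rfl⟩
  have hσm := sigCompat_minus (m := n) σ 1 (j ζ₀) (map_one σ) hζ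
  obtain ⟨hQ₀, hcard7, -⟩ := minus_hyps n (by omega) 1 ζ₀ hab₀
  have hQm := nondeg_minus_base (n := n) j ζ₀ hab₀
  have hne₀ := minus_exists_ne_zero (F := F₀) n 1 ζ₀
  have hneM := minus_exists_ne_zero (F := F) n 1 (j ζ₀)
  have hneP := plus_exists_ne_zero (F := F) (n + 1) (by omega)
  have hbc := baseCompat_minus_one (n := n) j ζ₀
  have hgf := ThetaTw_gf (j ζ₀) θ θ' hsum hprod hΔ σ h1 h2 hζ hσ
  by_cases hch : ringChar F = 2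
  · have hcp : CharP F 2 := by
      rw [← hch]; exact ringChar.charP F
    have hcp₀ : CharP F₀ 2 := RingHom.charP j j.injective 2
    rw [inndiagPlus_eq_inn_char2 (by omega : 3 ≤ n + 1),
      inndiagMinus_eq_inn_char2 1 ζ₀ (by omega : 2 ≤ n) hab₀]
    obtain ⟨e1⟩ := cent_transport (ThetaTw (j ζ₀) θ θ' hsum hprod hΔ) _ _
      (fun β => ThetaTw_inn_iff (j ζ₀) θ θ' hsum hprod hΔ β)
      (cHom QPf (isoToGO QP (CDG.refl QP (u0 n F) Q_u0_ne)) * phiS QPf σ hσ)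
    rw [hgf] at e1
    have hinn₀ : Cfsg.Inn (Cfsg.POmega F₀ (Cfsg.quadFormMinus n F₀ 1 ζ₀)) =
        (Cfsg.Omega F₀ (⇑(qfMinus n F₀ 1 ζ₀) : ((Fin n ⊕ Fin n) ⊕ Fin 2 → F₀) → F₀)).map
          (c0 (qfMinus n F₀ 1 ζ₀)) := inn_eq' (qfMinus n F₀ 1 ζ₀)
    have hinn : Cfsg.Inn (Cfsg.POmega F (⇑(qfMinus n F 1 (j ζ₀)) :
          ((Fin n ⊕ Fin n) ⊕ Fin 2 → F) → F)) =
        (Cfsg.Omega F (⇑(qfMinus n F 1 (j ζ₀)) : ((Fin n ⊕ Fin n) ⊕ Fin 2 → F) → F)).map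
          (c0 (qfMinus n F 1 (j ζ₀))) := inn_eq' (qfMinus n F 1 (j ζ₀))
    obtain ⟨e2⟩ := centIso_of_K1 j (qfMinus n F₀ 1 ζ₀) (qfMinus n F 1 (j ζ₀)) hbc hQ₀ hQm hcard7
      hne₀ σ hσm r hord hr0 hj
      (Cfsg.Inn (Cfsg.POmega F₀ (⇑(qfMinus n F₀ 1 ζ₀) : ((Fin n ⊕ Fin n) ⊕ Fin 2 → F₀) → F₀)))
      (Cfsg.Inn (Cfsg.POmega F (⇑(qfMinus n F 1 (j ζ₀)) : ((Fin n ⊕ Fin n) ⊕ Fin 2 → F) → F)))
      (by
        rw [inn_eq']
        rintro _ ⟨s, -, rfl⟩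
        exact ⟨_, rfl⟩)
      (by
        rw [inn_eq']
        rintro _ ⟨s, -, rfl⟩
        exact ⟨_, rfl⟩)
      (fun g₀ => by
        rw [inn_eq', inn_eq']
        exact K1_char2 j (qfMinus n F₀ 1 ζ₀) (qfMinus n F 1 (j ζ₀)) hbc hQ₀ hQm hcard7 hne₀ hneM g₀)
    exact ⟨e1.trans e2⟩
  · have hodd : Odd (Fintype.card F) := Nat.odd_iff.mpr (FiniteField.odd_card_of_char_ne_two hch)
    have h2F : (2 : F) ≠ 0 := Cfsg.Agent.Lib.Lead.OAP.two_ne_zero_of_odd hodd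
    have h2₀ : (2 : F₀) ≠ 0 := two_ne_zero_base j h2F
    have hodd₀ : Odd (Fintype.card F₀) :=
      Nat.odd_iff.mpr (FiniteField.odd_card_of_char_ne_two (ringChar_ne_two_of h2₀))
    rw [inndiagPlus_eq h2F hneP, inndiagMinus_eq 1 ζ₀ hodd₀ hab₀ hne₀]
    obtain ⟨e1⟩ := cent_transport (ThetaTw (j ζ₀) θ θ' hsum hprod hΔ) _ _
      (fun β => ThetaTw_epsKer_iff (j ζ₀) θ θ' hsum hprod hΔ hneP hneM β)
      (cHom QPf (isoToGO QP (CDG.refl QP (u0 n F) Q_u0_ne)) * phiS QPf σ hσ)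
    rw [hgf] at e1
    obtain ⟨e2⟩ := centIso_of_K1 j (qfMinus n F₀ 1 ζ₀) (qfMinus n F 1 (j ζ₀)) hbc hQ₀ hQm hcard7
      hne₀ σ hσm r hord hr0 hj
      ((eps (qfMinus n F₀ 1 ζ₀) hne₀ (n + 1)).ker.map
        (cHom (⇑(qfMinus n F₀ 1 ζ₀) : ((Fin n ⊕ Fin n) ⊕ Fin 2 → F₀) → F₀)))
      ((eps (qfMinus n F 1 (j ζ₀)) hneM (n + 1)).ker.map
        (cHom (⇑(qfMinus n F 1 (j ζ₀)) : ((Fin n ⊕ Fin n) ⊕ Fin 2 → F) → F)))
      (by
        rintro _ ⟨g, -, rfl⟩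
        exact ⟨_, rfl⟩)
      (by
        rintro _ ⟨g, -, rfl⟩
        exact ⟨_, rfl⟩)
      (fun g₀ => K1_odd j (qfMinus n F₀ 1 ζ₀) (qfMinus n F 1 (j ζ₀)) hbc hQ₀ hQm hcard7 hne₀ hneM
        (n + 1) (card_minus_index n) g₀)
    exact ⟨e1.trans e2⟩

end cent

end Cfsg.Agent.Lib.Helper16.OM
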