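import Mathlib
import Cfsg.Agent.Lib.Helper16.OM27

set_option autoImplicit false
set_option linter.unusedSectionVars false
set_option linter.unusedVariables false

/-! Lang-type results for even-dimensional orthogonal groups, part 28: involutory graph-field
automorphisms of the plus-type group are all conjugate under the inner-diagonal group. -/

namespace Cfsg.Agent.Lib.Helper16.OM

open Matrix Module Cfsg.Agent.Lib.Lead Cfsg.Agent.Lib.Lead.OA Cfsg.Agent.Lib.Helper16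
  Cfsg.Agent.Lib.Helper16.OA Cfsg.Agent.Lib.Helper16.OL Cfsg.Agent.Lib.Helper16.PSC
  Cfsg.Agent.Lib.Helper16.H9

universe u

section grp

variable {A : Type u} [Group A]

/-- conjugation does not change the coset of `γ φ` modulo `D`. -/
theorem coset_invariant (D P : Subgroup A) (hDN : D.Normal)
    (hidx : ∀ x y : A, x ∈ P → y ∈ P → x ∉ D → y ∉ D → x * y ∈ D)
    (γ φ : A) (hγP : γ ∈ P) (hγD : γ ∉ D)
    (α p t : A) (hα : α = p * t) (hp : p ∈ P) (ht : t * φ = φ * t)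
    (hφp : φ * p⁻¹ * φ⁻¹ ∈ P) (hαγ : α * γ * α⁻¹ ∈ P) :
    α * (γ * φ) * α⁻¹ * (γ * φ)⁻¹ ∈ D := by
  have ha : α * γ * α⁻¹ * γ⁻¹ ∈ D := by
    apply hidx _ _ hαγ (P.inv_mem hγP)
    · intro h
      apply hγD
      have := hDN.conj_mem _ h α⁻¹
      have e : α⁻¹ * (α * γ * α⁻¹) * α⁻¹⁻¹ = γ := by group
      rwa [e] at this
    · intro h
      apply hγD
      have := D.inv_mem h
      rwa [inv_inv] at this
  have hb : α * φ * α⁻¹ * φ⁻¹ ∈ D := by
    have e : α * φ * α⁻¹ * φ⁻¹ = p * (φ * p⁻¹ * φ⁻¹) := by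
      have h1 : t * φ * t⁻¹ = φ := by rw [ht]; group
      rw [hα]
      calc p * t * φ * (p * t)⁻¹ * φ⁻¹ = p * (t * φ * t⁻¹) * p⁻¹ * φ⁻¹ := by group
        _ = p * (φ * p⁻¹ * φ⁻¹) := by rw [h1]; group
    rw [e, mul_mem_iff_parity D P hidx hp hφp]
    constructor
    · intro h
      exact hDN.conj_mem _ (D.inv_mem h) φ
    · intro h
      have := hDN.conj_mem _ h φ⁻¹
      have e2 : φ⁻¹ * (φ * p⁻¹ * φ⁻¹) * φ⁻¹⁻¹ = p⁻¹ := by group
      rw [e2] at this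
      have := D.inv_mem this
      rwa [inv_inv] at this
  have e : α * (γ * φ) * α⁻¹ * (γ * φ)⁻¹ =
      (α * γ * α⁻¹ * γ⁻¹) * (γ * (α * φ * α⁻¹ * φ⁻¹) * γ⁻¹) := by group
  rw [e]
  exact D.mul_mem ha (hDN.conj_mem _ hb γ)

end grp

section dec

variable {ι : Type} [Fintype ι] [DecidableEq ι] {F : Type u} [Field F] [Fintype F]

theorem ssRight_sigEl (Q : (ι → F) → F) (τ : RingAut F) (hτ : SigCompat Q τ) :
    ssRight Q (sigEl Q τ hτ) = τ := rfl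

/-- every automorphism is the product of an automorphism induced by a similarity and a standard
field automorphism. -/
theorem aut_decomp (Q : QuadraticForm F (ι → F)) (hQ : (QuadraticMap.polarBilin Q).Nondegenerate)
    (hn : 7 ≤ Fintype.card ι)
    (hT : 9 ≤ Fintype.card ι ∨ Fintype.card ι ≤ 7 ∨
      ∀ U : Submodule F (ι → F), (∀ u ∈ U, Q u = 0) → Module.finrank F U ≤ 3)
    (hall : ∀ τ : RingAut F, SigCompat (⇑Q : (ι → F) → F) τ)
    (α : MulAut (Cfsg.POmega F (⇑Q : (ι → F) → F))) :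
    ∃ (g : ↥(GOq Q)) (τ : RingAut F),
      α = cHom (⇑Q : (ι → F) → F) g * phiS (⇑Q : (ι → F) → F) τ (hall τ) := by
  obtain ⟨z, rfl⟩ := ssHom_surjective Q hQ hn hT α
  set τ := ssRight (⇑Q : (ι → F) → F) z with hτ
  have h1 : z * (sigEl (⇑Q : (ι → F) → F) τ (hall τ))⁻¹ ∈ (ssRight (⇑Q : (ι → F) → F)).ker := by
    rw [MonoidHom.mem_ker, map_mul, map_inv, ssRight_sigEl, ← hτ, mul_inv_cancel]
  rw [ssRight_ker] at h1
  obtain ⟨g, hg⟩ := h1
  refine ⟨g, τ, ?_⟩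
  have e : z = goIncl (⇑Q : (ι → F) → F) g * sigEl (⇑Q : (ι → F) → F) τ (hall τ) := by
    rw [hg]; group
  conv_lhs => rw [e]
  rw [map_mul, ssHom_goIncl]
  rfl

theorem phiS_comm (Q : (ι → F) → F) (σ τ : RingAut F) (hσ : SigCompat Q σ) (hτ : SigCompat Q τ)
    (hc : σ * τ = τ * σ) : phiS Q τ hτ * phiS Q σ hσ = phiS Q σ hσ * phiS Q τ hτ := by
  unfold phiS
  rw [← map_mul, ← map_mul, ← sigEl_mul, ← sigEl_mul]
  congr 1
  apply Subtype.ext
  show (SemidirectProduct.inr (τ * σ) : GammaL ι F) = SemidirectProduct.inr (σ * τ)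
  rw [hc]

end dec

section plus

variable {F : Type u} [Field F] [Fintype F] {n : ℕ}

set_option quotPrecheck false in
local notation "QP" => (qfPlus (n + 1) F)
set_option quotPrecheck false in
local notation "QPf" => (⇑(qfPlus (n + 1) F) : (Fin (n + 1) ⊕ Fin (n + 1) → F) → F)

set_option maxHeartbeats 1600000 in
/-- the data of an involutory graph-field automorphism. -/
theorem gf_decode (hn4 : 4 ≤ n) (x : MulAut (Cfsg.POmega F QPf))
    (hx : Cfsg.IsGraphFieldAutClassPOmegaPlus (n + 1) x) (hx2 : orderOf x = 2) :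
    ∃ (α : MulAut (Cfsg.POmega F QPf)) (σ : RingAut F) (v : Fin (n + 1) ⊕ Fin (n + 1) → F)
      (hv : qfPlus (n + 1) F v ≠ 0), orderOf σ = 2 ∧ (∀ i, σ (v i) = v i) ∧
      α * x * α⁻¹ = cHom QPf (isoToGO QP (CDG.refl QP v hv)) *
        phiS QPf σ (sigCompat_plus σ (n + 1)) := by
  obtain ⟨D, hDeq, hDN, hD1, hD2, hD3⟩ := inndiag_plus_data (F := F) hn4
  have hQ := qfPlus_nondeg (n + 1) F
  have hcard := card_plus_index (n + 1)
  have hn : 7 ≤ Fintype.card (Fin (n + 1) ⊕ Fin (n + 1)) := by rw [hcard]; omega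
  obtain ⟨α, γ, φ, σ, v, ρ, hσ1, hv, hvfix, hρ, hind, hfa, hα⟩ :
      ∃ (α γ φ : MulAut (Cfsg.POmega F QPf)) (σ : F ≃+* F) (v : Fin (n + 1) ⊕ Fin (n + 1) → F)
        (r : GL (Fin (n + 1) ⊕ Fin (n + 1)) F),
      σ ≠ RingEquiv.refl F ∧ QPf v ≠ 0 ∧ (∀ i, σ (v i) = v i) ∧
      (r : Matrix (Fin (n + 1) ⊕ Fin (n + 1)) (Fin (n + 1) ⊕ Fin (n + 1)) F) =
        Cfsg.reflectionMatrix QPf v ∧
      Cfsg.IsInducedBySemilinearPOmega QPf r (RingEquiv.refl F) γ ∧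
      Cfsg.IsFieldAutPOmegaOf QPf σ φ ∧ α * x * α⁻¹ = γ * φ := hx
  have hσ : SigCompat QPf σ := sigCompat_plus σ (n + 1)
  have hφ : φ = phiS QPf σ hσ := (isFieldAut_iff_phiS QPf σ hσ _).1 hfa
  have hv' : qfPlus (n + 1) F v ≠ 0 := hv
  have hρeq : ρ = ((CDG.refl QP v hv' : ↥(Cfsg.isometryGroup F QPf)) :
      GL (Fin (n + 1) ⊕ Fin (n + 1)) F) := by
    apply Units.ext
    rw [hρ, CDG.refl_coe]
  have hρmem : ρ ∈ GO QPf := by
    rw [hρeq]
    exact (isoToGO QP (CDG.refl QP v hv')).2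
  have hγ : γ = cHom QPf (isoToGO QP (CDG.refl QP v hv')) := by
    have h1 := (induced_iff QPf ρ hρmem γ).1 hind
    rw [h1]
    congr 1
    apply Subtype.ext
    exact hρeq
  set γv := cHom QPf (isoToGO QP (CDG.refl QP v hv')) with hγv
  set φs := phiS QPf σ hσ with hφs
  have hα' : α * x * α⁻¹ = γv * φs := by
    rw [hα]
    exact congrArg₂ (· * ·) hγ hφ
  refine ⟨α, σ, v, hv', ?_, hvfix, hα'⟩
  have hx₀ord : orderOf (γv * φs) = 2 := by
    rw [← hα', ← hx2]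
    have := (MulAut.conj α).orderOf_eq x
    rwa [MulAut.conj_apply] at this
  have hcomm : γv * φs = φs * γv := cHom_refl_comm QP σ hσ v hv' hvfix
  have hx₀pow : (γv * φs) ^ 2 = 1 := by rw [← hx₀ord]; exact pow_orderOf_eq_one _
  have hmulpow : γv ^ 2 * φs ^ 2 = 1 := by
    rw [← (Commute.mul_pow (show Commute γv φs from hcomm) 2)]
    exact hx₀pow
  have hσr : (σ : RingAut F) ^ 2 = 1 := by
    apply phiS_mem_pgo QP hQ hn (σ ^ 2) (sigCompat_pow hσ 2)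
    rw [← phiS_pow QPf σ hσ 2]
    have h1 : φs ^ 2 = (γv ^ 2)⁻¹ := eq_inv_of_mul_eq_one_right hmulpow
    rw [← hφs, h1, hγv, ← map_pow, ← map_inv]
    exact ⟨_, rfl⟩
  have hσne : (σ : RingAut F) ≠ 1 := hσ1
  exact orderOf_eq_prime hσr hσne

theorem ringAut_involution_unique (hcyc : IsCyclic (RingAut F)) (σ τ : RingAut F)
    (hσ : orderOf σ = 2) (hτ : orderOf τ = 2) : σ = τ := by
  classical
  have hfin : Finite (RingAut F) :=
    Finite.of_injective (fun e : RingAut F => (e : F → F)) DFunLike.coe_injective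
  have : Fintype (RingAut F) := Fintype.ofFinite _
  have hd : 2 ∣ Fintype.card (RingAut F) := by
    rw [← hσ]; exact orderOf_dvd_card
  have h := IsCyclic.card_orderOf_eq_totient (α := RingAut F) hd
  rw [Nat.totient_two] at h
  have hσm : σ ∈ Finset.univ.filter (fun a : RingAut F => orderOf a = 2) := by simp [hσ]
  have hτm : τ ∈ Finset.univ.filter (fun a : RingAut F => orderOf a = 2) := by simp [hτ]
  exact Finset.card_le_one.mp (le_of_eq h) σ hσm τ hτm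

set_option maxHeartbeats 3200000 in
/-- involutory graph-field automorphisms are all conjugate under the inner-diagonal group. -/
theorem gf_unique (hn4 : 4 ≤ n) (hcyc : IsCyclic (RingAut F))
    (x y : MulAut (Cfsg.POmega F QPf))
    (hx : Cfsg.IsGraphFieldAutClassPOmegaPlus (n + 1) x) (hx2 : orderOf x = 2)
    (hy : Cfsg.IsGraphFieldAutClassPOmegaPlus (n + 1) y) (hy2 : orderOf y = 2) :
    Cfsg.IsConjUnder (Cfsg.inndiagPOmegaPlus (n + 1) F) x y := by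
  have hcommG : ∀ a b : RingAut F, a * b = b * a := by
    intro a b
    exact (isMulCommutative_iff.mp (IsCyclic.isMulCommutative (α := RingAut F))) a b
  obtain ⟨D, hDeq, hDN, hD1, hD2, hD3⟩ := inndiag_plus_data (F := F) hn4
  have hQ := qfPlus_nondeg (n + 1) F
  have hcard := card_plus_index (n + 1)
  have hn : 7 ≤ Fintype.card (Fin (n + 1) ⊕ Fin (n + 1)) := by rw [hcard]; omega
  have h9 : 9 ≤ Fintype.card (Fin (n + 1) ⊕ Fin (n + 1)) := by rw [hcard]; omega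
  have hall : ∀ τ : RingAut F, SigCompat QPf τ := fun τ => sigCompat_plus τ (n + 1)
  obtain ⟨α₁, σ₁, v₁, hv₁, hσ₁, hfix₁, hα₁⟩ := gf_decode hn4 x hx hx2
  obtain ⟨α₂, σ₂, v₂, hv₂, hσ₂, hfix₂, hα₂⟩ := gf_decode hn4 y hy hy2
  have hσeq : σ₂ = σ₁ := ringAut_involution_unique hcyc σ₂ σ₁ hσ₂ hσ₁
  subst hσeq
  set φ := phiS QPf σ₂ (sigCompat_plus σ₂ (n + 1)) with hφ
  set γ₁ := cHom QPf (isoToGO QP (CDG.refl QP v₁ hv₁)) with hγ₁
  set γ₂ := cHom QPf (isoToGO QP (CDG.refl QP v₂ hv₂)) with hγ₂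
  have hidx : ∀ a b, a ∈ (cHom QPf).range → b ∈ (cHom QPf).range → a ∉ D → b ∉ D → a * b ∈ D := by
    intro a b ha hb haD hbD
    refine index_two_of_dichotomy D (cHom QPf).range hDN
      (cHom QPf (isoToGO QP (CDG.refl QP (u0 n F) Q_u0_ne))) ⟨_, rfl⟩ ?_ ha hb haD hbD
    rintro _ ⟨h, rfl⟩
    exact hD2 (u0 n F) Q_u0_ne h
  -- conjugation preserves the coset
  have hinv : ∀ (β : MulAut (Cfsg.POmega F QPf)) (v : Fin (n + 1) ⊕ Fin (n + 1) → F)
      (hv : qfPlus (n + 1) F v ≠ 0),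
      β * (cHom QPf (isoToGO QP (CDG.refl QP v hv)) * φ) * β⁻¹ *
        (cHom QPf (isoToGO QP (CDG.refl QP v hv)) * φ)⁻¹ ∈ D := by
    intro β v hv
    obtain ⟨g, τ, hβ⟩ := aut_decomp QP hQ hn (Or.inl h9) hall β
    have hPconj : ∀ c ∈ (cHom QPf).range, β * c * β⁻¹ ∈ (cHom QPf).range := by
      intro c hc
      have h1 := phiS_conj_cHom_mem QPf τ (hall τ) c hc
      obtain ⟨c', hc'⟩ := h1
      rw [hβ]
      have e : cHom QPf g * phiS QPf τ (hall τ) * c * (cHom QPf g * phiS QPf τ (hall τ))⁻¹ =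
          cHom QPf g * (phiS QPf τ (hall τ) * c * (phiS QPf τ (hall τ))⁻¹) * (cHom QPf g)⁻¹ := by
        group
      rw [e, ← hc', ← map_mul, ← map_inv, ← map_mul]
      exact ⟨_, rfl⟩
    refine coset_invariant D (cHom QPf).range hDN hidx _ φ ⟨_, rfl⟩ (hD3 v hv) β
      (cHom QPf g) (phiS QPf τ (hall τ)) hβ ⟨_, rfl⟩ ?_ ?_ (hPconj _ ⟨_, rfl⟩)
    · exact phiS_comm QPf σ₂ τ (sigCompat_plus σ₂ (n + 1)) (hall τ) (hcommG σ₂ τ)
    · exact phiS_conj_cHom_mem QPf σ₂ (sigCompat_plus σ₂ (n + 1)) _ ((cHom QPf).range.inv_mem ⟨_, rfl⟩)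
  have hx' : x = α₁⁻¹ * (γ₁ * φ) * α₁⁻¹⁻¹ := by
    rw [← hα₁]; group
  have hy' : y = α₂⁻¹ * (γ₂ * φ) * α₂⁻¹⁻¹ := by
    rw [← hα₂]; group
  have h1 : x * (γ₁ * φ)⁻¹ ∈ D := by
    rw [hx']
    exact hinv α₁⁻¹ v₁ hv₁
  have h2 : y * (γ₂ * φ)⁻¹ ∈ D := by
    rw [hy']
    exact hinv α₂⁻¹ v₂ hv₂
  have h3 : (γ₂ * φ) * (γ₁ * φ)⁻¹ ∈ D := by
    have e : (γ₂ * φ) * (γ₁ * φ)⁻¹ = γ₂ * γ₁⁻¹ := by group
    rw [e]
    apply hidx _ _ ⟨_, rfl⟩ ((cHom QPf).range.inv_mem ⟨_, rfl⟩) (hD3 v₂ hv₂)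
    intro h
    apply hD3 v₁ hv₁
    have := D.inv_mem h
    rwa [inv_inv] at this
  have hδ : y * x⁻¹ ∈ D := by
    have e : y * x⁻¹ = (y * (γ₂ * φ)⁻¹) * ((γ₂ * φ) * (γ₁ * φ)⁻¹) * (x * (γ₁ * φ)⁻¹)⁻¹ := by group
    rw [e]
    exact D.mul_mem (D.mul_mem h2 h3) (D.inv_mem h1)
  have hyx : (y * x⁻¹) * x = y := by group
  have hpow : orderOf ((y * x⁻¹) * x) = 2 := by rw [hyx]; exact hy2
  have hmemD : y * x⁻¹ ∈ Cfsg.inndiagPOmegaPlus (n + 1) F := by rw [hDeq]; exact hδ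
  have h' : Cfsg.IsConjUnder (Cfsg.inndiagPOmegaPlus (n + 1) F) x ((y * x⁻¹) * x) :=
    S2736_core hn4 x (y * x⁻¹) (Or.inr hx) Nat.prime_two hx2 hmemD hpow
  rw [hyx] at h'
  exact h'

end plus

end Cfsg.Agent.Lib.Helper16.OM
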