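import Mathlib
import Cfsg.Agent.Lib.Helper16.OM28

set_option autoImplicit false
set_option linter.unusedSectionVars false
set_option linter.unusedVariables false
set_option linter.unusedSimpArgs false

namespace Cfsg.Agent.Lib.Helper16.OM

universe u v

open Module Matrix Cfsg Cfsg.Agent.Lib.helper6 Cfsg.Agent.Lib.Helper16 Cfsg.Agent.Lib.Lead.OA
  Cfsg.Agent.Lib.Lead.OAP Cfsg.Agent.Lib.Lead.OAM Cfsg.Agent.Lib.Helper16.PSC
  Cfsg.Agent.Lib.Helper16.OL Cfsg.Agent.Lib.Helper16.OA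

section minus

variable {F : Type*} [Field F] {m : ℕ} (a b : F)

variable [Fintype F]

set_option maxHeartbeats 1600000 in
/-- a similarity with square multiplier as a scalar times an explicit special isometry. -/
theorem exists_tMinus_sq (h2 : (2 : F) ≠ 0)
    (χ : ↥(Cfsg.isometryGroup F (⇑(qfMinus m F a b) : ((Fin m ⊕ Fin m) ⊕ Fin 2 → F) → F)) →* ℤˣ)
    (κ : ℤˣ) (hχ : ∀ (v : (Fin m ⊕ Fin m) ⊕ Fin 2 → F) (hv : qfMinus m F a b v ≠ 0),
      χ (reflG (qfMinus m F a b) v hv) = κ * sqSign (qfMinus m F a b v))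
    (c z : Fˣ) (hz : (z : F) ^ 2 = (c : F)) (w₁ w₂ : F)
    (hc : w₁ ^ 2 + a * w₁ * w₂ + b * w₂ ^ 2 = (c : F))
    (hne : 2 * (z : F) + (2 * w₁ + a * w₂) ≠ 0) :
    ∃ τ : ↥(Cfsg.isometryGroup F (⇑(qfMinus m F a b) : ((Fin m ⊕ Fin m) ⊕ Fin 2 → F) → F)),
      isoDet (⇑(qfMinus m F a b) : ((Fin m ⊕ Fin m) ⊕ Fin 2 → F) → F) τ = 1 ∧
      χ τ = sqSign (z : F) ^ m * sqSign ((z : F) * (2 * (z : F) + (2 * w₁ + a * w₂))) ∧
      (⟨dMinus a b c w₁ w₂ hc, dMinus_mem a b c w₁ w₂ hc⟩ : ↥(GOq (qfMinus m F a b))) =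
        scalGO (qfMinus m F a b) z * isoToGO (qfMinus m F a b) τ := by
  have hz0 : (z : F) ≠ 0 := Units.ne_zero z
  have hc0 : (c : F) ≠ 0 := Units.ne_zero c
  obtain ⟨τh, hτd, hτχ, hτx⟩ := hyp_scale (qfMinus m F a b) h2 χ κ hχ
    (eM (F := F) (m := m)) fM (QM_eM a b) (QM_fM a b)
    (fun i j => by
      rw [polarM_x_fM]
      unfold eM
      simp [Pi.single_apply, eq_comm])
    (fun i j => by
      rw [polarM_x_eM]
      unfold eM
      simp [Pi.single_apply])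
    (fun i j => by
      rw [polarM_x_fM]
      unfold fM
      simp [Pi.single_apply])
    (z : F) hz0 Finset.univ
  have hN : ((z : F) + w₁) ^ 2 + a * ((z : F) + w₁) * w₂ + b * w₂ ^ 2 =
      (z : F) * (2 * (z : F) + (2 * w₁ + a * w₂)) := by
    linear_combination hc - hz
  have hN0 : (z : F) * (2 * (z : F) + (2 * w₁ + a * w₂)) ≠ 0 := mul_ne_zero hz0 hne
  have hne' : (z : F) * 2 + (w₁ * 2 + w₂ * a) ≠ 0 := by
    convert hne using 1; ring
  have hQw : qfMinus m F a b (bM ((z : F) + w₁) w₂) =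
      (z : F) * (2 * (z : F) + (2 * w₁ + a * w₂)) := by rw [QM_bM, hN]
  have hQ1 : qfMinus m F a b (bM 1 0) = 1 := by rw [QM_bM]; ring
  have hQw0 : qfMinus m F a b (bM ((z : F) + w₁) w₂) ≠ 0 := by rw [hQw]; exact hN0
  have hQ10 : qfMinus m F a b (bM 1 0) ≠ 0 := by rw [hQ1]; exact one_ne_zero
  set τb := reflG (qfMinus m F a b) _ hQw0 * reflG (qfMinus m F a b) _ hQ10 with hτb
  have hsq1 : sqSign (1 : F) = 1 := (sqSign_eq_one_iff _).mpr ⟨1, by simp⟩
  refine ⟨τh * τb, ?_, ?_, ?_⟩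
  · rw [map_mul, hτd, hτb, map_mul, isoDet_reflG, isoDet_reflG]; simp
  · rw [map_mul, hτχ, hτb, map_mul, hχ, hχ, hQw, hQ1, hsq1, Finset.card_univ, Fintype.card_fin,
      mul_one]
    congr 1
    rw [mul_comm κ, mul_assoc, Int.units_mul_self, mul_one]
  · apply Subtype.ext
    apply Units.ext
    show mMinus (m := m) a b c w₁ w₂ =
      (((scalGO (qfMinus m F a b) z : ↥(GOq (qfMinus m F a b))) : GL ((Fin m ⊕ Fin m) ⊕ Fin 2) F) :
        Matrix ((Fin m ⊕ Fin m) ⊕ Fin 2) ((Fin m ⊕ Fin m) ⊕ Fin 2) F) *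
      (((τh : GL ((Fin m ⊕ Fin m) ⊕ Fin 2) F) :
          Matrix ((Fin m ⊕ Fin m) ⊕ Fin 2) ((Fin m ⊕ Fin m) ⊕ Fin 2) F) *
        (Cfsg.reflectionMatrix (⇑(qfMinus m F a b)) (bM ((z : F) + w₁) w₂) *
          Cfsg.reflectionMatrix (⇑(qfMinus m F a b)) (bM 1 0)))
    rw [scalGO_coe, Matrix.ext_iff_mulVec]
    intro x
    rw [← Matrix.mulVec_mulVec, ← Matrix.mulVec_mulVec, hτx,
      ← Matrix.mulVec_mulVec, refl_bin_apply a b ((z : F) + w₁) w₂ _ hN hN0, Matrix.smul_mulVec,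
      Matrix.one_mulVec, mMinus_mulVec]
    unfold DS
    funext k
    rcases k with (k | k) | k
    · simp only [Sum.elim_inl, Pi.smul_apply, Pi.add_apply, Finset.sum_apply, smul_eq_mul,
        polarM_x_fM, polarM_x_eM]
      unfold eM fM
      simp only [Pi.single_apply, Sum.inl.injEq, reduceCtorEq, if_false, mul_zero, add_zero,
        mul_ite, mul_one, Finset.sum_ite_eq, Finset.mem_univ, if_true]
      rw [← hz]
      ring
    · simp only [Sum.elim_inl, Sum.elim_inr, Pi.smul_apply, Pi.add_apply, Finset.sum_apply,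
        smul_eq_mul, polarM_x_fM, polarM_x_eM]
      unfold eM fM
      simp only [Pi.single_apply, Sum.inl.injEq, Sum.inr.injEq, reduceCtorEq, if_false, mul_zero,
        zero_add, mul_ite, mul_one, Finset.sum_ite_eq, Finset.mem_univ, if_true]
      field_simp
      ring
    · fin_cases k
      · simp only [Sum.elim_inl, Sum.elim_inr, Pi.smul_apply, Pi.add_apply, Finset.sum_apply,
          smul_eq_mul, polarM_x_fM, polarM_x_eM, Fin.zero_eta, Fin.isValue, Matrix.cons_val_zero]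
        unfold eM fM
        simp only [Pi.single_apply, reduceCtorEq, if_false, mul_zero, add_zero,
          Finset.sum_const_zero, Matrix.cons_val_one, Matrix.cons_val_zero]
        field_simp
        linear_combination (x (Sum.inr 0)) * (hc - hz)
      · simp only [Sum.elim_inl, Sum.elim_inr, Pi.smul_apply, Pi.add_apply, Finset.sum_apply,
          smul_eq_mul, polarM_x_fM, polarM_x_eM, Fin.mk_one, Fin.isValue, Matrix.cons_val_one,
          Matrix.cons_val_zero]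
        unfold eM fM
        simp only [Pi.single_apply, reduceCtorEq, if_false, mul_zero, add_zero,
          Finset.sum_const_zero, Matrix.cons_val_one, Matrix.cons_val_zero]
        field_simp
        linear_combination (x (Sum.inr 1)) * (hc - hz)

end minus


section field

variable {F : Type u} [Field F] [Fintype F] {F₀ : Type v} [Field F₀] [Fintype F₀]

theorem sigma_sq_apply (σ : RingAut F) (hord : orderOf σ = 2) (y : F) : σ (σ y) = y := by
  have h : σ ^ 2 = 1 := by rw [← hord]; exact pow_orderOf_eq_one σ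
  have h1 : (σ ^ 2) y = y := by rw [h]; rfl
  rw [pow_two] at h1
  exact h1

theorem norm_mem_base (j : F₀ →+* F) (σ : RingAut F) (hord : orderOf σ = 2)
    (hj : ∀ x, (∃ y, j y = x) ↔ σ x = x) (y : F) : ∃ ν : F₀, j ν = y * σ y := by
  rw [hj, map_mul, sigma_sq_apply σ hord, mul_comm]

theorem norm_of_isSquare (j : F₀ →+* F) (σ : RingAut F) (hord : orderOf σ = 2)
    (hj : ∀ x, (∃ y, j y = x) ↔ σ x = x) (y : F) (hy : IsSquare y) :
    ∃ ν : F₀, j (ν * ν) = y * σ y := by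
  obtain ⟨s, rfl⟩ := hy
  obtain ⟨ν, hν⟩ := norm_mem_base j σ hord hj s
  refine ⟨ν, ?_⟩
  rw [map_mul, hν, map_mul]
  ring

theorem sigma_inj_two (σ : RingAut F) (hord : orderOf σ = 2) :
    ∀ i j, i < 2 → j < 2 → σ ^ i = σ ^ j → i = j := by
  have hne : σ ≠ 1 := by
    intro h
    rw [h, orderOf_one] at hord
    omega
  intro i j hi hj h
  interval_cases i <;> interval_cases j
  · rfl
  · rw [pow_zero, pow_one] at h; exact absurd h.symm hne
  · rw [pow_zero, pow_one] at h; exact absurd h hne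
  · rfl

theorem isSquare_of_norm_sq (j : F₀ →+* F) (h2 : (2 : F) ≠ 0)
    (hcard : Fintype.card F = Fintype.card F₀ ^ 2) (σ : RingAut F) (hord : orderOf σ = 2)
    (hj : ∀ x, (∃ y, j y = x) ↔ σ x = x) (y : F) (hy : y ≠ 0) (ν : F₀)
    (hν : y * σ y = j (ν * ν)) : IsSquare y := by
  have hν0 : ν ≠ 0 := by
    rintro rfl
    rw [mul_zero, map_zero] at hν
    rcases mul_eq_zero.mp hν with h | h
    · exact hy h
    · exact hy ((map_eq_zero σ).mp h)
  have hjν0 : j ν ≠ 0 := (map_ne_zero j).mpr hν0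
  have hσν : σ (j ν) = j ν := (hj _).mp ⟨ν, rfl⟩
  set d : Fˣ := Units.mk0 (y / j ν) (div_ne_zero hy hjν0) with hd
  have hσ2 : σ ^ 2 = 1 := by rw [← hord]; exact pow_orderOf_eq_one σ
  have hnu : H9.nu σ d 2 = 1 := by
    apply Units.ext
    rw [H9.nu_succ, H9.nu_succ, H9.nu_zero, map_one, mul_one, Units.val_mul, H9.uσ_val, hd,
      Units.val_mk0, Units.val_one, map_div₀, hσν, div_mul_div_comm, hν, map_mul]
    exact div_self (mul_ne_zero hjν0 hjν0)
  obtain ⟨e, he⟩ := H9.h90_units σ 2 (sigma_inj_two σ hord) (by norm_num) hσ2 d hnu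
  have he' : y / j ν * σ (e : F) = (e : F) := by
    have := congrArg (fun u : Fˣ => (u : F)) he
    simp only [Units.val_mul, H9.uσ_val, hd, Units.val_mk0] at this
    exact this
  have he0 : (e : F) ≠ 0 := Units.ne_zero e
  have hσe0 : σ (e : F) ≠ 0 := (map_ne_zero σ).mpr he0
  obtain ⟨μ, hμ⟩ := norm_mem_base j σ hord hj (e : F)
  have hμ0 : μ ≠ 0 := by
    rintro rfl
    rw [map_zero] at hμ
    exact mul_ne_zero he0 hσe0 hμ.symm
  obtain ⟨t, ht⟩ := isSquare_base_of_sq j h2 hcard μ hμ0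
  obtain ⟨s, hs⟩ := isSquare_base_of_sq j h2 hcard ν hν0
  have ht0 : t ≠ 0 := by
    rintro rfl
    rw [mul_zero] at ht
    exact (map_ne_zero j).mpr hμ0 ht
  refine ⟨(e : F) * s / t, ?_⟩
  have h1 : y = j ν * (e : F) / σ (e : F) := by
    field_simp
    field_simp at he'
    linear_combination he'
  rw [h1, hs]
  have h3 : σ (e : F) = t * t / (e : F) := by
    field_simp
    linear_combination ht - hμ
  rw [h3]
  field_simp

theorem sigma_sqrt_nonsq (j : F₀ →+* F) (h2 : (2 : F) ≠ 0) (σ : RingAut F)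
    (hj : ∀ x, (∃ y, j y = x) ↔ σ x = x) (c : F₀) (hc : ¬ IsSquare c) (z : F)
    (hz : z ^ 2 = j c) : σ z = -z := by
  have h1 : σ z ^ 2 = z ^ 2 := by
    rw [← map_pow, hz]
    exact (hj _).mp ⟨c, rfl⟩
  have h3 : (σ z - z) * (σ z + z) = 0 := by linear_combination h1
  rcases mul_eq_zero.mp h3 with h | h
  · exfalso
    have h4 : σ z = z := sub_eq_zero.mp h
    obtain ⟨ν, hν⟩ := (hj z).mpr h4
    apply hc
    refine ⟨ν, ?_⟩
    apply j.injective
    rw [map_mul, hν, ← hz]; ring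
  · exact eq_neg_of_add_eq_zero_left h

/-- a square root of a non-square of the subfield is a square iff `-c` is a square below. -/
theorem isSquare_sqrt_iff (j : F₀ →+* F) (h2 : (2 : F) ≠ 0)
    (hcard : Fintype.card F = Fintype.card F₀ ^ 2) (σ : RingAut F) (hord : orderOf σ = 2)
    (hj : ∀ x, (∃ y, j y = x) ↔ σ x = x) (c : F₀) (hc : ¬ IsSquare c) (z : F)
    (hz : z ^ 2 = j c) : IsSquare z ↔ IsSquare (-c) := by
  have hσz := sigma_sqrt_nonsq j h2 σ hj c hc z hz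
  have hc0 : c ≠ 0 := by
    rintro rfl
    exact hc ⟨0, by simp⟩
  have hz0 : z ≠ 0 := by
    rintro rfl
    rw [zero_pow (by norm_num)] at hz
    exact (map_ne_zero j).mpr hc0 hz.symm
  have hN : z * σ z = j (-c) := by
    rw [hσz, map_neg, ← hz]; ring
  constructor
  · intro h
    obtain ⟨ν, hν⟩ := norm_of_isSquare j σ hord hj z h
    refine ⟨ν, ?_⟩
    apply j.injective
    rw [← hN, hν]
  · rintro ⟨ν, hν⟩
    exact isSquare_of_norm_sq j h2 hcard σ hord hj z hz0 ν (by rw [hN, hν])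

theorem not_isSquare_disc (h2 : (2 : F₀) ≠ 0) (a₀ b₀ : F₀)
    (hab₀ : ∀ z₁ z₂ : F₀, z₁ ^ 2 + a₀ * z₁ * z₂ + b₀ * z₂ ^ 2 = 0 → z₁ = 0 ∧ z₂ = 0) :
    ¬ IsSquare (a₀ ^ 2 - 4 * b₀) := by
  rintro ⟨d, hd⟩
  have := hab₀ ((-a₀ + d) / 2) 1 (by
    field_simp
    linear_combination -hd)
  exact one_ne_zero this.2

/-- `2 z + t` is a non-square. -/
theorem not_isSquare_two_sqrt_add (j : F₀ →+* F) (h2 : (2 : F) ≠ 0) (σ : RingAut F)
    (hord : orderOf σ = 2) (hj : ∀ x, (∃ y, j y = x) ↔ σ x = x) (a₀ b₀ : F₀)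
    (hab₀ : ∀ z₁ z₂ : F₀, z₁ ^ 2 + a₀ * z₁ * z₂ + b₀ * z₂ ^ 2 = 0 → z₁ = 0 ∧ z₂ = 0)
    (c w₁ w₂ : F₀) (hc : ¬ IsSquare c) (hcw : w₁ ^ 2 + a₀ * w₁ * w₂ + b₀ * w₂ ^ 2 = c) (z : F)
    (hz : z ^ 2 = j c) :
    2 * z + (2 * j w₁ + j a₀ * j w₂) ≠ 0 ∧ ¬ IsSquare (2 * z + (2 * j w₁ + j a₀ * j w₂)) := by
  have h2₀ : (2 : F₀) ≠ 0 := two_ne_zero_base j h2
  have hσz := sigma_sqrt_nonsq j h2 σ hj c hc z hz
  have hw₂ : w₂ ≠ 0 := by
    rintro rfl
    apply hc
    refine ⟨w₁, ?_⟩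
    rw [← hcw]; ring
  have hdisc := not_isSquare_disc h2₀ a₀ b₀ hab₀
  have hD0 : a₀ ^ 2 - 4 * b₀ ≠ 0 := by
    intro h
    apply hdisc
    rw [h]
    exact ⟨0, by simp⟩
  have hns : ¬ IsSquare (w₂ ^ 2 * (a₀ ^ 2 - 4 * b₀)) := by
    rintro ⟨s, hs⟩
    apply hdisc
    refine ⟨s / w₂, ?_⟩
    field_simp
    linear_combination hs
  have hfix : ∀ y : F₀, σ (j y) = j y := fun y => (hj _).mp ⟨y, rfl⟩
  have h4 : j 4 = 4 := map_ofNat j 4
  have hN : (2 * z + (2 * j w₁ + j a₀ * j w₂)) * σ (2 * z + (2 * j w₁ + j a₀ * j w₂)) =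
      j (w₂ ^ 2 * (a₀ ^ 2 - 4 * b₀)) := by
    have h2' : σ 2 = 2 := map_ofNat σ 2
    rw [map_add, map_add, map_mul, map_mul, map_mul, h2', hσz, hfix, hfix, hfix, map_mul, map_pow,
      map_sub, map_pow, map_mul, h4]
    have := congrArg j hcw
    rw [map_add, map_add, map_pow, map_mul, map_mul, map_mul, map_pow] at this
    linear_combination (-4 : F) * hz + (4 : F) * this
  constructor
  · intro h
    rw [h, zero_mul] at hN
    have h5 : w₂ ^ 2 * (a₀ ^ 2 - 4 * b₀) = 0 := by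
      apply j.injective
      rw [← hN, map_zero]
    exact mul_ne_zero (pow_ne_zero 2 hw₂) hD0 h5
  · intro h
    obtain ⟨ν, hν⟩ := norm_of_isSquare j σ hord hj _ h
    apply hns
    refine ⟨ν, ?_⟩
    apply j.injective
    rw [← hN, hν]

end field

section incl

variable {F : Type u} [Field F] {F₀ : Type v} [Field F₀] {n : ℕ}

theorem mMinus_map (j : F₀ →+* F) (a₀ b₀ c w₁ w₂ : F₀) :
    (mMinus (m := n) a₀ b₀ c w₁ w₂).map j = mMinus (m := n) (j a₀) (j b₀) (j c) (j w₁) (j w₂) := by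
  unfold mMinus
  ext i k
  rcases i with (i | i) | i <;> rcases k with (k | k) | k
  all_goals
    simp only [Matrix.map_apply, Matrix.fromBlocks_apply₁₁, Matrix.fromBlocks_apply₁₂,
      Matrix.fromBlocks_apply₂₁, Matrix.fromBlocks_apply₂₂, Matrix.diagonal_apply, Matrix.zero_apply,
      map_zero, Sum.elim_inl, Sum.elim_inr, Sum.inl.injEq, Sum.inr.injEq, reduceCtorEq, if_false]
  · split_ifs <;> simp
  · split_ifs <;> simp
  · fin_cases i <;> fin_cases k <;> simp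

end incl

end Cfsg.Agent.Lib.Helper16.OM
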