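import Mathlib
import Cfsg.Agent.Lib.Helper16.OM29

set_option autoImplicit false
set_option linter.unusedSectionVars false
set_option linter.unusedVariables false

namespace Cfsg.Agent.Lib.Helper16.OM

open Matrix Module Cfsg.Agent.Lib.Lead Cfsg.Agent.Lib.Lead.OA Cfsg.Agent.Lib.Helper16
  Cfsg.Agent.Lib.Helper16.OA Cfsg.Agent.Lib.Helper16.OL Cfsg.Agent.Lib.Helper16.PSC
  Cfsg.Agent.Lib.Helper16.H9

universe u v

section grp

variable {A : Type*} {B : Type*} [Group A] [Group B]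

theorem map_eq_of_iff (Ψ : A ≃* B) (K : Subgroup A) (K' : Subgroup B)
    (hK : ∀ β, β ∈ K ↔ Ψ β ∈ K') : K.map Ψ.toMonoidHom = K' := by
  ext y
  rw [Subgroup.mem_map]
  constructor
  · rintro ⟨β, hβ, rfl⟩
    exact (hK β).mp hβ
  · intro hy
    refine ⟨Ψ.symm y, ?_, Ψ.apply_symm_apply y⟩
    rw [hK, MulEquiv.apply_symm_apply]
    exact hy

theorem relIndex_transport (Ψ : A ≃* B) (D K : Subgroup A) (D' K' : Subgroup B)
    (hD : ∀ β, β ∈ D ↔ Ψ β ∈ D') (hK : ∀ β, β ∈ K ↔ Ψ β ∈ K') :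
    K.relIndex D = K'.relIndex D' := by
  rw [← map_eq_of_iff Ψ K K' hK, ← map_eq_of_iff Ψ D D' hD]
  exact (Subgroup.relIndex_map_map_of_injective (f := Ψ.toMonoidHom) K D Ψ.injective).symm

theorem relIndex_sup_transport (Ψ : A ≃* B) (D K : Subgroup A) (D' K' : Subgroup B)
    (hD : ∀ β, β ∈ D ↔ Ψ β ∈ D') (hK : ∀ β, β ∈ K ↔ Ψ β ∈ K') (x : A) :
    (K ⊔ (D ⊓ Subgroup.centralizer {x})).relIndex D =
      (K' ⊔ (D' ⊓ Subgroup.centralizer {Ψ x})).relIndex D' := by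
  rw [← map_eq_of_iff Ψ K K' hK, ← map_inf_cent Ψ D D' hD x, ← Subgroup.map_sup,
    ← map_eq_of_iff Ψ D D' hD]
  exact (Subgroup.relIndex_map_map_of_injective (f := Ψ.toMonoidHom) _ D Ψ.injective).symm

theorem le_of_relIndex_two {G : Type*} [Group G] (H P K : Subgroup G) (hHP : H ≤ P) (hPK : P ≤ K)
    (h2 : H.relIndex K = 2) (x : G) (hxP : x ∈ P) (hxH : x ∉ H) : K ≤ P := by
  have h := Subgroup.relIndex_mul_relIndex H P K hHP hPK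
  rw [h2] at h
  have h1 : H.relIndex P ≠ 1 := by
    intro h1
    exact hxH (Subgroup.relIndex_eq_one.mp h1 hxP)
  have h3 : H.relIndex P ∣ 2 := ⟨_, h.symm⟩
  have h4 : H.relIndex P = 2 := by
    rcases (Nat.dvd_prime Nat.prime_two).mp h3 with h5 | h5
    · exact absurd h5 h1
    · exact h5
  rw [h4] at h
  have h5 : P.relIndex K = 1 := by omega
  exact Subgroup.relIndex_eq_one.mp h5

end grp

section gen

variable {ι : Type} [Fintype ι] [DecidableEq ι] {F : Type u} [Field F] [Fintype F]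
  {F₀ : Type v} [Field F₀] [Fintype F₀]

/-- special isometries over the subfield of index two have trivial spinor norm above. -/
theorem chi_inclIsoG_SO (j : F₀ →+* F) (Q₀ : QuadraticForm F₀ (ι → F₀))
    (Q : QuadraticForm F (ι → F)) (hc : BaseCompat j (⇑Q₀) (⇑Q)) (h2 : (2 : F) ≠ 0)
    (hQ₀ : (QuadraticMap.polarBilin Q₀).Nondegenerate)
    (χ : ↥(Cfsg.isometryGroup F (⇑Q : (ι → F) → F)) →* ℤˣ) (κ : ℤˣ)
    (hχ : ∀ (v : ι → F) (hv : Q v ≠ 0), χ (reflG Q v hv) = κ * sqSign (Q v))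
    (hcardF : Fintype.card F = Fintype.card F₀ ^ 2)
    (s : ↥(Cfsg.isometryGroup F₀ (⇑Q₀ : (ι → F₀) → F₀)))
    (hdet : isoDet (⇑Q₀ : (ι → F₀) → F₀) s = 1) :
    χ (inclIsoG j Q₀ Q hc s) = 1 := by
  have h2' := two_ne_zero_base j h2
  show χ (inclIso j Q₀ Q hc h2 s) = 1
  obtain ⟨vs, hvs, hs⟩ := exists_list' Q₀ h2' hQ₀ s
  rw [hs, isoDet_prod Q₀ vs hvs] at hdet
  have heven : Even vs.length :=
    (neg_one_pow_eq_one_iff_even (neg_one_ne_one h2')).mp hdet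
  rw [hs, chi_incl_prod j Q₀ Q hc h2 χ κ hχ vs hvs]
  obtain ⟨k, hk⟩ := heven
  have hκ : κ ^ vs.length = 1 := by
    rw [hk, ← two_mul, pow_mul, pow_two, Int.units_mul_self, one_pow]
  rw [hκ, one_mul, sqSign_eq_one_iff]
  exact isSquare_base_of_sq j h2 hcardF _ (prod_Q_ne_zero Q₀ vs hvs)

theorem LamG_mem_inn_of_sq (j : F₀ →+* F) (Q₀ : QuadraticForm F₀ (ι → F₀))
    (Q : QuadraticForm F (ι → F)) (hc : BaseCompat j (⇑Q₀) (⇑Q)) (h2 : (2 : F) ≠ 0)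
    (hQ₀ : (QuadraticMap.polarBilin Q₀).Nondegenerate)
    (hQ : (QuadraticMap.polarBilin Q).Nondegenerate) (m : ℕ)
    (hcard : Fintype.card ι = 2 * m) (hne₀ : ∃ v, Q₀ v ≠ 0)
    (hcardF : Fintype.card F = Fintype.card F₀ ^ 2) (g₀ : ↥(GOq Q₀))
    (he : eps Q₀ hne₀ m g₀ = 1) (hsq : IsSquare ((mult Q₀ g₀ : F₀ˣ) : F₀)) :
    LamG j Q₀ Q hc g₀ ∈ Cfsg.Inn (Cfsg.POmega F (⇑Q : (ι → F) → F)) := by
  obtain ⟨z, s, hzs⟩ := iso_of_sq Q₀ hne₀ g₀ hsq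
  have hdet : isoDet (⇑Q₀ : (ι → F₀) → F₀) s = 1 := by
    rw [← eps_scal_mul Q₀ hne₀ m hcard z s, ← hzs]; exact he
  obtain ⟨χ, κ, hχ⟩ := spin_char_formula h2 Q
  have hχs := chi_inclIsoG_SO j Q₀ Q hc h2 hQ₀ χ κ hχ hcardF s hdet
  have hd1 : isoDet (⇑Q : (ι → F) → F) (inclIsoG j Q₀ Q hc s) = 1 := by
    have := isoDet_inclIso j Q₀ Q hc h2 s
    rw [hdet, map_one] at this
    exact this
  have hΩ : inclIsoG j Q₀ Q hc s ∈ Cfsg.Omega F (⇑Q : (ι → F) → F) :=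
    (mem_omega_iff' Q h2 hQ χ κ hχ _).mpr ⟨hd1, hχs⟩
  rw [LamG_apply, hzs, map_mul, map_mul, inclGO_isoToGO,
    scalar_cHom_eq_one (⇑Q : (ι → F) → F) _ (j (z : F₀))
      (inclGO_scalar j Q₀ Q hc (scalGO Q₀ z) (z : F₀) (scalGO_coe Q₀ z)), one_mul, inn_eq']
  exact ⟨_, hΩ, rfl⟩

theorem LamG_mem_pso (j : F₀ →+* F) (Q₀ : QuadraticForm F₀ (ι → F₀))
    (Q : QuadraticForm F (ι → F)) (hc : BaseCompat j (⇑Q₀) (⇑Q)) (h2 : (2 : F) ≠ 0)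
    (hQ : (QuadraticMap.polarBilin Q).Nondegenerate) (hn : 4 ≤ Fintype.card ι) (m : ℕ)
    (hcard : Fintype.card ι = 2 * m) (hne₀ : ∃ v, Q₀ v ≠ 0) (hne : ∃ v, Q v ≠ 0)
    (hcardF : Fintype.card F = Fintype.card F₀ ^ 2) (g₀ : ↥(GOq Q₀))
    (he : eps Q₀ hne₀ m g₀ = 1) :
    LamG j Q₀ Q hc g₀ ∈ Cfsg.psoAut F (⇑Q : (ι → F) → F) := by
  have hsq : IsSquare ((mult Q (inclGO j Q₀ Q hc g₀) : Fˣ) : F) := by
    rw [mult_inclGO j Q₀ Q hc hne]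
    exact isSquare_base_of_sq j h2 hcardF _ (Units.ne_zero _)
  obtain ⟨z, s, hzs⟩ := iso_of_sq Q hne _ hsq
  have hdet : isoDet (⇑Q : (ι → F) → F) s = 1 := by
    rw [← eps_scal_mul Q hne m hcard z s, ← hzs, eps_inclGO j Q₀ Q hc hne₀ hne, he, map_one]
  rw [LamG_apply, hzs]
  exact mem_pso_of Q h2 hQ hn z s hdet

set_option maxHeartbeats 1600000 in
/-- the index of `Inn · C_D(φ)` in `D`, for the standard field automorphism of order two. -/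
theorem split_index_gen (j : F₀ →+* F) (Q₀ : QuadraticForm F₀ (ι → F₀))
    (Q : QuadraticForm F (ι → F)) (hc : BaseCompat j (⇑Q₀) (⇑Q)) (h2 : (2 : F) ≠ 0)
    (hQ₀ : (QuadraticMap.polarBilin Q₀).Nondegenerate)
    (hQ : (QuadraticMap.polarBilin Q).Nondegenerate) (hn : 7 ≤ Fintype.card ι) (m : ℕ)
    (hcard : Fintype.card ι = 2 * m) (hne₀ : ∃ v, Q₀ v ≠ 0) (hne : ∃ v, Q v ≠ 0)
    (hcardF : Fintype.card F = Fintype.card F₀ ^ 2)
    (σ : RingAut F) (hσ : SigCompat (⇑Q : (ι → F) → F) σ) (hord : orderOf σ = 2)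
    (hj : ∀ x, (∃ y, j y = x) ↔ σ x = x)
    (hneg : ∃ g : ↥(Cfsg.isometryGroup F (⇑Q : (ι → F) → F)),
      g ∈ Cfsg.Omega F (⇑Q : (ι → F) → F) ∧ ((g : GL ι F) : Matrix ι ι F) = -1)
    (g₁ : ↥(GOq Q)) (hg₁ : ¬ IsSquare ((mult Q g₁ : Fˣ) : F)) (hg₁e : eps Q hne m g₁ = 1)
    (gz : ↥(GOq Q₀)) (hgz : ¬ IsSquare ((mult Q₀ gz : F₀ˣ) : F₀))
    (hgze : eps Q₀ hne₀ m gz = 1) :
    (LamG j Q₀ Q hc gz ∈ Cfsg.Inn (Cfsg.POmega F (⇑Q : (ι → F) → F)) →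
      (Cfsg.Inn (Cfsg.POmega F (⇑Q : (ι → F) → F)) ⊔
        ((eps Q hne m).ker.map (cHom (⇑Q : (ι → F) → F)) ⊓
          Subgroup.centralizer {phiS (⇑Q : (ι → F) → F) σ hσ})).relIndex
        ((eps Q hne m).ker.map (cHom (⇑Q : (ι → F) → F))) = 4) ∧
    (LamG j Q₀ Q hc gz ∉ Cfsg.Inn (Cfsg.POmega F (⇑Q : (ι → F) → F)) →
      (Cfsg.Inn (Cfsg.POmega F (⇑Q : (ι → F) → F)) ⊔
        ((eps Q hne m).ker.map (cHom (⇑Q : (ι → F) → F)) ⊓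
          Subgroup.centralizer {phiS (⇑Q : (ι → F) → F) σ hσ})).relIndex
        ((eps Q hne m).ker.map (cHom (⇑Q : (ι → F) → F))) = 2) := by
  have hn4 : 4 ≤ Fintype.card ι := by omega
  have hrange := LamG_range j Q₀ Q hc hQ hn hne₀ σ hσ 2 hord (by norm_num) hj
  -- description of the centraliser
  have hC : ∀ y ∈ (eps Q hne m).ker.map (cHom (⇑Q : (ι → F) → F)) ⊓
      Subgroup.centralizer {phiS (⇑Q : (ι → F) → F) σ hσ},
      ∃ g₀ : ↥(GOq Q₀), eps Q₀ hne₀ m g₀ = 1 ∧ LamG j Q₀ Q hc g₀ = y := by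
    rintro y ⟨hyD, hyC⟩
    have h1 : y ∈ (LamG j Q₀ Q hc).range := by
      rw [hrange]
      refine ⟨?_, hyC⟩
      obtain ⟨g, -, rfl⟩ := hyD
      exact ⟨g, rfl⟩
    obtain ⟨g₀, rfl⟩ := h1
    refine ⟨g₀, ?_, rfl⟩
    have h3 : cHom (⇑Q : (ι → F) → F) (inclGO j Q₀ Q hc g₀) ∈
        (eps Q hne m).ker.map (cHom (⇑Q : (ι → F) → F)) := hyD
    rw [cHom_mem_epsKer_iff Q hQ hn hne m hcard, eps_inclGO j Q₀ Q hc hne₀ hne] at h3
    apply unitsMap_injective j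
    rw [h3, map_one]
  have hmemC : ∀ g₀ : ↥(GOq Q₀), eps Q₀ hne₀ m g₀ = 1 → LamG j Q₀ Q hc g₀ ∈
      (eps Q hne m).ker.map (cHom (⇑Q : (ι → F) → F)) ⊓
      Subgroup.centralizer {phiS (⇑Q : (ι → F) → F) σ hσ} := by
    intro g₀ hg₀
    have h1 : LamG j Q₀ Q hc g₀ ∈ (LamG j Q₀ Q hc).range := ⟨g₀, rfl⟩
    rw [hrange] at h1
    refine ⟨?_, h1.2⟩
    have h5 : cHom (⇑Q : (ι → F) → F) (inclGO j Q₀ Q hc g₀) ∈
        (eps Q hne m).ker.map (cHom (⇑Q : (ι → F) → F)) := by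
      rw [cHom_mem_epsKer_iff Q hQ hn hne m hcard, eps_inclGO j Q₀ Q hc hne₀ hne, hg₀, map_one]
    exact h5
  have hInnD := inn_le_D Q hne m
  constructor
  · intro hin
    have hle : (eps Q hne m).ker.map (cHom (⇑Q : (ι → F) → F)) ⊓
        Subgroup.centralizer {phiS (⇑Q : (ι → F) → F) σ hσ} ≤
        Cfsg.Inn (Cfsg.POmega F (⇑Q : (ι → F) → F)) := by
      intro y hy
      obtain ⟨g₀, hg₀, rfl⟩ := hC y hy
      by_cases hsq : IsSquare ((mult Q₀ g₀ : F₀ˣ) : F₀)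
      · exact LamG_mem_inn_of_sq j Q₀ Q hc h2 hQ₀ hQ m hcard hne₀ hcardF g₀ hg₀ hsq
      · have hsq2 : IsSquare ((mult Q₀ (g₀ * gz) : F₀ˣ) : F₀) := by
          have : mult Q₀ (g₀ * gz) = mult Q₀ g₀ * mult Q₀ gz := map_mul (multHom Q₀ hne₀) _ _
          rw [this, Units.val_mul]
          exact nonsq_mul_nonsq hsq hgz
        have he2 : eps Q₀ hne₀ m (g₀ * gz) = 1 := by rw [map_mul, hg₀, hgze, mul_one]
        have h3 := LamG_mem_inn_of_sq j Q₀ Q hc h2 hQ₀ hQ m hcard hne₀ hcardF _ he2 hsq2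
        rw [map_mul] at h3
        have h4 := Subgroup.mul_mem _ h3 (Subgroup.inv_mem _ hin)
        rwa [mul_inv_cancel_right] at h4
    rw [sup_eq_left.mpr hle]
    exact relIndex_inn_D Q h2 hQ hn4 m hcard hne g₁ hg₁ hg₁e hneg
  · intro hnin
    have hPle : Cfsg.Inn (Cfsg.POmega F (⇑Q : (ι → F) → F)) ⊔
        ((eps Q hne m).ker.map (cHom (⇑Q : (ι → F) → F)) ⊓
          Subgroup.centralizer {phiS (⇑Q : (ι → F) → F) σ hσ}) ≤
        Cfsg.psoAut F (⇑Q : (ι → F) → F) := by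
      apply sup_le (inn_le_pso Q)
      intro y hy
      obtain ⟨g₀, hg₀, rfl⟩ := hC y hy
      exact LamG_mem_pso j Q₀ Q hc h2 hQ hn4 m hcard hne₀ hne hcardF g₀ hg₀
    have h1 := (relIndex_inn_pso Q h2 hQ hn4 m hcard).1 hneg
    have hle := le_of_relIndex_two _ _ _ le_sup_left hPle h1 (LamG j Q₀ Q hc gz)
      (Subgroup.mem_sup_right (hmemC gz hgze)) hnin
    rw [le_antisymm hPle hle]
    obtain ⟨φ, hφs, hφk⟩ := inndiag_mod_pso Q h2 hQ hn4 m hcard hne g₁ hg₁ hg₁e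
    show ((Cfsg.psoAut F (⇑Q : (ι → F) → F)).subgroupOf
      ((eps Q hne m).ker.map (cHom (⇑Q : (ι → F) → F)))).index = 2
    rw [← hφk, Subgroup.index_ker, MonoidHom.range_eq_top.mpr hφs, Subgroup.card_top]
    simp

end gen

end Cfsg.Agent.Lib.Helper16.OM
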