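import Mathlib
import Cfsg.Agent.Lib.Helper16.OM30

set_option autoImplicit false
set_option linter.unusedSectionVars false
set_option linter.unusedVariables false

namespace Cfsg.Agent.Lib.Helper16.OM

open Matrix Module Cfsg.Agent.Lib.Lead Cfsg.Agent.Lib.Lead.OA Cfsg.Agent.Lib.Helper16
  Cfsg.Agent.Lib.Helper16.OA Cfsg.Agent.Lib.Helper16.OL Cfsg.Agent.Lib.Helper16.PSC
  Cfsg.Agent.Lib.Helper16.H9 Cfsg.Agent.Lib.Lead.OAM

universe u v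

section comp

variable {F : Type u} [Field F] [Fintype F] {F₀ : Type v} [Field F₀] [Fintype F₀] {n : ℕ}

theorem inclGO_dMinus (j : F₀ →+* F) (ζ₀ : F₀) (c : F₀ˣ) (w₁ w₂ : F₀)
    (hc : w₁ ^ 2 + 1 * w₁ * w₂ + ζ₀ * w₂ ^ 2 = (c : F₀))
    (hcF : j w₁ ^ 2 + 1 * j w₁ * j w₂ + j ζ₀ * j w₂ ^ 2 =
      ((Units.map (j : F₀ →* F) c : Fˣ) : F)) :
    inclGO j (qfMinus n F₀ 1 ζ₀) (qfMinus n F 1 (j ζ₀)) (baseCompat_minus_one j ζ₀)
      ⟨dMinus 1 ζ₀ c w₁ w₂ hc, dMinus_mem 1 ζ₀ c w₁ w₂ hc⟩ =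
    ⟨dMinus 1 (j ζ₀) (Units.map (j : F₀ →* F) c) (j w₁) (j w₂) hcF,
      dMinus_mem 1 (j ζ₀) (Units.map (j : F₀ →* F) c) (j w₁) (j w₂) hcF⟩ := by
  apply Subtype.ext
  apply Units.ext
  rw [inclGO_coe, inclI_val]
  show (mMinus (m := n) 1 ζ₀ (c : F₀) w₁ w₂).map j = mMinus (m := n) 1 (j ζ₀) (j (c : F₀)) (j w₁) (j w₂)
  rw [mMinus_map, map_one]

set_option maxHeartbeats 1600000 in
/-- the base change of the standard similarity with non-square multiplier induces an inner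
automorphism exactly when the half-dimension is odd and `q₀ ≡ 1 mod 4`. -/
theorem LamG_dMinus_mem_inn_iff (hn : 3 ≤ n) (j : F₀ →+* F) (h2 : (2 : F) ≠ 0)
    (hcardF : Fintype.card F = Fintype.card F₀ ^ 2) (σ : RingAut F) (hord : orderOf σ = 2)
    (hj : ∀ x, (∃ y, j y = x) ↔ σ x = x) (ζ₀ : F₀)
    (hab₀ : ∀ z₁ z₂ : F₀, z₁ ^ 2 + 1 * z₁ * z₂ + ζ₀ * z₂ ^ 2 = 0 → z₁ = 0 ∧ z₂ = 0)
    (hneg : ∃ g : ↥(Cfsg.isometryGroup F
        (⇑(qfMinus n F 1 (j ζ₀)) : ((Fin n ⊕ Fin n) ⊕ Fin 2 → F) → F)),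
      g ∈ Cfsg.Omega F (⇑(qfMinus n F 1 (j ζ₀)) : ((Fin n ⊕ Fin n) ⊕ Fin 2 → F) → F) ∧
        ((g : GL ((Fin n ⊕ Fin n) ⊕ Fin 2) F) :
          Matrix ((Fin n ⊕ Fin n) ⊕ Fin 2) ((Fin n ⊕ Fin n) ⊕ Fin 2) F) = -1)
    (c : F₀ˣ) (hcns : ¬ IsSquare (c : F₀)) (w₁ w₂ : F₀)
    (hc : w₁ ^ 2 + 1 * w₁ * w₂ + ζ₀ * w₂ ^ 2 = (c : F₀)) :
    LamG j (qfMinus n F₀ 1 ζ₀) (qfMinus n F 1 (j ζ₀)) (baseCompat_minus_one j ζ₀)
        ⟨dMinus 1 ζ₀ c w₁ w₂ hc, dMinus_mem 1 ζ₀ c w₁ w₂ hc⟩ ∈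
      Cfsg.Inn (Cfsg.POmega F (⇑(qfMinus n F 1 (j ζ₀)) : ((Fin n ⊕ Fin n) ⊕ Fin 2 → F) → F)) ↔
    (Odd (n + 1) ∧ Fintype.card F₀ % 4 = 1) := by
  have h2₀ : (2 : F₀) ≠ 0 := two_ne_zero_base j h2
  have hch₀ : ringChar F₀ ≠ 2 := ringChar_ne_two_of h2₀
  have hq₀ : Fintype.card F₀ % 2 = 1 := FiniteField.odd_card_of_char_ne_two hch₀
  have hQm := nondeg_minus_base (n := n) j ζ₀ hab₀
  have hcard := card_minus_index n
  have hn4 : 4 ≤ Fintype.card ((Fin n ⊕ Fin n) ⊕ Fin 2) := by rw [hcard]; omega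
  have hcF : j w₁ ^ 2 + 1 * j w₁ * j w₂ + j ζ₀ * j w₂ ^ 2 =
      ((Units.map (j : F₀ →* F) c : Fˣ) : F) := by
    have := congrArg j hc
    rw [map_add, map_add, map_pow, map_mul, map_mul, map_mul, map_pow, map_one] at this
    exact this
  obtain ⟨z, hz⟩ := isSquare_base_of_sq j h2 hcardF (c : F₀) (Units.ne_zero c)
  have hz2 : z ^ 2 = j (c : F₀) := by rw [hz]; ring
  have hz0 : z ≠ 0 := by
    rintro rfl
    rw [mul_zero] at hz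
    exact (map_ne_zero j).mpr (Units.ne_zero c) hz
  set zU : Fˣ := Units.mk0 z hz0 with hzU
  have hzU2 : ((zU : Fˣ) : F) ^ 2 = ((Units.map (j : F₀ →* F) c : Fˣ) : F) := hz2
  obtain ⟨hne0, hnsq⟩ := not_isSquare_two_sqrt_add j h2 σ hord hj 1 ζ₀ hab₀ (c : F₀) w₁ w₂ hcns
    hc z hz2
  rw [map_one] at hne0 hnsq
  obtain ⟨χ, κ, hχ⟩ := spin_char_formula h2 (qfMinus n F 1 (j ζ₀))
  obtain ⟨τ, hτd, hτχ, hτg⟩ := exists_tMinus_sq (m := n) 1 (j ζ₀) h2 χ κ hχ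
    (Units.map (j : F₀ →* F) c) zU hzU2 (j w₁) (j w₂) hcF hne0
  have hzval : ((zU : Fˣ) : F) = z := rfl
  rw [hzval] at hτχ
  rw [LamG_apply, inclGO_dMinus j ζ₀ c w₁ w₂ hc hcF, hτg, cHom_scal_mul _ h2 hQm hn4]
  have hiff : c0 (qfMinus n F 1 (j ζ₀)) τ ∈
      Cfsg.Inn (Cfsg.POmega F (⇑(qfMinus n F 1 (j ζ₀)) : ((Fin n ⊕ Fin n) ⊕ Fin 2 → F) → F)) ↔
      χ τ = 1 := by
    constructor
    · intro h
      have := mem_omega_of_inn (qfMinus n F 1 (j ζ₀)) h2 hQm hn4 hneg τ h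
      exact ((mem_omega_iff' (qfMinus n F 1 (j ζ₀)) h2 hQm χ κ hχ τ).mp this).2
    · intro h
      rw [inn_eq']
      exact ⟨τ, (mem_omega_iff' (qfMinus n F 1 (j ζ₀)) h2 hQm χ κ hχ τ).mpr ⟨hτd, h⟩, rfl⟩
  rw [hiff, hτχ, sqSign_mul hz0 hne0, sqSign_of_not hnsq]
  have hzsq : IsSquare z ↔ Fintype.card F₀ % 4 = 3 := by
    rw [isSquare_sqrt_iff j h2 hcardF σ hord hj (c : F₀) hcns z hz2]
    have h1 : -(c : F₀) = (c : F₀) * (-1) := by ring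
    rw [h1, isSquare_mul_of_nonsq hcns (neg_ne_zero.mpr one_ne_zero),
      FiniteField.isSquare_neg_one_iff]
    push Not
    rfl
  by_cases hs : IsSquare z
  · have h3 := hzsq.mp hs
    rw [(sqSign_eq_one_iff z).mpr hs, one_pow, one_mul, one_mul]
    constructor
    · intro h
      exact absurd h (by decide)
    · rintro ⟨-, h⟩
      omega
  · have h3 : Fintype.card F₀ % 4 = 1 := by
      have : ¬ Fintype.card F₀ % 4 = 3 := fun h => hs (hzsq.mpr h)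
      omega
    rw [sqSign_of_not hs]
    rcases Nat.even_or_odd (n + 1) with he | ho
    · constructor
      · intro h
        exfalso
        obtain ⟨k, hk⟩ := he
        have h5 : (-1 : ℤˣ) ^ n = -1 := by
          have : n = 2 * k - 1 := by omega
          rw [this]
          exact Odd.neg_one_pow ⟨k - 1, by omega⟩
        rw [h5] at h
        exact absurd h (by decide)
      · rintro ⟨ho, -⟩
        exact absurd he (Nat.not_even_iff_odd.mpr ho)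
    · constructor
      · intro _
        exact ⟨ho, h3⟩
      · intro _
        obtain ⟨k, hk⟩ := ho
        have h5 : (-1 : ℤˣ) ^ n = 1 := by
          have : n = 2 * k := by omega
          rw [this]
          exact Even.neg_one_pow ⟨k, by ring⟩
        rw [h5]
        decide

end comp

end Cfsg.Agent.Lib.Helper16.OM
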