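import Mathlib
import Cfsg.Agent.Lib.Helper16.OM31

set_option autoImplicit false
set_option linter.unusedSectionVars false
set_option linter.unusedVariables false

namespace Cfsg.Agent.Lib.Helper16.OM

open Matrix Module Cfsg.Agent.Lib.Lead Cfsg.Agent.Lib.Lead.OA Cfsg.Agent.Lib.Helper16
  Cfsg.Agent.Lib.Helper16.OA Cfsg.Agent.Lib.Helper16.OL Cfsg.Agent.Lib.Helper16.PSC
  Cfsg.Agent.Lib.Helper16.H9 Cfsg.Agent.Lib.Lead.OAM Cfsg.Agent.Lib.Lead.OAP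

universe u v

section gen

variable {ι : Type} [Fintype ι] [DecidableEq ι] {F : Type u} [Field F] [Fintype F]

theorem relIndex_pso_D (Q : QuadraticForm F (ι → F)) (h2 : (2 : F) ≠ 0)
    (hQ : (QuadraticMap.polarBilin Q).Nondegenerate)
    (hn : 4 ≤ Fintype.card ι) (m : ℕ) (hcard : Fintype.card ι = 2 * m)
    (hne : ∃ v, Q v ≠ 0) (g₁ : ↥(GOq Q))
    (hg₁ : ¬ IsSquare ((mult Q g₁ : Fˣ) : F)) (hg₁e : eps Q hne m g₁ = 1) :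
    (Cfsg.psoAut F (⇑Q : (ι → F) → F)).relIndex
      ((eps Q hne m).ker.map (cHom (⇑Q : (ι → F) → F))) = 2 := by
  obtain ⟨φ, hφs, hφk⟩ := inndiag_mod_pso Q h2 hQ hn m hcard hne g₁ hg₁ hg₁e
  show ((Cfsg.psoAut F (⇑Q : (ι → F) → F)).subgroupOf
    ((eps Q hne m).ker.map (cHom (⇑Q : (ι → F) → F)))).index = 2
  rw [← hφk, Subgroup.index_ker, MonoidHom.range_eq_top.mpr hφs, Subgroup.card_top]
  simp

/-- `-1 ∈ Ω` as soon as the inner automorphisms have index four. -/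
theorem neg_mem_omega_of_index (Q : QuadraticForm F (ι → F)) (h2 : (2 : F) ≠ 0)
    (hQ : (QuadraticMap.polarBilin Q).Nondegenerate)
    (hn : 4 ≤ Fintype.card ι) (m : ℕ) (hcard : Fintype.card ι = 2 * m)
    (hne : ∃ v, Q v ≠ 0) (g₁ : ↥(GOq Q))
    (hg₁ : ¬ IsSquare ((mult Q g₁ : Fˣ) : F)) (hg₁e : eps Q hne m g₁ = 1)
    (h4 : (Cfsg.Inn (Cfsg.POmega F (⇑Q : (ι → F) → F))).relIndex
      ((eps Q hne m).ker.map (cHom (⇑Q : (ι → F) → F))) = 4) :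
    ∃ g : ↥(Cfsg.isometryGroup F (⇑Q : (ι → F) → F)),
      g ∈ Cfsg.Omega F (⇑Q : (ι → F) → F) ∧ ((g : GL ι F) : Matrix ι ι F) = -1 := by
  by_contra hno
  have h1 := inn_eq_pso_of_not Q h2 hQ hn m hcard hno
  rw [h1, relIndex_pso_D Q h2 hQ hn m hcard hne g₁ hg₁ hg₁e] at h4
  omega

end gen

section tw

variable {F : Type u} [Field F] [Fintype F] {F₀ : Type v} [Field F₀] [Fintype F₀] {n : ℕ}

set_option quotPrecheck false in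
local notation "QP" => (qfPlus (n + 1) F)
set_option quotPrecheck false in
local notation "QPf" => (⇑(qfPlus (n + 1) F) : (Fin (n + 1) ⊕ Fin (n + 1) → F) → F)

/-- the index of the inner automorphisms in the inner-diagonal group, `q ≡ 1 mod 4`. -/
theorem relIndex_inn_plus (hn : 3 ≤ n) (h2 : (2 : F) ≠ 0) (hq : Fintype.card F % 4 = 1)
    (hneP : ∃ v, qfPlus (n + 1) F v ≠ 0) :
    (Cfsg.Inn (Cfsg.POmega F QPf)).relIndex ((eps QP hneP (n + 1)).ker.map (cHom QPf)) = 4 := by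
  have hodd : Odd (Fintype.card F) := Nat.odd_iff.mpr (by omega)
  have hQ := qfPlus_nondeg (n + 1) F
  have hcard := card_plus_index (n + 1)
  have hn4 : 4 ≤ Fintype.card (Fin (n + 1) ⊕ Fin (n + 1)) := by rw [hcard]; omega
  obtain ⟨δ, hδ0, hδ⟩ := Cfsg.Agent.Lib.Lead.OI.exists_nonsquare (F := F) h2
  set c : Fˣ := Units.mk0 δ hδ0 with hc
  set g₁ : ↥(GOq (qfPlus (n + 1) F)) := ⟨dPlus c, dPlus_mem c⟩ with hg₁def
  have hg₁ : ¬ IsSquare ((mult (qfPlus (n + 1) F) g₁ : Fˣ) : F) := by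
    rw [hg₁def, mult_dPlus hneP]; exact hδ
  have hg₁e : eps (qfPlus (n + 1) F) hneP (n + 1) g₁ = 1 := eps_dPlus hneP c
  have hiff := Cfsg.Agent.S0790.result (F := F) rfl hodd (n + 1) (by omega)
  have hq2 : Fintype.card F % 2 = 1 := by omega
  have har := pow_mod_four_iff (Fintype.card F) (n + 1) hq2
  have hneg := hiff.mpr (har.mpr (fun h => by omega))
  exact relIndex_inn_D (qfPlus (n + 1) F) h2 hQ hn4 (n + 1) hcard hneP g₁ hg₁ hg₁e hneg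

set_option maxHeartbeats 4000000 in
/-- the number of classes into which the class of the standard graph-field automorphism splits. -/
theorem count_tw (hn : 4 ≤ n) (j : F₀ →+* F) (h2F : (2 : F) ≠ 0)
    (hcardF : Fintype.card F = Fintype.card F₀ ^ 2) (ζ₀ : F₀)
    (hab₀ : ∀ z₁ z₂ : F₀, z₁ ^ 2 + 1 * z₁ * z₂ + ζ₀ * z₂ ^ 2 = 0 → z₁ = 0 ∧ z₂ = 0)
    (θ θ' : F) (hsum : θ + θ' = -1) (hprod : θ * θ' = j ζ₀) (hΔ : θ - θ' ≠ 0)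
    (σ : RingAut F) (h1 : σ θ = θ') (h2 : σ θ' = θ) (hσ : SigCompat QPf σ)
    (hord : orderOf σ = 2) (hj : ∀ x, (∃ y, j y = x) ↔ σ x = x) :
    ((Odd (n + 1) ∧ Fintype.card F₀ % 4 = 1) →
      (Cfsg.Inn (Cfsg.POmega F QPf) ⊔ (Cfsg.inndiagPOmegaPlus (n + 1) F ⊓ Subgroup.centralizer
        {cHom QPf (isoToGO QP (CDG.refl QP (u0 n F) Q_u0_ne)) * phiS QPf σ hσ})).relIndex
        (Cfsg.inndiagPOmegaPlus (n + 1) F) = 4) ∧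
    (¬ (Odd (n + 1) ∧ Fintype.card F₀ % 4 = 1) →
      (Cfsg.Inn (Cfsg.POmega F QPf) ⊔ (Cfsg.inndiagPOmegaPlus (n + 1) F ⊓ Subgroup.centralizer
        {cHom QPf (isoToGO QP (CDG.refl QP (u0 n F) Q_u0_ne)) * phiS QPf σ hσ})).relIndex
        (Cfsg.inndiagPOmegaPlus (n + 1) F) = 2) := by
  have hζ : σ (j ζ₀) = j ζ₀ := (hj _).mp ⟨ζ₀, rfl⟩
  have hσm := sigCompat_minus (m := n) σ 1 (j ζ₀) (map_one σ) hζ
  obtain ⟨hQ₀, hcard7, -⟩ := minus_hyps n (by omega) 1 ζ₀ hab₀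
  have hQm := nondeg_minus_base (n := n) j ζ₀ hab₀
  have hne₀ := minus_exists_ne_zero (F := F₀) n 1 ζ₀
  have hneM := minus_exists_ne_zero (F := F) n 1 (j ζ₀)
  have hneP := plus_exists_ne_zero (F := F) (n + 1) (by omega)
  have hbc := baseCompat_minus_one (n := n) j ζ₀
  have hgf := ThetaTw_gf (j ζ₀) θ θ' hsum hprod hΔ σ h1 h2 hζ hσ
  have hcardI := card_minus_index n
  have hn4 : 4 ≤ Fintype.card ((Fin n ⊕ Fin n) ⊕ Fin 2) := by rw [hcardI]; omega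
  have h2₀ : (2 : F₀) ≠ 0 := two_ne_zero_base j h2F
  have hch₀ : ringChar F₀ ≠ 2 := ringChar_ne_two_of h2₀
  have hq₀ : Fintype.card F₀ % 2 = 1 := FiniteField.odd_card_of_char_ne_two hch₀
  have hq : Fintype.card F % 4 = 1 := by
    rw [hcardF]
    have h4 : Fintype.card F₀ % 4 = 1 ∨ Fintype.card F₀ % 4 = 3 := by omega
    rcases h4 with h | h <;> simp [Nat.pow_mod, h]
  -- a similarity of the twisted form with non-square multiplier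
  obtain ⟨δ, hδ0, hδ⟩ := Cfsg.Agent.Lib.Lead.OI.exists_nonsquare (F := F) h2F
  set cF : Fˣ := Units.mk0 δ hδ0 with hcFdef
  have hΔ' : θ' - θ ≠ 0 := by
    intro h
    apply hΔ
    linear_combination -h
  obtain ⟨W₂, hW₂⟩ : ∃ W₂ : F, W₂ = (δ - 1) / (θ' - θ) := ⟨_, rfl⟩
  obtain ⟨W₁, hW₁⟩ : ∃ W₁ : F, W₁ = 1 + θ' * W₂ := ⟨_, rfl⟩
  have hcW : W₁ ^ 2 + 1 * W₁ * W₂ + j ζ₀ * W₂ ^ 2 = ((cF : Fˣ) : F) := by
    have e1 : W₁ ^ 2 + 1 * W₁ * W₂ + j ζ₀ * W₂ ^ 2 = (W₁ - θ * W₂) * (W₁ - θ' * W₂) := by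
      rw [← hprod]
      linear_combination (W₁ * W₂) * hsum
    have hW : (θ' - θ) * W₂ = δ - 1 := by
      rw [hW₂]; field_simp
    have e2 : W₁ - θ' * W₂ = 1 := by rw [hW₁]; ring
    have e3 : W₁ - θ * W₂ = δ := by rw [hW₁]; linear_combination hW
    rw [e1, e2, e3, mul_one, hcFdef, Units.val_mk0]
  set g₁ : ↥(GOq (qfMinus n F 1 (j ζ₀))) :=
    ⟨dMinus 1 (j ζ₀) cF W₁ W₂ hcW, dMinus_mem 1 (j ζ₀) cF W₁ W₂ hcW⟩ with hg₁def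
  have hg₁ : ¬ IsSquare ((mult (qfMinus n F 1 (j ζ₀)) g₁ : Fˣ) : F) := by
    rw [hg₁def, mult_dMinus 1 (j ζ₀) hneM]; exact hδ
  have hg₁e : eps (qfMinus n F 1 (j ζ₀)) hneM (n + 1) g₁ = 1 :=
    eps_dMinus 1 (j ζ₀) hneM cF W₁ W₂ hcW
  -- the index on the plus side
  have hidxP := relIndex_inn_plus (n := n) (by omega) h2F hq hneP
  have hD : ∀ β, β ∈ (eps QP hneP (n + 1)).ker.map (cHom QPf) ↔
      ThetaTw (j ζ₀) θ θ' hsum hprod hΔ β ∈ (eps (qfMinus n F 1 (j ζ₀)) hneM (n + 1)).ker.map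
        (cHom (⇑(qfMinus n F 1 (j ζ₀)) : ((Fin n ⊕ Fin n) ⊕ Fin 2 → F) → F)) :=
    fun β => ThetaTw_epsKer_iff (j ζ₀) θ θ' hsum hprod hΔ hneP hneM β
  have hK : ∀ β, β ∈ Cfsg.Inn (Cfsg.POmega F QPf) ↔
      ThetaTw (j ζ₀) θ θ' hsum hprod hΔ β ∈ Cfsg.Inn (Cfsg.POmega F
        (⇑(qfMinus n F 1 (j ζ₀)) : ((Fin n ⊕ Fin n) ⊕ Fin 2 → F) → F)) :=
    fun β => ThetaTw_inn_iff (j ζ₀) θ θ' hsum hprod hΔ β
  have hidxM : (Cfsg.Inn (Cfsg.POmega F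
        (⇑(qfMinus n F 1 (j ζ₀)) : ((Fin n ⊕ Fin n) ⊕ Fin 2 → F) → F))).relIndex
      ((eps (qfMinus n F 1 (j ζ₀)) hneM (n + 1)).ker.map
        (cHom (⇑(qfMinus n F 1 (j ζ₀)) : ((Fin n ⊕ Fin n) ⊕ Fin 2 → F) → F))) = 4 := by
    rw [← relIndex_transport (ThetaTw (j ζ₀) θ θ' hsum hprod hΔ) _ _ _ _ hD hK]
    exact hidxP
  have hneg := neg_mem_omega_of_index (qfMinus n F 1 (j ζ₀)) h2F hQm hn4 (n + 1) hcardI hneM g₁
    hg₁ hg₁e hidxM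
  -- the similarity over the subfield
  obtain ⟨δ₀, hδ₀0, hδ₀⟩ := Cfsg.Agent.Lib.Lead.OI.exists_nonsquare (F := F₀) h2₀
  obtain ⟨w₁, w₂, hcw⟩ := Cfsg.Agent.Lib.Lead.OAM.exists_norm_binary 1 ζ₀ h2₀ hab₀ δ₀ hδ₀0
  set c₀ : F₀ˣ := Units.mk0 δ₀ hδ₀0 with hc₀def
  have hc' : w₁ ^ 2 + 1 * w₁ * w₂ + ζ₀ * w₂ ^ 2 = ((c₀ : F₀ˣ) : F₀) := hcw
  set gz : ↥(GOq (qfMinus n F₀ 1 ζ₀)) :=
    ⟨dMinus 1 ζ₀ c₀ w₁ w₂ hc', dMinus_mem 1 ζ₀ c₀ w₁ w₂ hc'⟩ with hgzdef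
  have hgzm : ¬ IsSquare ((mult (qfMinus n F₀ 1 ζ₀) gz : F₀ˣ) : F₀) := by
    rw [hgzdef, mult_dMinus 1 ζ₀ hne₀]; exact hδ₀
  have hgze : eps (qfMinus n F₀ 1 ζ₀) hne₀ (n + 1) gz = 1 := eps_dMinus 1 ζ₀ hne₀ c₀ w₁ w₂ hc'
  have hiff := LamG_dMinus_mem_inn_iff (n := n) (by omega) j h2F hcardF σ hord hj ζ₀ hab₀ hneg c₀
    hδ₀ w₁ w₂ hc'
  obtain ⟨hA, hB⟩ := split_index_gen j (qfMinus n F₀ 1 ζ₀) (qfMinus n F 1 (j ζ₀)) hbc h2F hQ₀ hQm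
    hcard7 (n + 1) hcardI hne₀ hneM hcardF σ hσm hord hj hneg g₁ hg₁ hg₁e gz hgzm hgze
  have key := relIndex_sup_transport (ThetaTw (j ζ₀) θ θ' hsum hprod hΔ)
    ((eps QP hneP (n + 1)).ker.map (cHom QPf)) (Cfsg.Inn (Cfsg.POmega F QPf)) _ _ hD hK
    (cHom QPf (isoToGO QP (CDG.refl QP (u0 n F) Q_u0_ne)) * phiS QPf σ hσ)
  rw [hgf] at key
  have hDeq : Cfsg.inndiagPOmegaPlus (n + 1) F = (eps QP hneP (n + 1)).ker.map (cHom QPf) :=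
    inndiagPlus_eq h2F hneP
  rw [hDeq, key]
  exact ⟨fun h => hA (hiff.mpr h), fun h => hB (fun h' => h (hiff.mp h'))⟩

end tw

end Cfsg.Agent.Lib.Helper16.OM
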