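import Mathlib
import Cfsg.Agent.Lib.Helper16.OM32

set_option autoImplicit false
set_option linter.unusedSectionVars false
set_option linter.unusedVariables false

namespace Cfsg.Agent.Lib.Helper16.OM

open Matrix Module Cfsg.Agent.Lib.Lead Cfsg.Agent.Lib.Lead.OA Cfsg.Agent.Lib.Helper16
  Cfsg.Agent.Lib.Helper16.OA Cfsg.Agent.Lib.Helper16.OL Cfsg.Agent.Lib.Helper16.PSC
  Cfsg.Agent.Lib.Helper16.H9 Cfsg.Agent.Lib.Lead.OAM Cfsg.Agent.Lib.Lead.OAP
  Cfsg.Agent.Lib.Helper16.OSemi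

universe u v

section field

variable {F₀ : Type v} [Field F₀] [Finite F₀]

theorem exists_irred_quadratic : ∃ ζ₀ : F₀, ∀ t : F₀, t ^ 2 + t + ζ₀ ≠ 0 := by
  by_contra h
  push Not at h
  have hsurj : Function.Surjective (fun t : F₀ => t ^ 2 + t) := by
    intro c
    obtain ⟨t, ht⟩ := h (-c)
    exact ⟨t, by
      show t ^ 2 + t = c
      linear_combination ht⟩
  have hinj := Finite.injective_iff_surjective.mpr hsurj
  have h1 : (fun t : F₀ => t ^ 2 + t) 0 = (fun t : F₀ => t ^ 2 + t) (-1) := by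
    show (0 : F₀) ^ 2 + 0 = (-1) ^ 2 + -1
    ring
  have := hinj h1
  exact one_ne_zero (neg_eq_zero.mp this.symm)

end field

section main

variable {F : Type u} [Field F] [Fintype F] {n : ℕ}

set_option quotPrecheck false in
local notation "QP" => (qfPlus (n + 1) F)
set_option quotPrecheck false in
local notation "QPf" => (⇑(qfPlus (n + 1) F) : (Fin (n + 1) ⊕ Fin (n + 1) → F) → F)

set_option maxHeartbeats 4000000 in
theorem S2717_aux {p f : ℕ} [Fact p.Prime] (hF : Fintype.card F = p ^ f) (hn4 : 4 ≤ n)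
    (x : MulAut (Cfsg.POmega F QPf)) (hx : Cfsg.IsGraphFieldAutClassPOmegaPlus (n + 1) x)
    (hx2 : orderOf x = 2) (F₀ : Type v) [Field F₀] [Fintype F₀]
    (hF₀ : Fintype.card F₀ = p ^ (f / 2)) :
    Even f ∧
    (∀ y : MulAut (Cfsg.POmega F QPf), Cfsg.IsGraphFieldAutClassPOmegaPlus (n + 1) y →
      orderOf y = 2 → Cfsg.IsConjUnder (Cfsg.inndiagPOmegaPlus (n + 1) F) x y) ∧
    (∃ a₀ b₀ : F₀, (∀ z₁ z₂ : F₀, z₁ ^ 2 + a₀ * z₁ * z₂ + b₀ * z₂ ^ 2 = 0 → z₁ = 0 ∧ z₂ = 0) ∧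
      Nonempty (↥(Cfsg.inndiagPOmegaPlus (n + 1) F ⊓ Subgroup.centralizer {x}) ≃*
        ↥(Cfsg.inndiagPOmegaMinus n F₀ a₀ b₀))) ∧
    (p = 2 → Cfsg.splitClassCount (Cfsg.inndiagPOmegaPlus (n + 1) F)
      (Cfsg.Inn (Cfsg.POmega F QPf)) x = 1) ∧
    ((p ≠ 2 ∧ Odd (n + 1) ∧ p ^ (f / 2) % 4 = 1) →
      Cfsg.splitClassCount (Cfsg.inndiagPOmegaPlus (n + 1) F)
        (Cfsg.Inn (Cfsg.POmega F QPf)) x = 4) ∧
    ((p ≠ 2 ∧ ¬ (Odd (n + 1) ∧ p ^ (f / 2) % 4 = 1)) →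
      Cfsg.splitClassCount (Cfsg.inndiagPOmegaPlus (n + 1) F)
        (Cfsg.Inn (Cfsg.POmega F QPf)) x = 2) := by
  obtain ⟨hcyc, hcardG⟩ := Cfsg.Agent.Lib.Helper16.AP.galF_cyclic_card hF
  obtain ⟨α, σ, v, hv, hord, hfixv, hα⟩ := gf_decode hn4 x hx hx2
  have h2f : 2 ∣ f := by
    have := orderOf_dvd_natCard (σ : RingAut F)
    rwa [hord, hcardG] at this
  have hσ : SigCompat QPf σ := sigCompat_plus σ (n + 1)
  -- the fixed field
  set F₀' : Subfield F := FixedPoints.subfield (Subgroup.zpowers σ) F with hF₀'def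
  have hmem : ∀ y, y ∈ F₀' ↔ σ y = y := fun y => Cfsg.Agent.Lib.Helper16.mem_fixed_iff σ y
  have hF' : Fintype.card F = (p ^ (f / 2)) ^ 2 := by
    rw [hF, ← pow_mul, Nat.div_mul_cancel h2f]
  have hcard' : Nat.card F₀' = p ^ (f / 2) :=
    Cfsg.Agent.Lib.Helper16.fixed_card Nat.prime_two hF' σ hord
  have : Fintype F₀' := Fintype.ofFinite _
  have hcc : Fintype.card F₀ = Fintype.card F₀' := by
    rw [← Nat.card_eq_fintype_card (α := F₀'), hcard', hF₀]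
  have e₀ : F₀ ≃+* F₀' := FiniteField.ringEquivOfCardEq hcc
  set j : F₀ →+* F := F₀'.subtype.comp e₀.toRingHom with hjdef
  have hj : ∀ y, (∃ z, j z = y) ↔ (σ : RingAut F) y = y := by
    intro y
    constructor
    · rintro ⟨z, rfl⟩
      exact (hmem _).mp (e₀ z).2
    · intro hy
      refine ⟨e₀.symm ⟨y, (hmem y).mpr hy⟩, ?_⟩
      show ((e₀ (e₀.symm ⟨y, (hmem y).mpr hy⟩) : F₀') : F) = y
      rw [RingEquiv.apply_symm_apply]
  have hcardFF : Fintype.card F = Fintype.card F₀ ^ 2 := by rw [hF₀]; exact hF'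
  -- the irreducible quadratic
  obtain ⟨ζ₀, hζ₀⟩ := exists_irred_quadratic (F₀ := F₀)
  have hab₀ := aniso_of_irred ζ₀ hζ₀
  have hζfix : σ (j ζ₀) = j ζ₀ := (hj _).mp ⟨ζ₀, rfl⟩
  -- a root in the big field
  obtain ⟨θ, hθ⟩ : ∃ θ : F, θ ^ 2 + θ + j ζ₀ = 0 := by
    classical
    have hfo : IsOfFinOrder σ := orderOf_pos_iff.mp (by rw [hord]; norm_num)
    have : Finite (Subgroup.zpowers σ) := Set.finite_coe_iff.mpr hfo.finite_zpowers
    have : Fintype (Subgroup.zpowers σ) := Fintype.ofFinite _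
    have h1 := FixedPoints.finrank_eq_card (Subgroup.zpowers σ) F
    have h2 : Fintype.card (Subgroup.zpowers σ) = 2 := by
      rw [← Nat.card_eq_fintype_card, Nat.card_zpowers, hord]
    have hfr : finrank (fixS σ) F = 2 := by rw [← h2]; exact h1
    have : Fintype (fixS σ) := Fintype.ofFinite _
    set ζ' : fixS σ := ⟨j ζ₀, (mem_fixS σ _).mpr hζfix⟩ with hζ'
    have hirr : ∀ t : fixS σ, t ^ 2 + t + ζ' ≠ 0 := by
      intro t ht
      obtain ⟨t₀, ht₀⟩ := (hj (t : F)).mpr ((mem_fixS σ _).mp t.2)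
      apply hζ₀ t₀
      apply j.injective
      rw [map_add, map_add, map_pow, ht₀, map_zero]
      have := congrArg (fun y : fixS σ => (y : F)) ht
      exact this
    have han := aniso_of_irred ζ' hirr
    obtain ⟨t, ht⟩ := exists_root_of_aniso (F := fixS σ) (K := F) hfr 1 ζ' han
    refine ⟨t, ?_⟩
    have e1 : algebraMap (fixS σ) F 1 = 1 := map_one _
    have e2 : algebraMap (fixS σ) F ζ' = j ζ₀ := rfl
    rw [e1, e2, one_mul] at ht
    exact ht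
  set θ' : F := σ θ with hθ'def
  have hθ' : θ' ^ 2 + θ' + j ζ₀ = 0 := by
    have := congrArg σ hθ
    rw [map_add, map_add, map_pow, hζfix, map_zero] at this
    exact this
  have hΔ : θ - θ' ≠ 0 := by
    intro h
    have h1 : σ θ = θ := by
      rw [← hθ'def]
      exact (sub_eq_zero.mp h).symm
    obtain ⟨t₀, ht₀⟩ := (hj θ).mpr h1
    apply hζ₀ t₀
    apply j.injective
    rw [map_add, map_add, map_pow, ht₀, map_zero]
    exact hθ
  have hsum : θ + θ' = -1 := by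
    have h1 : (θ - θ') * (θ + θ' + 1) = 0 := by linear_combination hθ - hθ'
    rcases mul_eq_zero.mp h1 with h2 | h2
    · exact absurd h2 hΔ
    · linear_combination h2
  have hprod : θ * θ' = j ζ₀ := by
    have h1 : θ' = -1 - θ := by linear_combination hsum
    rw [h1]
    linear_combination -hθ
  have hσθ' : σ θ' = θ := by
    have h1 : θ' = -1 - θ := by linear_combination hsum
    have h2 : σ θ' = -1 - σ θ := by
      conv_lhs => rw [h1]
      rw [map_sub, map_neg, map_one]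
    rw [h2, ← hθ'def]
    linear_combination -hsum
  -- the standard graph-field automorphism
  set x₀ : MulAut (Cfsg.POmega F QPf) :=
    cHom QPf (isoToGO QP (CDG.refl QP (u0 n F) Q_u0_ne)) * phiS QPf σ hσ with hx₀def
  have hQm := nondeg_minus_base (n := n) j ζ₀ hab₀
  obtain ⟨-, hcard7, -⟩ := minus_hyps n (by omega) 1 ζ₀ hab₀
  have hgf := ThetaTw_gf (j ζ₀) θ θ' hsum hprod hΔ σ rfl hσθ' hζfix hσ
  have hx₀ord : orderOf x₀ = 2 := by
    have h1 := (ThetaTw (j ζ₀) θ θ' hsum hprod hΔ).orderOf_eq x₀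
    rw [hx₀def, hgf, orderOf_phiS (qfMinus n F 1 (j ζ₀)) hQm hcard7, hord] at h1
    exact h1.symm
  have hx₀cls : Cfsg.IsGraphFieldAutClassPOmegaPlus (n + 1) x₀ := by
    refine ⟨1, cHom QPf (isoToGO QP (CDG.refl QP (u0 n F) Q_u0_ne)), phiS QPf σ hσ, σ, u0 n F,
      ((CDG.refl QP (u0 n F) Q_u0_ne : ↥(Cfsg.isometryGroup F QPf)) :
        GL (Fin (n + 1) ⊕ Fin (n + 1)) F), ?_, Q_u0_ne, fun i => u0_fixed σ i, ?_, ?_, ?_, ?_⟩
    · intro h
      have : (σ : RingAut F) = 1 := h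
      rw [this, orderOf_one] at hord
      omega
    · rw [CDG.refl_coe]
      rfl
    · exact (induced_iff QPf _ (isoToGO QP (CDG.refl QP (u0 n F) Q_u0_ne)).2 _).2 rfl
    · exact (isFieldAut_iff_phiS QPf σ hσ _).2 rfl
    · rw [inv_one, mul_one]
      exact one_mul _
  have hconj := gf_unique hn4 hcyc x x₀ hx hx2 hx₀cls hx₀ord
  obtain ⟨h, hhD, hx₀eq⟩ : ∃ h : MulAut (Cfsg.POmega F QPf),
      h ∈ Cfsg.inndiagPOmegaPlus (n + 1) F ∧ x₀ = h * x * h⁻¹ := hconj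
  obtain ⟨D, hDeq, hDN, -, -, -⟩ := inndiag_plus_data (F := F) hn4
  have hDN' : (Cfsg.inndiagPOmegaPlus (n + 1) F).Normal := by rw [hDeq]; exact hDN
  have hInnN : (Cfsg.Inn (Cfsg.POmega F QPf)).Normal := inn_normal _
  have hneP := plus_exists_ne_zero (F := F) (n + 1) (by omega)
  have hpF : CharP F p := charP_of_card_eq_prime_pow hF
  refine ⟨even_iff_two_dvd.mpr h2f, fun y hy hy2 => gf_unique hn4 hcyc x y hx hx2 hy hy2,
    ⟨1, ζ₀, hab₀, ?_⟩, ?_, ?_, ?_⟩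
  · obtain ⟨e2⟩ := centIso_tw hn4 j ζ₀ hab₀ θ θ' hsum hprod hΔ σ rfl hσθ' hσ 2 hord (by norm_num) hj
    have e1 : ↥(Cfsg.inndiagPOmegaPlus (n + 1) F ⊓ Subgroup.centralizer {x}) ≃*
        ↥(Cfsg.inndiagPOmegaPlus (n + 1) F ⊓ Subgroup.centralizer {h * x * h⁻¹}) :=
      SC.centralizerConjEquiv (hH := hDN') (Cfsg.inndiagPOmegaPlus (n + 1) F) h x
    have e1' : ↥(Cfsg.inndiagPOmegaPlus (n + 1) F ⊓ Subgroup.centralizer {h * x * h⁻¹}) ≃*
        ↥(Cfsg.inndiagPOmegaPlus (n + 1) F ⊓ Subgroup.centralizer {x₀}) :=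
      MulEquiv.subgroupCongr (congrArg (fun y : MulAut (Cfsg.POmega F QPf) =>
        Cfsg.inndiagPOmegaPlus (n + 1) F ⊓ Subgroup.centralizer {y}) hx₀eq.symm)
    exact ⟨(e1.trans e1').trans e2⟩
  · intro hp2
    subst hp2
    have hDI : Cfsg.inndiagPOmegaPlus (n + 1) F = Cfsg.Inn (Cfsg.POmega F QPf) :=
      inndiagPlus_eq_inn_char2 (by omega : 3 ≤ n + 1)
    have hle : Cfsg.Inn (Cfsg.POmega F QPf) ≤ Cfsg.inndiagPOmegaPlus (n + 1) F := le_of_eq hDI.symm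
    have hcnt : Cfsg.splitClassCount (Cfsg.inndiagPOmegaPlus (n + 1) F)
        (Cfsg.Inn (Cfsg.POmega F QPf)) x =
        (Cfsg.Inn (Cfsg.POmega F QPf) ⊔ (Cfsg.inndiagPOmegaPlus (n + 1) F ⊓
          Subgroup.centralizer {x})).relIndex (Cfsg.inndiagPOmegaPlus (n + 1) F) :=
      SC.splitClassCount_eq_relIndex (hK := hInnN) _ _ hle x
    rw [hcnt]
    exact Subgroup.relIndex_eq_one.mpr (le_trans (le_of_eq hDI) le_sup_left)
  · rintro ⟨hp2, hodd, hmod⟩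
    have hoddF : Odd (Fintype.card F) := by
      rw [hF]
      exact Odd.pow ((Fact.out : p.Prime).eq_two_or_odd'.resolve_left hp2)
    have h2F : (2 : F) ≠ 0 := Cfsg.Agent.Lib.Lead.OAP.two_ne_zero_of_odd hoddF
    have hInnD : Cfsg.Inn (Cfsg.POmega F QPf) ≤ Cfsg.inndiagPOmegaPlus (n + 1) F := by
      have hDeq' : Cfsg.inndiagPOmegaPlus (n + 1) F = (eps QP hneP (n + 1)).ker.map (cHom QPf) :=
        inndiagPlus_eq h2F hneP
      rw [hDeq']
      exact inn_le_D QP hneP (n + 1)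
    have hcnt : Cfsg.splitClassCount (Cfsg.inndiagPOmegaPlus (n + 1) F)
        (Cfsg.Inn (Cfsg.POmega F QPf)) (h * x * h⁻¹) =
        Cfsg.splitClassCount (Cfsg.inndiagPOmegaPlus (n + 1) F)
        (Cfsg.Inn (Cfsg.POmega F QPf)) x :=
      SC.splitClassCount_conj (hH := hDN') (hK := hInnN) _ _ hInnD h x
    rw [← hx₀eq] at hcnt
    have hcnt2 : Cfsg.splitClassCount (Cfsg.inndiagPOmegaPlus (n + 1) F)
        (Cfsg.Inn (Cfsg.POmega F QPf)) x₀ =
        (Cfsg.Inn (Cfsg.POmega F QPf) ⊔ (Cfsg.inndiagPOmegaPlus (n + 1) F ⊓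
          Subgroup.centralizer {x₀})).relIndex (Cfsg.inndiagPOmegaPlus (n + 1) F) :=
      SC.splitClassCount_eq_relIndex (hK := hInnN) _ _ hInnD x₀
    rw [← hcnt, hcnt2]
    exact (count_tw hn4 j h2F hcardFF ζ₀ hab₀ θ θ' hsum hprod hΔ σ rfl hσθ' hσ hord hj).1
      ⟨hodd, by rw [hF₀]; exact hmod⟩
  · rintro ⟨hp2, hnot⟩
    have hoddF : Odd (Fintype.card F) := by
      rw [hF]
      exact Odd.pow ((Fact.out : p.Prime).eq_two_or_odd'.resolve_left hp2)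
    have h2F : (2 : F) ≠ 0 := Cfsg.Agent.Lib.Lead.OAP.two_ne_zero_of_odd hoddF
    have hInnD : Cfsg.Inn (Cfsg.POmega F QPf) ≤ Cfsg.inndiagPOmegaPlus (n + 1) F := by
      have hDeq' : Cfsg.inndiagPOmegaPlus (n + 1) F = (eps QP hneP (n + 1)).ker.map (cHom QPf) :=
        inndiagPlus_eq h2F hneP
      rw [hDeq']
      exact inn_le_D QP hneP (n + 1)
    have hcnt : Cfsg.splitClassCount (Cfsg.inndiagPOmegaPlus (n + 1) F)
        (Cfsg.Inn (Cfsg.POmega F QPf)) (h * x * h⁻¹) =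
        Cfsg.splitClassCount (Cfsg.inndiagPOmegaPlus (n + 1) F)
        (Cfsg.Inn (Cfsg.POmega F QPf)) x :=
      SC.splitClassCount_conj (hH := hDN') (hK := hInnN) _ _ hInnD h x
    rw [← hx₀eq] at hcnt
    have hcnt2 : Cfsg.splitClassCount (Cfsg.inndiagPOmegaPlus (n + 1) F)
        (Cfsg.Inn (Cfsg.POmega F QPf)) x₀ =
        (Cfsg.Inn (Cfsg.POmega F QPf) ⊔ (Cfsg.inndiagPOmegaPlus (n + 1) F ⊓
          Subgroup.centralizer {x₀})).relIndex (Cfsg.inndiagPOmegaPlus (n + 1) F) :=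
      SC.splitClassCount_eq_relIndex (hK := hInnN) _ _ hInnD x₀
    rw [← hcnt, hcnt2]
    exact (count_tw hn4 j h2F hcardFF ζ₀ hab₀ θ θ' hsum hprod hΔ σ rfl hσθ' hσ hord hj).2
      (fun hh => hnot ⟨hh.1, by rw [← hF₀]; exact hh.2⟩)

end main

end Cfsg.Agent.Lib.Helper16.OM
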