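import Mathlib
import Cfsg.Agent.Lib.Helper16.OM33

set_option autoImplicit false
set_option linter.unusedSectionVars false
set_option linter.unusedVariables false

namespace Cfsg.Agent.Lib.Helper16.OM

open Matrix Module Cfsg.Agent.Lib.Lead Cfsg.Agent.Lib.Lead.OA Cfsg.Agent.Lib.Helper16
  Cfsg.Agent.Lib.Helper16.OA Cfsg.Agent.Lib.Helper16.OL Cfsg.Agent.Lib.Helper16.PSC

universe u v

section abstract

variable {X : Type*} [Group X]

/-- if `K` has index four in `H`, commutators of `H` lie in `K` -/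
theorem comm_mem_of_relIndex_four (K H : Subgroup X) [hK : K.Normal] (h4 : K.relIndex H = 4)
    (a b : X) (ha : a ∈ H) (hb : b ∈ H) : a * b * a⁻¹ * b⁻¹ ∈ K := by
  have hN : (K.subgroupOf H).Normal := Subgroup.normal_subgroupOf
  have hcard : Nat.card (↥H ⧸ K.subgroupOf H) = 2 ^ 2 := h4
  have : Fact (Nat.Prime 2) := ⟨Nat.prime_two⟩
  have hcomm' := IsPGroup.isMulCommutative_of_card_eq_prime_sq hcard
  have hcomm : ∀ a b : ↥H ⧸ K.subgroupOf H, a * b = b * a := fun a b => hcomm'.is_comm.comm a b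
  have h1 : ((⟨a, ha⟩ * ⟨b, hb⟩ * ⟨a, ha⟩⁻¹ * ⟨b, hb⟩⁻¹ : ↥H) : ↥H ⧸ K.subgroupOf H) = 1 := by
    rw [QuotientGroup.mk_mul, QuotientGroup.mk_mul, QuotientGroup.mk_mul, QuotientGroup.mk_inv,
      QuotientGroup.mk_inv, hcomm (↑(⟨a, ha⟩ : ↥H)) (↑(⟨b, hb⟩ : ↥H))]
    group
  rw [QuotientGroup.eq_one_iff] at h1
  exact h1

/-- if some commutator `[x, d]` with `d ∈ H` is outside `K`, then `K·C_H(x)` is proper in `H` -/
theorem not_le_sup_cent_of_comm (K H : Subgroup X) [hK : K.Normal] (x d : X) (hd : d ∈ H)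
    (hx : x * d * x⁻¹ * d⁻¹ ∉ K) : ¬ H ≤ K ⊔ (H ⊓ Subgroup.centralizer {x}) := by
  intro hle
  have h1 := hle hd
  rw [← SetLike.mem_coe, Subgroup.normal_mul] at h1
  obtain ⟨k, hk, c, hc, rfl⟩ := h1
  apply hx
  have hcx : c * x = x * c := by
    have := (Subgroup.mem_centralizer_iff.mp hc.2) x rfl
    exact this.symm
  have h2 : x * (k * c) * x⁻¹ * (k * c)⁻¹ = (x * k * x⁻¹) * k⁻¹ := by
    have h3 : x * c * x⁻¹ * c⁻¹ = 1 := by
      rw [← hcx]; group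
    calc x * (k * c) * x⁻¹ * (k * c)⁻¹ = x * k * x⁻¹ * (x * c * x⁻¹ * c⁻¹) * k⁻¹ := by group
      _ = _ := by rw [h3, mul_one]
  rw [h2]
  exact K.mul_mem (hK.conj_mem k hk x) (K.inv_mem hk)

/-- index two from both bounds -/
theorem relIndex_two_of_split (K H : Subgroup X) [hK : K.Normal] (hKH : K ≤ H)
    (h4 : K.relIndex H = 4) (x : X)
    (hlow : ¬ H ≤ K ⊔ (H ⊓ Subgroup.centralizer {x}))
    (c : X) (hcH : c ∈ H) (hcx : c * x = x * c) (hcK : c ∉ K) :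
    (K ⊔ (H ⊓ Subgroup.centralizer {x})).relIndex H = 2 := by
  set Y := K ⊔ (H ⊓ Subgroup.centralizer {x}) with hY
  have hKY : K ≤ Y := le_sup_left
  have hYH : Y ≤ H := sup_le hKH inf_le_left
  have h1 := Subgroup.relIndex_mul_relIndex K Y H hKY hYH
  rw [h4] at h1
  have h2 : Y.relIndex H ≠ 1 := by
    intro h
    exact hlow (Subgroup.relIndex_eq_one.mp h)
  have h3 : K.relIndex Y ≠ 1 := by
    intro h
    have hle := Subgroup.relIndex_eq_one.mp h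
    apply hcK
    apply hle
    apply Subgroup.mem_sup_right
    refine ⟨hcH, ?_⟩
    show c ∈ Subgroup.centralizer {x}
    rw [Subgroup.mem_centralizer_iff]
    intro y hy
    rw [Set.mem_singleton_iff] at hy
    rw [hy]
    exact hcx.symm
  have h5 : Y.relIndex H ∣ 4 := Dvd.intro_left _ h1
  have h6 : Y.relIndex H ≤ 4 := Nat.le_of_dvd (by norm_num) h5
  have h7 : K.relIndex Y ∣ 4 := Dvd.intro _ h1
  have h8 : K.relIndex Y ≤ 4 := Nat.le_of_dvd (by norm_num) h7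
  interval_cases hh : Y.relIndex H <;> interval_cases hk : K.relIndex Y <;> omega

/-- when `K` has index two, the count is one or two -/
theorem relIndex_one_or_two (K H : Subgroup X) (hKH : K ≤ H) (h2 : K.relIndex H = 2)
    (Y : Subgroup X) (hKY : K ≤ Y) (hYH : Y ≤ H) : Y.relIndex H = 1 ∨ Y.relIndex H = 2 := by
  have h1 := Subgroup.relIndex_mul_relIndex K Y H hKY hYH
  rw [h2] at h1
  have h5 : Y.relIndex H ∣ 2 := Dvd.intro_left _ h1
  rcases (Nat.dvd_prime Nat.prime_two).mp h5 with h | h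
  · exact Or.inl h
  · exact Or.inr h

end abstract

section concrete

variable {ι : Type} [Fintype ι] [DecidableEq ι] {F : Type u} [Field F] [Fintype F]
variable (Q : QuadraticForm F (ι → F))

/-- conjugating a reflection by a similarity -/
theorem conj_reflGO (g : ↥(GOq Q)) (v : ι → F) (hv : Q v ≠ 0)
    (hv' : Q (((g : GL ι F) : Matrix ι ι F) *ᵥ v) ≠ 0) :
    g * isoToGO Q (reflG Q v hv) * g⁻¹ =
      isoToGO Q (reflG Q (((g : GL ι F) : Matrix ι ι F) *ᵥ v) hv') := by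
  apply Subtype.ext
  apply Units.ext
  exact sim_refl_conj Q g v hv

theorem Q_sim_ne (g : ↥(GOq Q)) (v : ι → F) (hv : Q v ≠ 0) :
    Q (((g : GL ι F) : Matrix ι ι F) *ᵥ v) ≠ 0 := by
  rw [mult_spec]
  exact mul_ne_zero (Units.ne_zero _) hv

theorem reflGO_mul_self (v : ι → F) (hv : Q v ≠ 0) :
    isoToGO Q (reflG Q v hv) * isoToGO Q (reflG Q v hv) = 1 := by
  rw [← map_mul, reflG_mul_self, map_one]

theorem reflGO_inv (v : ι → F) (hv : Q v ≠ 0) :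
    (isoToGO Q (reflG Q v hv))⁻¹ = isoToGO Q (reflG Q v hv) :=
  inv_eq_of_mul_eq_one_left (reflGO_mul_self Q v hv)

/-- `eps` takes values `±1`, so `eps g ≠ 1` means `eps g = -1` -/
theorem eps_eq_neg_one (hQ : (QuadraticMap.polarBilin Q).Nondegenerate)
    (hne : ∃ v, Q v ≠ 0) (m : ℕ) (hcard : Fintype.card ι = 2 * m) (g : ↥(GOq Q))
    (hg : eps Q hne m g ≠ 1) : eps Q hne m g = -1 := by
  have h1 := Cfsg.Agent.Lib.Helper16.OA.eps_sq Q hQ hne m hcard g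
  have h2 : ((eps Q hne m g : Fˣ) : F) * ((eps Q hne m g : Fˣ) : F) = 1 := by
    rw [← Units.val_mul, h1, Units.val_one]
  have h3 : (((eps Q hne m g : Fˣ) : F) - 1) * (((eps Q hne m g : Fˣ) : F) + 1) = 0 := by
    linear_combination h2
  rcases mul_eq_zero.mp h3 with h | h
  · exfalso
    apply hg
    apply Units.ext
    rw [Units.val_one]
    linear_combination h
  · apply Units.ext
    rw [Units.val_neg, Units.val_one]
    linear_combination h

set_option maxHeartbeats 1600000 in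
/-- the commutator of a graph-type similarity with a diagonal one is not inner -/
theorem comm_not_mem_inn (h2 : (2 : F) ≠ 0) (hQ : (QuadraticMap.polarBilin Q).Nondegenerate)
    (hn : 4 ≤ Fintype.card ι) (m : ℕ) (hcard : Fintype.card ι = 2 * m)
    (hne : ∃ v, Q v ≠ 0) (g₁ : ↥(GOq Q))
    (hg₁ : ¬ IsSquare (mult Q g₁ : F)) (hg₁e : eps Q hne m g₁ = 1)
    (hneg : ∃ g : ↥(Cfsg.isometryGroup F (⇑Q : (ι → F) → F)),
      g ∈ Cfsg.Omega F (⇑Q : (ι → F) → F) ∧ ((g : GL ι F) : Matrix ι ι F) = -1)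
    (g : ↥(GOq Q)) (hg : eps Q hne m g ≠ 1) :
    cHom (⇑Q : (ι → F) → F) g * cHom (⇑Q : (ι → F) → F) g₁ *
      (cHom (⇑Q : (ι → F) → F) g)⁻¹ * (cHom (⇑Q : (ι → F) → F) g₁)⁻¹ ∉
        Cfsg.Inn (Cfsg.POmega F (⇑Q : (ι → F) → F)) := by
  intro hmem
  have hInnN : (Cfsg.Inn (Cfsg.POmega F (⇑Q : (ι → F) → F))).Normal := inn_normal _
  have h4 := relIndex_inn_D Q h2 hQ hn m hcard hne g₁ hg₁ hg₁e hneg
  obtain ⟨v, hv⟩ := hne
  have hne : ∃ v, Q v ≠ 0 := ⟨v, hv⟩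
  have hv' := Q_sim_ne Q g₁ v hv
  set R := isoToGO Q (reflG Q v hv) with hR
  set R' := isoToGO Q (reflG Q _ hv') with hR'
  have hRinv : R⁻¹ = R := reflGO_inv Q v hv
  have hconj : g₁ * R * g₁⁻¹ = R' := conj_reflGO Q g₁ v hv hv'
  set g' := R⁻¹ * g with hg'
  have hge := eps_eq_neg_one Q hQ hne m hcard g hg
  have hRe : eps Q hne m R = -1 := by
    rw [hR, eps_iso, isoDet_reflG]
  have hg'e : eps Q hne m g' = 1 := by
    rw [hg', map_mul, map_inv, hRe, hge]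
    simp
  have hg'D : cHom (⇑Q : (ι → F) → F) g' ∈ (eps Q hne m).ker.map (cHom (⇑Q : (ι → F) → F)) :=
    ⟨g', MonoidHom.mem_ker.mpr hg'e, rfl⟩
  have hg₁D : cHom (⇑Q : (ι → F) → F) g₁ ∈ (eps Q hne m).ker.map (cHom (⇑Q : (ι → F) → F)) :=
    ⟨g₁, MonoidHom.mem_ker.mpr hg₁e, rfl⟩
  have hc1 := comm_mem_of_relIndex_four _ _ h4 _ _ hg'D hg₁D
  have hc2 := hInnN.conj_mem _ hc1 (cHom (⇑Q : (ι → F) → F) R)
  -- the decomposition of the commutator
  have hdec : g * g₁ * g⁻¹ * g₁⁻¹ =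
      (R * (g' * g₁ * g'⁻¹ * g₁⁻¹) * R⁻¹) * (R * R') := by
    have hgR : g = R * g' := by rw [hg']; group
    have h0 : (R * g') * g₁ * (R * g')⁻¹ * g₁⁻¹ =
        (R * (g' * g₁ * g'⁻¹ * g₁⁻¹) * R⁻¹) * (R * (g₁ * R⁻¹ * g₁⁻¹)) := by group
    rw [hgR, h0, hRinv, hconj]
  have hdec' := congrArg (cHom (⇑Q : (ι → F) → F)) hdec
  simp only [map_mul, map_inv] at hdec'
  rw [hdec'] at hmem
  have hc3 : cHom (⇑Q : (ι → F) → F) R * cHom (⇑Q : (ι → F) → F) R' ∈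
      Cfsg.Inn (Cfsg.POmega F (⇑Q : (ι → F) → F)) := by
    have := (Cfsg.Inn (Cfsg.POmega F (⇑Q : (ι → F) → F))).mul_mem
      ((Cfsg.Inn (Cfsg.POmega F (⇑Q : (ι → F) → F))).inv_mem hc2) hmem
    rwa [inv_mul_cancel_left] at this
  rw [← map_mul, hR, hR', ← map_mul, ← c0_apply] at hc3
  have h5 := mem_omega_of_inn Q h2 hQ hn hneg _ hc3
  obtain ⟨χ, κ, hχ⟩ := spin_char_formula h2 Q
  have h6 := omega_le_ker (⇑Q) χ h5
  rw [MonoidHom.mem_ker, map_mul, hχ, hχ, mult_spec] at h6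
  have hμ0 : ((mult Q g₁ : Fˣ) : F) ≠ 0 := Units.ne_zero _
  rw [sqSign_mul hμ0 hv, sqSign_of_not hg₁] at h6
  have h7 : κ * sqSign (Q v) * (κ * (-1 * sqSign (Q v))) = -1 := by
    have hk : κ * κ = 1 := Int.units_mul_self κ
    have hs : sqSign (Q v) * sqSign (Q v) = 1 := Int.units_mul_self _
    calc κ * sqSign (Q v) * (κ * (-1 * sqSign (Q v)))
        = -((κ * κ) * (sqSign (Q v) * sqSign (Q v))) := by
          simp only [neg_mul, one_mul, mul_neg, neg_inj]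
          rw [mul_mul_mul_comm]
      _ = -1 := by rw [hk, hs, one_mul]
  rw [h7] at h6
  exact absurd h6 (by decide)

set_option maxHeartbeats 1600000 in
/-- the split count is two as soon as some special isometry outside `Ω` commutes with `g` -/
theorem count_two_of_exists (h2 : (2 : F) ≠ 0) (hQ : (QuadraticMap.polarBilin Q).Nondegenerate)
    (hn : 4 ≤ Fintype.card ι) (m : ℕ) (hcard : Fintype.card ι = 2 * m)
    (hne : ∃ v, Q v ≠ 0) (g₁ : ↥(GOq Q))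
    (hg₁ : ¬ IsSquare (mult Q g₁ : F)) (hg₁e : eps Q hne m g₁ = 1)
    (hneg : ∃ g : ↥(Cfsg.isometryGroup F (⇑Q : (ι → F) → F)),
      g ∈ Cfsg.Omega F (⇑Q : (ι → F) → F) ∧ ((g : GL ι F) : Matrix ι ι F) = -1)
    (g : ↥(GOq Q)) (hg : eps Q hne m g ≠ 1)
    (s : ↥(Cfsg.isometryGroup F (⇑Q : (ι → F) → F)))
    (hsd : isoDet (⇑Q : (ι → F) → F) s = 1) (hsΩ : s ∉ Cfsg.Omega F (⇑Q : (ι → F) → F))
    (hsg : isoToGO Q s * g = g * isoToGO Q s) :
    Cfsg.splitClassCount ((eps Q hne m).ker.map (cHom (⇑Q : (ι → F) → F)))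
      (Cfsg.Inn (Cfsg.POmega F (⇑Q : (ι → F) → F))) (cHom (⇑Q : (ι → F) → F) g) = 2 := by
  have hInnN : (Cfsg.Inn (Cfsg.POmega F (⇑Q : (ι → F) → F))).Normal := inn_normal _
  have h4 := relIndex_inn_D Q h2 hQ hn m hcard hne g₁ hg₁ hg₁e hneg
  have hKH := inn_le_D Q hne m
  rw [Cfsg.Agent.Lib.Helper16.SC.splitClassCount_eq_relIndex (hK := hInnN) _ _ hKH]
  have hg₁D : cHom (⇑Q : (ι → F) → F) g₁ ∈ (eps Q hne m).ker.map (cHom (⇑Q : (ι → F) → F)) :=
    ⟨g₁, MonoidHom.mem_ker.mpr hg₁e, rfl⟩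
  have hlow := not_le_sup_cent_of_comm (Cfsg.Inn (Cfsg.POmega F (⇑Q : (ι → F) → F)))
    ((eps Q hne m).ker.map (cHom (⇑Q : (ι → F) → F))) (cHom (⇑Q : (ι → F) → F) g)
    (cHom (⇑Q : (ι → F) → F) g₁) hg₁D
    (comm_not_mem_inn Q h2 hQ hn m hcard hne g₁ hg₁ hg₁e hneg g hg)
  apply relIndex_two_of_split _ _ hKH h4 _ hlow (c0 Q s)
  · apply pso_le_D Q hne m
    rw [psoAut_eq']
    exact ⟨s, MonoidHom.mem_ker.mpr hsd, rfl⟩
  · rw [c0_apply, ← map_mul, ← map_mul, hsg]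
  · intro h
    exact hsΩ (mem_omega_of_inn Q h2 hQ hn hneg s h)

/-- when `Inn` has index two in `D`, the split count is one or two -/
theorem count_one_or_two (hne : ∃ v, Q v ≠ 0) (m : ℕ)
    (hidx : (Cfsg.Inn (Cfsg.POmega F (⇑Q : (ι → F) → F))).relIndex
      ((eps Q hne m).ker.map (cHom (⇑Q : (ι → F) → F))) = 2)
    (x : MulAut (Cfsg.POmega F (⇑Q : (ι → F) → F))) :
    Cfsg.splitClassCount ((eps Q hne m).ker.map (cHom (⇑Q : (ι → F) → F)))
      (Cfsg.Inn (Cfsg.POmega F (⇑Q : (ι → F) → F))) x = 1 ∨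
    Cfsg.splitClassCount ((eps Q hne m).ker.map (cHom (⇑Q : (ι → F) → F)))
      (Cfsg.Inn (Cfsg.POmega F (⇑Q : (ι → F) → F))) x = 2 := by
  have hInnN : (Cfsg.Inn (Cfsg.POmega F (⇑Q : (ι → F) → F))).Normal := inn_normal _
  have hKH := inn_le_D Q hne m
  rw [Cfsg.Agent.Lib.Helper16.SC.splitClassCount_eq_relIndex (hK := hInnN) _ _ hKH]
  exact relIndex_one_or_two _ _ hKH hidx _ le_sup_left (sup_le hKH inf_le_left)

end concrete

end Cfsg.Agent.Lib.Helper16.OM
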