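import Mathlib
import Cfsg.Agent.Lib.Helper16.OM34

set_option autoImplicit false
set_option linter.unusedSectionVars false
set_option linter.unusedVariables false

namespace Cfsg.Agent.Lib.Helper16.OM

open Matrix Module Cfsg.Agent.Lib.Lead Cfsg.Agent.Lib.Lead.OA Cfsg.Agent.Lib.Helper16
  Cfsg.Agent.Lib.Helper16.OA Cfsg.Agent.Lib.Helper16.OL Cfsg.Agent.Lib.Helper16.PSC

universe u v

section quadext

variable {F : Type u} [Field F] [Fintype F]

set_option maxHeartbeats 1600000 in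
/-- universality of a binary diagonal form over the quadratic extension `F(√μ)`, in coordinates -/
theorem exists_E_comb (h2 : (2 : F) ≠ 0) (μ : F) (hμ : ¬ IsSquare μ)
    (β₁ q₁ β₂ q₂ : F) (hq₁ : q₁ ≠ 0) (hq₂ : q₂ ≠ 0) :
    ∃ a₁ b₁ a₂ b₂ : F,
      ((a₁ ^ 2 + μ * b₁ ^ 2) * β₁ + 4 * μ * a₁ * b₁ * q₁) +
        ((a₂ ^ 2 + μ * b₂ ^ 2) * β₂ + 4 * μ * a₂ * b₂ * q₂) = 0 ∧
      (a₁ ^ 2 * q₁ + a₁ * b₁ * β₁ + μ * b₁ ^ 2 * q₁) +
        (a₂ ^ 2 * q₂ + a₂ * b₂ * β₂ + μ * b₂ ^ 2 * q₂) ≠ 0 := by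
  have hfact : Fact (∀ r : F, r ^ 2 ≠ μ + 0 * r) := ⟨fun r hr => hμ ⟨r, by
    rw [zero_mul, add_zero] at hr
    rw [← hr, pow_two]⟩⟩
  have : Fintype (QuadraticAlgebra F μ 0) :=
    Fintype.ofEquiv (F × F) (QuadraticAlgebra.equivProd μ 0).symm
  have h2E : (2 : QuadraticAlgebra F μ 0) ≠ 0 := by
    intro h
    have := congrArg QuadraticAlgebra.re h
    rw [QuadraticAlgebra.re_ofNat, QuadraticAlgebra.re_zero] at this
    exact h2 this
  set ω : QuadraticAlgebra F μ 0 := ⟨0, 1⟩ with hω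
  have hω0 : ω ≠ 0 := by
    intro h
    have := congrArg QuadraticAlgebra.im h
    rw [QuadraticAlgebra.im_zero] at this
    exact one_ne_zero this
  set h₁ : QuadraticAlgebra F μ 0 := ⟨β₁, 2 * q₁⟩ with hh₁
  set h₂ : QuadraticAlgebra F μ 0 := ⟨β₂, 2 * q₂⟩ with hh₂
  have hh₁0 : h₁ ≠ 0 := by
    intro h
    have := congrArg QuadraticAlgebra.im h
    rw [QuadraticAlgebra.im_zero] at this
    exact (mul_ne_zero h2 hq₁) this
  have hh₂0 : h₂ ≠ 0 := by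
    intro h
    have := congrArg QuadraticAlgebra.im h
    rw [QuadraticAlgebra.im_zero] at this
    exact (mul_ne_zero h2 hq₂) this
  obtain ⟨s, t, hst⟩ := exists_sq_sum (F := QuadraticAlgebra F μ 0) h2E (a := h₁ * ω⁻¹) (b := h₂ * ω⁻¹)
    (mul_ne_zero hh₁0 (inv_ne_zero hω0)) (mul_ne_zero hh₂0 (inv_ne_zero hω0))
  have hst' : h₁ * s ^ 2 + h₂ * t ^ 2 = ω := by
    have : h₁ * s ^ 2 + h₂ * t ^ 2 = (h₁ * ω⁻¹ * s ^ 2 + h₂ * ω⁻¹ * t ^ 2) * ω := by
      have e1 : (h₁ * ω⁻¹ * s ^ 2 + h₂ * ω⁻¹ * t ^ 2) * ω =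
          (h₁ * s ^ 2 + h₂ * t ^ 2) * (ω⁻¹ * ω) := by ring
      rw [e1, inv_mul_cancel₀ hω0, mul_one]
    rw [this, hst, one_mul]
  refine ⟨s.re, s.im, t.re, t.im, ?_, ?_⟩
  · have := congrArg QuadraticAlgebra.re hst'
    simp only [pow_two, QuadraticAlgebra.re_add, QuadraticAlgebra.re_mul, QuadraticAlgebra.im_mul,
      hh₁, hh₂, hω] at this
    linear_combination this
  · have := congrArg QuadraticAlgebra.im hst'
    simp only [pow_two, QuadraticAlgebra.im_add, QuadraticAlgebra.re_mul, QuadraticAlgebra.im_mul,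
      hh₁, hh₂, hω] at this
    intro h0
    apply one_ne_zero (α := F)
    linear_combination (-1 : F) * this + 2 * h0

end quadext

section findv

variable {ι : Type} [Fintype ι] [DecidableEq ι] {F : Type u} [Field F] [Fintype F]
variable (Q : QuadraticForm F (ι → F))

/-- a skew "square root of a scalar": every vector is orthogonal to its image -/
theorem polar_self_map_of_skew (h2 : (2 : F) ≠ 0) (G : (ι → F) →ₗ[F] (ι → F)) (μ : F) (hμ0 : μ ≠ 0)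
    (hG : ∀ v, Q (G v) = μ * Q v) (hGG : ∀ v, G (G v) = (-μ) • v) (x : ι → F) :
    QuadraticMap.polar (⇑Q) x (G x) = 0 := by
  have hps : ∀ x y, QuadraticMap.polar (⇑Q) (G x) (G y) = μ * QuadraticMap.polar (⇑Q) x y := by
    intro x y
    unfold QuadraticMap.polar
    rw [← map_add, hG, hG, hG]
    ring
  have h1 := hps x (G x)
  rw [hGG, QuadraticMap.polar_smul_right, QuadraticMap.polar_comm (⇑Q) (G x) x, smul_eq_mul] at h1
  have h3 : (2 * μ) * QuadraticMap.polar (⇑Q) x (G x) = 0 := by linear_combination -h1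
  rcases mul_eq_zero.mp h3 with h | h
  · exact absurd h (mul_ne_zero h2 hμ0)
  · exact h

set_option maxHeartbeats 1600000 in
/-- a self-adjoint square root of a nonsquare scalar: some nonsingular vector is orthogonal to
its image -/
theorem exists_perp_image_of_sa (h2 : (2 : F) ≠ 0) (hQ : (QuadraticMap.polarBilin Q).Nondegenerate)
    (hn : 4 ≤ Fintype.card ι) (G : (ι → F) →ₗ[F] (ι → F)) (μ : F) (hμ : ¬ IsSquare μ)
    (hG : ∀ v, Q (G v) = μ * Q v) (hGG : ∀ v, G (G v) = μ • v) :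
    ∃ v, Q v ≠ 0 ∧ QuadraticMap.polar (⇑Q) v (G v) = 0 := by
  have hμ0 : μ ≠ 0 := by
    rintro rfl
    exact hμ ⟨0, by ring⟩
  have hps : ∀ x y, QuadraticMap.polar (⇑Q) (G x) (G y) = μ * QuadraticMap.polar (⇑Q) x y := by
    intro x y
    unfold QuadraticMap.polar
    rw [← map_add, hG, hG, hG]
    ring
  have hsa : ∀ x y, QuadraticMap.polar (⇑Q) (G x) y = QuadraticMap.polar (⇑Q) x (G y) := by
    intro x y
    have h1 := hps x (G y)
    rw [hGG, QuadraticMap.polar_smul_right, smul_eq_mul] at h1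
    exact mul_left_cancel₀ hμ0 h1
  obtain ⟨x₀, hx₀⟩ := exists_ne_zero Q h2 hQ (by omega)
  by_cases hβ : QuadraticMap.polar (⇑Q) x₀ (G x₀) = 0
  · exact ⟨x₀, hx₀, hβ⟩
  obtain ⟨q₁, hq₁⟩ : ∃ q₁, q₁ = Q x₀ := ⟨_, rfl⟩
  obtain ⟨β₁, hβ₁⟩ : ∃ β₁, β₁ = QuadraticMap.polar (⇑Q) x₀ (G x₀) := ⟨_, rfl⟩
  have hq₁0 : q₁ ≠ 0 := by rw [hq₁]; exact hx₀
  obtain ⟨c, hc⟩ : ∃ c, c = β₁ / (2 * q₁) := ⟨_, rfl⟩
  have hcβ : β₁ = 2 * q₁ * c := by
    rw [hc]; field_simp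
  obtain ⟨x₁, hx₁⟩ : ∃ x₁, x₁ = G x₀ - c • x₀ := ⟨_, rfl⟩
  have hQx₁ : Q x₁ = q₁ * (μ - c ^ 2) := by
    rw [hx₁, Q_sub, hG, QuadraticMap.map_smul, QuadraticMap.polar_smul_right,
      QuadraticMap.polar_comm (⇑Q) (G x₀) x₀, ← hβ₁, ← hq₁, hcβ, smul_eq_mul]
    ring
  have hQx₁0 : Q x₁ ≠ 0 := by
    rw [hQx₁]
    apply mul_ne_zero hq₁0
    intro h
    apply hμ
    exact ⟨c, by linear_combination h⟩
  have hpx : QuadraticMap.polar (⇑Q) x₀ x₁ = 0 := by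
    rw [hx₁, QuadraticMap.polar_sub_right, QuadraticMap.polar_smul_right, ← hβ₁,
      QuadraticMap.polar_self, ← hq₁, hcβ, smul_eq_mul, nsmul_eq_mul]
    push_cast
    ring
  obtain ⟨z, hz1, hz2, hz3⟩ := Cfsg.Agent.Lib.Lead.OC.exists_perp_norm h2 Q hQ x₀ x₁ hx₀
    (Or.inr ⟨hQx₁0, hpx⟩) hn 1 one_ne_zero
  have hz4 : QuadraticMap.polar (⇑Q) (G x₀) z = 0 := by
    have : G x₀ = x₁ + c • x₀ := by rw [hx₁]; abel
    rw [this, QuadraticMap.polar_add_left, QuadraticMap.polar_smul_left, hz2, hz3, smul_zero,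
      add_zero]
  obtain ⟨β₂, hβ₂⟩ : ∃ β₂, β₂ = QuadraticMap.polar (⇑Q) z (G z) := ⟨_, rfl⟩
  obtain ⟨a₁, b₁, a₂, b₂, hre, him⟩ := exists_E_comb h2 μ hμ β₁ q₁ β₂ 1 hq₁0 one_ne_zero
  -- the sixteen basic values
  have p11 : QuadraticMap.polar (⇑Q) x₀ x₀ = 2 * q₁ := by
    rw [QuadraticMap.polar_self, ← hq₁, nsmul_eq_mul]; push_cast; ring
  have p12 : QuadraticMap.polar (⇑Q) x₀ (G x₀) = β₁ := hβ₁.symm
  have p21 : QuadraticMap.polar (⇑Q) (G x₀) x₀ = β₁ := by rw [QuadraticMap.polar_comm]; exact p12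
  have p22 : QuadraticMap.polar (⇑Q) (G x₀) (G x₀) = 2 * μ * q₁ := by
    rw [hps, p11]; ring
  have r11 : QuadraticMap.polar (⇑Q) z z = 2 := by
    rw [QuadraticMap.polar_self, hz1, nsmul_eq_mul]; push_cast; ring
  have r12 : QuadraticMap.polar (⇑Q) z (G z) = β₂ := hβ₂.symm
  have r21 : QuadraticMap.polar (⇑Q) (G z) z = β₂ := by rw [QuadraticMap.polar_comm]; exact r12
  have r22 : QuadraticMap.polar (⇑Q) (G z) (G z) = 2 * μ := by
    rw [hps, r11]; ring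
  have c11 : QuadraticMap.polar (⇑Q) x₀ z = 0 := hz2
  have c11' : QuadraticMap.polar (⇑Q) z x₀ = 0 := by rw [QuadraticMap.polar_comm]; exact c11
  have c21 : QuadraticMap.polar (⇑Q) (G x₀) z = 0 := hz4
  have c21' : QuadraticMap.polar (⇑Q) z (G x₀) = 0 := by rw [QuadraticMap.polar_comm]; exact c21
  have c12 : QuadraticMap.polar (⇑Q) x₀ (G z) = 0 := by rw [← hsa]; exact c21
  have c12' : QuadraticMap.polar (⇑Q) (G z) x₀ = 0 := by rw [QuadraticMap.polar_comm]; exact c12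
  have c22 : QuadraticMap.polar (⇑Q) (G x₀) (G z) = 0 := by rw [hps, c11, mul_zero]
  have c22' : QuadraticMap.polar (⇑Q) (G z) (G x₀) = 0 := by rw [QuadraticMap.polar_comm]; exact c22
  obtain ⟨v, hv⟩ : ∃ v, v = a₁ • x₀ + b₁ • G x₀ + (a₂ • z + b₂ • G z) := ⟨_, rfl⟩
  have hGv : G v = a₁ • G x₀ + (b₁ * μ) • x₀ + (a₂ • G z + (b₂ * μ) • z) := by
    rw [hv]
    simp only [map_add, map_smul, hGG, smul_smul]
  have hvGv : QuadraticMap.polar (⇑Q) v (G v) = 0 := by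
    rw [hGv, hv]
    simp only [QuadraticMap.polar_add_left, QuadraticMap.polar_add_right,
      QuadraticMap.polar_smul_left, QuadraticMap.polar_smul_right, smul_eq_mul,
      p11, p12, p21, p22, r11, r12, r21, r22, c11, c11', c21, c21', c12, c12', c22, c22']
    linear_combination hre
  have hvv : QuadraticMap.polar (⇑Q) v v ≠ 0 := by
    rw [hv]
    simp only [QuadraticMap.polar_add_left, QuadraticMap.polar_add_right,
      QuadraticMap.polar_smul_left, QuadraticMap.polar_smul_right, smul_eq_mul,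
      p11, p12, p21, p22, r11, r12, r21, r22, c11, c11', c21, c21', c12, c12', c22, c22']
    intro h0
    apply him
    have h2' : (2 : F) * ((a₁ ^ 2 * q₁ + a₁ * b₁ * β₁ + μ * b₁ ^ 2 * q₁) +
        (a₂ ^ 2 * 1 + a₂ * b₂ * β₂ + μ * b₂ ^ 2 * 1)) = 0 := by
      linear_combination h0
    rcases mul_eq_zero.mp h2' with h | h
    · exact absurd h h2
    · exact h
  refine ⟨v, ?_, hvGv⟩
  intro h0
  apply hvv
  rw [QuadraticMap.polar_self, h0, smul_zero]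

end findv

end Cfsg.Agent.Lib.Helper16.OM
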