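import Mathlib
import Cfsg.Agent.Lib.Helper16.OM35a

set_option autoImplicit false
set_option linter.unusedSectionVars false
set_option linter.unusedVariables false

namespace Cfsg.Agent.Lib.Helper16.OM

open Matrix Module Cfsg.Agent.Lib.Lead Cfsg.Agent.Lib.Lead.OA Cfsg.Agent.Lib.Helper16
  Cfsg.Agent.Lib.Helper16.OA Cfsg.Agent.Lib.Helper16.OL Cfsg.Agent.Lib.Helper16.PSC

universe u v

section comm

variable {ι : Type} [Fintype ι] [DecidableEq ι] {F : Type u} [Field F] [Fintype F]
variable (Q : QuadraticForm F (ι → F))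

theorem reflGO_congr (u w : ι → F) (hu : Q u ≠ 0) (hw : Q w ≠ 0)
    (h : Cfsg.reflectionMatrix (⇑Q : (ι → F) → F) u = Cfsg.reflectionMatrix (⇑Q : (ι → F) → F) w) :
    isoToGO Q (reflG Q u hu) = isoToGO Q (reflG Q w hw) := by
  apply Subtype.ext
  apply Units.ext
  exact h

/-- the product of two reflections with non-square product of norms is special, outside `Ω` -/
theorem refl_pair_props (h2 : (2 : F) ≠ 0) (u w : ι → F) (hu : Q u ≠ 0) (hw : Q w ≠ 0)
    (huw : ¬ IsSquare (Q u * Q w)) :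
    isoDet (⇑Q : (ι → F) → F) (reflG Q u hu * reflG Q w hw) = 1 ∧
      reflG Q u hu * reflG Q w hw ∉ Cfsg.Omega F (⇑Q : (ι → F) → F) := by
  constructor
  · rw [map_mul, isoDet_reflG, isoDet_reflG]; simp
  · intro hmem
    obtain ⟨χ, κ, hχ⟩ := spin_char_formula h2 Q
    have h6 := omega_le_ker (⇑Q) χ hmem
    rw [MonoidHom.mem_ker, map_mul, hχ, hχ] at h6
    have h7 : sqSign (Q u) * sqSign (Q w) = -1 := by
      rw [← sqSign_mul hu hw]
      exact sqSign_of_not huw
    have h8 : κ * sqSign (Q u) * (κ * sqSign (Q w)) = -1 := by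
      have hk : κ * κ = 1 := Int.units_mul_self κ
      rw [mul_mul_mul_comm, hk, one_mul, h7]
    rw [h8] at h6
    exact absurd h6 (by decide)

/-- a similarity commutes with the reflection in an eigenvector -/
theorem comm_of_eigen (g : ↥(GOq Q)) (u : ι → F) (hu : Q u ≠ 0) (a : F)
    (hgu : ((g : GL ι F) : Matrix ι ι F) *ᵥ u = a • u) :
    isoToGO Q (reflG Q u hu) * g = g * isoToGO Q (reflG Q u hu) := by
  have hu' := Q_sim_ne Q g u hu
  have ha : a ≠ 0 := by
    rintro rfl
    rw [hgu, zero_smul] at hu'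
    exact hu' (QuadraticMap.map_zero _)
  have h1 := conj_reflGO Q g u hu hu'
  have h2 : isoToGO Q (reflG Q _ hu') = isoToGO Q (reflG Q u hu) := by
    apply reflGO_congr
    rw [hgu, refl_smul Q u a ha hu]
  rw [h2] at h1
  calc isoToGO Q (reflG Q u hu) * g = (g * isoToGO Q (reflG Q u hu) * g⁻¹) * g := by rw [h1]
    _ = g * isoToGO Q (reflG Q u hu) := by group

/-- a similarity squaring to a scalar commutes with `r_v r_{gv}` when `v ⊥ gv` -/
theorem comm_of_perp (g : ↥(GOq Q)) (v : ι → F) (hv : Q v ≠ 0) (lam : F)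
    (hgg : ((g : GL ι F) : Matrix ι ι F) *ᵥ (((g : GL ι F) : Matrix ι ι F) *ᵥ v) = lam • v)
    (hp : QuadraticMap.polar (⇑Q) v (((g : GL ι F) : Matrix ι ι F) *ᵥ v) = 0)
    (hv' : Q (((g : GL ι F) : Matrix ι ι F) *ᵥ v) ≠ 0) :
    isoToGO Q (reflG Q v hv * reflG Q _ hv') * g = g * isoToGO Q (reflG Q v hv * reflG Q _ hv') := by
  have hv'' := Q_sim_ne Q g _ hv'
  have hl : lam ≠ 0 := by
    rintro rfl
    rw [hgg, zero_smul] at hv''
    exact hv'' (QuadraticMap.map_zero _)
  have h1 := conj_reflGO Q g v hv hv'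
  have h2 := conj_reflGO Q g _ hv' hv''
  have h3 : isoToGO Q (reflG Q _ hv'') = isoToGO Q (reflG Q v hv) := by
    apply reflGO_congr
    rw [hgg, refl_smul Q v lam hl hv]
  rw [h3] at h2
  have h4 : isoToGO Q (reflG Q v hv) * isoToGO Q (reflG Q _ hv') =
      isoToGO Q (reflG Q _ hv') * isoToGO Q (reflG Q v hv) := by
    apply Subtype.ext
    apply Units.ext
    exact refl_comm_of_perp Q v _ hp
  rw [map_mul]
  set A := isoToGO Q (reflG Q v hv) with hA
  set B := isoToGO Q (reflG Q _ hv') with hB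
  have h5 : g * (A * B) * g⁻¹ = A * B := by
    calc g * (A * B) * g⁻¹ = (g * A * g⁻¹) * (g * B * g⁻¹) := by group
      _ = B * A := by rw [h1, h2]
      _ = A * B := h4.symm
  calc A * B * g = (g * (A * B) * g⁻¹) * g := by rw [h5]
    _ = g * (A * B) := by group

end comm

end Cfsg.Agent.Lib.Helper16.OM
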