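import Mathlib
import Cfsg.Agent.Lib.Helper16.OM35b

set_option autoImplicit false
set_option linter.unusedSectionVars false
set_option linter.unusedVariables false

namespace Cfsg.Agent.Lib.Helper16.OM

open Matrix Module Cfsg.Agent.Lib.Lead Cfsg.Agent.Lib.Lead.OA Cfsg.Agent.Lib.Helper16
  Cfsg.Agent.Lib.Helper16.OA Cfsg.Agent.Lib.Helper16.OL Cfsg.Agent.Lib.Helper16.PSC

universe u v

section linalg

variable {F : Type u} [Field F] {V : Type v} [AddCommGroup V] [Module F V]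

/-- the eigenspace of `G` for the eigenvalue `a` -/
def eigS (G : V →ₗ[F] V) (a : F) : Submodule F V := LinearMap.ker (G - a • LinearMap.id)

theorem mem_eigS (G : V →ₗ[F] V) (a : F) (x : V) : x ∈ eigS G a ↔ G x = a • x := by
  unfold eigS
  rw [LinearMap.mem_ker, LinearMap.sub_apply, LinearMap.smul_apply, LinearMap.id_apply, sub_eq_zero]

/-- a square root of `a²` is diagonalisable with eigenvalues `±a` -/
theorem eigS_sup (h2 : (2 : F) ≠ 0) (G : V →ₗ[F] V) (a : F) (ha : a ≠ 0)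
    (hGG : ∀ v, G (G v) = (a * a) • v) : eigS G a ⊔ eigS G (-a) = ⊤ := by
  rw [eq_top_iff]
  intro x _
  have h2a : (2 * a) ≠ 0 := mul_ne_zero h2 ha
  have h1 : G x + a • x ∈ eigS G a := by
    rw [mem_eigS, map_add, map_smul, hGG, smul_add, mul_smul]
    abel
  have h3 : a • x - G x ∈ eigS G (-a) := by
    rw [mem_eigS, map_sub, map_smul, hGG, smul_sub, neg_smul, neg_smul, mul_smul]
    abel
  have h4 : x = (2 * a)⁻¹ • (G x + a • x) + (2 * a)⁻¹ • (a • x - G x) := by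
    rw [← smul_add]
    have : G x + a • x + (a • x - G x) = (2 * a) • x := by
      rw [mul_smul, two_smul]; abel
    rw [this, smul_smul, inv_mul_cancel₀ h2a, one_smul]
  rw [h4]
  exact Submodule.add_mem _ (Submodule.mem_sup_left (Submodule.smul_mem _ _ h1))
    (Submodule.mem_sup_right (Submodule.smul_mem _ _ h3))

end linalg

section eigen

variable {ι : Type} [Fintype ι] [DecidableEq ι] {F : Type u} [Field F] [Fintype F]
variable (Q : QuadraticForm F (ι → F))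

theorem eigS_perp (h2 : (2 : F) ≠ 0) (G : (ι → F) →ₗ[F] (ι → F)) (a : F) (ha : a ≠ 0)
    (hG : ∀ v, Q (G v) = (a * a) * Q v) (u w : ι → F) (hu : G u = a • u) (hw : G w = (-a) • w) :
    QuadraticMap.polar (⇑Q) u w = 0 := by
  have hps : QuadraticMap.polar (⇑Q) (G u) (G w) = (a * a) * QuadraticMap.polar (⇑Q) u w := by
    unfold QuadraticMap.polar
    rw [← map_add, hG, hG, hG]
    ring
  rw [hu, hw, QuadraticMap.polar_smul_left, QuadraticMap.polar_smul_right, smul_eq_mul,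
    smul_eq_mul] at hps
  have h3 : (2 * (a * a)) * QuadraticMap.polar (⇑Q) u w = 0 := by linear_combination -hps
  rcases mul_eq_zero.mp h3 with h | h
  · exact absurd h (mul_ne_zero h2 (mul_ne_zero ha ha))
  · exact h

set_option maxHeartbeats 1600000 in
/-- an eigenspace of dimension at least two represents every nonzero scalar -/
theorem exists_eigen_norm (h2 : (2 : F) ≠ 0) (hQ : (QuadraticMap.polarBilin Q).Nondegenerate)
    (G : (ι → F) →ₗ[F] (ι → F)) (a : F) (ha : a ≠ 0)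
    (hG : ∀ v, Q (G v) = (a * a) * Q v) (hGG : ∀ v, G (G v) = (a * a) • v)
    (hfr : 2 ≤ finrank F ↥(eigS G a)) (d : F) (hd : d ≠ 0) :
    ∃ u, G u = a • u ∧ Q u = d := by
  set Bf : LinearMap.BilinForm F (ι → F) := QuadraticMap.polarBilin Q with hBf
  have hBf_apply : ∀ x y, Bf x y = QuadraticMap.polar ⇑Q x y := fun x y => rfl
  have hS : ∀ x y, Bf x y = Bf y x := fun x y => by
    rw [hBf_apply, hBf_apply, QuadraticMap.polar_comm]
  have hrad : eigS G a ⊓ Bf.orthogonal (eigS G a) = ⊥ := by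
    rw [eq_bot_iff]
    rintro x ⟨hxW, hxO⟩
    rw [Submodule.mem_bot]
    apply hQ.1 x
    intro y
    have hy : y ∈ eigS G a ⊔ eigS G (-a) := by
      rw [eigS_sup h2 G a ha hGG]; exact Submodule.mem_top
    obtain ⟨y₁, hy₁, y₂, hy₂, rfl⟩ := Submodule.mem_sup.mp hy
    rw [map_add]
    have e1 : Bf x y₁ = 0 := by
      rw [hS]
      exact (LinearMap.BilinForm.mem_orthogonal_iff.mp hxO) y₁ hy₁
    have e2 : Bf x y₂ = 0 := by
      rw [hBf_apply]
      exact eigS_perp Q h2 G a ha hG x y₂ ((mem_eigS G a x).mp hxW) ((mem_eigS G (-a) y₂).mp hy₂)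
    show Bf x y₁ + Bf x y₂ = 0
    rw [e1, e2, add_zero]
  have hdim : finrank F ↥(eigS G a ⊓ Bf.orthogonal (eigS G a)) + 2 ≤ finrank F ↥(eigS G a) := by
    rw [hrad, finrank_bot]; omega
  obtain ⟨z, hzW, hz⟩ := Cfsg.Agent.Lib.Lead.SU1.exists_in_subspace h2 Bf hS (eigS G a) hdim (2 * d)
    (mul_ne_zero h2 hd)
  refine ⟨z, (mem_eigS G a z).mp hzW, ?_⟩
  rw [hBf_apply, QuadraticMap.polar_self, nsmul_eq_mul] at hz
  push_cast at hz
  exact mul_left_cancel₀ h2 hz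

set_option maxHeartbeats 1600000 in
/-- case: the similarity is `ν` times an involutory isometry -/
theorem exists_s_of_sq_pos (h2 : (2 : F) ≠ 0) (hQ : (QuadraticMap.polarBilin Q).Nondegenerate)
    (hn : 4 ≤ Fintype.card ι) (g : ↥(GOq Q)) (ν : F) (hν : ν ≠ 0)
    (hμ : ((mult Q g : Fˣ) : F) = ν * ν)
    (hgg : ((g : GL ι F) : Matrix ι ι F) * ((g : GL ι F) : Matrix ι ι F) =
      (ν * ν) • (1 : Matrix ι ι F)) :
    ∃ s : ↥(Cfsg.isometryGroup F (⇑Q : (ι → F) → F)),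
      isoDet (⇑Q : (ι → F) → F) s = 1 ∧ s ∉ Cfsg.Omega F (⇑Q : (ι → F) → F) ∧
      isoToGO Q s * g = g * isoToGO Q s := by
  set G : (ι → F) →ₗ[F] (ι → F) := Matrix.toLin' ((g : GL ι F) : Matrix ι ι F) with hGdef
  have hGv : ∀ v, G v = ((g : GL ι F) : Matrix ι ι F) *ᵥ v := fun v => Matrix.toLin'_apply _ v
  have hG : ∀ v, Q (G v) = (ν * ν) * Q v := by
    intro v
    rw [hGv, mult_spec, hμ]
  have hGG : ∀ v, G (G v) = (ν * ν) • v := by
    intro v
    rw [hGv, hGv, Matrix.mulVec_mulVec, hgg, Matrix.smul_mulVec, Matrix.one_mulVec]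
  have hG' : ∀ v, Q (G v) = (-ν * -ν) * Q v := by
    intro v; rw [hG]; ring
  have hGG' : ∀ v, G (G v) = (-ν * -ν) • v := by
    intro v; rw [hGG]; congr 1; ring
  obtain ⟨δ, hδ0, hδ⟩ := Cfsg.Agent.Lib.Lead.OI.exists_nonsquare (F := F) h2
  have hsum : Fintype.card ι ≤ finrank F ↥(eigS G ν) + finrank F ↥(eigS G (-ν)) := by
    have h1 := Submodule.finrank_sup_add_finrank_inf_eq (eigS G ν) (eigS G (-ν))
    rw [eigS_sup h2 G ν hν hGG, finrank_top, Module.finrank_fintype_fun_eq_card] at h1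
    omega
  -- a pair of eigenvectors with prescribed norms
  have key : ∃ (a : F) (u w : ι → F), G u = a • u ∧ G w = a • w ∧ Q u = 1 ∧ Q w = δ := by
    by_cases hfr : 2 ≤ finrank F ↥(eigS G ν)
    · obtain ⟨u, hu1, hu2⟩ := exists_eigen_norm Q h2 hQ G ν hν hG hGG hfr 1 one_ne_zero
      obtain ⟨w, hw1, hw2⟩ := exists_eigen_norm Q h2 hQ G ν hν hG hGG hfr δ hδ0
      exact ⟨ν, u, w, hu1, hw1, hu2, hw2⟩
    · have hfr' : 2 ≤ finrank F ↥(eigS G (-ν)) := by omega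
      obtain ⟨u, hu1, hu2⟩ := exists_eigen_norm Q h2 hQ G (-ν) (neg_ne_zero.mpr hν) hG' hGG' hfr' 1
        one_ne_zero
      obtain ⟨w, hw1, hw2⟩ := exists_eigen_norm Q h2 hQ G (-ν) (neg_ne_zero.mpr hν) hG' hGG' hfr' δ
        hδ0
      exact ⟨-ν, u, w, hu1, hw1, hu2, hw2⟩
  obtain ⟨a, u, w, hu1, hw1, hu2, hw2⟩ := key
  have hu0 : Q u ≠ 0 := by rw [hu2]; exact one_ne_zero
  have hw0 : Q w ≠ 0 := by rw [hw2]; exact hδ0
  have hns : ¬ IsSquare (Q u * Q w) := by rw [hu2, hw2, one_mul]; exact hδ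
  obtain ⟨hd, hΩ⟩ := refl_pair_props Q h2 u w hu0 hw0 hns
  refine ⟨reflG Q u hu0 * reflG Q w hw0, hd, hΩ, ?_⟩
  rw [hGv] at hu1 hw1
  have c1 := comm_of_eigen Q g u hu0 a hu1
  have c2 := comm_of_eigen Q g w hw0 a hw1
  rw [map_mul, mul_assoc, c2, ← mul_assoc, c1, mul_assoc]

set_option maxHeartbeats 1600000 in
/-- case: the multiplier is not a square -/
theorem exists_s_of_nonsq (h2 : (2 : F) ≠ 0) (hQ : (QuadraticMap.polarBilin Q).Nondegenerate)
    (hn : 4 ≤ Fintype.card ι) (g : ↥(GOq Q)) (lam : F)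
    (hμ : ¬ IsSquare ((mult Q g : Fˣ) : F))
    (hgg : ((g : GL ι F) : Matrix ι ι F) * ((g : GL ι F) : Matrix ι ι F) =
      lam • (1 : Matrix ι ι F)) :
    ∃ s : ↥(Cfsg.isometryGroup F (⇑Q : (ι → F) → F)),
      isoDet (⇑Q : (ι → F) → F) s = 1 ∧ s ∉ Cfsg.Omega F (⇑Q : (ι → F) → F) ∧
      isoToGO Q s * g = g * isoToGO Q s := by
  set G : (ι → F) →ₗ[F] (ι → F) := Matrix.toLin' ((g : GL ι F) : Matrix ι ι F) with hGdef
  have hGv : ∀ v, G v = ((g : GL ι F) : Matrix ι ι F) *ᵥ v := fun v => Matrix.toLin'_apply _ v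
  obtain ⟨μ, hμdef⟩ : ∃ μ : F, μ = ((mult Q g : Fˣ) : F) := ⟨_, rfl⟩
  rw [← hμdef] at hμ
  have hμ0 : μ ≠ 0 := by rw [hμdef]; exact Units.ne_zero _
  have hG : ∀ v, Q (G v) = μ * Q v := by
    intro v
    rw [hGv, mult_spec, hμdef]
  have hGG : ∀ v, G (G v) = lam • v := by
    intro v
    rw [hGv, hGv, Matrix.mulVec_mulVec, hgg, Matrix.smul_mulVec, Matrix.one_mulVec]
  obtain ⟨x₀, hx₀⟩ := exists_ne_zero Q h2 hQ (by omega)
  have hll : (lam - μ) * (lam + μ) = 0 := by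
    have h1 : Q (G (G x₀)) = μ * (μ * Q x₀) := by rw [hG, hG]
    rw [hGG, QuadraticMap.map_smul, smul_eq_mul] at h1
    have h3 : (lam * lam - μ * μ) * Q x₀ = 0 := by linear_combination h1
    rcases mul_eq_zero.mp h3 with h | h
    · linear_combination h
    · exact absurd h hx₀
  have key : ∃ v, Q v ≠ 0 ∧ QuadraticMap.polar (⇑Q) v (G v) = 0 := by
    rcases mul_eq_zero.mp hll with h | h
    · have hl : lam = μ := by linear_combination h
      rw [hl] at hGG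
      exact exists_perp_image_of_sa Q h2 hQ hn G μ hμ hG hGG
    · have hl : lam = -μ := by linear_combination h
      rw [hl] at hGG
      exact ⟨x₀, hx₀, polar_self_map_of_skew Q h2 G μ hμ0 hG hGG x₀⟩
  obtain ⟨v, hv, hp⟩ := key
  have hv' := Q_sim_ne Q g v hv
  have hns : ¬ IsSquare (Q v * Q (((g : GL ι F) : Matrix ι ι F) *ᵥ v)) := by
    rw [mult_spec, ← hμdef]
    rintro ⟨r, hr⟩
    apply hμ
    refine ⟨r / Q v, ?_⟩
    field_simp
    linear_combination hr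
  obtain ⟨hd, hΩ⟩ := refl_pair_props Q h2 v _ hv hv' hns
  refine ⟨reflG Q v hv * reflG Q _ hv', hd, hΩ, ?_⟩
  rw [hGv] at hp
  have hgg' := hGG v
  rw [hGv, hGv] at hgg'
  exact comm_of_perp Q g v hv lam hgg' hp hv'

end eigen

end Cfsg.Agent.Lib.Helper16.OM
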