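import Mathlib
import Cfsg.Agent.Lib.Helper16.OM36

set_option autoImplicit false
set_option linter.unusedSectionVars false
set_option linter.unusedVariables false

namespace Cfsg.Agent.Lib.Helper16.OM

open Matrix Module Cfsg.Agent.Lib.Lead Cfsg.Agent.Lib.Lead.OA Cfsg.Agent.Lib.Helper16
  Cfsg.Agent.Lib.Helper16.OA Cfsg.Agent.Lib.Helper16.OL Cfsg.Agent.Lib.Helper16.PSC

universe u v

section linalg2

variable {F : Type u} [Field F] {V : Type v} [AddCommGroup V] [Module F V] [FiniteDimensional F V]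

/-- a space carrying a square root of `-ν²` has even dimension when `-1` is not a square -/
theorem even_finrank_of_sq_neg (T : V →ₗ[F] V) (ν : F) (hν : ν ≠ 0)
    (hT : ∀ v, T (T v) = (-(ν * ν)) • v) (hneg : ¬ IsSquare (-1 : F)) : Even (finrank F V) := by
  by_contra hodd
  rw [Nat.not_even_iff_odd] at hodd
  have h1 : T * T = (-(ν * ν)) • (1 : V →ₗ[F] V) := by
    apply LinearMap.ext
    intro v
    rw [Module.End.mul_apply, hT, LinearMap.smul_apply, Module.End.one_apply]
  have h3 := congrArg LinearMap.det h1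
  rw [map_mul, LinearMap.det_smul, map_one, mul_one] at h3
  apply hneg
  refine ⟨LinearMap.det T / ν ^ finrank F V, ?_⟩
  have hνp : ν ^ finrank F V ≠ 0 := pow_ne_zero _ hν
  have h4 : (-(ν * ν)) ^ finrank F V = -(ν ^ finrank F V * ν ^ finrank F V) := by
    rw [neg_pow, hodd.neg_one_pow, mul_pow]; ring
  rw [h4] at h3
  field_simp
  linear_combination -h3

end linalg2

section skew

variable {ι : Type} [Fintype ι] [DecidableEq ι] {F : Type u} [Field F] [Fintype F]
variable (Q : QuadraticForm F (ι → F))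

set_option maxHeartbeats 1600000 in
/-- a similarity with square multiplier `ν²` squaring to `-ν²` preserves the two classes -/
theorem eps_one_of_sq_neg (h2 : (2 : F) ≠ 0) (hQ : (QuadraticMap.polarBilin Q).Nondegenerate)
    (m : ℕ) (hcard : Fintype.card ι = 2 * m) (hne : ∃ v, Q v ≠ 0)
    (E : Submodule F (ι → F)) (hE : Cfsg.Geo.IsTotallySingularQuad (⇑Q) E)
    (hEn : finrank F ↥E = m) (hm4 : ¬ IsSquare (-1 : F) → Even m)
    (g : ↥(GOq Q)) (ν : F) (hν : ν ≠ 0) (hμ : ((mult Q g : Fˣ) : F) = ν * ν)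
    (hgg : ((g : GL ι F) : Matrix ι ι F) * ((g : GL ι F) : Matrix ι ι F) =
      (-(ν * ν)) • (1 : Matrix ι ι F)) :
    eps Q hne m g = 1 := by
  rw [eps_eq_one_iff]
  set G : (ι → F) →ₗ[F] (ι → F) := Matrix.toLin' ((g : GL ι F) : Matrix ι ι F) with hGdef
  have hGv : ∀ v, G v = ((g : GL ι F) : Matrix ι ι F) *ᵥ v := fun v => Matrix.toLin'_apply _ v
  have hg : ∀ v, Q (((g : GL ι F) : Matrix ι ι F) *ᵥ v) = ((mult Q g : Fˣ) : F) * Q v :=
    mult_spec Q g
  have hG : ∀ v, Q (G v) = (ν * ν) * Q v := by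
    intro v
    rw [hGv, mult_spec, hμ]
  have hGG : ∀ v, G (G v) = (-(ν * ν)) • v := by
    intro v
    rw [hGv, hGv, Matrix.mulVec_mulVec, hgg, Matrix.smul_mulVec, Matrix.one_mulVec]
  by_cases hsq : IsSquare (-1 : F)
  · -- `-1 = i²`: the eigenspace for `iν` is a stable maximal totally singular subspace
    obtain ⟨i, hi⟩ := hsq
    set a : F := i * ν with ha
    have haa : a * a = -(ν * ν) := by rw [ha]; linear_combination (ν * ν) * hi.symm
    have ha0 : a ≠ 0 := by
      intro h
      rw [h, mul_zero] at haa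
      exact (mul_ne_zero hν hν) (neg_eq_zero.mp haa.symm)
    have hGG' : ∀ v, G (G v) = (a * a) • v := by intro v; rw [hGG, haa]
    have hTS : ∀ b : F, b * b = -(ν * ν) → Cfsg.Geo.IsTotallySingularQuad (⇑Q) (eigS G b) := by
      intro b hb x hx
      rw [mem_eigS] at hx
      have h1 := hG x
      rw [hx, QuadraticMap.map_smul, smul_eq_mul, hb] at h1
      have h3 : (2 * (ν * ν)) * Q x = 0 := by linear_combination -h1
      rcases mul_eq_zero.mp h3 with h | h
      · exact absurd h (mul_ne_zero h2 (mul_ne_zero hν hν))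
      · exact h
    have hU := hTS a haa
    have hU' := hTS (-a) (by rw [neg_mul_neg, haa])
    have hle := ts_finrank_le Q hQ m hcard hU
    have hle' := ts_finrank_le Q hQ m hcard hU'
    have hsum : Fintype.card ι ≤ finrank F ↥(eigS G a) + finrank F ↥(eigS G (-a)) := by
      have h1 := Submodule.finrank_sup_add_finrank_inf_eq (eigS G a) (eigS G (-a))
      rw [eigS_sup h2 G a ha0 hGG', finrank_top, Module.finrank_fintype_fun_eq_card] at h1
      omega
    have hfr : finrank F ↥(eigS G a) = m := by omega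
    apply det_of_stab Q hQ m hcard hU hfr _ _ hg
    intro u hu
    rw [mem_eigS] at hu
    rw [← hGv, hu]
    exact Submodule.smul_mem _ _ ((mem_eigS G a u).mpr hu)
  · -- `-1` is not a square: the intersection `E ⊓ gE` has even dimension
    have hmE := hm4 hsq
    set W : Submodule F (ι → F) := E ⊓ E.map G with hW
    have hWst : ∀ w ∈ W, G w ∈ W := by
      rintro w ⟨hw1, ⟨e, he, rfl⟩⟩
      refine ⟨?_, ⟨G e, hw1, rfl⟩⟩
      rw [hGG]
      exact Submodule.smul_mem _ _ he
    have hWle : W ≤ W.comap G := fun w hw => hWst w hw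
    set T : ↥W →ₗ[F] ↥W := G.restrict hWle with hT
    have hTT : ∀ w : ↥W, T (T w) = (-(ν * ν)) • w := by
      intro w
      apply Subtype.ext
      rw [hT, LinearMap.coe_restrict_apply, LinearMap.coe_restrict_apply, hGG]
      rfl
    have hev := even_finrank_of_sq_neg T ν hν hTT hsq
    have hdle : finrank F ↥W ≤ m := by
      rw [← hEn]
      exact Submodule.finrank_mono inf_le_left
    have hμ0 : ((mult Q g : Fˣ) : F) ≠ 0 := Units.ne_zero _
    have h1 := det_sim Q hQ m hcard hE hEn _ hμ0 (m - finrank F ↥W) _ hg rfl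
    have hev2 : Even (m - finrank F ↥W) := by
      rcases hmE with ⟨k, hk⟩
      rcases hev with ⟨l, hl⟩
      exact ⟨k - l, by omega⟩
    rw [h1, hev2.neg_one_pow, one_mul]

end skew

end Cfsg.Agent.Lib.Helper16.OM
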