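import Mathlib
import Cfsg.Agent.Lib.Helper16.OM37

set_option autoImplicit false
set_option linter.unusedSectionVars false
set_option linter.unusedVariables false

namespace Cfsg.Agent.Lib.Helper16.OM

open Matrix Module Cfsg.Agent.Lib.Lead Cfsg.Agent.Lib.Lead.OA Cfsg.Agent.Lib.Helper16
  Cfsg.Agent.Lib.Helper16.OA Cfsg.Agent.Lib.Helper16.OL Cfsg.Agent.Lib.Helper16.PSC
  Cfsg.Agent.Lib.Lead.OAP

universe u v

section generic

variable {ι : Type} [Fintype ι] [DecidableEq ι] {F : Type u} [Field F] [Fintype F]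
variable (Q : QuadraticForm F (ι → F))

set_option maxHeartbeats 1600000 in
/-- the split count of an involutory automorphism induced by a class-swapping similarity -/
theorem count_graph_inv (h2 : (2 : F) ≠ 0) (hQ : (QuadraticMap.polarBilin Q).Nondegenerate)
    (hn : 7 ≤ Fintype.card ι) (m : ℕ) (hcard : Fintype.card ι = 2 * m)
    (hne : ∃ v, Q v ≠ 0)
    (E : Submodule F (ι → F)) (hE : Cfsg.Geo.IsTotallySingularQuad (⇑Q) E)
    (hEn : finrank F ↥E = m) (hm4 : ¬ IsSquare (-1 : F) → Even m)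
    (g₁ : ↥(GOq Q))
    (hg₁ : ¬ IsSquare (mult Q g₁ : F)) (hg₁e : eps Q hne m g₁ = 1)
    (hneg : ∃ g : ↥(Cfsg.isometryGroup F (⇑Q : (ι → F) → F)),
      g ∈ Cfsg.Omega F (⇑Q : (ι → F) → F) ∧ ((g : GL ι F) : Matrix ι ι F) = -1)
    (g : ↥(GOq Q)) (hg : eps Q hne m g ≠ 1)
    (hg2 : cHom (⇑Q : (ι → F) → F) g * cHom (⇑Q : (ι → F) → F) g = 1) :
    Cfsg.splitClassCount ((eps Q hne m).ker.map (cHom (⇑Q : (ι → F) → F)))
      (Cfsg.Inn (Cfsg.POmega F (⇑Q : (ι → F) → F))) (cHom (⇑Q : (ι → F) → F) g) = 2 := by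
  have hn4 : 4 ≤ Fintype.card ι := by omega
  rw [← map_mul] at hg2
  obtain ⟨d, hd⟩ := cHom_ker_scalar Q hQ hn (g * g) hg2
  have hgg : ((g : GL ι F) : Matrix ι ι F) * ((g : GL ι F) : Matrix ι ι F) =
      d • (1 : Matrix ι ι F) := hd
  suffices hs : ∃ s : ↥(Cfsg.isometryGroup F (⇑Q : (ι → F) → F)),
      isoDet (⇑Q : (ι → F) → F) s = 1 ∧ s ∉ Cfsg.Omega F (⇑Q : (ι → F) → F) ∧
      isoToGO Q s * g = g * isoToGO Q s by
    obtain ⟨s, hsd, hsΩ, hsg⟩ := hs
    exact count_two_of_exists Q h2 hQ hn4 m hcard hne g₁ hg₁ hg₁e hneg g hg s hsd hsΩ hsg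
  by_cases hsq : IsSquare ((mult Q g : Fˣ) : F)
  · obtain ⟨ν, hν⟩ := hsq
    have hμ0 : ((mult Q g : Fˣ) : F) ≠ 0 := Units.ne_zero _
    have hν0 : ν ≠ 0 := by
      rintro rfl
      rw [mul_zero] at hν
      exact hμ0 hν
    obtain ⟨x₀, hx₀⟩ := hne
    have hne : ∃ v, Q v ≠ 0 := ⟨x₀, hx₀⟩
    have hdd : (d - ν * ν) * (d + ν * ν) = 0 := by
      have h1 : Q (((g : GL ι F) : Matrix ι ι F) *ᵥ (((g : GL ι F) : Matrix ι ι F) *ᵥ x₀)) =
          (ν * ν) * ((ν * ν) * Q x₀) := by rw [mult_spec, mult_spec, hν]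
      rw [Matrix.mulVec_mulVec, hgg, Matrix.smul_mulVec, Matrix.one_mulVec,
        QuadraticMap.map_smul, smul_eq_mul] at h1
      have h3 : (d * d - (ν * ν) * (ν * ν)) * Q x₀ = 0 := by linear_combination h1
      rcases mul_eq_zero.mp h3 with h | h
      · linear_combination h
      · exact absurd h hx₀
    rcases mul_eq_zero.mp hdd with h | h
    · have hdν : d = ν * ν := by linear_combination h
      rw [hdν] at hgg
      exact exists_s_of_sq_pos Q h2 hQ hn4 g ν hν0 hν hgg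
    · have hdν : d = -(ν * ν) := by linear_combination h
      rw [hdν] at hgg
      exact absurd (eps_one_of_sq_neg Q h2 hQ m hcard hne E hE hEn hm4 g ν hν0 hν hgg) hg
  · exact exists_s_of_nonsq Q h2 hQ hn4 g d hsq hgg

end generic

section plus

variable {F : Type u} [Field F] [Fintype F] {m : ℕ}

set_option maxHeartbeats 4000000 in
theorem S2718_aux (hodd : Odd (Fintype.card F)) (hm : 4 ≤ m)
    (γ : MulAut (Cfsg.POmega F (Cfsg.quadFormPlus m F)))
    (hγ : Cfsg.IsSimilarityGraphAutPOmegaPlus m γ) (hγ2 : orderOf γ = 2) :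
    (Cfsg.splitClassCount (Cfsg.inndiagPOmegaPlus m F)
        (Cfsg.Inn (Cfsg.POmega F (Cfsg.quadFormPlus m F))) γ = 1 ∨
      Cfsg.splitClassCount (Cfsg.inndiagPOmegaPlus m F)
        (Cfsg.Inn (Cfsg.POmega F (Cfsg.quadFormPlus m F))) γ = 2) ∧
    (¬ (Odd m ∧ Fintype.card F % 4 = 3) →
      Cfsg.splitClassCount (Cfsg.inndiagPOmegaPlus m F)
        (Cfsg.Inn (Cfsg.POmega F (Cfsg.quadFormPlus m F))) γ = 2) := by
  have h2 := two_ne_zero_of_odd hodd
  have hQ := qfPlus_nondeg m F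
  have hcard := card_plus (m := m)
  have hn : 4 ≤ Fintype.card (Fin m ⊕ Fin m) := by rw [hcard]; omega
  have hn7 : 7 ≤ Fintype.card (Fin m ⊕ Fin m) := by rw [hcard]; omega
  have hne := exists_ne_zero (qfPlus m F) h2 hQ (by omega)
  obtain ⟨δ, hδ0, hδ⟩ := Cfsg.Agent.Lib.Lead.OI.exists_nonsquare (F := F) h2
  set c : Fˣ := Units.mk0 δ hδ0 with hc
  set g₁ : ↥(GOq (qfPlus m F)) := ⟨dPlus c, dPlus_mem c⟩ with hg₁def
  have hg₁ : ¬ IsSquare ((mult (qfPlus m F) g₁ : Fˣ) : F) := by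
    rw [hg₁def, mult_dPlus hne]; exact hδ
  have hg₁e : eps (qfPlus m F) hne m g₁ = 1 := eps_dPlus hne c
  have hiff := Cfsg.Agent.S0790.result (F := F) rfl hodd m (by omega)
  have hq : Fintype.card F % 2 = 1 := Nat.odd_iff.mp hodd
  have har := pow_mod_four_iff (Fintype.card F) m hq
  -- decode the automorphism
  obtain ⟨g, hgmem, hnpsc, hind⟩ := hγ
  have hγeq : γ = cHom (⇑(qfPlus m F)) ⟨g, hgmem⟩ :=
    (induced_iff (⇑(qfPlus m F)) g hgmem γ).mp hind
  set gG : ↥(GOq (qfPlus m F)) := ⟨g, hgmem⟩ with hgG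
  have hge : eps (qfPlus m F) hne m gG ≠ 1 := by
    intro h
    apply hnpsc
    exact (psc_iff_eps (qfPlus m F) h2 hQ m hcard hne (EPlus m F) EPlus_TS EPlus_finrank gG).mpr h
  have hγγ : γ * γ = 1 := by
    have := pow_orderOf_eq_one γ
    rwa [hγ2, pow_two] at this
  rw [inndiagPlus_eq h2 hne]
  by_cases hcase : Odd m ∧ Fintype.card F % 4 = 3
  · have hno : ¬ ∃ g : ↥(Cfsg.isometryGroup F (Cfsg.quadFormPlus m F)),
        g ∈ Cfsg.Omega F (Cfsg.quadFormPlus m F) ∧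
        ((g : Matrix.GeneralLinearGroup (Fin m ⊕ Fin m) F) :
          Matrix (Fin m ⊕ Fin m) (Fin m ⊕ Fin m) F) = -1 :=
      fun hneg => (har.mp (hiff.mp hneg)) hcase
    obtain ⟨φ, hφs, hφk⟩ := inndiag_C2 (qfPlus m F) h2 hQ hn m hcard hne g₁ hg₁ hg₁e hno
    have hidx : (Cfsg.Inn (Cfsg.POmega F (⇑(qfPlus m F)))).relIndex
        ((eps (qfPlus m F) hne m).ker.map (cHom (⇑(qfPlus m F)))) = 2 := by
      show ((Cfsg.Inn (Cfsg.POmega F (⇑(qfPlus m F)))).subgroupOf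
        ((eps (qfPlus m F) hne m).ker.map (cHom (⇑(qfPlus m F))))).index = 2
      rw [← hφk, Subgroup.index_ker, MonoidHom.range_eq_top.mpr hφs, Subgroup.card_top]
      simp
    exact ⟨count_one_or_two (qfPlus m F) hne m hidx γ, fun h => absurd hcase h⟩
  · have hneg := hiff.mpr (har.mpr hcase)
    have hm4 : ¬ IsSquare (-1 : F) → Even m := by
      intro hsq
      rw [FiniteField.isSquare_neg_one_iff, not_not] at hsq
      by_contra hev
      rw [Nat.not_even_iff_odd] at hev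
      exact hcase ⟨hev, hsq⟩
    have hcount : Cfsg.splitClassCount ((eps (qfPlus m F) hne m).ker.map (cHom (⇑(qfPlus m F))))
        (Cfsg.Inn (Cfsg.POmega F (⇑(qfPlus m F)))) γ = 2 := by
      rw [hγeq]
      rw [hγeq] at hγγ
      exact count_graph_inv (qfPlus m F) h2 hQ hn7 m hcard hne (EPlus m F) EPlus_TS EPlus_finrank hm4
        g₁ hg₁ hg₁e hneg gG hge hγγ
    exact ⟨Or.inr hcount, fun _ => hcount⟩

end plus

end Cfsg.Agent.Lib.Helper16.OM
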