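import Mathlib
import Cfsg.Agent.Lib.Helper16.OM38

set_option autoImplicit false
set_option linter.unusedSectionVars false
set_option linter.unusedVariables false

namespace Cfsg.Agent.Lib.Helper16.OM

open Matrix Module Polynomial

universe u v

section charp

variable {ι : Type} [Fintype ι] [DecidableEq ι] {F : Type u} [Field F]

/-- the characteristic polynomials of `M` and `-M`, for a square root of a scalar -/
theorem charpoly_mul_charpoly_neg (M : Matrix ι ι F) (c : F) (hM : M * M = c • (1 : Matrix ι ι F)) :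
    M.charpoly * (-M).charpoly = (X ^ 2 - C c) ^ Fintype.card ι := by
  unfold Matrix.charpoly
  rw [← Matrix.det_mul]
  have h1 : charmatrix M * charmatrix (-M) =
      Matrix.scalar ι ((X : F[X]) ^ 2 - C c) := by
    unfold charmatrix
    rw [map_neg, sub_neg_eq_add]
    have hcomm : Matrix.scalar ι (X : F[X]) * (C : F →+* F[X]).mapMatrix M =
        (C : F →+* F[X]).mapMatrix M * Matrix.scalar ι (X : F[X]) :=
      (Matrix.scalar_commute (X : F[X]) (fun r => Commute.all _ _) _).eq
    have h2 : (Matrix.scalar ι (X : F[X]) - (C : F →+* F[X]).mapMatrix M) *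
        (Matrix.scalar ι (X : F[X]) + (C : F →+* F[X]).mapMatrix M) =
        Matrix.scalar ι (X : F[X]) * Matrix.scalar ι (X : F[X]) -
          (C : F →+* F[X]).mapMatrix M * (C : F →+* F[X]).mapMatrix M := by
      rw [sub_mul, mul_add, mul_add, hcomm]
      abel
    rw [h2, ← map_mul, ← map_mul, hM, map_sub]
    congr 1
    · rw [pow_two]
    · ext i j
      simp [Matrix.scalar_apply, Matrix.diagonal_apply, Matrix.one_apply]
      split_ifs <;> simp
  rw [h1, Matrix.scalar_apply, Matrix.det_diagonal, Finset.prod_const, Finset.card_univ]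

/-- the determinant of a square root of a non-square scalar -/
theorem det_of_sq_nonsquare (M : Matrix ι ι F) (c : F) (hc : ¬ IsSquare c)
    (hM : M * M = c • (1 : Matrix ι ι F)) :
    ∃ k : ℕ, Fintype.card ι = 2 * k ∧ M.det = (-c) ^ k := by
  have hprod := charpoly_mul_charpoly_neg M c hM
  have hmonic : (X ^ 2 - C c : F[X]).Monic := monic_X_pow_sub_C c (by norm_num)
  have hdeg : (X ^ 2 - C c : F[X]).natDegree = 2 := natDegree_X_pow_sub_C
  have hirr : Irreducible (X ^ 2 - C c : F[X]) := by
    rw [Polynomial.Monic.irreducible_iff_roots_eq_zero_of_degree_le_three hmonic (by omega)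
      (by omega)]
    rw [Multiset.eq_zero_iff_forall_notMem]
    intro r hr
    rw [Polynomial.mem_roots hmonic.ne_zero, IsRoot.def, eval_sub, eval_pow, eval_X, eval_C] at hr
    apply hc
    exact ⟨r, by linear_combination -hr⟩
  have hprime : Prime (X ^ 2 - C c : F[X]) := hirr.prime
  have hdvd : M.charpoly ∣ (X ^ 2 - C c) ^ Fintype.card ι := Dvd.intro _ hprod
  obtain ⟨k, hk, hassoc⟩ := (dvd_prime_pow hprime _).mp hdvd
  have heq : M.charpoly = (X ^ 2 - C c) ^ k :=
    eq_of_monic_of_associated (Matrix.charpoly_monic M) (hmonic.pow k) hassoc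
  have hnd := congrArg natDegree heq
  rw [Matrix.charpoly_natDegree_eq_dim, natDegree_pow, hdeg] at hnd
  refine ⟨k, by omega, ?_⟩
  rw [Matrix.det_eq_sign_charpoly_coeff, heq, hnd, coeff_zero_eq_eval_zero, eval_pow, eval_sub,
    eval_pow, eval_X, eval_C]
  have : ((-1 : F)) ^ (k * 2) = 1 := by rw [mul_comm, pow_mul, neg_one_sq, one_pow]
  rw [this, one_mul]
  congr 1
  ring

/-- the determinant of a square root of `ν²` conjugate to its negative -/
theorem det_of_sq_conj_neg (h2 : (2 : F) ≠ 0) (M : Matrix ι ι F) (ν : F) (hM : M * M = (ν * ν) • (1 : Matrix ι ι F))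
    (k : ℕ) (hk : Fintype.card ι = 2 * k) (hconj : (-M).charpoly = M.charpoly) :
    M.det = (-(ν * ν)) ^ k := by
  have hprod := charpoly_mul_charpoly_neg M (ν * ν) hM
  rw [hconj, hk, pow_mul'] at hprod
  have h1 : (M.charpoly - (X ^ 2 - C (ν * ν)) ^ k) * (M.charpoly + (X ^ 2 - C (ν * ν)) ^ k) = 0 := by
    linear_combination hprod
  have hmonic : (X ^ 2 - C (ν * ν) : F[X]).Monic := monic_X_pow_sub_C _ (by norm_num)
  have heq : M.charpoly = (X ^ 2 - C (ν * ν)) ^ k := by
    rcases mul_eq_zero.mp h1 with h | h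
    · exact sub_eq_zero.mp h
    · exfalso
      have h2' : M.charpoly = -((X ^ 2 - C (ν * ν)) ^ k) := by linear_combination h
      have h3 := congrArg leadingCoeff h2'
      rw [(Matrix.charpoly_monic M).leadingCoeff, leadingCoeff_neg, (hmonic.pow k).leadingCoeff] at h3
      exact h2 (by linear_combination h3)
  rw [Matrix.det_eq_sign_charpoly_coeff, heq, hk, coeff_zero_eq_eval_zero, eval_pow, eval_sub,
    eval_pow, eval_X, eval_C]
  have : ((-1 : F)) ^ (2 * k) = 1 := by rw [pow_mul, neg_one_sq, one_pow]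
  rw [this, one_mul]
  congr 1
  ring

end charp

end Cfsg.Agent.Lib.Helper16.OM
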