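import Mathlib
import Cfsg.Agent.Lib.Helper16.OM39

set_option autoImplicit false
set_option linter.unusedSectionVars false
set_option linter.unusedVariables false

namespace Cfsg.Agent.Lib.Helper16.OM

open Matrix Module Cfsg.Agent.Lib.Lead Cfsg.Agent.Lib.Lead.OA Cfsg.Agent.Lib.Helper16
  Cfsg.Agent.Lib.Helper16.OA Cfsg.Agent.Lib.Helper16.OL Cfsg.Agent.Lib.Helper16.PSC

universe u v

section tricho

variable {ι : Type} [Fintype ι] [DecidableEq ι] {F : Type u} [Field F] [Fintype F]
variable (Q : QuadraticForm F (ι → F))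

/-- a similarity with multiplier `-κ²` squaring to `κ²` forces two complementary totally singular
subspaces, impossible when the Witt index is small -/
theorem false_of_ts_eigen (h2 : (2 : F) ≠ 0) (w : ℕ) (hw : 2 * w < Fintype.card ι)
    (hW : ∀ U : Submodule F (ι → F), (∀ u ∈ U, Q u = 0) → finrank F ↥U ≤ w)
    (M : Matrix ι ι F) (κ : F) (hκ : κ ≠ 0)
    (hMQ : ∀ v, Q (M *ᵥ v) = (-(κ * κ)) * Q v)
    (hMM : M * M = (κ * κ) • (1 : Matrix ι ι F)) : False := by
  set G : (ι → F) →ₗ[F] (ι → F) := Matrix.toLin' M with hGdef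
  have hGv : ∀ v, G v = M *ᵥ v := fun v => Matrix.toLin'_apply _ v
  have hGG : ∀ v, G (G v) = (κ * κ) • v := by
    intro v
    rw [hGv, hGv, Matrix.mulVec_mulVec, hMM, Matrix.smul_mulVec, Matrix.one_mulVec]
  have hTS : ∀ b : F, b * b = κ * κ → ∀ x ∈ eigS G b, Q x = 0 := by
    intro b hb x hx
    rw [mem_eigS] at hx
    have h1 := hMQ x
    rw [← hGv, hx, QuadraticMap.map_smul, smul_eq_mul, hb] at h1
    have h3 : (2 * (κ * κ)) * Q x = 0 := by linear_combination h1
    rcases mul_eq_zero.mp h3 with h | h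
    · exact absurd h (mul_ne_zero h2 (mul_ne_zero hκ hκ))
    · exact h
  have hle := hW _ (hTS κ rfl)
  have hle' := hW _ (hTS (-κ) (by ring))
  have h1 := Submodule.finrank_sup_add_finrank_inf_eq (eigS G κ) (eigS G (-κ))
  rw [eigS_sup h2 G κ hκ hGG, finrank_top, Module.finrank_fintype_fun_eq_card] at h1
  omega

set_option maxHeartbeats 1600000 in
/-- the possible shapes of a class-swapping similarity squaring to a scalar, small Witt index -/
theorem graph_inv_shape (h2 : (2 : F) ≠ 0) (n : ℕ) (hcard : Fintype.card ι = 2 * n)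
    (hne : ∃ v, Q v ≠ 0) (w : ℕ) (hw : w < n)
    (hW : ∀ U : Submodule F (ι → F), (∀ u ∈ U, Q u = 0) → finrank F ↥U ≤ w)
    (g : ↥(GOq Q)) (hg : eps Q hne n g ≠ 1) (lam : F)
    (hgg : ((g : GL ι F) : Matrix ι ι F) * ((g : GL ι F) : Matrix ι ι F) =
      lam • (1 : Matrix ι ι F)) :
    (¬ IsSquare ((mult Q g : Fˣ) : F) ∧ Odd n) ∨
      (∃ ν : F, ν ≠ 0 ∧ ((mult Q g : Fˣ) : F) = ν * ν ∧ lam = ν * ν) := by
  obtain ⟨μ, hμdef⟩ : ∃ μ : F, μ = ((mult Q g : Fˣ) : F) := ⟨_, rfl⟩
  rw [← hμdef]
  have hμ0 : μ ≠ 0 := by rw [hμdef]; exact Units.ne_zero _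
  have hgQ : ∀ v, Q (((g : GL ι F) : Matrix ι ι F) *ᵥ v) = μ * Q v := by
    intro v; rw [mult_spec, hμdef]
  have hw2 : 2 * w < Fintype.card ι := by omega
  rw [Ne, eps_eq_one_iff, ← hμdef] at hg
  obtain ⟨x₀, hx₀⟩ := hne
  have hll : (lam - μ) * (lam + μ) = 0 := by
    have h1 : Q (((g : GL ι F) : Matrix ι ι F) *ᵥ (((g : GL ι F) : Matrix ι ι F) *ᵥ x₀)) =
        μ * (μ * Q x₀) := by rw [hgQ, hgQ]
    rw [Matrix.mulVec_mulVec, hgg, Matrix.smul_mulVec, Matrix.one_mulVec,
      QuadraticMap.map_smul, smul_eq_mul] at h1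
    have h3 : (lam * lam - μ * μ) * Q x₀ = 0 := by linear_combination h1
    rcases mul_eq_zero.mp h3 with h | h
    · linear_combination h
    · exact absurd h hx₀
  -- the determinant from a non-square `lam`
  have hdet : ¬ IsSquare lam → ((g : GL ι F) : Matrix ι ι F).det = (-lam) ^ n := by
    intro hl
    obtain ⟨k, hk, hd⟩ := det_of_sq_nonsquare _ lam hl hgg
    have : k = n := by omega
    rw [hd, this]
  by_cases hsq : IsSquare μ
  · right
    obtain ⟨ν, hν⟩ := hsq
    have hν0 : ν ≠ 0 := by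
      rintro rfl
      rw [mul_zero] at hν
      exact hμ0 hν
    refine ⟨ν, hν0, hν, ?_⟩
    rcases mul_eq_zero.mp hll with h | h
    · rw [← hν]; linear_combination h
    · exfalso
      have hl : lam = -(ν * ν) := by rw [← hν]; linear_combination h
      by_cases hm1 : IsSquare (-1 : F)
      · obtain ⟨i, hi⟩ := hm1
        have hκ : (i * ν) * (i * ν) = lam := by
          rw [hl]; linear_combination (ν * ν) * hi.symm
        apply false_of_ts_eigen Q h2 w hw2 hW _ (i * ν)
          (mul_ne_zero (by rintro rfl; rw [mul_zero] at hi; exact one_ne_zero (neg_eq_zero.mp hi))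
            hν0)
        · intro v
          rw [hgQ, hκ, hl, neg_neg, hν]
        · rw [hκ]; exact hgg
      · have hl' : ¬ IsSquare lam := by
          rintro ⟨r, hr⟩
          apply hm1
          refine ⟨r / ν, ?_⟩
          field_simp
          rw [hl] at hr
          linear_combination hr
        apply hg
        rw [hdet hl', hl, neg_neg, hν]
  · left
    refine ⟨hsq, ?_⟩
    rcases mul_eq_zero.mp hll with h | h
    · have hl : lam = μ := by linear_combination h
      have hd := hdet (by rw [hl]; exact hsq)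
      rw [hl] at hd
      by_contra hodd
      rw [Nat.not_odd_iff_even] at hodd
      apply hg
      rw [hd, neg_pow, hodd.neg_one_pow, one_mul]
    · exfalso
      have hl : lam = -μ := by linear_combination h
      by_cases hm1 : IsSquare (-μ)
      · obtain ⟨κ, hκ⟩ := hm1
        have hκ0 : κ ≠ 0 := by
          rintro rfl
          rw [mul_zero] at hκ
          exact hμ0 (neg_eq_zero.mp hκ)
        apply false_of_ts_eigen Q h2 w hw2 hW _ κ hκ0
        · intro v
          rw [hgQ, ← hκ, neg_neg]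
        · rw [← hκ, ← hl]; exact hgg
      · apply hg
        rw [hdet (by rw [hl]; exact hm1), hl, neg_neg]

end tricho

end Cfsg.Agent.Lib.Helper16.OM
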