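import Mathlib
import Cfsg.Agent.Lib.Helper16.OM40

set_option autoImplicit false
set_option linter.unusedSectionVars false
set_option linter.unusedVariables false

namespace Cfsg.Agent.Lib.Helper16.OM

open Matrix Module Cfsg.Agent.Lib.Lead Cfsg.Agent.Lib.Lead.OA Cfsg.Agent.Lib.Helper16
  Cfsg.Agent.Lib.Helper16.OA Cfsg.Agent.Lib.Helper16.OL Cfsg.Agent.Lib.Helper16.PSC

universe u v

section chiconj

variable {ι : Type} [Fintype ι] [DecidableEq ι] {F : Type u} [Field F] [Fintype F]
variable (Q : QuadraticForm F (ι → F))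

/-- the spinor character of a conjugate by a similarity -/
theorem chi_conj_list (χ : ↥(Cfsg.isometryGroup F (⇑Q : (ι → F) → F)) →* ℤˣ) (κ : ℤˣ)
    (hχ : ∀ (v : ι → F) (hv : Q v ≠ 0), χ (reflG Q v hv) = κ * sqSign (Q v))
    (d : ↥(GOq Q)) (ws : List (ι → F)) (hws : ∀ v ∈ ws, Q v ≠ 0) :
    ∃ s' : ↥(Cfsg.isometryGroup F (⇑Q : (ι → F) → F)),
      isoToGO Q s' = d * isoToGO Q (ws.map (reflG' Q)).prod * d⁻¹ ∧
      χ s' = sqSign ((mult Q d : Fˣ) : F) ^ ws.length * χ (ws.map (reflG' Q)).prod := by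
  induction ws with
  | nil =>
    refine ⟨1, ?_, ?_⟩
    · simp
    · simp
  | cons v ws ih =>
    have hv := hws v List.mem_cons_self
    have hws' : ∀ w ∈ ws, Q w ≠ 0 := fun w hw => hws w (List.mem_cons_of_mem _ hw)
    obtain ⟨s'', h1, h2⟩ := ih hws'
    have hv' := Q_sim_ne Q d v hv
    refine ⟨reflG Q _ hv' * s'', ?_, ?_⟩
    · rw [map_mul, h1, ← conj_reflGO Q d v hv hv', List.map_cons, List.prod_cons, map_mul,
        reflG'_eq Q v hv]
      group
    · rw [map_mul, h2, hχ, mult_spec, sqSign_mul (Units.ne_zero _) hv, List.map_cons,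
        List.prod_cons, map_mul, reflG'_eq Q v hv, hχ, List.length_cons, pow_succ]
      ac_rfl

set_option maxHeartbeats 1600000 in
/-- in even half-dimension, no similarity with non-square multiplier centralises (modulo scalars)
a class-swapping scalar multiple of an involution -/
theorem no_comm_of_even (h2 : (2 : F) ≠ 0) (hQ : (QuadraticMap.polarBilin Q).Nondegenerate)
    (hn : 7 ≤ Fintype.card ι) (n : ℕ) (hn_even : Even n) (hcard : Fintype.card ι = 2 * n)
    (hne : ∃ v, Q v ≠ 0) (g : ↥(GOq Q)) (hg : eps Q hne n g ≠ 1) (ν : F) (hν0 : ν ≠ 0)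
    (hμ : ((mult Q g : Fˣ) : F) = ν * ν)
    (hgg : ((g : GL ι F) : Matrix ι ι F) * ((g : GL ι F) : Matrix ι ι F) =
      (ν * ν) • (1 : Matrix ι ι F))
    (d : ↥(GOq Q)) (hd : ¬ IsSquare ((mult Q d : Fˣ) : F))
    (hcomm : cHom (⇑Q : (ι → F) → F) d * cHom (⇑Q : (ι → F) → F) g =
      cHom (⇑Q : (ι → F) → F) g * cHom (⇑Q : (ι → F) → F) d) : False := by
  have hker : cHom (⇑Q : (ι → F) → F) (d * g * d⁻¹ * g⁻¹) = 1 := by
    rw [map_mul, map_mul, map_mul, map_inv, map_inv, hcomm]
    group
  obtain ⟨z, hz⟩ := cHom_ker_scalar Q hQ hn _ hker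
  set gm := ((g : GL ι F) : Matrix ι ι F) with hgm
  set dm := ((d : GL ι F) : Matrix ι ι F) with hdm
  set gi := (((g : GL ι F)⁻¹ : GL ι F) : Matrix ι ι F) with hgi
  set di := (((d : GL ι F)⁻¹ : GL ι F) : Matrix ι ι F) with hdi
  have hz' : dm * gm * di * gi = z • (1 : Matrix ι ι F) := hz
  have hgig : gi * gm = 1 := by
    rw [hgi, hgm, ← Units.val_mul, inv_mul_cancel, Units.val_one]
  have hdid : di * dm = 1 := by
    rw [hdi, hdm, ← Units.val_mul, inv_mul_cancel, Units.val_one]
  have hddi : dm * di = 1 := by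
    rw [hdi, hdm, ← Units.val_mul, mul_inv_cancel, Units.val_one]
  have hconj : dm * gm * di = z • gm := by
    have := congrArg (fun A => A * gm) hz'
    simp only [Matrix.mul_assoc, hgig, Matrix.mul_one, Matrix.smul_mul, Matrix.one_mul] at this
    rw [Matrix.mul_assoc]
    exact this
  -- `z² = 1`
  have hzz : z * z = 1 := by
    have h1 : (dm * gm * di) * (dm * gm * di) = (ν * ν) • (1 : Matrix ι ι F) := by
      have : (dm * gm * di) * (dm * gm * di) = dm * (gm * ((di * dm) * gm)) * di := by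
        simp only [Matrix.mul_assoc]
      rw [this, hdid, Matrix.one_mul, hgg, Matrix.mul_smul, Matrix.smul_mul, Matrix.mul_one, hddi]
    rw [hconj, Matrix.smul_mul, Matrix.mul_smul, hgg, smul_smul, smul_smul] at h1
    have hpos : 0 < Fintype.card ι := by omega
    obtain ⟨i⟩ := Fintype.card_pos_iff.mp hpos
    have h3 := congrFun (congrFun h1 i) i
    rw [Matrix.smul_apply, Matrix.smul_apply, Matrix.one_apply_eq, smul_eq_mul, smul_eq_mul,
      mul_one, mul_one] at h3
    have h4 : (z * z - 1) * (ν * ν) = 0 := by linear_combination h3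
    rcases mul_eq_zero.mp h4 with h | h
    · linear_combination h
    · exact absurd h (mul_ne_zero hν0 hν0)
  have hz1 : z = 1 ∨ z = -1 := by
    have : (z - 1) * (z + 1) = 0 := by linear_combination hzz
    rcases mul_eq_zero.mp this with h | h
    · left; linear_combination h
    · right; linear_combination h
  have hgeps := eps_eq_neg_one Q hQ hne n hcard g hg
  rcases hz1 with rfl | rfl
  · -- commuting case: spinor character
    rw [one_smul] at hconj
    have hdg : d * g * d⁻¹ = g := by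
      apply Subtype.ext
      apply Units.ext
      exact hconj
    obtain ⟨z', s, hgs⟩ := iso_of_sq Q hne g ⟨ν, hμ⟩
    have hsdet : isoDet (⇑Q : (ι → F) → F) s = -1 := by
      rw [← eps_scal_mul Q hne n hcard z' s, ← hgs]; exact hgeps
    have hds : d * isoToGO Q s * d⁻¹ = isoToGO Q s := by
      have hsc : ∀ x : ↥(GOq Q), x * scalGO Q z' = scalGO Q z' * x := by
        intro x
        apply Subtype.ext
        apply Units.ext
        show ((x : GL ι F) : Matrix ι ι F) * ((scalGO Q z' : GL ι F) : Matrix ι ι F) =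
          ((scalGO Q z' : GL ι F) : Matrix ι ι F) * ((x : GL ι F) : Matrix ι ι F)
        rw [scalGO_coe, Matrix.mul_smul, Matrix.smul_mul, Matrix.mul_one, Matrix.one_mul]
      have h1 : isoToGO Q s = (scalGO Q z')⁻¹ * g := by rw [hgs]; group
      rw [h1]
      have h3 : d * ((scalGO Q z')⁻¹ * g) * d⁻¹ = (scalGO Q z')⁻¹ * (d * g * d⁻¹) := by
        have h4 : d * (scalGO Q z')⁻¹ = (scalGO Q z')⁻¹ * d := by
          have := hsc d
          calc d * (scalGO Q z')⁻¹ = (scalGO Q z')⁻¹ * (scalGO Q z' * d) * (scalGO Q z')⁻¹ := by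
                group
            _ = (scalGO Q z')⁻¹ * (d * scalGO Q z') * (scalGO Q z')⁻¹ := by rw [this]
            _ = (scalGO Q z')⁻¹ * d := by group
        calc d * ((scalGO Q z')⁻¹ * g) * d⁻¹ = (d * (scalGO Q z')⁻¹) * g * d⁻¹ := by group
          _ = (scalGO Q z')⁻¹ * d * g * d⁻¹ := by rw [h4]
          _ = (scalGO Q z')⁻¹ * (d * g * d⁻¹) := by group
      rw [h3, hdg]
    obtain ⟨χ, κ, hχ⟩ := spin_char_formula h2 Q
    obtain ⟨ws, hws, rfl⟩ := exists_list' Q h2 hQ s
    obtain ⟨s', hs'1, hs'2⟩ := chi_conj_list Q χ κ hχ d ws hws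
    rw [hds] at hs'1
    have hs'eq : s' = (ws.map (reflG' Q)).prod := by
      apply iso_ext'
      have := congrArg (fun x : ↥(GOq Q) => ((x : GL ι F) : Matrix ι ι F)) hs'1
      exact this
    rw [hs'eq] at hs'2
    rw [isoDet_prod Q ws hws] at hsdet
    have hodd : Odd ws.length := by
      by_contra hev
      rw [Nat.not_odd_iff_even] at hev
      rw [hev.neg_one_pow] at hsdet
      exact neg_one_ne_one h2 hsdet.symm
    rw [sqSign_of_not hd, hodd.neg_one_pow] at hs'2
    have h5 : χ (ws.map (reflG' Q)).prod = 1 ∨ χ (ws.map (reflG' Q)).prod = -1 :=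
      Int.units_eq_one_or _
    rcases h5 with h | h <;> rw [h] at hs'2 <;> exact absurd hs'2 (by decide)
  · -- anticommuting case: determinant
    have hcp : (-gm).charpoly = gm.charpoly := by
      have h1 : -gm = dm * gm * di := by
        rw [hconj, neg_smul, one_smul]
      rw [h1]
      have := Matrix.charpoly_units_conj (d : GL ι F) gm
      rw [← this]
      congr 1
      rw [hdi]
      rw [Matrix.coe_units_inv]
    have hdet := det_of_sq_conj_neg h2 gm ν hgg n hcard hcp
    apply hg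
    rw [eps_eq_one_iff, hdet, hμ, neg_pow, hn_even.neg_one_pow, one_mul]

end chiconj

end Cfsg.Agent.Lib.Helper16.OM
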