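import Mathlib
import Cfsg.Agent.Lib.Helper16.OM41

set_option autoImplicit false
set_option linter.unusedSectionVars false
set_option linter.unusedVariables false

namespace Cfsg.Agent.Lib.Helper16.OM

open Matrix Module Cfsg.Agent.Lib.Lead Cfsg.Agent.Lib.Lead.OA Cfsg.Agent.Lib.Helper16
  Cfsg.Agent.Lib.Helper16.OA Cfsg.Agent.Lib.Helper16.OL Cfsg.Agent.Lib.Helper16.PSC

universe u v

section fixedfield

variable {F : Type u} [Field F] [Fintype F]

/-- the fixed field of an involutory automorphism of a finite field -/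
theorem exists_fixed_field (σ : RingAut F) (hord : orderOf σ = 2) :
    ∃ (F₀ : Type u) (_ : Field F₀) (_ : Fintype F₀) (j : F₀ →+* F),
      Fintype.card F = Fintype.card F₀ ^ 2 ∧ ∀ x, (∃ y, j y = x) ↔ σ x = x := by
  obtain ⟨p, _, f, hp, hF⟩ := FiniteField.card' F
  have : Fact p.Prime := ⟨hp⟩
  have hF' : Fintype.card F = p ^ (f : ℕ) := hF
  obtain ⟨-, hcardG⟩ := Cfsg.Agent.Lib.Helper16.AP.galF_cyclic_card hF'
  have h2f : 2 ∣ (f : ℕ) := by
    have := orderOf_dvd_natCard (σ : RingAut F)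
    rwa [hord, hcardG] at this
  have hF2 : Fintype.card F = (p ^ ((f : ℕ) / 2)) ^ 2 := by
    rw [hF', ← pow_mul, Nat.div_mul_cancel h2f]
  have hcard' := Cfsg.Agent.Lib.Helper16.fixed_card Nat.prime_two hF2 σ hord
  have : Fintype ↥(FixedPoints.subfield (Subgroup.zpowers σ) F) := Fintype.ofFinite _
  refine ⟨↥(FixedPoints.subfield (Subgroup.zpowers σ) F), inferInstance, inferInstance,
    (FixedPoints.subfield (Subgroup.zpowers σ) F).subtype, ?_, ?_⟩
  · rw [← Nat.card_eq_fintype_card (α := ↥(FixedPoints.subfield (Subgroup.zpowers σ) F)), hcard']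
    exact hF2
  · intro x
    constructor
    · rintro ⟨y, rfl⟩
      exact (Cfsg.Agent.Lib.Helper16.mem_fixed_iff σ _).mp y.2
    · intro hx
      exact ⟨⟨x, (Cfsg.Agent.Lib.Helper16.mem_fixed_iff σ x).mpr hx⟩, rfl⟩

/-- the norm trick: the relations forced by an involutory semisimilarity make the discriminant a
square -/
theorem isSquare_of_semi_relations (h2 : (2 : F) ≠ 0) (σ : RingAut F) (hord : orderOf σ = 2)
    (Δ D c d : F) (n : ℕ) (hΔ : Δ ≠ 0) (hc : c ≠ 0)
    (h1 : D ^ 2 * Δ = c ^ (2 * n) * σ Δ) (h3 : D * σ D = d ^ (2 * n)) (h4 : d ^ 2 = c * σ c) :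
    IsSquare Δ := by
  obtain ⟨F₀, _, _, j, hcard, hj⟩ := exists_fixed_field σ hord
  have hcn : c ^ n ≠ 0 := pow_ne_zero _ hc
  have hσc : σ c ≠ 0 := by
    intro h
    apply hc
    have := congrArg σ.symm h
    rwa [RingEquiv.symm_apply_apply, map_zero] at this
  have hσcn : σ c ^ n ≠ 0 := pow_ne_zero _ hσc
  have hD0 : D ≠ 0 := by
    rintro rfl
    rw [zero_mul] at h3
    have hd0 : d = 0 := by
      by_contra hd
      exact (pow_ne_zero (2 * n) hd) h3.symm
    rw [hd0] at h4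
    have : c * σ c = 0 := by rw [← h4]; ring
    exact (mul_ne_zero hc hσc) this
  set y : F := D * Δ / c ^ n with hy
  have hy2 : y * y = Δ * σ Δ := by
    have e2 : c ^ (2 * n) = c ^ n * c ^ n := by rw [two_mul, pow_add]
    rw [e2] at h1
    have : y * y = D ^ 2 * Δ * Δ / (c ^ n * c ^ n) := by
      rw [hy]; field_simp
    rw [this, h1]
    field_simp
  have hσy : σ y = y := by
    rw [hy, map_div₀, map_mul, map_pow]
    have e1 : d ^ (2 * n) = (c ^ n) * (σ c ^ n) := by
      rw [pow_mul, h4, mul_pow]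
    have e2 : c ^ (2 * n) = c ^ n * c ^ n := by rw [two_mul, pow_add]
    rw [e1] at h3
    rw [e2] at h1
    field_simp
    -- σ D * σ Δ * c^n = D * Δ * σ c ^ n
    have hσΔ : σ Δ = D ^ 2 * Δ / (c ^ n * c ^ n) := by
      field_simp
      linear_combination -h1
    have hσD : σ D = c ^ n * σ c ^ n / D := by
      field_simp
      linear_combination h3
    rw [hσΔ, hσD]
    field_simp
  obtain ⟨ν, hν⟩ := (hj y).mpr hσy
  apply isSquare_of_norm_sq j h2 hcard σ hord hj Δ hΔ ν
  rw [map_mul, hν, hy2]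

end fixedfield

section gram

variable {ι : Type} [Fintype ι] [DecidableEq ι] {F : Type u} [Field F]
variable (Q : QuadraticForm F (ι → F))

/-- the Gram matrix of the polar form -/
noncomputable def gramQ : Matrix ι ι F :=
  LinearMap.BilinForm.toMatrix' (QuadraticMap.polarBilin Q)

theorem gramQ_apply (i j : ι) :
    gramQ Q i j = QuadraticMap.polar (⇑Q) (Pi.single i 1) (Pi.single j 1) := by
  unfold gramQ
  rw [LinearMap.BilinForm.toMatrix'_apply]
  rfl

theorem polar_semisim (g : Matrix ι ι F) (σ : F ≃+* F) (c : F)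
    (hc : ∀ v : ι → F, Q (g *ᵥ (fun i => σ (v i))) = c * σ (Q v)) (x y : ι → F) :
    QuadraticMap.polar (⇑Q) (g *ᵥ (fun i => σ (x i))) (g *ᵥ (fun i => σ (y i))) =
      c * σ (QuadraticMap.polar (⇑Q) x y) := by
  unfold QuadraticMap.polar
  have h1 : g *ᵥ (fun i => σ (x i)) + g *ᵥ (fun i => σ (y i)) =
      g *ᵥ (fun i => σ ((x + y) i)) := by
    rw [← Matrix.mulVec_add]
    congr 1
    funext i
    simp only [Pi.add_apply, map_add]
  rw [h1, hc, hc, hc, map_sub, map_sub]
  ring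

theorem gram_semisim (g : Matrix ι ι F) (σ : F ≃+* F) (c : F)
    (hc : ∀ v : ι → F, Q (g *ᵥ (fun i => σ (v i))) = c * σ (Q v)) :
    gᵀ * gramQ Q * g = c • (gramQ Q).map σ := by
  have h1 := LinearMap.BilinForm.toMatrix'_comp (QuadraticMap.polarBilin Q) (Matrix.toLin' g)
    (Matrix.toLin' g)
  rw [LinearMap.toMatrix'_toLin'] at h1
  unfold gramQ
  rw [← h1]
  ext i j
  rw [LinearMap.BilinForm.toMatrix'_apply, LinearMap.BilinForm.comp_apply, Matrix.toLin'_apply,
    Matrix.toLin'_apply, Matrix.smul_apply, Matrix.map_apply, LinearMap.BilinForm.toMatrix'_apply,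
    smul_eq_mul]
  have hs : ∀ k : ι, (fun l => σ ((Pi.single k 1 : ι → F) l)) = Pi.single k 1 := by
    intro k
    funext l
    by_cases h : l = k
    · rw [h, Pi.single_eq_same, map_one]
    · rw [Pi.single_eq_of_ne h, map_zero]
  have := polar_semisim Q g σ c hc (Pi.single i 1) (Pi.single j 1)
  rw [hs, hs] at this
  exact this

theorem gram_det_semisim (g : Matrix ι ι F) (σ : F ≃+* F) (c : F)
    (hc : ∀ v : ι → F, Q (g *ᵥ (fun i => σ (v i))) = c * σ (Q v)) :
    g.det ^ 2 * (gramQ Q).det = c ^ Fintype.card ι * σ (gramQ Q).det := by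
  have h1 := congrArg Matrix.det (gram_semisim Q g σ c hc)
  rw [Matrix.det_mul, Matrix.det_mul, Matrix.det_transpose, Matrix.det_smul] at h1
  have h3 : ((gramQ Q).map σ).det = σ (gramQ Q).det := by
    have := RingHom.map_det (σ : F →+* F) (gramQ Q)
    rw [RingHom.mapMatrix_apply] at this
    exact this.symm
  rw [h3] at h1
  linear_combination h1

end gram

section involsemi

variable {ι : Type} [Fintype ι] [DecidableEq ι] {F : Type u} [Field F] [Fintype F]
variable (Q : QuadraticForm F (ι → F))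

set_option maxHeartbeats 1600000 in
/-- an involutory (modulo scalars) semisimilarity with a field automorphism of order two forces a
square discriminant -/
theorem gram_isSquare_of_invol_semisim (h2 : (2 : F) ≠ 0) (hne : ∃ v, Q v ≠ 0) (n : ℕ)
    (hcard : Fintype.card ι = 2 * n) (hΔ : (gramQ Q).det ≠ 0) (g : Matrix ι ι F)
    (σ : RingAut F) (hord : orderOf σ = 2) (c : F) (hc0 : c ≠ 0)
    (hc : ∀ v : ι → F, Q (g *ᵥ (fun i => σ (v i))) = c * σ (Q v)) (d : F)
    (hgg : g * g.map σ = d • (1 : Matrix ι ι F)) : IsSquare (gramQ Q).det := by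
  have h1 := gram_det_semisim Q g σ c hc
  rw [hcard] at h1
  have hσσ : ∀ y : F, σ (σ y) = y := sigma_sq_apply σ hord
  have h3 : g.det * σ g.det = d ^ (2 * n) := by
    have := congrArg Matrix.det hgg
    rw [Matrix.det_mul, Matrix.det_smul, Matrix.det_one, mul_one, hcard] at this
    have h5 : (g.map σ).det = σ g.det := by
      have := RingHom.map_det ((σ : F ≃+* F) : F →+* F) g
      rw [RingHom.mapMatrix_apply] at this
      exact this.symm
    rw [h5] at this
    exact this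
  have h4 : d ^ 2 = c * σ c := by
    obtain ⟨v, hv⟩ := hne
    have e1 : g *ᵥ (fun i => σ ((g *ᵥ (fun k => σ (v k))) i)) = d • v := by
      have : (fun i => σ ((g *ᵥ (fun k => σ (v k))) i)) =
          (g.map σ) *ᵥ (fun i => σ (σ (v i))) := by
        funext i
        exact RingHom.map_mulVec ((σ : F ≃+* F) : F →+* F) g (fun k => σ (v k)) i
      rw [this, Matrix.mulVec_mulVec, hgg, Matrix.smul_mulVec, Matrix.one_mulVec]
      congr 1
      funext i
      exact hσσ (v i)
    have e2 := hc (g *ᵥ (fun k => σ (v k)))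
    rw [e1, hc, QuadraticMap.map_smul, map_mul, hσσ, smul_eq_mul] at e2
    have e3 : (d ^ 2 - c * σ c) * Q v = 0 := by linear_combination e2
    rcases mul_eq_zero.mp e3 with h | h
    · exact sub_eq_zero.mp h
    · exact absurd h hv
  exact isSquare_of_semi_relations h2 σ hord _ g.det c d n hΔ hc0 h1 h3 h4

end involsemi

section gramminus

variable {F : Type u} [Field F]

set_option maxHeartbeats 1600000 in
theorem gram_minus (m : ℕ) (a b : F) :
    gramQ (qfMinus m F a b) =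
      Matrix.fromBlocks (swapBlocks m F) 0 0 !![2, a; a, 2 * b] := by
  ext i j
  rw [gramQ_apply, qfMinus_coe, polar_minus']
  rcases i with (i | i) | i <;> rcases j with (j | j) | j
  · simp [swapBlocks, Pi.single_apply]
  · simp [swapBlocks, Pi.single_apply, Matrix.one_apply, eq_comm]
  · simp [swapBlocks, Pi.single_apply]
  · simp [swapBlocks, Pi.single_apply, Matrix.one_apply, eq_comm]
  · simp [swapBlocks, Pi.single_apply]
  · simp [swapBlocks, Pi.single_apply]
  · simp [swapBlocks, Pi.single_apply]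
  · simp [swapBlocks, Pi.single_apply]
  · fin_cases i <;> fin_cases j <;> simp

theorem gram_minus_det (m : ℕ) (a b : F) :
    (gramQ (qfMinus m F a b)).det = (-1) ^ m * (4 * b - a ^ 2) := by
  rw [gram_minus, Matrix.det_fromBlocks_zero₁₂, det_swapBlocks, Matrix.det_fin_two_of]
  ring

end gramminus

section minusright

variable {F : Type u} [Field F] [Fintype F] {m : ℕ}

set_option maxHeartbeats 1600000 in
/-- an involutory automorphism of `PΩ⁻` induced by a semisimilarity has trivial field part -/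
theorem right_eq_one_minus (hodd : Odd (Fintype.card F)) (hm : 3 ≤ m) (a b : F)
    (hab : ∀ z₁ z₂ : F, z₁ ^ 2 + a * z₁ * z₂ + b * z₂ ^ 2 = 0 → z₁ = 0 ∧ z₂ = 0)
    (x : ↥(gammaO (⇑(qfMinus m F a b) : ((Fin m ⊕ Fin m) ⊕ Fin 2 → F) → F)))
    (hxx : ssHom (⇑(qfMinus m F a b) : ((Fin m ⊕ Fin m) ⊕ Fin 2 → F) → F) (x * x) = 1) :
    (x : GammaL ((Fin m ⊕ Fin m) ⊕ Fin 2) F).right = 1 := by
  have h2 := Cfsg.Agent.Lib.Lead.OAP.two_ne_zero_of_odd hodd
  obtain ⟨hQ, hn, -⟩ := minus_hyps m hm a b hab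
  have hne := minus_exists_ne_zero m a b
  have hcard : Fintype.card ((Fin m ⊕ Fin m) ⊕ Fin 2) = 2 * (m + 1) := by
    simp; ring
  set σ : RingAut F := (x : GammaL ((Fin m ⊕ Fin m) ⊕ Fin 2) F).right with hσ
  set g : GL ((Fin m ⊕ Fin m) ⊕ Fin 2) F := (x : GammaL ((Fin m ⊕ Fin m) ⊕ Fin 2) F).left with hg
  have hr := ssHom_ker_le (qfMinus m F a b) hQ hn (MonoidHom.mem_ker.mpr hxx)
  rw [MonoidHom.mem_ker, ssRight_apply] at hr
  have hσσ : σ * σ = 1 := hr
  obtain ⟨d, hd⟩ := ssHom_ker_scalar (qfMinus m F a b) hQ hn (x * x) hxx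
  have hgg : ((g : GL ((Fin m ⊕ Fin m) ⊕ Fin 2) F) :
        Matrix ((Fin m ⊕ Fin m) ⊕ Fin 2) ((Fin m ⊕ Fin m) ⊕ Fin 2) F) *
      ((g : GL ((Fin m ⊕ Fin m) ⊕ Fin 2) F) :
        Matrix ((Fin m ⊕ Fin m) ⊕ Fin 2) ((Fin m ⊕ Fin m) ⊕ Fin 2) F).map σ =
      d • (1 : Matrix ((Fin m ⊕ Fin m) ⊕ Fin 2) ((Fin m ⊕ Fin m) ⊕ Fin 2) F) := hd
  by_contra hne1
  have hord : orderOf σ = 2 := by
    apply orderOf_eq_prime
    · rw [pow_two]; exact hσσ
    · exact hne1
  obtain ⟨c, hc⟩ := x.2
  have hdisc := not_isSquare_disc h2 a b hab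
  have hΔ : (gramQ (qfMinus m F a b)).det ≠ 0 := by
    rw [gram_minus_det]
    apply mul_ne_zero (pow_ne_zero _ (by norm_num))
    intro h
    apply hdisc
    exact ⟨0, by linear_combination -h⟩
  have hsq := gram_isSquare_of_invol_semisim (qfMinus m F a b) h2 hne (m + 1) hcard hΔ
    ((g : GL ((Fin m ⊕ Fin m) ⊕ Fin 2) F) :
        Matrix ((Fin m ⊕ Fin m) ⊕ Fin 2) ((Fin m ⊕ Fin m) ⊕ Fin 2) F) σ hord (c : F)
    (Units.ne_zero c) hc d hgg
  rw [gram_minus_det] at hsq
  -- `-1` is a square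
  obtain ⟨F₀, _, _, j, hcardF, -⟩ := exists_fixed_field σ hord
  have hm1 : IsSquare (-1 : F) := by
    rw [FiniteField.isSquare_neg_one_iff, hcardF]
    have : Fintype.card F₀ ^ 2 % 4 = 0 ∨ Fintype.card F₀ ^ 2 % 4 = 1 := by
      have h4 : Fintype.card F₀ % 4 < 4 := Nat.mod_lt _ (by norm_num)
      rw [Nat.pow_mod]
      interval_cases (Fintype.card F₀ % 4) <;> simp
    omega
  obtain ⟨i, hi⟩ := hm1
  obtain ⟨r, hr⟩ := hsq
  apply hdisc
  refine ⟨i ^ (m + 1) * r, ?_⟩
  have e1 : (i ^ (m + 1)) * (i ^ (m + 1)) = (-1) ^ (m + 1) := by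
    rw [← mul_pow, ← hi]
  have e2 : ((-1 : F) ^ (m + 1)) * ((-1) ^ (m + 1)) = 1 := by
    rw [← mul_pow]; simp
  calc a ^ 2 - 4 * b = ((-1 : F) ^ (m + 1)) * ((-1) ^ m * (4 * b - a ^ 2)) := by
        rw [pow_succ]
        have e3 : ((-1 : F) ^ m) * ((-1) ^ m) = 1 := by rw [← mul_pow]; simp
        linear_combination (-(a ^ 2 - 4 * b)) * e3
    _ = i ^ (m + 1) * r * (i ^ (m + 1) * r) := by
        rw [hr, ← e1]; ring

end minusright

end Cfsg.Agent.Lib.Helper16.OM
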