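import Mathlib
import Cfsg.Agent.Lib.Helper16.OM42

set_option autoImplicit false
set_option linter.unusedSectionVars false
set_option linter.unusedVariables false

namespace Cfsg.Agent.Lib.Helper16.OM

open Matrix Module Cfsg.Agent.Lib.Lead Cfsg.Agent.Lib.Lead.OA Cfsg.Agent.Lib.Helper16
  Cfsg.Agent.Lib.Helper16.OA Cfsg.Agent.Lib.Helper16.OL Cfsg.Agent.Lib.Helper16.PSC
  Cfsg.Agent.Lib.Lead.OAP Cfsg.Agent.Lib.Lead.OAM

universe u v

section generic2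

variable {ι : Type} [Fintype ι] [DecidableEq ι] {F : Type u} [Field F] [Fintype F]
variable (Q : QuadraticForm F (ι → F))

set_option maxHeartbeats 1600000 in
/-- index two of `Inn` in `D`, even half-dimension: centralisers in `D` of class-swapping
involutions lie in `Inn`, so the count is two -/
theorem count_two_of_even (h2 : (2 : F) ≠ 0) (hQ : (QuadraticMap.polarBilin Q).Nondegenerate)
    (hn : 7 ≤ Fintype.card ι) (n : ℕ) (hn_even : Even n) (hcard : Fintype.card ι = 2 * n)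
    (hne : ∃ v, Q v ≠ 0)
    (hno : ¬ ∃ g : ↥(Cfsg.isometryGroup F (⇑Q : (ι → F) → F)),
      g ∈ Cfsg.Omega F (⇑Q : (ι → F) → F) ∧ ((g : GL ι F) : Matrix ι ι F) = -1)
    (hidx : (Cfsg.Inn (Cfsg.POmega F (⇑Q : (ι → F) → F))).relIndex
      ((eps Q hne n).ker.map (cHom (⇑Q : (ι → F) → F))) = 2)
    (g : ↥(GOq Q)) (hg : eps Q hne n g ≠ 1) (ν : F) (hν0 : ν ≠ 0)
    (hμ : ((mult Q g : Fˣ) : F) = ν * ν)
    (hgg : ((g : GL ι F) : Matrix ι ι F) * ((g : GL ι F) : Matrix ι ι F) =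
      (ν * ν) • (1 : Matrix ι ι F)) :
    Cfsg.splitClassCount ((eps Q hne n).ker.map (cHom (⇑Q : (ι → F) → F)))
      (Cfsg.Inn (Cfsg.POmega F (⇑Q : (ι → F) → F))) (cHom (⇑Q : (ι → F) → F) g) = 2 := by
  have hn4 : 4 ≤ Fintype.card ι := by omega
  have hInnN : (Cfsg.Inn (Cfsg.POmega F (⇑Q : (ι → F) → F))).Normal := inn_normal _
  have hKH := inn_le_D Q hne n
  rw [Cfsg.Agent.Lib.Helper16.SC.splitClassCount_eq_relIndex (hK := hInnN) _ _ hKH]
  have hle : (eps Q hne n).ker.map (cHom (⇑Q : (ι → F) → F)) ⊓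
      Subgroup.centralizer {cHom (⇑Q : (ι → F) → F) g} ≤
      Cfsg.Inn (Cfsg.POmega F (⇑Q : (ι → F) → F)) := by
    rintro c ⟨⟨d, hd, rfl⟩, hcc⟩
    by_contra hnot
    have hde : eps Q hne n d = 1 := MonoidHom.mem_ker.mp hd
    have hcomm : cHom (⇑Q : (ι → F) → F) d * cHom (⇑Q : (ι → F) → F) g =
        cHom (⇑Q : (ι → F) → F) g * cHom (⇑Q : (ι → F) → F) d := by
      have := (Subgroup.mem_centralizer_iff.mp hcc) (cHom (⇑Q : (ι → F) → F) g) rfl
      exact this.symm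
    have hdns : ¬ IsSquare ((mult Q d : Fˣ) : F) := by
      intro hsq
      apply hnot
      obtain ⟨z, s, hzs⟩ := iso_of_sq Q hne d hsq
      have hsd : isoDet (⇑Q : (ι → F) → F) s = 1 := by
        rw [← eps_scal_mul Q hne n hcard z s, ← hzs]; exact hde
      rw [inn_eq_pso_of_not Q h2 hQ hn4 n hcard hno, hzs]
      exact mem_pso_of Q h2 hQ hn4 z s hsd
    exact no_comm_of_even Q h2 hQ hn n hn_even hcard hne g hg ν hν0 hμ hgg d hdns hcomm
  have hsup : Cfsg.Inn (Cfsg.POmega F (⇑Q : (ι → F) → F)) ⊔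
      ((eps Q hne n).ker.map (cHom (⇑Q : (ι → F) → F)) ⊓
        Subgroup.centralizer {cHom (⇑Q : (ι → F) → F) g}) =
      Cfsg.Inn (Cfsg.POmega F (⇑Q : (ι → F) → F)) := sup_eq_left.mpr hle
  rw [hsup, hidx]

end generic2

section minus

variable {F : Type u} [Field F] [Fintype F] {m : ℕ}

set_option maxHeartbeats 4000000 in
theorem S2719_aux (hodd : Odd (Fintype.card F)) (hm : 3 ≤ m) (a b : F)
    (hab : ∀ z₁ z₂ : F, z₁ ^ 2 + a * z₁ * z₂ + b * z₂ ^ 2 = 0 → z₁ = 0 ∧ z₂ = 0)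
    (γ : MulAut (Cfsg.POmega F (Cfsg.quadFormMinus m F a b)))
    (hγ : Cfsg.IsGraphAutClassPOmegaMinus m a b γ) (hγ2 : orderOf γ = 2) :
    (Cfsg.splitClassCount (Cfsg.inndiagPOmegaMinus m F a b)
        (Cfsg.Inn (Cfsg.POmega F (Cfsg.quadFormMinus m F a b))) γ = 1 ∨
      Cfsg.splitClassCount (Cfsg.inndiagPOmegaMinus m F a b)
        (Cfsg.Inn (Cfsg.POmega F (Cfsg.quadFormMinus m F a b))) γ = 2) ∧
    (¬ (Even m ∧ Fintype.card F % 4 = 1) →
      Cfsg.splitClassCount (Cfsg.inndiagPOmegaMinus m F a b)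
        (Cfsg.Inn (Cfsg.POmega F (Cfsg.quadFormMinus m F a b))) γ = 2) := by
  have h2 := two_ne_zero_of_odd hodd
  obtain ⟨hQ, hn7, hT⟩ := minus_hyps m hm a b hab
  have hcard := card_minus (m := m)
  have hn : 4 ≤ Fintype.card ((Fin m ⊕ Fin m) ⊕ Fin 2) := by omega
  have hne := exists_ne_zero (qfMinus m F a b) h2 hQ (by omega)
  obtain ⟨δ, hδ0, hδ⟩ := Cfsg.Agent.Lib.Lead.OI.exists_nonsquare (F := F) h2
  obtain ⟨w₁, w₂, hc⟩ := exists_norm_binary a b h2 hab δ hδ0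
  set c : Fˣ := Units.mk0 δ hδ0 with hcdef
  have hc' : w₁ ^ 2 + a * w₁ * w₂ + b * w₂ ^ 2 = ((c : Fˣ) : F) := hc
  set g₁ : ↥(GOq (qfMinus m F a b)) := ⟨dMinus a b c w₁ w₂ hc', dMinus_mem a b c w₁ w₂ hc'⟩
    with hg₁def
  have hg₁ : ¬ IsSquare ((mult (qfMinus m F a b) g₁ : Fˣ) : F) := by
    rw [hg₁def, mult_dMinus a b hne]; exact hδ
  have hg₁e : eps (qfMinus m F a b) hne (m + 1) g₁ = 1 := eps_dMinus a b hne c w₁ w₂ hc'
  have hiff0 := Cfsg.Agent.S0791.result (F := F) rfl hodd (m + 1) (by omega) a b hab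
  have hiff : (∃ g : ↥(Cfsg.isometryGroup F (Cfsg.quadFormMinus m F a b)),
      g ∈ Cfsg.Omega F (Cfsg.quadFormMinus m F a b) ∧
      ((g : Matrix.GeneralLinearGroup ((Fin m ⊕ Fin m) ⊕ Fin 2) F) :
        Matrix ((Fin m ⊕ Fin m) ⊕ Fin 2) ((Fin m ⊕ Fin m) ⊕ Fin 2) F) = -1) ↔
      Fintype.card F ^ (m + 1) % 4 = 3 := hiff0
  have hq : Fintype.card F % 2 = 1 := Nat.odd_iff.mp hodd
  have har := pow_mod_four_iff3 (Fintype.card F) (m + 1) hq
  have hpar : Odd (m + 1) ↔ Even m := by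
    rw [Nat.odd_add_one, Nat.not_odd_iff_even]
  -- decode the automorphism
  obtain ⟨x, hx⟩ := ssHom_surjective (qfMinus m F a b) hQ hn7 hT γ
  have hγγ : γ * γ = 1 := by
    have := pow_orderOf_eq_one γ
    rwa [hγ2, pow_two] at this
  have hxx : ssHom (⇑(qfMinus m F a b)) (x * x) = 1 := by
    rw [map_mul, hx]; exact hγγ
  have hright := right_eq_one_minus hodd hm a b hab x hxx
  have hxker : x ∈ (ssRight (⇑(qfMinus m F a b))).ker := by
    rw [MonoidHom.mem_ker, ssRight_apply]; exact hright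
  rw [ssRight_ker] at hxker
  obtain ⟨gG, rfl⟩ := hxker
  rw [ssHom_goIncl] at hx
  have hge : eps (qfMinus m F a b) hne (m + 1) gG ≠ 1 := by
    intro h
    apply hγ.2.1
    rw [inndiagMinus_eq a b hodd hab hne, ← hx]
    exact ⟨gG, MonoidHom.mem_ker.mpr h, rfl⟩
  have hker : cHom (⇑(qfMinus m F a b)) (gG * gG) = 1 := by
    rw [map_mul, hx]; exact hγγ
  obtain ⟨lam, hlam⟩ := cHom_ker_scalar (qfMinus m F a b) hQ hn7 (gG * gG) hker
  have hgg : ((gG : GL ((Fin m ⊕ Fin m) ⊕ Fin 2) F) :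
        Matrix ((Fin m ⊕ Fin m) ⊕ Fin 2) ((Fin m ⊕ Fin m) ⊕ Fin 2) F) *
      ((gG : GL ((Fin m ⊕ Fin m) ⊕ Fin 2) F) :
        Matrix ((Fin m ⊕ Fin m) ⊕ Fin 2) ((Fin m ⊕ Fin m) ⊕ Fin 2) F) =
      lam • (1 : Matrix ((Fin m ⊕ Fin m) ⊕ Fin 2) ((Fin m ⊕ Fin m) ⊕ Fin 2) F) := hlam
  have hW : ∀ U : Submodule F ((Fin m ⊕ Fin m) ⊕ Fin 2 → F),
      (∀ u ∈ U, qfMinus m F a b u = 0) → finrank F ↥U ≤ m :=
    fun U hU => Cfsg.Agent.Lib.Lead.WI.minus_ts_le (k := m) (a := a) (b := b) hab U hU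
  have shape := graph_inv_shape (qfMinus m F a b) h2 (m + 1) hcard hne m (by omega) hW gG hge lam hgg
  rw [inndiagMinus_eq a b hodd hab hne, ← hx]
  by_cases hcase : Even m ∧ Fintype.card F % 4 = 3
  · have hneg := hiff.mpr (har.mpr ⟨hpar.mpr hcase.1, hcase.2⟩)
    have hs : ∃ s : ↥(Cfsg.isometryGroup F (⇑(qfMinus m F a b))),
        isoDet (⇑(qfMinus m F a b)) s = 1 ∧ s ∉ Cfsg.Omega F (⇑(qfMinus m F a b)) ∧
        isoToGO (qfMinus m F a b) s * gG = gG * isoToGO (qfMinus m F a b) s := by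
      rcases shape with ⟨hns, -⟩ | ⟨ν, hν0, hμ, hl⟩
      · exact exists_s_of_nonsq (qfMinus m F a b) h2 hQ hn gG lam hns hgg
      · rw [hl] at hgg
        exact exists_s_of_sq_pos (qfMinus m F a b) h2 hQ hn gG ν hν0 hμ hgg
    obtain ⟨s, hsd, hsΩ, hsg⟩ := hs
    have hcount := count_two_of_exists (qfMinus m F a b) h2 hQ hn (m + 1) hcard hne g₁ hg₁ hg₁e
      hneg gG hge s hsd hsΩ hsg
    exact ⟨Or.inr hcount, fun _ => hcount⟩
  · have hno : ¬ ∃ g : ↥(Cfsg.isometryGroup F (Cfsg.quadFormMinus m F a b)),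
        g ∈ Cfsg.Omega F (Cfsg.quadFormMinus m F a b) ∧
        ((g : Matrix.GeneralLinearGroup ((Fin m ⊕ Fin m) ⊕ Fin 2) F) :
          Matrix ((Fin m ⊕ Fin m) ⊕ Fin 2) ((Fin m ⊕ Fin m) ⊕ Fin 2) F) = -1 := by
      intro hneg
      have := har.mp (hiff.mp hneg)
      exact hcase ⟨hpar.mp this.1, this.2⟩
    obtain ⟨φ, hφs, hφk⟩ := inndiag_C2 (qfMinus m F a b) h2 hQ hn (m + 1) hcard hne g₁ hg₁ hg₁e hno
    have hidx : (Cfsg.Inn (Cfsg.POmega F (⇑(qfMinus m F a b)))).relIndex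
        ((eps (qfMinus m F a b) hne (m + 1)).ker.map (cHom (⇑(qfMinus m F a b)))) = 2 := by
      show ((Cfsg.Inn (Cfsg.POmega F (⇑(qfMinus m F a b)))).subgroupOf
        ((eps (qfMinus m F a b) hne (m + 1)).ker.map (cHom (⇑(qfMinus m F a b))))).index = 2
      rw [← hφk, Subgroup.index_ker, MonoidHom.range_eq_top.mpr hφs, Subgroup.card_top]
      simp
    refine ⟨count_one_or_two (qfMinus m F a b) hne (m + 1) hidx _, ?_⟩
    intro hcase1
    have hmodd : ¬ Even m := by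
      intro hev
      have : Fintype.card F % 4 = 1 ∨ Fintype.card F % 4 = 3 := by omega
      rcases this with h | h
      · exact hcase1 ⟨hev, h⟩
      · exact hcase ⟨hev, h⟩
    have hn_even : Even (m + 1) := by
      rw [Nat.not_even_iff_odd] at hmodd
      exact hmodd.add_one
    rcases shape with ⟨-, hoddn⟩ | ⟨ν, hν0, hμ, hl⟩
    · exact absurd hn_even (Nat.not_even_iff_odd.mpr hoddn)
    · rw [hl] at hgg
      exact count_two_of_even (qfMinus m F a b) h2 hQ hn7 (m + 1) hn_even hcard hne hno hidx gG hge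
        ν hν0 hμ hgg

end minus

end Cfsg.Agent.Lib.Helper16.OM
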