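import Mathlib
import Cfsg.Agent.Lib.Helper16.OB12
import Cfsg.Agent.Lib.Helper16.OM43

set_option autoImplicit false
set_option linter.unusedSectionVars false
set_option linter.unusedVariables false

/-! The bridge between matrices and linear equivalences; the shape of a graph involution. -/

namespace Cfsg.Agent.Lib.Helper16.OB

open Matrix Module Cfsg.Agent.Lib.Lead Cfsg.Agent.Lib.Lead.OA Cfsg.Agent.Lib.Helper16
  Cfsg.Agent.Lib.Helper16.OA Cfsg.Agent.Lib.Helper16.OL Cfsg.Agent.Lib.Helper16.PSC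
  Cfsg.Agent.Lib.Lead.OAP Cfsg.Agent.Lib.Lead.OAM Cfsg.Agent.Lib.Helper16.OM

universe u v

variable {ι : Type} [Fintype ι] [DecidableEq ι] {F : Type u} [Field F]

/-- invertible matrices as linear equivalences. -/
noncomputable def glLin : GL ι F ≃* ((ι → F) ≃ₗ[F] (ι → F)) :=
  Matrix.GeneralLinearGroup.toLin.trans (LinearMap.GeneralLinearGroup.generalLinearEquiv F (ι → F))

theorem glLin_apply (g : GL ι F) (v : ι → F) : glLin g v = (g : Matrix ι ι F) *ᵥ v := by
  unfold glLin
  simp [Matrix.GeneralLinearGroup.toLin]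

theorem glLin_symm_mulVec (s : (ι → F) ≃ₗ[F] (ι → F)) (v : ι → F) :
    ((glLin.symm s : GL ι F) : Matrix ι ι F) *ᵥ v = s v := by
  rw [← glLin_apply, MulEquiv.apply_symm_apply]

theorem glLin_toLinearMap (g : GL ι F) :
    ((glLin g : (ι → F) ≃ₗ[F] (ι → F)) : (ι → F) →ₗ[F] (ι → F)) =
      Matrix.toLin' (g : Matrix ι ι F) := by
  apply LinearMap.ext
  intro v
  rw [LinearEquiv.coe_coe, glLin_apply, Matrix.toLin'_apply]

theorem det_glLin (g : GL ι F) :
    LinearMap.det ((glLin g : (ι → F) ≃ₗ[F] (ι → F)) : (ι → F) →ₗ[F] (ι → F)) =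
      (g : Matrix ι ι F).det := by
  rw [glLin_toLinearMap, LinearMap.det_toLin']

variable [Fintype F] (Q : QuadraticForm F (ι → F))

set_option maxHeartbeats 1600000 in
/-- the possible shapes of a class-swapping similarity squaring to a scalar, small Witt index;
in the non-square case the scalar is the multiplier. -/
theorem graph_inv_shape_strong (h2 : (2 : F) ≠ 0) (n : ℕ) (hcard : Fintype.card ι = 2 * n)
    (hne : ∃ v, Q v ≠ 0) (w : ℕ) (hw : w < n)
    (hW : ∀ U : Submodule F (ι → F), (∀ u ∈ U, Q u = 0) → finrank F ↥U ≤ w)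
    (g : ↥(GOq Q)) (hg : eps Q hne n g ≠ 1) (lam : F)
    (hgg : ((g : GL ι F) : Matrix ι ι F) * ((g : GL ι F) : Matrix ι ι F) =
      lam • (1 : Matrix ι ι F)) :
    (¬ IsSquare ((mult Q g : Fˣ) : F) ∧ Odd n ∧ lam = ((mult Q g : Fˣ) : F)) ∨
      (∃ ν : F, ν ≠ 0 ∧ ((mult Q g : Fˣ) : F) = ν * ν ∧ lam = ν * ν) := by
  rcases graph_inv_shape Q h2 n hcard hne w hw hW g hg lam hgg with ⟨hns, hodd⟩ | h
  · left
    refine ⟨hns, hodd, ?_⟩
    obtain ⟨μ, hμdef⟩ : ∃ μ : F, μ = ((mult Q g : Fˣ) : F) := ⟨_, rfl⟩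
    rw [← hμdef] at hns ⊢
    have hμ0 : μ ≠ 0 := by rw [hμdef]; exact Units.ne_zero _
    have hgQ : ∀ v, Q (((g : GL ι F) : Matrix ι ι F) *ᵥ v) = μ * Q v := by
      intro v; rw [mult_spec, hμdef]
    have hw2 : 2 * w < Fintype.card ι := by omega
    have hg' := hg
    rw [Ne, eps_eq_one_iff, ← hμdef] at hg'
    obtain ⟨x₀, hx₀⟩ := hne
    have hll : (lam - μ) * (lam + μ) = 0 := by
      have h1 : Q (((g : GL ι F) : Matrix ι ι F) *ᵥ (((g : GL ι F) : Matrix ι ι F) *ᵥ x₀)) =
          μ * (μ * Q x₀) := by rw [hgQ, hgQ]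
      rw [Matrix.mulVec_mulVec, hgg, Matrix.smul_mulVec, Matrix.one_mulVec,
        QuadraticMap.map_smul, smul_eq_mul] at h1
      have h3 : (lam * lam - μ * μ) * Q x₀ = 0 := by linear_combination h1
      rcases mul_eq_zero.mp h3 with h | h
      · linear_combination h
      · exact absurd h hx₀
    have hdet : ¬ IsSquare lam → ((g : GL ι F) : Matrix ι ι F).det = (-lam) ^ n := by
      intro hl
      obtain ⟨k, hk, hd⟩ := det_of_sq_nonsquare _ lam hl hgg
      have : k = n := by omega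
      rw [hd, this]
    rcases mul_eq_zero.mp hll with h | h
    · linear_combination h
    · exfalso
      have hl : lam = -μ := by linear_combination h
      by_cases hm1 : IsSquare (-μ)
      · obtain ⟨κ, hκ⟩ := hm1
        have hκ0 : κ ≠ 0 := by
          rintro rfl
          rw [mul_zero] at hκ
          exact hμ0 (neg_eq_zero.mp hκ)
        apply false_of_ts_eigen Q h2 w hw2 hW _ κ hκ0
        · intro v
          rw [hgQ, ← hκ, neg_neg]
        · rw [← hκ, ← hl]; exact hgg
      · apply hg'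
        rw [hdet (by rw [hl]; exact hm1), hl, neg_neg]
  · right
    exact h

end Cfsg.Agent.Lib.Helper16.OB
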