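import Mathlib
import Cfsg.Agent.Lib.Helper16.OB4

set_option autoImplicit false
set_option linter.unusedSectionVars false
set_option linter.unusedVariables false

/-! Lifting an odd-order subgroup through a homomorphism whose kernel is a central elementary
abelian 2-group. -/

namespace Cfsg.Agent.Lib.Helper16.OB

universe u v

variable {G : Type u} {G' : Type v} [Group G] [Group G']

theorem mul_pow_of_central (z h : G) (hz : ∀ g, g * z = z * g) (k : ℕ) :
    (z * h) ^ k = z ^ k * h ^ k := by
  have : Commute z h := (hz h).symm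
  exact this.mul_pow k

theorem pow_odd_of_sq (z : G) (hz : z * z = 1) (k : ℕ) (hk : Odd k) : z ^ k = z := by
  obtain ⟨j, rfl⟩ := hk
  rw [pow_succ, pow_mul, pow_two, hz, one_pow, one_mul]

set_option maxHeartbeats 800000 in
/-- **Odd lift.** -/
theorem odd_lift [Finite G] (π : G →* G')
    (hker : ∀ z ∈ π.ker, z * z = 1 ∧ ∀ g, g * z = z * g)
    (N : Subgroup G') [Finite N] (hodd : Odd (Nat.card N)) (hN : N ≤ π.range) :
    ∃ H : Subgroup G, Nat.card H = Nat.card N ∧ H.map π = N ∧
      (∀ T, T ∈ H ↔ π T ∈ N ∧ T ^ Nat.card N = 1) := by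
  classical
  set k := Nat.card N with hk
  set P : Subgroup G := N.comap π with hP
  set π'' : ↥P →* G' := π.comp P.subtype with hπ''
  have hrange : π''.range = N := by
    rw [hπ'', MonoidHom.range_comp, Subgroup.range_subtype, hP, Subgroup.map_comap_eq]
    exact inf_eq_right.mpr hN
  have hindex : π''.ker.index = k := by
    rw [Subgroup.index_ker, hrange]
  have hZ : ∀ z : ↥P, z ∈ π''.ker → (z : G) * (z : G) = 1 ∧ ∀ g : G, g * (z : G) = (z : G) * g := by
    intro z hz
    apply hker
    rw [MonoidHom.mem_ker] at hz ⊢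
    exact hz
  have hpg : IsPGroup 2 ↥π''.ker := by
    intro z
    refine ⟨1, ?_⟩
    apply Subtype.ext
    apply Subtype.ext
    rw [pow_one, pow_two]
    exact (hZ z.1 z.2).1
  have : Fact (Nat.Prime 2) := ⟨Nat.prime_two⟩
  obtain ⟨n, hn⟩ := hpg.exists_card_eq
  have hcop : (Nat.card ↥π''.ker).Coprime π''.ker.index := by
    rw [hn, hindex]
    exact Nat.Coprime.pow_left n (Nat.coprime_two_left.mpr hodd)
  obtain ⟨H₀, hH₀⟩ := Subgroup.exists_right_complement'_of_coprime hcop
  have hcard₀ : Nat.card ↥H₀ = k := by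
    have h1 := hH₀.symm.index_eq_card
    rw [hindex] at h1
    exact h1.symm
  -- the decomposition
  have hdec : ∀ T : ↥P, ∃ z ∈ π''.ker, ∃ h ∈ H₀, T = z * h := by
    intro T
    obtain ⟨x, hx, _⟩ := (Subgroup.isComplement_iff_existsUnique.mp hH₀) T
    exact ⟨x.1.1, x.1.2, x.2.1, x.2.2, hx.symm⟩
  have hpowH : ∀ h ∈ H₀, h ^ k = 1 := by
    intro h hh
    rw [← hcard₀]
    exact OB.pow_card_eq_one_of_mem H₀ h hh
  refine ⟨H₀.map P.subtype, ?_, ?_, ?_⟩
  · rw [Subgroup.card_map_of_injective P.subtype_injective]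
    exact hcard₀
  · apply le_antisymm
    · rintro _ ⟨_, ⟨T, hT, rfl⟩, rfl⟩
      exact T.2
    · intro n hn
      obtain ⟨T, hT⟩ := hN hn
      have hTP : T ∈ P := by
        rw [hP, Subgroup.mem_comap, hT]
        exact hn
      obtain ⟨z, hz, h, hh, hzh⟩ := hdec ⟨T, hTP⟩
      refine ⟨(h : G), ⟨h, hh, rfl⟩, ?_⟩
      have e1 : T = (z : G) * (h : G) := by
        have := congrArg Subtype.val hzh
        exact this
      rw [← hT, e1, map_mul]
      have : π (z : G) = 1 := by
        rw [MonoidHom.mem_ker] at hz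
        exact hz
      rw [this, one_mul]
  · intro T
    constructor
    · rintro ⟨T', hT', rfl⟩
      refine ⟨T'.2, ?_⟩
      have := hpowH T' hT'
      have := congrArg Subtype.val this
      rw [Subgroup.coe_pow] at this
      exact this
    · rintro ⟨hTN, hTk⟩
      have hTP : T ∈ P := by
        rw [hP, Subgroup.mem_comap]
        exact hTN
      obtain ⟨z, hz, h, hh, hzh⟩ := hdec ⟨T, hTP⟩
      have e1 : T = (z : G) * (h : G) := by
        have := congrArg Subtype.val hzh
        exact this
      obtain ⟨hz2, hzc⟩ := hZ z hz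
      have e2 : T ^ k = (z : G) := by
        rw [e1, mul_pow_of_central _ _ hzc, pow_odd_of_sq _ hz2 k hodd]
        have := hpowH h hh
        have := congrArg Subtype.val this
        rw [Subgroup.coe_pow] at this
        rw [this]
        simp
      rw [hTk] at e2
      refine ⟨h, hh, ?_⟩
      rw [e1, ← e2, one_mul]
      rfl

end Cfsg.Agent.Lib.Helper16.OB
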