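import Mathlib
import Cfsg.Agent.Lib.Helper16.OB13
import Cfsg.Agent.Lib.Helper16.OB8

set_option autoImplicit false
set_option linter.unusedSectionVars false
set_option linter.unusedVariables false

/-! Lifting odd-order automorphisms induced by similarities to isometries. -/

namespace Cfsg.Agent.Lib.Helper16.OB

open Matrix Module Cfsg.Agent.Lib.Lead Cfsg.Agent.Lib.Lead.OA Cfsg.Agent.Lib.Helper16
  Cfsg.Agent.Lib.Helper16.OA Cfsg.Agent.Lib.Helper16.OL Cfsg.Agent.Lib.Helper16.PSC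
  Cfsg.Agent.Lib.Lead.OAP Cfsg.Agent.Lib.Lead.OAM Cfsg.Agent.Lib.Helper16.OM

universe u v

variable {ι : Type} [Fintype ι] [DecidableEq ι] {F : Type u} [Field F] [Fintype F]
variable (Q : QuadraticForm F (ι → F))

/-- a scalar similarity of multiplier one squares to one and is central. -/
theorem scalar_sq_central (hne : ∃ v, Q v ≠ 0) (z : ↥(GOq Q)) (d : F)
    (hd : ((z : GL ι F) : Matrix ι ι F) = d • (1 : Matrix ι ι F)) (hm : mult Q z = 1) :
    z * z = 1 ∧ ∀ g : ↥(GOq Q), g * z = z * g := by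
  have h1 := mult_of_scalar Q hne z d hd
  rw [hm, Units.val_one] at h1
  constructor
  · apply Subtype.ext
    apply Units.ext
    show ((z : GL ι F) : Matrix ι ι F) * ((z : GL ι F) : Matrix ι ι F) = 1
    rw [hd, Matrix.smul_mul, Matrix.one_mul, smul_smul, ← h1, one_smul]
  · intro g
    apply Subtype.ext
    apply Units.ext
    show ((g : GL ι F) : Matrix ι ι F) * ((z : GL ι F) : Matrix ι ι F) =
      ((z : GL ι F) : Matrix ι ι F) * ((g : GL ι F) : Matrix ι ι F)
    rw [hd, Matrix.mul_smul, Matrix.smul_mul, Matrix.mul_one, Matrix.one_mul]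

theorem c0_ker (hQ : (QuadraticMap.polarBilin Q).Nondegenerate) (hn7 : 7 ≤ Fintype.card ι)
    (hne : ∃ v, Q v ≠ 0) (z : ↥(Cfsg.isometryGroup F (⇑Q : (ι → F) → F)))
    (hz : z ∈ (c0 Q).ker) : z * z = 1 ∧ ∀ g, g * z = z * g := by
  rw [MonoidHom.mem_ker, c0_apply] at hz
  obtain ⟨d, hd⟩ := cHom_ker_scalar Q hQ hn7 _ hz
  obtain ⟨h1, h3⟩ := scalar_sq_central Q hne (isoToGO Q z) d hd (mult_iso Q hne z)
  constructor
  · apply Subtype.ext
    have := congrArg (fun x : ↥(GOq Q) => (x : GL ι F)) h1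
    exact this
  · intro g
    apply Subtype.ext
    have := congrArg (fun x : ↥(GOq Q) => (x : GL ι F)) (h3 (isoToGO Q g))
    exact this

set_option maxHeartbeats 800000 in
/-- odd-order automorphisms induced by similarities are induced by isometries. -/
theorem odd_mem_c0_range (hQ : (QuadraticMap.polarBilin Q).Nondegenerate)
    (hn7 : 7 ≤ Fintype.card ι) (hne : ∃ v, Q v ≠ 0)
    (n : MulAut (Cfsg.POmega F (⇑Q : (ι → F) → F)))
    (hn : n ∈ (cHom (⇑Q : (ι → F) → F)).range) (k : ℕ) (hk : Odd k) (hnk : n ^ k = 1) :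
    n ∈ (c0 Q).range := by
  obtain ⟨h, rfl⟩ := hn
  rw [← map_pow] at hnk
  obtain ⟨s, hs⟩ := cHom_ker_scalar Q hQ hn7 _ hnk
  have h1 := mult_of_scalar Q hne (h ^ k) s hs
  have h3 : mult Q (h ^ k) = (mult Q h) ^ k := map_pow (multHom Q hne) h k
  rw [h3, Units.val_pow_eq_pow_val] at h1
  obtain ⟨j, rfl⟩ := hk
  set μ : F := ((mult Q h : Fˣ) : F) with hμ
  have hμ0 : μ ≠ 0 := Units.ne_zero _
  set c : F := s / μ ^ j with hc
  have hcc : c * c = μ := by
    rw [hc]
    field_simp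
    have e0 : μ ^ (2 * j + 1) = (μ ^ j) ^ 2 * μ := by ring
    rw [← e0, h1]
    ring
  have hc0 : c ≠ 0 := by
    intro h0
    rw [h0, mul_zero] at hcc
    exact hμ0 hcc.symm
  set cu : Fˣ := Units.mk0 c⁻¹ (inv_ne_zero hc0) with hcu
  set h' : ↥(GOq Q) := scalGO Q cu * h with hh'
  have hm : mult Q h' = 1 := by
    have e1 : mult Q h' = mult Q (scalGO Q cu) * mult Q h := map_mul (multHom Q hne) _ _
    rw [e1, mult_scalGO Q hne]
    apply Units.ext
    rw [Units.val_mul, Units.val_mul, Units.val_one, ← hμ, hcu, Units.val_mk0, ← hcc]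
    field_simp
  have hiso : (h' : GL ι F) ∈ Cfsg.isometryGroup F (⇑Q : (ι → F) → F) :=
    (mult_eq_one_iff Q hne h').mp hm
  refine ⟨⟨(h' : GL ι F), hiso⟩, ?_⟩
  rw [c0_apply]
  have e1 : isoToGO Q ⟨(h' : GL ι F), hiso⟩ = h' := Subtype.ext rfl
  rw [e1, hh', map_mul, scalar_cHom_eq_one (⇑Q : (ι → F) → F) (scalGO Q cu) _ (scalGO_coe Q cu),
    one_mul]

set_option maxHeartbeats 800000 in
/-- an odd-order isometry whose induced automorphism commutes with that of a similarity commutes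
with the similarity. -/
theorem exact_comm (hQ : (QuadraticMap.polarBilin Q).Nondegenerate) (hn7 : 7 ≤ Fintype.card ι)
    (hne : ∃ v, Q v ≠ 0) (g : ↥(GOq Q)) (T : ↥(Cfsg.isometryGroup F (⇑Q : (ι → F) → F)))
    (k : ℕ) (hk : Odd k) (hTk : T ^ k = 1)
    (hc : c0 Q T * cHom (⇑Q : (ι → F) → F) g = cHom (⇑Q : (ι → F) → F) g * c0 Q T) :
    (T : GL ι F) * (g : GL ι F) = (g : GL ι F) * (T : GL ι F) := by
  set T' : ↥(GOq Q) := isoToGO Q T with hT'
  have hT'k : T' ^ k = 1 := by rw [hT', ← map_pow, hTk, map_one]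
  set z : ↥(GOq Q) := g * T' * g⁻¹ * T'⁻¹ with hz
  have hcz : cHom (⇑Q : (ι → F) → F) z = 1 := by
    rw [hz, map_mul, map_mul, map_mul, map_inv, map_inv]
    rw [c0_apply] at hc
    rw [← hc, mul_inv_cancel_right, mul_inv_cancel]
  obtain ⟨d, hd⟩ := cHom_ker_scalar Q hQ hn7 _ hcz
  have hmz : mult Q z = 1 := by
    have e1 : mult Q z = multHom Q hne g * multHom Q hne T' * (multHom Q hne g)⁻¹ *
        (multHom Q hne T')⁻¹ := by
      rw [← multHom_apply Q hne, hz, map_mul, map_mul, map_mul, map_inv, map_inv]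
    rw [e1, mul_comm (multHom Q hne g), mul_inv_cancel_right, mul_inv_cancel]
  obtain ⟨hzz, hzc⟩ := scalar_sq_central Q hne z d hd hmz
  have e1 : g * T' * g⁻¹ = z * T' := by
    rw [hz]; group
  have e2 : (g * T' * g⁻¹) ^ k = 1 := by
    rw [conj_pow, hT'k, mul_one, mul_inv_cancel]
  have e3 : (z * T') ^ k = z ^ k * T' ^ k := by
    have : Commute z T' := (hzc T').symm
    exact this.mul_pow k
  rw [e1, e3, hT'k, mul_one, pow_odd_of_sq z hzz k hk] at e2
  rw [e2, one_mul] at e1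
  have e4 : g * T' = T' * g := by
    calc g * T' = (g * T' * g⁻¹) * g := by group
      _ = T' * g := by rw [e1]
  have := congrArg (fun x : ↥(GOq Q) => (x : GL ι F)) e4
  exact this.symm

end Cfsg.Agent.Lib.Helper16.OB
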