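import Mathlib
import Cfsg.Agent.Lib.Helper16.OB14

set_option autoImplicit false
set_option linter.unusedSectionVars false
set_option linter.unusedVariables false

/-! Odd-order subgroups of the similarity-induced automorphisms centralising a graph involution and
normalised by its centraliser in the inner automorphisms are trivial. -/

namespace Cfsg.Agent.Lib.Helper16.OB

open Matrix Module Cfsg.Agent.Lib.Lead Cfsg.Agent.Lib.Lead.OA Cfsg.Agent.Lib.Helper16
  Cfsg.Agent.Lib.Helper16.OA Cfsg.Agent.Lib.Helper16.OL Cfsg.Agent.Lib.Helper16.PSC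
  Cfsg.Agent.Lib.Lead.OAP Cfsg.Agent.Lib.Lead.OAM Cfsg.Agent.Lib.Helper16.OM
open scoped commutatorElement

universe u v

variable {ι : Type} [Fintype ι] [DecidableEq ι] {F : Type u} [Field F] [Fintype F]
variable (Q : QuadraticForm F (ι → F))

theorem comm_central_iff {X : Type*} [Group X] (ζ x y : X) (hζ : ∀ a : X, a * ζ = ζ * a) :
    x * (ζ * y) = (ζ * y) * x ↔ x * y = y * x := by
  rw [← mul_assoc, hζ x, mul_assoc, mul_assoc]
  exact mul_left_cancel_iff

set_option maxHeartbeats 4000000 in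
theorem graphN_bot (h2 : (2 : F) ≠ 0) (hQ : (QuadraticMap.polarBilin Q).Nondegenerate)
    (hn7 : 7 ≤ Fintype.card ι) (n : ℕ) (hcard : Fintype.card ι = 2 * n) (hn4 : 4 ≤ n)
    (hne : ∃ v, Q v ≠ 0) (w : ℕ) (hw : w < n)
    (hW : ∀ U : Submodule F (ι → F), (∀ u ∈ U, Q u = 0) → finrank F ↥U ≤ w)
    (g : ↥(GOq Q)) (hg : eps Q hne n g ≠ 1) (lam : F)
    (hgg : ((g : GL ι F) : Matrix ι ι F) * ((g : GL ι F) : Matrix ι ι F) =
      lam • (1 : Matrix ι ι F))
    (N : Subgroup (MulAut (Cfsg.POmega F (⇑Q : (ι → F) → F)))) [Finite N]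
    (hodd : Odd (Nat.card N))
    (hNr : N ≤ (cHom (⇑Q : (ι → F) → F)).range)
    (hNc : N ≤ Subgroup.centralizer {cHom (⇑Q : (ι → F) → F) g})
    (hnorm : ∀ ρ : ↥(Cfsg.isometryGroup F (⇑Q : (ι → F) → F)),
      ρ ∈ Cfsg.Omega F (⇑Q : (ι → F) → F) → (ρ : GL ι F) * (g : GL ι F) = (g : GL ι F) * (ρ : GL ι F) →
      ∀ x ∈ N, c0 Q ρ * x * (c0 Q ρ)⁻¹ ∈ N) : N = ⊥ := by
  classical
  have hker := c0_ker Q hQ hn7 hne
  have hNrange : N ≤ (c0 Q).range := by
    intro x hx
    exact odd_mem_c0_range Q hQ hn7 hne x (hNr hx) _ hodd (pow_card_eq_one_of_mem N x hx)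
  obtain ⟨H₀, hcard₀, hmap, hchar⟩ := odd_lift (c0 Q) hker N hodd hNrange
  set k := Nat.card N with hk
  set Φ' : ↥(Cfsg.isometryGroup F (⇑Q : (ι → F) → F)) →* ((ι → F) ≃ₗ[F] (ι → F)) :=
    (glLin (ι := ι) (F := F)).toMonoidHom.comp (Cfsg.isometryGroup F (⇑Q : (ι → F) → F)).subtype
    with hΦ'
  have hΦ'app : ∀ T : ↥(Cfsg.isometryGroup F (⇑Q : (ι → F) → F)), Φ' T = glLin (T : GL ι F) :=
    fun T => rfl
  have hΦinj : Function.Injective Φ' := fun a b hab => Subtype.ext (glLin.injective hab)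
  set H : Subgroup ((ι → F) ≃ₗ[F] (ι → F)) := H₀.map Φ' with hH
  have hHcard : Nat.card H = k := by rw [hH, Subgroup.card_map_of_injective hΦinj, hcard₀]
  have hkpos : 0 < k := Nat.card_pos
  have hHfin : Finite H := Nat.finite_of_card_ne_zero (by rw [hHcard]; omega)
  have hHodd : Odd (Nat.card H) := by rw [hHcard]; exact hodd
  have hHiso : ∀ h ∈ H, ∀ v, Q (h v) = Q v := by
    rintro _ ⟨T, hT, rfl⟩ v
    rw [hΦ'app, glLin_apply]
    exact iso_pres (⇑Q : (ι → F) → F) T v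
  set g' : (ι → F) ≃ₗ[F] (ι → F) := glLin (g : GL ι F) with hg'
  have hHc : ∀ h ∈ H, h * g' = g' * h := by
    rintro _ ⟨T, hT, rfl⟩
    have hT' := (hchar T).mp hT
    have hcomm : c0 Q T * cHom (⇑Q : (ι → F) → F) g = cHom (⇑Q : (ι → F) → F) g * c0 Q T := by
      have := hNc hT'.1
      rw [Subgroup.mem_centralizer_iff] at this
      exact (this _ (Set.mem_singleton _)).symm
    have := exact_comm Q hQ hn7 hne g T k hodd hT'.2 hcomm
    rw [hΦ'app, hg', ← map_mul, ← map_mul, this]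
  have hN : ∀ s t : (ι → F) ≃ₗ[F] (ι → F), (∀ v, Q (s v) = Q v) → (∀ v, Q (t v) = Q v) →
      ⁅s, t⁆ * g' = g' * ⁅s, t⁆ → ∀ h ∈ H, ⁅s, t⁆ * h * ⁅s, t⁆⁻¹ ∈ H := by
    intro s t hs ht hst h hh
    obtain ⟨T, hT, rfl⟩ := hh
    have hs₀ : (glLin.symm s : GL ι F) ∈ Cfsg.isometryGroup F (⇑Q : (ι → F) → F) := by
      rw [mem_iso_iff]
      intro x
      rw [glLin_symm_mulVec]
      exact hs x
    have ht₀ : (glLin.symm t : GL ι F) ∈ Cfsg.isometryGroup F (⇑Q : (ι → F) → F) := by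
      rw [mem_iso_iff]
      intro x
      rw [glLin_symm_mulVec]
      exact ht x
    set S : ↥(Cfsg.isometryGroup F (⇑Q : (ι → F) → F)) := ⟨glLin.symm s, hs₀⟩ with hS
    set T₂ : ↥(Cfsg.isometryGroup F (⇑Q : (ι → F) → F)) := ⟨glLin.symm t, ht₀⟩ with hT₂
    have hρΩ : ⁅S, T₂⁆ ∈ Cfsg.Omega F (⇑Q : (ι → F) → F) :=
      Subgroup.commutator_mem_commutator (Subgroup.mem_top S) (Subgroup.mem_top T₂)
    have hΦρ : Φ' ⁅S, T₂⁆ = ⁅s, t⁆ := by
      rw [map_commutatorElement, hΦ'app, hΦ'app]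
      show ⁅glLin (glLin.symm s), glLin (glLin.symm t)⁆ = _
      rw [MulEquiv.apply_symm_apply, MulEquiv.apply_symm_apply]
    have hρg : ((⁅S, T₂⁆ : ↥(Cfsg.isometryGroup F (⇑Q : (ι → F) → F))) : GL ι F) * (g : GL ι F) =
        (g : GL ι F) * ((⁅S, T₂⁆ : ↥(Cfsg.isometryGroup F (⇑Q : (ι → F) → F))) : GL ι F) := by
      apply glLin.injective
      rw [map_mul, map_mul, ← hΦ'app, hΦρ]
      exact hst
    have hT' := (hchar T).mp hT
    refine ⟨⁅S, T₂⁆ * T * ⁅S, T₂⁆⁻¹, ?_, ?_⟩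
    · rw [SetLike.mem_coe, hchar]
      refine ⟨?_, ?_⟩
      · rw [map_mul, map_mul, map_inv]
        exact hnorm _ hρΩ hρg _ hT'.1
      · rw [conj_pow, hT'.2, mul_one, mul_inv_cancel]
    · rw [map_mul, map_mul, map_inv, hΦρ]
  have hfr : finrank F (ι → F) = 2 * n := by rw [Module.finrank_fintype_fun_eq_card, hcard]
  have hHbot : H = ⊥ := by
    rcases graph_inv_shape_strong Q h2 n hcard hne w hw hW g hg lam hgg with
      ⟨hns, hnodd, hlam⟩ | ⟨ν, hν0, hμν, hlamν⟩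
    · -- type B
      have h5 : 5 ≤ n := by
        obtain ⟨j, hj⟩ := hnodd
        omega
      apply typeB_core Q h2 hQ _ hns g' _ _ n hfr hnodd h5 H hHodd hHiso hHc hN
      · intro v
        rw [hg', glLin_apply, glLin_apply, Matrix.mulVec_mulVec, hgg, hlam, Matrix.smul_mulVec,
          Matrix.one_mulVec]
      · intro v
        rw [hg', glLin_apply]
        exact mult_spec Q g v
    · -- type A
      set νu : Fˣ := Units.mk0 ν⁻¹ (inv_ne_zero hν0) with hνu
      set ζ : (ι → F) ≃ₗ[F] (ι → F) := glLin ((scalGO Q νu : ↥(GOq Q)) : GL ι F) with hζ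
      have hζapp : ∀ v, ζ v = ν⁻¹ • v := by
        intro v
        rw [hζ, glLin_apply, scalGO_coe, Matrix.smul_mulVec, Matrix.one_mulVec, hνu, Units.val_mk0]
      have hζc : ∀ a : (ι → F) ≃ₗ[F] (ι → F), a * ζ = ζ * a := by
        intro a
        apply LinearEquiv.ext
        intro v
        rw [LinearEquiv.mul_apply, LinearEquiv.mul_apply, hζapp, hζapp, map_smul]
      set g₁ : (ι → F) ≃ₗ[F] (ι → F) := ζ * g' with hg₁
      have hg₁app : ∀ v, g₁ v = ν⁻¹ • (((g : GL ι F) : Matrix ι ι F) *ᵥ v) := by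
        intro v
        rw [hg₁, LinearEquiv.mul_apply, hζapp, hg', glLin_apply]
      have hg₁sq : g₁ * g₁ = 1 := by
        apply LinearEquiv.ext
        intro v
        rw [LinearEquiv.mul_apply, hg₁app, hg₁app, Matrix.mulVec_smul, Matrix.mulVec_mulVec, hgg,
          hlamν, Matrix.smul_mulVec, Matrix.one_mulVec, smul_smul, smul_smul]
        have : ν⁻¹ * ν⁻¹ * (ν * ν) = 1 := by field_simp
        rw [this, one_smul]
        rfl
      have hg₁iso : ∀ v, Q (g₁ v) = Q v := by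
        intro v
        rw [hg₁app, QuadraticMap.map_smul, mult_spec, hμν, smul_eq_mul]
        field_simp
      have hdet : LinearMap.det (g₁ : (ι → F) →ₗ[F] (ι → F)) = -1 := by
        have e1 : LinearMap.det (g₁ : (ι → F) →ₗ[F] (ι → F)) =
            (ν⁻¹) ^ (2 * n) * ((g : GL ι F) : Matrix ι ι F).det := by
          have : (g₁ : (ι → F) →ₗ[F] (ι → F)) =
              (ν⁻¹) • ((g' : (ι → F) ≃ₗ[F] (ι → F)) : (ι → F) →ₗ[F] (ι → F)) := by
            apply LinearMap.ext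
            intro v
            rw [LinearEquiv.coe_coe, hg₁app, LinearMap.smul_apply, LinearEquiv.coe_coe, hg',
              glLin_apply]
          rw [this, LinearMap.det_smul, hfr, hg', det_glLin]
        have e2 : LinearMap.det (g₁ : (ι → F) →ₗ[F] (ι → F)) *
            LinearMap.det (g₁ : (ι → F) →ₗ[F] (ι → F)) = 1 := by
          rw [← LinearEquiv.coe_det, ← Units.val_mul, ← map_mul, hg₁sq, map_one, Units.val_one]
        have e3 : (LinearMap.det (g₁ : (ι → F) →ₗ[F] (ι → F)) - 1) *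
            (LinearMap.det (g₁ : (ι → F) →ₗ[F] (ι → F)) + 1) = 0 := by
          linear_combination e2
        rcases mul_eq_zero.mp e3 with h | h
        · exfalso
          apply hg
          rw [eps_eq_one_iff, hμν]
          have h' : LinearMap.det (g₁ : (ι → F) →ₗ[F] (ι → F)) = 1 := by linear_combination h
          rw [e1] at h'
          have e4 : (ν * ν) ^ n = ν ^ (2 * n) := by rw [← pow_two, ← pow_mul]
          rw [e4]
          have e5 : ν ^ (2 * n) * ((ν⁻¹) ^ (2 * n) * ((g : GL ι F) : Matrix ι ι F).det) =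
              ((g : GL ι F) : Matrix ι ι F).det := by
            rw [← mul_assoc, ← mul_pow, mul_inv_cancel₀ hν0, one_pow, one_mul]
          rw [← e5, h', mul_one]
        · linear_combination h
      have hHc₁ : ∀ h ∈ H, h * g₁ = g₁ * h := by
        intro h hh
        rw [hg₁, comm_central_iff ζ h g' hζc]
        exact hHc h hh
      have hN₁ : ∀ s t : (ι → F) ≃ₗ[F] (ι → F), (∀ v, Q (s v) = Q v) → (∀ v, Q (t v) = Q v) →
          ⁅s, t⁆ * g₁ = g₁ * ⁅s, t⁆ → ∀ h ∈ H, ⁅s, t⁆ * h * ⁅s, t⁆⁻¹ ∈ H := by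
        intro s t hs ht hst h hh
        rw [hg₁, comm_central_iff ζ _ g' hζc] at hst
        exact hN s t hs ht hst h hh
      exact typeA_core' Q h2 hQ g₁ hg₁sq hg₁iso hdet (by omega) (by rw [hfr]; exact even_two_mul n)
        H hHodd hHiso hHc₁ hN₁
  have hH₀bot : H₀ = ⊥ := (Subgroup.map_eq_bot_iff_of_injective H₀ hΦinj).mp hHbot
  rw [← hmap, hH₀bot, Subgroup.map_bot]

end Cfsg.Agent.Lib.Helper16.OB
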