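import Mathlib
import Cfsg.Agent.Lib.Helper16.OB15

set_option autoImplicit false
set_option linter.unusedSectionVars false
set_option linter.unusedVariables false

/-! An odd-order automorphism commuting with the automorphism induced by an isometry fixes its
trace. -/

namespace Cfsg.Agent.Lib.Helper16.OB

open Matrix Module Cfsg.Agent.Lib.Lead Cfsg.Agent.Lib.Lead.OA Cfsg.Agent.Lib.Helper16
  Cfsg.Agent.Lib.Helper16.OA Cfsg.Agent.Lib.Helper16.OL Cfsg.Agent.Lib.Helper16.PSC
  Cfsg.Agent.Lib.Lead.OAP Cfsg.Agent.Lib.Lead.OAM Cfsg.Agent.Lib.Helper16.OM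

universe u v

variable {ι : Type} [Fintype ι] [DecidableEq ι] {F : Type u} [Field F] [Fintype F]
variable (Q : QuadraticForm F (ι → F))

theorem scalar_central_GL (z : GL ι F) (d : F) (hd : (z : Matrix ι ι F) = d • (1 : Matrix ι ι F))
    (a : GL ι F) : a * z = z * a := by
  apply Units.ext
  rw [Units.val_mul, Units.val_mul, hd, Matrix.mul_smul, Matrix.smul_mul, Matrix.mul_one,
    Matrix.one_mul]

set_option maxHeartbeats 1600000 in
theorem tau_fix_tr (hQ : (QuadraticMap.polarBilin Q).Nondegenerate) (hn7 : 7 ≤ Fintype.card ι)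
    (hne : ∃ v, Q v ≠ 0) (y : ↥(gammaO (⇑Q : (ι → F) → F))) (k : ℕ) (hk : Odd k)
    (hyk : (ssHom (⇑Q : (ι → F) → F) y) ^ k = 1)
    (ρ : ↥(Cfsg.isometryGroup F (⇑Q : (ι → F) → F)))
    (hc : ssHom (⇑Q : (ι → F) → F) y * c0 Q ρ = c0 Q ρ * ssHom (⇑Q : (ι → F) → F) y) :
    (y : GammaL ι F).right (((ρ : GL ι F) : Matrix ι ι F).trace) =
      ((ρ : GL ι F) : Matrix ι ι F).trace := by
  set σy : MulAut (GL ι F) := ssGL ι F (y : GammaL ι F) with hσy
  set τ : RingAut F := (y : GammaL ι F).right with hτ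
  set ρ' : ↥(GOq Q) := isoToGO Q ρ with hρ'
  have hmem : σy (ρ : GL ι F) ∈ Cfsg.isometryGroup F (⇑Q : (ι → F) → F) := ss_conj_mem y.2 ρ.2
  have h1 := ssHom_conj_cHom (⇑Q : (ι → F) → F) y ρ'
  have h3 : ssHom (⇑Q : (ι → F) → F) y * cHom (⇑Q : (ι → F) → F) ρ' *
      (ssHom (⇑Q : (ι → F) → F) y)⁻¹ = cHom (⇑Q : (ι → F) → F) ρ' := by
    rw [c0_apply] at hc
    rw [hc, mul_inv_cancel_right]
  rw [h3] at h1
  set zG : ↥(GOq Q) := ⟨ssGL ι F (y : GammaL ι F) (ρ' : GL ι F), ssGL_mem_GO y.2 ρ'.2⟩ * ρ'⁻¹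
    with hzG
  have hcz : cHom (⇑Q : (ι → F) → F) zG = 1 := by
    rw [hzG, map_mul, map_inv, ← h1, mul_inv_cancel]
  obtain ⟨d, hd⟩ := cHom_ker_scalar Q hQ hn7 _ hcz
  obtain ⟨z, hz⟩ : ∃ z : GL ι F, z = σy (ρ : GL ι F) * (ρ : GL ι F)⁻¹ := ⟨_, rfl⟩
  have hzval : (z : Matrix ι ι F) = d • (1 : Matrix ι ι F) := by rw [hz]; exact hd
  have hziso : (zG : GL ι F) ∈ Cfsg.isometryGroup F (⇑Q : (ι → F) → F) :=
    (Cfsg.isometryGroup F (⇑Q : (ι → F) → F)).mul_mem hmem
      ((Cfsg.isometryGroup F (⇑Q : (ι → F) → F)).inv_mem ρ.2)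
  have hmz : mult Q zG = 1 := (mult_eq_one_iff Q hne zG).mpr hziso
  have hdd : d * d = 1 := by
    have := mult_of_scalar Q hne zG d hd
    rw [hmz, Units.val_one] at this
    exact this.symm
  have hzz : z * z = 1 := by
    apply Units.ext
    rw [Units.val_mul, hzval, Matrix.smul_mul, Matrix.one_mul, smul_smul, hdd, one_smul]
    rfl
  have hzc : ∀ a : GL ι F, a * z = z * a := scalar_central_GL z d hzval
  have hτd : τ d = d := by
    have : (d - 1) * (d + 1) = 0 := by linear_combination hdd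
    rcases mul_eq_zero.mp this with h | h
    · have : d = 1 := by linear_combination h
      rw [this, map_one]
    · have : d = -1 := by linear_combination h
      rw [this, map_neg, map_one]
  have hσz : σy z = z := by
    rw [hσy, ssGL_apply]
    have e1 : glMapEquiv τ z = z := by
      apply Units.ext
      rw [glMapEquiv_val, hzval]
      ext i j
      rw [Matrix.map_apply]
      show τ (d * (1 : Matrix ι ι F) i j) = d * (1 : Matrix ι ι F) i j
      rw [map_mul, hτd, Matrix.one_apply]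
      split_ifs
      · rw [map_one]
      · rw [map_zero]
    rw [e1, hzc, mul_inv_cancel_right]
  have hσρ : σy (ρ : GL ι F) = z * (ρ : GL ι F) := by
    rw [hz, inv_mul_cancel_right]
  have hpow : ∀ i : ℕ, (σy ^ i) (ρ : GL ι F) = z ^ i * (ρ : GL ι F) := by
    intro i
    induction i with
    | zero => simp
    | succ i ih =>
      rw [pow_succ', MulAut.mul_apply, ih, map_mul, map_pow, hσz, hσρ, pow_succ, mul_assoc]
  -- the `k`-th power acts trivially
  have hk1 : ssHom (⇑Q : (ι → F) → F) (y ^ k) = 1 := by rw [map_pow]; exact hyk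
  have hright : ((y ^ k : ↥(gammaO (⇑Q : (ι → F) → F))) : GammaL ι F).right = 1 := by
    have := ssHom_ker_le Q hQ hn7 (MonoidHom.mem_ker.mpr hk1)
    rw [MonoidHom.mem_ker, ssRight_apply] at this
    exact this
  obtain ⟨e, he⟩ := ssHom_ker_scalar Q hQ hn7 _ hk1
  have hσk : (σy ^ k) (ρ : GL ι F) = (ρ : GL ι F) := by
    rw [hσy, ← map_pow, ← Subgroup.coe_pow, ssGL_apply, hright]
    have e1 : glMapEquiv (1 : RingAut F) (ρ : GL ι F) = (ρ : GL ι F) := by
      apply Units.ext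
      rw [glMapEquiv_val]
      ext i j
      rfl
    rw [e1, ← scalar_central_GL _ e he, mul_inv_cancel_right]
  have hzk : z ^ k = 1 := by
    have := hpow k
    rw [hσk] at this
    exact (mul_eq_right.mp this.symm)
  have hz1 : z = 1 := by
    rw [← pow_odd_of_sq z hzz k hk]
    exact hzk
  rw [hz1, one_mul, hσy, ssGL_apply] at hσρ
  have hmat := congrArg (fun x : GL ι F => (x : Matrix ι ι F).trace) hσρ
  simp only [Units.val_mul] at hmat
  rw [Matrix.trace_units_conj, glMapEquiv_val] at hmat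
  have hτtr : ∀ M : Matrix ι ι F, (M.map ⇑τ).trace = τ M.trace := by
    intro M
    have := AddMonoidHom.map_trace ((τ : F ≃+* F) : F →+ F) M
    exact this.symm
  rw [hτtr] at hmat
  exact hmat

/-- a field automorphism fixing `c₀ + c₁ z²` for all `z ≠ 2`, with `c₀, c₁` fixed and `c₁ ≠ 0`, is
trivial. -/
theorem tau_eq_one_of_fix (h2 : (2 : F) ≠ 0) (τ : RingAut F) (c₀ c₁ : F) (hc₀ : τ c₀ = c₀)
    (hc₁ : τ c₁ = c₁) (hc₁0 : c₁ ≠ 0)
    (hfix : ∀ z : F, z ≠ 2 → τ (c₀ + c₁ * z ^ 2) = c₀ + c₁ * z ^ 2) : τ = 1 := by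
  have hsq : ∀ z : F, τ (z ^ 2) = z ^ 2 := by
    intro z
    have key : ∀ z : F, z ≠ 2 → τ (z ^ 2) = z ^ 2 := by
      intro z hz
      have := hfix z hz
      rw [map_add, map_mul, hc₀, hc₁] at this
      have h3 := add_left_cancel this
      exact mul_left_cancel₀ hc₁0 h3
    by_cases hz : z = 2
    · have h1 : (-z) ≠ 2 := by
        rw [hz]
        intro h
        have : (2 : F) * 2 = 0 := by linear_combination -h
        rcases mul_eq_zero.mp this with h | h <;> exact h2 h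
      have := key (-z) h1
      rwa [neg_sq] at this
    · exact key z hz
  apply RingEquiv.ext
  intro a
  have e1 : a = ((a + 1) / 2) ^ 2 - ((a - 1) / 2) ^ 2 := by
    field_simp
    ring
  show τ a = a
  rw [e1, map_sub, hsq, hsq]

end Cfsg.Agent.Lib.Helper16.OB
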