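import Mathlib
import Cfsg.Agent.Lib.Helper16.OB12

set_option autoImplicit false
set_option linter.unusedSectionVars false
set_option linter.unusedVariables false

/-! Pairs of vectors with prescribed polar form inside eigenspaces. -/

namespace Cfsg.Agent.Lib.Helper16.OB

open Module Cfsg.Agent.Lib.Helper16 QuadraticAlgebra

universe u v

section pair

variable {K : Type u} [Field K] [Fintype K]

theorem exists_pair_polar (h2 : (2 : K) ≠ 0) {U : Type v} [AddCommGroup U] [Module K U]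
    [FiniteDimensional K U] (Q : QuadraticForm K U)
    (hQ : (QuadraticMap.polarBilin Q).Nondegenerate) (h3 : 3 ≤ finrank K U) (z : K) :
    ∃ u v : U, Q u = 1 ∧ Q v = 1 ∧ QuadraticMap.polar (⇑Q) u v = z := by
  obtain ⟨u, hu⟩ := univ2 h2 Q hQ (by omega) 1
  obtain ⟨y, hy, hyo⟩ := orth_ext h2 1 Q hQ ![u] (by
      intro i
      fin_cases i
      show Q u ≠ 0
      rw [hu]; exact one_ne_zero) (by
      intro i i' hii'
      fin_cases i; fin_cases i'
      exact absurd rfl hii') (by omega) (1 - z ^ 2 / 4)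
  have huy : QuadraticMap.polar (⇑Q) u y = 0 := hyo 0
  have h4 : (4 : K) ≠ 0 := by
    have : (4 : K) = 2 * 2 := by norm_num
    rw [this]
    exact mul_ne_zero h2 h2
  refine ⟨u, (z / 2) • u + y, hu, ?_, ?_⟩
  · rw [quad_add, QuadraticMap.map_smul, QuadraticMap.polar_smul_left, huy, hu, hy]
    simp only [smul_eq_mul]
    field_simp
    ring
  · rw [QuadraticMap.polar_add_right, QuadraticMap.polar_smul_right, polar_self2, hu, huy]
    simp only [smul_eq_mul]
    field_simp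
    ring

variable {U : Type v} [AddCommGroup U] [Module K U] [FiniteDimensional K U]
variable (Q : QuadraticForm K U)

set_option quotPrecheck false in
local notation "pol" => QuadraticMap.polar (⇑Q)

theorem exists_fix_pair (h2 : (2 : K) ≠ 0) (hQ : (QuadraticMap.polarBilin Q).Nondegenerate)
    (g : U ≃ₗ[K] U) (hg : g * g = 1) (hiso : ∀ v, Q (g v) = Q v)
    (h3 : 3 ≤ finrank K ↥(fixS g)) (z : K) :
    ∃ u v : U, Q u = 1 ∧ Q v = 1 ∧ pol u v = z ∧ g u = u ∧ g v = v := by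
  have hQW := fix_nondeg Q h2 hQ g hg hiso
  obtain ⟨u, v, hu, hv, huv⟩ := exists_pair_polar h2 (Q.comp (fixS g).subtype) hQW h3 z
  rw [polar_comp_subtype] at huv
  exact ⟨u, v, hu, hv, huv, u.2, v.2⟩

theorem exists_eigen_pair (h2 : (2 : K) ≠ 0) (hQ : (QuadraticMap.polarBilin Q).Nondegenerate)
    (g : U ≃ₗ[K] U) (hg : g * g = 1) (hiso : ∀ v, Q (g v) = Q v)
    (hd : 6 ≤ finrank K U) (z : K) :
    ∃ u v : U, Q u = 1 ∧ Q v = 1 ∧ pol u v = z ∧
      ((g u = u ∧ g v = v) ∨ (g u = -u ∧ g v = -v)) := by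
  have hdim := fix_finrank h2 g hg
  rcases Nat.lt_or_ge (finrank K ↥(fixS g)) 3 with h | h
  · have h3 : 3 ≤ finrank K ↥(fixS (negE g)) := by omega
    obtain ⟨u, v, hu, hv, huv, hgu, hgv⟩ := exists_fix_pair Q h2 hQ (negE g) (negE_mul_self g hg)
      (negE_iso Q g hiso) h3 z
    rw [negE_apply] at hgu hgv
    exact ⟨u, v, hu, hv, huv, Or.inr ⟨neg_eq_iff_eq_neg.mp hgu, neg_eq_iff_eq_neg.mp hgv⟩⟩
  · obtain ⟨u, v, hu, hv, huv, hgu, hgv⟩ := exists_fix_pair Q h2 hQ g hg hiso h z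
    exact ⟨u, v, hu, hv, huv, Or.inl ⟨hgu, hgv⟩⟩

end pair

section typeB

variable {K : Type u} [Field K] [Fintype K] {U : Type v} [AddCommGroup U] [Module K U]
variable [FiniteDimensional K U] (Q : QuadraticForm K U)

set_option quotPrecheck false in
local notation "pol" => QuadraticMap.polar (⇑Q)

set_option maxHeartbeats 800000 in
theorem typeB_vectorsE (μ : K) [Module (QuadraticAlgebra K μ 0) U]
    [IsScalarTower K (QuadraticAlgebra K μ 0) U] [hF : Fact (∀ r : K, r ^ 2 ≠ μ + 0 * r)]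
    (h2 : (2 : K) ≠ 0) (hQ : (QuadraticMap.polarBilin Q).Nondegenerate)
    (hT : ∀ v : U, Q ((ω : QuadraticAlgebra K μ 0) • v) = μ * Q v)
    (h3 : 3 ≤ finrank (QuadraticAlgebra K μ 0) U) :
    ∃ e₁ e₂ : U, Q e₁ = 1 ∧ Q e₂ = 1 ∧ pol e₁ e₂ = 0 ∧
      pol e₁ ((ω : QuadraticAlgebra K μ 0) • e₁) = 0 ∧
      pol e₂ ((ω : QuadraticAlgebra K μ 0) • e₂) = 0 ∧
      pol e₁ ((ω : QuadraticAlgebra K μ 0) • e₂) = 0 := by
  classical
  have hμ : μ ≠ 0 := by
    intro h0
    have := hF.out 0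
    rw [h0] at this
    simp at this
  have : Fintype (QuadraticAlgebra K μ 0) := Fintype.ofEquiv (K × K) (equivProd μ 0).symm
  have hfd : FiniteDimensional (QuadraticAlgebra K μ 0) U :=
    Module.Finite.of_restrictScalars_finite K (QuadraticAlgebra K μ 0) U
  have h2E : (2 : QuadraticAlgebra K μ 0) ≠ 0 := by
    intro h0
    have := congrArg QuadraticAlgebra.re h0
    rw [re_ofNat, re_zero] at this
    exact h2 this
  have hQE := QE_nondeg μ Q h2 hμ hT hQ
  obtain ⟨e₁, he₁⟩ := univ2 h2E (QE μ Q hμ hT) hQE (by omega) 1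
  obtain ⟨e₂, he₂, he₂o⟩ := orth_ext h2E 1 (QE μ Q hμ hT) hQE ![e₁] (by
      intro i
      fin_cases i
      show QE μ Q hμ hT e₁ ≠ 0
      rw [he₁]; exact one_ne_zero) (by
      intro i i' hii'
      fin_cases i; fin_cases i'
      exact absurd rfl hii') (by omega) 1
  have h12 : QuadraticMap.polar (⇑(QE μ Q hμ hT)) e₁ e₂ = 0 := he₂o 0
  rw [polar_QE μ Q h2 hμ hT] at h12
  have key : ∀ e : U, QE μ Q hμ hT e = 1 →
      Q e = 1 ∧ pol e ((ω : QuadraticAlgebra K μ 0) • e) = 0 := by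
    intro e he
    constructor
    · rw [← QE_re μ Q h2 hμ hT, he]
      rfl
    · have h1 := congrArg QuadraticAlgebra.im he
      rw [QE_apply] at h1
      unfold beFun at h1
      rw [im_smul] at h1
      have h3 : (2 : K)⁻¹ * (μ⁻¹ * pol e ((ω : QuadraticAlgebra K μ 0) • e)) = 0 := h1
      rcases mul_eq_zero.mp h3 with h | h
      · exact absurd h (inv_ne_zero h2)
      · rcases mul_eq_zero.mp h with h | h
        · exact absurd h (inv_ne_zero hμ)
        · exact h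
  obtain ⟨a1, a2⟩ := key e₁ he₁
  obtain ⟨b1, b2⟩ := key e₂ he₂
  refine ⟨e₁, e₂, a1, b1, ?_, a2, b2, ?_⟩
  · exact congrArg QuadraticAlgebra.re h12
  · have h1 := congrArg QuadraticAlgebra.im h12
    unfold beFun at h1
    have h3 : μ⁻¹ * pol e₁ ((ω : QuadraticAlgebra K μ 0) • e₂) = 0 := h1
    rcases mul_eq_zero.mp h3 with h | h
    · exact absurd h (inv_ne_zero hμ)
    · exact h

set_option maxHeartbeats 1600000 in
theorem typeB_vectors (h2 : (2 : K) ≠ 0) (hQ : (QuadraticMap.polarBilin Q).Nondegenerate)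
    (μ : K) (hμns : ¬ IsSquare μ) (w : U ≃ₗ[K] U) (hww : ∀ v, w (w v) = μ • v)
    (hwQ : ∀ v, Q (w v) = μ * Q v) (n : ℕ) (hdim : finrank K U = 2 * n) (h3 : 3 ≤ n) :
    ∃ e₁ e₂ : U, Q e₁ = 1 ∧ Q e₂ = 1 ∧ pol e₁ e₂ = 0 ∧ pol e₁ (w e₁) = 0 ∧
      pol e₂ (w e₂) = 0 ∧ pol e₁ (w e₂) = 0 := by
  have hF : Fact (∀ r : K, r ^ 2 ≠ μ + 0 * r) := by
    constructor
    intro r hr
    apply hμns
    refine ⟨r, ?_⟩
    rw [← pow_two, hr, zero_mul, add_zero]
  have hw2 : (w : U →ₗ[K] U) * (w : U →ₗ[K] U) = μ • (1 : Module.End K U) + (0 : K) • (w : U →ₗ[K] U) := by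
    apply LinearMap.ext
    intro v
    rw [zero_smul, add_zero]
    exact hww v
  let φ : QuadraticAlgebra K μ 0 →ₐ[K] Module.End K U :=
    QuadraticAlgebra.lift ⟨(w : U →ₗ[K] U), hw2⟩
  let _ : Module (QuadraticAlgebra K μ 0) U := Module.compHom U φ.toRingHom
  have hsm : ∀ (e : QuadraticAlgebra K μ 0) (v : U), e • v = φ e v := fun e v => rfl
  have hst : IsScalarTower K (QuadraticAlgebra K μ 0) U := by
    constructor
    intro c e v
    rw [hsm, hsm, map_smul]
    rfl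
  have hω : ∀ v : U, (ω : QuadraticAlgebra K μ 0) • v = w v := by
    intro v
    rw [hsm]
    show (QuadraticAlgebra.lift ⟨(w : U →ₗ[K] U), hw2⟩ : QuadraticAlgebra K μ 0 →ₐ[K] Module.End K U) ω v = _
    rw [QuadraticAlgebra.lift_apply_apply]
    simp
  have hfr : finrank (QuadraticAlgebra K μ 0) U = n := by
    have h1 := Module.finrank_mul_finrank K (QuadraticAlgebra K μ 0) U
    rw [QuadraticAlgebra.finrank_eq_two, hdim] at h1
    omega
  obtain ⟨e₁, e₂, a1, a2, a3, a4, a5, a6⟩ := typeB_vectorsE Q μ h2 hQ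
    (by intro v; rw [hω]; exact hwQ v) (by rw [hfr]; exact h3)
  rw [hω] at a4 a5 a6
  exact ⟨e₁, e₂, a1, a2, a3, a4, a5, a6⟩

end typeB

end Cfsg.Agent.Lib.Helper16.OB
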