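import Mathlib
import Cfsg.Agent.Lib.Helper16.OB16
import Cfsg.Agent.Lib.Helper16.OB17

set_option autoImplicit false
set_option linter.unusedSectionVars false
set_option linter.unusedVariables false

/-! Elements of `Ω` commuting with a graph involution, with prescribed traces. -/

namespace Cfsg.Agent.Lib.Helper16.OB

open Matrix Module Cfsg.Agent.Lib.Lead Cfsg.Agent.Lib.Lead.OA Cfsg.Agent.Lib.Helper16
  Cfsg.Agent.Lib.Helper16.OA Cfsg.Agent.Lib.Helper16.OL Cfsg.Agent.Lib.Helper16.PSC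
  Cfsg.Agent.Lib.Lead.OAP Cfsg.Agent.Lib.Lead.OAM Cfsg.Agent.Lib.Helper16.OM
  Cfsg.Agent.Lib.helper6
open scoped commutatorElement

universe u v

variable {ι : Type} [Fintype ι] [DecidableEq ι] {F : Type u} [Field F] [Fintype F]
variable (Q : QuadraticForm F (ι → F))

theorem glLin_reflG (u : ι → F) (hu : Q u ≠ 0) :
    glLin ((reflG Q u hu : ↥(Cfsg.isometryGroup F (⇑Q : (ι → F) → F))) : GL ι F) = rf Q u := by
  apply LinearEquiv.ext
  intro x
  rw [glLin_apply, reflG_coe, reflectionMatrix_mulVec, rf_apply]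

theorem Q_sub_of_eq (u v : ι → F) (hv : Q v = Q u) :
    Q (u - v) = 2 * Q u - QuadraticMap.polar (⇑Q) u v := by
  have := quad_sub_smul Q u v 1
  rw [one_smul] at this
  rw [this, hv, QuadraticMap.polar_comm (⇑Q) v u]
  ring

theorem reflG_mul_mem_omega (u v : ι → F) (hu : Q u ≠ 0) (hv : Q v ≠ 0) (huv : Q v = Q u)
    (hne : Q (u - v) ≠ 0) :
    reflG Q u hu * reflG Q v hv ∈ Cfsg.Omega F (⇑Q : (ι → F) → F) := by
  have h1 : reflG Q u hu * reflG Q v hv = ⁅reflG Q u hu, reflG Q (u - v) hne⁆ := by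
    apply Subtype.ext
    apply glLin.injective
    rw [Subgroup.coe_mul, map_mul, glLin_reflG, glLin_reflG]
    have e1 : ((⁅reflG Q u hu, reflG Q (u - v) hne⁆ :
        ↥(Cfsg.isometryGroup F (⇑Q : (ι → F) → F))) : GL ι F) =
        ⁅((reflG Q u hu : ↥(Cfsg.isometryGroup F (⇑Q : (ι → F) → F))) : GL ι F),
          ((reflG Q (u - v) hne : ↥(Cfsg.isometryGroup F (⇑Q : (ι → F) → F))) : GL ι F)⁆ := by
      rw [commutatorElement_def, commutatorElement_def]
      rfl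
    rw [e1, map_commutatorElement, glLin_reflG, glLin_reflG]
    exact rf_mul_rf_eq_commutator Q u v huv hne
  rw [h1]
  exact Subgroup.commutator_mem_commutator (Subgroup.mem_top _) (Subgroup.mem_top _)

/-- an element of `Ω` commuting with `g` with trace `t`. -/
def GoodTr (g : ↥(GOq Q)) (t : F) : Prop :=
  ∃ ρ : ↥(Cfsg.isometryGroup F (⇑Q : (ι → F) → F)), ρ ∈ Cfsg.Omega F (⇑Q : (ι → F) → F) ∧
    (ρ : GL ι F) * (g : GL ι F) = (g : GL ι F) * (ρ : GL ι F) ∧
    ((ρ : GL ι F) : Matrix ι ι F).trace = t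

set_option maxHeartbeats 1600000 in
theorem goodTr_A (h2 : (2 : F) ≠ 0) (hQ : (QuadraticMap.polarBilin Q).Nondegenerate)
    (g : ↥(GOq Q)) (ν : F) (hν0 : ν ≠ 0) (hμν : ((mult Q g : Fˣ) : F) = ν * ν)
    (hgg : ((g : GL ι F) : Matrix ι ι F) * ((g : GL ι F) : Matrix ι ι F) =
      (ν * ν) • (1 : Matrix ι ι F))
    (hcard6 : 6 ≤ Fintype.card ι) (z : F) (hz : z ≠ 2) :
    GoodTr Q g ((Fintype.card ι : F) - 4 + z ^ 2) := by
  -- the involution
  set g₁ : (ι → F) ≃ₗ[F] (ι → F) :=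
    glLin ((scalGO Q (Units.mk0 ν⁻¹ (inv_ne_zero hν0)) * g : ↥(GOq Q)) : GL ι F) with hg₁
  have hg₁app : ∀ v, g₁ v = ν⁻¹ • (((g : GL ι F) : Matrix ι ι F) *ᵥ v) := by
    intro v
    rw [hg₁, glLin_apply, Subgroup.coe_mul, Units.val_mul, scalGO_coe, Units.val_mk0,
      Matrix.smul_mul, Matrix.one_mul, Matrix.smul_mulVec]
  have hg₁sq : g₁ * g₁ = 1 := by
    apply LinearEquiv.ext
    intro v
    rw [LinearEquiv.mul_apply, hg₁app, hg₁app, Matrix.mulVec_smul, Matrix.mulVec_mulVec, hgg,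
      Matrix.smul_mulVec, Matrix.one_mulVec, smul_smul, smul_smul]
    have : ν⁻¹ * ν⁻¹ * (ν * ν) = 1 := by field_simp
    rw [this, one_smul]
    rfl
  have hg₁iso : ∀ v, Q (g₁ v) = Q v := by
    intro v
    rw [hg₁app, QuadraticMap.map_smul, mult_spec, hμν, smul_eq_mul]
    field_simp
  have hfr : finrank F (ι → F) = Fintype.card ι := Module.finrank_fintype_fun_eq_card F
  obtain ⟨u, v, hu, hv, huv, heig⟩ := exists_eigen_pair Q h2 hQ g₁ hg₁sq hg₁iso
    (by rw [hfr]; exact hcard6) z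
  have hu0 : Q u ≠ 0 := by rw [hu]; exact one_ne_zero
  have hv0 : Q v ≠ 0 := by rw [hv]; exact one_ne_zero
  have hne : Q (u - v) ≠ 0 := by
    rw [Q_sub_of_eq Q u v (by rw [hu, hv]), hu, huv, mul_one]
    intro h
    apply hz
    linear_combination -h
  -- eigenvectors of `g`
  have heig' : ∃ a b : F, ((g : GL ι F) : Matrix ι ι F) *ᵥ u = a • u ∧
      ((g : GL ι F) : Matrix ι ι F) *ᵥ v = b • v := by
    have key : ∀ x : ι → F, ∀ s : F, g₁ x = s • x →
        ((g : GL ι F) : Matrix ι ι F) *ᵥ x = (ν * s) • x := by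
      intro x s hx
      rw [hg₁app] at hx
      have := congrArg (fun y => ν • y) hx
      simp only [smul_smul] at this
      rw [mul_inv_cancel₀ hν0, one_smul] at this
      exact this
    rcases heig with ⟨h1, h3⟩ | ⟨h1, h3⟩
    · exact ⟨ν * 1, ν * 1, key u 1 (by rw [h1, one_smul]), key v 1 (by rw [h3, one_smul])⟩
    · exact ⟨ν * (-1), ν * (-1), key u (-1) (by rw [h1, neg_one_smul]),
        key v (-1) (by rw [h3, neg_one_smul])⟩
  obtain ⟨a, b, hga, hgb⟩ := heig'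
  refine ⟨reflG Q u hu0 * reflG Q v hv0, reflG_mul_mem_omega Q u v hu0 hv0 (by rw [hu, hv]) hne,
    ?_, ?_⟩
  · have c1 := comm_of_eigen Q g u hu0 a hga
    have c2 := comm_of_eigen Q g v hv0 b hgb
    have c3 : isoToGO Q (reflG Q u hu0) * isoToGO Q (reflG Q v hv0) * g =
        g * (isoToGO Q (reflG Q u hu0) * isoToGO Q (reflG Q v hv0)) := by
      rw [mul_assoc, c2, ← mul_assoc, c1, mul_assoc]
    have := congrArg (fun x : ↥(GOq Q) => (x : GL ι F)) c3
    exact this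
  · rw [Subgroup.coe_mul, Units.val_mul, reflG_coe, reflG_coe]
    exact trace_refl_mul' Q u v hu0 (by rw [hu, hv]) z (by rw [huv, hu, mul_one])

theorem two_refl_mulVec (u v x : ι → F) :
    ∃ α β : F, (Cfsg.reflectionMatrix (⇑Q : (ι → F) → F) u *
      Cfsg.reflectionMatrix (⇑Q : (ι → F) → F) v) *ᵥ x = x - α • u - β • v := by
  refine ⟨(Q u)⁻¹ * QuadraticMap.polar (⇑Q) u (x - ((Q v)⁻¹ * QuadraticMap.polar (⇑Q) v x) • v),
    (Q v)⁻¹ * QuadraticMap.polar (⇑Q) v x, ?_⟩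
  rw [← Matrix.mulVec_mulVec, reflectionMatrix_mulVec Q v x, reflectionMatrix_mulVec]
  abel

theorem two_refl_fix (u v x : ι → F) (hux : QuadraticMap.polar (⇑Q) u x = 0)
    (hvx : QuadraticMap.polar (⇑Q) v x = 0) :
    (Cfsg.reflectionMatrix (⇑Q : (ι → F) → F) u *
      Cfsg.reflectionMatrix (⇑Q : (ι → F) → F) v) *ᵥ x = x := by
  rw [← Matrix.mulVec_mulVec, reflectionMatrix_mulVec Q v x, hvx, mul_zero, zero_smul, sub_zero,
    reflectionMatrix_mulVec Q u x, hux, mul_zero, zero_smul, sub_zero]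

/-- the trace of a product of two rotations in orthogonal planes. -/
theorem trace_four_refl (u v u' v' : ι → F)
    (h1 : QuadraticMap.polar (⇑Q) u u' = 0) (h2 : QuadraticMap.polar (⇑Q) u v' = 0)
    (h3 : QuadraticMap.polar (⇑Q) v u' = 0) (h4 : QuadraticMap.polar (⇑Q) v v' = 0) :
    ((Cfsg.reflectionMatrix (⇑Q : (ι → F) → F) u * Cfsg.reflectionMatrix (⇑Q : (ι → F) → F) v) *
      (Cfsg.reflectionMatrix (⇑Q : (ι → F) → F) u' *
        Cfsg.reflectionMatrix (⇑Q : (ι → F) → F) v')).trace =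
    (Cfsg.reflectionMatrix (⇑Q : (ι → F) → F) u *
      Cfsg.reflectionMatrix (⇑Q : (ι → F) → F) v).trace +
    (Cfsg.reflectionMatrix (⇑Q : (ι → F) → F) u' *
      Cfsg.reflectionMatrix (⇑Q : (ι → F) → F) v').trace - (Fintype.card ι : F) := by
  have key : (Cfsg.reflectionMatrix (⇑Q : (ι → F) → F) u *
        Cfsg.reflectionMatrix (⇑Q : (ι → F) → F) v) *
      (Cfsg.reflectionMatrix (⇑Q : (ι → F) → F) u' *
        Cfsg.reflectionMatrix (⇑Q : (ι → F) → F) v') =
      Cfsg.reflectionMatrix (⇑Q : (ι → F) → F) u * Cfsg.reflectionMatrix (⇑Q : (ι → F) → F) v +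
      Cfsg.reflectionMatrix (⇑Q : (ι → F) → F) u' * Cfsg.reflectionMatrix (⇑Q : (ι → F) → F) v' -
      1 := by
    rw [Matrix.ext_iff_mulVec]
    intro x
    obtain ⟨α, β, hαβ⟩ := two_refl_mulVec Q u' v' x
    rw [← Matrix.mulVec_mulVec, Matrix.sub_mulVec, Matrix.add_mulVec, Matrix.one_mulVec, hαβ,
      Matrix.mulVec_sub, Matrix.mulVec_sub, Matrix.mulVec_smul, Matrix.mulVec_smul,
      two_refl_fix Q u v u' h1 h3, two_refl_fix Q u v v' h2 h4]
    abel
  rw [key, Matrix.trace_sub, Matrix.trace_add, Matrix.trace_one]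

end Cfsg.Agent.Lib.Helper16.OB
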