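import Mathlib
import Cfsg.Agent.Lib.Helper16.OB18

set_option autoImplicit false
set_option linter.unusedSectionVars false
set_option linter.unusedVariables false

/-! Elements of `Ω` commuting with a graph involution of non-square multiplier, with prescribed
traces. -/

namespace Cfsg.Agent.Lib.Helper16.OB

open Matrix Module Cfsg.Agent.Lib.Lead Cfsg.Agent.Lib.Lead.OA Cfsg.Agent.Lib.Helper16
  Cfsg.Agent.Lib.Helper16.OA Cfsg.Agent.Lib.Helper16.OL Cfsg.Agent.Lib.Helper16.PSC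
  Cfsg.Agent.Lib.Lead.OAP Cfsg.Agent.Lib.Lead.OAM Cfsg.Agent.Lib.Helper16.OM
  Cfsg.Agent.Lib.helper6

universe u v

variable {ι : Type} [Fintype ι] [DecidableEq ι] {F : Type u} [Field F] [Fintype F]
variable (Q : QuadraticForm F (ι → F))

set_option quotPrecheck false in
local notation "pol" => QuadraticMap.polar (⇑Q)

theorem sim_sq_apply (g : ↥(GOq Q)) (μ : F)
    (hgg : ((g : GL ι F) : Matrix ι ι F) * ((g : GL ι F) : Matrix ι ι F) = μ • (1 : Matrix ι ι F))
    (x : ι → F) :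
    ((g : GL ι F) : Matrix ι ι F) *ᵥ (((g : GL ι F) : Matrix ι ι F) *ᵥ x) = μ • x := by
  rw [Matrix.mulVec_mulVec, hgg, Matrix.smul_mulVec, Matrix.one_mulVec]

theorem polar_sim_adj (g : ↥(GOq Q)) (μ : F) (hμ : ((mult Q g : Fˣ) : F) = μ)
    (hgg : ((g : GL ι F) : Matrix ι ι F) * ((g : GL ι F) : Matrix ι ι F) = μ • (1 : Matrix ι ι F))
    (x y : ι → F) :
    pol (((g : GL ι F) : Matrix ι ι F) *ᵥ x) y = pol x (((g : GL ι F) : Matrix ι ι F) *ᵥ y) := by
  have hμ0 : μ ≠ 0 := by rw [← hμ]; exact Units.ne_zero _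
  have h1 : μ * pol (((g : GL ι F) : Matrix ι ι F) *ᵥ x) y =
      μ * pol x (((g : GL ι F) : Matrix ι ι F) *ᵥ y) := by
    rw [← hμ, ← polar_sim Q g x, hμ, sim_sq_apply Q g μ hgg, QuadraticMap.polar_smul_right,
      smul_eq_mul]
  exact mul_left_cancel₀ hμ0 h1

set_option maxHeartbeats 4000000 in
theorem goodTr_B_core (h2 : (2 : F) ≠ 0) (g : ↥(GOq Q)) (μ : F)
    (hμ : ((mult Q g : Fˣ) : F) = μ)
    (hgg : ((g : GL ι F) : Matrix ι ι F) * ((g : GL ι F) : Matrix ι ι F) = μ • (1 : Matrix ι ι F))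
    (e f : ι → F) (c : F) (he : Q e = 1) (hf : Q f = c) (hef : pol e f = 0)
    (hee : pol e (((g : GL ι F) : Matrix ι ι F) *ᵥ e) = 0)
    (hff : pol f (((g : GL ι F) : Matrix ι ι F) *ᵥ f) = 0)
    (hegf : pol e (((g : GL ι F) : Matrix ι ι F) *ᵥ f) = 0)
    (a b : F) (hab : a ^ 2 + c * b ^ 2 = 1) (ha : a ≠ 1) :
    GoodTr Q g ((Fintype.card ι : F) - 8 + 8 * a ^ 2) := by
  have hμ0 : μ ≠ 0 := by rw [← hμ]; exact Units.ne_zero _
  obtain ⟨y, hy⟩ : ∃ y : ι → F, y = a • e + b • f := ⟨_, rfl⟩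
  have hQy : Q y = 1 := by
    rw [hy, quad_add, QuadraticMap.map_smul, QuadraticMap.map_smul, QuadraticMap.polar_smul_left,
      QuadraticMap.polar_smul_right, hef, he, hf]
    simp only [smul_eq_mul]
    linear_combination hab
  have hey : pol e y = 2 * a := by
    rw [hy, QuadraticMap.polar_add_right, QuadraticMap.polar_smul_right,
      QuadraticMap.polar_smul_right, polar_self2, he, hef]
    simp only [smul_eq_mul]
    ring
  have he0 : Q e ≠ 0 := by rw [he]; exact one_ne_zero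
  have hy0 : Q y ≠ 0 := by rw [hQy]; exact one_ne_zero
  have hne : Q (e - y) ≠ 0 := by
    rw [Q_sub_of_eq Q e y (by rw [hQy, he]), he, hey]
    intro h
    apply ha
    have h3 : (2 : F) * (1 - a) = 0 := by linear_combination h
    rcases mul_eq_zero.mp h3 with h | h
    · exact absurd h h2
    · linear_combination -h
  -- the images
  obtain ⟨Ge, hGe⟩ : ∃ x : ι → F, x = ((g : GL ι F) : Matrix ι ι F) *ᵥ e := ⟨_, rfl⟩
  obtain ⟨Gf, hGf⟩ : ∃ x : ι → F, x = ((g : GL ι F) : Matrix ι ι F) *ᵥ f := ⟨_, rfl⟩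
  obtain ⟨Gy, hGy⟩ : ∃ x : ι → F, x = ((g : GL ι F) : Matrix ι ι F) *ᵥ y := ⟨_, rfl⟩
  rw [← hGe] at hee
  rw [← hGf] at hff hegf
  have hGy' : Gy = a • Ge + b • Gf := by
    rw [hGy, hy, Matrix.mulVec_add, Matrix.mulVec_smul, Matrix.mulVec_smul, hGe, hGf]
  have hQGe : Q Ge = μ := by rw [hGe, mult_spec, hμ, he, mul_one]
  have hQGy : Q Gy = μ := by rw [hGy, mult_spec, hμ, hQy, mul_one]
  have hGe0 : Q Ge ≠ 0 := by rw [hQGe]; exact hμ0
  have hGy0 : Q Gy ≠ 0 := by rw [hQGy]; exact hμ0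
  have hGeGy : pol Ge Gy = μ * (2 * a) := by
    rw [hGe, hGy, polar_sim, hμ, hey]
  have hneG : Q (Ge - Gy) ≠ 0 := by
    rw [hGe, hGy, ← Matrix.mulVec_sub, mult_spec, hμ]
    exact mul_ne_zero hμ0 hne
  have hfGe : pol f Ge = 0 := by
    rw [hGe, ← polar_sim_adj Q g μ hμ hgg, ← hGf, QuadraticMap.polar_comm]
    exact hegf
  have o1 : pol e Ge = 0 := hee
  have o2 : pol e Gy = 0 := by
    rw [hGy', QuadraticMap.polar_add_right, QuadraticMap.polar_smul_right,
      QuadraticMap.polar_smul_right, hee, hegf]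
    simp
  have o3 : pol y Ge = 0 := by
    rw [hy, QuadraticMap.polar_add_left, QuadraticMap.polar_smul_left,
      QuadraticMap.polar_smul_left, hee, hfGe]
    simp
  have o4 : pol y Gy = 0 := by
    rw [hGy', QuadraticMap.polar_add_right, QuadraticMap.polar_smul_right,
      QuadraticMap.polar_smul_right, o3]
    rw [hy, QuadraticMap.polar_add_left, QuadraticMap.polar_smul_left,
      QuadraticMap.polar_smul_left, hegf, hff]
    simp
  -- the four reflections
  set A : ↥(GOq Q) := isoToGO Q (reflG Q e he0) with hA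
  set B : ↥(GOq Q) := isoToGO Q (reflG Q y hy0) with hB
  set A' : ↥(GOq Q) := isoToGO Q (reflG Q Ge hGe0) with hA'
  set B' : ↥(GOq Q) := isoToGO Q (reflG Q Gy hGy0) with hB'
  have cA : g * A * g⁻¹ = A' := by
    have := conj_reflGO Q g e he0 (by rw [← hGe]; exact hGe0)
    rw [this]
    apply reflGO_congr
    rw [hGe]
  have cB : g * B * g⁻¹ = B' := by
    have := conj_reflGO Q g y hy0 (by rw [← hGy]; exact hGy0)
    rw [this]
    apply reflGO_congr
    rw [hGy]
  have cA' : g * A' * g⁻¹ = A := by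
    have := conj_reflGO Q g Ge hGe0 (Q_sim_ne Q g Ge hGe0)
    rw [this]
    apply reflGO_congr
    rw [hGe, sim_sq_apply Q g μ hgg, refl_smul Q e μ hμ0 he0]
  have cB' : g * B' * g⁻¹ = B := by
    have := conj_reflGO Q g Gy hGy0 (Q_sim_ne Q g Gy hGy0)
    rw [this]
    apply reflGO_congr
    rw [hGy, sim_sq_apply Q g μ hgg, refl_smul Q y μ hμ0 hy0]
  have comm : ∀ (x x' : ι → F) (hx : Q x ≠ 0) (hx' : Q x' ≠ 0), pol x x' = 0 →
      isoToGO Q (reflG Q x hx) * isoToGO Q (reflG Q x' hx') =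
        isoToGO Q (reflG Q x' hx') * isoToGO Q (reflG Q x hx) := by
    intro x x' hx hx' hp
    apply Subtype.ext
    apply Units.ext
    exact refl_comm_of_perp Q x x' hp
  have k1 : A * A' = A' * A := comm e Ge he0 hGe0 o1
  have k2 : A * B' = B' * A := comm e Gy he0 hGy0 o2
  have k3 : B * A' = A' * B := comm y Ge hy0 hGe0 o3
  have k4 : B * B' = B' * B := comm y Gy hy0 hGy0 o4
  have hcomm : g * (A * B * (A' * B')) * g⁻¹ = A * B * (A' * B') := by
    calc g * (A * B * (A' * B')) * g⁻¹ =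
        (g * A * g⁻¹) * (g * B * g⁻¹) * ((g * A' * g⁻¹) * (g * B' * g⁻¹)) := by group
      _ = A' * B' * (A * B) := by rw [cA, cB, cA', cB']
      _ = A * B * (A' * B') := by
        calc A' * B' * (A * B) = A' * (B' * A) * B := by group
          _ = A' * (A * B') * B := by rw [k2]
          _ = (A' * A) * (B' * B) := by group
          _ = (A * A') * (B * B') := by rw [k1, k4]
          _ = A * (A' * B) * B' := by group
          _ = A * (B * A') * B' := by rw [k3]
          _ = A * B * (A' * B') := by group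
  refine ⟨(reflG Q e he0 * reflG Q y hy0) * (reflG Q Ge hGe0 * reflG Q Gy hGy0),
    (Cfsg.Omega F (⇑Q : (ι → F) → F)).mul_mem
      (reflG_mul_mem_omega Q e y he0 hy0 (by rw [hQy, he]) hne)
      (reflG_mul_mem_omega Q Ge Gy hGe0 hGy0 (by rw [hQGy, hQGe]) hneG), ?_, ?_⟩
  · have h5 : A * B * (A' * B') * g = g * (A * B * (A' * B')) := by
      calc A * B * (A' * B') * g = (g * (A * B * (A' * B')) * g⁻¹) * g := by rw [hcomm]
        _ = g * (A * B * (A' * B')) := by group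
    have := congrArg (fun x : ↥(GOq Q) => (x : GL ι F)) h5
    exact this
  · have ht := trace_four_refl Q e y Ge Gy o1 o2 o3 o4
    have t1 := trace_refl_mul' Q e y he0 (by rw [hQy, he]) (2 * a) (by rw [hey, he, mul_one])
    have t2 := trace_refl_mul' Q Ge Gy hGe0 (by rw [hQGy, hQGe]) (2 * a)
      (by rw [hGeGy, hQGe, mul_comm])
    rw [t1, t2] at ht
    have : (((reflG Q e he0 * reflG Q y hy0) * (reflG Q Ge hGe0 * reflG Q Gy hGy0) :
        ↥(Cfsg.isometryGroup F (⇑Q : (ι → F) → F))) : GL ι F) =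
        ((reflG Q e he0 : ↥(Cfsg.isometryGroup F (⇑Q : (ι → F) → F))) : GL ι F) *
          ((reflG Q y hy0 : ↥(Cfsg.isometryGroup F (⇑Q : (ι → F) → F))) : GL ι F) *
        (((reflG Q Ge hGe0 : ↥(Cfsg.isometryGroup F (⇑Q : (ι → F) → F))) : GL ι F) *
          ((reflG Q Gy hGy0 : ↥(Cfsg.isometryGroup F (⇑Q : (ι → F) → F))) : GL ι F)) := rfl
    rw [this, Units.val_mul, Units.val_mul, Units.val_mul, reflG_coe, reflG_coe, reflG_coe,
      reflG_coe, ht]
    ring

end Cfsg.Agent.Lib.Helper16.OB
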