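import Mathlib
import Cfsg.Agent.Lib.Helper16.OB19

set_option autoImplicit false
set_option linter.unusedSectionVars false
set_option linter.unusedVariables false

/-! Odd-order normal subgroups of the centraliser of a graph involution are trivial. -/

namespace Cfsg.Agent.Lib.Helper16.OB

open Matrix Module Cfsg.Agent.Lib.Lead Cfsg.Agent.Lib.Lead.OA Cfsg.Agent.Lib.Helper16
  Cfsg.Agent.Lib.Helper16.OA Cfsg.Agent.Lib.Helper16.OL Cfsg.Agent.Lib.Helper16.PSC
  Cfsg.Agent.Lib.Lead.OAP Cfsg.Agent.Lib.Lead.OAM Cfsg.Agent.Lib.Helper16.OM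
  Cfsg.Agent.Lib.helper6

universe u v

variable {ι : Type} [Fintype ι] [DecidableEq ι] {F : Type u} [Field F] [Fintype F]
variable (Q : QuadraticForm F (ι → F))

set_option quotPrecheck false in
local notation "pol" => QuadraticMap.polar (⇑Q)

set_option maxHeartbeats 1600000 in
theorem goodTr_B (h2 : (2 : F) ≠ 0) (hQ : (QuadraticMap.polarBilin Q).Nondegenerate)
    (g : ↥(GOq Q)) (μ : F) (hμ : ((mult Q g : Fˣ) : F) = μ) (hμns : ¬ IsSquare μ)
    (hgg : ((g : GL ι F) : Matrix ι ι F) * ((g : GL ι F) : Matrix ι ι F) = μ • (1 : Matrix ι ι F))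
    (n : ℕ) (hcard : Fintype.card ι = 2 * n) (h3 : 3 ≤ n) (z : F) (hz : z ≠ 2) :
    GoodTr Q g ((Fintype.card ι : F) - 8 + 2 * z ^ 2) := by
  have hμ0 : μ ≠ 0 := by rw [← hμ]; exact Units.ne_zero _
  have hfr : finrank F (ι → F) = 2 * n := by rw [Module.finrank_fintype_fun_eq_card, hcard]
  obtain ⟨e₁, e₂, a1, a2, a3, a4, a5, a6⟩ := typeB_vectors Q h2 hQ μ hμns (glLin (g : GL ι F))
    (by
      intro v
      rw [glLin_apply, glLin_apply]
      exact sim_sq_apply Q g μ hgg v)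
    (by
      intro v
      rw [glLin_apply, mult_spec, hμ]) n hfr h3
  rw [glLin_apply] at a4 a5 a6
  have ha : z / 2 ≠ 1 := by
    intro h
    apply hz
    field_simp at h
    exact h
  have htr : (Fintype.card ι : F) - 8 + 8 * (z / 2) ^ 2 = (Fintype.card ι : F) - 8 + 2 * z ^ 2 := by
    field_simp
    ring
  rw [← htr]
  by_cases ht : IsSquare (1 - (z / 2) ^ 2)
  · obtain ⟨b, hb⟩ := ht
    exact goodTr_B_core Q h2 g μ hμ hgg e₁ e₂ 1 a1 a2 a3 a4 a5 a6 (z / 2) b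
      (by linear_combination -hb) ha
  · have hsq : IsSquare ((1 - (z / 2) ^ 2) * μ⁻¹) := nonsq_mul_nonsq ht (nonsq_inv hμns)
    obtain ⟨b, hb⟩ := hsq
    have hb' : 1 - (z / 2) ^ 2 = μ * (b * b) := by
      rw [← hb]
      field_simp
    refine goodTr_B_core Q h2 g μ hμ hgg e₁ (((g : GL ι F) : Matrix ι ι F) *ᵥ e₂) μ a1
      (by rw [mult_spec, hμ, a2, mul_one]) a6 a4 ?_ ?_ (z / 2) b (by linear_combination -hb') ha
    · rw [polar_sim, a5, mul_zero]
    · rw [sim_sq_apply Q g μ hgg, QuadraticMap.polar_smul_right, a3, smul_zero]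

set_option maxHeartbeats 4000000 in
/-- **Graph case.** An odd-order subgroup of `A ⊓ C(x)`, normalised by `A ⊓ C(x)`, is trivial when
`x` is induced by a class-swapping similarity squaring to a scalar. -/
theorem graph_core (h2 : (2 : F) ≠ 0) (hQ : (QuadraticMap.polarBilin Q).Nondegenerate)
    (hn7 : 7 ≤ Fintype.card ι)
    (hT : 9 ≤ Fintype.card ι ∨ Fintype.card ι ≤ 7 ∨
      ∀ U : Submodule F (ι → F), (∀ u ∈ U, Q u = 0) → Module.finrank F U ≤ 3)
    (n : ℕ) (hcard : Fintype.card ι = 2 * n) (hn4 : 4 ≤ n)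
    (hne : ∃ v, Q v ≠ 0) (w : ℕ) (hw : w < n)
    (hW : ∀ U : Submodule F (ι → F), (∀ u ∈ U, Q u = 0) → finrank F ↥U ≤ w)
    (g : ↥(GOq Q)) (hg : eps Q hne n g ≠ 1) (lam : F)
    (hgg : ((g : GL ι F) : Matrix ι ι F) * ((g : GL ι F) : Matrix ι ι F) =
      lam • (1 : Matrix ι ι F))
    (A N' : Subgroup (MulAut (Cfsg.POmega F (⇑Q : (ι → F) → F)))) [Finite N']
    (hodd : Odd (Nat.card N'))
    (hInnA : Cfsg.Inn (Cfsg.POmega F (⇑Q : (ι → F) → F)) ≤ A)
    (hNA : N' ≤ A ⊓ Subgroup.centralizer {cHom (⇑Q : (ι → F) → F) g})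
    (hnorm : ∀ c ∈ A ⊓ Subgroup.centralizer {cHom (⇑Q : (ι → F) → F) g},
      ∀ x ∈ N', c * x * c⁻¹ ∈ N') : N' = ⊥ := by
  classical
  -- elements of `Ω` commuting with `g` act in `A ⊓ C(x)`
  have hρmem : ∀ ρ : ↥(Cfsg.isometryGroup F (⇑Q : (ι → F) → F)),
      ρ ∈ Cfsg.Omega F (⇑Q : (ι → F) → F) →
      (ρ : GL ι F) * (g : GL ι F) = (g : GL ι F) * (ρ : GL ι F) →
      c0 Q ρ ∈ A ⊓ Subgroup.centralizer {cHom (⇑Q : (ι → F) → F) g} := by
    intro ρ hρ hρg
    refine ⟨hInnA ?_, ?_⟩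
    · rw [inn_eq']
      exact ⟨ρ, hρ, rfl⟩
    · show c0 Q ρ ∈ Subgroup.centralizer {cHom (⇑Q : (ι → F) → F) g}
      rw [Subgroup.mem_centralizer_iff]
      intro y hy
      rw [Set.mem_singleton_iff] at hy
      rw [hy, c0_apply, ← map_mul, ← map_mul]
      congr 1
      apply Subtype.ext
      exact hρg.symm
  set N'' : Subgroup (MulAut (Cfsg.POmega F (⇑Q : (ι → F) → F))) :=
    N' ⊓ (cHom (⇑Q : (ι → F) → F)).range with hN''
  have hfin'' : Finite ↥N'' := by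
    apply Finite.of_injective (fun x : ↥N'' => (⟨x.1, x.2.1⟩ : ↥N'))
    intro a b hab
    apply Subtype.ext
    have := congrArg (fun t : ↥N' => (t : MulAut (Cfsg.POmega F (⇑Q : (ι → F) → F)))) hab
    exact this
  have hodd'' : Odd (Nat.card ↥N'') :=
    Odd.of_dvd_nat hodd (Subgroup.card_dvd_of_le inf_le_left)
  have hbot'' : N'' = ⊥ := by
    apply graphN_bot Q h2 hQ hn7 n hcard hn4 hne w hw hW g hg lam hgg N'' hodd'' inf_le_right
      (fun x hx => (hNA hx.1).2)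
    intro ρ hρ hρg x hx
    refine ⟨hnorm _ (hρmem ρ hρ hρg) x hx.1, ?_⟩
    obtain ⟨h, rfl⟩ := hx.2
    rw [c0_apply, ← map_inv, ← map_mul, ← map_mul]
    exact ⟨_, rfl⟩
  -- every element of `N'` is induced by a similarity
  have hall : ∀ x ∈ N', x ∈ (cHom (⇑Q : (ι → F) → F)).range := by
    intro x hx
    obtain ⟨y, hy⟩ := ssHom_surjective Q hQ hn7 hT x
    have hxk : (ssHom (⇑Q : (ι → F) → F) y) ^ Nat.card ↥N' = 1 := by
      rw [hy]
      exact pow_card_eq_one_of_mem N' x hx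
    have hfix : ∀ t : F, GoodTr Q g t → (y : GammaL ι F).right t = t := by
      rintro t ⟨ρ, hρ, hρg, rfl⟩
      apply tau_fix_tr Q hQ hn7 hne y _ hodd hxk ρ
      have hc := hρmem ρ hρ hρg
      have h1 : c0 Q ρ * x * (c0 Q ρ)⁻¹ * x⁻¹ ∈ N'' := by
        refine ⟨N'.mul_mem (hnorm _ hc x hx) (N'.inv_mem hx), ?_⟩
        have e1 : c0 Q ρ * x * (c0 Q ρ)⁻¹ * x⁻¹ =
            c0 Q ρ * (x * (c0 Q ρ)⁻¹ * x⁻¹) := by group
        rw [e1, c0_apply, ← map_inv, ← hy, ssHom_conj_cHom, ← map_mul]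
        exact ⟨_, rfl⟩
      rw [hbot'', Subgroup.mem_bot] at h1
      rw [hy]
      calc x * c0 Q ρ = (c0 Q ρ * x * (c0 Q ρ)⁻¹ * x⁻¹)⁻¹ * (c0 Q ρ * x) := by group
        _ = c0 Q ρ * x := by rw [h1, inv_one, one_mul]
    have hτ1 : (y : GammaL ι F).right = 1 := by
      rcases graph_inv_shape_strong Q h2 n hcard hne w hw hW g hg lam hgg with
        ⟨hns, hnodd, hlam⟩ | ⟨ν, hν0, hμν, hlamν⟩
      · apply tau_eq_one_of_fix h2 _ ((Fintype.card ι : F) - 8) 2
        · rw [map_sub, map_natCast, map_ofNat]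
        · rw [map_ofNat]
        · exact h2
        · intro z hz
          apply hfix
          rw [hlam] at hgg
          exact goodTr_B Q h2 hQ g _ rfl hns hgg n hcard (by omega) z hz
      · apply tau_eq_one_of_fix h2 _ ((Fintype.card ι : F) - 4) 1
        · rw [map_sub, map_natCast, map_ofNat]
        · rw [map_one]
        · exact one_ne_zero
        · intro z hz
          apply hfix
          rw [hlamν] at hgg
          rw [one_mul]
          exact goodTr_A Q h2 hQ g ν hν0 hμν hgg (by omega) z hz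
    have hker : y ∈ (ssRight (⇑Q : (ι → F) → F)).ker := by
      rw [MonoidHom.mem_ker, ssRight_apply]
      exact hτ1
    rw [ssRight_ker] at hker
    obtain ⟨h, rfl⟩ := hker
    rw [ssHom_goIncl] at hy
    exact ⟨h, hy⟩
  rw [eq_bot_iff]
  intro x hx
  have : x ∈ N'' := ⟨hx, hall x hx⟩
  rw [hbot''] at this
  exact this

end Cfsg.Agent.Lib.Helper16.OB
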