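import Mathlib
import Cfsg.Agent.Lib.Helper16.OL13

set_option autoImplicit false
set_option linter.unusedSectionVars false
set_option linter.unusedVariables false

/-! Lang-type results for orthogonal groups, part 14: normal `p'`-subgroups of the centraliser of a
field automorphism. -/

namespace Cfsg.Agent.Lib.Helper16.OL

open Matrix Cfsg.Agent.Lib.Lead.OA Cfsg.Agent.Lib.Helper16 Cfsg.Agent.Lib.Helper16.OA
  Cfsg.Agent.Lib.helper6

universe u v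

variable {ι : Type} [Fintype ι] [DecidableEq ι] {F : Type u} [Field F] [Fintype F]
  {F₀ : Type v} [Field F₀] [Fintype F₀]

/-- base change maps `Ω` into `Ω`. -/
theorem inclSO_mem_OmSO (j : F₀ →+* F) (Q₀ : QuadraticForm F₀ (ι → F₀))
    (Q : QuadraticForm F (ι → F)) (hc : BaseCompat j (⇑Q₀) (⇑Q)) (h2 : (2 : F) ≠ 0)
    (s : ↥(SOg Q₀)) (hs : s ∈ OmSO Q₀) : inclSO j Q₀ Q hc h2 s ∈ OmSO Q := by
  have h1 : (Cfsg.Omega F₀ (⇑Q₀ : (ι → F₀) → F₀)).map (inclIso j Q₀ Q hc h2) ≤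
      Cfsg.Omega F (⇑Q : (ι → F) → F) := by
    show (commutator _).map _ ≤ commutator _
    rw [commutator_def, commutator_def, Subgroup.map_commutator]
    exact Subgroup.commutator_mono le_top le_top
  exact h1 ⟨s.1, hs, rfl⟩

theorem LamO_mem_Inn (j : F₀ →+* F) (Q₀ : QuadraticForm F₀ (ι → F₀))
    (Q : QuadraticForm F (ι → F)) (hc : BaseCompat j (⇑Q₀) (⇑Q)) (h2 : (2 : F) ≠ 0)
    (s : ↥(SOg Q₀)) (hs : s ∈ OmSO Q₀) :
    LamO j Q₀ Q hc h2 s ∈ Cfsg.Inn (Cfsg.POmega F (⇑Q : (ι → F) → F)) :=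
  PsiO_mem_Inn Q _ (inclSO_mem_OmSO j Q₀ Q hc h2 s hs)

theorem inn_le_range (Q : QuadraticForm F (ι → F)) :
    Cfsg.Inn (Cfsg.POmega F (⇑Q : (ι → F) → F)) ≤ (cHom (⇑Q : (ι → F) → F)).range := by
  rw [inn_eq']
  rintro _ ⟨s, -, rfl⟩
  exact ⟨_, rfl⟩

set_option maxHeartbeats 1600000 in
/-- a normal `p'`-subgroup of the centraliser of a field automorphism of order `p` is trivial when
`p` divides the order of the group of fixed points. -/
theorem pprime_trivial (j : F₀ →+* F) (Q₀ : QuadraticForm F₀ (ι → F₀))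
    (Q : QuadraticForm F (ι → F)) (hc : BaseCompat j (⇑Q₀) (⇑Q)) (h2 : (2 : F) ≠ 0)
    (hQ : (QuadraticMap.polarBilin Q).Nondegenerate)
    (hQ₀ : (QuadraticMap.polarBilin Q₀).Nondegenerate) (hn : 7 ≤ Fintype.card ι)
    (hT : 9 ≤ Fintype.card ι ∨ Fintype.card ι ≤ 7 ∨
      ∀ U : Submodule F (ι → F), (∀ u ∈ U, Q u = 0) → Module.finrank F U ≤ 3)
    (m : ℕ) (hcard : Fintype.card ι = 2 * m + 1) (hσc : FieldCompat (⇑Q : (ι → F) → F))
    (σ : RingAut F) (hj : ∀ x, (∃ y, j y = x) ↔ σ x = x) (p : ℕ) (hp : p.Prime)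
    (hord : orderOf σ = p)
    (hvec : ∀ z : F₀, ∃ u v : ι → F₀, Q₀ u ≠ 0 ∧ Q₀ v = Q₀ u ∧
      QuadraticMap.polar (⇑Q₀) u v = z * Q₀ u)
    (hsimple : IsSimpleGroup (Cfsg.POmega F₀ (⇑Q₀ : (ι → F₀) → F₀)))
    (A N' : Subgroup (MulAut (Cfsg.POmega F (⇑Q : (ι → F) → F))))
    (hInnA : Cfsg.Inn (Cfsg.POmega F (⇑Q : (ι → F) → F)) ≤ A)
    (hNA : N' ≤ A ⊓ Subgroup.centralizer {fieldO (⇑Q : (ι → F) → F) hσc σ})
    (hnorm : ∀ c ∈ A ⊓ Subgroup.centralizer {fieldO (⇑Q : (ι → F) → F) hσc σ},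
      ∀ n ∈ N', c * n * c⁻¹ ∈ N')
    (hcop : (Nat.card N').Coprime p)
    (hpd : p ∣ Nat.card ↥(Cfsg.Inn (Cfsg.POmega F (⇑Q : (ι → F) → F)) ⊓
      Subgroup.centralizer {fieldO (⇑Q : (ι → F) → F) hσc σ})) : N' = ⊥ := by
  classical
  have hn4 : 4 ≤ Fintype.card ι := by omega
  have h2' : (2 : F₀) ≠ 0 := two_ne_zero_base j h2
  set φ := fieldO (⇑Q : (ι → F) → F) hσc σ with hφ
  set Λ := LamO j Q₀ Q hc h2 with hΛ
  have hΛinj : Function.Injective Λ := LamO_injective j Q₀ Q hc h2 hQ hn4 m hcard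
  have hΛrange : Λ.range = (cHom (⇑Q : (ι → F) → F)).range ⊓ Subgroup.centralizer {φ} :=
    LamO_range j Q₀ Q hc h2 hQ hn4 m hcard hσc σ hj
  have hInnN : (Cfsg.Inn (Cfsg.POmega F (⇑Q : (ι → F) → F))).Normal := inn_normal _
  have hsimp : IsSimpleGroup ↥(OmSO Q₀) := OmSO_simple Q₀ h2' hQ₀ hn4 m hcard hsimple
  have hOmN : (OmSO Q₀).Normal := OmSO_normal Q₀
  -- the image of `Ω(F₀)` lies in `A ⊓ C(φ)`
  have hL₀C : ∀ s : ↥(SOg Q₀), s ∈ OmSO Q₀ → Λ s ∈ A ⊓ Subgroup.centralizer {φ} := by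
    intro s hs
    refine ⟨hInnA (LamO_mem_Inn j Q₀ Q hc h2 s hs), ?_⟩
    have : Λ s ∈ Λ.range := ⟨s, rfl⟩
    rw [hΛrange] at this
    exact this.2
  -- Step 1
  set M : Subgroup ↥(OmSO Q₀) := (N'.comap Λ).subgroupOf (OmSO Q₀) with hM
  have hMmem : ∀ s : ↥(OmSO Q₀), s ∈ M ↔ Λ (s : ↥(SOg Q₀)) ∈ N' := fun s => Iff.rfl
  have hMN : M.Normal := by
    constructor
    intro s hs t
    rw [hMmem] at hs ⊢
    have h1 : Λ ((t * s * t⁻¹ : ↥(OmSO Q₀)) : ↥(SOg Q₀)) =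
        Λ (t : ↥(SOg Q₀)) * Λ (s : ↥(SOg Q₀)) * (Λ (t : ↥(SOg Q₀)))⁻¹ := by
      rw [Subgroup.coe_mul, Subgroup.coe_mul, Subgroup.coe_inv, map_mul, map_mul, map_inv]
    rw [h1]
    exact hnorm _ (hL₀C _ t.2) _ hs
  have hcase : ∀ s : ↥(SOg Q₀), s ∈ OmSO Q₀ → Λ s ∈ N' → s = 1 := by
    rcases hMN.eq_bot_or_eq_top with hbot | htop
    · intro s hs hsN
      have h1 : (⟨s, hs⟩ : ↥(OmSO Q₀)) ∈ M := hsN
      rw [hbot, Subgroup.mem_bot] at h1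
      exact congrArg Subtype.val h1
    · exfalso
      have hall : ∀ s : ↥(SOg Q₀), s ∈ OmSO Q₀ → Λ s ∈ N' := by
        intro s hs
        have h1 : (⟨s, hs⟩ : ↥(OmSO Q₀)) ∈ M := by rw [htop]; trivial
        exact h1
      have hle : (OmSO Q₀).map Λ ≤ N' := by
        rintro _ ⟨s, hs, rfl⟩
        exact hall s hs
      have hdvd : Nat.card ↥(OmSO Q₀) ∣ Nat.card N' := by
        have h1 := Subgroup.card_dvd_of_le hle
        rwa [Subgroup.card_map_of_injective hΛinj] at h1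
      have hcop' : (Nat.card ↥(OmSO Q₀)).Coprime p := Nat.Coprime.coprime_dvd_left hdvd hcop
      have hle2 : Cfsg.Inn (Cfsg.POmega F (⇑Q : (ι → F) → F)) ⊓ Subgroup.centralizer {φ} ≤ Λ.range := by
        rw [hΛrange]
        exact inf_le_inf_right _ (inn_le_range Q)
      have hcardR : Nat.card ↥Λ.range = 2 * Nat.card ↥(OmSO Q₀) := by
        rw [Nat.card_congr (MonoidHom.ofInjective hΛinj).toEquiv.symm,
          ← Subgroup.index_mul_card (OmSO Q₀), OmSO_index Q₀ h2' hQ₀ hn4]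
      have hpd2 : p ∣ 2 * Nat.card ↥(OmSO Q₀) := by
        rw [← hcardR]
        exact dvd_trans hpd (Subgroup.card_dvd_of_le hle2)
      rcases (Nat.Prime.dvd_mul hp).mp hpd2 with h | h
      · have hp2 : p = 2 := (Nat.prime_dvd_prime_iff_eq hp Nat.prime_two).mp h
        have heven := OmSO_even Q₀ h2' (by
          obtain ⟨u, v, hu, hv, hpuv⟩ := hvec 0
          exact ⟨u, v, hu, hv, by rw [hpuv, zero_mul]⟩)
        rw [hp2] at hcop'
        have := Nat.Coprime.eq_one_of_dvd hcop'.symm heven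
        omega
      · have := Nat.Coprime.eq_one_of_dvd hcop'.symm h
        exact hp.one_lt.ne' this
  -- Step 2
  have hND : ∀ n ∈ N', n ∈ (cHom (⇑Q : (ι → F) → F)).range → n = 1 := by
    intro n hnN hnD
    have hnC : n ∈ Subgroup.centralizer {φ} := (hNA hnN).2
    have hnR : n ∈ Λ.range := by rw [hΛrange]; exact ⟨hnD, hnC⟩
    obtain ⟨s₁, rfl⟩ := hnR
    have hs₁ : s₁ = 1 := by
      apply centralizer_OmSO Q₀ h2' hQ₀ hn4 m hcard
      intro t ht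
      have hc1 : s₁ * t * s₁⁻¹ * t⁻¹ ∈ OmSO Q₀ :=
        (OmSO Q₀).mul_mem (hOmN.conj_mem t ht s₁) ((OmSO Q₀).inv_mem ht)
      have hc2 : Λ (s₁ * t * s₁⁻¹ * t⁻¹) ∈ N' := by
        have h1 : Λ (s₁ * t * s₁⁻¹ * t⁻¹) = Λ s₁ * (Λ t * (Λ s₁)⁻¹ * (Λ t)⁻¹) := by
          simp only [map_mul, map_inv, mul_assoc]
        rw [h1]
        exact N'.mul_mem hnN (hnorm _ (hL₀C t ht) _ (N'.inv_mem hnN))
      have h3 := hcase _ hc1 hc2
      calc s₁ * t = (s₁ * t * s₁⁻¹ * t⁻¹) * (t * s₁) := by group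
        _ = t * s₁ := by rw [h3, one_mul]
    rw [hs₁, map_one]
  -- Step 3
  have hcomm : ∀ n ∈ N', ∀ l ∈ Cfsg.Inn (Cfsg.POmega F (⇑Q : (ι → F) → F)) ⊓
      Subgroup.centralizer {φ}, n * l = l * n := by
    intro n hnN l hl
    have hlC : l ∈ A ⊓ Subgroup.centralizer {φ} := ⟨hInnA hl.1, hl.2⟩
    have he1 : n * l * n⁻¹ * l⁻¹ ∈ N' := by
      have h1 : n * l * n⁻¹ * l⁻¹ = n * (l * n⁻¹ * l⁻¹) := by group
      rw [h1]
      exact N'.mul_mem hnN (hnorm _ hlC _ (N'.inv_mem hnN))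
    have he2 : n * l * n⁻¹ * l⁻¹ ∈ (cHom (⇑Q : (ι → F) → F)).range := by
      apply inn_le_range Q
      exact Subgroup.mul_mem _ (hInnN.conj_mem l hl.1 n) (Subgroup.inv_mem _ hl.1)
    have h3 := hND _ he1 he2
    calc n * l = (n * l * n⁻¹ * l⁻¹) * (l * n) := by group
      _ = l * n := by rw [h3, one_mul]
  -- Step 4
  rw [eq_bot_iff]
  intro n hnN
  rw [Subgroup.mem_bot]
  obtain ⟨g, τ, hgτ⟩ := aut_eq_mul Q hQ hn hT hσc n
  have hτfix : ∀ z : F₀, τ (j z) = j z := by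
    apply tau_fix_field j Q₀ Q hc h2 hQ hn4 m hcard hσc hvec g τ
    intro s hs
    rw [← hgτ]
    exact hcomm n hnN _ ⟨LamO_mem_Inn j Q₀ Q hc h2 s hs, (hL₀C s hs).2⟩
  have hτmem : (τ : F ≃+* F) ∈ Subgroup.zpowers (σ : F ≃+* F) := by
    apply mem_zpowers_of_fix
    intro x hx
    obtain ⟨y, rfl⟩ := (hj x).mpr hx
    exact hτfix y
  have hτp : τ ^ p = 1 := by
    obtain ⟨k, hk⟩ := Subgroup.mem_zpowers_iff.mp hτmem
    have hσp : σ ^ p = 1 := by rw [← hord]; exact pow_orderOf_eq_one σ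
    rw [← hk, ← zpow_natCast, ← _root_.zpow_mul, mul_comm, _root_.zpow_mul, zpow_natCast, hσp, _root_.one_zpow]
  have hnp : n ^ p = 1 := by
    apply hND _ (N'.pow_mem hnN p)
    rw [hgτ]
    obtain ⟨g, hg⟩ := g
    rw [pow_cHom_fieldO, hτp, map_one, mul_one]
    exact ⟨_, rfl⟩
  have h1 : orderOf n ∣ p := orderOf_dvd_of_pow_eq_one hnp
  have h3 : orderOf n ∣ Nat.card N' := by
    have := orderOf_dvd_natCard (⟨n, hnN⟩ : ↥N')
    rwa [Subgroup.orderOf_mk] at this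
  have h4 : orderOf n = 1 := Nat.Coprime.eq_one_of_dvd (Nat.Coprime.coprime_dvd_left h3 hcop) h1
  exact orderOf_eq_one_iff.mp h4

end Cfsg.Agent.Lib.Helper16.OL
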