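import Mathlib
import Cfsg.Agent.Lib.Helper16.OL14

set_option autoImplicit false
set_option linter.unusedSectionVars false
set_option linter.unusedVariables false

/-! Lang-type results for orthogonal groups, part 15: general group theory for `O_{p'}` of
centralisers. -/

namespace Cfsg.Agent.Lib.Helper16.OL

universe u v

section grp
variable {G : Type u} [Group G] {G' : Type v} [Group G']

/-- the `p'`-core is non-trivial iff there is a non-trivial normal subgroup of order prime to `p`. -/
theorem pPrimeCore_ne_bot_iff (p : ℕ) :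
    Cfsg.pPrimeCore p G ≠ ⊥ ↔
      ∃ N : Subgroup G, N.Normal ∧ (Nat.card N).Coprime p ∧ N ≠ ⊥ := by
  unfold Cfsg.pPrimeCore
  rw [Ne, sSup_eq_bot]
  constructor
  · intro h
    push Not at h
    obtain ⟨N, ⟨hN1, hN2⟩, hN3⟩ := h
    exact ⟨N, hN1, hN2, hN3⟩
  · rintro ⟨N, hN1, hN2, hN3⟩ h
    exact hN3 (h N ⟨hN1, hN2⟩)

theorem pPrimeCore_ne_bot_congr (p : ℕ) (e : G ≃* G') :
    Cfsg.pPrimeCore p G ≠ ⊥ ↔ Cfsg.pPrimeCore p G' ≠ ⊥ := by
  have key : ∀ {H : Type u} {H' : Type v} [Group H] [Group H'] (e : H ≃* H'),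
      (∃ N : Subgroup H, N.Normal ∧ (Nat.card N).Coprime p ∧ N ≠ ⊥) →
      ∃ N : Subgroup H', N.Normal ∧ (Nat.card N).Coprime p ∧ N ≠ ⊥ := by
    intro H H' _ _ e
    rintro ⟨N, hN1, hN2, hN3⟩
    refine ⟨N.map e.toMonoidHom, ?_, ?_, ?_⟩
    · exact Subgroup.Normal.map hN1 e.toMonoidHom e.surjective
    · rw [Subgroup.card_map_of_injective e.injective]; exact hN2
    · intro h
      apply hN3
      rw [eq_bot_iff] at h ⊢
      intro n hn
      have := h (Subgroup.mem_map_of_mem e.toMonoidHom hn)
      rw [Subgroup.mem_bot] at this ⊢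
      exact e.injective (by rw [map_one]; exact this)
  rw [pPrimeCore_ne_bot_iff, pPrimeCore_ne_bot_iff]
  constructor
  · exact key e
  · intro h
    obtain ⟨N, hN1, hN2, hN3⟩ := h
    -- transport back along `e.symm`
    refine ⟨N.map e.symm.toMonoidHom, ?_, ?_, ?_⟩
    · exact Subgroup.Normal.map hN1 e.symm.toMonoidHom e.symm.surjective
    · rw [Subgroup.card_map_of_injective e.symm.injective]; exact hN2
    · intro h
      apply hN3
      rw [eq_bot_iff] at h ⊢
      intro n hn
      have := h (Subgroup.mem_map_of_mem e.symm.toMonoidHom hn)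
      rw [Subgroup.mem_bot] at this ⊢
      exact e.symm.injective (by rw [map_one]; exact this)

end grp

section aut
variable {K : Type u} [Group K]

/-- the inner automorphisms commuting with `φ` are those of the fixed points of `φ`. -/
theorem inn_inf_centralizer (hinj : Function.Injective (MulAut.conj : K →* MulAut K))
    (φ : MulAut K) :
    Cfsg.Inn K ⊓ Subgroup.centralizer {φ} =
      (MonoidHom.eqLocus φ.toMonoidHom (MonoidHom.id K)).map (MulAut.conj : K →* MulAut K) := by
  have hconj : ∀ k : K, φ * MulAut.conj k * φ⁻¹ = MulAut.conj (φ k) := by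
    intro k
    apply MulEquiv.ext
    intro y
    simp [MulAut.conj_apply]
  ext l
  constructor
  · rintro ⟨⟨k, rfl⟩, hc⟩
    refine ⟨k, ?_, rfl⟩
    have hc' : MulAut.conj k ∈ Subgroup.centralizer {φ} := hc
    rw [Subgroup.mem_centralizer_iff] at hc'
    have h1 := hc' φ (Set.mem_singleton _)
    have h3 : MulAut.conj (φ k) = MulAut.conj k := by
      rw [← hconj, h1, mul_inv_cancel_right]
    exact hinj h3
  · rintro ⟨k, hk, rfl⟩
    refine ⟨⟨k, rfl⟩, ?_⟩
    show MulAut.conj k ∈ Subgroup.centralizer {φ}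
    rw [Subgroup.mem_centralizer_iff]
    intro y hy
    rw [Set.mem_singleton_iff] at hy
    subst hy
    have hk' : y k = k := hk
    have := hconj k
    rw [hk'] at this
    -- this : y * conj k * y⁻¹ = conj k
    have h2 : y * MulAut.conj k = MulAut.conj k * y := by
      rw [← mul_inv_eq_iff_eq_mul]; exact this
    exact h2

theorem card_inn_inf_centralizer (hinj : Function.Injective (MulAut.conj : K →* MulAut K))
    (φ : MulAut K) :
    Nat.card ↥(Cfsg.Inn K ⊓ Subgroup.centralizer {φ}) =
      Nat.card ↥(MonoidHom.eqLocus φ.toMonoidHom (MonoidHom.id K)) := by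
  rw [inn_inf_centralizer hinj, Subgroup.card_map_of_injective hinj]

/-- fixed points of conjugate automorphisms. -/
theorem card_eqLocus_conj (α x : MulAut K) :
    Nat.card ↥(MonoidHom.eqLocus (α * x * α⁻¹).toMonoidHom (MonoidHom.id K)) =
      Nat.card ↥(MonoidHom.eqLocus x.toMonoidHom (MonoidHom.id K)) := by
  symm
  apply Nat.card_congr
  refine Equiv.subtypeEquiv α.toEquiv ?_
  intro k
  show x k = k ↔ (α * x * α⁻¹) (α k) = α k
  simp [MulAut.mul_apply]

end aut

end Cfsg.Agent.Lib.Helper16.OL
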