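import Mathlib
import Cfsg.Agent.Lib.Helper16.OL15

set_option autoImplicit false
set_option linter.unusedSectionVars false
set_option linter.unusedVariables false

/-! Lang-type results for orthogonal groups, part 16: `O_{p'}` of the centraliser of a field
automorphism of prime order `p`. -/

namespace Cfsg.Agent.Lib.Helper16.OL

open Matrix Cfsg.Agent.Lib.Lead.OA Cfsg.Agent.Lib.Helper16 Cfsg.Agent.Lib.Helper16.OA
  Cfsg.Agent.Lib.helper6

universe u v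

section grp
variable {X : Type u} [Group X]

/-- conjugation carries `A ⊓ C(x)` to `A^α ⊓ C(x^α)`. -/
noncomputable def infCentConjEquiv (A : Subgroup X) (α x : X) :
    ↥(A ⊓ Subgroup.centralizer {x}) ≃*
      ↥(A.map (MulAut.conj α).toMonoidHom ⊓ Subgroup.centralizer {α * x * α⁻¹}) :=
  ((MulAut.conj α).subgroupMap (A ⊓ Subgroup.centralizer {x})).trans
    (MulEquiv.subgroupCongr (by
      rw [SC.centralizer_conj]
      exact Subgroup.map_inf _ _ _ (MulAut.conj α).injective))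

theorem le_map_conj_of_normal (N A : Subgroup X) [hN : N.Normal] (hNA : N ≤ A) (α : X) :
    N ≤ A.map (MulAut.conj α).toMonoidHom := by
  intro n hn
  refine ⟨α⁻¹ * n * α, hNA ?_, ?_⟩
  · have := hN.conj_mem n hn α⁻¹
    rwa [inv_inv] at this
  · show MulAut.conj α (α⁻¹ * n * α) = n
    rw [MulAut.conj_apply]
    group

end grp

variable {ι : Type} [Fintype ι] [DecidableEq ι] {F : Type u} [Field F] [Fintype F]
  {F₀ : Type v} [Field F₀] [Fintype F₀]

set_option maxHeartbeats 1600000 in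
/-- `O_{p'}` of the centraliser of a standard field automorphism of prime order `p`. -/
theorem core_fieldO (j : F₀ →+* F) (Q₀ : QuadraticForm F₀ (ι → F₀))
    (Q : QuadraticForm F (ι → F)) (hc : BaseCompat j (⇑Q₀) (⇑Q)) (h2 : (2 : F) ≠ 0)
    (hQ : (QuadraticMap.polarBilin Q).Nondegenerate)
    (hQ₀ : (QuadraticMap.polarBilin Q₀).Nondegenerate) (hn : 7 ≤ Fintype.card ι)
    (hT : 9 ≤ Fintype.card ι ∨ Fintype.card ι ≤ 7 ∨
      ∀ U : Submodule F (ι → F), (∀ u ∈ U, Q u = 0) → Module.finrank F U ≤ 3)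
    (m : ℕ) (hcard : Fintype.card ι = 2 * m + 1) (hσc : FieldCompat (⇑Q : (ι → F) → F))
    (σ : RingAut F) (hj : ∀ x, (∃ y, j y = x) ↔ σ x = x) (p : ℕ) (hp : p.Prime)
    (hord : orderOf σ = p)
    (hvec : ∀ z : F₀, ∃ u v : ι → F₀, Q₀ u ≠ 0 ∧ Q₀ v = Q₀ u ∧
      QuadraticMap.polar (⇑Q₀) u v = z * Q₀ u)
    (hsimple : IsSimpleGroup (Cfsg.POmega F₀ (⇑Q₀ : (ι → F₀) → F₀)))
    (A : Subgroup (MulAut (Cfsg.POmega F (⇑Q : (ι → F) → F))))
    (hInnA : Cfsg.Inn (Cfsg.POmega F (⇑Q : (ι → F) → F)) ≤ A) :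
    Cfsg.pPrimeCore p ↥(A ⊓ Subgroup.centralizer {fieldO (⇑Q : (ι → F) → F) hσc σ}) ≠ ⊥ ↔
      Nat.Coprime p (Nat.card ↥(MonoidHom.eqLocus
        (fieldO (⇑Q : (ι → F) → F) hσc σ).toMonoidHom
        (MonoidHom.id (Cfsg.POmega F (⇑Q : (ι → F) → F))))) := by
  classical
  have hn4 : 4 ≤ Fintype.card ι := by omega
  have h2' : (2 : F₀) ≠ 0 := two_ne_zero_base j h2
  have hinj := conj_POmega_injective Q h2 hQ hn4
  set φ := fieldO (⇑Q : (ι → F) → F) hσc σ with hφ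
  have hInnN : (Cfsg.Inn (Cfsg.POmega F (⇑Q : (ι → F) → F))).Normal := inn_normal _
  rw [← card_inn_inf_centralizer hinj φ, pPrimeCore_ne_bot_iff]
  constructor
  · rintro ⟨N, hN1, hN2, hN3⟩
    by_contra hcop
    have hpd : p ∣ Nat.card ↥(Cfsg.Inn (Cfsg.POmega F (⇑Q : (ι → F) → F)) ⊓
        Subgroup.centralizer {φ}) := by
      by_contra hnd
      exact hcop ((Nat.Prime.coprime_iff_not_dvd hp).mpr hnd)
    set N' : Subgroup (MulAut (Cfsg.POmega F (⇑Q : (ι → F) → F))) :=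
      N.map (A ⊓ Subgroup.centralizer {φ}).subtype with hN'
    have hN'le : N' ≤ A ⊓ Subgroup.centralizer {φ} := by
      rintro _ ⟨n, -, rfl⟩
      exact n.2
    have hN'norm : ∀ c ∈ A ⊓ Subgroup.centralizer {φ}, ∀ n ∈ N', c * n * c⁻¹ ∈ N' := by
      rintro c hc' _ ⟨n, hn', rfl⟩
      exact ⟨⟨c, hc'⟩ * n * ⟨c, hc'⟩⁻¹, hN1.conj_mem n hn' ⟨c, hc'⟩, rfl⟩
    have hN'card : (Nat.card N').Coprime p := by
      rw [hN', Subgroup.card_map_of_injective (Subgroup.subtype_injective _)]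
      exact hN2
    have hbot := pprime_trivial j Q₀ Q hc h2 hQ hQ₀ hn hT m hcard hσc σ hj p hp hord hvec hsimple
      A N' hInnA hN'le hN'norm hN'card hpd
    apply hN3
    rw [eq_bot_iff]
    intro n hn'
    have h1 : (A ⊓ Subgroup.centralizer {φ}).subtype n ∈ N' := ⟨n, hn', rfl⟩
    rw [hbot, Subgroup.mem_bot] at h1
    rw [Subgroup.mem_bot]
    exact Subtype.ext h1
  · intro hcop
    have hle : Cfsg.Inn (Cfsg.POmega F (⇑Q : (ι → F) → F)) ⊓ Subgroup.centralizer {φ} ≤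
        A ⊓ Subgroup.centralizer {φ} := inf_le_inf_right _ hInnA
    refine ⟨(Cfsg.Inn (Cfsg.POmega F (⇑Q : (ι → F) → F)) ⊓ Subgroup.centralizer {φ}).subgroupOf
      (A ⊓ Subgroup.centralizer {φ}), ?_, ?_, ?_⟩
    · constructor
      intro n hn' c
      rw [Subgroup.mem_subgroupOf] at hn' ⊢
      refine ⟨?_, ?_⟩
      · exact hInnN.conj_mem _ hn'.1 _
      · exact (Subgroup.centralizer {φ}).mul_mem ((Subgroup.centralizer {φ}).mul_mem c.2.2 hn'.2)
          ((Subgroup.centralizer {φ}).inv_mem c.2.2)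
    · rw [Nat.card_congr (Subgroup.subgroupOfEquivOfLe hle).toEquiv]
      exact hcop.symm
    · -- non-triviality
      have hsimp : IsSimpleGroup ↥(OmSO Q₀) := OmSO_simple Q₀ h2' hQ₀ hn4 m hcard hsimple
      obtain ⟨s, hs⟩ := exists_ne (1 : ↥(OmSO Q₀))
      have hΛinj := LamO_injective j Q₀ Q hc h2 hQ hn4 m hcard
      have hΛrange := LamO_range j Q₀ Q hc h2 hQ hn4 m hcard hσc σ hj
      have hmem : LamO j Q₀ Q hc h2 (s : ↥(SOg Q₀)) ∈
          Cfsg.Inn (Cfsg.POmega F (⇑Q : (ι → F) → F)) ⊓ Subgroup.centralizer {φ} := by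
        refine ⟨LamO_mem_Inn j Q₀ Q hc h2 _ s.2, ?_⟩
        have : LamO j Q₀ Q hc h2 (s : ↥(SOg Q₀)) ∈ (LamO j Q₀ Q hc h2).range := ⟨_, rfl⟩
        rw [hΛrange] at this
        exact this.2
      intro hbot
      have h1 : (⟨_, hle hmem⟩ : ↥(A ⊓ Subgroup.centralizer {φ})) ∈
          (Cfsg.Inn (Cfsg.POmega F (⇑Q : (ι → F) → F)) ⊓ Subgroup.centralizer {φ}).subgroupOf
            (A ⊓ Subgroup.centralizer {φ}) := by
        rw [Subgroup.mem_subgroupOf]; exact hmem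
      rw [hbot, Subgroup.mem_bot] at h1
      have h3 : LamO j Q₀ Q hc h2 (s : ↥(SOg Q₀)) = 1 := congrArg Subtype.val h1
      have h4 : (s : ↥(SOg Q₀)) = 1 := hΛinj (by rw [h3, map_one])
      exact hs (Subtype.ext h4)

set_option maxHeartbeats 1600000 in
/-- `O_{p'}` of the centraliser of a conjugate of a standard field automorphism of prime order. -/
theorem core_field_conj (j : F₀ →+* F) (Q₀ : QuadraticForm F₀ (ι → F₀))
    (Q : QuadraticForm F (ι → F)) (hc : BaseCompat j (⇑Q₀) (⇑Q)) (h2 : (2 : F) ≠ 0)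
    (hQ : (QuadraticMap.polarBilin Q).Nondegenerate)
    (hQ₀ : (QuadraticMap.polarBilin Q₀).Nondegenerate) (hn : 7 ≤ Fintype.card ι)
    (hT : 9 ≤ Fintype.card ι ∨ Fintype.card ι ≤ 7 ∨
      ∀ U : Submodule F (ι → F), (∀ u ∈ U, Q u = 0) → Module.finrank F U ≤ 3)
    (m : ℕ) (hcard : Fintype.card ι = 2 * m + 1) (hσc : FieldCompat (⇑Q : (ι → F) → F))
    (σ : RingAut F) (hj : ∀ x, (∃ y, j y = x) ↔ σ x = x) (p : ℕ) (hp : p.Prime)
    (hord : orderOf σ = p)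
    (hvec : ∀ z : F₀, ∃ u v : ι → F₀, Q₀ u ≠ 0 ∧ Q₀ v = Q₀ u ∧
      QuadraticMap.polar (⇑Q₀) u v = z * Q₀ u)
    (hsimple : IsSimpleGroup (Cfsg.POmega F₀ (⇑Q₀ : (ι → F₀) → F₀)))
    (A : Subgroup (MulAut (Cfsg.POmega F (⇑Q : (ι → F) → F))))
    (hInnA : Cfsg.Inn (Cfsg.POmega F (⇑Q : (ι → F) → F)) ≤ A)
    (α x : MulAut (Cfsg.POmega F (⇑Q : (ι → F) → F)))
    (hx : α * x * α⁻¹ = fieldO (⇑Q : (ι → F) → F) hσc σ) :
    Cfsg.pPrimeCore p ↥(A ⊓ Subgroup.centralizer {x}) ≠ ⊥ ↔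
      Nat.Coprime p (Nat.card ↥(MonoidHom.eqLocus x.toMonoidHom
        (MonoidHom.id (Cfsg.POmega F (⇑Q : (ι → F) → F))))) := by
  have hInnN : (Cfsg.Inn (Cfsg.POmega F (⇑Q : (ι → F) → F))).Normal := inn_normal _
  have e := infCentConjEquiv A α x
  rw [pPrimeCore_ne_bot_congr p e, ← card_eqLocus_conj α x]
  have hInnA' := le_map_conj_of_normal _ A hInnA α
  have key := core_fieldO j Q₀ Q hc h2 hQ hQ₀ hn hT m hcard hσc σ hj p hp hord hvec hsimple
    (A.map (MulAut.conj α).toMonoidHom) hInnA'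
  rw [← hx] at key
  exact key

end Cfsg.Agent.Lib.Helper16.OL
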