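import Mathlib
import Cfsg.Agent.Lib.Helper16.OB20
import Cfsg.Agent.Lib.Helper16.OL16

set_option autoImplicit false
set_option linter.unusedSectionVars false
set_option linter.unusedVariables false

/-! The case of an automorphism induced by a similarity in the theorem on `O_{p'}` of centralisers
for minus-type orthogonal groups. -/

namespace Cfsg.Agent.Lib.Helper16.OB

open Matrix Module Cfsg.Agent.Lib.Lead Cfsg.Agent.Lib.Lead.OA Cfsg.Agent.Lib.Helper16
  Cfsg.Agent.Lib.Helper16.OA Cfsg.Agent.Lib.Helper16.OL Cfsg.Agent.Lib.Helper16.PSC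
  Cfsg.Agent.Lib.Lead.OAP Cfsg.Agent.Lib.Lead.OAM Cfsg.Agent.Lib.Helper16.OM
  Cfsg.Agent.Lib.helper6

universe u v

section minus

variable {F : Type u} [Field F] [Fintype F] {m : ℕ}

/-- in odd characteristic, similarities with `eps = 1` induce inner-diagonal automorphisms. -/
theorem pred_of_eps (hodd : Odd (Fintype.card F)) (a b : F)
    (hab : ∀ z₁ z₂ : F, z₁ ^ 2 + a * z₁ * z₂ + b * z₂ ^ 2 = 0 → z₁ = 0 ∧ z₂ = 0)
    (hne : ∃ v, qfMinus m F a b v ≠ 0) (g : ↥(GOq (qfMinus m F a b)))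
    (hg : eps (qfMinus m F a b) hne (m + 1) g = 1) :
    Cfsg.IsInnerDiagonalAutPOmegaMinus m a b (cHom (Cfsg.quadFormMinus m F a b) g) := by
  refine ⟨(g : GL ((Fin m ⊕ Fin m) ⊕ Fin 2) F), g.2, ?_, ?_⟩
  · rw [psc_minus_iff a b hodd hab _ (mult (qfMinus m F a b) g : F) (Units.ne_zero _)
      (mult_spec (qfMinus m F a b) g), ← eps_eq_one_iff (qfMinus m F a b) hne]
    exact hg
  · exact (induced_iff _ _ g.2 _).2 rfl

/-- in characteristic two, inner automorphisms are inner-diagonal. -/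
theorem pred_of_inn_char2 [CharP F 2] (hm : 2 ≤ m) (a b : F)
    (hab : ∀ z₁ z₂ : F, z₁ ^ 2 + a * z₁ * z₂ + b * z₂ ^ 2 = 0 → z₁ = 0 ∧ z₂ = 0)
    (x : MulAut (Cfsg.POmega F (Cfsg.quadFormMinus m F a b)))
    (hx : x ∈ Cfsg.Inn (Cfsg.POmega F (Cfsg.quadFormMinus m F a b))) :
    Cfsg.IsInnerDiagonalAutPOmegaMinus m a b x := by
  have hinn : Cfsg.Inn (Cfsg.POmega F (Cfsg.quadFormMinus m F a b)) =
      (Cfsg.Omega F (⇑(qfMinus m F a b) : ((Fin m ⊕ Fin m) ⊕ Fin 2 → F) → F)).map
        (c0 (qfMinus m F a b)) := inn_eq' (qfMinus m F a b)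
  rw [hinn] at hx
  obtain ⟨s, hs, rfl⟩ := hx
  refine ⟨(s : GL ((Fin m ⊕ Fin m) ⊕ Fin 2) F), (isoToGO (qfMinus m F a b) s).2,
    (pscMinus_iff_omega a b hm hab s).2 hs, ?_⟩
  exact (induced_iff _ _ (isoToGO (qfMinus m F a b) s).2 _).2 rfl

set_option maxHeartbeats 1600000 in
/-- the case of an automorphism induced by a similarity: both sides of the equivalence fail. -/
theorem lin_case {r : ℕ} [Fact r.Prime] [CharP F r] (hm : 3 ≤ m) (a b : F)
    (hab : ∀ z₁ z₂ : F, z₁ ^ 2 + a * z₁ * z₂ + b * z₂ ^ 2 = 0 → z₁ = 0 ∧ z₂ = 0)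
    (A : Subgroup (MulAut (Cfsg.POmega F (Cfsg.quadFormMinus m F a b))))
    (hinn : Cfsg.Inn (Cfsg.POmega F (Cfsg.quadFormMinus m F a b)) ≤ A)
    {p : ℕ} [Fact p.Prime] (hpr : p ≠ r) (gG : ↥(GOq (qfMinus m F a b)))
    (hord : orderOf (cHom (Cfsg.quadFormMinus m F a b) gG) = p)
    (hnot : ¬ Cfsg.IsInnerDiagonalAutPOmegaMinus m a b (cHom (Cfsg.quadFormMinus m F a b) gG)) :
    Cfsg.pPrimeCore p ↥(A ⊓ Subgroup.centralizer {cHom (Cfsg.quadFormMinus m F a b) gG}) = ⊥ ∧
      ¬ Cfsg.IsFieldAutClassPOmegaMinus m (cHom (Cfsg.quadFormMinus m F a b) gG) := by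
  classical
  obtain ⟨hQ, hn7, hT⟩ := minus_hyps m hm a b hab
  have hne := minus_exists_ne_zero (F := F) m a b
  have hcard := card_minus_index m
  have hp : p.Prime := Fact.out
  set x := cHom (Cfsg.quadFormMinus m F a b) gG with hx
  have hxp : x ^ p = 1 := by rw [← hord]; exact pow_orderOf_eq_one x
  have hInnN : (Cfsg.Inn (Cfsg.POmega F (Cfsg.quadFormMinus m F a b))).Normal := inn_normal _
  by_cases hch : ringChar F = 2
  · exfalso
    have hcp : CharP F 2 := by
      rw [← hch]; exact ringChar.charP F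
    have hr2 : r = 2 := CharP.eq F ‹CharP F r› hcp
    have hpodd : Odd p := by
      rcases hp.eq_two_or_odd' with h | h
      · exact absurd (h.trans hr2.symm) hpr
      · exact h
    apply hnot
    apply pred_of_inn_char2 (by omega) a b hab
    have hidx := relIndex_inn_pgo_char2 (qfMinus m F a b) hQ hn7 hne
    have hxr : x ∈ (cHom (Cfsg.quadFormMinus m F a b)).range := ⟨gG, rfl⟩
    have hsq : x * x ∈ Cfsg.Inn (Cfsg.POmega F (Cfsg.quadFormMinus m F a b)) := by
      have h1 : ((Cfsg.Inn (Cfsg.POmega F (Cfsg.quadFormMinus m F a b))).subgroupOf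
          (cHom (Cfsg.quadFormMinus m F a b)).range).index = 2 := hidx
      have h3 := Subgroup.mul_self_mem_of_index_two h1
        (⟨x, hxr⟩ : ↥(cHom (Cfsg.quadFormMinus m F a b)).range)
      rw [Subgroup.mem_subgroupOf] at h3
      exact h3
    obtain ⟨k, hk⟩ := hpodd
    have e : x = ((x * x) ^ k)⁻¹ := by
      rw [eq_inv_iff_mul_eq_one, ← pow_two, ← pow_mul, ← pow_succ', ← hk]
      exact hxp
    rw [e]
    exact Subgroup.inv_mem _ (Subgroup.pow_mem _ hsq k)
  · have hodd : Odd (Fintype.card F) := Nat.odd_iff.mpr (FiniteField.odd_card_of_char_ne_two hch)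
    have h2 := two_ne_zero_of_odd hodd
    have hge : eps (qfMinus m F a b) hne (m + 1) gG ≠ 1 := fun h =>
      hnot (pred_of_eps hodd a b hab hne gG h)
    have hesq := eps_sq (qfMinus m F a b) hQ hne (m + 1) hcard gG
    -- `p = 2`
    have hp2 : p = 2 := by
      rcases hp.eq_two_or_odd' with h | h
      · exact h
      · exfalso
        apply hge
        have hker : cHom (⇑(qfMinus m F a b)) (gG ^ p) = 1 := by
          rw [map_pow]; exact hxp
        obtain ⟨d, hd⟩ := cHom_ker_scalar (qfMinus m F a b) hQ hn7 (gG ^ p) hker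
        have hd0 : d ≠ 0 := by
          rintro rfl
          have h3 : IsUnit (((gG ^ p : ↥(GOq (qfMinus m F a b))) :
              GL ((Fin m ⊕ Fin m) ⊕ Fin 2) F) :
              Matrix ((Fin m ⊕ Fin m) ⊕ Fin 2) ((Fin m ⊕ Fin m) ⊕ Fin 2) F).det :=
            (Matrix.isUnit_iff_isUnit_det _).mp (Units.isUnit _)
          rw [hd, zero_smul, Matrix.det_zero] at h3
          exact not_isUnit_zero h3
        have h4 : gG ^ p = scalGO (qfMinus m F a b) (Units.mk0 d hd0) := by
          apply Subtype.ext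
          apply Units.ext
          rw [hd, scalGO_coe, Units.val_mk0]
        have h5 : eps (qfMinus m F a b) hne (m + 1) gG ^ p = 1 := by
          rw [← map_pow, h4, eps_scal (qfMinus m F a b) hne (m + 1) hcard]
        obtain ⟨k, hk⟩ := h
        have h6 : (eps (qfMinus m F a b) hne (m + 1) gG * eps (qfMinus m F a b) hne (m + 1) gG) ^ k *
            eps (qfMinus m F a b) hne (m + 1) gG = 1 := by
          rw [← pow_two, ← pow_mul, ← pow_succ, ← hk]
          exact h5
        rwa [hesq, one_pow, one_mul] at h6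
    have hker : cHom (⇑(qfMinus m F a b)) (gG * gG) = 1 := by
      have := hxp
      rw [hp2, pow_two] at this
      rw [map_mul]; exact this
    obtain ⟨lam, hlam⟩ := cHom_ker_scalar (qfMinus m F a b) hQ hn7 (gG * gG) hker
    have hgg : ((gG : GL ((Fin m ⊕ Fin m) ⊕ Fin 2) F) :
          Matrix ((Fin m ⊕ Fin m) ⊕ Fin 2) ((Fin m ⊕ Fin m) ⊕ Fin 2) F) *
        ((gG : GL ((Fin m ⊕ Fin m) ⊕ Fin 2) F) :
          Matrix ((Fin m ⊕ Fin m) ⊕ Fin 2) ((Fin m ⊕ Fin m) ⊕ Fin 2) F) =
        lam • (1 : Matrix ((Fin m ⊕ Fin m) ⊕ Fin 2) ((Fin m ⊕ Fin m) ⊕ Fin 2) F) := hlam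
    have hW : ∀ U : Submodule F ((Fin m ⊕ Fin m) ⊕ Fin 2 → F),
        (∀ u ∈ U, qfMinus m F a b u = 0) → finrank F ↥U ≤ m :=
      fun U hU => Cfsg.Agent.Lib.Lead.WI.minus_ts_le (k := m) (a := a) (b := b) hab U hU
    constructor
    · by_contra hcore
      rw [← Ne, Cfsg.Agent.Lib.Helper16.OL.pPrimeCore_ne_bot_iff] at hcore
      obtain ⟨N, hN1, hN2, hN3⟩ := hcore
      set N' : Subgroup (MulAut (Cfsg.POmega F (Cfsg.quadFormMinus m F a b))) :=
        N.map (A ⊓ Subgroup.centralizer {x}).subtype with hN'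
      have hN'le : N' ≤ A ⊓ Subgroup.centralizer {x} := by
        rintro _ ⟨n, -, rfl⟩
        exact n.2
      have hN'norm : ∀ c ∈ A ⊓ Subgroup.centralizer {x}, ∀ n ∈ N', c * n * c⁻¹ ∈ N' := by
        rintro c hc' _ ⟨n, hn', rfl⟩
        exact ⟨⟨c, hc'⟩ * n * ⟨c, hc'⟩⁻¹, hN1.conj_mem n hn' ⟨c, hc'⟩, rfl⟩
      have hN'card : Nat.card N' = Nat.card N := by
        rw [hN', Subgroup.card_map_of_injective (Subgroup.subtype_injective _)]
      have hfinM : Finite (MulAut (Cfsg.POmega F (Cfsg.quadFormMinus m F a b))) :=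
        Finite.of_injective (fun e => (e : Cfsg.POmega F (Cfsg.quadFormMinus m F a b) →
          Cfsg.POmega F (Cfsg.quadFormMinus m F a b))) DFunLike.coe_injective
      have hfinN' : Finite ↥N' := inferInstance
      have hoddN : Odd (Nat.card N') := by
        rw [hN'card]
        rw [hp2] at hN2
        exact Nat.Coprime.odd_of_right hN2
      have hbot : N' = ⊥ := graph_core (qfMinus m F a b) h2 hQ hn7 hT (m + 1) hcard (by omega) hne m
        (by omega) hW gG hge lam hgg A N' hoddN hinn hN'le hN'norm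
      apply hN3
      rw [eq_bot_iff]
      intro n hn'
      have h1 : (A ⊓ Subgroup.centralizer {x}).subtype n ∈ N' := ⟨n, hn', rfl⟩
      rw [hbot, Subgroup.mem_bot] at h1
      rw [Subgroup.mem_bot]
      exact Subtype.ext h1
    · rintro ⟨a', b', ψ, σ, hab', hσ1, ha', hb', hfa⟩
      have hσ' : SigCompat (Cfsg.quadFormMinus m F a' b') σ := sigCompat_minus σ a' b' ha' hb'
      have hφ : autTr ψ x = phiS (Cfsg.quadFormMinus m F a' b') σ hσ' :=
        (isFieldAut_iff_phiS (Cfsg.quadFormMinus m F a' b') σ hσ' _).1 hfa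
      obtain ⟨hQ', hn', hT'⟩ := minus_hyps m hm a' b' hab'
      have hordσ : orderOf (σ : RingAut F) = 2 := by
        have h1 := orderOf_phiS (qfMinus m F a' b') hQ' hn' σ hσ'
        have h2' : orderOf (autTr ψ x) = orderOf x := (autTr ψ).orderOf_eq x
        rw [hφ] at h2'
        rw [← hp2, ← hord, ← h2']
        exact h1.symm
      exact sigma_order_ne_two a' b' hab' σ ha' hb' hordσ

end minus

end Cfsg.Agent.Lib.Helper16.OB
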