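import Mathlib
import Cfsg.Agent.Lib.Helper16.OB21

set_option autoImplicit false
set_option linter.unusedSectionVars false
set_option linter.unusedVariables false

/-! Automorphisms of prime order of minus-type orthogonal groups that are not induced by
similarities are field automorphisms. -/

namespace Cfsg.Agent.Lib.Helper16.OB

open Matrix Module Cfsg.Agent.Lib.Lead Cfsg.Agent.Lib.Lead.OA Cfsg.Agent.Lib.Helper16
  Cfsg.Agent.Lib.Helper16.OA Cfsg.Agent.Lib.Helper16.OL Cfsg.Agent.Lib.Helper16.PSC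
  Cfsg.Agent.Lib.Lead.OAP Cfsg.Agent.Lib.Lead.OAM Cfsg.Agent.Lib.Helper16.OM
  Cfsg.Agent.Lib.helper6

universe u v

section tr

variable {ι : Type} [Fintype ι] [DecidableEq ι] {F : Type u} [Field F]

/-- conjugating a semisimilarity by a change of coordinates. -/
theorem ss_conj_carries {Q Q' : (ι → F) → F} {t : GL ι F} (ht : Carries Q Q' t)
    (y : ↥(gammaO Q)) :
    (⟨t * (y : GammaL ι F).left * (glMapEquiv (y : GammaL ι F).right t)⁻¹,
      (y : GammaL ι F).right⟩ : GammaL ι F) ∈ gammaO Q' := by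
  obtain ⟨c, hc⟩ := y.2
  refine ⟨c, fun v => ?_⟩
  set σ : RingAut F := (y : GammaL ι F).right with hσ
  set g : GL ι F := (y : GammaL ι F).left with hg
  set w : ι → F := ((t⁻¹ : GL ι F) : Matrix ι ι F) *ᵥ v with hw
  have hv : v = (t : Matrix ι ι F) *ᵥ w := by
    rw [hw, Matrix.mulVec_mulVec, ← Units.val_mul, mul_inv_cancel, Units.val_one,
      Matrix.one_mulVec]
  have h1 : ((glMapEquiv σ t)⁻¹ : GL ι F).1 *ᵥ (fun i => σ (v i)) = fun i => σ (w i) := by
    have h2 := mulVec_map_field (σ : F ≃+* F) t w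
    rw [← hv] at h2
    rw [← h2, Matrix.mulVec_mulVec, ← Units.val_mul, inv_mul_cancel, Units.val_one,
      Matrix.one_mulVec]
  show Q' (((t * g * (glMapEquiv σ t)⁻¹ : GL ι F) : Matrix ι ι F) *ᵥ fun i => σ (v i)) =
    (c : F) * σ (Q' v)
  rw [Units.val_mul, Units.val_mul, ← Matrix.mulVec_mulVec, ← Matrix.mulVec_mulVec, h1, ht,
    hv, ht]
  exact hc w

/-- transport of the automorphism induced by a semisimilarity along a change of coordinates. -/
theorem PsiT_ssHom {Q Q' : (ι → F) → F} {t : GL ι F} (ht : Carries Q Q' t) (y : ↥(gammaO Q)) :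
    PsiT ht (ssHom Q y) = ssHom Q' ⟨_, ss_conj_carries ht y⟩ := by
  apply MulEquiv.ext
  intro z
  obtain ⟨x, rfl⟩ := (psiT ht).surjective z
  rw [PsiT_apply]
  induction x using QuotientGroup.induction_on with
  | H s =>
    rw [ssHom_mk, psiT_mk, psiT_mk, ssHom_mk]
    congr 1
    apply Subtype.ext
    apply Subtype.ext
    rw [psiT_mk_coe, ssHom_mk_coe, ssHom_mk_coe, psiT_mk_coe]
    show t * ((y : GammaL ι F).left * glMapEquiv (y : GammaL ι F).right _ *
        (y : GammaL ι F).left⁻¹) * t⁻¹ =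
      t * (y : GammaL ι F).left * (glMapEquiv (y : GammaL ι F).right t)⁻¹ *
        glMapEquiv (y : GammaL ι F).right (t * _ * t⁻¹) *
        (t * (y : GammaL ι F).left * (glMapEquiv (y : GammaL ι F).right t)⁻¹)⁻¹
    rw [map_mul, map_mul, map_inv]
    group

end tr

section grp

variable {X : Type u} {Y : Type v} [Group X] [Group Y]

theorem autTr_trans_aut (ψ : X ≃* Y) (β : MulAut Y) (x : MulAut X) :
    autTr (ψ.trans β) x = β * autTr ψ x * β⁻¹ := by
  apply MulEquiv.ext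
  intro z
  rw [MulAut.mul_apply, MulAut.mul_apply, autTr_apply', autTr_apply']
  rfl

end grp

section fld

variable {F : Type u} [Field F]

/-- a quadratic polynomial with coefficients fixed by `σ` of odd order and no fixed root has no
root. -/
theorem no_root_of_odd (σ : RingAut F) (p : ℕ) (hp : Odd p) (hσp : σ ^ p = 1) (a c : F)
    (ha : σ a = a) (hc : σ c = c)
    (h : ∀ t : F, σ t = t → t ^ 2 + a * t + c ≠ 0) : ∀ t : F, t ^ 2 + a * t + c ≠ 0 := by
  intro t ht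
  have hσt : σ t ^ 2 + a * σ t + c = 0 := by
    have := congrArg σ ht
    rwa [map_add, map_add, map_mul, map_pow, ha, hc, map_zero] at this
  have hprod : (σ t - t) * (σ t + t + a) = 0 := by linear_combination hσt - ht
  rcases mul_eq_zero.mp hprod with h1 | h1
  · exact h t (sub_eq_zero.mp h1) ht
  · have hσt' : σ t = -a - t := by linear_combination h1
    have hσσ : σ (σ t) = t := by
      rw [hσt', map_sub, map_neg, ha, hσt']
      ring
    have hpow2 : ∀ k : ℕ, (σ ^ (2 * k)) t = t := by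
      intro k
      induction k with
      | zero => simp
      | succ k ih =>
        rw [Nat.mul_succ, pow_add, pow_two]
        show (σ ^ (2 * k)) (σ (σ t)) = t
        rw [hσσ, ih]
    obtain ⟨k, hk⟩ := hp
    have h3 : (σ ^ p) t = σ t := by
      rw [hk, pow_succ]
      show (σ ^ (2 * k)) (σ t) = σ t
      have : (σ ^ (2 * k)) (σ t) = σ ((σ ^ (2 * k)) t) := by
        rw [← RingAut.mul_apply, ← RingAut.mul_apply, ← pow_succ, ← pow_succ']
      rw [this, hpow2]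
    rw [hσp] at h3
    exact h t h3.symm ht

end fld

section minus

variable {F : Type u} [Field F] [Fintype F] {m : ℕ}

set_option maxHeartbeats 1600000 in
/-- an automorphism of odd prime order induced by a semisimilarity with non-trivial field
automorphism part is a field automorphism. -/
theorem field_class_of_ss (hm : 3 ≤ m) (a b : F)
    (hab : ∀ z₁ z₂ : F, z₁ ^ 2 + a * z₁ * z₂ + b * z₂ ^ 2 = 0 → z₁ = 0 ∧ z₂ = 0)
    (y : ↥(gammaO (⇑(qfMinus m F a b) : ((Fin m ⊕ Fin m) ⊕ Fin 2 → F) → F)))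
    (p : ℕ) (hp : p.Prime) (hpodd : Odd p)
    (hσ1 : (y : GammaL ((Fin m ⊕ Fin m) ⊕ Fin 2) F).right ≠ 1)
    (hord : orderOf (ssHom (⇑(qfMinus m F a b) : ((Fin m ⊕ Fin m) ⊕ Fin 2 → F) → F) y) = p) :
    Cfsg.IsFieldAutClassPOmegaMinus m
      (ssHom (⇑(qfMinus m F a b) : ((Fin m ⊕ Fin m) ⊕ Fin 2 → F) → F) y) := by
  classical
  obtain ⟨hQ, hn7, hT⟩ := minus_hyps m hm a b hab
  have hpf : Fact p.Prime := ⟨hp⟩
  set x := ssHom (⇑(qfMinus m F a b) : ((Fin m ⊕ Fin m) ⊕ Fin 2 → F) → F) y with hx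
  set σ : RingAut F := (y : GammaL ((Fin m ⊕ Fin m) ⊕ Fin 2) F).right with hσ
  have hxp : x ^ p = 1 := by rw [← hord]; exact pow_orderOf_eq_one x
  have hσp : σ ^ p = 1 := by
    have h1 : ssHom (⇑(qfMinus m F a b) : ((Fin m ⊕ Fin m) ⊕ Fin 2 → F) → F) (y ^ p) = 1 := by
      rw [map_pow]; exact hxp
    have h2 := ssHom_ker_le (qfMinus m F a b) hQ hn7 (MonoidHom.mem_ker.mpr h1)
    rw [MonoidHom.mem_ker, map_pow, ssRight_apply] at h2
    exact h2
  have hordσ : orderOf σ = p := orderOf_eq_prime hσp hσ1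
  -- the fixed field and an irreducible quadratic over it
  set F₀' : Subfield F := FixedPoints.subfield (Subgroup.zpowers σ) F with hF₀'def
  have hmem : ∀ z, z ∈ F₀' ↔ σ z = z := fun z => Cfsg.Agent.Lib.Helper16.mem_fixed_iff σ z
  have hfin : Finite ↥F₀' := inferInstance
  obtain ⟨ζ₀, hζ₀⟩ := exists_irred_quadratic (F₀ := ↥F₀')
  set b' : F := (ζ₀ : F) with hb'def
  have hb' : σ b' = b' := (hmem _).mp ζ₀.2
  have ha' : σ (1 : F) = 1 := map_one σ
  have hζ : ∀ t : F, t ^ 2 + t + b' ≠ 0 := by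
    have := no_root_of_odd σ p hpodd hσp 1 b' ha' hb' (by
      intro t ht h0
      apply hζ₀ ⟨t, (hmem t).mpr ht⟩
      apply Subtype.ext
      show t ^ 2 + t + b' = 0
      linear_combination h0)
    intro t h0
    exact this t (by linear_combination h0)
  have hab' := Cfsg.Agent.Lib.Helper16.OSemi.aniso_of_irred b' hζ
  obtain ⟨t, ht⟩ := exists_carrier_minus (m := m) a b 1 b' hab hab'
  obtain ⟨hQ', hn7', hT'⟩ := minus_hyps m hm 1 b' hab'
  have hσ' : SigCompat (⇑(qfMinus m F 1 b') : ((Fin m ⊕ Fin m) ⊕ Fin 2 → F) → F) σ :=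
    sigCompat_minus σ 1 b' ha' hb'
  -- transport
  have hx' := PsiT_ssHom ht y
  set y' : ↥(gammaO (⇑(qfMinus m F 1 b') : ((Fin m ⊕ Fin m) ⊕ Fin 2 → F) → F)) :=
    ⟨_, ss_conj_carries ht y⟩ with hy'
  have hright : ssRight (⇑(qfMinus m F 1 b') : ((Fin m ⊕ Fin m) ⊕ Fin 2 → F) → F) y' = σ := rfl
  have h1 : y' * (sigEl (⇑(qfMinus m F 1 b') : ((Fin m ⊕ Fin m) ⊕ Fin 2 → F) → F) σ hσ')⁻¹ ∈
      (ssRight (⇑(qfMinus m F 1 b') : ((Fin m ⊕ Fin m) ⊕ Fin 2 → F) → F)).ker := by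
    rw [MonoidHom.mem_ker, map_mul, map_inv, ssRight_sigEl, hright, mul_inv_cancel]
  rw [ssRight_ker] at h1
  obtain ⟨g', hg'⟩ := h1
  have e : y' = goIncl (⇑(qfMinus m F 1 b') : ((Fin m ⊕ Fin m) ⊕ Fin 2 → F) → F) g' *
      sigEl (⇑(qfMinus m F 1 b') : ((Fin m ⊕ Fin m) ⊕ Fin 2 → F) → F) σ hσ' := by
    rw [hg']; group
  have hx'' : PsiT ht x = cHom (⇑(qfMinus m F 1 b') : ((Fin m ⊕ Fin m) ⊕ Fin 2 → F) → F) g' *
      phiS (⇑(qfMinus m F 1 b') : ((Fin m ⊕ Fin m) ⊕ Fin 2 → F) → F) σ hσ' := by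
    rw [hx, hx', e, map_mul, ssHom_goIncl]
    rfl
  have hpow' : (cHom (⇑(qfMinus m F 1 b') : ((Fin m ⊕ Fin m) ⊕ Fin 2 → F) → F) g' *
      phiS (⇑(qfMinus m F 1 b') : ((Fin m ⊕ Fin m) ⊕ Fin 2 → F) → F) σ hσ') ^ p = 1 := by
    rw [← hx'', ← map_pow, hxp, map_one]
  have hinj : ∀ i j, i < p → j < p → σ ^ i = σ ^ j → i = j := by
    intro i j hi hj hij
    rw [← hordσ] at hi hj
    exact pow_injOn_Iio_orderOf (Set.mem_Iio.mpr hi) (Set.mem_Iio.mpr hj) hij
  obtain ⟨h, hh⟩ := field_conj_sig (qfMinus m F 1 b') hQ' hn7' σ hσ' p hordσ hp.pos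
    (fun g hg hA => h90_GO_minus 1 b' hab' σ ha' hb' p hinj hp.pos hσp g hg hA) g' hpow'
  set β : MulAut (Cfsg.POmega F (⇑(qfMinus m F 1 b') : ((Fin m ⊕ Fin m) ⊕ Fin 2 → F) → F)) :=
    (cHom (⇑(qfMinus m F 1 b') : ((Fin m ⊕ Fin m) ⊕ Fin 2 → F) → F) h)⁻¹ with hβ
  have key : autTr ((psiT ht).trans β) x =
      phiS (⇑(qfMinus m F 1 b') : ((Fin m ⊕ Fin m) ⊕ Fin 2 → F) → F) σ hσ' := by
    rw [autTr_trans_aut]
    have : autTr (psiT ht) x = PsiT ht x := rfl
    rw [this, hx'', hh, hβ]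
    group
  exact ⟨1, b', (psiT ht).trans β, σ, hab', hσ1, ha', hb',
    (isFieldAut_iff_phiS (⇑(qfMinus m F 1 b') : ((Fin m ⊕ Fin m) ⊕ Fin 2 → F) → F) σ hσ' _).2 key⟩

end minus

end Cfsg.Agent.Lib.Helper16.OB
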