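import Mathlib
import Cfsg.Agent.Lib.Helper16.OB22
import Cfsg.Agent.Lib.Helper28.OAll

set_option autoImplicit false
set_option linter.unusedSectionVars false
set_option linter.unusedVariables false

/-! An automorphism commuting with the image of `Ω` over a subfield: the signs are trivial. -/

namespace Cfsg.Agent.Lib.Helper16.OB

open Matrix Module Cfsg.Agent.Lib.Lead Cfsg.Agent.Lib.Lead.OA Cfsg.Agent.Lib.Helper16
  Cfsg.Agent.Lib.Helper16.OA Cfsg.Agent.Lib.Helper16.OL Cfsg.Agent.Lib.Helper16.PSC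
  Cfsg.Agent.Lib.Lead.OAP Cfsg.Agent.Lib.Lead.OAM Cfsg.Agent.Lib.Helper16.OM
  Cfsg.Agent.Lib.helper6

universe u v

section one

variable {ι : Type} [Fintype ι] [DecidableEq ι] {F : Type u} [Field F] [Fintype F]
variable (Q : QuadraticForm F (ι → F))

/-- an automorphism commuting with the automorphism induced by an isometry `ρ` maps `ρ` to
`± ρ`. -/
theorem ss_comm_scalar (hQ : (QuadraticMap.polarBilin Q).Nondegenerate)
    (hn7 : 7 ≤ Fintype.card ι) (hne : ∃ v, Q v ≠ 0) (y : ↥(gammaO (⇑Q : (ι → F) → F)))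
    (ρ : ↥(Cfsg.isometryGroup F (⇑Q : (ι → F) → F)))
    (hc : ssHom (⇑Q : (ι → F) → F) y * c0 Q ρ = c0 Q ρ * ssHom (⇑Q : (ι → F) → F) y) :
    ∃ d : F, d * d = 1 ∧
      ((ssGL ι F (y : GammaL ι F) (ρ : GL ι F) * (ρ : GL ι F)⁻¹ : GL ι F) : Matrix ι ι F) =
        d • (1 : Matrix ι ι F) := by
  set ρ' : ↥(GOq Q) := isoToGO Q ρ with hρ'
  have hmem : ssGL ι F (y : GammaL ι F) (ρ : GL ι F) ∈ Cfsg.isometryGroup F (⇑Q : (ι → F) → F) :=
    ss_conj_mem y.2 ρ.2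
  have h1 := ssHom_conj_cHom (⇑Q : (ι → F) → F) y ρ'
  have h3 : ssHom (⇑Q : (ι → F) → F) y * cHom (⇑Q : (ι → F) → F) ρ' *
      (ssHom (⇑Q : (ι → F) → F) y)⁻¹ = cHom (⇑Q : (ι → F) → F) ρ' := by
    rw [c0_apply] at hc
    rw [hc, mul_inv_cancel_right]
  rw [h3] at h1
  set zG : ↥(GOq Q) := ⟨ssGL ι F (y : GammaL ι F) (ρ' : GL ι F), ssGL_mem_GO y.2 ρ'.2⟩ * ρ'⁻¹
    with hzG
  have hcz : cHom (⇑Q : (ι → F) → F) zG = 1 := by
    rw [hzG, map_mul, map_inv, ← h1, mul_inv_cancel]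
  obtain ⟨d, hd⟩ := cHom_ker_scalar Q hQ hn7 _ hcz
  have hziso : (zG : GL ι F) ∈ Cfsg.isometryGroup F (⇑Q : (ι → F) → F) :=
    (Cfsg.isometryGroup F (⇑Q : (ι → F) → F)).mul_mem hmem
      ((Cfsg.isometryGroup F (⇑Q : (ι → F) → F)).inv_mem ρ.2)
  have hmz : mult Q zG = 1 := (mult_eq_one_iff Q hne zG).mpr hziso
  have hdd : d * d = 1 := by
    have := mult_of_scalar Q hne zG d hd
    rw [hmz, Units.val_one] at this
    exact this.symm
  exact ⟨d, hdd, hd⟩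

end one

section two

variable {ι : Type} [Fintype ι] [DecidableEq ι] {F : Type u} [Field F] [Fintype F]
  {F₀ : Type v} [Field F₀] [Fintype F₀]

/-- a scalar matrix `± 1` over the subfield is fixed by the action of a semilinear map. -/
theorem ssGL_scalar_pm (x : GammaL ι F) (z : GL ι F) (d : F) (hdd : d * d = 1)
    (hz : (z : Matrix ι ι F) = d • (1 : Matrix ι ι F)) : ssGL ι F x z = z := by
  have hτd : x.right d = d := by
    have : (d - 1) * (d + 1) = 0 := by linear_combination hdd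
    rcases mul_eq_zero.mp this with h | h
    · have : d = 1 := by linear_combination h
      rw [this, map_one]
    · have : d = -1 := by linear_combination h
      rw [this, map_neg, map_one]
  rw [ssGL_apply]
  have e1 : glMapEquiv x.right z = z := by
    apply Units.ext
    rw [glMapEquiv_val, hz]
    ext i j
    rw [Matrix.map_apply]
    show x.right (d * (1 : Matrix ι ι F) i j) = d * (1 : Matrix ι ι F) i j
    rw [map_mul, hτd, Matrix.one_apply]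
    split_ifs
    · rw [map_one]
    · rw [map_zero]
  rw [e1, scalar_central_GL z d hz, mul_inv_cancel_right]

set_option maxHeartbeats 1600000 in
/-- an automorphism commuting with the image of `Ω` over the subfield fixes the base-changed
matrices of the elements of `Ω`: there is no sign. -/
theorem sign_trivial (j : F₀ →+* F) (Q₀ : QuadraticForm F₀ (ι → F₀))
    (Q : QuadraticForm F (ι → F)) (hc : BaseCompat j (⇑Q₀) (⇑Q))
    (hQ₀ : (QuadraticMap.polarBilin Q₀).Nondegenerate)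
    (hQ : (QuadraticMap.polarBilin Q).Nondegenerate) (hn7 : 7 ≤ Fintype.card ι)
    (hne₀ : ∃ v, Q₀ v ≠ 0) (hne : ∃ v, Q v ≠ 0) (y : ↥(gammaO (⇑Q : (ι → F) → F)))
    (hcomm : ∀ s : ↥(Cfsg.isometryGroup F₀ (⇑Q₀ : (ι → F₀) → F₀)),
      s ∈ Cfsg.Omega F₀ (⇑Q₀ : (ι → F₀) → F₀) →
      ssHom (⇑Q : (ι → F) → F) y * c0 Q (inclIsoG j Q₀ Q hc s) =
        c0 Q (inclIsoG j Q₀ Q hc s) * ssHom (⇑Q : (ι → F) → F) y)
    (s : ↥(Cfsg.isometryGroup F₀ (⇑Q₀ : (ι → F₀) → F₀)))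
    (hs : s ∈ Cfsg.Omega F₀ (⇑Q₀ : (ι → F₀) → F₀)) :
    ssGL ι F (y : GammaL ι F) ((inclIsoG j Q₀ Q hc s : ↥(Cfsg.isometryGroup F (⇑Q : (ι → F) → F))) :
      GL ι F) = ((inclIsoG j Q₀ Q hc s : ↥(Cfsg.isometryGroup F (⇑Q : (ι → F) → F))) : GL ι F) := by
  classical
  set σy : MulAut (GL ι F) := ssGL ι F (y : GammaL ι F) with hσy
  -- the base change map on `Ω`
  set e : ↥(Cfsg.Omega F₀ (⇑Q₀ : (ι → F₀) → F₀)) →* GL ι F :=
    ((Cfsg.isometryGroup F (⇑Q : (ι → F) → F)).subtype.comp (inclIsoG j Q₀ Q hc)).comp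
      (Cfsg.Omega F₀ (⇑Q₀ : (ι → F₀) → F₀)).subtype with he
  have he_apply : ∀ t : ↥(Cfsg.Omega F₀ (⇑Q₀ : (ι → F₀) → F₀)),
      e t = ((inclIsoG j Q₀ Q hc (t : ↥(Cfsg.isometryGroup F₀ (⇑Q₀ : (ι → F₀) → F₀))) :
        ↥(Cfsg.isometryGroup F (⇑Q : (ι → F) → F))) : GL ι F) := fun t => rfl
  -- the sign
  have hsign : ∀ t : ↥(Cfsg.Omega F₀ (⇑Q₀ : (ι → F₀) → F₀)),
      ∃ z : GL ι F, (∀ a : GL ι F, a * z = z * a) ∧ σy (e t) = z * e t := by
    intro t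
    obtain ⟨d, hdd, hd⟩ := ss_comm_scalar Q hQ hn7 hne y (inclIsoG j Q₀ Q hc t) (hcomm _ t.2)
    refine ⟨σy (e t) * (e t)⁻¹, scalar_central_GL _ d hd, ?_⟩
    rw [inv_mul_cancel_right]
  set H : Subgroup ↥(Cfsg.Omega F₀ (⇑Q₀ : (ι → F₀) → F₀)) :=
    (MonoidHom.eqLocus σy.toMonoidHom (MonoidHom.id (GL ι F))).comap e with hH
  have hHmem : ∀ t, t ∈ H ↔ σy (e t) = e t := fun t => Iff.rfl
  have hHN : H.Normal := by
    constructor
    intro t ht u
    rw [hHmem] at ht ⊢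
    obtain ⟨z, hzc, hz⟩ := hsign u
    rw [map_mul, map_mul, map_inv, map_mul, map_mul, map_inv, ht, hz]
    have hzi : (z * e u)⁻¹ = (e u)⁻¹ * z⁻¹ := _root_.mul_inv_rev _ _
    calc z * e u * e t * (z * e u)⁻¹ = z * (e u * e t * (e u)⁻¹) * z⁻¹ := by rw [hzi]; group
      _ = (e u * e t * (e u)⁻¹) * z * z⁻¹ := by rw [hzc]
      _ = e u * e t * (e u)⁻¹ := by group
  have hcommH : ∀ t u : ↥(Cfsg.Omega F₀ (⇑Q₀ : (ι → F₀) → F₀)), t * u * t⁻¹ * u⁻¹ ∈ H := by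
    intro t u
    rw [hHmem]
    obtain ⟨z, hzc, hz⟩ := hsign t
    obtain ⟨w, hwc, hw⟩ := hsign u
    rw [map_mul, map_mul, map_mul, map_inv, map_inv, map_mul, map_mul, map_mul, map_inv, map_inv,
      hz, hw, _root_.mul_inv_rev, _root_.mul_inv_rev]
    have e1 : z * e t * (w * e u) * ((e t)⁻¹ * z⁻¹) * ((e u)⁻¹ * w⁻¹) =
        (z * z⁻¹) * (w * w⁻¹) * (e t * e u * (e t)⁻¹ * (e u)⁻¹) := by
      have hzi : ∀ a : GL ι F, a * z⁻¹ = z⁻¹ * a := by
        intro a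
        rw [eq_inv_mul_iff_mul_eq, ← mul_assoc, ← hzc, mul_assoc, mul_inv_cancel, mul_one]
      have hwi : ∀ a : GL ι F, a * w⁻¹ = w⁻¹ * a := by
        intro a
        rw [eq_inv_mul_iff_mul_eq, ← mul_assoc, ← hwc, mul_assoc, mul_inv_cancel, mul_one]
      calc z * e t * (w * e u) * ((e t)⁻¹ * z⁻¹) * ((e u)⁻¹ * w⁻¹)
          = z * (e t * w) * e u * ((e t)⁻¹ * z⁻¹) * ((e u)⁻¹ * w⁻¹) := by group
        _ = z * (w * e t) * e u * (z⁻¹ * (e t)⁻¹) * (w⁻¹ * (e u)⁻¹) := by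
          rw [hwc (e t), hzi, hwi]
        _ = z * w * (e t * e u * z⁻¹) * ((e t)⁻¹ * w⁻¹) * (e u)⁻¹ := by group
        _ = z * w * (z⁻¹ * (e t * e u)) * (w⁻¹ * (e t)⁻¹) * (e u)⁻¹ := by
          rw [hzi, hwi]
        _ = z * (w * z⁻¹) * (e t * e u * w⁻¹) * (e t)⁻¹ * (e u)⁻¹ := by group
        _ = z * (z⁻¹ * w) * (w⁻¹ * (e t * e u)) * (e t)⁻¹ * (e u)⁻¹ := by
          rw [hzi, hwi]
        _ = (z * z⁻¹) * (w * w⁻¹) * (e t * e u * (e t)⁻¹ * (e u)⁻¹) := by group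
    rw [e1, mul_inv_cancel, mul_inv_cancel, one_mul, one_mul]
  -- simplicity
  have hsimple : IsSimpleGroup (Cfsg.POmega F₀ (⇑Q₀ : (ι → F₀) → F₀)) :=
    Cfsg.Agent.Lib.Helper28.OAll.pomega_simple_all hn7 Q₀ hQ₀
  have hinj₀ := conj_POmega_injective' Q₀ hQ₀ hn7
  set π : ↥(Cfsg.Omega F₀ (⇑Q₀ : (ι → F₀) → F₀)) →* Cfsg.POmega F₀ (⇑Q₀ : (ι → F₀) → F₀) :=
    QuotientGroup.mk' (Subgroup.center ↥(Cfsg.Omega F₀ (⇑Q₀ : (ι → F₀) → F₀))) with hπ
  have hπs : Function.Surjective π := QuotientGroup.mk'_surjective _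
  have hHbarN : (H.map π).Normal := Subgroup.Normal.map hHN π hπs
  rcases hsimple.eq_bot_or_eq_top_of_normal (H.map π) hHbarN with hbot | htop
  · exfalso
    -- the quotient would be commutative
    have hcomm' : ∀ k l : Cfsg.POmega F₀ (⇑Q₀ : (ι → F₀) → F₀), k * l = l * k := by
      intro k l
      obtain ⟨t, rfl⟩ := hπs k
      obtain ⟨u, rfl⟩ := hπs l
      have h1 : π (t * u * t⁻¹ * u⁻¹) ∈ H.map π := Subgroup.mem_map_of_mem π (hcommH t u)
      rw [hbot, Subgroup.mem_bot, map_mul, map_mul, map_mul, map_inv, map_inv] at h1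
      calc π t * π u = (π t * π u * (π t)⁻¹ * (π u)⁻¹) * (π u * π t) := by group
        _ = π u * π t := by rw [h1, one_mul]
    obtain ⟨k, hk⟩ := exists_ne (1 : Cfsg.POmega F₀ (⇑Q₀ : (ι → F₀) → F₀))
    apply hk
    apply hinj₀
    rw [map_one]
    apply MulEquiv.ext
    intro l
    rw [MulAut.conj_apply, hcomm' k l, mul_inv_cancel_right]
    rfl
  · -- everything is in `H` up to a central element, which is `± 1`
    have hsH : (⟨s, hs⟩ : ↥(Cfsg.Omega F₀ (⇑Q₀ : (ι → F₀) → F₀))) ∈ H := by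
      have h1 : π ⟨s, hs⟩ ∈ H.map π := by rw [htop]; trivial
      obtain ⟨h, hhH, hhs⟩ := h1
      set c : ↥(Cfsg.Omega F₀ (⇑Q₀ : (ι → F₀) → F₀)) := h⁻¹ * ⟨s, hs⟩ with hcdef
      have hπc : π c = 1 := by
        rw [hcdef, map_mul, map_inv, hhs, inv_mul_cancel]
      have hc0 : c0 Q₀ (c : ↥(Cfsg.isometryGroup F₀ (⇑Q₀ : (ι → F₀) → F₀))) = 1 := by
        rw [← conj_mk_eq_c0]
        have : (QuotientGroup.mk c : Cfsg.POmega F₀ (⇑Q₀ : (ι → F₀) → F₀)) = 1 := hπc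
        rw [this, map_one]
      rw [c0_apply] at hc0
      obtain ⟨d₀, hd₀⟩ := cHom_ker_scalar Q₀ hQ₀ hn7 _ hc0
      have hdd₀ : d₀ * d₀ = 1 := by
        have := mult_of_scalar Q₀ hne₀ _ d₀ hd₀
        rw [mult_iso Q₀ hne₀, Units.val_one] at this
        exact this.symm
      have hec : ((e c : GL ι F) : Matrix ι ι F) = j d₀ • (1 : Matrix ι ι F) := by
        rw [he_apply, inclIsoG_coe]
        have : (((c : ↥(Cfsg.isometryGroup F₀ (⇑Q₀ : (ι → F₀) → F₀))) : GL ι F₀) :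
            Matrix ι ι F₀) = d₀ • (1 : Matrix ι ι F₀) := hd₀
        rw [this]
        ext a b
        rw [Matrix.map_apply, Matrix.smul_apply, Matrix.smul_apply, smul_eq_mul, smul_eq_mul,
          map_mul]
        by_cases hab : a = b
        · rw [hab, Matrix.one_apply_eq, Matrix.one_apply_eq, map_one]
        · rw [Matrix.one_apply_ne hab, Matrix.one_apply_ne hab, map_zero]
      have hcH : c ∈ H := by
        rw [hHmem]
        exact ssGL_scalar_pm (y : GammaL ι F) (e c) (j d₀)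
          (by rw [← map_mul, hdd₀, map_one]) hec
      have : (⟨s, hs⟩ : ↥(Cfsg.Omega F₀ (⇑Q₀ : (ι → F₀) → F₀))) = h * c := by
        rw [hcdef, mul_inv_cancel_left]
      rw [this]
      exact H.mul_mem hhH hcH
    have hfin := (hHmem _).mp hsH
    rw [he_apply] at hfin
    exact hfin

end two

end Cfsg.Agent.Lib.Helper16.OB
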