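import Mathlib
import Cfsg.Agent.Lib.Helper16.OB23

set_option autoImplicit false
set_option linter.unusedSectionVars false
set_option linter.unusedVariables false

/-! Normal `p'`-subgroups of the centraliser of a standard field automorphism of odd prime order `p`
of an even-dimensional orthogonal group, all characteristics. -/

namespace Cfsg.Agent.Lib.Helper16.OB

open Matrix Module Cfsg.Agent.Lib.Lead Cfsg.Agent.Lib.Lead.OA Cfsg.Agent.Lib.Helper16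
  Cfsg.Agent.Lib.Helper16.OA Cfsg.Agent.Lib.Helper16.OL Cfsg.Agent.Lib.Helper16.PSC
  Cfsg.Agent.Lib.Lead.OAP Cfsg.Agent.Lib.Lead.OAM Cfsg.Agent.Lib.Helper16.OM
  Cfsg.Agent.Lib.helper6

universe u v

variable {ι : Type} [Fintype ι] [DecidableEq ι] {F : Type u} [Field F] [Fintype F]
  {F₀ : Type v} [Field F₀] [Fintype F₀]

/-- the map from `Ω` over the subfield to the automorphisms of `PΩ` over the big field. -/
noncomputable def lam0 (j : F₀ →+* F) (Q₀ : QuadraticForm F₀ (ι → F₀))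
    (Q : QuadraticForm F (ι → F)) (hc : BaseCompat j (⇑Q₀) (⇑Q)) :
    ↥(Cfsg.Omega F₀ (⇑Q₀ : (ι → F₀) → F₀)) →* MulAut (Cfsg.POmega F (⇑Q : (ι → F) → F)) :=
  ((c0 Q).comp (inclIsoG j Q₀ Q hc)).comp (Cfsg.Omega F₀ (⇑Q₀ : (ι → F₀) → F₀)).subtype

theorem lam0_apply (j : F₀ →+* F) (Q₀ : QuadraticForm F₀ (ι → F₀))
    (Q : QuadraticForm F (ι → F)) (hc : BaseCompat j (⇑Q₀) (⇑Q))
    (t : ↥(Cfsg.Omega F₀ (⇑Q₀ : (ι → F₀) → F₀))) :
    lam0 j Q₀ Q hc t =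
      c0 Q (inclIsoG j Q₀ Q hc (t : ↥(Cfsg.isometryGroup F₀ (⇑Q₀ : (ι → F₀) → F₀)))) := rfl

theorem lam0_eq_LamG (j : F₀ →+* F) (Q₀ : QuadraticForm F₀ (ι → F₀))
    (Q : QuadraticForm F (ι → F)) (hc : BaseCompat j (⇑Q₀) (⇑Q))
    (t : ↥(Cfsg.Omega F₀ (⇑Q₀ : (ι → F₀) → F₀))) :
    lam0 j Q₀ Q hc t =
      LamG j Q₀ Q hc (isoToGO Q₀ (t : ↥(Cfsg.isometryGroup F₀ (⇑Q₀ : (ι → F₀) → F₀)))) := by
  rw [lam0_apply, c0_apply, LamG_apply, inclGO_isoToGO]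

theorem lam0_center (j : F₀ →+* F) (Q₀ : QuadraticForm F₀ (ι → F₀))
    (Q : QuadraticForm F (ι → F)) (hc : BaseCompat j (⇑Q₀) (⇑Q))
    (hQ₀ : (QuadraticMap.polarBilin Q₀).Nondegenerate)
    (hQ : (QuadraticMap.polarBilin Q).Nondegenerate) (hn7 : 7 ≤ Fintype.card ι) :
    Subgroup.center ↥(Cfsg.Omega F₀ (⇑Q₀ : (ι → F₀) → F₀)) ≤ (lam0 j Q₀ Q hc).ker := by
  intro t ht
  rw [MonoidHom.mem_ker, lam0_eq_LamG, LamG_eq_one_iff j Q₀ Q hc hQ₀ hQ hn7, ← c0_apply,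
    ← conj_mk_eq_c0]
  have : (QuotientGroup.mk t : Cfsg.POmega F₀ (⇑Q₀ : (ι → F₀) → F₀)) = 1 :=
    (QuotientGroup.eq_one_iff t).mpr ht
  rw [this, map_one]

/-- the map from `PΩ` over the subfield to the automorphisms of `PΩ` over the big field. -/
noncomputable def kap (j : F₀ →+* F) (Q₀ : QuadraticForm F₀ (ι → F₀))
    (Q : QuadraticForm F (ι → F)) (hc : BaseCompat j (⇑Q₀) (⇑Q))
    (hQ₀ : (QuadraticMap.polarBilin Q₀).Nondegenerate)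
    (hQ : (QuadraticMap.polarBilin Q).Nondegenerate) (hn7 : 7 ≤ Fintype.card ι) :
    Cfsg.POmega F₀ (⇑Q₀ : (ι → F₀) → F₀) →* MulAut (Cfsg.POmega F (⇑Q : (ι → F) → F)) :=
  QuotientGroup.lift (Subgroup.center ↥(Cfsg.Omega F₀ (⇑Q₀ : (ι → F₀) → F₀))) (lam0 j Q₀ Q hc)
    (lam0_center j Q₀ Q hc hQ₀ hQ hn7)

theorem kap_mk (j : F₀ →+* F) (Q₀ : QuadraticForm F₀ (ι → F₀))
    (Q : QuadraticForm F (ι → F)) (hc : BaseCompat j (⇑Q₀) (⇑Q))
    (hQ₀ : (QuadraticMap.polarBilin Q₀).Nondegenerate)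
    (hQ : (QuadraticMap.polarBilin Q).Nondegenerate) (hn7 : 7 ≤ Fintype.card ι)
    (t : ↥(Cfsg.Omega F₀ (⇑Q₀ : (ι → F₀) → F₀))) :
    kap j Q₀ Q hc hQ₀ hQ hn7 (QuotientGroup.mk t) = lam0 j Q₀ Q hc t := rfl

theorem kap_eq_one (j : F₀ →+* F) (Q₀ : QuadraticForm F₀ (ι → F₀))
    (Q : QuadraticForm F (ι → F)) (hc : BaseCompat j (⇑Q₀) (⇑Q))
    (hQ₀ : (QuadraticMap.polarBilin Q₀).Nondegenerate)
    (hQ : (QuadraticMap.polarBilin Q).Nondegenerate) (hn7 : 7 ≤ Fintype.card ι)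
    (k : Cfsg.POmega F₀ (⇑Q₀ : (ι → F₀) → F₀)) (hk : kap j Q₀ Q hc hQ₀ hQ hn7 k = 1) : k = 1 := by
  induction k using QuotientGroup.induction_on with
  | H t =>
    rw [kap_mk, lam0_eq_LamG, LamG_eq_one_iff j Q₀ Q hc hQ₀ hQ hn7, ← c0_apply,
      ← conj_mk_eq_c0] at hk
    have := conj_POmega_injective' Q₀ hQ₀ hn7 (hk.trans (map_one _).symm)
    exact this

theorem kap_mem (j : F₀ →+* F) (Q₀ : QuadraticForm F₀ (ι → F₀))
    (Q : QuadraticForm F (ι → F)) (hc : BaseCompat j (⇑Q₀) (⇑Q))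
    (hQ₀ : (QuadraticMap.polarBilin Q₀).Nondegenerate)
    (hQ : (QuadraticMap.polarBilin Q).Nondegenerate) (hn7 : 7 ≤ Fintype.card ι)
    (hne₀ : ∃ v, Q₀ v ≠ 0) (σ : RingAut F) (hσ : SigCompat (⇑Q : (ι → F) → F) σ) (r : ℕ)
    (hord : orderOf σ = r) (hr0 : 0 < r) (hj : ∀ x, (∃ y, j y = x) ↔ σ x = x)
    (k : Cfsg.POmega F₀ (⇑Q₀ : (ι → F₀) → F₀)) :
    kap j Q₀ Q hc hQ₀ hQ hn7 k ∈ Cfsg.Inn (Cfsg.POmega F (⇑Q : (ι → F) → F)) ⊓
      Subgroup.centralizer {phiS (⇑Q : (ι → F) → F) σ hσ} := by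
  induction k using QuotientGroup.induction_on with
  | H t =>
    rw [kap_mk]
    refine ⟨?_, ?_⟩
    · rw [lam0_apply, inn_eq']
      exact ⟨_, inclIsoG_mem_omega j Q₀ Q hc _ t.2, rfl⟩
    · have h1 : lam0 j Q₀ Q hc t ∈ (LamG j Q₀ Q hc).range := by
        rw [lam0_eq_LamG]; exact ⟨_, rfl⟩
      rw [LamG_range j Q₀ Q hc hQ hn7 hne₀ σ hσ r hord hr0 hj] at h1
      exact h1.2

/-- conjugating by the image of a similarity over the subfield. -/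
theorem kap_conj (j : F₀ →+* F) (Q₀ : QuadraticForm F₀ (ι → F₀))
    (Q : QuadraticForm F (ι → F)) (hc : BaseCompat j (⇑Q₀) (⇑Q))
    (hQ₀ : (QuadraticMap.polarBilin Q₀).Nondegenerate)
    (hQ : (QuadraticMap.polarBilin Q).Nondegenerate) (hn7 : 7 ≤ Fintype.card ι)
    (g₀ : ↥(GOq Q₀)) (k : Cfsg.POmega F₀ (⇑Q₀ : (ι → F₀) → F₀)) :
    LamG j Q₀ Q hc g₀ * kap j Q₀ Q hc hQ₀ hQ hn7 k * (LamG j Q₀ Q hc g₀)⁻¹ =
      kap j Q₀ Q hc hQ₀ hQ hn7 (cHom (⇑Q₀ : (ι → F₀) → F₀) g₀ k) := by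
  induction k using QuotientGroup.induction_on with
  | H t =>
    rw [cHom_mk, kap_mk, kap_mk, lam0_eq_LamG, lam0_eq_LamG, ← map_inv, ← map_mul, ← map_mul]
    congr 1

set_option maxHeartbeats 3200000 in
/-- a normal `p'`-subgroup of the centraliser of a standard field automorphism of odd prime order
`p` is trivial when `p` divides the order of the group of fixed points. -/
theorem field_core (j : F₀ →+* F) (Q₀ : QuadraticForm F₀ (ι → F₀))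
    (Q : QuadraticForm F (ι → F)) (hc : BaseCompat j (⇑Q₀) (⇑Q))
    (hQ₀ : (QuadraticMap.polarBilin Q₀).Nondegenerate)
    (hQ : (QuadraticMap.polarBilin Q).Nondegenerate) (hn7 : 7 ≤ Fintype.card ι)
    (hT : 9 ≤ Fintype.card ι ∨ Fintype.card ι ≤ 7 ∨
      ∀ U : Submodule F (ι → F), (∀ u ∈ U, Q u = 0) → Module.finrank F U ≤ 3)
    (hne₀ : ∃ v, Q₀ v ≠ 0) (σ : RingAut F) (hσ : SigCompat (⇑Q : (ι → F) → F) σ)
    (hj : ∀ x, (∃ y, j y = x) ↔ σ x = x) (p : ℕ) (hp : p.Prime) (hpodd : Odd p)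
    (hord : orderOf σ = p)
    (hsq : ∀ s : ↥(Cfsg.isometryGroup F₀ (⇑Q₀ : (ι → F₀) → F₀)),
      s * s ∈ Cfsg.Omega F₀ (⇑Q₀ : (ι → F₀) → F₀))
    (hTr : ∀ τ : RingAut F,
      (∀ ρ : ↥(Cfsg.isometryGroup F₀ (⇑Q₀ : (ι → F₀) → F₀)),
        ρ ∈ Cfsg.Omega F₀ (⇑Q₀ : (ι → F₀) → F₀) →
        τ (j ((ρ : GL ι F₀) : Matrix ι ι F₀).trace) = j ((ρ : GL ι F₀) : Matrix ι ι F₀).trace) →
      ∀ z : F₀, τ (j z) = j z)
    (A N' : Subgroup (MulAut (Cfsg.POmega F (⇑Q : (ι → F) → F))))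
    (hInnA : Cfsg.Inn (Cfsg.POmega F (⇑Q : (ι → F) → F)) ≤ A)
    (hNA : N' ≤ A ⊓ Subgroup.centralizer {phiS (⇑Q : (ι → F) → F) σ hσ})
    (hnorm : ∀ c ∈ A ⊓ Subgroup.centralizer {phiS (⇑Q : (ι → F) → F) σ hσ},
      ∀ n ∈ N', c * n * c⁻¹ ∈ N')
    (hcop : (Nat.card N').Coprime p)
    (hpd : p ∣ Nat.card ↥(Cfsg.Inn (Cfsg.POmega F (⇑Q : (ι → F) → F)) ⊓
      Subgroup.centralizer {phiS (⇑Q : (ι → F) → F) σ hσ})) : N' = ⊥ := by
  classical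
  have hpf : Fact p.Prime := ⟨hp⟩
  have hne : ∃ v, Q v ≠ 0 := by
    obtain ⟨u₀, hu₀⟩ := hne₀
    exact ⟨_, base_ne_zero j Q₀ Q hc u₀ hu₀⟩
  set φ := phiS (⇑Q : (ι → F) → F) σ hσ with hφ
  set Λ := LamG j Q₀ Q hc with hΛ
  set κ := kap j Q₀ Q hc hQ₀ hQ hn7 with hκ
  have hΛrange : Λ.range = (cHom (⇑Q : (ι → F) → F)).range ⊓ Subgroup.centralizer {φ} :=
    LamG_range j Q₀ Q hc hQ hn7 hne₀ σ hσ p hord hp.pos hj
  have hΛone : ∀ g₀, Λ g₀ = 1 ↔ cHom (⇑Q₀ : (ι → F₀) → F₀) g₀ = 1 :=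
    LamG_eq_one_iff j Q₀ Q hc hQ₀ hQ hn7
  have hInnN : (Cfsg.Inn (Cfsg.POmega F (⇑Q : (ι → F) → F))).Normal := inn_normal _
  have hsimple : IsSimpleGroup (Cfsg.POmega F₀ (⇑Q₀ : (ι → F₀) → F₀)) :=
    Cfsg.Agent.Lib.Helper28.OAll.pomega_simple_all hn7 Q₀ hQ₀
  have hκI : ∀ k, κ k ∈ Cfsg.Inn (Cfsg.POmega F (⇑Q : (ι → F) → F)) ⊓ Subgroup.centralizer {φ} :=
    kap_mem j Q₀ Q hc hQ₀ hQ hn7 hne₀ σ hσ p hord hp.pos hj
  have hκC : ∀ k, κ k ∈ A ⊓ Subgroup.centralizer {φ} := fun k => ⟨hInnA (hκI k).1, (hκI k).2⟩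
  have hfinM : Finite (MulAut (Cfsg.POmega F (⇑Q : (ι → F) → F))) :=
    Finite.of_injective (fun e => (e : Cfsg.POmega F (⇑Q : (ι → F) → F) →
      Cfsg.POmega F (⇑Q : (ι → F) → F))) DFunLike.coe_injective
  -- Step 1
  set M : Subgroup (Cfsg.POmega F₀ (⇑Q₀ : (ι → F₀) → F₀)) := N'.comap κ with hM
  have hMN : M.Normal := by
    constructor
    intro k hk l
    show κ (l * k * l⁻¹) ∈ N'
    rw [map_mul, map_mul, map_inv]
    exact hnorm _ (hκC l) _ hk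
  have hcase : ∀ k, κ k ∈ N' → k = 1 := by
    rcases hsimple.eq_bot_or_eq_top_of_normal M hMN with hbot | htop
    · intro k hk
      have h1 : k ∈ M := hk
      rwa [hbot, Subgroup.mem_bot] at h1
    · exfalso
      have hall : ∀ k, κ k ∈ N' := by
        intro k
        have h1 : k ∈ M := by rw [htop]; trivial
        exact h1
      obtain ⟨y, hy⟩ := exists_prime_orderOf_dvd_card' p hpd
      have hyI := y.2
      have hyR : (y : MulAut (Cfsg.POmega F (⇑Q : (ι → F) → F))) ∈ Λ.range := by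
        rw [hΛrange]
        exact ⟨inn_le_range Q hyI.1, hyI.2⟩
      obtain ⟨g₀, hg₀⟩ := hyR
      have hsqm : IsSquare ((mult Q₀ (g₀ * g₀) : F₀ˣ) : F₀) := by
        have h1 : mult Q₀ (g₀ * g₀) = mult Q₀ g₀ * mult Q₀ g₀ := map_mul (multHom Q₀ hne₀) g₀ g₀
        rw [h1, Units.val_mul]
        exact ⟨_, rfl⟩
      obtain ⟨z, s, hzs⟩ := iso_of_sq Q₀ hne₀ (g₀ * g₀) hsqm
      have hΛz : Λ (scalGO Q₀ z) = 1 := by
        rw [hΛone]
        exact scalar_cHom_eq_one _ _ _ (scalGO_coe Q₀ z)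
      have hy2 : (y : MulAut (Cfsg.POmega F (⇑Q : (ι → F) → F))) ^ 2 = Λ (isoToGO Q₀ s) := by
        rw [← hg₀, ← map_pow, pow_two, hzs, map_mul, hΛz, one_mul]
      have hy4 : (y : MulAut (Cfsg.POmega F (⇑Q : (ι → F) → F))) ^ 4 ∈ N' := by
        have e4 : (y : MulAut (Cfsg.POmega F (⇑Q : (ι → F) → F))) ^ 4 =
            ((y : MulAut (Cfsg.POmega F (⇑Q : (ι → F) → F))) ^ 2) ^ 2 := by
          rw [← pow_mul]
        rw [e4, hy2, ← map_pow, ← map_pow, pow_two]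
        have h1 := hall (QuotientGroup.mk ⟨s * s, hsq s⟩)
        rw [hκ, kap_mk, lam0_eq_LamG] at h1
        exact h1
      have hcop4 : Nat.Coprime 4 p := by
        have h1 : Nat.Coprime 2 p := (Nat.coprime_primes Nat.prime_two hp).mpr (by
          rintro rfl
          exact absurd hpodd (by decide))
        have : (4 : ℕ) = 2 * 2 := rfl
        rw [this]
        exact Nat.Coprime.mul_left h1 h1
      obtain ⟨k', -, hk'⟩ := Nat.exists_mul_mod_eq_one_of_coprime hcop4 hp.one_lt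
      have hyN : (y : MulAut (Cfsg.POmega F (⇑Q : (ι → F) → F))) ∈ N' := by
        have hord' : orderOf (y : MulAut (Cfsg.POmega F (⇑Q : (ι → F) → F))) = p := by
          rw [Subgroup.orderOf_coe]; exact hy
        have e1 : ((y : MulAut (Cfsg.POmega F (⇑Q : (ι → F) → F))) ^ 4) ^ k' =
            (y : MulAut (Cfsg.POmega F (⇑Q : (ι → F) → F))) := by
          rw [← pow_mul, ← pow_mod_orderOf, hord', hk', pow_one]
        rw [← e1]
        exact N'.pow_mem hy4 k'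
      have h3 : p ∣ Nat.card N' := by
        have := orderOf_dvd_natCard (⟨_, hyN⟩ : ↥N')
        rwa [Subgroup.orderOf_mk, Subgroup.orderOf_coe, hy] at this
      have := Nat.Coprime.eq_one_of_dvd hcop.symm h3
      exact hp.one_lt.ne' this
  -- Step 2
  have hND : ∀ n ∈ N', n ∈ (cHom (⇑Q : (ι → F) → F)).range → n = 1 := by
    intro n hnN hnD
    have hnC : n ∈ Subgroup.centralizer {φ} := (hNA hnN).2
    have hnR : n ∈ Λ.range := by rw [hΛrange]; exact ⟨hnD, hnC⟩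
    obtain ⟨g₀, rfl⟩ := hnR
    rw [hΛone]
    apply MulEquiv.ext
    intro k
    have h1 : κ (cHom (⇑Q₀ : (ι → F₀) → F₀) g₀ k * k⁻¹) ∈ N' := by
      rw [map_mul, map_inv, hκ, ← kap_conj]
      have e1 : Λ g₀ * kap j Q₀ Q hc hQ₀ hQ hn7 k * (Λ g₀)⁻¹ * (kap j Q₀ Q hc hQ₀ hQ hn7 k)⁻¹ =
          Λ g₀ * (kap j Q₀ Q hc hQ₀ hQ hn7 k * (Λ g₀)⁻¹ * (kap j Q₀ Q hc hQ₀ hQ hn7 k)⁻¹) := by
        group
      rw [e1]
      exact N'.mul_mem hnN (hnorm _ (hκC k) _ (N'.inv_mem hnN))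
    have h3 := hcase _ h1
    rw [mul_inv_eq_one] at h3
    exact h3
  -- Step 3
  have hcomm : ∀ n ∈ N', ∀ l ∈ Cfsg.Inn (Cfsg.POmega F (⇑Q : (ι → F) → F)) ⊓
      Subgroup.centralizer {φ}, n * l = l * n := by
    intro n hnN l hl
    have hlC : l ∈ A ⊓ Subgroup.centralizer {φ} := ⟨hInnA hl.1, hl.2⟩
    have he1 : n * l * n⁻¹ * l⁻¹ ∈ N' := by
      have h1 : n * l * n⁻¹ * l⁻¹ = n * (l * n⁻¹ * l⁻¹) := by group
      rw [h1]
      exact N'.mul_mem hnN (hnorm _ hlC _ (N'.inv_mem hnN))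
    have he2 : n * l * n⁻¹ * l⁻¹ ∈ (cHom (⇑Q : (ι → F) → F)).range := by
      apply inn_le_range Q
      exact Subgroup.mul_mem _ (hInnN.conj_mem l hl.1 n) (Subgroup.inv_mem _ hl.1)
    have h3 := hND _ he1 he2
    calc n * l = (n * l * n⁻¹ * l⁻¹) * (l * n) := by group
      _ = l * n := by rw [h3, one_mul]
  -- Step 4
  rw [eq_bot_iff]
  intro n hnN
  rw [Subgroup.mem_bot]
  obtain ⟨y, rfl⟩ := ssHom_surjective Q hQ hn7 hT n
  set τ : RingAut F := (y : GammaL ι F).right with hτ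
  have hcy : ∀ s : ↥(Cfsg.isometryGroup F₀ (⇑Q₀ : (ι → F₀) → F₀)),
      s ∈ Cfsg.Omega F₀ (⇑Q₀ : (ι → F₀) → F₀) →
      ssHom (⇑Q : (ι → F) → F) y * c0 Q (inclIsoG j Q₀ Q hc s) =
        c0 Q (inclIsoG j Q₀ Q hc s) * ssHom (⇑Q : (ι → F) → F) y := by
    intro s hs
    have h1 := hκI (QuotientGroup.mk ⟨s, hs⟩)
    rw [hκ, kap_mk, lam0_apply] at h1
    exact hcomm _ hnN _ h1
  have hfix := sign_trivial j Q₀ Q hc hQ₀ hQ hn7 hne₀ hne y hcy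
  have hτtr : ∀ M : Matrix ι ι F, (M.map ⇑τ).trace = τ M.trace := by
    intro M
    have := AddMonoidHom.map_trace ((τ : F ≃+* F) : F →+ F) M
    exact this.symm
  have hjtr : ∀ M : Matrix ι ι F₀, (M.map ⇑j).trace = j M.trace := by
    intro M
    have := AddMonoidHom.map_trace (j : F₀ →+ F) M
    exact this.symm
  have hτfix : ∀ z : F₀, τ (j z) = j z := by
    apply hTr
    intro ρ hρ
    have h1 := hfix ρ hρ
    rw [ssGL_apply] at h1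
    have hmat := congrArg (fun x : GL ι F => (x : Matrix ι ι F).trace) h1
    simp only [Units.val_mul] at hmat
    rw [Matrix.trace_units_conj, glMapEquiv_val, hτtr, inclIsoG_coe, hjtr] at hmat
    exact hmat
  have hτmem : (τ : F ≃+* F) ∈ Subgroup.zpowers (σ : F ≃+* F) := by
    apply mem_zpowers_of_fix
    intro x hx
    obtain ⟨z, rfl⟩ := (hj x).mpr hx
    exact hτfix z
  have hτp : τ ^ p = 1 := by
    obtain ⟨k, hk⟩ := Subgroup.mem_zpowers_iff.mp hτmem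
    have hσp : σ ^ p = 1 := by rw [← hord]; exact pow_orderOf_eq_one σ
    rw [← hk, ← zpow_natCast, ← _root_.zpow_mul, mul_comm, _root_.zpow_mul, zpow_natCast, hσp,
      _root_.one_zpow]
  have hnp : ssHom (⇑Q : (ι → F) → F) y ^ p = 1 := by
    apply hND _ (N'.pow_mem hnN p)
    have h1 : y ^ p ∈ (ssRight (⇑Q : (ι → F) → F)).ker := by
      rw [MonoidHom.mem_ker, map_pow, ssRight_apply, ← hτ, hτp]
    rw [ssRight_ker] at h1
    obtain ⟨g, hg⟩ := h1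
    rw [← map_pow, ← hg, ssHom_goIncl]
    exact ⟨g, rfl⟩
  have h1 : orderOf (ssHom (⇑Q : (ι → F) → F) y) ∣ p := orderOf_dvd_of_pow_eq_one hnp
  have h3 : orderOf (ssHom (⇑Q : (ι → F) → F) y) ∣ Nat.card N' := by
    have := orderOf_dvd_natCard (⟨_, hnN⟩ : ↥N')
    rwa [Subgroup.orderOf_mk] at this
  have h4 : orderOf (ssHom (⇑Q : (ι → F) → F) y) = 1 :=
    Nat.Coprime.eq_one_of_dvd (Nat.Coprime.coprime_dvd_left h3 hcop) h1
  exact orderOf_eq_one_iff.mp h4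

end Cfsg.Agent.Lib.Helper16.OB
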