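import Mathlib
import Cfsg.Agent.Lib.Helper16.OB24
import Cfsg.Agent.Lib.Helper16.Char2I
import Cfsg.Agent.Lib.Helper16.SumQF2

set_option autoImplicit false
set_option linter.unusedSectionVars false
set_option linter.unusedVariables false

/-! Squares of isometries and traces of elements of `Ω` for minus-type forms. -/

namespace Cfsg.Agent.Lib.Helper16.OB

open Matrix Module Cfsg.Agent.Lib.Lead Cfsg.Agent.Lib.Lead.OA Cfsg.Agent.Lib.Helper16
  Cfsg.Agent.Lib.Helper16.OA Cfsg.Agent.Lib.Helper16.OL Cfsg.Agent.Lib.Helper16.PSC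
  Cfsg.Agent.Lib.Lead.OAP Cfsg.Agent.Lib.Lead.OAM Cfsg.Agent.Lib.Helper16.OM
  Cfsg.Agent.Lib.helper6
open scoped commutatorElement

universe u v

section gen

variable {ι : Type} [Fintype ι] [DecidableEq ι] {F : Type u} [Field F]

/-- the product of the reflections in two vectors of the same norm whose difference is non-singular
is a commutator. -/
theorem refl_mul_mem_omega (Q : QuadraticForm F (ι → F)) (u v : ι → F) (hu : Q u ≠ 0)
    (hv : Q v ≠ 0) (huv : Q u = Q v) (hd : Q (u - v) ≠ 0) :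
    CDG.refl Q u hu * CDG.refl Q v hv ∈ Cfsg.Omega F (⇑Q : (ι → F) → F) := by
  set h := CDG.refl Q (u - v) hd with hh
  have hmat : Cfsg.reflectionMatrix (⇑Q : (ι → F) → F) (u - v) *ᵥ u = v :=
    CDG.refl_swap_sub Q v u huv hd
  have h1 : ((h : GL ι F) : Matrix ι ι F) *ᵥ u = v := by
    rw [hh, CDG.refl_coe]
    exact hmat
  have hv' : Q (((h : GL ι F) : Matrix ι ι F) *ᵥ u) ≠ 0 := by rw [h1]; exact hv
  have h2 := C2.refl_conj_cdg Q h u hu hv'
  have h3 : CDG.refl Q (((h : GL ι F) : Matrix ι ι F) *ᵥ u) hv' = CDG.refl Q v hv := by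
    apply CDG.iso_ext
    rw [CDG.refl_coe, CDG.refl_coe]
    congr 1
  rw [h3] at h2
  have hinv : (CDG.refl Q u hu)⁻¹ = CDG.refl Q u hu :=
    CDG.Rset_inv Q _ (CDG.refl_mem Q u hu)
  have e : CDG.refl Q u hu * CDG.refl Q v hv = ⁅CDG.refl Q u hu, h⁆ := by
    rw [commutatorElement_def, hinv, ← h2]
    group
  rw [e]
  show _ ∈ commutator ↥(Cfsg.isometryGroup F (⇑Q : (ι → F) → F))
  rw [commutator_def]
  exact Subgroup.commutator_mem_commutator (Subgroup.mem_top _) (Subgroup.mem_top _)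

end gen

section sq

variable {ι : Type} [Fintype ι] [DecidableEq ι] {F : Type u} [Field F] [Fintype F]

/-- squares of isometries lie in `Ω`, all characteristics. -/
theorem sq_mem_omega_all (Q : QuadraticForm F (ι → F))
    (hQ : (QuadraticMap.polarBilin Q).Nondegenerate) (hn : 5 ≤ Fintype.card ι)
    (hne : ∃ v, Q v ≠ 0) (s : ↥(Cfsg.isometryGroup F (⇑Q : (ι → F) → F))) :
    s * s ∈ Cfsg.Omega F (⇑Q : (ι → F) → F) := by
  by_cases h2 : (2 : F) = 0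
  · have hcp : CharP F 2 := CharTwo.of_one_ne_zero_of_two_eq_zero one_ne_zero h2
    have hidx := omega_index_char2 Q hQ hn hne
    exact Subgroup.mul_self_mem_of_index_two hidx s
  · exact sq_mem_omega Q (CDG.cartan_dieudonne h2 Q hQ) s

end sq

section minus

variable {F₀ : Type v} [Field F₀] {m : ℕ}

/-- a vector of norm one in a hyperbolic plane. -/
def vecU (F₀ : Type v) [Field F₀] (i₀ : Fin m) : (Fin m ⊕ Fin m) ⊕ Fin 2 → F₀ :=
  Sum.elim (Sum.elim (fun i => if i = i₀ then 1 else 0) (fun i => if i = i₀ then 1 else 0))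
    (fun _ => 0)

/-- a vector of norm one in two hyperbolic planes. -/
def vecV (i₀ i₁ : Fin m) (z : F₀) : (Fin m ⊕ Fin m) ⊕ Fin 2 → F₀ :=
  Sum.elim (Sum.elim (fun i => if i = i₀ then z else if i = i₁ then 1 else 0)
    (fun i => if i = i₁ then 1 else 0)) (fun _ => 0)

theorem Q_vecU (a₀ b₀ : F₀) (i₀ : Fin m) : Cfsg.quadFormMinus m F₀ a₀ b₀ (vecU F₀ i₀) = 1 := by
  unfold Cfsg.quadFormMinus vecU
  simp

theorem Q_vecV (a₀ b₀ : F₀) (i₀ i₁ : Fin m) (h : i₀ ≠ i₁) (z : F₀) :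
    Cfsg.quadFormMinus m F₀ a₀ b₀ (vecV i₀ i₁ z) = 1 := by
  unfold Cfsg.quadFormMinus vecV
  simp [h.symm]

theorem Q_vecU_sub_vecV (a₀ b₀ : F₀) (i₀ i₁ : Fin m) (h : i₀ ≠ i₁) (z : F₀) :
    Cfsg.quadFormMinus m F₀ a₀ b₀ (vecU F₀ i₀ - vecV i₀ i₁ z) = 2 - z := by
  unfold Cfsg.quadFormMinus vecU vecV
  simp only [Pi.sub_apply, Sum.elim_inl, Sum.elim_inr, sub_self]
  have e : ∀ i : Fin m, ((if i = i₀ then (1 : F₀) else 0) - if i = i₀ then z else if i = i₁ then 1 else 0) *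
      ((if i = i₀ then (1 : F₀) else 0) - if i = i₁ then 1 else 0) =
      (if i = i₀ then 1 - z else 0) + (if i = i₁ then 1 else 0) := by
    intro i
    by_cases h0 : i = i₀
    · have h1 : i ≠ i₁ := fun h1 => h (h0.symm.trans h1)
      simp [h0, h]
    · by_cases h1 : i = i₁
      · simp [h1, h.symm]
      · simp [h0, h1]
  simp only [e, Finset.sum_add_distrib, Finset.sum_ite_eq', Finset.mem_univ, if_true]
  ring

end minus

section minus2

variable {F₀ : Type v} [Field F₀] [Fintype F₀] {m : ℕ}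

/-- elements of `Ω` with prescribed traces. -/
theorem exists_omega_trace (hm : 2 ≤ m) (a₀ b₀ : F₀) (z : F₀) (hz : z ≠ 2) :
    ∃ ρ : ↥(Cfsg.isometryGroup F₀ (⇑(qfMinus m F₀ a₀ b₀) : ((Fin m ⊕ Fin m) ⊕ Fin 2 → F₀) → F₀)),
      ρ ∈ Cfsg.Omega F₀ (⇑(qfMinus m F₀ a₀ b₀) : ((Fin m ⊕ Fin m) ⊕ Fin 2 → F₀) → F₀) ∧
      ((ρ : GL ((Fin m ⊕ Fin m) ⊕ Fin 2) F₀) :
        Matrix ((Fin m ⊕ Fin m) ⊕ Fin 2) ((Fin m ⊕ Fin m) ⊕ Fin 2) F₀).trace =
        (Fintype.card ((Fin m ⊕ Fin m) ⊕ Fin 2) : F₀) - 4 + z ^ 2 := by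
  set i₀ : Fin m := ⟨0, by omega⟩ with hi₀
  set i₁ : Fin m := ⟨1, by omega⟩ with hi₁
  have h01 : i₀ ≠ i₁ := by
    intro h
    have := congrArg Fin.val h
    simp [hi₀, hi₁] at this
  set Q₀ := qfMinus m F₀ a₀ b₀ with hQ₀
  set u := vecU F₀ i₀ with hu
  set w := vecV i₀ i₁ z with hw
  have hQu : Q₀ u = 1 := Q_vecU a₀ b₀ i₀
  have hQw : Q₀ w = 1 := Q_vecV a₀ b₀ i₀ i₁ h01 z
  have hQd : Q₀ (u - w) = 2 - z := Q_vecU_sub_vecV a₀ b₀ i₀ i₁ h01 z
  have hu0 : Q₀ u ≠ 0 := by rw [hQu]; exact one_ne_zero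
  have hw0 : Q₀ w ≠ 0 := by rw [hQw]; exact one_ne_zero
  have hd0 : Q₀ (u - w) ≠ 0 := by
    rw [hQd]
    intro h
    apply hz
    linear_combination -h
  have hpol : QuadraticMap.polar (⇑Q₀) u w = z * Q₀ u := by
    have := CDG.Q_sub Q₀ u w
    rw [hQd, hQu, hQw] at this
    rw [hQu]
    linear_combination this
  refine ⟨CDG.refl Q₀ u hu0 * CDG.refl Q₀ w hw0,
    refl_mul_mem_omega Q₀ u w hu0 hw0 (hQu.trans hQw.symm) hd0, ?_⟩
  rw [Subgroup.coe_mul, Units.val_mul, CDG.refl_coe, CDG.refl_coe]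
  exact trace_refl_mul' Q₀ u w hu0 (hQw.trans hQu.symm) z hpol

/-- a field automorphism fixing the traces of the elements of `Ω` over the subfield fixes the
subfield. -/
theorem trace_gen_minus {F : Type u} [Field F] (hm : 2 ≤ m) (j : F₀ →+* F) (a₀ b₀ : F₀)
    (τ : RingAut F)
    (h : ∀ ρ : ↥(Cfsg.isometryGroup F₀
        (⇑(qfMinus m F₀ a₀ b₀) : ((Fin m ⊕ Fin m) ⊕ Fin 2 → F₀) → F₀)),
      ρ ∈ Cfsg.Omega F₀ (⇑(qfMinus m F₀ a₀ b₀) : ((Fin m ⊕ Fin m) ⊕ Fin 2 → F₀) → F₀) →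
      τ (j ((ρ : GL ((Fin m ⊕ Fin m) ⊕ Fin 2) F₀) :
        Matrix ((Fin m ⊕ Fin m) ⊕ Fin 2) ((Fin m ⊕ Fin m) ⊕ Fin 2) F₀).trace) =
      j ((ρ : GL ((Fin m ⊕ Fin m) ⊕ Fin 2) F₀) :
        Matrix ((Fin m ⊕ Fin m) ⊕ Fin 2) ((Fin m ⊕ Fin m) ⊕ Fin 2) F₀).trace) :
    ∀ z : F₀, τ (j z) = j z := by
  have hsq : ∀ z : F₀, τ (j (z ^ 2)) = j (z ^ 2) := by
    intro z
    by_cases hz : z = 2
    · rw [hz]
      simp only [map_pow, map_ofNat]
    · obtain ⟨ρ, hρ, htr⟩ := exists_omega_trace hm a₀ b₀ z hz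
      have h1 := h ρ hρ
      rw [htr] at h1
      simp only [map_add, map_sub, map_natCast, map_ofNat, map_pow] at h1 ⊢
      exact add_left_cancel h1
  intro z
  by_cases h2 : (2 : F₀) = 0
  · have hcp : CharP F₀ 2 := CharTwo.of_one_ne_zero_of_two_eq_zero one_ne_zero h2
    obtain ⟨w, hw⟩ := FiniteField.isSquare_of_char_two (ringChar.eq F₀ 2) z
    rw [hw, ← pow_two]
    exact hsq w
  · have h2F : (2 : F) ≠ 0 := by
      intro h0
      apply h2
      apply j.injective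
      rw [map_ofNat, map_zero]
      exact h0
    have h5 := hsq (z + 1)
    have h6 : (z + 1) ^ 2 = z ^ 2 + 2 * z + 1 := by ring
    rw [h6] at h5
    simp only [map_add, map_mul, map_one, map_ofNat] at h5
    have h7 := hsq z
    rw [h7] at h5
    have h9 : (2 : F) * τ (j z) = 2 * j z := by
      have := add_right_cancel h5
      exact add_left_cancel this
    exact mul_left_cancel₀ h2F h9

end minus2

end Cfsg.Agent.Lib.Helper16.OB
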