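import Mathlib
import Cfsg.Agent.Lib.Helper10.BGL.FldDefs
import Cfsg.Agent.Lib.Helper10.BGL.AlgDefs

/-!
# Project BGL (designer helper10), block FLD, row FL15 (helper16), VERBATIM: `fld_exp`.
Extras: `bglfl15_dvd` (`X^q - X ∣ X^(q^n) - X`), `bglfl15_card_le`, `bglfl15_card_ge` (the number of fixed points of the
`p^c`-power map on a finite field of order `p^M`: at most `p^c`, and at least `p^c` when `c ∣ M`).
-/

set_option autoImplicit false

namespace Cfsg.Agent.Lib.Helper10.BGL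

open Cfsg.Lie Cfsg.Lie.ChevalleyDatum Cfsg.Agent.Lib.helper8 Polynomial

universe u

variable {K : Type u} [Field K] [Finite K]

omit [Finite K] in
/-- `X ^ q - X` divides `X ^ (q ^ n) - X` -/
theorem bglfl15_dvd (q n : ℕ) : (X ^ q - X : K[X]) ∣ X ^ q ^ n - X := by
  induction n with
  | zero => simp
  | succ n ih =>
    have e : (X ^ q ^ (n + 1) - X : K[X]) = ((X ^ q ^ n) ^ q - X ^ q) + (X ^ q - X) := by
      rw [pow_succ, pow_mul]
      ring
    rw [e]
    exact dvd_add (dvd_trans ih (sub_dvd_pow_sub_pow _ _ _)) dvd_rfl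

/-- at most `p ^ c` fixed points of the `p ^ c`-power map -/
theorem bglfl15_card_le [Fintype K] [DecidableEq K] (p : ℕ) [Fact p.Prime] (c : ℕ) (hc : 1 ≤ c) :
    (Finset.univ.filter (fun t : K => t ^ p ^ c = t)).card ≤ p ^ c := by
  have hp : 1 < p := (Fact.out : p.Prime).one_lt
  have hc0 : c ≠ 0 := by omega
  have hne : (X ^ p ^ c - X : K[X]) ≠ 0 := FiniteField.X_pow_card_pow_sub_X_ne_zero K hc0 hp
  have hdeg : (X ^ p ^ c - X : K[X]).natDegree = p ^ c := FiniteField.X_pow_card_pow_sub_X_natDegree_eq K hc0 hp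
  have hsub : Finset.univ.filter (fun t : K => t ^ p ^ c = t) ⊆ (X ^ p ^ c - X : K[X]).roots.toFinset := by
    intro t ht
    rw [Finset.mem_filter] at ht
    rw [Multiset.mem_toFinset, mem_roots hne, IsRoot.def, eval_sub, eval_pow, eval_X, ht.2, sub_self]
  calc (Finset.univ.filter (fun t : K => t ^ p ^ c = t)).card
      ≤ (X ^ p ^ c - X : K[X]).roots.toFinset.card := Finset.card_le_card hsub
    _ ≤ Multiset.card (X ^ p ^ c - X : K[X]).roots := Multiset.toFinset_card_le _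
    _ ≤ (X ^ p ^ c - X : K[X]).natDegree := card_roots' _
    _ = p ^ c := hdeg

/-- at least `p ^ G` fixed points of the `p ^ G`-power map when `G ∣ M`, `|K| = p ^ M` -/
theorem bglfl15_card_ge [Fintype K] [DecidableEq K] (p : ℕ) [Fact p.Prime] (G M : ℕ) (hG : 1 ≤ G) (hGM : G ∣ M)
    (hM : Fintype.card K = p ^ M) :
    p ^ G ≤ (Finset.univ.filter (fun t : K => t ^ p ^ G = t)).card := by
  have hp : 1 < p := (Fact.out : p.Prime).one_lt
  have hG0 : G ≠ 0 := by omega
  have hM0 : M ≠ 0 := by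
    rintro rfl
    rw [pow_zero] at hM
    have := Fintype.one_lt_card (α := K)
    omega
  obtain ⟨n, rfl⟩ := hGM
  have hf : (X ^ p ^ G - X : K[X]) ≠ 0 := FiniteField.X_pow_card_pow_sub_X_ne_zero K hG0 hp
  have hP : (X ^ p ^ (G * n) - X : K[X]) ≠ 0 := FiniteField.X_pow_card_pow_sub_X_ne_zero K hM0 hp
  have hfdeg : (X ^ p ^ G - X : K[X]).natDegree = p ^ G := FiniteField.X_pow_card_pow_sub_X_natDegree_eq K hG0 hp
  have hPdeg : (X ^ p ^ (G * n) - X : K[X]).natDegree = p ^ (G * n) :=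
    FiniteField.X_pow_card_pow_sub_X_natDegree_eq K hM0 hp
  obtain ⟨h, hh⟩ : (X ^ p ^ G - X : K[X]) ∣ X ^ p ^ (G * n) - X := by
    have := bglfl15_dvd (K := K) (p ^ G) n
    rwa [← pow_mul] at this
  have hh0 : h ≠ 0 := by
    rintro rfl
    rw [mul_zero] at hh
    exact hP hh
  have hroots : (X ^ p ^ (G * n) - X : K[X]).roots = Finset.univ.val := by
    have := FiniteField.roots_X_pow_card_sub_X K
    rwa [hM] at this
  have hsplit : (X ^ p ^ (G * n) - X : K[X]).roots = (X ^ p ^ G - X : K[X]).roots + h.roots := by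
    rw [hh]
    exact roots_mul (by rw [← hh]; exact hP)
  have hdegsum : p ^ (G * n) = p ^ G + h.natDegree := by
    rw [← hPdeg, hh, natDegree_mul hf hh0, hfdeg]
  have hcard : p ^ (G * n) = Multiset.card (X ^ p ^ G - X : K[X]).roots + Multiset.card h.roots := by
    rw [← Multiset.card_add, ← hsplit, hroots]
    rw [Finset.card_val, Finset.card_univ, hM]
  have hhle : Multiset.card h.roots ≤ h.natDegree := card_roots' h
  have hge : p ^ G ≤ Multiset.card (X ^ p ^ G - X : K[X]).roots := by omega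
  have hnodup : (X ^ p ^ G - X : K[X]).roots.Nodup := by
    apply Multiset.nodup_of_le (Multiset.le_add_right _ h.roots)
    rw [← hsplit, hroots]
    exact Finset.univ.nodup
  have hsub : (X ^ p ^ G - X : K[X]).roots.toFinset ⊆ Finset.univ.filter (fun t : K => t ^ p ^ G = t) := by
    intro t ht
    rw [Multiset.mem_toFinset, mem_roots hf, IsRoot.def, eval_sub, eval_pow, eval_X, sub_eq_zero] at ht
    rw [Finset.mem_filter]
    exact ⟨Finset.mem_univ t, ht⟩
  calc p ^ G ≤ Multiset.card (X ^ p ^ G - X : K[X]).roots := hge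
    _ = (X ^ p ^ G - X : K[X]).roots.toFinset.card := (Multiset.toFinset_card_of_nodup hnodup).symm
    _ ≤ _ := Finset.card_le_card hsub

/-- FL15 [M], verbatim. -/
theorem fld_exp (p : ℕ) [Fact p.Prime] [CharP K p] (a : ℕ) (ha : 1 ≤ a) (F : Subfield K)
    (hk : ∀ t : K, t ^ (p ^ a) = t → t ∈ F) :
    ∃ r : ℕ, 1 ≤ r ∧ ∀ t : K, t ∈ F ↔ t ^ ((p ^ a) ^ r) = t := by
  classical
  haveI : Fintype K := Fintype.ofFinite K
  haveI : Fintype F := Fintype.ofFinite F
  haveI : CharP F p := RingHom.charP F.subtype Subtype.coe_injective p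
  have hp : 1 < p := (Fact.out : p.Prime).one_lt
  obtain ⟨M, -, hM⟩ := FiniteField.card K p
  obtain ⟨b, -, hb⟩ := FiniteField.card F p
  have hM1 : 1 ≤ (M : ℕ) := M.pos
  have hb1 : 1 ≤ (b : ℕ) := b.pos
  have hall : ∀ t : K, t ^ p ^ (M : ℕ) = t := by
    intro t
    have := FiniteField.pow_card t
    rwa [hM] at this
  -- `F` is the fixed set of the `p ^ b`-power map
  have hFsub : Finset.univ.filter (fun t : K => t ∈ F) ⊆ Finset.univ.filter (fun t : K => t ^ p ^ (b : ℕ) = t) := by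
    intro t ht
    rw [Finset.mem_filter] at ht ⊢
    refine ⟨Finset.mem_univ t, ?_⟩
    have := FiniteField.pow_card (⟨t, ht.2⟩ : F)
    rw [hb] at this
    have h2 := congrArg Subtype.val this
    simpa using h2
  have hFcard : (Finset.univ.filter (fun t : K => t ∈ F)).card = p ^ (b : ℕ) := by
    rw [← hb]
    exact (Fintype.card_of_subtype _ (fun x => by simp)).symm
  have hFeq : Finset.univ.filter (fun t : K => t ∈ F) = Finset.univ.filter (fun t : K => t ^ p ^ (b : ℕ) = t) := by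
    apply Finset.eq_of_subset_of_card_le hFsub
    rw [hFcard]
    exact bglfl15_card_le p b hb1
  have hF : ∀ t : K, t ∈ F ↔ t ^ p ^ (b : ℕ) = t := by
    intro t
    have := Finset.ext_iff.mp hFeq t
    simpa using this
  have hbcard : (Finset.univ.filter (fun t : K => t ^ p ^ (b : ℕ) = t)).card = p ^ (b : ℕ) := by
    rw [← hFeq, hFcard]
  -- `g = gcd a M` divides `b`
  have hg1 : 1 ≤ Nat.gcd a M := Nat.gcd_pos_of_pos_left _ (by omega)
  have hgb1 : 1 ≤ Nat.gcd (Nat.gcd a M) b := Nat.gcd_pos_of_pos_left _ hg1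
  have hgb : Nat.gcd a M ∣ b := by
    have h1 : p ^ Nat.gcd a M ≤ (Finset.univ.filter (fun t : K => t ^ p ^ Nat.gcd a M = t)).card :=
      bglfl15_card_ge p _ M hg1 (Nat.gcd_dvd_right a M) hM
    have h2 : Finset.univ.filter (fun t : K => t ^ p ^ Nat.gcd a M = t) ⊆
        Finset.univ.filter (fun t : K => t ^ p ^ Nat.gcd (Nat.gcd a M) b = t) := by
      intro t ht
      rw [Finset.mem_filter] at ht ⊢
      refine ⟨Finset.mem_univ t, ?_⟩
      have h3 : t ^ p ^ a = t := by
        have := alg_fix_mul p t _ ht.2 (a / Nat.gcd a M)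
        rwa [Nat.div_mul_cancel (Nat.gcd_dvd_left a M)] at this
      exact alg_fix_gcd p t _ _ ht.2 ((hF t).mp (hk t h3))
    have h4 : (Finset.univ.filter (fun t : K => t ^ p ^ Nat.gcd (Nat.gcd a M) b = t)).card ≤
        p ^ Nat.gcd (Nat.gcd a M) b := bglfl15_card_le p _ hgb1
    have h5 : p ^ Nat.gcd a M ≤ p ^ Nat.gcd (Nat.gcd a M) b :=
      le_trans h1 (le_trans (Finset.card_le_card h2) h4)
    have h6 : Nat.gcd a M ≤ Nat.gcd (Nat.gcd a M) b := (Nat.pow_le_pow_iff_right hp).mp h5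
    have h7 : Nat.gcd (Nat.gcd a M) b ∣ Nat.gcd a M := Nat.gcd_dvd_left _ _
    have h8 : Nat.gcd (Nat.gcd a M) b = Nat.gcd a M := le_antisymm (Nat.le_of_dvd hg1 h7) h6
    rw [← h8]
    exact Nat.gcd_dvd_right _ _
  obtain ⟨r, hr⟩ := hgb
  have hr1 : 1 ≤ r := by
    rcases Nat.eq_zero_or_pos r with h0 | h0
    · rw [h0, mul_zero] at hr
      omega
    · exact h0
  refine ⟨r, hr1, fun t => ⟨fun ht => ?_, fun ht => ?_⟩⟩
  · have h1 : t ^ p ^ (b : ℕ) = t := (hF t).mp ht
    have h2 := alg_fix_mul p t _ h1 (a / Nat.gcd a M)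
    have e : a / Nat.gcd a M * (b : ℕ) = a * r := by
      rw [hr, ← mul_assoc, Nat.div_mul_cancel (Nat.gcd_dvd_left a M)]
    rw [e] at h2
    rw [← pow_mul]
    exact h2
  · rw [← pow_mul] at ht
    have h1 : t ^ p ^ Nat.gcd (a * r) M = t := alg_fix_gcd p t _ _ ht (hall t)
    have h2 : Nat.gcd (a * r) M ∣ (b : ℕ) := by
      have h3 : Nat.gcd (a * r) M ∣ Nat.gcd (a * r) (M * r) :=
        Nat.dvd_gcd (Nat.gcd_dvd_left _ _) (dvd_mul_of_dvd_left (Nat.gcd_dvd_right _ _) r)
      rw [Nat.gcd_mul_right] at h3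
      rw [hr]
      exact h3
    have h4 := alg_fix_mul p t _ h1 ((b : ℕ) / Nat.gcd (a * r) M)
    rw [Nat.div_mul_cancel h2] at h4
    exact (hF t).mpr h4

end Cfsg.Agent.Lib.Helper10.BGL
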