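import Mathlib
import Cfsg.Agent.Lib.Helper10.BGL.FldDefs

/-!
# Project BGL (designer helper10), block FLD, row FL13 (helper16), VERBATIM: `fld_pow_sub`.
Extras: `bglfl13_perfect` (a `p`-th root in `K` of an element of a subfield lies in the subfield),
`bglfl13_two_ne`, `bglfl13_three_ne`.
-/

set_option autoImplicit false

namespace Cfsg.Agent.Lib.Helper10.BGL

open Cfsg.Lie Cfsg.Lie.ChevalleyDatum Cfsg.Agent.Lib.helper8

universe u

variable {K : Type u} [Field K] [Finite K]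

/-- subfields of a finite field of characteristic `p` are perfect: `c ^ p ∈ Fl` forces `c ∈ Fl` -/
theorem bglfl13_perfect (p : ℕ) [Fact p.Prime] [CharP K p] (Fl : Subfield K) (c : K) (hc : c ^ p ∈ Fl) :
    c ∈ Fl := by
  classical
  haveI : Fintype Fl := Fintype.ofFinite Fl
  have hcp : CharP Fl p := RingHom.charP Fl.subtype Subtype.coe_injective p
  obtain ⟨n, hn⟩ := FiniteField.card Fl p
  have hpow : (c ^ p) ^ (p ^ (n : ℕ)) = c ^ p := by
    have h1 := FiniteField.pow_card (⟨c ^ p, hc⟩ : Fl)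
    rw [hn.2] at h1
    have h2 := congrArg Subtype.val h1
    simpa using h2
  have hdF : (c ^ p) ^ (p ^ ((n : ℕ) - 1)) ∈ Fl := pow_mem hc _
  have hdp : ((c ^ p) ^ (p ^ ((n : ℕ) - 1))) ^ p = c ^ p := by
    rw [← pow_mul, ← pow_succ, Nat.sub_add_cancel n.pos]
    exact hpow
  have h0 : ((c ^ p) ^ (p ^ ((n : ℕ) - 1)) - c) ^ p = 0 := by
    rw [sub_pow_char, hdp, sub_self]
  have h1 : (c ^ p) ^ (p ^ ((n : ℕ) - 1)) = c := sub_eq_zero.1 (pow_eq_zero_iff (Fact.out : p.Prime).ne_zero |>.1 h0)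
  rw [← h1]
  exact hdF

theorem bglfl13_two_ne (p : ℕ) [Fact p.Prime] [CharP K p] (hp : p ≠ 2) : (2 : K) ≠ 0 := by
  intro h
  have h2 : ((2 : ℕ) : K) = 0 := by exact_mod_cast h
  rw [CharP.cast_eq_zero_iff K p] at h2
  exact hp ((Nat.prime_dvd_prime_iff_eq (Fact.out : p.Prime) Nat.prime_two).1 h2)

theorem bglfl13_three_ne (p : ℕ) [Fact p.Prime] [CharP K p] (hp : p ≠ 3) : (3 : K) ≠ 0 := by
  intro h
  have h2 : ((3 : ℕ) : K) = 0 := by exact_mod_cast h
  rw [CharP.cast_eq_zero_iff K p] at h2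
  exact hp ((Nat.prime_dvd_prime_iff_eq (Fact.out : p.Prime) Nat.prime_three).1 h2)

/-- FL13 [S-M]. -/
theorem fld_pow_sub (p : ℕ) [Fact p.Prime] [CharP K p] (Fl Fs : Subfield K) (hle : Fl ≤ Fs)
    (m : ℕ) (hm : m = 2 ∨ (m = 3 ∧ p ≠ 2)) (h : ∀ c ∈ Fs, c ^ m ∈ Fl) : Fs ≤ Fl := by
  -- `2 c ∈ Fl` for all `c ∈ Fs` gives the claim when `p ≠ 2`
  have hhalf : p ≠ 2 → (∀ c ∈ Fs, 2 * c ∈ Fl) → Fs ≤ Fl := by
    intro hp h2 c hc
    have h2ne := bglfl13_two_ne (K := K) p hp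
    have h2m : (2 : K) ∈ Fl := by
      have : (1 : K) + 1 ∈ Fl := add_mem (one_mem Fl) (one_mem Fl)
      rwa [one_add_one_eq_two] at this
    have : c = (2 : K)⁻¹ * (2 * c) := by
      rw [← mul_assoc, inv_mul_cancel₀ h2ne, one_mul]
    rw [this]
    exact mul_mem (inv_mem h2m) (h2 c hc)
  rcases hm with rfl | ⟨rfl, hp2⟩
  · by_cases hp : p = 2
    · subst hp
      intro c hc
      exact bglfl13_perfect 2 Fl c (h c hc)
    · apply hhalf hp
      intro c hc
      have h1 := h (c + 1) (add_mem hc (one_mem Fs))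
      have h2 := h c hc
      have e : 2 * c = (c + 1) ^ 2 - c ^ 2 - 1 := by ring
      rw [e]
      exact sub_mem (sub_mem h1 h2) (one_mem Fl)
  · by_cases hp : p = 3
    · subst hp
      intro c hc
      exact bglfl13_perfect 3 Fl c (h c hc)
    · have h3ne := bglfl13_three_ne (K := K) p hp
      have h3m : (3 : K) ∈ Fl := by
        have : (1 : K) + 1 + 1 ∈ Fl := add_mem (add_mem (one_mem Fl) (one_mem Fl)) (one_mem Fl)
        have e : (1 : K) + 1 + 1 = 3 := by norm_num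
        rwa [e] at this
      -- `c ^ 2 + c ∈ Fl`
      have hq : ∀ c ∈ Fs, c ^ 2 + c ∈ Fl := by
        intro c hc
        have h1 := h (c + 1) (add_mem hc (one_mem Fs))
        have h2 := h c hc
        have e : c ^ 2 + c = (3 : K)⁻¹ * ((c + 1) ^ 3 - c ^ 3 - 1) := by
          field_simp
          ring
        rw [e]
        exact mul_mem (inv_mem h3m) (sub_mem (sub_mem h1 h2) (one_mem Fl))
      apply hhalf hp2
      intro c hc
      have h1 := hq (c + 1) (add_mem hc (one_mem Fs))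
      have h2 := hq c hc
      have e : 2 * c = ((c + 1) ^ 2 + (c + 1)) - (c ^ 2 + c) - 1 - 1 := by ring
      rw [e]
      exact sub_mem (sub_mem (sub_mem h1 h2) (one_mem Fl)) (one_mem Fl)

end Cfsg.Agent.Lib.Helper10.BGL
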