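import Mathlib
import Cfsg.Agent.Lib.Helper16.SpinA
import Cfsg.Agent.Lib.Helper16.Witt

set_option autoImplicit false
set_option linter.unusedSectionVars false
set_option linter.unusedSimpArgs false
set_option linter.unusedVariables false

namespace Cfsg.Agent.Lib.Helper16

open Matrix Module Cfsg.Agent.Lib.helper6

variable {ι : Type} [Fintype ι] [DecidableEq ι] {F : Type*} [Field F]

theorem hyp_rot (Q : QuadraticForm F (ι → F)) (e f : ι → F) (hQe : Q e = 0) (hQf : Q f = 0)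
    (hef : QuadraticMap.polar (⇑Q) e f = 1) (lam : F) (hlam : lam ≠ 0) :
    Q (e - f) = -1 ∧ Q (e - lam • f) = -lam ∧
      ∀ x : ι → F, (Cfsg.reflectionMatrix ⇑Q (e - f) * Cfsg.reflectionMatrix ⇑Q (e - lam • f)) *ᵥ x
        = x + ((lam - 1) * QuadraticMap.polar (⇑Q) f x) • e +
            ((lam⁻¹ - 1) * QuadraticMap.polar (⇑Q) e x) • f := by
  have hfe : QuadraticMap.polar (⇑Q) f e = 1 := by rw [QuadraticMap.polar_comm]; exact hef
  have hee : QuadraticMap.polar (⇑Q) e e = 0 := by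
    rw [QuadraticMap.polar_self, hQe]; simp
  have hff : QuadraticMap.polar (⇑Q) f f = 0 := by
    rw [QuadraticMap.polar_self, hQf]; simp
  have h1 : Q (e - f) = -1 := by
    rw [Q_sub', hQe, hQf, hef]; ring
  have h2 : Q (e - lam • f) = -lam := by
    rw [Q_sub', QuadraticMap.map_smul, hQe, hQf, QuadraticMap.polar_smul_right, hef]
    simp
  refine ⟨h1, h2, ?_⟩
  intro x
  rw [← Matrix.mulVec_mulVec, reflectionMatrix_mulVec, reflectionMatrix_mulVec, h1, h2]
  simp only [QuadraticMap.polar_sub_left, QuadraticMap.polar_sub_right,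
    QuadraticMap.polar_smul_left, QuadraticMap.polar_smul_right, hef, hfe, hee, hff, smul_eq_mul]
  set α := QuadraticMap.polar (⇑Q) f x
  set β := QuadraticMap.polar (⇑Q) e x
  have hA : -((-lam)⁻¹ * (β - lam * α)) -
      ((-1 : F)⁻¹ * (β - α - (-lam)⁻¹ * (β - lam * α) * (0 - 1 - lam * (1 - 0))))
      = (lam - 1) * α := by
    field_simp
    ring
  have hB : ((-lam)⁻¹ * (β - lam * α)) * lam +
      ((-1 : F)⁻¹ * (β - α - (-lam)⁻¹ * (β - lam * α) * (0 - 1 - lam * (1 - 0))))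
      = (lam⁻¹ - 1) * β := by
    field_simp
    ring
  rw [← hA, ← hB]
  module

theorem exists_spin_rot [Fintype F] (h2 : (2 : F) ≠ 0) (Q : QuadraticForm F (ι → F))
    (hQ : (QuadraticMap.polarBilin Q).Nondegenerate) (w : ι → F) (hw0 : w ≠ 0) (hQw : Q w = 0) :
    ∃ a b : ι → F, Q a ≠ 0 ∧ Q b ≠ 0 ∧ ¬ IsSquare (Q a * Q b) ∧
      ∀ x : ι → F, QuadraticMap.polar (⇑Q) w x = 0 →
        ∃ c : F, (Cfsg.reflectionMatrix ⇑Q a * Cfsg.reflectionMatrix ⇑Q b) *ᵥ x = x + c • w := by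
  obtain ⟨f, hQf, hwf⟩ := hyp_pair Q hQ hw0 hQw
  have hchar : ringChar F ≠ 2 := by
    intro h
    apply h2
    have : CharP F 2 := by rw [← h]; exact ringChar.charP F
    exact CharTwo.two_eq_zero
  obtain ⟨lam, hlam⟩ := FiniteField.exists_nonsquare hchar
  have hlam0 : lam ≠ 0 := by
    rintro rfl
    exact hlam IsSquare.zero
  obtain ⟨h1, h3, h4⟩ := hyp_rot Q w f hQw hQf hwf lam hlam0
  refine ⟨w - f, w - lam • f, by rw [h1]; simp, by rw [h3]; simpa using hlam0, ?_, ?_⟩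
  · rw [h1, h3]
    simpa using hlam
  · intro x hx
    refine ⟨(lam - 1) * QuadraticMap.polar (⇑Q) f x, ?_⟩
    rw [h4 x, hx, mul_zero, zero_smul, add_zero]

end Cfsg.Agent.Lib.Helper16
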