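import Mathlib
import Cfsg.Agent.Lib.Helper16.HypRot
import Cfsg.Agent.Lib.Helper16.ReflList
import Cfsg.Agent.Lib.Helper16.SpinD4
import Cfsg.Agent.Lib.Helper16.TwoFam4

set_option autoImplicit false
set_option linter.unusedSectionVars false
set_option linter.unusedSimpArgs false
set_option linter.unusedVariables false

namespace Cfsg.Agent.Lib.Helper16

open Matrix Module Cfsg.Agent.Lib.helper6

variable {ι : Type} [Fintype ι] [DecidableEq ι] {F : Type*} [Field F]

theorem even_length_of_det_one (h2 : (2 : F) ≠ 0) (Q : QuadraticForm F (ι → F))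
    (vs : List (ι → F)) (hvs : ∀ v ∈ vs, Q v ≠ 0)
    (hdet : (((vs.map (reflG' Q)).prod : ↥(Cfsg.isometryGroup F ⇑Q)) : GL ι F).1.det = 1) :
    Even vs.length := by
  have h1 := isoDet_prod Q vs hvs
  have h3 : isoDet (⇑Q) (vs.map (reflG' Q)).prod = 1 := by
    apply Units.ext
    rw [isoDet_coe]
    exact hdet
  rw [h3] at h1
  by_contra hodd
  rw [Nat.not_even_iff_odd] at hodd
  rw [hodd.neg_one_pow] at h1
  have h4 := congrArg Units.val h1
  simp only [Units.val_one, Units.val_neg] at h4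
  apply h2
  have : (2 : F) = 1 - (-1) := by ring
  rw [this, ← h4]; ring

theorem spin_adjust [Fintype F] (h2 : (2 : F) ≠ 0) (Q : QuadraticForm F (ι → F))
    (hQ : (QuadraticMap.polarBilin Q).Nondegenerate) (g0 : ↥(Cfsg.isometryGroup F ⇑Q))
    (hdet : ((g0 : GL ι F) : Matrix ι ι F).det = 1) (w : ι → F) (hw0 : w ≠ 0) (hQw : Q w = 0) :
    ∃ h : ↥(Cfsg.isometryGroup F ⇑Q), h * g0 ∈ Cfsg.Omega F ⇑Q ∧
      ∀ x : ι → F, QuadraticMap.polar (⇑Q) w x = 0 →
        ∃ c : F, ((h : GL ι F) : Matrix ι ι F) *ᵥ x = x + c • w := by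
  obtain ⟨vs, hvs, hgvs⟩ := exists_list_of_gen Q (CDG.cartan_dieudonne h2 Q hQ) g0
  have heven : Even vs.length := by
    apply even_length_of_det_one h2 Q vs hvs
    rw [← hgvs]; exact hdet
  have m1 := master h2 Q g0 vs hvs (by rw [hgvs, prod_reflG'_coe Q vs hvs])
  by_cases hsq : IsSquare (vs.map (fun v => Q v)).prod
  · refine ⟨1, ?_, ?_⟩
    · rw [one_mul, m1]; exact ⟨heven, hsq⟩
    · intro x _
      refine ⟨0, ?_⟩
      show (1 : Matrix ι ι F) *ᵥ x = _
      rw [Matrix.one_mulVec, zero_smul, add_zero]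
  · obtain ⟨a, b, ha, hb, hab, hfix⟩ := exists_spin_rot h2 Q hQ w hw0 hQw
    refine ⟨reflG Q a ha * reflG Q b hb, ?_, ?_⟩
    · have m2 := master h2 Q (reflG Q a ha * reflG Q b hb * g0) (a :: b :: vs)
        (by
          intro v hv
          simp only [List.mem_cons] at hv
          rcases hv with rfl | rfl | hv
          · exact ha
          · exact hb
          · exact hvs v hv)
        (by
          rw [iso_mul_coe, iso_mul_coe, reflG_coe, reflG_coe, List.map_cons, List.map_cons,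
            List.prod_cons, List.prod_cons, hgvs, prod_reflG'_coe Q vs hvs, mul_assoc])
      rw [m2]
      refine ⟨?_, ?_⟩
      · simp only [List.length_cons]
        obtain ⟨t, ht⟩ := heven
        exact ⟨t + 1, by omega⟩
      · rw [List.map_cons, List.map_cons, List.prod_cons, List.prod_cons, ← mul_assoc]
        exact nonsq_mul_nonsq hab hsq
    · intro x hx
      obtain ⟨c, hc⟩ := hfix x hx
      refine ⟨c, ?_⟩
      rw [iso_mul_coe, reflG_coe, reflG_coe]
      exact hc

theorem map_eq_of_shift (Q : QuadraticForm F (ι → F)) (h : ↥(Cfsg.isometryGroup F ⇑Q))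
    (W : Submodule F (ι → F)) (hW : TS Q W) (w : ι → F) (hwW : w ∈ W)
    (hfix : ∀ x : ι → F, QuadraticMap.polar (⇑Q) w x = 0 →
        ∃ c : F, ((h : GL ι F) : Matrix ι ι F) *ᵥ x = x + c • w) :
    W.map (Matrix.mulVecLin ((h : GL ι F) : Matrix ι ι F)) = W := by
  apply Submodule.eq_of_le_of_finrank_le
  · intro y hy
    obtain ⟨x, hx, rfl⟩ := Submodule.mem_map.mp hy
    obtain ⟨c, hc⟩ := hfix x (hW.polar_eq_zero hwW hx)
    rw [Matrix.mulVecLin_apply, hc]
    exact W.add_mem hx (W.smul_mem c hwW)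
  · rw [finrank_map_GL]

end Cfsg.Agent.Lib.Helper16
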