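import Mathlib
import Cfsg.Agent.Lib.Helper16.CDG
import Cfsg.Agent.Lib.Helper16.TwoFam4
import Cfsg.Agent.Lib.Helper16.QuadClass

set_option autoImplicit false
set_option linter.unusedSectionVars false
set_option linter.unusedSimpArgs false
set_option linter.unusedVariables false

namespace Cfsg.Agent.Lib.Helper16

open Matrix Module Cfsg.Agent.Lib.helper6

variable {ι : Type} [Fintype ι] [DecidableEq ι] {F : Type*} [Field F]

theorem reflG_map_of_mem (Q : QuadraticForm F (ι → F)) (u : ι → F) (hu : Q u ≠ 0)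
    (W : Submodule F (ι → F)) (huW : u ∈ W) :
    W.map (Matrix.mulVecLin ((reflG Q u hu : GL ι F) : Matrix ι ι F)) = W := by
  apply Submodule.eq_of_le_of_finrank_le
  · intro y hy
    obtain ⟨x, hx, rfl⟩ := Submodule.mem_map.mp hy
    rw [Matrix.mulVecLin_apply, reflG_coe, reflectionMatrix_mulVec]
    exact W.sub_mem hx (W.smul_mem _ huW)
  · rw [finrank_map_GL]

theorem reflG_map_of_perp (Q : QuadraticForm F (ι → F)) (u : ι → F) (hu : Q u ≠ 0)
    (W : Submodule F (ι → F)) (huW : u ∈ CDG.perp Q W) :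
    W.map (Matrix.mulVecLin ((reflG Q u hu : GL ι F) : Matrix ι ι F)) = W := by
  apply Submodule.eq_of_le_of_finrank_le
  · intro y hy
    obtain ⟨x, hx, rfl⟩ := Submodule.mem_map.mp hy
    rw [Matrix.mulVecLin_apply, reflG_coe, reflectionMatrix_mulVec]
    have h0 : QuadraticMap.polar (⇑Q) u x = 0 := by
      rw [QuadraticMap.polar_comm]
      exact (CDG.mem_perp Q W u).mp huW x hx
    rw [h0, mul_zero, zero_smul, sub_zero]
    exact hx
  · rw [finrank_map_GL]

theorem exists_nonsing_mem (Q : QuadraticForm F (ι → F)) (W : Submodule F (ι → F))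
    (hW : W ⊓ CDG.perp Q W = ⊥) (hne : W ≠ ⊥) : ∃ u ∈ W, Q u ≠ 0 := by
  by_contra hcon
  push Not at hcon
  apply hne
  rw [eq_bot_iff, ← hW]
  refine le_inf le_rfl ?_
  intro x hx
  rw [CDG.mem_perp]
  intro y hy
  unfold QuadraticMap.polar
  rw [hcon _ (W.add_mem hy hx), hcon y hy, hcon x hx]; ring

theorem perp_nondeg (Q : QuadraticForm F (ι → F)) (hQ : (QuadraticMap.polarBilin Q).Nondegenerate)
    (W : Submodule F (ι → F)) (hW : W ⊓ CDG.perp Q W = ⊥) :
    CDG.perp Q W ⊓ CDG.perp Q (CDG.perp Q W) = ⊥ := by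
  have hpp : CDG.perp Q (CDG.perp Q W) = W :=
    LinearMap.BilinForm.orthogonal_orthogonal hQ (CDG.polarBilin_isRefl Q) W
  rw [hpp, inf_comm]
  exact hW

theorem exists_repr [Fintype F] (h2 : (2 : F) ≠ 0) (Q : QuadraticForm F (ι → F))
    (X : Submodule F (ι → F)) (hX : X ⊓ CDG.perp Q X = ⊥) (hdim : 2 ≤ finrank F X)
    (t : F) (ht : t ≠ 0) : ∃ x ∈ X, Q x = t := by
  obtain ⟨d, hd⟩ : ∃ d, finrank F X = d + 2 := ⟨finrank F X - 2, by omega⟩
  set B0 : LinearMap.BilinForm F X := LinearMap.BilinForm.restrict (QuadraticMap.polarBilin Q) X with hB0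
  have hB0nd : B0.Nondegenerate :=
    LinearMap.BilinForm.nondegenerate_restrict_of_disjoint_orthogonal _ (CDG.polarBilin_isRefl Q)
      (disjoint_iff.mpr hX)
  set c : F := (2 * t)⁻¹ with hc
  have hc0 : c ≠ 0 := inv_ne_zero (mul_ne_zero h2 ht)
  have hBnd : (c • B0).Nondegenerate := by
    constructor
    · intro x hx
      apply hB0nd.1 x
      intro y
      have := hx y
      simp only [LinearMap.smul_apply, smul_eq_mul, mul_eq_zero] at this
      rcases this with h | h
      · exact absurd h hc0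
      · exact h
    · intro x hx
      apply hB0nd.2 x
      intro y
      have := hx y
      simp only [LinearMap.smul_apply, smul_eq_mul, mul_eq_zero] at this
      rcases this with h | h
      · exact absurd h hc0
      · exact h
  have hS : (c • B0).IsSymm := by
    constructor
    intro x y
    simp only [LinearMap.smul_apply, smul_eq_mul, RingHom.id_apply]
    congr 1
    show QuadraticMap.polar (⇑Q) (x : ι → F) (y : ι → F) = QuadraticMap.polar (⇑Q) (y : ι → F) (x : ι → F)
    exact QuadraticMap.polar_comm _ _ _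
  obtain ⟨x, hx⟩ := exists_unit_vec h2 hd (c • B0) hS hBnd
  refine ⟨(x : ι → F), x.2, ?_⟩
  have h1 : (c • B0) x x = c * QuadraticMap.polar (⇑Q) (x : ι → F) (x : ι → F) := rfl
  rw [h1, QuadraticMap.polar_self] at hx
  simp only [nsmul_eq_mul, Nat.cast_ofNat] at hx
  rw [hc] at hx
  field_simp at hx
  linear_combination hx

end Cfsg.Agent.Lib.Helper16
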