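import Mathlib
import Cfsg.Agent.Lib.Helper16.SpinAdjust
import Cfsg.Agent.Lib.Helper16.StabRefl

set_option autoImplicit false
set_option linter.unusedSectionVars false
set_option linter.unusedSimpArgs false
set_option linter.unusedVariables false

namespace Cfsg.Agent.Lib.Helper16

open Matrix Module Cfsg.Agent.Lib.helper6

variable {ι : Type} [Fintype ι] [DecidableEq ι] {F : Type*} [Field F]

theorem list_prod_ne_zero (Q : QuadraticForm F (ι → F)) (vs : List (ι → F))
    (hvs : ∀ v ∈ vs, Q v ≠ 0) : (vs.map (fun v => Q v)).prod ≠ 0 := by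
  induction vs with
  | nil => simp
  | cons v vs ih =>
    rw [List.map_cons, List.prod_cons]
    exact mul_ne_zero (hvs v (List.mem_cons_self)) (ih (fun w hw => hvs w (List.mem_cons_of_mem _ hw)))

theorem spin_adjust2 [Fintype F] (h2 : (2 : F) ≠ 0) (Q : QuadraticForm F (ι → F))
    (hQ : (QuadraticMap.polarBilin Q).Nondegenerate) (g0 : ↥(Cfsg.isometryGroup F ⇑Q))
    (a b : ι → F) (ha : Q a ≠ 0) (hb : Q b ≠ 0) (hsa : IsSquare (Q a)) (hsb : ¬ IsSquare (Q b)) :
    ∃ h : ↥(Cfsg.isometryGroup F ⇑Q), h * g0 ∈ Cfsg.Omega F ⇑Q ∧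
      (h = 1 ∨ h = reflG Q a ha ∨ h = reflG Q b hb ∨ h = reflG Q a ha * reflG Q b hb) := by
  obtain ⟨vs, hvs, hgvs⟩ := exists_list_of_gen Q (CDG.cartan_dieudonne h2 Q hQ) g0
  have hP0 := list_prod_ne_zero Q vs hvs
  have m1 := master h2 Q g0 vs hvs (by rw [hgvs, prod_reflG'_coe Q vs hvs])
  have mA := master h2 Q (reflG Q a ha * g0) (a :: vs)
    (by
      intro v hv
      simp only [List.mem_cons] at hv
      rcases hv with rfl | hv
      · exact ha
      · exact hvs v hv)
    (by
      rw [iso_mul_coe, reflG_coe, List.map_cons, List.prod_cons, hgvs, prod_reflG'_coe Q vs hvs])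
  have mB := master h2 Q (reflG Q b hb * g0) (b :: vs)
    (by
      intro v hv
      simp only [List.mem_cons] at hv
      rcases hv with rfl | hv
      · exact hb
      · exact hvs v hv)
    (by
      rw [iso_mul_coe, reflG_coe, List.map_cons, List.prod_cons, hgvs, prod_reflG'_coe Q vs hvs])
  have mAB := master h2 Q (reflG Q a ha * reflG Q b hb * g0) (a :: b :: vs)
    (by
      intro v hv
      simp only [List.mem_cons] at hv
      rcases hv with rfl | rfl | hv
      · exact ha
      · exact hb
      · exact hvs v hv)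
    (by
      rw [iso_mul_coe, iso_mul_coe, reflG_coe, reflG_coe, List.map_cons, List.map_cons,
        List.prod_cons, List.prod_cons, hgvs, prod_reflG'_coe Q vs hvs, mul_assoc])
  by_cases heven : Even vs.length
  · by_cases hsq : IsSquare (vs.map (fun v => Q v)).prod
    · refine ⟨1, ?_, Or.inl rfl⟩
      rw [one_mul, m1]; exact ⟨heven, hsq⟩
    · refine ⟨reflG Q a ha * reflG Q b hb, ?_, Or.inr (Or.inr (Or.inr rfl))⟩
      rw [mAB]
      refine ⟨?_, ?_⟩
      · simp only [List.length_cons]
        obtain ⟨t, ht⟩ := heven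
        exact ⟨t + 1, by omega⟩
      · rw [List.map_cons, List.map_cons, List.prod_cons, List.prod_cons]
        rw [isSquare_mul_of_sq hsa ha]
        exact nonsq_mul_nonsq hsb hsq
  · rw [Nat.not_even_iff_odd] at heven
    by_cases hsq : IsSquare (vs.map (fun v => Q v)).prod
    · refine ⟨reflG Q a ha, ?_, Or.inr (Or.inl rfl)⟩
      rw [mA]
      refine ⟨?_, ?_⟩
      · simp only [List.length_cons]
        exact heven.add_one
      · rw [List.map_cons, List.prod_cons, isSquare_mul_of_sq hsa ha]
        exact hsq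
    · refine ⟨reflG Q b hb, ?_, Or.inr (Or.inr (Or.inl rfl))⟩
      rw [mB]
      refine ⟨?_, ?_⟩
      · simp only [List.length_cons]
        exact heven.add_one
      · rw [List.map_cons, List.prod_cons]
        exact nonsq_mul_nonsq hsb hsq

end Cfsg.Agent.Lib.Helper16
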