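import Mathlib
import Cfsg.Agent.Lib.Helper10.C6P.Defs
import Cfsg.Agent.Lib.Helper9.C6PLDIAG

/-!
# Project C6P, row E2W (wit_two) core (helper16): the three involution types `pD1`, `CZ`, `-CZ` in `N(R)`, transported
back along the conjugation to the standard form.  The statements of WZ1, WCZ, WSMUL, WTRANS are hypotheses.
-/

set_option autoImplicit false

namespace Cfsg.Agent.Lib.Helper10.C6P

open Polynomial Matrix

variable {F : Type*} [Field F]

theorem c6pe2w_diag_sq (d : Fin 4 → F) (hd : ∀ k, d k * d k = 1) :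
    Matrix.diagonal d * Matrix.diagonal d = (1 : M4 F) := by
  rw [Matrix.diagonal_mul_diagonal, ← Matrix.diagonal_one]
  congr 1
  funext k
  exact hd k

theorem c6pe2w_CZ : CZ F = Matrix.diagonal ![1, 1, 1, -1] := by
  ext a b
  fin_cases a <;> fin_cases b <;> simp [CZ]

theorem c6pe2w_negCZ : (-1 : F) • CZ F = Matrix.diagonal ![-1, -1, -1, 1] := by
  rw [c6pe2w_CZ]
  ext a b
  fin_cases a <;> fin_cases b <;> simp

/-- transport of a witness along the conjugation -/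
theorem c6pe2w_transport {R : Subgroup (GL (Fin 4) F)} (P : GL (Fin 4) F)
    (htrans : ∀ (R' : Subgroup (GL (Fin 4) F)) (P : GL (Fin 4) F) (M : M4 F),
      Nrm (R'.map (MulAut.conj P).toMonoidHom) M →
        Nrm R' (((P⁻¹ : GL (Fin 4) F) : M4 F) * M * (P : M4 F)))
    (y0 : M4 F) (hN : Nrm (R.map (MulAut.conj P).toMonoidHom) y0) (k : ℕ) (hk : y0 ^ k = 1)
    (f : F[X]) (hf : y0.charpoly = f) :
    ∃ y : M4 F, Nrm R y ∧ y ^ k = 1 ∧ y.charpoly = f := by
  refine ⟨((P⁻¹ : GL (Fin 4) F) : M4 F) * y0 * (P : M4 F), htrans R P y0 hN, ?_, ?_⟩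
  · have h1 : ∀ m : ℕ, (((P⁻¹ : GL (Fin 4) F) : M4 F) * y0 * (P : M4 F)) ^ m =
        ((P⁻¹ : GL (Fin 4) F) : M4 F) * y0 ^ m * (P : M4 F) := by
      intro m
      induction m with
      | zero =>
        rw [pow_zero, pow_zero, Matrix.mul_one]
        exact (Units.inv_mul P).symm
      | succ m ih =>
        rw [pow_succ, ih, pow_succ]
        have hPP : (P : M4 F) * ((P⁻¹ : GL (Fin 4) F) : M4 F) = 1 := Units.mul_inv P
        calc ((P⁻¹ : GL (Fin 4) F) : M4 F) * y0 ^ m * (P : M4 F) *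
              (((P⁻¹ : GL (Fin 4) F) : M4 F) * y0 * (P : M4 F))
            = ((P⁻¹ : GL (Fin 4) F) : M4 F) * y0 ^ m *
                ((P : M4 F) * ((P⁻¹ : GL (Fin 4) F) : M4 F)) * y0 * (P : M4 F) := by
              simp only [Matrix.mul_assoc]
          _ = ((P⁻¹ : GL (Fin 4) F) : M4 F) * (y0 ^ m * y0) * (P : M4 F) := by
              rw [hPP, Matrix.mul_one]
              simp only [Matrix.mul_assoc]
    rw [h1, hk, Matrix.mul_one]
    exact Units.inv_mul P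
  · rw [← hf, Matrix.charpoly_mul_comm, ← Matrix.mul_assoc]
    have hPP : (P : M4 F) * ((P⁻¹ : GL (Fin 4) F) : M4 F) = 1 := Units.mul_inv P
    rw [hPP, Matrix.one_mul]

theorem c6pe2w_core {i : F} {R : Subgroup (GL (Fin 4) F)} (hstd : HasStd i R) (h2 : (2 : F) ≠ 0)
    (hZ1 : ∀ {R' : Subgroup (GL (Fin 4) F)}, IsStd i R' → Nrm R' (pD1 : M4 F))
    (hCZ : ∀ {R' : Subgroup (GL (Fin 4) F)}, IsStd i R' → Nrm R' (CZ F))
    (hsmul : ∀ (R' : Subgroup (GL (Fin 4) F)) (M : M4 F), Nrm R' M → ∀ c : F, c ≠ 0 →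
      Nrm R' (c • M))
    (htrans : ∀ (R' : Subgroup (GL (Fin 4) F)) (P : GL (Fin 4) F) (M : M4 F),
      Nrm (R'.map (MulAut.conj P).toMonoidHom) M →
        Nrm R' (((P⁻¹ : GL (Fin 4) F) : M4 F) * M * (P : M4 F)))
    (j : ℕ) (hj1 : 1 ≤ j) (hj3 : j ≤ 3) :
    ∃ y : M4 F, Nrm R y ∧ y ^ 2 = 1 ∧
      y.charpoly = (X - C (1 : F)) ^ j * (X + C (1 : F)) ^ (4 - j) := by
  obtain ⟨P, hP⟩ := hstd
  have hC : (C (-1 : F) : F[X]) = -C 1 := by rw [map_neg]
  interval_cases j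
  · -- j = 1 : -CZ
    show ∃ y : M4 F, Nrm R y ∧ y ^ 2 = 1 ∧
      y.charpoly = (X - C (1 : F)) ^ 1 * (X + C (1 : F)) ^ 3
    apply c6pe2w_transport P htrans ((-1 : F) • CZ F) (hsmul _ _ (hCZ hP) (-1) (by simp)) 2
    · rw [c6pe2w_negCZ, pow_two]
      apply c6pe2w_diag_sq
      intro k
      fin_cases k <;> simp
    · rw [c6pe2w_negCZ, ldiag, Fin.prod_univ_four]
      show (X - C (-1 : F)) * (X - C (-1 : F)) * (X - C (-1 : F)) * (X - C (1 : F)) = _
      rw [hC]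
      ring
  · -- j = 2 : pD1
    show ∃ y : M4 F, Nrm R y ∧ y ^ 2 = 1 ∧
      y.charpoly = (X - C (1 : F)) ^ 2 * (X + C (1 : F)) ^ 2
    apply c6pe2w_transport P htrans (pD1 : M4 F) (hZ1 hP) 2
    · rw [pow_two]
      apply c6pe2w_diag_sq
      intro k
      fin_cases k <;> simp
    · unfold pD1
      rw [ldiag, Fin.prod_univ_four]
      show (X - C (1 : F)) * (X - C (1 : F)) * (X - C (-1 : F)) * (X - C (-1 : F)) = _
      rw [hC]
      ring
  · -- j = 3 : CZ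
    show ∃ y : M4 F, Nrm R y ∧ y ^ 2 = 1 ∧
      y.charpoly = (X - C (1 : F)) ^ 3 * (X + C (1 : F)) ^ 1
    apply c6pe2w_transport P htrans (CZ F) (hCZ hP) 2
    · rw [c6pe2w_CZ, pow_two]
      apply c6pe2w_diag_sq
      intro k
      fin_cases k <;> simp
    · rw [c6pe2w_CZ, ldiag, Fin.prod_univ_four]
      show (X - C (1 : F)) * (X - C (1 : F)) * (X - C (1 : F)) * (X - C (-1 : F)) = _
      rw [hC]
      ring

end Cfsg.Agent.Lib.Helper10.C6P
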