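import Mathlib
import Cfsg.Agent.Lib.Helper10.C6P.Defs
import Cfsg.Agent.Lib.Helper16.C6PE2Wcore
import Cfsg.Agent.Lib.helper7.C6PWCZ
import Cfsg.Agent.Lib.helper7.C6PWSMUL

/-!
# Project C6P (S6000), row E2W (`wit_two`) (helper16): the three involution types in `N(R)`.
-/

set_option autoImplicit false

namespace Cfsg.Agent.Lib.Helper10.C6P

open Polynomial Matrix

variable {F : Type*} [Field F]

section fin

variable [Fintype F] {p : ℕ} [Fact p.Prime] [CharP F p]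

theorem wit_two {i : F} {R : Subgroup (GL (Fin 4) F)} (hstd : HasStd i R) (h2 : (2 : F) ≠ 0) (j : ℕ) (hj1 : 1 ≤ j) (hj3 : j ≤ 3) :
    ∃ y : M4 F, Nrm R y ∧ y ^ 2 = 1 ∧ y.charpoly = (X - C (1 : F)) ^ j * (X + C (1 : F)) ^ (4 - j) :=
  c6pe2w_core hstd h2 (fun h => nrm_Z1 h) (fun h => nrm_CZ h)
    (fun R' M h c hc => nrm_smul R' M h c hc) (fun R' P M h => nrm_transport R' P M h) j hj1 hj3

end fin

end Cfsg.Agent.Lib.Helper10.C6P
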