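import Mathlib
import Cfsg.Agent.Lib.Helper19.G2V.Defs
import Cfsg.Agent.Lib.Helper19.G2VComm
import Cfsg.Agent.Lib.Lead.SLn
import Cfsg.Agent.Lib.helper8.ChevBN2

/-!
# Project G2V (S2461), row N1 (`nrho_phiA`), verbatim.
-/

set_option autoImplicit false

namespace Cfsg.Agent.Lib.Helper19.G2V

open Cfsg.Lie Cfsg.Lie.ChevalleyDatum Matrix
open Cfsg.Agent.Lib.helper8

universe u

variable {F : Type u} [Field F]

theorem g2vn1_nrho_eq : (nrho : GG F) = X 11 1 * X 0 (-(1 : F)⁻¹) * X 11 1 := by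
  unfold nrho X
  rw [h8nU_eq]
  rfl

theorem g2vn1_X7 (t : F) : nrho * X 7 t = X 7 t * nrho := by
  rw [g2vn1_nrho_eq]
  calc X 11 1 * X 0 (-(1 : F)⁻¹) * X 11 1 * X 7 t
      = X 11 1 * X 0 (-(1 : F)⁻¹) * (X 7 t * X 11 1) := by rw [mul_assoc, g2vc_c_11_7]
    _ = X 11 1 * (X 0 (-(1 : F)⁻¹) * X 7 t) * X 11 1 := by simp only [mul_assoc]
    _ = X 11 1 * (X 7 t * X 0 (-(1 : F)⁻¹)) * X 11 1 := by rw [g2vc_c_0_7]
    _ = (X 11 1 * X 7 t) * X 0 (-(1 : F)⁻¹) * X 11 1 := by simp only [mul_assoc]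
    _ = (X 7 t * X 11 1) * X 0 (-(1 : F)⁻¹) * X 11 1 := by rw [g2vc_c_11_7]
    _ = X 7 t * (X 11 1 * X 0 (-(1 : F)⁻¹) * X 11 1) := by simp only [mul_assoc]

theorem g2vn1_X4 (t : F) : nrho * X 4 t = X 4 t * nrho := by
  rw [g2vn1_nrho_eq]
  calc X 11 1 * X 0 (-(1 : F)⁻¹) * X 11 1 * X 4 t
      = X 11 1 * X 0 (-(1 : F)⁻¹) * (X 4 t * X 11 1) := by rw [mul_assoc, g2vc_c_11_4]
    _ = X 11 1 * (X 0 (-(1 : F)⁻¹) * X 4 t) * X 11 1 := by simp only [mul_assoc]
    _ = X 11 1 * (X 4 t * X 0 (-(1 : F)⁻¹)) * X 11 1 := by rw [g2vc_c_0_4]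
    _ = (X 11 1 * X 4 t) * X 0 (-(1 : F)⁻¹) * X 11 1 := by simp only [mul_assoc]
    _ = (X 4 t * X 11 1) * X 0 (-(1 : F)⁻¹) * X 11 1 := by rw [g2vc_c_11_4]
    _ = X 4 t * (X 11 1 * X 0 (-(1 : F)⁻¹) * X 11 1) := by simp only [mul_assoc]

/-- **N1**. -/
theorem nrho_phiA (S : Matrix.SpecialLinearGroup (Fin 2) F) : nrho * phiA S = phiA S * nrho := by
  refine Cfsg.Agent.Lib.Lead.SL_transvection_induction
    (fun S : Matrix.SpecialLinearGroup (Fin 2) F => nrho * phiA S = phiA S * nrho) ?_ ?_ S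
  · intro i j h c
    fin_cases i <;> fin_cases j
    · exact absurd rfl h
    · have hm : ((Matrix.SpecialLinearGroup.transvection h c :
          Matrix.SpecialLinearGroup (Fin 2) F) : Matrix (Fin 2) (Fin 2) F) = !![1, c; 0, 1] := by
        rw [Matrix.SpecialLinearGroup.transvection_coe]
        ext a b
        fin_cases a <;> fin_cases b <;> simp [Matrix.single]
      show nrho * phiA (Matrix.SpecialLinearGroup.transvection h c) = _
      rw [phiA_upper _ c hm]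
      exact g2vn1_X7 c
    · have hm : ((Matrix.SpecialLinearGroup.transvection h c :
          Matrix.SpecialLinearGroup (Fin 2) F) : Matrix (Fin 2) (Fin 2) F) = !![1, 0; c, 1] := by
        rw [Matrix.SpecialLinearGroup.transvection_coe]
        ext a b
        fin_cases a <;> fin_cases b <;> simp [Matrix.single]
      show nrho * phiA (Matrix.SpecialLinearGroup.transvection h c) = _
      rw [phiA_lower _ c hm]
      exact g2vn1_X4 c
    · exact absurd rfl h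
  · intro A B hA hB
    show nrho * phiA (A * B) = phiA (A * B) * nrho
    rw [map_mul, ← mul_assoc, hA, mul_assoc, hB, mul_assoc]

end Cfsg.Agent.Lib.Helper19.G2V
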