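import Mathlib
import Cfsg.Agent.Lib.Helper18.PRL.Defs
import Cfsg.Agent.Lib.Helper21.MaxClassP
import Cfsg.Agent.Lib.helper23.PRLCH3

/-!
# Project PRL, piece U1 : a uniform element has small centralizer in `G'`
-/

set_option autoImplicit false

namespace Cfsg.Agent.Lib.Helper18.PRL

open scoped commutatorElement

universe u

section chain
variable {p : ℕ} [Fact p.Prime] {G : Type u} [Group G] [Finite G] {n : ℕ}

/-- PRL-U1 -/
theorem unif_cent (h : MC p G n) (hn : 4 ≤ n) (s : G) (hs : Unif G n s) :
    (∀ g ∈ commutator G, g * s = s * g → g ∈ Z G 1) ∧ s ^ p ∈ Z G 1 := by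
  classical
  have hcomm := commutator_eq_Z h (by omega : 3 ≤ n)
  have key : ∀ g ∈ commutator G, g * s = s * g → g ∈ Z G 1 := by
    intro g hg hgs
    rw [hcomm] at hg
    -- the least level containing `g`
    have hex : ∃ j, g ∈ Z G j := ⟨n - 2, hg⟩
    set j := Nat.find hex with hj
    have hjmem : g ∈ Z G j := Nat.find_spec hex
    have hjle : j ≤ n - 2 := Nat.find_min' hex hg
    by_cases hj1 : j ≤ 1
    · exact Subgroup.upperCentralSeries_mono G hj1 hjmem
    · exfalso
      have hj2 : 2 ≤ j := by omega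
      have hnot : g ∉ Z G (j - 1) := Nat.find_min hex (by omega)
      have h1 := hs j hj2 hjle g hjmem hnot
      apply h1
      have : ⁅g, s⁆ = 1 := by
        rw [commutatorElement_def, hgs, mul_inv_cancel_right, mul_inv_cancel]
      rw [this]
      exact Subgroup.one_mem _
  refine ⟨key, ?_⟩
  have h2 := (Cfsg.Agent.Lib.Helper21.mc_p_index p n G (by omega) h.1 h.2).2 s
  apply key _ h2
  rw [← pow_succ, ← pow_succ']
end chain

end Cfsg.Agent.Lib.Helper18.PRL
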