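import Mathlib

/-!
# Project O4320 (S0977), piece ARITHB (helper16): the arithmetic core of the case `C_G(P) = P`

Pure arithmetic.  Every `(D i, v i)` is one of seven pairs, every `k i` lies in a short list; the
5496 remaining combinations are excluded by a kernel evaluation (`o4320arithb_all`): the class
equation makes `c ^ 2` an explicit rational number, which is not the square of an integer
`c ≥ 1 + ∑ k²`.
-/

set_option autoImplicit false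

namespace Cfsg.Agent.Lib.Helper10.O4320

/-- the possible pairs (degree, sign) -/
def o4320arithb_prs : List (ℕ × ℤ) := [(4, -1), (6, 1), (9, -1), (16, 1), (24, -1), (36, 1), (54, -1)]

/-- the possible values at the involution for a given degree -/
def o4320arithb_ks (D : ℕ) : List ℤ :=
  if D = 4 then [0] else if D = 9 then [1, -1] else if D = 6 then [0, 2, -2]
  else if D = 16 then [0, 2, -2, 4, -4] else if D = 24 then [0, 2, -2, 4, -4]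
  else if D = 36 then [0, 2, -2, 4, -4, 6, -6, 8, -8]
  else [0, 2, -2, 4, -4, 6, -6, 8, -8, 10, -10]

/-- binary search for the integer square root (no correctness needed: only used as a certificate) -/
def o4320arithb_sqrt (q : ℕ) : ℕ :=
  (Nat.rec (motive := fun _ => ℕ × ℕ → ℕ) (fun lh => lh.1)
    (fun _ ih lh => if ((lh.1 + lh.2) / 2) * ((lh.1 + lh.2) / 2) ≤ q then ih ((lh.1 + lh.2) / 2, lh.2)
      else ih (lh.1, (lh.1 + lh.2) / 2)) 12 : ℕ × ℕ → ℕ) (0, 2048)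

/-- the numerator `N` and the denominator `M` of `c² = N / M` -/
def o4320arithb_M (p0 p1 p2 p3 : ℕ × ℤ) : ℤ := (p0.1 : ℤ) * p1.1 * p2.1 * p3.1

def o4320arithb_N (p0 p1 p2 p3 : ℕ × ℤ) (k0 k1 k2 k3 : ℤ) : ℤ :=
  864 * ((p0.1 : ℤ) * p1.1 * p2.1 * p3.1 + p0.2 * k0 ^ 2 * (p1.1 * p2.1 * p3.1)
    + p1.2 * k1 ^ 2 * (p0.1 * p2.1 * p3.1) + p2.2 * k2 ^ 2 * (p0.1 * p1.1 * p3.1)
    + p3.2 * k3 ^ 2 * (p0.1 * p1.1 * p2.1))

/-- no admissible `c`: certificate -/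
def o4320arithb_bad (p0 p1 p2 p3 : ℕ × ℤ) (k0 k1 k2 k3 : ℤ) : Bool :=
  let M := o4320arithb_M p0 p1 p2 p3
  let N := o4320arithb_N p0 p1 p2 p3 k0 k1 k2 k3
  let q := (N / M).toNat
  let r := o4320arithb_sqrt q
  let L := (1 + k0 ^ 2 + k1 ^ 2 + k2 ^ 2 + k3 ^ 2).toNat
  decide (N % M ≠ 0) || decide (N < 0) || (decide (r * r < q) && decide (q < (r + 1) * (r + 1)))
    || (decide (r * r = q) && decide (r < L))

/-- the relations between the four pairs -/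
def o4320arithb_rel (p0 p1 p2 p3 : ℕ × ℤ) : Bool :=
  decide (1 + (p0.2 * p0.1 + p1.2 * p1.1 + p2.2 * p2.1 + p3.2 * p3.1) = 0) &&
    decide (1 + (p0.1 ^ 2 + p1.1 ^ 2 + p2.1 ^ 2 + p3.1 ^ 2) ≤ 4320)

theorem o4320arithb_all : o4320arithb_prs.all (fun p0 => o4320arithb_prs.all fun p1 =>
    o4320arithb_prs.all fun p2 => o4320arithb_prs.all fun p3 =>
      !(o4320arithb_rel p0 p1 p2 p3) ||
      ((o4320arithb_ks p0.1).all fun k0 => (o4320arithb_ks p1.1).all fun k1 =>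
        (o4320arithb_ks p2.1).all fun k2 => (o4320arithb_ks p3.1).all fun k3 =>
          o4320arithb_bad p0 p1 p2 p3 k0 k1 k2 k3)) = true := by
  decide +kernel


theorem o4320arithb_pair (D : ℕ) (v : ℤ) (hv : v = 1 ∨ v = -1) (hD2 : 2 ≤ D) (hD65 : D ≤ 65)
    (hdvd : D ∣ 4320) (h5 : (5 : ℤ) ∣ (D : ℤ) - v) : (D, v) ∈ o4320arithb_prs := by
  rcases hv with rfl | rfl <;> interval_cases D <;> first | (exfalso; omega) | decide

theorem o4320arithb_k (D : ℕ) (v k : ℤ) (hp : (D, v) ∈ o4320arithb_prs)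
    (hk : ∃ m₀ m₁ : ℕ, (D : ℤ) + 4 * v + 5 * k = 10 * (m₀ : ℤ) ∧
      (D : ℤ) + 4 * v - 5 * k = 10 * (m₁ : ℤ)) : k ∈ o4320arithb_ks D := by
  obtain ⟨m0, m1, h0, h1⟩ := hk
  simp only [o4320arithb_prs, List.mem_cons, Prod.mk.injEq, List.not_mem_nil, or_false] at hp
  rcases hp with ⟨rfl, rfl⟩ | ⟨rfl, rfl⟩ | ⟨rfl, rfl⟩ | ⟨rfl, rfl⟩ | ⟨rfl, rfl⟩ | ⟨rfl, rfl⟩ | ⟨rfl, rfl⟩ <;>
    simp only [o4320arithb_ks] <;> norm_num <;> omega

/-- the certificate excludes every admissible `c` -/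
theorem o4320arithb_cert (p0 p1 p2 p3 : ℕ × ℤ) (k0 k1 k2 k3 : ℤ) (c : ℕ)
    (hM : 0 < o4320arithb_M p0 p1 p2 p3)
    (hc : (c : ℤ) ^ 2 * o4320arithb_M p0 p1 p2 p3 = o4320arithb_N p0 p1 p2 p3 k0 k1 k2 k3)
    (hcol : 1 + k0 ^ 2 + k1 ^ 2 + k2 ^ 2 + k3 ^ 2 ≤ (c : ℤ))
    (hbad : o4320arithb_bad p0 p1 p2 p3 k0 k1 k2 k3 = true) : False := by
  simp only [o4320arithb_bad, Bool.or_eq_true, Bool.and_eq_true, decide_eq_true_eq] at hbad
  have hq : o4320arithb_N p0 p1 p2 p3 k0 k1 k2 k3 / o4320arithb_M p0 p1 p2 p3 = (c : ℤ) ^ 2 := by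
    rw [← hc]
    exact Int.mul_ediv_cancel _ hM.ne'
  have hq' : (o4320arithb_N p0 p1 p2 p3 k0 k1 k2 k3 / o4320arithb_M p0 p1 p2 p3).toNat = c ^ 2 := by
    rw [hq]
    exact_mod_cast Int.toNat_natCast (c ^ 2)
  rw [hq'] at hbad
  rcases hbad with ((h | h) | h) | h
  · apply h
    rw [← hc]
    exact Int.mul_emod_left _ _
  · rw [← hc] at h
    have : 0 ≤ (c : ℤ) ^ 2 * o4320arithb_M p0 p1 p2 p3 := by positivity
    omega
  · obtain ⟨h1, h2⟩ := h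
    set r := o4320arithb_sqrt (c ^ 2)
    have h3 : r < c := by nlinarith
    have h4 : c < r + 1 := by nlinarith
    omega
  · obtain ⟨h1, h2⟩ := h
    set r := o4320arithb_sqrt (c ^ 2)
    have h3 : r = c := by nlinarith
    have h4 : ((1 + k0 ^ 2 + k1 ^ 2 + k2 ^ 2 + k3 ^ 2).toNat : ℤ) ≤ c := by
      have : 0 ≤ 1 + k0 ^ 2 + k1 ^ 2 + k2 ^ 2 + k3 ^ 2 := by positivity
      rw [Int.toNat_of_nonneg this]
      exact hcol
    have h5 : (r : ℤ) < ((1 + k0 ^ 2 + k1 ^ 2 + k2 ^ 2 + k3 ^ 2).toNat : ℤ) := by exact_mod_cast h2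
    rw [h3] at h5
    omega

/-- ARITHB -/
theorem arith_b (D : Fin 4 → ℕ) (v k : Fin 4 → ℤ) (c : ℕ)
    (hv : ∀ i, v i = 1 ∨ v i = -1) (hD2 : ∀ i, 2 ≤ D i) (hDdvd : ∀ i, D i ∣ 4320)
    (hDc : ∀ i, (5 : ℤ) ∣ (D i : ℤ) - v i) (hrel : 1 + ∑ i, v i * (D i : ℤ) = 0)
    (hsq : 1 + ∑ i, (D i) ^ 2 ≤ 4320)
    (hk : ∀ i, ∃ m₀ m₁ : ℕ, (D i : ℤ) + 4 * v i + 5 * k i = 10 * (m₀ : ℤ) ∧ (D i : ℤ) + 4 * v i - 5 * k i = 10 * (m₁ : ℤ))
    (hcol : 1 + ∑ i, (k i) ^ 2 ≤ (c : ℤ))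
    (hcl : (5 : ℚ) * (c : ℚ) ^ 2 = 4320 * (1 + ∑ i, (v i : ℚ) * (k i : ℚ) ^ 2 / (D i : ℚ))) : False := by
  have hb : ∀ i, D i ≤ 65 := by
    intro i
    by_contra h
    push Not at h
    have h1 : 66 * 66 ≤ D i ^ 2 := by nlinarith
    have h2 : D i ^ 2 ≤ ∑ j, D j ^ 2 :=
      Finset.single_le_sum (f := fun j => D j ^ 2) (fun j _ => Nat.zero_le _) (Finset.mem_univ i)
    omega
  have hp : ∀ i, (D i, v i) ∈ o4320arithb_prs :=
    fun i => o4320arithb_pair _ _ (hv i) (hD2 i) (hb i) (hDdvd i) (hDc i)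
  have hkk : ∀ i, k i ∈ o4320arithb_ks (D i) := fun i => o4320arithb_k _ _ _ (hp i) (hk i)
  have hall := o4320arithb_all
  simp only [List.all_eq_true] at hall
  have h1 := hall _ (hp 0) _ (hp 1) _ (hp 2) _ (hp 3)
  rw [Fin.sum_univ_four] at hrel hsq hcol hcl
  have hrel' : o4320arithb_rel (D 0, v 0) (D 1, v 1) (D 2, v 2) (D 3, v 3) = true := by
    simp only [o4320arithb_rel, Bool.and_eq_true, decide_eq_true_eq]
    constructor
    · linarith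
    · omega
  rw [hrel'] at h1
  simp only [Bool.not_true, Bool.false_or, List.all_eq_true] at h1
  have h2 := h1 _ (hkk 0) _ (hkk 1) _ (hkk 2) _ (hkk 3)
  have hD0 : ∀ i, (0 : ℤ) < (D i : ℤ) := fun i => by have := hD2 i; omega
  refine o4320arithb_cert _ _ _ _ _ _ _ _ c ?_ ?_ ?_ h2
  · simp only [o4320arithb_M]
    have := hD0 0; have := hD0 1; have := hD0 2; have := hD0 3
    positivity
  · have hq0 : ∀ i, (D i : ℚ) ≠ 0 := fun i => by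
      have := hD2 i
      have : (0 : ℚ) < (D i : ℚ) := by exact_mod_cast (by omega : 0 < D i)
      exact this.ne'
    have e : ((c : ℚ) ^ 2 * ((D 0 : ℚ) * D 1 * D 2 * D 3)) =
        864 * ((D 0 : ℚ) * D 1 * D 2 * D 3 + v 0 * k 0 ^ 2 * (D 1 * D 2 * D 3)
          + v 1 * k 1 ^ 2 * (D 0 * D 2 * D 3) + v 2 * k 2 ^ 2 * (D 0 * D 1 * D 3)
          + v 3 * k 3 ^ 2 * (D 0 * D 1 * D 2)) := by
      have h5 : (c : ℚ) ^ 2 = 864 * (1 + ((v 0 : ℚ) * (k 0 : ℚ) ^ 2 / (D 0 : ℚ) + (v 1 : ℚ) * (k 1 : ℚ) ^ 2 / (D 1 : ℚ)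
          + (v 2 : ℚ) * (k 2 : ℚ) ^ 2 / (D 2 : ℚ) + (v 3 : ℚ) * (k 3 : ℚ) ^ 2 / (D 3 : ℚ))) := by linarith
      rw [h5]
      have := hq0 0; have := hq0 1; have := hq0 2; have := hq0 3
      field_simp
      ring
    simp only [o4320arithb_M, o4320arithb_N]
    exact_mod_cast e
  · linarith

end Cfsg.Agent.Lib.Helper10.O4320
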