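import Mathlib

/-!
BD wave 5, piece 5-FIBSUM: `finsum_mem_fibres` (generic: finsum along the fibres of a
functional relation).  Verbatim vs `Cfsg/Agent/Lib/helper7/BD/Skeleton5.lean.txt`.
-/

namespace Cfsg.Agent.Lib.helper7.BD

/-- FIBSUM : summation along the fibres of a functional relation -/
theorem finsum_mem_fibres {α β : Type*} [Finite α] [Finite β] (Θ : Set α) (𝔅 : Set β)
    (R : α → β → Prop) (hR : ∀ a ∈ Θ, ∃! B, B ∈ 𝔅 ∧ R a B) (F : α → ℕ) :
    ∑ᶠ a ∈ Θ, F a = ∑ᶠ B ∈ 𝔅, ∑ᶠ a ∈ {a | a ∈ Θ ∧ R a B}, F a := by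
  classical
  have hS : Θ.Finite := Set.toFinite Θ
  have hI : 𝔅.Finite := Set.toFinite 𝔅
  have key : ∀ a ∈ hS.toFinset, F a = ∑ B ∈ hI.toFinset, if R a B then F a else 0 := by
    intro a ha
    rw [Set.Finite.mem_toFinset] at ha
    obtain ⟨b, ⟨hb, hRab⟩, hu⟩ := hR a ha
    rw [Finset.sum_eq_single b]
    · simp [hRab]
    · intro b' hb' hne
      rw [Set.Finite.mem_toFinset] at hb'
      have : ¬ R a b' := fun h => hne (hu b' ⟨hb', h⟩)
      simp [this]
    · intro hnb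
      exact absurd ((Set.Finite.mem_toFinset hI).2 hb) hnb
  rw [finsum_mem_eq_finite_toFinset_sum _ hS, finsum_mem_eq_finite_toFinset_sum _ hI]
  rw [Finset.sum_congr rfl key, Finset.sum_comm]
  refine Finset.sum_congr rfl ?_
  intro B _
  have hfin : ({a : α | a ∈ Θ ∧ R a B}).Finite := Set.toFinite _
  rw [finsum_mem_eq_finite_toFinset_sum _ hfin, ← Finset.sum_filter]
  refine Finset.sum_congr ?_ (fun _ _ => rfl)
  ext a
  simp [Set.Finite.mem_toFinset]

end Cfsg.Agent.Lib.helper7.BD
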