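import Mathlib
import Cfsg.Agent.Lib.Helper16.PGLInv3

set_option autoImplicit false
set_option linter.unusedSectionVars false
set_option linter.unusedSimpArgs false
set_option linter.unusedVariables false

namespace Cfsg.Agent.Lib.Helper16.PGLI

open Matrix Module

theorem card_classes_of_reps {G : Type*} [Group G] (P : G → Prop) (T : Type*) (rep : T → G)
    (hP : ∀ t, P (rep t)) (hsurj : ∀ g : G, P g → ∃ t, IsConj g (rep t))
    (hinj : ∀ t t', IsConj (rep t) (rep t') → t = t') :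
    Nat.card {C : ConjClasses G // ∃ g, ConjClasses.mk g = C ∧ P g} = Nat.card T := by
  symm
  apply Nat.card_eq_of_bijective (fun t => (⟨ConjClasses.mk (rep t), rep t, rfl, hP t⟩ :
    {C : ConjClasses G // ∃ g, ConjClasses.mk g = C ∧ P g}))
  constructor
  · intro t t' h
    have h1 := congrArg Subtype.val h
    exact hinj t t' (ConjClasses.mk_eq_mk_iff_isConj.mp h1)
  · rintro ⟨C, g, rfl, hg⟩
    obtain ⟨t, ht⟩ := hsurj g hg
    refine ⟨t, ?_⟩
    apply Subtype.ext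
    exact ConjClasses.mk_eq_mk_iff_isConj.mpr ht.symm

variable {F : Type*} [Field F] {n : ℕ}

theorem mem_center_iff (g : GL (Fin n) F) :
    g ∈ Subgroup.center (GL (Fin n) F) ↔ ∃ c : F, g.1 = c • 1 := by
  rw [Matrix.GeneralLinearGroup.mem_center_iff_val_mem_range_scalar]
  constructor
  · rintro ⟨c, hc⟩
    refine ⟨c, ?_⟩
    rw [← hc, Matrix.scalar_apply, Matrix.smul_one_eq_diagonal]
  · rintro ⟨c, hc⟩
    refine ⟨c, ?_⟩
    rw [hc, Matrix.scalar_apply, Matrix.smul_one_eq_diagonal]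

theorem orderOf_mk_eq_two_iff (g : GL (Fin n) F) :
    orderOf (QuotientGroup.mk g : GL (Fin n) F ⧸ Subgroup.center (GL (Fin n) F)) = 2 ↔
      (∀ c : F, g.1 ≠ c • 1) ∧ ∃ lam : F, g.1 * g.1 = lam • 1 := by
  have hp : Fact (Nat.Prime 2) := ⟨Nat.prime_two⟩
  rw [orderOf_eq_prime_iff, ← QuotientGroup.mk_pow, QuotientGroup.eq_one_iff, ne_eq,
    QuotientGroup.eq_one_iff, mem_center_iff, mem_center_iff, and_comm]
  constructor
  · rintro ⟨h1, c, hc⟩
    refine ⟨fun c hc => h1 ⟨c, hc⟩, c, ?_⟩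
    rw [← hc, sq]; rfl
  · rintro ⟨h1, c, hc⟩
    refine ⟨fun ⟨c, hc⟩ => h1 c hc, c, ?_⟩
    rw [← hc, sq]; rfl

theorem isConj_mk_iff (hn : 0 < n) (g h : GL (Fin n) F) :
    IsConj (QuotientGroup.mk g : GL (Fin n) F ⧸ Subgroup.center (GL (Fin n) F))
      (QuotientGroup.mk h) ↔
    ∃ (Q : Matrix (Fin n) (Fin n) F) (ζ : F), IsUnit Q.det ∧ ζ ≠ 0 ∧ g.1 * Q = ζ • (Q * h.1) := by
  have hnt : Nontrivial (Matrix (Fin n) (Fin n) F) := by
    have : Nonempty (Fin n) := ⟨⟨0, hn⟩⟩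
    infer_instance
  constructor
  · intro hc
    obtain ⟨cbar, hcbar⟩ := isConj_iff.mp hc
    obtain ⟨c, rfl⟩ := QuotientGroup.mk_surjective cbar
    rw [← QuotientGroup.mk_inv, ← QuotientGroup.mk_mul, ← QuotientGroup.mk_mul,
      QuotientGroup.eq, mem_center_iff] at hcbar
    obtain ⟨ζ, hζ⟩ := hcbar
    have h1 : c * g * c⁻¹ = h * ((c * g * c⁻¹)⁻¹ * h)⁻¹ := by group
    have hζ' : (((c * g * c⁻¹)⁻¹ * h)⁻¹).1 * (ζ • (1 : Matrix (Fin n) (Fin n) F)) = 1 := by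
      rw [← hζ, ← Units.val_mul, inv_mul_cancel, Units.val_one]
    have hζ0 : ζ ≠ 0 := by
      rintro rfl
      rw [zero_smul, mul_zero] at hζ'
      exact zero_ne_one hζ'
    have hζ'' : (((c * g * c⁻¹)⁻¹ * h)⁻¹).1 = ζ⁻¹ • (1 : Matrix (Fin n) (Fin n) F) := by
      have := congrArg (fun M => ζ⁻¹ • M) hζ'
      simp only [Matrix.mul_smul, mul_one, smul_smul, inv_mul_cancel₀ hζ0, one_smul] at this
      exact this
    refine ⟨(c⁻¹).1, ζ⁻¹, ?_, inv_ne_zero hζ0, ?_⟩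
    · exact (Matrix.isUnit_iff_isUnit_det _).mp (c⁻¹).isUnit
    · have h3 : g * c⁻¹ = c⁻¹ * (h * ((c * g * c⁻¹)⁻¹ * h)⁻¹) := by group
      have h4 := congrArg Units.val h3
      rw [Units.val_mul, Units.val_mul, Units.val_mul, hζ'', Matrix.mul_smul, Matrix.mul_smul,
        mul_one] at h4
      exact h4
  · rintro ⟨Q, ζ, hQ, hζ0, hgQ⟩
    obtain ⟨c, hc⟩ := (Matrix.isUnit_iff_isUnit_det _).mpr hQ
    apply isConj_iff.mpr
    refine ⟨QuotientGroup.mk c⁻¹, ?_⟩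
    rw [← QuotientGroup.mk_inv, ← QuotientGroup.mk_mul, ← QuotientGroup.mk_mul,
      QuotientGroup.eq, mem_center_iff]
    refine ⟨ζ⁻¹, ?_⟩
    have h1 : (c⁻¹ * g * c⁻¹⁻¹).1 = ζ • h.1 := by
      rw [inv_inv, Units.val_mul, Units.val_mul, mul_assoc, hc, hgQ, Matrix.mul_smul, ← mul_assoc,
        ← hc, ← Units.val_mul, inv_mul_cancel, Units.val_one, one_mul]
    have h3 : ((c⁻¹ * g * c⁻¹⁻¹)⁻¹ * h).1 * (ζ • (1 : Matrix (Fin n) (Fin n) F)) = 1 := by
      rw [Matrix.mul_smul, mul_one, Units.val_mul, ← Matrix.mul_smul, ← h1, ← Units.val_mul,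
        inv_mul_cancel, Units.val_one]
    have := congrArg (fun M => ζ⁻¹ • M) h3
    simp only [Matrix.mul_smul, mul_one, smul_smul, inv_mul_cancel₀ hζ0, one_smul] at this
    exact this

end Cfsg.Agent.Lib.Helper16.PGLI
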