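import Mathlib

set_option autoImplicit false
set_option linter.unusedSectionVars false
set_option linter.unusedSimpArgs false
set_option linter.unusedVariables false
set_option linter.unusedTactic false

namespace Cfsg.Agent.Lib.Helper16.PSemi

open Matrix Module Polynomial

section
variable {F : Type*} [Field F]

theorem card_ker_leftMulMatrix {A : Type*} [CommRing A] [Algebra F A] {n : ℕ}
    (b : Basis (Fin n) F A) (c : A) :
    Nat.card {v : Fin n → F // (Algebra.leftMulMatrix b c) *ᵥ v = 0}
      = Nat.card {y : A // c * y = 0} := by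
  symm
  apply Nat.card_congr
  refine Equiv.subtypeEquiv b.equivFun.toEquiv ?_
  intro y
  show c * y = 0 ↔ (Algebra.leftMulMatrix b c) *ᵥ (b.equivFun y) = 0
  have h1 : (Algebra.leftMulMatrix b c) *ᵥ (b.equivFun y) = b.equivFun (c * y) := by
    have := Algebra.leftMulMatrix_mulVec_repr b c y
    exact this
  rw [h1]
  constructor
  · intro h; rw [h, map_zero]
  · intro h
    exact b.equivFun.injective (h.trans (map_zero _).symm)

theorem card_ker_pi {K : Type*} [Fintype K] [DecidableEq K] {E : Type*} [Field E] [Fintype E]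
    (c : K → E) :
    Nat.card {w : K → E // c * w = 0} = Fintype.card E ^ Nat.card {s : K // c s = 0} := by
  classical
  have h1 : Nat.card {w : K → E // c * w = 0} = Nat.card (∀ s : K, {e : E // c s * e = 0}) := by
    apply Nat.card_congr
    refine (Equiv.subtypeEquivRight ?_).trans (Equiv.subtypePiEquivPi (p := fun s e => c s * e = 0))
    intro w
    constructor
    · intro h s
      exact congrFun h s
    · intro h
      funext s
      exact h s
  rw [h1, Nat.card_pi]
  have h2 : ∀ s : K, Nat.card {e : E // c s * e = 0} = if c s = 0 then Fintype.card E else 1 := by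
    intro s
    by_cases hs : c s = 0
    · rw [if_pos hs, ← Nat.card_eq_fintype_card]
      apply Nat.card_congr
      exact ⟨fun e => e.1, fun e => ⟨e, by rw [hs, zero_mul]⟩, fun e => rfl, fun e => rfl⟩
    · rw [if_neg hs]
      rw [Nat.card_eq_one_iff_unique]
      constructor
      · constructor
        intro e e'
        apply Subtype.ext
        have h3 := (mul_eq_zero.mp e.2).resolve_left hs
        have h4 := (mul_eq_zero.mp e'.2).resolve_left hs
        rw [h3, h4]
      · exact ⟨⟨0, mul_zero _⟩⟩
  simp only [h2]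
  rw [Finset.prod_ite, Finset.prod_const, Finset.prod_const_one, mul_one, Nat.card_eq_fintype_card,
    Fintype.card_subtype]

end

end Cfsg.Agent.Lib.Helper16.PSemi

namespace Cfsg.Agent.Lib.Helper16.PSemi

open Matrix Module Polynomial

section
variable {F : Type*} [Field F]

theorem exists_realization [Fintype F] {κ : Type*} [Fintype κ] [DecidableEq κ] (f : κ → F[X])
    {E : Type*} [Field E] [Algebra F E] [Fintype E] (ω : κ → E)
    (hroot : ∀ k, aeval (ω k) (f k) = 0) (hne : ∀ k k', k ≠ k' → aeval (ω k') (f k) ≠ 0)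
    (h1 : ∀ k, aeval (1 : F) (f k) ≠ 0) (r : ℕ) (hω : ∀ k, ω k ^ r = 1) (a : κ → ℕ) (n₀ n : ℕ)
    (hn : n = n₀ + (∑ k, a k) * finrank F E) :
    ∃ g : Matrix (Fin n) (Fin n) F, g ^ r = 1 ∧
      ∀ k, Nat.card {v : Fin n → F // (aeval g (f k)) *ᵥ v = 0} = Fintype.card E ^ a k := by
  classical
  obtain ⟨ξ, hξ⟩ : ∃ ξ : (Fin n₀ → F) × ((Σ k, Fin (a k)) → E), ξ = (1, fun s => ω s.1) := ⟨_, rfl⟩
  have hξr : ξ ^ r = 1 := by
    rw [hξ]
    apply Prod.ext
    · show (1 : Fin n₀ → F) ^ r = 1
      exact one_pow r
    · show (fun s : (Σ k, Fin (a k)) => ω s.1) ^ r = 1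
      funext s
      exact hω s.1
  have hfin : finrank F ((Fin n₀ → F) × ((Σ k, Fin (a k)) → E)) = n := by
    rw [Module.finrank_prod, Module.finrank_fintype_fun_eq_card, Module.finrank_pi_fintype,
      Finset.sum_const, Finset.card_univ, Fintype.card_sigma, Fintype.card_fin, hn, smul_eq_mul]
    simp only [Fintype.card_fin]
  obtain ⟨b⟩ : Nonempty (Basis (Fin n) F ((Fin n₀ → F) × ((Σ k, Fin (a k)) → E))) :=
    ⟨Module.finBasisOfFinrankEq F _ hfin⟩
  refine ⟨Algebra.leftMulMatrix b ξ, ?_, ?_⟩
  · rw [← map_pow, hξr, map_one]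
  · intro k
    rw [Polynomial.aeval_algHom_apply, card_ker_leftMulMatrix]
    obtain ⟨c, hc⟩ : ∃ c, c = aeval ξ (f k) := ⟨_, rfl⟩
    rw [← hc]
    have hc1 : ∀ j, c.1 j = aeval (1 : F) (f k) := by
      intro j
      have h3 : c.1 = aeval ξ.1 (f k) := by
        rw [hc]
        exact (Polynomial.aeval_algHom_apply (AlgHom.fst F (Fin n₀ → F) ((Σ k, Fin (a k)) → E)) ξ (f k)).symm
      rw [h3]
      have h4 := Polynomial.aeval_algHom_apply (Pi.evalAlgHom F (fun _ : Fin n₀ => F) j) ξ.1 (f k)
      have h5 : ξ.1 j = 1 := by rw [hξ]; rfl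
      rw [← h5]
      exact h4.symm
    have hc2 : ∀ s, c.2 s = aeval (ω s.1) (f k) := by
      intro s
      have h3 : c.2 = aeval ξ.2 (f k) := by
        rw [hc]
        exact (Polynomial.aeval_algHom_apply (AlgHom.snd F (Fin n₀ → F) ((Σ k, Fin (a k)) → E)) ξ (f k)).symm
      rw [h3]
      have h4 := Polynomial.aeval_algHom_apply (Pi.evalAlgHom F (fun _ : (Σ k, Fin (a k)) => E) s) ξ.2 (f k)
      have h5 : ξ.2 s = ω s.1 := by rw [hξ]
      rw [← h5]
      exact h4.symm
    have hsplit : Nat.card {y : (Fin n₀ → F) × ((Σ k, Fin (a k)) → E) // c * y = 0}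
        = Nat.card ({v : Fin n₀ → F // c.1 * v = 0} × {w : (Σ k, Fin (a k)) → E // c.2 * w = 0}) := by
      apply Nat.card_congr
      refine (Equiv.subtypeEquivRight ?_).trans (Equiv.subtypeProdEquivProd
        (p := fun v : Fin n₀ → F => c.1 * v = 0) (q := fun w : (Σ k, Fin (a k)) → E => c.2 * w = 0))
      intro y
      constructor
      · intro h
        exact ⟨congrArg Prod.fst h, congrArg Prod.snd h⟩
      · intro h
        exact Prod.ext h.1 h.2
    rw [hsplit, Nat.card_prod, card_ker_pi, card_ker_pi]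
    have hz1 : Nat.card {s : Fin n₀ // c.1 s = 0} = 0 := by
      rw [Nat.card_eq_zero]
      left
      constructor
      intro s
      exact h1 k ((hc1 s.1).symm.trans s.2)
    have hz2 : Nat.card {s : (Σ k, Fin (a k)) // c.2 s = 0} = a k := by
      have : Nat.card {s : (Σ k, Fin (a k)) // c.2 s = 0} = Nat.card (Fin (a k)) := by
        apply Nat.card_congr
        refine (Equiv.subtypeEquivRight ?_).trans (Equiv.sigmaSubtype k)
        intro s
        rw [hc2]
        constructor
        · intro h
          by_contra hne'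
          exact hne k s.1 (fun h' => hne' h'.symm) h
        · intro h
          rw [h]
          exact hroot k
      rw [this, Nat.card_eq_fintype_card, Fintype.card_fin]
    rw [hz1, hz2, pow_zero, one_mul]

end

end Cfsg.Agent.Lib.Helper16.PSemi
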