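import Mathlib

set_option autoImplicit false
set_option linter.unusedSectionVars false
set_option linter.unusedSimpArgs false
set_option linter.unusedVariables false
set_option linter.unusedTactic false

namespace Cfsg.Agent.Lib.Helper16.PSemi

open Matrix Module Polynomial

theorem card_tuples_le {κ : Type*} [Fintype κ] [DecidableEq κ] (t N : ℕ) (hκ : Fintype.card κ = t) :
    Nat.card {a : κ → ℕ // ∑ k, a k ≤ N} = (N + t).choose t := by
  classical
  have h1 : Nat.card {a : κ → ℕ // ∑ k, a k ≤ N} = Nat.card {a' : Option κ → ℕ // ∑ k, a' k = N} := by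
    apply Nat.card_congr
    refine ⟨fun a => ⟨fun o => Option.elim o (N - ∑ k, a.1 k) a.1, ?_⟩,
      fun a' => ⟨fun k => a'.1 (some k), ?_⟩, ?_, ?_⟩
    · rw [Fintype.sum_option]
      simp only [Option.elim_none, Option.elim_some]
      have := a.2
      omega
    · have h3 := a'.2
      rw [Fintype.sum_option] at h3
      show ∑ k, a'.1 (some k) ≤ N
      omega
    · intro a
      apply Subtype.ext
      funext k
      rfl
    · intro a'
      apply Subtype.ext
      funext o
      cases o with
      | none =>
        have h3 := a'.2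
        rw [Fintype.sum_option] at h3
        show N - ∑ k, a'.1 (some k) = a'.1 none
        omega
      | some k => rfl
  rw [h1, ← Nat.card_congr (Sym.equivNatSumOfFintype (Option κ) N), Nat.card_eq_fintype_card,
    Sym.card_sym_eq_choose, Fintype.card_option, hκ]
  have h2 : t + 1 + N - 1 = N + t := by omega
  rw [h2]
  exact Nat.choose_symm_add

theorem card_tuples {κ : Type*} [Fintype κ] [DecidableEq κ] (t i n : ℕ) (hi : 0 < i)
    (hκ : Fintype.card κ = t) :
    Nat.card {a : κ → ℕ // i * ∑ k, a k ≤ n ∧ a ≠ 0} = (n / i + t).choose t - 1 := by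
  classical
  rw [← card_tuples_le t (n / i) hκ]
  have hfin : Finite {a : κ → ℕ // ∑ k, a k ≤ n / i} := by
    apply Nat.finite_of_card_ne_zero
    rw [card_tuples_le t (n / i) hκ]
    exact (Nat.choose_pos (Nat.le_add_left t (n / i))).ne'
  have h1 : Nat.card {a : κ → ℕ // ∑ k, a k ≤ n / i}
      = Nat.card (Option {a : κ → ℕ // i * ∑ k, a k ≤ n ∧ a ≠ 0}) := by
    apply Nat.card_congr
    refine ⟨fun a => if h : a.1 = 0 then none else some ⟨a.1, ?_, h⟩,
      fun o => Option.elim o ⟨0, by simp⟩ (fun a => ⟨a.1, ?_⟩), ?_, ?_⟩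
    · have := a.2
      rw [Nat.le_div_iff_mul_le hi] at this
      rw [mul_comm]; exact this
    · rw [Nat.le_div_iff_mul_le hi, mul_comm]
      exact a.2.1
    · intro a
      by_cases h : a.1 = 0
      · simp only [h, dif_pos, Option.elim_none]
        apply Subtype.ext
        exact h.symm
      · simp only [h, dif_neg, not_false_eq_true, Option.elim_some]
    · intro o
      cases o with
      | none => simp
      | some a =>
        have h3 : ¬ (a.1 = 0) := a.2.2
        simp [h3]
  have hfin2 : Finite {a : κ → ℕ // i * ∑ k, a k ≤ n ∧ a ≠ 0} := by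
    have : Finite (Option {a : κ → ℕ // i * ∑ k, a k ≤ n ∧ a ≠ 0}) := by
      apply Nat.finite_of_card_ne_zero
      rw [← h1, card_tuples_le t (n / i) hκ]
      exact (Nat.choose_pos (Nat.le_add_left t (n / i))).ne'
    exact Finite.of_injective (fun a => some a) (Option.some_injective _)
  rw [h1, Finite.card_option, Nat.add_sub_cancel]

end Cfsg.Agent.Lib.Helper16.PSemi
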