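import Mathlib
import Cfsg.Agent.Lib.Helper16.PGLInv2

set_option autoImplicit false
set_option linter.unusedSectionVars false
set_option linter.unusedSimpArgs false
set_option linter.unusedVariables false
set_option linter.unusedTactic false

namespace Cfsg.Agent.Lib.Helper16.PSemi

open Matrix Module Polynomial

section
variable {F : Type*} {L : Type*} [Field F] [Field L] [Algebra F L]
  {V : Type*} [AddCommGroup V] [Module F V] {V' : Type*} [AddCommGroup V'] [Module F V']

theorem exists_twist_equiv' [FiniteDimensional F L] [FiniteDimensional F V] [FiniteDimensional F V']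
    (φ : L →ₐ[F] Module.End F V) (φ' : L →ₐ[F] Module.End F V')
    (h : finrank F V = finrank F V') :
    ∃ e : V ≃ₗ[F] V', ∀ (l : L) (v : V), e (φ l v) = φ' l (e v) := by
  have h1 := Module.finrank_mul_finrank F L (PGLI.TwistMod φ)
  have h2 := Module.finrank_mul_finrank F L (PGLI.TwistMod φ')
  have h3 : finrank F (PGLI.TwistMod φ) = finrank F (PGLI.TwistMod φ') := h
  have h4 : 0 < finrank F L := Module.finrank_pos
  have h5 : finrank L (PGLI.TwistMod φ) = finrank L (PGLI.TwistMod φ') := by
    rw [← h1, ← h2] at h3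
    exact Nat.eq_of_mul_eq_mul_left h4 h3
  have : FiniteDimensional L (PGLI.TwistMod φ) := FiniteDimensional.right F L _
  have : FiniteDimensional L (PGLI.TwistMod φ') := FiniteDimensional.right F L _
  obtain ⟨e⟩ : Nonempty (PGLI.TwistMod φ ≃ₗ[L] PGLI.TwistMod φ') :=
    ⟨LinearEquiv.ofFinrankEq _ _ h5⟩
  refine ⟨e.restrictScalars F, ?_⟩
  intro l v
  exact e.map_smul l v

theorem finrank_dvd_of_twist [FiniteDimensional F L] [FiniteDimensional F V]
    (φ : L →ₐ[F] Module.End F V) : finrank F L ∣ finrank F V := by
  have h1 := Module.finrank_mul_finrank F L (PGLI.TwistMod φ)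
  have h3 : finrank F (PGLI.TwistMod φ) = finrank F V := rfl
  rw [← h3, ← h1]
  exact dvd_mul_right _ _

end

section
variable {F : Type*} [Field F] {V : Type*} [AddCommGroup V] [Module F V]

theorem aeval_restrict (x : Module.End F V) (W : Submodule F V) (hW : ∀ w ∈ W, x w ∈ W) (p : F[X])
    (w : W) : ((aeval (x.restrict hW) p) w : V) = aeval x p (w : V) := by
  induction p using Polynomial.induction_on' with
  | add p q hp hq =>
    rw [map_add, map_add, LinearMap.add_apply, LinearMap.add_apply, Submodule.coe_add, hp, hq]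
  | monomial k c =>
    rw [aeval_monomial, aeval_monomial]
    simp only [Module.End.mul_apply, Module.algebraMap_end_apply, Submodule.coe_smul]
    congr 1
    induction k generalizing w with
    | zero => simp
    | succ k ih =>
      rw [pow_succ, pow_succ, Module.End.mul_apply, Module.End.mul_apply, ih]
      rfl

theorem ker_aeval_invariant (x : Module.End F V) (f : F[X]) :
    ∀ w ∈ LinearMap.ker (aeval x f), x w ∈ LinearMap.ker (aeval x f) := by
  intro w hw
  rw [LinearMap.mem_ker] at hw ⊢
  have h1 : aeval x f * x = x * aeval x f := by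
    have h3 : aeval x (f * X) = aeval x (X * f) := by rw [mul_comm]
    rw [map_mul, map_mul, aeval_X] at h3
    exact h3
  have h2 := LinearMap.congr_fun h1 w
  rw [Module.End.mul_apply, Module.End.mul_apply, hw, map_zero] at h2
  exact h2

theorem exists_alghom_ker (x : Module.End F V) (f : F[X]) :
    ∃ φ : AdjoinRoot f →ₐ[F] Module.End F ↥(LinearMap.ker (aeval x f)),
      ∀ w : ↥(LinearMap.ker (aeval x f)), ((φ (AdjoinRoot.root f) w : ↥(LinearMap.ker (aeval x f))) : V)
        = x (w : V) := by
  obtain ⟨y, hy⟩ : ∃ y : Module.End F ↥(LinearMap.ker (aeval x f)),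
      y = x.restrict (ker_aeval_invariant x f) := ⟨_, rfl⟩
  have hyf : aeval y f = 0 := by
    apply LinearMap.ext
    intro w
    apply Subtype.ext
    rw [hy, aeval_restrict]
    exact w.2
  have h : ∀ a : F[X], a ∈ Ideal.span {f} → aeval y a = 0 := by
    intro a ha
    obtain ⟨b, rfl⟩ := Ideal.mem_span_singleton.mp ha
    rw [map_mul, hyf, zero_mul]
  refine ⟨Ideal.Quotient.liftₐ (Ideal.span {f}) (aeval y) h, ?_⟩
  intro w
  show ((aeval y X) w : V) = x w
  rw [aeval_X, hy]
  rfl

end

end Cfsg.Agent.Lib.Helper16.PSemi
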