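import Mathlib
import Cfsg.Agent.Lib.Helper16.PSemi1

set_option autoImplicit false
set_option linter.unusedSectionVars false
set_option linter.unusedSimpArgs false
set_option linter.unusedVariables false
set_option linter.unusedTactic false

namespace Cfsg.Agent.Lib.Helper16.PSemi

open Matrix Module Polynomial

section
variable {F : Type*} [Field F] {V : Type*} [AddCommGroup V] [Module F V]
  {κ : Type*} [DecidableEq κ]

theorem ker_aeval_finprod (x : Module.End F V) (f : κ → F[X])
    (hcop : Pairwise (Function.onFun IsCoprime f)) (S : Finset κ) :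
    LinearMap.ker (aeval x (∏ k ∈ S, f k)) = ⨆ k ∈ S, LinearMap.ker (aeval x (f k)) := by
  induction S using Finset.induction_on with
  | empty =>
    simp only [Finset.prod_empty, map_one, Finset.notMem_empty, iSup_false, iSup_bot]
    exact LinearMap.ker_id
  | insert k₀ S hk₀ ih =>
    rw [Finset.prod_insert hk₀, Finset.iSup_insert, ← ih]
    symm
    apply sup_ker_aeval_eq_ker_aeval_mul_of_coprime
    apply IsCoprime.prod_right
    intro k hk
    apply hcop
    intro h
    apply hk₀
    rw [h]
    exact hk

theorem ker_isInternal [Fintype κ] (x : Module.End F V) (f : κ → F[X])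
    (hcop : Pairwise (Function.onFun IsCoprime f)) (hx : aeval x (∏ k, f k) = 0) :
    DirectSum.IsInternal (fun k => LinearMap.ker (aeval x (f k))) := by
  apply DirectSum.isInternal_submodule_of_iSupIndep_of_iSup_eq_top
  · rw [iSupIndep_def]
    intro k
    have h1 : ⨆ j, ⨆ (_ : j ≠ k), LinearMap.ker (aeval x (f j))
        = LinearMap.ker (aeval x (∏ j ∈ Finset.univ.erase k, f j)) := by
      rw [ker_aeval_finprod x f hcop]
      apply le_antisymm
      · apply iSup_le
        intro j
        apply iSup_le
        intro hj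
        exact le_iSup₂ (f := fun j (_ : j ∈ Finset.univ.erase k) => LinearMap.ker (aeval x (f j)))
          j (Finset.mem_erase.mpr ⟨hj, Finset.mem_univ j⟩)
      · apply iSup_le
        intro j
        apply iSup_le
        intro hj
        exact le_iSup₂ (f := fun j (_ : j ≠ k) => LinearMap.ker (aeval x (f j)))
          j (Finset.ne_of_mem_erase hj)
    rw [h1]
    apply disjoint_ker_aeval_of_isCoprime
    apply IsCoprime.prod_right
    intro j hj
    apply hcop
    exact (Finset.ne_of_mem_erase hj).symm
  · have h1 := ker_aeval_finprod x f hcop Finset.univ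
    rw [hx, LinearMap.ker_zero] at h1
    rw [eq_top_iff, h1]
    apply iSup_le
    intro j
    apply iSup_le
    intro _
    exact le_iSup (fun j => LinearMap.ker (aeval x (f j))) j

end

section
variable {F : Type*} [Field F] {V : Type*} [AddCommGroup V] [Module F V]
  {κ : Type*} [DecidableEq κ]

/-- glue linear equivalences along two internal direct sum decompositions. -/
theorem exists_glue (W W' : κ → Submodule F V) (hW : DirectSum.IsInternal W)
    (hW' : DirectSum.IsInternal W') (e : ∀ k, W k ≃ₗ[F] W' k) :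
    ∃ E : V ≃ₗ[F] V, ∀ k (w : W k), E (w : V) = (e k w : V) := by
  let Φ : (DirectSum κ fun k => W k) ≃ₗ[F] V := LinearEquiv.ofBijective (DirectSum.coeLinearMap W) hW
  let Φ' : (DirectSum κ fun k => W' k) ≃ₗ[F] V :=
    LinearEquiv.ofBijective (DirectSum.coeLinearMap W') hW'
  let M : (DirectSum κ fun k => W k) ≃ₗ[F] (DirectSum κ fun k => W' k) :=
    DFinsupp.mapRange.linearEquiv e
  refine ⟨Φ.symm.trans (M.trans Φ'), ?_⟩
  intro k w
  have h1 : Φ.symm (w : V) = DirectSum.of (fun k => W k) k w := by
    rw [LinearEquiv.symm_apply_eq]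
    show (w : V) = DirectSum.coeLinearMap W (DirectSum.of (fun k => W k) k w)
    rw [DirectSum.coeLinearMap_of]
  show Φ' (M (Φ.symm (w : V))) = _
  rw [h1]
  have h2 : M (DirectSum.of (fun k => W k) k w) = DirectSum.of (fun k => W' k) k (e k w) := by
    show DFinsupp.mapRange (fun k => e k) (fun k => map_zero (e k)) (DFinsupp.single k w)
      = DFinsupp.single k (e k w)
    rw [DFinsupp.mapRange_single]
  rw [h2]
  show DirectSum.coeLinearMap W' (DirectSum.of (fun k => W' k) k (e k w)) = _
  rw [DirectSum.coeLinearMap_of]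

end

end Cfsg.Agent.Lib.Helper16.PSemi

namespace Cfsg.Agent.Lib.Helper16.PSemi

open Matrix Module Polynomial

section
variable {F : Type*} [Field F] {V : Type*} [AddCommGroup V] [Module F V]
  {κ : Type*} [DecidableEq κ]

theorem conj_of_finrank_ker [Fintype κ] [FiniteDimensional F V] (f : κ → F[X])
    (hirr : ∀ k, Irreducible (f k)) (hcop : Pairwise (Function.onFun IsCoprime f))
    (x x' : Module.End F V) (hx : aeval x (∏ k, f k) = 0) (hx' : aeval x' (∏ k, f k) = 0)
    (h : ∀ k, finrank F (LinearMap.ker (aeval x (f k))) = finrank F (LinearMap.ker (aeval x' (f k)))) :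
    ∃ E : V ≃ₗ[F] V, ∀ v, E (x v) = x' (E v) := by
  have hex : ∀ k, ∃ e : ↥(LinearMap.ker (aeval x (f k))) ≃ₗ[F] ↥(LinearMap.ker (aeval x' (f k))),
      ∀ w : ↥(LinearMap.ker (aeval x (f k))),
        (e ⟨x w.1, ker_aeval_invariant x (f k) w.1 w.2⟩ : V) = x' (e w : V) := by
    intro k
    have : Fact (Irreducible (f k)) := ⟨hirr k⟩
    have : FiniteDimensional F (AdjoinRoot (f k)) := (AdjoinRoot.powerBasis (hirr k).ne_zero).finite
    obtain ⟨φ, hφ⟩ := exists_alghom_ker x (f k)
    obtain ⟨φ', hφ'⟩ := exists_alghom_ker x' (f k)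
    obtain ⟨e, he⟩ := exists_twist_equiv' φ φ' (h k)
    refine ⟨e, ?_⟩
    intro w
    have h1 := he (AdjoinRoot.root (f k)) w
    have h2 : φ (AdjoinRoot.root (f k)) w = ⟨x w.1, ker_aeval_invariant x (f k) w.1 w.2⟩ :=
      Subtype.ext (hφ w)
    rw [← h2, h1, hφ']
  choose e he using hex
  obtain ⟨E, hE⟩ := exists_glue _ _ (ker_isInternal x f hcop hx) (ker_isInternal x' f hcop hx') e
  refine ⟨E, ?_⟩
  intro v
  have hv : v ∈ ⨆ k, LinearMap.ker (aeval x (f k)) := by
    rw [(ker_isInternal x f hcop hx).submodule_iSup_eq_top]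
    exact Submodule.mem_top
  induction hv using Submodule.iSup_induction' with
  | mem k w hw =>
    have h1 := hE k ⟨x w, ker_aeval_invariant x (f k) w hw⟩
    have h2 := hE k ⟨w, hw⟩
    have h3 := he k ⟨w, hw⟩
    simp only at h1 h2 h3
    rw [h1, h3, h2]
  | zero => simp
  | add u w _ _ hu hw => rw [map_add, map_add, hu, hw, map_add, map_add]

theorem natDegree_dvd_finrank_ker [FiniteDimensional F V] (f : F[X]) (hirr : Irreducible f)
    (x : Module.End F V) : f.natDegree ∣ finrank F (LinearMap.ker (aeval x f)) := by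
  have : Fact (Irreducible f) := ⟨hirr⟩
  have : FiniteDimensional F (AdjoinRoot f) := (AdjoinRoot.powerBasis hirr.ne_zero).finite
  obtain ⟨φ, hφ⟩ := exists_alghom_ker x f
  have h1 := finrank_dvd_of_twist φ
  have h2 : finrank F (AdjoinRoot f) = f.natDegree := by
    rw [(AdjoinRoot.powerBasis hirr.ne_zero).finrank, AdjoinRoot.powerBasis_dim]
  rw [h2] at h1
  exact h1

end

end Cfsg.Agent.Lib.Helper16.PSemi
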