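import Mathlib
import Cfsg.Agent.Lib.Helper16.PSemi2

set_option autoImplicit false
set_option linter.unusedSectionVars false
set_option linter.unusedSimpArgs false
set_option linter.unusedVariables false
set_option linter.unusedTactic false

namespace Cfsg.Agent.Lib.Helper16.PSemi

open Matrix Module Polynomial

section
variable {F : Type*} [Field F] {V : Type*} [AddCommGroup V] [Module F V]
  {κ : Type*} [DecidableEq κ]

theorem sum_finrank_ker [Fintype κ] [FiniteDimensional F V] (f : κ → F[X])
    (hcop : Pairwise (Function.onFun IsCoprime f)) (x : Module.End F V)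
    (hx : aeval x (∏ k, f k) = 0) :
    ∑ k, finrank F (LinearMap.ker (aeval x (f k))) = finrank F V := by
  have hint := ker_isInternal x f hcop hx
  let bχ : ∀ k : κ, Basis (Fin (finrank F (LinearMap.ker (aeval x (f k))))) F
      (LinearMap.ker (aeval x (f k))) := fun k => Module.finBasis F _
  have h1 := Module.finrank_eq_card_basis (hint.collectedBasis bχ)
  rw [h1, Fintype.card_sigma]
  simp only [Fintype.card_fin]

end

section
variable {F : Type*} [Field F] {n : ℕ}

/-- finrank of the kernel of a polynomial in a matrix. -/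
noncomputable def kd (g : Matrix (Fin n) (Fin n) F) (P : F[X]) : ℕ :=
  finrank F (LinearMap.ker (aeval (Matrix.toLin' g) P))

theorem aeval_toLin' (g : Matrix (Fin n) (Fin n) F) (P : F[X]) :
    aeval (Matrix.toLin' g) P = Matrix.toLin' (aeval g P) := by
  have := Polynomial.aeval_algHom_apply (Matrix.toLinAlgEquiv' : Matrix (Fin n) (Fin n) F ≃ₐ[F] _).toAlgHom g P
  exact this

theorem card_ker_eq [Fintype F] (g : Matrix (Fin n) (Fin n) F) (P : F[X]) :
    Nat.card {v : Fin n → F // (aeval g P) *ᵥ v = 0} = Fintype.card F ^ kd g P := by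
  classical
  unfold kd
  rw [← Module.card_eq_pow_finrank (K := F) (V := ↥(LinearMap.ker (aeval (Matrix.toLin' g) P))),
    ← Nat.card_eq_fintype_card]
  apply Nat.card_congr
  refine Equiv.subtypeEquivRight ?_
  intro v
  rw [LinearMap.mem_ker, aeval_toLin', Matrix.toLin'_apply]

theorem kd_le (g g' Q : Matrix (Fin n) (Fin n) F) (hQ : IsUnit Q.det) (h : Q * g = g' * Q)
    (P : F[X]) : kd g P ≤ kd g' P := by
  unfold kd
  have hP : Q * aeval g P = aeval g' P * Q := by
    induction P using Polynomial.induction_on' with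
    | add p q hp hq => rw [map_add, map_add, mul_add, add_mul, hp, hq]
    | monomial k c =>
      rw [aeval_monomial, aeval_monomial]
      have hk : Q * g ^ k = g' ^ k * Q := by
        induction k with
        | zero => simp
        | succ k ih => rw [pow_succ, ← mul_assoc, ih, mul_assoc, h, ← mul_assoc, ← pow_succ]
      rw [Algebra.algebraMap_eq_smul_one, Matrix.smul_mul, one_mul, Matrix.mul_smul,
        Matrix.smul_mul, Matrix.smul_mul, one_mul, hk]
  have hmaps : ∀ v ∈ LinearMap.ker (aeval (Matrix.toLin' g) P),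
      Matrix.toLin' Q v ∈ LinearMap.ker (aeval (Matrix.toLin' g') P) := by
    intro v hv
    rw [LinearMap.mem_ker, aeval_toLin', Matrix.toLin'_apply] at hv ⊢
    rw [Matrix.toLin'_apply, Matrix.mulVec_mulVec, ← hP, ← Matrix.mulVec_mulVec, hv,
      Matrix.mulVec_zero]
  let T : ↥(LinearMap.ker (aeval (Matrix.toLin' g) P)) →ₗ[F]
      ↥(LinearMap.ker (aeval (Matrix.toLin' g') P)) :=
    LinearMap.restrict (Matrix.toLin' Q) hmaps
  apply LinearMap.finrank_le_finrank_of_injective (f := T)
  intro v w hvw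
  apply Subtype.ext
  have h1 : Matrix.toLin' Q v.1 = Matrix.toLin' Q w.1 := congrArg Subtype.val hvw
  rw [Matrix.toLin'_apply, Matrix.toLin'_apply] at h1
  exact Matrix.mulVec_injective_of_isUnit ((Matrix.isUnit_iff_isUnit_det Q).mpr hQ) h1

theorem kd_conj (g g' Q : Matrix (Fin n) (Fin n) F) (hQ : IsUnit Q.det) (h : Q * g = g' * Q)
    (P : F[X]) : kd g P = kd g' P := by
  apply le_antisymm (kd_le g g' Q hQ h P)
  obtain ⟨u, rfl⟩ := (Matrix.isUnit_iff_isUnit_det Q).mpr hQ
  apply kd_le g' g (u⁻¹).1 ((Matrix.isUnit_iff_isUnit_det _).mp (u⁻¹).isUnit)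
  have h1 : (u⁻¹).1 * (u.1 * g) * (u⁻¹).1 = (u⁻¹).1 * (g' * u.1) * (u⁻¹).1 := by rw [h]
  rw [← mul_assoc, Units.inv_mul, one_mul, mul_assoc, mul_assoc, Units.mul_inv, mul_one] at h1
  exact h1.symm

end

end Cfsg.Agent.Lib.Helper16.PSemi
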