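import Mathlib
import Cfsg.Agent.Lib.Helper16.FCR3
import Cfsg.Agent.Lib.Helper16.UReg

set_option autoImplicit false
set_option linter.unusedSectionVars false
set_option linter.unusedSimpArgs false
set_option linter.unusedVariables false
set_option linter.unusedTactic false

namespace Cfsg.Agent.Lib.Helper16.FCR

open Polynomial Matrix Cfsg.Agent.Lib.Helper16.RN

variable {K : Type*} [Field K]

theorem commute_aeval' {E : Type*} [Ring E] [Algebra K E] (a T : E) (h : Commute a T) (c : K[X]) :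
    Commute a (aeval T c) := by
  induction c using Polynomial.induction_on' with
  | add p q hp hq => rw [map_add]; exact hp.add_right hq
  | monomial k r =>
    rw [aeval_monomial]
    exact (Commute.mul_right (Algebra.commutes' r a).symm (h.pow_right k))

theorem gu_conj_iff [Fintype K] {q n : ℕ} (hK : Fintype.card K = q ^ 2) (A B : ↥(Cfsg.GU n K q)) :
    IsConj A B ↔ IsConj (A : GL (Fin n) K) (B : GL (Fin n) K) := by
  classical
  constructor
  · intro h
    obtain ⟨c, hc⟩ := isConj_iff.mp h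
    exact isConj_iff.mpr ⟨c.1, by rw [← hc]; rfl⟩
  intro h
  obtain ⟨x, hx⟩ := isConj_iff.mp h
  obtain ⟨σ, hσ⟩ := Cfsg.Agent.Lib.Lead.exists_frob hK
  have hσσ := Cfsg.Agent.Lib.Lead.frob_frob hK σ hσ
  obtain ⟨θ₀, hθ₀'⟩ := Cfsg.Agent.Lib.Lead.HI.exists_not_fixed hK
  have hθ₀ : σ θ₀ ≠ θ₀ := by rw [hσ]; exact hθ₀'
  obtain ⟨Ad, hAd⟩ : ∃ Ad, Ad = uAdj n σ hσσ := ⟨_, rfl⟩
  have hAσ : Ad.σ = σ := by rw [hAd]; rfl
  have hmem : ∀ g : GL (Fin n) K, g ∈ Cfsg.GU n K q ↔ Ad.adjU g * g = 1 := by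
    intro g
    rw [mem_GU_iff σ hσ hσσ, ← hAd]
    constructor
    · intro h1
      apply Units.ext
      rw [Units.val_mul, Ad.adjU_val, Units.val_one]
      exact h1
    · intro h1
      have := congrArg Units.val h1
      rw [Units.val_mul, Ad.adjU_val, Units.val_one] at this
      exact this
  have ha : A.1 * Ad.adjU A.1 = 1 := by
    have := (hmem A.1).mp A.2
    exact mul_eq_one_comm.mp this
  have hb : B.1 * Ad.adjU B.1 = 1 := by
    have := (hmem B.1).mp B.2
    exact mul_eq_one_comm.mp this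
  have hxa : x * A.1 = B.1 * x := by
    rw [← hx]; group
  have hgram := Ad.gram_commute A.1 B.1 x ha hb hxa
  obtain ⟨T, hT⟩ : ∃ T : GL (Fin n) K, T = Ad.adjU x * x := ⟨_, rfl⟩
  rw [← hT] at hgram
  have hTadj : Ad.adj T.1 = T.1 := by
    have := Ad.adjU_gram x
    rw [← hT] at this
    exact congrArg Units.val this
  have hkey := (key (E := Matrix (Fin n) (Fin n) K) σ hσσ θ₀ hθ₀ Ad.adj Ad.add' Ad.mul'
    (fun c a => by rw [Ad.smul', hAσ]) Ad.one' T.1 X (by rw [hTadj, aeval_X])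
    (by rw [hTadj, hTadj])).1 T.isUnit hTadj
  obtain ⟨c, hc⟩ := hkey
  obtain ⟨cm, hcm⟩ : ∃ cm, cm = aeval T.1 c := ⟨_, rfl⟩
  rw [← hcm] at hc
  have hcomm : Commute A.1.1 cm := by
    rw [hcm]
    apply commute_aeval'
    have := congrArg Units.val hgram
    rw [Units.val_mul, Units.val_mul] at this
    exact this.symm
  have hcu : IsUnit cm := by
    rw [Matrix.isUnit_iff_isUnit_det]
    have h1 : IsUnit (Ad.adj cm * cm).det := by
      rw [hc]
      exact (Matrix.isUnit_iff_isUnit_det _).mp T.isUnit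
    rw [Matrix.det_mul] at h1
    exact isUnit_of_mul_isUnit_right h1
  obtain ⟨C, hC⟩ := hcu
  have hCT : Ad.adjU C * C = T := by
    apply Units.ext
    rw [Units.val_mul, Ad.adjU_val, hC]
    exact hc
  have hCA : C * A.1 = A.1 * C := by
    apply Units.ext
    rw [Units.val_mul, Units.val_mul, hC]
    exact hcomm.eq.symm
  have hU : x * C⁻¹ ∈ Cfsg.GU n K q := by
    rw [hmem, Ad.adjU_mul, Ad.adjU_inv]
    have : (Ad.adjU C)⁻¹ * Ad.adjU x * (x * C⁻¹) = (Ad.adjU C)⁻¹ * (Ad.adjU x * x) * C⁻¹ := by group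
    rw [this, ← hT, ← hCT]
    group
  apply isConj_iff.mpr
  refine ⟨⟨x * C⁻¹, hU⟩, ?_⟩
  apply Subtype.ext
  show x * C⁻¹ * A.1 * (x * C⁻¹)⁻¹ = B.1
  have h1 : C⁻¹ * A.1 = A.1 * C⁻¹ := by
    rw [inv_mul_eq_iff_eq_mul, ← mul_assoc, hCA, mul_assoc, mul_inv_cancel, mul_one]
  rw [← hx, _root_.mul_inv_rev, inv_inv, mul_assoc x, h1]
  group

end Cfsg.Agent.Lib.Helper16.FCR
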