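import Mathlib
import Cfsg.Agent.Lib.Helper16.GUConj
import Cfsg.Agent.Lib.Helper16.UExist

set_option autoImplicit false
set_option linter.unusedSectionVars false
set_option linter.unusedSimpArgs false
set_option linter.unusedVariables false
set_option linter.unusedTactic false

namespace Cfsg.Agent.Lib.Helper16.FCR

open Polynomial Matrix Cfsg.Agent.Lib.Helper16.RN

variable {K : Type*} [Field K]

theorem exists_herm_intertwiner [Fintype K] {n : ℕ} (σ : K →+* K) (hσσ : ∀ a, σ (σ a) = a)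
    (θ₀ : K) (hθ₀ : σ θ₀ ≠ θ₀) (Ad : AdjData (Fin n) K) (hAσ : Ad.σ = σ)
    (A P : GL (Fin n) K) (hP : Ad.adjU A * P * A = P) :
    ∃ H : GL (Fin n) K, Ad.adjU H = H ∧ Ad.adjU A * H * A = H := by
  classical
  obtain ⟨dag, hdag⟩ : ∃ dag : Matrix (Fin n) (Fin n) K → Matrix (Fin n) (Fin n) K,
      ∀ c, dag c = P⁻¹.1 * Ad.adj c * P.1 := ⟨_, fun c => rfl⟩
  have hPP : P.1 * P⁻¹.1 = 1 := by rw [← Units.val_mul, mul_inv_cancel, Units.val_one]
  have hPP' : P⁻¹.1 * P.1 = 1 := by rw [← Units.val_mul, inv_mul_cancel, Units.val_one]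
  have hadd : ∀ a b, dag (a + b) = dag a + dag b := by
    intro a b
    rw [hdag, hdag, hdag, Ad.add', mul_add, add_mul]
  have hmul : ∀ a b, dag (a * b) = dag b * dag a := by
    intro a b
    rw [hdag, hdag, hdag, Ad.mul']
    calc P⁻¹.1 * (Ad.adj b * Ad.adj a) * P.1
        = P⁻¹.1 * Ad.adj b * 1 * Ad.adj a * P.1 := by rw [mul_one]; simp only [mul_assoc]
      _ = _ := by rw [← hPP]; simp only [mul_assoc]
  have hsmul : ∀ (c : K) a, dag (c • a) = σ c • dag a := by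
    intro c a
    rw [hdag, hdag, Ad.smul', hAσ, Matrix.mul_smul, Matrix.smul_mul]
  have hone : dag 1 = 1 := by rw [hdag, Ad.one', mul_one, hPP']
  obtain ⟨T, hT⟩ : ∃ T : GL (Fin n) K, T = P⁻¹ * Ad.adjU P := ⟨_, rfl⟩
  have hdagU : ∀ u : GL (Fin n) K, dag u.1 = (P⁻¹ * Ad.adjU u * P).1 := by
    intro u
    rw [hdag, Units.val_mul, Units.val_mul, Ad.adjU_val]
  have hTdag : dag T.1 = T⁻¹.1 := by
    rw [hdagU]
    congr 1
    rw [hT, Ad.adjU_mul, Ad.adjU_adjU, Ad.adjU_inv]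
    group
  have hTinvdag : dag T⁻¹.1 = T.1 := by
    rw [hdagU]
    congr 1
    rw [hT, Ad.adjU_inv, Ad.adjU_mul, Ad.adjU_adjU, Ad.adjU_inv]
    group
  obtain ⟨k, hk, hpow⟩ : ∃ k, 1 ≤ k ∧ T ^ k = 1 :=
    ⟨orderOf T, (isOfFinOrder_of_finite T).orderOf_pos, pow_orderOf_eq_one T⟩
  obtain ⟨s, rfl⟩ : ∃ s, k = s + 1 := ⟨k - 1, by omega⟩
  have hTinv : T⁻¹ = T ^ s := by
    rw [inv_eq_iff_eq_inv, eq_inv_iff_mul_eq_one, ← pow_succ', hpow]
  have hkey := (key (E := Matrix (Fin n) (Fin n) K) σ hσσ θ₀ hθ₀ dag hadd hmul hsmul hone T.1 (X ^ s)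
    (by rw [hTdag, hTinv, map_pow, aeval_X, Units.val_pow_eq_pow_val])
    (by rw [hTdag, hTinvdag])).2
    (by rw [hTdag, ← Units.val_mul, inv_mul_cancel, Units.val_one])
  obtain ⟨c, hcu, hc⟩ := hkey
  obtain ⟨C, hC⟩ := hcu
  -- T commutes with A
  have hP' : Ad.adjU A * Ad.adjU P * A = Ad.adjU P := by
    have := congrArg Ad.adjU hP
    rw [Ad.adjU_mul, Ad.adjU_mul, Ad.adjU_adjU, ← mul_assoc] at this
    exact this
  have hTA : T * A = A * T := by
    rw [hT]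
    have h1 : P * A = (Ad.adjU A)⁻¹ * P := by
      rw [eq_inv_mul_iff_mul_eq, ← mul_assoc]; exact hP
    have h2 : Ad.adjU P * A = (Ad.adjU A)⁻¹ * Ad.adjU P := by
      rw [eq_inv_mul_iff_mul_eq, ← mul_assoc]; exact hP'
    have h3 : A = P⁻¹ * (Ad.adjU A)⁻¹ * P := by
      rw [mul_assoc, ← h1]; group
    calc P⁻¹ * Ad.adjU P * A = P⁻¹ * ((Ad.adjU A)⁻¹ * Ad.adjU P) := by rw [mul_assoc, h2]
      _ = (P⁻¹ * (Ad.adjU A)⁻¹ * P) * (P⁻¹ * Ad.adjU P) := by group
      _ = A * (P⁻¹ * Ad.adjU P) := by rw [← h3]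
  have hCA : C * A = A * C := by
    apply Units.ext
    rw [Units.val_mul, Units.val_mul, hC]
    have h1 : Commute A.1 T.1 := by
      have := congrArg Units.val hTA
      rw [Units.val_mul, Units.val_mul] at this
      exact this.symm
    exact (commute_aeval' A.1 T.1 h1 c).eq.symm
  -- dag C commutes with T
  have hdc : dag C.1 * T.1 = C.1 := by
    rw [hC]
    conv_rhs => rw [← hc]
    have h1 : dag (aeval T.1 c) = aeval (dag T.1) (c.map σ) := adj_aeval σ dag hadd hmul hsmul hone T.1 c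
    rw [h1]
    have h2 : Commute T.1 (dag T.1) := by
      rw [hTdag]
      show T.1 * T⁻¹.1 = T⁻¹.1 * T.1
      rw [← Units.val_mul, ← Units.val_mul, mul_inv_cancel, inv_mul_cancel]
    exact (commute_aeval' T.1 (dag T.1) h2 (c.map σ)).eq.symm
  have hdcU : P⁻¹ * Ad.adjU C * P * T = C := by
    apply Units.ext
    rw [Units.val_mul, ← hdagU]
    exact hdc
  refine ⟨P * C, ?_, ?_⟩
  · rw [Ad.adjU_mul]
    have : Ad.adjU C * Ad.adjU P = P * (P⁻¹ * Ad.adjU C * P * T) := by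
      rw [hT]; group
    rw [this, hdcU]
  · calc Ad.adjU A * (P * C) * A = Ad.adjU A * P * (C * A) := by group
      _ = Ad.adjU A * P * A * C := by rw [hCA]; group
      _ = P * C := by rw [hP]

end Cfsg.Agent.Lib.Helper16.FCR
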