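import Mathlib
import Cfsg.Agent.Lib.Helper16.GUDual1

set_option autoImplicit false
set_option linter.unusedSectionVars false
set_option linter.unusedSimpArgs false
set_option linter.unusedVariables false
set_option linter.unusedTactic false

namespace Cfsg.Agent.Lib.Helper16.FCR

open Polynomial Matrix Cfsg.Agent.Lib.Helper16.RN

variable {K : Type*} [Field K]

theorem gu_data [Fintype K] {q : ℕ} (n : ℕ) (hK : Fintype.card K = q ^ 2) :
    ∃ (σ : K →+* K) (Ad : AdjData (Fin n) K) (θ₀ : K), (∀ x, σ x = x ^ q) ∧ (∀ x, σ (σ x) = x) ∧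
      σ θ₀ ≠ θ₀ ∧ Ad.σ = σ ∧ (∀ a, Ad.adj a = (a.map σ)ᵀ) ∧
      (∀ g : GL (Fin n) K, g ∈ Cfsg.GU n K q ↔ Ad.adjU g * g = 1) := by
  classical
  obtain ⟨σ, hσ⟩ := Cfsg.Agent.Lib.Lead.exists_frob hK
  have hσσ := Cfsg.Agent.Lib.Lead.frob_frob hK σ hσ
  obtain ⟨θ₀, hθ₀'⟩ := Cfsg.Agent.Lib.Lead.HI.exists_not_fixed hK
  have hθ₀ : σ θ₀ ≠ θ₀ := by rw [hσ]; exact hθ₀'
  refine ⟨σ, uAdj n σ hσσ, θ₀, hσ, hσσ, hθ₀, rfl, fun a => rfl, ?_⟩
  intro g
  rw [mem_GU_iff σ hσ hσσ]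
  constructor
  · intro h1
    apply Units.ext
    rw [Units.val_mul, AdjData.adjU_val, Units.val_one]
    exact h1
  · intro h1
    have := congrArg Units.val h1
    rw [Units.val_mul, AdjData.adjU_val, Units.val_one] at this
    exact this

theorem gu_conj_iff_self_dual [Fintype K] {q n : ℕ} (hK : Fintype.card K = q ^ 2) (A : GL (Fin n) K) :
    (∃ B : ↥(Cfsg.GU n K q), IsConj A (B : GL (Fin n) K)) ↔
      IsConj (A : Matrix (Fin n) (Fin n) K)
        (((A : Matrix (Fin n) (Fin n) K).map (fun x : K => x ^ q)).transpose)⁻¹ := by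
  classical
  obtain ⟨σ, Ad, θ₀, hσ, hσσ, hθ₀, hAσ, hAdj, hmem⟩ := gu_data n hK
  have hrhs : (((A : Matrix (Fin n) (Fin n) K).map (fun x : K => x ^ q)).transpose)⁻¹
      = ((Ad.adjU A)⁻¹).1 := by
    rw [Matrix.coe_units_inv, Ad.adjU_val, hAdj]
    congr 2
    ext i j
    simp only [Matrix.map_apply, hσ]
  rw [hrhs]
  constructor
  · rintro ⟨B, hB⟩
    obtain ⟨c, hc⟩ := isConj_iff.mp hB
    have hB1 := (hmem B.1).mp B.2
    rw [← hc] at hB1
    refine ⟨Ad.adjU c * c, ?_⟩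
    show (Ad.adjU c * c).1 * A.1 = ((Ad.adjU A)⁻¹).1 * (Ad.adjU c * c).1
    rw [← Units.val_mul, ← Units.val_mul]
    congr 1
    rw [eq_inv_mul_iff_mul_eq]
    rw [Ad.adjU_mul, Ad.adjU_mul, Ad.adjU_inv] at hB1
    have h2 : Ad.adjU A * (Ad.adjU c * c * A) = Ad.adjU c * ((Ad.adjU c)⁻¹ * (Ad.adjU A * Ad.adjU c) * (c * A * c⁻¹)) * c := by
      group
    rw [h2, hB1, mul_one]
  · rintro ⟨c, hc⟩
    have hc' : c * A = (Ad.adjU A)⁻¹ * c := by
      apply Units.ext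
      rw [Units.val_mul, Units.val_mul]
      exact hc
    have hP : Ad.adjU A * c * A = c := by
      rw [mul_assoc, hc']; group
    obtain ⟨H, hH1, hH2⟩ := exists_herm_intertwiner σ hσσ θ₀ hθ₀ Ad hAσ A c hP
    have hσne : σ ≠ RingHom.id K := by
      intro h
      apply hθ₀
      rw [h]; rfl
    have hHh : (H.1.map σ)ᵀ = H.1 := by
      rw [← hAdj, ← Ad.adjU_val, hH1]
    obtain ⟨Q, hQ⟩ := exists_herm_congr σ hσne hσσ H.1 hHh H.isUnit
    rw [← hAdj] at hQ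
    have hQu : IsUnit Q := by
      rw [Matrix.isUnit_iff_isUnit_det]
      have h1 : IsUnit (Ad.adj Q * H.1 * Q).det := by rw [hQ, Matrix.det_one]; exact isUnit_one
      rw [Matrix.det_mul] at h1
      exact isUnit_of_mul_isUnit_right h1
    obtain ⟨QU, hQU⟩ := hQu
    have hQ' : Ad.adjU QU * H * QU = 1 := by
      apply Units.ext
      rw [Units.val_mul, Units.val_mul, Ad.adjU_val, hQU, Units.val_one]
      exact hQ
    have hHS : H = Ad.adjU QU⁻¹ * QU⁻¹ := by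
      rw [Ad.adjU_inv]
      have : H = (Ad.adjU QU)⁻¹ * (Ad.adjU QU * H * QU) * QU⁻¹ := by group
      rw [this, hQ', mul_one]
    have hBmem : QU⁻¹ * A * QU ∈ Cfsg.GU n K q := by
      rw [hmem, Ad.adjU_mul, Ad.adjU_mul]
      have : Ad.adjU QU * (Ad.adjU A * Ad.adjU QU⁻¹) * (QU⁻¹ * A * QU)
          = Ad.adjU QU * (Ad.adjU A * (Ad.adjU QU⁻¹ * QU⁻¹) * A) * QU := by group
      rw [this, ← hHS, hH2, hQ']
    refine ⟨⟨QU⁻¹ * A * QU, hBmem⟩, ?_⟩
    apply isConj_iff.mpr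
    refine ⟨QU⁻¹, ?_⟩
    rw [inv_inv]

end Cfsg.Agent.Lib.Helper16.FCR
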