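import Mathlib

set_option autoImplicit false
set_option linter.unusedSectionVars false
set_option linter.unusedSimpArgs false
set_option linter.unusedVariables false
set_option linter.unusedTactic false

namespace Cfsg.Agent.Lib.Helper16.PJord

open Matrix Module Polynomial

variable {F : Type*} [Field F]

theorem X_pow_dvd_mul_iff (a b : ℕ) (g : F[X]) : (X : F[X]) ^ (a + b) ∣ X ^ a * g ↔ X ^ b ∣ g := by
  rw [pow_add]
  exact mul_dvd_mul_iff_left (pow_ne_zero a X_ne_zero)

/-- number of elements of `F[X]/(X^d)` killed by `X^j`, `j ≤ d`. -/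
theorem card_ker_le [Fintype F] (d j : ℕ) (hj : j ≤ d) :
    Nat.card {y : F[X] ⧸ Ideal.span {(X : F[X]) ^ d} //
      Ideal.Quotient.mk (Ideal.span {(X : F[X]) ^ d}) (X ^ j) * y = 0} = Fintype.card F ^ j := by
  classical
  obtain ⟨c, hc⟩ : ∃ c, d = c + j := ⟨d - j, by omega⟩
  have h1 : Nat.card ↥(degreeLT F j) = Fintype.card F ^ j := by
    rw [Nat.card_congr (degreeLTEquiv F j).toEquiv, Nat.card_fun, Nat.card_eq_fintype_card,
      Nat.card_eq_fintype_card, Fintype.card_fin]
  rw [← h1]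
  symm
  apply Nat.card_congr
  refine Equiv.ofBijective (fun h => ⟨Ideal.Quotient.mk _ (X ^ c * h.1), ?_⟩) ⟨?_, ?_⟩
  · rw [← map_mul, Ideal.Quotient.eq_zero_iff_mem, Ideal.mem_span_singleton, hc, ← mul_assoc,
      ← pow_add, add_comm j c]
    exact dvd_mul_right _ _
  · intro h h' hh
    have h2 := congrArg Subtype.val hh
    simp only at h2
    rw [Ideal.Quotient.eq, Ideal.mem_span_singleton, ← mul_sub, hc, X_pow_dvd_mul_iff] at h2
    have h3 : (h.1 - h'.1) ∈ degreeLT F j := Submodule.sub_mem _ h.2 h'.2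
    rw [mem_degreeLT] at h3
    apply Subtype.ext
    by_contra hne
    have hne' : h.1 - h'.1 ≠ 0 := sub_ne_zero.mpr hne
    have h4 := degree_le_of_dvd h2 hne'
    rw [degree_X_pow] at h4
    exact absurd h3 (not_lt.mpr h4)
  · rintro ⟨y, hy⟩
    obtain ⟨g, rfl⟩ := Ideal.Quotient.mk_surjective y
    rw [← map_mul, Ideal.Quotient.eq_zero_iff_mem, Ideal.mem_span_singleton, hc, add_comm c j,
      X_pow_dvd_mul_iff] at hy
    obtain ⟨h₀, rfl⟩ := hy
    refine ⟨⟨h₀ %ₘ X ^ j, ?_⟩, ?_⟩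
    · rw [mem_degreeLT]
      calc (h₀ %ₘ X ^ j).degree < (X ^ j : F[X]).degree := degree_modByMonic_lt _ (monic_X_pow j)
        _ = j := degree_X_pow j
    · apply Subtype.ext
      show Ideal.Quotient.mk _ (X ^ c * (h₀ %ₘ X ^ j)) = Ideal.Quotient.mk _ (X ^ c * h₀)
      rw [Ideal.Quotient.eq, Ideal.mem_span_singleton, ← mul_sub, hc, X_pow_dvd_mul_iff]
      exact dvd_modByMonic_sub h₀ (X ^ j)

theorem card_ker [Fintype F] (d j : ℕ) :
    Nat.card {y : F[X] ⧸ Ideal.span {(X : F[X]) ^ d} //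
      Ideal.Quotient.mk (Ideal.span {(X : F[X]) ^ d}) (X ^ j) * y = 0} = Fintype.card F ^ (min j d) := by
  rcases le_total j d with h | h
  · rw [min_eq_left h]
    exact card_ker_le d j h
  · rw [min_eq_right h, ← card_ker_le d d le_rfl]
    apply Nat.card_congr
    refine Equiv.subtypeEquivRight ?_
    intro y
    have h0 : Ideal.Quotient.mk (Ideal.span {(X : F[X]) ^ d}) (X ^ d) = 0 := by
      rw [Ideal.Quotient.eq_zero_iff_mem]
      exact Ideal.mem_span_singleton_self _
    obtain ⟨c, rfl⟩ : ∃ c, j = d + c := ⟨j - d, by omega⟩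
    constructor
    · intro _
      rw [h0, zero_mul]
    · intro _
      rw [pow_add, map_mul, h0, zero_mul, zero_mul]

end Cfsg.Agent.Lib.Helper16.PJord
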