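import Mathlib
import Cfsg.Agent.Lib.Helper16.PJord1
import Cfsg.Agent.Lib.Helper16.PSemi3

set_option autoImplicit false
set_option linter.unusedSectionVars false
set_option linter.unusedSimpArgs false
set_option linter.unusedVariables false
set_option linter.unusedTactic false

namespace Cfsg.Agent.Lib.Helper16.PJord

open Matrix Module Polynomial

variable {F : Type*} [Field F]

theorem finrank_quot (d : ℕ) : finrank F (F[X] ⧸ Ideal.span {(X : F[X]) ^ d}) = d := by
  have hmonic : ((X : F[X]) ^ d).Monic := monic_X_pow d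
  have h1 := (AdjoinRoot.powerBasis' hmonic).finrank
  rw [AdjoinRoot.powerBasis'_dim, natDegree_X_pow] at h1
  exact h1

theorem finite_quot (d : ℕ) : Module.Finite F (F[X] ⧸ Ideal.span {(X : F[X]) ^ d}) :=
  (AdjoinRoot.powerBasis' (monic_X_pow d)).finite

theorem exists_realization_nilp [Fintype F] {t : ℕ} (d : Fin t → ℕ) (n : ℕ) (hn : n = ∑ i, d i) :
    ∃ N : Matrix (Fin n) (Fin n) F,
      (∀ j, Nat.card {v : Fin n → F // (N ^ j) *ᵥ v = 0} = Fintype.card F ^ (∑ i, min j (d i))) ∧
      (∀ m, (∀ i, d i ≤ m) → N ^ m = 0) ∧ ((∃ i, 2 ≤ d i) → N ≠ 0) := by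
  classical
  have hfin : ∀ i, Module.Finite F (F[X] ⧸ Ideal.span {(X : F[X]) ^ d i}) := fun i => finite_quot (d i)
  obtain ⟨ξ, hξ⟩ : ∃ ξ : ∀ i : Fin t, (F[X] ⧸ Ideal.span {(X : F[X]) ^ d i}),
      ξ = fun i => Ideal.Quotient.mk _ X := ⟨_, rfl⟩
  have hrank : finrank F (∀ i : Fin t, (F[X] ⧸ Ideal.span {(X : F[X]) ^ d i})) = n := by
    rw [Module.finrank_pi_fintype, hn]
    exact Finset.sum_congr rfl (fun i _ => finrank_quot (d i))
  obtain ⟨b⟩ : Nonempty (Basis (Fin n) F (∀ i : Fin t, (F[X] ⧸ Ideal.span {(X : F[X]) ^ d i}))) :=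
    ⟨Module.finBasisOfFinrankEq F _ hrank⟩
  refine ⟨Algebra.leftMulMatrix b ξ, ?_, ?_, ?_⟩
  · intro j
    rw [← map_pow, PSemi.card_ker_leftMulMatrix]
    have h1 : Nat.card {y : (∀ i : Fin t, (F[X] ⧸ Ideal.span {(X : F[X]) ^ d i})) // ξ ^ j * y = 0}
        = Nat.card (∀ i : Fin t, {y : F[X] ⧸ Ideal.span {(X : F[X]) ^ d i} //
            Ideal.Quotient.mk (Ideal.span {(X : F[X]) ^ d i}) (X ^ j) * y = 0}) := by
      apply Nat.card_congr
      refine (Equiv.subtypeEquivRight ?_).trans (Equiv.subtypePiEquivPi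
        (p := fun i (y : F[X] ⧸ Ideal.span {(X : F[X]) ^ d i}) =>
          Ideal.Quotient.mk (Ideal.span {(X : F[X]) ^ d i}) (X ^ j) * y = 0))
      intro y
      constructor
      · intro h i
        have := congrFun h i
        rw [hξ] at this
        simp only [Pi.mul_apply, Pi.pow_apply, Pi.zero_apply] at this
        rw [map_pow]
        exact this
      · intro h
        funext i
        rw [hξ]
        simp only [Pi.mul_apply, Pi.pow_apply, Pi.zero_apply]
        rw [← map_pow]
        exact h i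
    rw [h1, Nat.card_pi]
    simp only [card_ker]
    rw [Finset.prod_pow_eq_pow_sum]
  · intro m hm
    have h1 : ξ ^ m = 0 := by
      funext i
      rw [hξ]
      simp only [Pi.pow_apply, Pi.zero_apply]
      rw [← map_pow, Ideal.Quotient.eq_zero_iff_mem, Ideal.mem_span_singleton]
      exact pow_dvd_pow X (hm i)
    rw [← map_pow, h1, map_zero]
  · rintro ⟨i, hi⟩ h0
    have h1 : ξ = 0 := by
      apply Algebra.leftMulMatrix_injective b
      rw [h0, map_zero]
    have h2 := congrFun h1 i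
    rw [hξ] at h2
    simp only [Pi.zero_apply] at h2
    rw [Ideal.Quotient.eq_zero_iff_mem, Ideal.mem_span_singleton] at h2
    have h3 := degree_le_of_dvd h2 X_ne_zero
    rw [degree_X_pow, degree_X] at h3
    have : (d i : WithBot ℕ) ≤ 1 := h3
    have h4 : d i ≤ 1 := by exact_mod_cast this
    omega

end Cfsg.Agent.Lib.Helper16.PJord
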