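import Mathlib

set_option autoImplicit false
set_option linter.unusedSectionVars false
set_option linter.unusedSimpArgs false
set_option linter.unusedVariables false
set_option linter.unusedTactic false

namespace Cfsg.Agent.Lib.Helper16.PJord

open Matrix Module Polynomial

theorem sum_min_succ {ι : Type*} [Fintype ι] (d : ι → ℕ) (j : ℕ) :
    ∑ i, min (j + 1) (d i) = ∑ i, min j (d i) + Nat.card {i // j + 1 ≤ d i} := by
  classical
  rw [Nat.card_eq_fintype_card, Fintype.card_subtype, Finset.card_filter, ← Finset.sum_add_distrib]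
  apply Finset.sum_congr rfl
  intro i _
  by_cases h : j + 1 ≤ d i
  · rw [if_pos h, min_eq_left h, min_eq_left (by omega)]
  · rw [if_neg h, min_eq_right (by omega), min_eq_right (by omega), add_zero]

theorem card_ge_eq {ι ι' : Type*} [Fintype ι] [Fintype ι'] (d : ι → ℕ) (d' : ι' → ℕ)
    (h : ∀ j, ∑ i, min j (d i) = ∑ i, min j (d' i)) (s : ℕ) :
    Nat.card {i // s + 1 ≤ d i} = Nat.card {i // s + 1 ≤ d' i} := by
  have h1 := sum_min_succ d s
  have h2 := sum_min_succ d' s
  have h3 := h s
  have h4 := h (s + 1)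
  omega

theorem card_ge_split {κ : Type*} [Fintype κ] (e : κ → ℕ) (s' : ℕ) :
    Nat.card {i // s' + 1 ≤ e i} = Nat.card {i // e i = s' + 1} + Nat.card {i // s' + 1 + 1 ≤ e i} := by
  classical
  rw [Nat.card_eq_fintype_card, Nat.card_eq_fintype_card, Nat.card_eq_fintype_card,
    Fintype.card_subtype, Fintype.card_subtype, Fintype.card_subtype,
    ← Finset.card_union_of_disjoint]
  · congr 1
    ext i
    simp only [Finset.mem_filter, Finset.mem_univ, true_and, Finset.mem_union]
    omega
  · rw [Finset.disjoint_filter]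
    intro i _ h1 h2
    omega

theorem card_eq_eq {ι ι' : Type*} [Fintype ι] [Fintype ι'] (d : ι → ℕ) (d' : ι' → ℕ)
    (h : ∀ j, ∑ i, min j (d i) = ∑ i, min j (d' i)) (s : ℕ) (hs : 1 ≤ s) :
    Nat.card {i // d i = s} = Nat.card {i // d' i = s} := by
  classical
  obtain ⟨s', rfl⟩ : ∃ s', s = s' + 1 := ⟨s - 1, by omega⟩
  have h1 := card_ge_split d s'
  have h2 := card_ge_split d' s'
  have h3 := card_ge_eq d d' h s'
  have h4 := card_ge_eq d d' h (s' + 1)
  omega

end Cfsg.Agent.Lib.Helper16.PJord
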