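import Mathlib
import Cfsg.Agent.Lib.Helper16.PJord1
import Cfsg.Agent.Lib.Helper16.PJord2
import Cfsg.Agent.Lib.Helper16.PJord3

set_option autoImplicit false
set_option linter.unusedSectionVars false
set_option linter.unusedSimpArgs false
set_option linter.unusedVariables false
set_option linter.unusedTactic false

namespace Cfsg.Agent.Lib.Helper16.PJord

open Matrix Module Polynomial DirectSum

variable {F : Type*} [Field F]

theorem smul_quot' (g : F[X]) (r : F[X]) (y : F[X] ⧸ (F[X] ∙ g)) :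
    r • y = Ideal.Quotient.mk (F[X] ∙ g) r * y := by
  obtain ⟨a, rfl⟩ := Submodule.Quotient.mk_surjective _ y
  rw [← Submodule.Quotient.mk_smul, smul_eq_mul]
  rfl

theorem X_pow_smul_of {V : Type*} [AddCommGroup V] [Module F V] (f : V →ₗ[F] V) (j : ℕ) (v : V) :
    (X : F[X]) ^ j • Module.AEval'.of f v = Module.AEval'.of f ((f ^ j) v) := by
  induction j generalizing v with
  | zero => simp
  | succ j ih =>
    rw [pow_succ, mul_smul, Module.AEval'.X_smul_of, ih, ← Module.End.mul_apply, ← pow_succ]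

theorem exists_decomp {V : Type*} [AddCommGroup V] [Module F V] [FiniteDimensional F V]
    (f : V →ₗ[F] V) (m : ℕ) (hf : f ^ m = 0) :
    ∃ (t : ℕ) (k : Fin t → ℕ),
      Nonempty (Module.AEval' f ≃ₗ[F[X]] ⨁ i : Fin t, F[X] ⧸ (F[X] ∙ (X : F[X]) ^ k i)) := by
  have hM : Module.IsTorsion' (Module.AEval' f) (Submonoid.powers (X : F[X])) := by
    intro x
    refine ⟨⟨X ^ m, m, rfl⟩, ?_⟩
    obtain ⟨v, rfl⟩ := (Module.AEval'.of f).surjective x
    show (X : F[X]) ^ m • Module.AEval'.of f v = 0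
    rw [X_pow_smul_of, hf, LinearMap.zero_apply, map_zero]
  exact Module.torsion_by_prime_power_decomposition irreducible_X hM

theorem card_ker_of_decomp [Fintype F] {V : Type*} [AddCommGroup V] [Module F V]
    (f : V →ₗ[F] V) {t : ℕ} (k : Fin t → ℕ)
    (Φ : Module.AEval' f ≃ₗ[F[X]] ⨁ i : Fin t, F[X] ⧸ (F[X] ∙ (X : F[X]) ^ k i)) (j : ℕ) :
    Nat.card {v : V // (f ^ j) v = 0} = Fintype.card F ^ ∑ i, min j (k i) := by
  classical
  let L := DirectSum.linearEquivFunOnFintype F[X] (Fin t) (fun i => F[X] ⧸ (F[X] ∙ (X : F[X]) ^ k i))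
  let Ψ : V ≃ (∀ i : Fin t, F[X] ⧸ (F[X] ∙ (X : F[X]) ^ k i)) :=
    (Module.AEval'.of f).toEquiv.trans (Φ.toEquiv.trans L.toEquiv)
  have hΨ : ∀ v, Ψ v = L (Φ (Module.AEval'.of f v)) := fun v => rfl
  have key : ∀ v, (f ^ j) v = 0 ↔ ∀ i, Ideal.Quotient.mk (Ideal.span {(X : F[X]) ^ k i}) (X ^ j) * Ψ v i = 0 := by
    intro v
    have h1 : (f ^ j) v = 0 ↔ L (Φ (Module.AEval'.of f ((f ^ j) v))) = 0 := by
      rw [LinearEquiv.map_eq_zero_iff, LinearEquiv.map_eq_zero_iff, LinearEquiv.map_eq_zero_iff]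
    rw [h1, ← X_pow_smul_of, map_smul, map_smul, ← hΨ]
    constructor
    · intro h i
      have := congrFun h i
      rw [Pi.smul_apply, smul_quot'] at this
      exact this
    · intro h
      funext i
      rw [Pi.smul_apply, smul_quot']
      exact h i
  have h2 : Nat.card {v : V // (f ^ j) v = 0} = Nat.card (∀ i : Fin t,
      {y : F[X] ⧸ Ideal.span {(X : F[X]) ^ k i} //
        Ideal.Quotient.mk (Ideal.span {(X : F[X]) ^ k i}) (X ^ j) * y = 0}) := by
    apply Nat.card_congr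
    exact (Equiv.subtypeEquiv Ψ key).trans (Equiv.subtypePiEquivPi
        (p := fun i (y : F[X] ⧸ Ideal.span {(X : F[X]) ^ k i}) =>
          Ideal.Quotient.mk (Ideal.span {(X : F[X]) ^ k i}) (X ^ j) * y = 0))
  rw [h2, Nat.card_pi]
  simp only [card_ker]
  rw [Finset.prod_pow_eq_pow_sum]

theorem conj_of_iso {V : Type*} [AddCommGroup V] [Module F V] (f f' : V →ₗ[F] V)
    (Φ : Module.AEval' f ≃ₗ[F[X]] Module.AEval' f') :
    ∃ P : V ≃ₗ[F] V, ∀ v, P (f v) = f' (P v) := by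
  refine ⟨(Module.AEval'.of f).trans ((Φ.restrictScalars F).trans (Module.AEval'.of f').symm), ?_⟩
  intro v
  simp only [LinearEquiv.trans_apply, LinearEquiv.restrictScalars_apply]
  rw [← Module.AEval'.X_smul_of, map_smul, Module.AEval'.of_symm_X_smul]

theorem exists_equiv_of_fiber_card {α β γ : Type*} [Finite α] [Finite β] (f : α → γ) (g : β → γ)
    (h : ∀ c, Nat.card {a // f a = c} = Nat.card {b // g b = c}) :
    ∃ σ : α ≃ β, ∀ a, g (σ a) = f a := by
  have h1 : ∀ c, Nonempty ({a // f a = c} ≃ {b // g b = c}) := fun c => Finite.card_eq.mp (h c)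
  choose e _ using fun c => (⟨(h1 c).some, trivial⟩ : ∃ _ : {a // f a = c} ≃ {b // g b = c}, True)
  refine ⟨(Equiv.sigmaFiberEquiv f).symm.trans ((Equiv.sigmaCongrRight e).trans (Equiv.sigmaFiberEquiv g)), ?_⟩
  intro a
  simp only [Equiv.trans_apply, Equiv.sigmaFiberEquiv, Equiv.coe_fn_mk, Equiv.coe_fn_symm_mk,
    Equiv.sigmaCongrRight_apply]
  exact (e (f a) ⟨a, rfl⟩).2

theorem nonempty_pi_equiv {R : Type*} [Semiring R] {α β γ : Type*} (Q : γ → Type*)
    [∀ c, AddCommMonoid (Q c)] [∀ c, Module R (Q c)] (f : α → γ) (g : β → γ) (σ : α ≃ β)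
    (h : ∀ a, g (σ a) = f a) : Nonempty ((∀ a, Q (f a)) ≃ₗ[R] (∀ b, Q (g b))) := by
  have : f = fun a => g (σ a) := funext (fun a => (h a).symm)
  subst this
  exact ⟨LinearEquiv.piCongrLeft R (fun b => Q (g b)) σ⟩

theorem nonempty_pi_subtype_equiv {R : Type*} [Semiring R] {α : Type*} (A : α → Type*)
    [∀ a, AddCommMonoid (A a)] [∀ a, Module R (A a)] (P : α → Prop)
    (hP : ∀ a, ¬ P a → Subsingleton (A a)) :
    Nonempty ((∀ a, A a) ≃ₗ[R] (∀ a : {a // P a}, A a.1)) := by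
  classical
  refine ⟨{ toFun := fun y a => y a.1
            map_add' := fun _ _ => rfl
            map_smul' := fun _ _ => rfl
            invFun := fun z a => if h : P a then z ⟨a, h⟩ else 0
            left_inv := ?_
            right_inv := ?_ }⟩
  · intro y
    funext a
    by_cases h : P a
    · simp only [dif_pos h]
    · have := hP a h
      exact Subsingleton.elim _ _
  · intro z
    funext a
    simp only [dif_pos a.2]

theorem subsingleton_quot_zero (d : ℕ) (hd : ¬ d ≠ 0) :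
    Subsingleton (F[X] ⧸ (F[X] ∙ (X : F[X]) ^ d)) := by
  have hd0 : d = 0 := by omega
  rw [hd0, pow_zero, Submodule.Quotient.subsingleton_iff]
  exact Ideal.span_singleton_one

theorem nonempty_iso_of_card_eq {t t' : ℕ} (k : Fin t → ℕ) (k' : Fin t' → ℕ)
    (h : ∀ s, 1 ≤ s → Nat.card {i // k i = s} = Nat.card {i // k' i = s}) :
    Nonempty ((⨁ i, F[X] ⧸ (F[X] ∙ (X : F[X]) ^ k i)) ≃ₗ[F[X]]
      (⨁ i, F[X] ⧸ (F[X] ∙ (X : F[X]) ^ k' i))) := by
  classical
  have e1 := DirectSum.linearEquivFunOnFintype F[X] (Fin t) (fun i => F[X] ⧸ (F[X] ∙ (X : F[X]) ^ k i))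
  have e1' := DirectSum.linearEquivFunOnFintype F[X] (Fin t') (fun i => F[X] ⧸ (F[X] ∙ (X : F[X]) ^ k' i))
  obtain ⟨e2⟩ := nonempty_pi_subtype_equiv (R := F[X]) (fun i : Fin t => F[X] ⧸ (F[X] ∙ (X : F[X]) ^ k i))
    (fun i => k i ≠ 0) (fun i hi => subsingleton_quot_zero (k i) hi)
  obtain ⟨e2'⟩ := nonempty_pi_subtype_equiv (R := F[X]) (fun i : Fin t' => F[X] ⧸ (F[X] ∙ (X : F[X]) ^ k' i))
    (fun i => k' i ≠ 0) (fun i hi => subsingleton_quot_zero (k' i) hi)
  obtain ⟨σ, hσ⟩ := exists_equiv_of_fiber_card (fun a : {i // k i ≠ 0} => k a.1)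
    (fun b : {i // k' i ≠ 0} => k' b.1) (by
      intro c
      rcases Nat.eq_zero_or_pos c with hc | hc
      · have : IsEmpty {a : {i // k i ≠ 0} // k a.1 = c} := ⟨fun a => a.1.2 (a.2.trans hc)⟩
        have : IsEmpty {b : {i // k' i ≠ 0} // k' b.1 = c} := ⟨fun a => a.1.2 (a.2.trans hc)⟩
        rw [Nat.card_of_isEmpty, Nat.card_of_isEmpty]
      · rw [Nat.card_congr (Equiv.subtypeSubtypeEquivSubtype (p := fun i => k i ≠ 0)
            (q := fun i => k i = c) (fun {i} hi => by omega)),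
          Nat.card_congr (Equiv.subtypeSubtypeEquivSubtype (p := fun i => k' i ≠ 0)
            (q := fun i => k' i = c) (fun {i} hi => by omega))]
        exact h c hc)
  obtain ⟨e3⟩ := nonempty_pi_equiv (R := F[X]) (fun d : ℕ => F[X] ⧸ (F[X] ∙ (X : F[X]) ^ d))
    (fun a : {i // k i ≠ 0} => k a.1) (fun b : {i // k' i ≠ 0} => k' b.1) σ hσ
  exact ⟨e1.trans (e2.trans (e3.trans (e2'.symm.trans e1'.symm)))⟩

theorem toLin'_pow_apply {n : ℕ} (N : Matrix (Fin n) (Fin n) F) (j : ℕ) (v : Fin n → F) :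
    ((Matrix.toLin' N) ^ j) v = (N ^ j) *ᵥ v := by
  rw [← Matrix.toLin'_pow, Matrix.toLin'_apply]

theorem exists_ker_counts [Fintype F] {n : ℕ} (N : Matrix (Fin n) (Fin n) F) (m : ℕ)
    (hN : N ^ m = 0) :
    ∃ (t : ℕ) (k : Fin t → ℕ), ∀ j,
      Nat.card {v : Fin n → F // (N ^ j) *ᵥ v = 0} = Fintype.card F ^ ∑ i, min j (k i) := by
  have hf : (Matrix.toLin' N) ^ m = 0 := by
    rw [← Matrix.toLin'_pow, hN, map_zero]
  obtain ⟨t, k, ⟨Φ⟩⟩ := exists_decomp (Matrix.toLin' N) m hf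
  refine ⟨t, k, fun j => ?_⟩
  rw [← card_ker_of_decomp (Matrix.toLin' N) k Φ j]
  simp only [toLin'_pow_apply]

theorem conj_of_ker_counts [Fintype F] {n : ℕ} (N N' : Matrix (Fin n) (Fin n) F) (m : ℕ)
    (hN : N ^ m = 0) (hN' : N' ^ m = 0)
    (h : ∀ j, Nat.card {v : Fin n → F // (N ^ j) *ᵥ v = 0}
      = Nat.card {v : Fin n → F // (N' ^ j) *ᵥ v = 0}) :
    ∃ Q : GL (Fin n) F, Q.1 * N = N' * Q.1 := by
  have hf : (Matrix.toLin' N) ^ m = 0 := by
    rw [← Matrix.toLin'_pow, hN, map_zero]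
  have hf' : (Matrix.toLin' N') ^ m = 0 := by
    rw [← Matrix.toLin'_pow, hN', map_zero]
  obtain ⟨t, k, ⟨Φ⟩⟩ := exists_decomp (Matrix.toLin' N) m hf
  obtain ⟨t', k', ⟨Φ'⟩⟩ := exists_decomp (Matrix.toLin' N') m hf'
  have hq : 2 ≤ Fintype.card F := Fintype.one_lt_card
  have hsum : ∀ j, ∑ i, min j (k i) = ∑ i, min j (k' i) := by
    intro j
    have h1 := card_ker_of_decomp (Matrix.toLin' N) k Φ j
    have h2 := card_ker_of_decomp (Matrix.toLin' N') k' Φ' j
    simp only [toLin'_pow_apply] at h1 h2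
    rw [h j, h2] at h1
    exact (Nat.pow_right_injective hq h1).symm
  obtain ⟨Θ⟩ := nonempty_iso_of_card_eq (F := F) k k' (fun s hs => card_eq_eq k k' hsum s hs)
  obtain ⟨Ee, hEe⟩ := conj_of_iso (Matrix.toLin' N) (Matrix.toLin' N') (Φ.trans (Θ.trans Φ'.symm))
  have hQ1 : LinearMap.toMatrix' Ee.toLinearMap * LinearMap.toMatrix' Ee.symm.toLinearMap = 1 := by
    rw [← LinearMap.toMatrix'_comp, LinearEquiv.comp_coe, LinearEquiv.symm_trans_self,
      LinearEquiv.refl_toLinearMap, LinearMap.toMatrix'_id]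
  have hQ2 : LinearMap.toMatrix' Ee.symm.toLinearMap * LinearMap.toMatrix' Ee.toLinearMap = 1 :=
    mul_eq_one_comm.mp hQ1
  refine ⟨⟨LinearMap.toMatrix' Ee.toLinearMap, LinearMap.toMatrix' Ee.symm.toLinearMap, hQ1, hQ2⟩, ?_⟩
  show LinearMap.toMatrix' Ee.toLinearMap * N = N' * LinearMap.toMatrix' Ee.toLinearMap
  have h2 : N = LinearMap.toMatrix' (Matrix.toLin' N) := (LinearMap.toMatrix'_toLin' _).symm
  have h3 : N' = LinearMap.toMatrix' (Matrix.toLin' N') := (LinearMap.toMatrix'_toLin' _).symm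
  rw [h2, h3, ← LinearMap.toMatrix'_comp, ← LinearMap.toMatrix'_comp]
  congr 1
  apply LinearMap.ext
  intro v
  simp only [LinearMap.comp_apply, LinearEquiv.coe_coe]
  exact hEe v

end Cfsg.Agent.Lib.Helper16.PJord
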