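import Mathlib
import Cfsg.Agent.Lib.Helper16.PJord4

set_option autoImplicit false
set_option linter.unusedSectionVars false
set_option linter.unusedSimpArgs false
set_option linter.unusedVariables false
set_option linter.unusedTactic false

namespace Cfsg.Agent.Lib.Helper16.PJord

open Matrix Module Polynomial

variable {F : Type*} [Field F]

theorem exists_fin_family (s : Multiset ℕ) :
    ∃ (t : ℕ) (d : Fin t → ℕ), Finset.univ.val.map d = s := by
  refine ⟨s.toList.length, s.toList.get, ?_⟩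
  rw [Fin.univ_val_map, List.ofFn_get, Multiset.coe_toList]

theorem sum_min_eq_ms {t : ℕ} (d : Fin t → ℕ) (j : ℕ) :
    ∑ i, min j (d i) = ((Finset.univ.val.map d).map (min j)).sum := by
  rw [Multiset.map_map]
  rfl

theorem card_fiber_eq_count {t : ℕ} (d : Fin t → ℕ) (c : ℕ) :
    Nat.card {i // d i = c} = (Finset.univ.val.map d).count c := by
  classical
  rw [Multiset.count_map, Nat.card_eq_fintype_card, Fintype.card_subtype, Finset.card_def,
    Finset.filter_val]
  congr 1
  apply Multiset.filter_congr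
  intro i _
  exact eq_comm

theorem ms_eq_of_sum_min (s s' : Multiset ℕ) (hs : ∀ a ∈ s, 0 < a) (hs' : ∀ a ∈ s', 0 < a)
    (h : ∀ j, (s.map (min j)).sum = (s'.map (min j)).sum) : s = s' := by
  classical
  obtain ⟨t, d, rfl⟩ := exists_fin_family s
  obtain ⟨t', d', rfl⟩ := exists_fin_family s'
  ext c
  rcases Nat.eq_zero_or_pos c with hc | hc
  · subst hc
    rw [Multiset.count_eq_zero_of_notMem, Multiset.count_eq_zero_of_notMem]
    · intro h0; exact absurd (hs' 0 h0) (lt_irrefl 0)
    · intro h0; exact absurd (hs 0 h0) (lt_irrefl 0)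
  · rw [← card_fiber_eq_count, ← card_fiber_eq_count]
    apply card_eq_eq d d' _ c hc
    intro j
    rw [sum_min_eq_ms, sum_min_eq_ms]
    exact h j

theorem sum_map_min_filter (s : Multiset ℕ) (j : ℕ) :
    ((s.filter (· ≠ 0)).map (min j)).sum = (s.map (min j)).sum := by
  induction s using Multiset.induction_on with
  | empty => simp
  | cons a s ih =>
    by_cases ha : a ≠ 0
    · rw [Multiset.filter_cons_of_pos (p := fun x => x ≠ 0) s ha, Multiset.map_cons, Multiset.sum_cons, Multiset.map_cons,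
        Multiset.sum_cons, ih]
    · rw [Multiset.filter_cons_of_neg (p := fun x => x ≠ 0) s ha, Multiset.map_cons, Multiset.sum_cons, ih]
      have : a = 0 := by omega
      rw [this, Nat.min_zero, zero_add]

theorem sum_filter_ne_zero (s : Multiset ℕ) : (s.filter (· ≠ 0)).sum = s.sum := by
  induction s using Multiset.induction_on with
  | empty => simp
  | cons a s ih =>
    by_cases ha : a ≠ 0
    · rw [Multiset.filter_cons_of_pos (p := fun x => x ≠ 0) s ha, Multiset.sum_cons, Multiset.sum_cons, ih]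
    · rw [Multiset.filter_cons_of_neg (p := fun x => x ≠ 0) s ha, Multiset.sum_cons, ih]
      have : a = 0 := by omega
      rw [this, zero_add]

theorem exists_rep [Fintype F] (n : ℕ) (s : Multiset ℕ) (hs : s.sum = n) :
    ∃ N : Matrix (Fin n) (Fin n) F,
      (∀ j, Nat.card {v : Fin n → F // (N ^ j) *ᵥ v = 0}
        = Fintype.card F ^ (s.map (min j)).sum) ∧
      (∀ m, (∀ a ∈ s, a ≤ m) → N ^ m = 0) ∧ ((∃ a ∈ s, 2 ≤ a) → N ≠ 0) := by
  obtain ⟨t, d, rfl⟩ := exists_fin_family s
  obtain ⟨N, h1, h2, h3⟩ := exists_realization_nilp (F := F) d n hs.symm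
  refine ⟨N, ?_, ?_, ?_⟩
  · intro j
    rw [h1 j, sum_min_eq_ms]
  · intro m hm
    apply h2 m
    intro i
    exact hm (d i) (Multiset.mem_map_of_mem d (Finset.mem_univ_val i))
  · rintro ⟨a, ha, ha2⟩
    apply h3
    obtain ⟨i, _, rfl⟩ := Multiset.mem_map.mp ha
    exact ⟨i, ha2⟩

theorem card_ker_zero [Fintype F] (n : ℕ) :
    Nat.card {v : Fin n → F // (0 : Matrix (Fin n) (Fin n) F) *ᵥ v = 0} = Fintype.card F ^ n := by
  have : Nat.card {v : Fin n → F // (0 : Matrix (Fin n) (Fin n) F) *ᵥ v = 0} = Nat.card (Fin n → F) := by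
    apply Nat.card_congr
    exact Equiv.subtypeUnivEquiv (fun v => Matrix.zero_mulVec v)
  rw [this, Nat.card_eq_fintype_card, Fintype.card_fun, Fintype.card_fin]

theorem exists_ker_counts_ms [Fintype F] {n : ℕ} (N : Matrix (Fin n) (Fin n) F) (m : ℕ)
    (hN : N ^ m = 0) :
    ∃ s : Multiset ℕ, s.sum = n ∧ (∀ a ∈ s, a ≤ m) ∧ (∀ a ∈ s, 0 < a) ∧
      ∀ j, Nat.card {v : Fin n → F // (N ^ j) *ᵥ v = 0} = Fintype.card F ^ (s.map (min j)).sum := by
  classical
  obtain ⟨t, k, hk⟩ := exists_ker_counts N m hN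
  have hq : 2 ≤ Fintype.card F := Fintype.one_lt_card
  have hN' : N ^ (m + 1) = 0 := by rw [pow_succ, hN, zero_mul]
  have h1 := hk m
  have h2 := hk (m + 1)
  rw [hN, card_ker_zero] at h1
  rw [hN', card_ker_zero] at h2
  have h3 := Nat.pow_right_injective hq h1
  have h4 := Nat.pow_right_injective hq h2
  have h5 := sum_min_succ k m
  have h6 : Nat.card {i // m + 1 ≤ k i} = 0 := by omega
  have hle : ∀ i, k i ≤ m := by
    intro i
    by_contra hi
    have : Nonempty {i // m + 1 ≤ k i} := ⟨⟨i, by omega⟩⟩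
    have := Nat.card_pos (α := {i // m + 1 ≤ k i})
    omega
  have hsum : ∑ i, k i = n := by
    rw [h3]
    apply Finset.sum_congr rfl
    intro i _
    exact (min_eq_right (hle i)).symm
  refine ⟨(Finset.univ.val.map k).filter (· ≠ 0), ?_, ?_, ?_, ?_⟩
  · rw [sum_filter_ne_zero]
    exact hsum
  · intro a ha
    obtain ⟨i, _, rfl⟩ := Multiset.mem_map.mp (Multiset.mem_filter.mp ha).1
    exact hle i
  · intro a ha
    exact Nat.pos_of_ne_zero (Multiset.mem_filter.mp ha).2
  · intro j
    rw [hk j, sum_map_min_filter, sum_min_eq_ms]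

theorem card_ker_conj [Fintype F] {n : ℕ} (N N' : Matrix (Fin n) (Fin n) F) (c : GL (Fin n) F)
    (h : c.1 * N = N' * c.1) (j : ℕ) :
    Nat.card {v : Fin n → F // (N ^ j) *ᵥ v = 0} = Nat.card {v : Fin n → F // (N' ^ j) *ᵥ v = 0} := by
  have hj : c.1 * N ^ j = N' ^ j * c.1 := (SemiconjBy.pow_right (show SemiconjBy c.1 N N' from h) j)
  have h1 : c⁻¹.1 * c.1 = 1 := by rw [← Units.val_mul, inv_mul_cancel, Units.val_one]
  have h2 : c.1 * c⁻¹.1 = 1 := by rw [← Units.val_mul, mul_inv_cancel, Units.val_one]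
  apply Nat.card_congr
  refine Equiv.subtypeEquiv ⟨fun v => c.1 *ᵥ v, fun v => c⁻¹.1 *ᵥ v, ?_, ?_⟩ ?_
  · intro v
    simp only [Matrix.mulVec_mulVec, h1, Matrix.one_mulVec]
  · intro v
    simp only [Matrix.mulVec_mulVec, h2, Matrix.one_mulVec]
  · intro v
    simp only [Equiv.coe_fn_mk, Matrix.mulVec_mulVec]
    rw [← hj, ← Matrix.mulVec_mulVec]
    constructor
    · intro h0
      rw [h0, Matrix.mulVec_zero]
    · intro h0
      have := congrArg (fun w => c⁻¹.1 *ᵥ w) h0
      simp only [Matrix.mulVec_mulVec, Matrix.mulVec_zero] at this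
      rw [← mul_assoc, h1, one_mul] at this
      exact this

theorem add_pow_char_mat {p : ℕ} [Fact p.Prime] [CharP F p] {n : ℕ}
    (A B : Matrix (Fin n) (Fin n) F) (h : Commute A B) : (A + B) ^ p = A ^ p + B ^ p := by
  rcases Nat.eq_zero_or_pos n with h0 | h0
  · subst h0
    exact Subsingleton.elim _ _
  · have : Nonempty (Fin n) := ⟨⟨0, h0⟩⟩
    exact add_pow_char_of_commute p h

theorem sub_pow_char_mat {p : ℕ} [Fact p.Prime] [CharP F p] {n : ℕ}
    (A B : Matrix (Fin n) (Fin n) F) (h : Commute A B) : (A - B) ^ p = A ^ p - B ^ p := by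
  rcases Nat.eq_zero_or_pos n with h0 | h0
  · subst h0
    exact Subsingleton.elim _ _
  · have : Nonempty (Fin n) := ⟨⟨0, h0⟩⟩
    exact sub_pow_char_of_commute p h

theorem card_ker_lt [Fintype F] {n : ℕ} (N : Matrix (Fin n) (Fin n) F) (hN : N ≠ 0) :
    Nat.card {v : Fin n → F // (N ^ 1) *ᵥ v = 0} < Fintype.card F ^ n := by
  classical
  have h1 : ∃ v : Fin n → F, ¬ ((N ^ 1) *ᵥ v = 0) := by
    by_contra hcon
    apply hN
    have h2 : ∀ v : Fin n → F, N *ᵥ v = 0 := by
      intro v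
      by_contra hv
      apply hcon
      refine ⟨v, ?_⟩
      rw [pow_one]
      exact hv
    apply Matrix.toLin'.injective
    apply LinearMap.ext
    intro v
    rw [Matrix.toLin'_apply, h2 v, map_zero, LinearMap.zero_apply]
  obtain ⟨v, hv⟩ := h1
  rw [Nat.card_eq_fintype_card]
  have h3 := Fintype.card_subtype_lt (p := fun v : Fin n → F => (N ^ 1) *ᵥ v = 0) hv
  rw [Fintype.card_fun, Fintype.card_fin] at h3
  exact h3

end Cfsg.Agent.Lib.Helper16.PJord
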