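import Mathlib
import Cfsg.Agent.Lib.Helper16.PGLInv4
import Cfsg.Agent.Lib.Helper16.PJord5

set_option autoImplicit false
set_option linter.unusedSectionVars false
set_option linter.unusedSimpArgs false
set_option linter.unusedVariables false
set_option linter.unusedTactic false

namespace Cfsg.Agent.Lib.Helper16.PJord

open Matrix Module Polynomial

theorem card_partitions_aux (n p : ℕ) (hp : 1 ≤ p) :
    Nat.card {μ : Nat.Partition n // (∀ a ∈ μ.parts, a ≤ p) ∧ ∃ a ∈ μ.parts, 2 ≤ a}
      = (Finset.univ.filter (fun μ : Nat.Partition n => ∀ a ∈ μ.parts, a ≤ p)).card - 1 := by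
  classical
  obtain ⟨ones, hones⟩ : ∃ ones : Nat.Partition n, ones.parts = Multiset.replicate n 1 :=
    ⟨⟨Multiset.replicate n 1, fun {i} hi => by rw [Multiset.eq_of_mem_replicate hi]; exact Nat.one_pos,
      by simp⟩, rfl⟩
  have hmem : ones ∈ Finset.univ.filter (fun μ : Nat.Partition n => ∀ a ∈ μ.parts, a ≤ p) := by
    rw [Finset.mem_filter]
    refine ⟨Finset.mem_univ _, ?_⟩
    intro a ha
    rw [hones] at ha
    rw [Multiset.eq_of_mem_replicate ha]
    exact hp
  rw [Nat.card_eq_fintype_card, Fintype.card_subtype, ← Finset.card_erase_of_mem hmem]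
  congr 1
  ext μ
  simp only [Finset.mem_filter, Finset.mem_univ, true_and, Finset.mem_erase]
  constructor
  · rintro ⟨h1, a, ha, ha2⟩
    refine ⟨?_, h1⟩
    intro h
    rw [h, hones] at ha
    have := Multiset.eq_of_mem_replicate ha
    omega
  · rintro ⟨h1, h2⟩
    refine ⟨h2, ?_⟩
    by_contra hcon
    apply h1
    have h3 : ∀ b ∈ μ.parts, b = 1 := by
      intro b hb
      have h4 : ¬ 2 ≤ b := fun h => hcon ⟨b, hb, h⟩
      have h5 := μ.parts_pos hb
      omega
    have h6 := Multiset.eq_replicate_card.mpr h3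
    have h7 : μ.parts.card = n := by
      have h8 := μ.parts_sum
      rw [h6, Multiset.sum_replicate, smul_eq_mul, mul_one] at h8
      exact h8
    apply Nat.Partition.ext
    rw [hones, h6, h7]

theorem gl_order_p_classes {F : Type*} [Field F] [Fintype F] {p : ℕ} [Fact p.Prime] [CharP F p]
    (n : ℕ) :
    Nat.card {C : ConjClasses (GL (Fin n) F) // ∃ g : GL (Fin n) F, ConjClasses.mk g = C ∧
      orderOf g = p} = (Finset.univ.filter (fun μ : Nat.Partition n => ∀ a ∈ μ.parts, a ≤ p)).card - 1 := by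
  classical
  have hp : p.Prime := Fact.out
  have hp2 : 2 ≤ p := hp.two_le
  have hq : 2 ≤ Fintype.card F := Fintype.one_lt_card
  have hreal : ∀ μ : {μ : Nat.Partition n // (∀ a ∈ μ.parts, a ≤ p) ∧ ∃ a ∈ μ.parts, 2 ≤ a},
      ∃ (g : GL (Fin n) F) (N : Matrix (Fin n) (Fin n) F), g.1 = 1 + N ∧ N ^ p = 0 ∧ N ≠ 0 ∧
        ∀ j, Nat.card {v : Fin n → F // (N ^ j) *ᵥ v = 0}
          = Fintype.card F ^ (μ.1.parts.map (min j)).sum := by
    intro μ
    obtain ⟨N, h1, h2, h3⟩ := exists_rep (F := F) n μ.1.parts μ.1.parts_sum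
    have hNp : N ^ p = 0 := h2 p μ.2.1
    have hpow : (1 + N) ^ p = 1 := by
      rw [add_pow_char_mat 1 N (Commute.one_left N), one_pow, hNp, add_zero]
    obtain ⟨s, hs⟩ : ∃ s, p = s + 1 := ⟨p - 1, by omega⟩
    refine ⟨⟨1 + N, (1 + N) ^ s, ?_, ?_⟩, N, rfl, hNp, h3 μ.2.2, h1⟩
    · rw [← pow_succ', ← hs, hpow]
    · rw [← pow_succ, ← hs, hpow]
  choose rep Nrep hrep1 hrep2 hrep3 hrep4 using hreal
  rw [PGLI.card_classes_of_reps (fun g : GL (Fin n) F => orderOf g = p)
    {μ : Nat.Partition n // (∀ a ∈ μ.parts, a ≤ p) ∧ ∃ a ∈ μ.parts, 2 ≤ a} rep]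
  · exact card_partitions_aux n p (by omega)
  · intro μ
    rw [orderOf_eq_prime_iff]
    constructor
    · apply Units.ext
      rw [Units.val_pow_eq_pow_val, hrep1, add_pow_char_mat 1 _ (Commute.one_left _), one_pow,
        hrep2, add_zero, Units.val_one]
    · intro h1
      apply hrep3 μ
      have h2 := hrep1 μ
      rw [h1, Units.val_one] at h2
      exact (left_eq_add.mp h2)
  · intro g hg
    have hgp : g.1 ^ p = 1 := by
      rw [← Units.val_pow_eq_pow_val, ← hg, pow_orderOf_eq_one, Units.val_one]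
    have hg1 : g ≠ 1 := by
      intro h
      rw [h, orderOf_one] at hg
      omega
    obtain ⟨N, hN⟩ : ∃ N : Matrix (Fin n) (Fin n) F, N = g.1 - 1 := ⟨_, rfl⟩
    have hgN : g.1 = 1 + N := by rw [hN]; abel
    have hNp : N ^ p = 0 := by
      rw [hN, sub_pow_char_mat g.1 1 (Commute.one_right _), hgp, one_pow, sub_self]
    have hN0 : N ≠ 0 := by
      intro h0
      apply hg1
      apply Units.ext
      rw [hgN, h0, add_zero, Units.val_one]
    obtain ⟨s, hsum, hle, hpos, hcounts⟩ := exists_ker_counts_ms N p hNp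
    have hex : ∃ a ∈ s, 2 ≤ a := by
      by_contra hcon
      have h3 : ∀ b ∈ s, b = 1 := by
        intro b hb
        have h4 : ¬ 2 ≤ b := fun h => hcon ⟨b, hb, h⟩
        have h5 := hpos b hb
        omega
      have h6 : (s.map (min 1)).sum = n := by
        rw [← hsum]
        congr 1
        conv_rhs => rw [← Multiset.map_id s]
        apply Multiset.map_congr rfl
        intro b hb
        rw [h3 b hb]
        rfl
      have h7 := hcounts 1
      rw [h6] at h7
      have h8 := card_ker_lt N hN0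
      omega
    refine ⟨⟨⟨s, fun {i} hi => hpos i hi, hsum⟩, hle, hex⟩, ?_⟩
    obtain ⟨Q, hQ⟩ := conj_of_ker_counts N (Nrep ⟨⟨s, fun {i} hi => hpos i hi, hsum⟩, hle, hex⟩) p hNp
      (hrep2 _) (fun j => by rw [hcounts j, hrep4])
    apply isConj_iff.mpr
    refine ⟨Q, ?_⟩
    apply mul_inv_eq_of_eq_mul
    apply Units.ext
    rw [Units.val_mul, Units.val_mul, hrep1, hgN, mul_add, add_mul, mul_one, one_mul, hQ]
  · intro μ μ' hconj
    obtain ⟨c, hc⟩ := isConj_iff.mp hconj
    have h1 : c.1 * (rep μ).1 = (rep μ').1 * c.1 := by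
      have := congrArg Units.val (eq_mul_of_mul_inv_eq hc)
      exact this
    rw [hrep1, hrep1, mul_add, add_mul, mul_one, one_mul] at h1
    have h2 : c.1 * Nrep μ = Nrep μ' * c.1 := add_left_cancel h1
    apply Subtype.ext
    apply Nat.Partition.ext
    apply ms_eq_of_sum_min _ _ (fun a ha => μ.1.parts_pos ha) (fun a ha => μ'.1.parts_pos ha)
    intro j
    have h3 := card_ker_conj (Nrep μ) (Nrep μ') c h2 j
    rw [hrep4, hrep4] at h3
    exact Nat.pow_right_injective hq h3

end Cfsg.Agent.Lib.Helper16.PJord
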