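import Mathlib
import Cfsg.Agent.Lib.Helper16.GUDual2
import Cfsg.Agent.Lib.Helper16.PJord6

set_option autoImplicit false
set_option linter.unusedSectionVars false
set_option linter.unusedSimpArgs false
set_option linter.unusedVariables false
set_option linter.unusedTactic false

namespace Cfsg.Agent.Lib.Helper16.FCR

open Polynomial Matrix Module Cfsg.Agent.Lib.Helper16.RN

variable {K : Type*} [Field K]

theorem card_ker_eq_rank [Fintype K] {n : ℕ} (M : Matrix (Fin n) (Fin n) K) :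
    Nat.card {v : Fin n → K // M *ᵥ v = 0} = Fintype.card K ^ (n - M.rank) := by
  classical
  have h1 : Nat.card {v : Fin n → K // M *ᵥ v = 0} = Nat.card ↥(LinearMap.ker (Matrix.toLin' M)) := by
    apply Nat.card_congr
    refine Equiv.subtypeEquivRight ?_
    intro v
    rw [LinearMap.mem_ker, Matrix.toLin'_apply]
  rw [h1, Nat.card_eq_fintype_card, Module.card_eq_pow_finrank (K := K)]
  congr 1
  have h2 := LinearMap.finrank_range_add_finrank_ker (Matrix.toLin' M)
  rw [Module.finrank_fintype_fun_eq_card, Fintype.card_fin] at h2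
  have h3 : M.rank = finrank K ↥(LinearMap.range (Matrix.toLin' M)) := by
    rw [Matrix.rank, Matrix.toLin'_apply']
  omega

theorem card_ker_map [Fintype K] {n : ℕ} (σ : K →+* K) (hσσ : ∀ a, σ (σ a) = a)
    (M : Matrix (Fin n) (Fin n) K) :
    Nat.card {v : Fin n → K // (M.map σ) *ᵥ v = 0} = Nat.card {v : Fin n → K // M *ᵥ v = 0} := by
  have key : ∀ (M : Matrix (Fin n) (Fin n) K) (v : Fin n → K),
      (M.map σ) *ᵥ (fun i => σ (v i)) = fun i => σ ((M *ᵥ v) i) := by
    intro M v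
    funext i
    simp only [Matrix.mulVec, dotProduct, Matrix.map_apply, map_sum, map_mul]
  apply Nat.card_congr
  refine Equiv.subtypeEquiv ⟨fun v i => σ (v i), fun v i => σ (v i), ?_, ?_⟩ ?_
  · intro v; funext i; exact hσσ _
  · intro v; funext i; exact hσσ _
  · intro v
    simp only [Equiv.coe_fn_mk]
    constructor
    · intro h
      have h1 := key (M.map σ) v
      have h2 : (M.map σ).map σ = M := by
        ext i j
        simp only [Matrix.map_apply, hσσ]
      rw [h2, h] at h1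
      rw [h1]
      funext i
      simp
    · intro h
      have h1 := key M (fun i => σ (v i))
      have h2 : (fun i => σ (σ (v i))) = v := funext (fun i => hσσ _)
      rw [h2, h] at h1
      rw [h1]
      funext i
      simp

theorem card_ker_adj [Fintype K] {n : ℕ} (σ : K →+* K) (hσσ : ∀ a, σ (σ a) = a)
    (M : Matrix (Fin n) (Fin n) K) :
    Nat.card {v : Fin n → K // ((M.map σ)ᵀ) *ᵥ v = 0} = Nat.card {v : Fin n → K // M *ᵥ v = 0} := by
  rw [card_ker_eq_rank, Matrix.rank_transpose, ← card_ker_eq_rank, card_ker_map σ hσσ]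

theorem card_ker_unit_mul [Fintype K] {n : ℕ} (u : GL (Fin n) K) (M : Matrix (Fin n) (Fin n) K) :
    Nat.card {v : Fin n → K // (u.1 * M) *ᵥ v = 0} = Nat.card {v : Fin n → K // M *ᵥ v = 0} := by
  apply Nat.card_congr
  refine Equiv.subtypeEquivRight ?_
  intro v
  constructor
  · intro h
    have := congrArg (fun w => u⁻¹.1 *ᵥ w) h
    simp only [Matrix.mulVec_mulVec, Matrix.mulVec_zero] at this
    rw [← mul_assoc, ← Units.val_mul, inv_mul_cancel, Units.val_one, one_mul] at this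
    exact this
  · intro h
    rw [← Matrix.mulVec_mulVec, h, Matrix.mulVec_zero]

theorem unip_conj_into_GU [Fintype K] {q n : ℕ} (hK : Fintype.card K = q ^ 2) (A : GL (Fin n) K)
    (m : ℕ) (hA : (A.1 - 1) ^ m = 0) :
    ∃ B : ↥(Cfsg.GU n K q), IsConj A (B : GL (Fin n) K) := by
  classical
  obtain ⟨σ, Ad, θ₀, hσ, hσσ, hθ₀, hAσ, hAdj, hmem⟩ := gu_data n hK
  rw [gu_conj_iff_self_dual hK A]
  have hrhs : (((A : Matrix (Fin n) (Fin n) K).map (fun x : K => x ^ q)).transpose)⁻¹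
      = ((Ad.adjU A)⁻¹).1 := by
    rw [Matrix.coe_units_inv, Ad.adjU_val, hAdj]
    congr 2
    ext i j
    simp only [Matrix.map_apply, hσ]
  rw [hrhs]
  obtain ⟨W, hW⟩ : ∃ W : GL (Fin n) K, W = Ad.adjU A := ⟨_, rfl⟩
  rw [← hW]
  obtain ⟨N, hN⟩ : ∃ N : Matrix (Fin n) (Fin n) K, N = A.1 - 1 := ⟨_, rfl⟩
  obtain ⟨N', hN'⟩ : ∃ N' : Matrix (Fin n) (Fin n) K, N' = W⁻¹.1 - 1 := ⟨_, rfl⟩
  rw [← hN] at hA
  have hWW : W⁻¹.1 * W.1 = 1 := by rw [← Units.val_mul, inv_mul_cancel, Units.val_one]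
  have hWW' : W.1 * W⁻¹.1 = 1 := by rw [← Units.val_mul, mul_inv_cancel, Units.val_one]
  have hadjN : Ad.adj N = W.1 - 1 := by
    rw [hN, Ad.adj_sub, Ad.one', hW, Ad.adjU_val]
  have h1 : N' = (-W⁻¹).1 * Ad.adj N := by
    rw [hN', hadjN, Units.val_neg, neg_mul, mul_sub, mul_one, hWW]
    abel
  have hcomm : Commute (-W⁻¹).1 (Ad.adj N) := by
    rw [hadjN, Units.val_neg]
    apply Commute.neg_left
    show W⁻¹.1 * (W.1 - 1) = (W.1 - 1) * W⁻¹.1
    rw [mul_sub, sub_mul, hWW, hWW', mul_one, one_mul]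
  have hpow : ∀ j : ℕ, N' ^ j = ((-W⁻¹) ^ j).1 * Ad.adj (N ^ j) := by
    intro j
    rw [h1, hcomm.mul_pow, Ad.adj_pow, Units.val_pow_eq_pow_val]
  have hN'm : N' ^ m = 0 := by
    rw [hpow, hA, Ad.adj_zero, mul_zero]
  have hcounts : ∀ j, Nat.card {v : Fin n → K // (N ^ j) *ᵥ v = 0}
      = Nat.card {v : Fin n → K // (N' ^ j) *ᵥ v = 0} := by
    intro j
    rw [hpow, card_ker_unit_mul, hAdj, card_ker_adj σ hσσ]
  obtain ⟨Q, hQ⟩ := PJord.conj_of_ker_counts N N' m hA hN'm hcounts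
  refine ⟨Q, ?_⟩
  show Q.1 * A.1 = W⁻¹.1 * Q.1
  have h2 : A.1 = 1 + N := by rw [hN]; abel
  have h3 : W⁻¹.1 = 1 + N' := by rw [hN']; abel
  rw [h2, h3, mul_add, add_mul, mul_one, one_mul, hQ]

theorem card_classes_subgroup {G : Type*} [Group G] (H : Subgroup G) (P : G → Prop)
    (hPconj : ∀ a b : G, IsConj a b → P a → P b)
    (h1 : ∀ a b : H, IsConj a.1 b.1 → IsConj a b)
    (h2 : ∀ a : G, P a → ∃ b : H, IsConj a b.1) :
    Nat.card {C : ConjClasses H // ∃ g : H, ConjClasses.mk g = C ∧ P g.1}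
      = Nat.card {C : ConjClasses G // ∃ g : G, ConjClasses.mk g = C ∧ P g} := by
  have hch : ∀ C : {C : ConjClasses G // ∃ g : G, ConjClasses.mk g = C ∧ P g},
      ∃ b : H, ConjClasses.mk b.1 = C.1 ∧ P b.1 := by
    rintro ⟨C, g, rfl, hg⟩
    obtain ⟨b, hb⟩ := h2 g hg
    exact ⟨b, (ConjClasses.mk_eq_mk_iff_isConj.mpr hb).symm, hPconj g b.1 hb hg⟩
  choose rep hrep1 hrep2 using hch
  apply PGLI.card_classes_of_reps (fun g : H => P g.1) _ rep hrep2
  · intro g hg
    refine ⟨⟨ConjClasses.mk g.1, g.1, rfl, hg⟩, ?_⟩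
    apply h1
    apply ConjClasses.mk_eq_mk_iff_isConj.mp
    rw [hrep1]
  · intro C C' hconj
    obtain ⟨c, hc⟩ := isConj_iff.mp hconj
    have h3 : IsConj (rep C).1 (rep C').1 := isConj_iff.mpr ⟨c.1, by rw [← hc]; rfl⟩
    apply Subtype.ext
    rw [← hrep1 C, ← hrep1 C']
    exact ConjClasses.mk_eq_mk_iff_isConj.mpr h3


theorem gu_order_p_classes [Fintype K] {p q n : ℕ} [Fact p.Prime] [CharP K p]
    (hK : Fintype.card K = q ^ 2) :
    Nat.card {C : ConjClasses ↥(Cfsg.GU n K q) // ∃ g : ↥(Cfsg.GU n K q), ConjClasses.mk g = C ∧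
      orderOf g = p} = (Finset.univ.filter (fun μ : Nat.Partition n => ∀ a ∈ μ.parts, a ≤ p)).card - 1 := by
  rw [← PJord.gl_order_p_classes (F := K) (p := p) n]
  have h := card_classes_subgroup (Cfsg.GU n K q) (fun g : GL (Fin n) K => orderOf g = p)
    (by
      intro a b hab ha
      obtain ⟨c, hc⟩ := isConj_iff.mp hab
      rw [← hc, ← ha]
      exact (MulAut.conj c).orderOf_eq a)
    (fun a b hab => (gu_conj_iff hK a b).mpr hab)
    (by
      intro a ha
      have hap : a.1 ^ p = 1 := by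
        rw [← Units.val_pow_eq_pow_val, ← ha, pow_orderOf_eq_one, Units.val_one]
      apply unip_conj_into_GU hK a p
      rw [PJord.sub_pow_char_mat a.1 1 (Commute.one_right _), hap, one_pow, sub_self])
  simp only [Subgroup.orderOf_coe] at h
  exact h

end Cfsg.Agent.Lib.Helper16.FCR
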