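import Mathlib
import Cfsg.Agent.Lib.Helper16.GUSemi1
import Cfsg.Agent.Lib.Helper16.GUUnip

set_option autoImplicit false
set_option linter.unusedSectionVars false
set_option linter.unusedSimpArgs false
set_option linter.unusedVariables false
set_option linter.unusedTactic false

namespace Cfsg.Agent.Lib.Helper16.GUSemi

open Matrix Module Polynomial Cfsg.Agent.Lib.Helper16.PSemi Cfsg.Agent.Lib.Helper16.RN

variable {K : Type*} [Field K]

/-- the conjugate-reciprocal polynomial -/
noncomputable def dualP (σ : K →+* K) (P : K[X]) : K[X] := reflect P.natDegree (P.map σ)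

theorem reflect_aeval {E : Type*} [Ring E] [Algebra K E] (u : Eˣ) (p : K[X]) (d : ℕ)
    (hd : p.natDegree ≤ d) : u.1 ^ d * aeval u⁻¹.1 p = aeval u.1 (reflect d p) := by
  have hp := Polynomial.as_sum_range' p (d + 1) (by omega)
  have key : ∀ j ∈ Finset.range (d + 1), ∀ c : K,
      u.1 ^ d * aeval u⁻¹.1 (monomial j c) = aeval u.1 (reflect d (monomial j c)) := by
    intro j hj c
    have hj' : j ≤ d := by rw [Finset.mem_range] at hj; omega
    rw [← C_mul_X_pow_eq_monomial, reflect_C_mul_X_pow, revAt_le hj', map_mul, map_mul, aeval_C,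
      aeval_C, map_pow, map_pow, aeval_X, aeval_X]
    have h1 : u.1 ^ d * (algebraMap K E c * u⁻¹.1 ^ j) = algebraMap K E c * (u.1 ^ d * u⁻¹.1 ^ j) := by
      rw [← mul_assoc, ← Algebra.commutes c (u.1 ^ d), mul_assoc]
    rw [h1]
    congr 1
    obtain ⟨e, rfl⟩ : ∃ e, d = e + j := ⟨d - j, by omega⟩
    rw [Nat.add_sub_cancel, pow_add, mul_assoc, ← Units.val_pow_eq_pow_val, ← Units.val_pow_eq_pow_val,
      ← Units.val_pow_eq_pow_val, ← Units.val_mul, inv_pow, mul_inv_cancel, Units.val_one,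
      mul_one]
  conv_lhs => rw [hp]
  conv_rhs => rw [hp]
  rw [map_sum, Finset.mul_sum]
  have h2 : reflect d (∑ j ∈ Finset.range (d + 1), monomial j (p.coeff j))
      = ∑ j ∈ Finset.range (d + 1), reflect d (monomial j (p.coeff j)) := by
    induction (Finset.range (d + 1)) using Finset.induction_on with
    | empty => simp
    | insert a s ha ih => rw [Finset.sum_insert ha, Finset.sum_insert ha, reflect_add, ih]
  rw [h2, map_sum]
  exact Finset.sum_congr rfl (fun j hj => key j hj _)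

theorem kd_of_card [Fintype K] {n : ℕ} (g g' : Matrix (Fin n) (Fin n) K) (P P' : K[X])
    (h : Nat.card {v : Fin n → K // (aeval g P) *ᵥ v = 0}
      = Nat.card {v : Fin n → K // (aeval g' P') *ᵥ v = 0}) : kd g P = kd g' P' := by
  rw [card_ker_eq, card_ker_eq] at h
  exact Nat.pow_right_injective Fintype.one_lt_card h

theorem kd_dual [Fintype K] {n : ℕ} (σ : K →+* K) (hσσ : ∀ a, σ (σ a) = a) (Ad : AdjData (Fin n) K)
    (hAσ : Ad.σ = σ) (hAdj : ∀ a, Ad.adj a = (a.map σ)ᵀ) (g : GL (Fin n) K) (P : K[X]) :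
    kd ((Ad.adjU g)⁻¹).1 P = kd g.1 (dualP σ P) := by
  apply kd_of_card
  have h1 : aeval ((Ad.adjU g)⁻¹).1 P = Ad.adj (aeval g⁻¹.1 (P.map σ)) := by
    rw [FCR.adj_aeval σ Ad.adj Ad.add' Ad.mul' (fun c a => by rw [Ad.smul', hAσ]) Ad.one',
      Polynomial.map_map]
    have : σ.comp σ = RingHom.id K := RingHom.ext hσσ
    rw [this, Polynomial.map_id, ← Ad.adjU_val, Ad.adjU_inv]
  rw [h1, hAdj, FCR.card_ker_adj σ hσσ, ← FCR.card_ker_unit_mul (g ^ P.natDegree),
    Units.val_pow_eq_pow_val, reflect_aeval g (P.map σ) P.natDegree natDegree_map_le]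
  rfl

end Cfsg.Agent.Lib.Helper16.GUSemi
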