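import Mathlib
import Cfsg.Agent.Lib.Helper16.GUSemi2

set_option autoImplicit false
set_option linter.unusedSectionVars false
set_option linter.unusedSimpArgs false
set_option linter.unusedVariables false
set_option linter.unusedTactic false

namespace Cfsg.Agent.Lib.Helper16.GUSemi

open Matrix Module Polynomial Cfsg.Agent.Lib.Helper16.PSemi Cfsg.Agent.Lib.Helper16.RN

variable {K : Type*} [Field K]

theorem natDegree_map_sigma (σ : K →+* K) (f : K[X]) : (f.map σ).natDegree = f.natDegree :=
  natDegree_map_eq_of_injective σ.injective f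

theorem dualP_mul (σ : K →+* K) (f g : K[X]) (hf : f ≠ 0) (hg : g ≠ 0) :
    dualP σ (f * g) = dualP σ f * dualP σ g := by
  unfold dualP
  rw [natDegree_mul hf hg, Polynomial.map_mul]
  exact reflect_mul _ _ natDegree_map_le natDegree_map_le

theorem dualP_ne_zero (σ : K →+* K) (f : K[X]) (hf : f ≠ 0) : dualP σ f ≠ 0 := by
  unfold dualP
  rw [Ne, reflect_eq_zero_iff, Polynomial.map_eq_zero_iff σ.injective]
  exact hf

theorem dualP_prod {κ : Type*} [DecidableEq κ] (σ : K →+* K) (f : κ → K[X]) (hf : ∀ k, f k ≠ 0)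
    (S : Finset κ) : dualP σ (∏ k ∈ S, f k) = ∏ k ∈ S, dualP σ (f k) := by
  induction S using Finset.induction_on with
  | empty =>
    simp only [Finset.prod_empty]
    unfold dualP
    rw [natDegree_one, Polynomial.map_one, reflect_one, pow_zero]
  | insert a s ha ih =>
    rw [Finset.prod_insert ha, Finset.prod_insert ha, dualP_mul σ _ _ (hf a)
      (Finset.prod_ne_zero_iff.mpr (fun k _ => hf k)), ih]

theorem dualP_X_sub_one (σ : K →+* K) : dualP σ (X - 1 : K[X]) = 1 - X := by
  unfold dualP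
  have h1 : (X - 1 : K[X]).natDegree = 1 := by
    rw [← C_1]; exact natDegree_X_sub_C 1
  rw [h1, Polynomial.map_sub, Polynomial.map_X, Polynomial.map_one, reflect_sub, reflect_one_X,
    reflect_one, pow_one]

theorem dualP_X_pow_sub_one (σ : K →+* K) (r : ℕ) (hr : 0 < r) :
    dualP σ (X ^ r - 1 : K[X]) = 1 - X ^ r := by
  unfold dualP
  have h1 : (X ^ r - 1 : K[X]).natDegree = r := by
    rw [← C_1]; exact natDegree_X_pow_sub_C
  rw [h1, Polynomial.map_sub, Polynomial.map_pow, Polynomial.map_X, Polynomial.map_one, reflect_sub,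
    reflect_monomial, reflect_one, revAt_le (le_refl r), Nat.sub_self, pow_zero]

theorem natDegree_dualP (σ : K →+* K) (f : K[X]) (h0 : f.coeff 0 ≠ 0) :
    (dualP σ f).natDegree = f.natDegree := by
  unfold dualP
  apply le_antisymm
  · have := natDegree_reflect_le (N := f.natDegree) (p := f.map σ)
    rw [natDegree_map_sigma, max_self] at this
    exact this
  · apply le_natDegree_of_ne_zero
    rw [coeff_reflect, revAt_le (le_refl _), Nat.sub_self, coeff_map]
    intro h
    apply h0
    exact (map_eq_zero σ).mp h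

theorem dualP_dualP (σ : K →+* K) (hσσ : ∀ a, σ (σ a) = a) (f : K[X]) (h0 : f.coeff 0 ≠ 0) :
    dualP σ (dualP σ f) = f := by
  have h1 := natDegree_dualP σ f h0
  have h2 : dualP σ (dualP σ f) = reflect (dualP σ f).natDegree ((dualP σ f).map σ) := rfl
  rw [h2, h1]
  have h3 : dualP σ f = reflect f.natDegree (f.map σ) := rfl
  rw [h3, ← reflect_map, reflect_reflect, Polynomial.map_map]
  have : σ.comp σ = RingHom.id K := RingHom.ext hσσ
  rw [this, Polynomial.map_id]

theorem dualP_mul_C (σ : K →+* K) (p : K[X]) (c : K) (hp : p ≠ 0) (hc : c ≠ 0) :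
    dualP σ (p * C c) = dualP σ p * C (σ c) := by
  rw [dualP_mul σ p (C c) hp (C_ne_zero.mpr hc)]
  congr 1
  have h2 : dualP σ (C c) = reflect (C c : K[X]).natDegree ((C c : K[X]).map σ) := rfl
  rw [h2, natDegree_C, Polynomial.map_C, reflect_C, pow_zero, mul_one]

theorem exists_C_of_associated (p q : K[X]) (h : Associated p q) :
    ∃ c : K, c ≠ 0 ∧ p * C c = q := by
  obtain ⟨u, hu⟩ := h
  obtain ⟨c, hc, hcu⟩ := Polynomial.isUnit_iff.mp u.isUnit
  exact ⟨c, hc.ne_zero, by rw [hcu]; exact hu⟩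

theorem dualP_associated (σ : K →+* K) (p q : K[X]) (hq : q ≠ 0) (h : Associated p q) :
    Associated (dualP σ p) (dualP σ q) := by
  obtain ⟨c, hc, hpq⟩ := exists_C_of_associated p q h
  have hp : p ≠ 0 := by
    intro h0
    rw [h0, zero_mul] at hpq
    exact hq hpq.symm
  rw [← hpq, dualP_mul_C σ p c hp hc]
  have hu : IsUnit (C (σ c) : K[X]) :=
    Polynomial.isUnit_C.mpr (IsUnit.mk0 _ ((map_ne_zero σ).mpr hc))
  exact ⟨hu.unit, by rw [IsUnit.unit_spec]⟩

theorem kd_associated {n : ℕ} (g : Matrix (Fin n) (Fin n) K) (p q : K[X]) (h : Associated p q) :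
    kd g p = kd g q := by
  obtain ⟨c, hc, hpq⟩ := exists_C_of_associated p q h
  unfold kd
  rw [← hpq, map_mul, aeval_C]
  have h1 : aeval (Matrix.toLin' g) p * algebraMap K (Module.End K (Fin n → K)) c
      = c • aeval (Matrix.toLin' g) p := by
    rw [Algebra.algebraMap_eq_smul_one, mul_smul_comm, mul_one]
  rw [h1, LinearMap.ker_smul _ _ hc]

end Cfsg.Agent.Lib.Helper16.GUSemi
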