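import Mathlib
import Cfsg.Agent.Lib.Helper16.GUSemi3

set_option autoImplicit false
set_option linter.unusedSectionVars false
set_option linter.unusedSimpArgs false
set_option linter.unusedVariables false
set_option linter.unusedTactic false

namespace Cfsg.Agent.Lib.Helper16.GUSemi

open Matrix Module Polynomial Cfsg.Agent.Lib.Helper16.PSemi Cfsg.Agent.Lib.Helper16.RN

variable {K : Type*} [Field K]

theorem exists_perm {κ : Type*} [Fintype κ] [DecidableEq κ] (σ : K →+* K) (hσσ : ∀ a, σ (σ a) = a)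
    (f : κ → K[X]) (r b : ℕ) (hr : 0 < r) (hirr : ∀ k, Irreducible (f k))
    (hdeg : ∀ k, (f k).natDegree = b) (hcop : Pairwise (Function.onFun IsCoprime f))
    (hprod : (X - 1) * ∏ k, f k = X ^ r - 1) :
    (∀ k, (f k).coeff 0 ≠ 0) ∧
    ∃ π : κ → κ, (∀ k, π (π k) = k) ∧ ∀ k, Associated (dualP σ (f k)) (f (π k)) := by
  classical
  have hne : ∀ k, f k ≠ 0 := fun k => (hirr k).ne_zero
  have h0 : ∀ k, (f k).coeff 0 ≠ 0 := by
    intro k h
    have h1 : X ∣ f k := Polynomial.X_dvd_iff.mpr h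
    have h2 : f k ∣ X ^ r - 1 := by
      rw [← hprod]
      exact Dvd.dvd.mul_left (Finset.dvd_prod_of_mem f (Finset.mem_univ k)) _
    have h3 := Polynomial.X_dvd_iff.mp (h1.trans h2)
    rw [coeff_sub, coeff_X_pow, coeff_one_zero, if_neg (by omega)] at h3
    have : (1 : K) = 0 := by
      have := neg_eq_zero.mp (by rw [← h3]; ring : -(1 : K) = 0)
      exact this
    exact one_ne_zero this
  refine ⟨h0, ?_⟩
  have hX1 : (X - 1 : K[X]) ≠ 0 := by
    rw [← C_1]; exact X_sub_C_ne_zero 1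
  have hD : ∏ k, dualP σ (f k) = ∏ k, f k := by
    have h1 := congrArg (dualP σ) hprod
    rw [dualP_mul σ _ _ hX1 (Finset.prod_ne_zero_iff.mpr (fun k _ => hne k)), dualP_X_sub_one,
      dualP_prod σ f hne, dualP_X_pow_sub_one σ r hr] at h1
    have h2 : (1 - X : K[X]) * ∏ k, f k = 1 - X ^ r := by
      have : (1 - X : K[X]) * ∏ k, f k = -((X - 1) * ∏ k, f k) := by ring
      rw [this, hprod]; ring
    have h3 : (1 - X : K[X]) ≠ 0 := by
      intro h
      apply hX1
      have : (X - 1 : K[X]) = -(1 - X) := by ring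
      rw [this, h, neg_zero]
    exact mul_left_cancel₀ h3 (h1.trans h2.symm)
  have hex : ∀ j, ∃ k, Associated (f j) (dualP σ (f k)) := by
    intro j
    have hp : Prime (f j) := (hirr j).prime
    have h1 : f j ∣ ∏ k, dualP σ (f k) := by
      rw [hD]; exact Finset.dvd_prod_of_mem f (Finset.mem_univ j)
    obtain ⟨k, _, hk⟩ := (Prime.dvd_finsetProd_iff hp _).mp h1
    refine ⟨k, associated_of_dvd_of_natDegree_le hk (dualP_ne_zero σ _ (hne k)) ?_⟩
    rw [natDegree_dualP σ _ (h0 k), hdeg, hdeg]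
  choose ρ hρ using hex
  have hρ' : ∀ j, Associated (dualP σ (f j)) (f (ρ j)) := by
    intro j
    have h1 := dualP_associated σ _ _ (dualP_ne_zero σ _ (hne (ρ j))) (hρ j)
    rw [dualP_dualP σ hσσ _ (h0 (ρ j))] at h1
    exact h1
  have hinj : ∀ j j', Associated (f j) (f j') → j = j' := by
    intro j j' h
    by_contra hjj
    have hc : IsCoprime (f j) (f j') := hcop hjj
    have h1 : f j ∣ f j' := h.dvd
    have h2 : IsUnit (f j) := hc.isUnit_of_dvd h1
    exact (hirr j).not_isUnit h2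
  refine ⟨ρ, ?_, hρ'⟩
  intro j
  have h1 : Associated (dualP σ (f j)) (dualP σ (f (ρ (ρ j)))) := (hρ' j).trans (hρ (ρ j))
  have h2 := dualP_associated σ _ _ (dualP_ne_zero σ _ (hne _)) h1
  rw [dualP_dualP σ hσσ _ (h0 j), dualP_dualP σ hσσ _ (h0 _)] at h2
  exact (hinj _ _ h2).symm

end Cfsg.Agent.Lib.Helper16.GUSemi
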