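import Mathlib
import Cfsg.Agent.Lib.Helper16.GUSemi4

set_option autoImplicit false
set_option linter.unusedSectionVars false
set_option linter.unusedSimpArgs false
set_option linter.unusedVariables false
set_option linter.unusedTactic false

namespace Cfsg.Agent.Lib.Helper16.GUSemi

open Matrix Module Polynomial

theorem nt_neg_one (r : ℕ) [Fact r.Prime] (hr2 : r ≠ 2) (x : ZMod r) (i : ℕ) (hi : i = orderOf x)
    (hi0 : 0 < i) : (∃ j : ℕ, x ^ (2 * j + 1) = -1) ↔ i % 4 = 2 := by
  have hr : r.Prime := Fact.out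
  have hne : (-1 : ZMod r) ≠ 1 := by
    intro h
    have h2 : (2 : ZMod r) = 0 := by
      have : (1 : ZMod r) + 1 = 0 := by
        nth_rewrite 1 [← h]; ring
      rw [← this]; ring
    have h3 : ((2 : ℕ) : ZMod r) = 0 := by exact_mod_cast h2
    rw [ZMod.natCast_eq_zero_iff] at h3
    have := (Nat.prime_dvd_prime_iff_eq hr Nat.prime_two).mp h3
    exact hr2 this
  constructor
  · rintro ⟨j, hj⟩
    have h1 : x ^ (2 * (2 * j + 1)) = 1 := by
      rw [mul_comm, pow_mul, hj]; ring
    have h2 : i ∣ 2 * (2 * j + 1) := by rw [hi]; exact orderOf_dvd_of_pow_eq_one h1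
    have h3 : ¬ i ∣ (2 * j + 1) := by
      intro h
      rw [hi] at h
      have := orderOf_dvd_iff_pow_eq_one.mp h
      rw [hj] at this
      exact hne this
    rcases Nat.even_or_odd i with he | ho
    · obtain ⟨i', hi'⟩ := he
      have h4 : i' ∣ 2 * j + 1 := by
        have : 2 * i' ∣ 2 * (2 * j + 1) := by
          have : i = 2 * i' := by omega
          rw [← this]; exact h2
        exact (Nat.mul_dvd_mul_iff_left (by norm_num)).mp this
      have h5 : Odd i' := Odd.of_dvd_nat ⟨j, rfl⟩ h4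
      obtain ⟨c, hc⟩ := h5
      omega
    · exfalso
      apply h3
      have hcop : Nat.Coprime i 2 := Nat.coprime_two_right.mpr ho
      exact hcop.dvd_of_dvd_mul_left h2
  · intro h4
    obtain ⟨j, hj⟩ : ∃ j, i = 2 * (2 * j + 1) := ⟨i / 4, by omega⟩
    refine ⟨j, ?_⟩
    have h1 : (x ^ (2 * j + 1)) * (x ^ (2 * j + 1)) = 1 := by
      rw [← pow_add, ← two_mul, ← hj, hi, pow_orderOf_eq_one]
    have h2 : x ^ (2 * j + 1) = 1 ∨ x ^ (2 * j + 1) = -1 := mul_self_eq_one_iff.mp h1
    rcases h2 with h2 | h2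
    · exfalso
      have h3 : i ∣ 2 * j + 1 := by rw [hi]; exact orderOf_dvd_of_pow_eq_one h2
      have := Nat.le_of_dvd (by omega) h3
      omega
    · exact h2

end Cfsg.Agent.Lib.Helper16.GUSemi
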