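import Mathlib
import Cfsg.Agent.Lib.Helper16.GUSemi5

set_option autoImplicit false
set_option linter.unusedSectionVars false
set_option linter.unusedSimpArgs false
set_option linter.unusedVariables false
set_option linter.unusedTactic false

namespace Cfsg.Agent.Lib.Helper16.GUSemi

open Matrix Module Polynomial

variable {K : Type*} [Field K] {E : Type*} [Field E] [Algebra K E]

theorem aeval_frob (φ : E →+* E) (τ : K →+* K)
    (hφ : ∀ c : K, φ (algebraMap K E c) = algebraMap K E (τ c)) (β : E) (P : K[X]) :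
    aeval (φ β) (P.map τ) = φ (aeval β P) := by
  rw [aeval_def, aeval_def, Polynomial.hom_eval₂, eval₂_map]
  congr 1
  exact RingHom.ext (fun c => (hφ c).symm)

theorem roots_of_frob (f : K[X]) (hf : f ≠ 0) (b Q r : ℕ) [Fact r.Prime]
    (hQ0 : 0 < Q) (hdeg : f.natDegree = b)
    (hb : b = orderOf ((Q : ℕ) : ZMod r))
    (hQ : ∀ (β : E), aeval (β ^ Q) f = (aeval β f) ^ Q)
    (ω : E) (hω : aeval ω f = 0) (hωo : orderOf ω = r) (m : ℕ) :
    aeval (ω ^ m) f = 0 ↔ ∃ j : ℕ, (m : ZMod r) = (Q : ZMod r) ^ j := by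
  classical
  have hr : r.Prime := Fact.out
  have hpowroot : ∀ j : ℕ, aeval (ω ^ (Q ^ j)) f = 0 := by
    intro j
    induction j with
    | zero => rw [pow_zero, pow_one]; exact hω
    | succ j ih => rw [pow_succ, pow_mul, hQ, ih, zero_pow (by omega)]
  have hmod : ∀ a c : ℕ, ω ^ a = ω ^ c ↔ (a : ZMod r) = (c : ZMod r) := by
    intro a c
    have hω0 : ω ≠ 0 := by
      intro h0
      rw [h0, orderOf_eq_zero_iff.mpr] at hωo
      · exact hr.ne_zero hωo.symm
      · intro hfin
        obtain ⟨n, hn, hn1⟩ := hfin.exists_pow_eq_one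
        rw [zero_pow (by omega)] at hn1
        exact zero_ne_one hn1
    have hu : orderOf (Units.mk0 ω hω0) = r := by
      rw [← orderOf_units, Units.val_mk0]; exact hωo
    have h1 : ω ^ a = ω ^ c ↔ (Units.mk0 ω hω0) ^ a = (Units.mk0 ω hω0) ^ c := by
      rw [Units.ext_iff, Units.val_pow_eq_pow_val, Units.val_pow_eq_pow_val, Units.val_mk0]
    rw [h1, pow_eq_pow_iff_modEq, hu, ZMod.natCast_eq_natCast_iff]
  constructor
  · intro hroot
    obtain ⟨S, hS⟩ : ∃ S : Finset E, S = Finset.image (fun j : Fin b => ω ^ (Q ^ (j : ℕ))) Finset.univ :=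
      ⟨_, rfl⟩
    have hinj : Function.Injective (fun j : Fin b => ω ^ (Q ^ (j : ℕ))) := by
      intro j j' hjj
      simp only at hjj
      rw [hmod] at hjj
      push_cast at hjj
      apply Fin.ext
      have hj : (j : ℕ) ∈ Set.Iio (orderOf ((Q : ℕ) : ZMod r)) := by
        rw [Set.mem_Iio, ← hb]; exact j.2
      have hj' : (j' : ℕ) ∈ Set.Iio (orderOf ((Q : ℕ) : ZMod r)) := by
        rw [Set.mem_Iio, ← hb]; exact j'.2
      exact pow_injOn_Iio_orderOf hj hj' hjj
    have hScard : S.card = b := by
      rw [hS, Finset.card_image_of_injective _ hinj, Finset.card_univ, Fintype.card_fin]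
    have hfE : f.map (algebraMap K E) ≠ 0 := by
      rw [Ne, Polynomial.map_eq_zero_iff (algebraMap K E).injective]; exact hf
    have hSsub : S ⊆ (f.map (algebraMap K E)).roots.toFinset := by
      intro x hx
      rw [hS, Finset.mem_image] at hx
      obtain ⟨j, _, rfl⟩ := hx
      rw [Multiset.mem_toFinset, mem_roots hfE, IsRoot.def, eval_map, ← aeval_def]
      exact hpowroot j
    have hcardle : (f.map (algebraMap K E)).roots.toFinset.card ≤ b := by
      calc (f.map (algebraMap K E)).roots.toFinset.card ≤ Multiset.card (f.map (algebraMap K E)).roots :=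
            Multiset.toFinset_card_le _
        _ ≤ (f.map (algebraMap K E)).natDegree := Polynomial.card_roots' _
        _ ≤ f.natDegree := natDegree_map_le
        _ = b := hdeg
    have hSeq : S = (f.map (algebraMap K E)).roots.toFinset :=
      Finset.eq_of_subset_of_card_le hSsub (by rw [hScard]; exact hcardle)
    have hmem : ω ^ m ∈ S := by
      rw [hSeq, Multiset.mem_toFinset, mem_roots hfE, IsRoot.def, eval_map, ← aeval_def]
      exact hroot
    rw [hS, Finset.mem_image] at hmem
    obtain ⟨j, _, hj⟩ := hmem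
    refine ⟨j, ?_⟩
    have := (hmod _ _).mp hj.symm
    push_cast at this
    exact this
  · rintro ⟨j, hj⟩
    have h1 : ω ^ m = ω ^ (Q ^ j) := by
      rw [hmod]; push_cast; exact hj
    rw [h1]
    exact hpowroot j

end Cfsg.Agent.Lib.Helper16.GUSemi
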