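import Mathlib
import Cfsg.Agent.Lib.Helper16.GUSemi6
import Cfsg.Agent.Lib.Helper16.UnitaryFixed

set_option autoImplicit false
set_option linter.unusedSectionVars false
set_option linter.unusedSimpArgs false
set_option linter.unusedVariables false
set_option linter.unusedTactic false

namespace Cfsg.Agent.Lib.Helper16.GUSemi

open Matrix Module Polynomial

variable {K : Type*} [Field K] {E : Type*} [Field E] [Algebra K E]

theorem dual_root_iff [Fintype K] {p q : ℕ} [Fact p.Prime] [CharP K p]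
    (hK : Fintype.card K = q ^ 2) (σ : K →+* K) (hσ : ∀ x, σ x = x ^ q) (r : ℕ) [Fact r.Prime]
    (hrp : r ≠ p) (f : K[X]) (hf : f ≠ 0) (b : ℕ) (hdeg : f.natDegree = b)
    (hb : b = orderOf (((q ^ 2 : ℕ) : ℕ) : ZMod r)) (ω : E) (hω : aeval ω f = 0)
    (hωr : ω ^ r = 1) (hω1 : ω ≠ 1) :
    aeval ω (dualP σ f) = 0 ↔ ∃ j : ℕ, (q : ZMod r) ^ (2 * j + 1) = -1 := by
  classical
  have hr : r.Prime := Fact.out
  have hp : p.Prime := Fact.out
  obtain ⟨p', a, hp', hcp', hqa⟩ := Cfsg.Agent.Lib.Helper16.exists_char_pow hK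
  have hpp : p' = p := CharP.eq K hcp' ‹CharP K p›
  subst hpp
  have hq0 : 0 < q := by rw [hqa]; exact pow_pos hp.pos a
  have hcE : CharP E p' := charP_of_injective_algebraMap (algebraMap K E).injective p'
  obtain ⟨φ, hφ⟩ : ∃ φ : E →+* E, ∀ x, φ x = x ^ q :=
    ⟨iterateFrobenius E p' a, fun x => by rw [iterateFrobenius_def, hqa]⟩
  obtain ⟨φ2, hφ2⟩ : ∃ φ2 : E →+* E, ∀ x, φ2 x = x ^ (q ^ 2) :=
    ⟨φ.comp φ, fun x => by rw [RingHom.comp_apply, hφ, hφ, ← pow_mul, pow_two]⟩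
  have hφK : ∀ c : K, φ (algebraMap K E c) = algebraMap K E (σ c) := by
    intro c; rw [hφ, hσ, map_pow]
  have hφ2K : ∀ c : K, φ2 (algebraMap K E c) = algebraMap K E ((RingHom.id K) c) := by
    intro c
    rw [hφ2, RingHom.id_apply, ← map_pow, ← hK, FiniteField.pow_card]
  have hQ : ∀ β : E, aeval (β ^ (q ^ 2)) f = (aeval β f) ^ (q ^ 2) := by
    intro β
    have := aeval_frob φ2 (RingHom.id K) hφ2K β f
    rw [Polynomial.map_id, hφ2, hφ2] at this
    exact this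
  have hωo : orderOf ω = r := orderOf_eq_prime hωr hω1
  have hω0 : ω ≠ 0 := by
    intro h0
    rw [h0, zero_pow hr.ne_zero] at hωr
    exact zero_ne_one hωr
  have hqr : (q : ZMod r) ≠ 0 := by
    intro h
    rw [ZMod.natCast_eq_zero_iff, hqa] at h
    have := hr.dvd_of_dvd_pow h
    exact hrp ((Nat.prime_dvd_prime_iff_eq hr hp).mp this)
  -- step 1 : reflect
  have h1 : aeval ω (dualP σ f) = 0 ↔ aeval ω⁻¹ (f.map σ) = 0 := by
    let _ : Invertible (ω⁻¹) := ⟨ω, mul_inv_cancel₀ hω0, inv_mul_cancel₀ hω0⟩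
    have := eval₂_reflect_eq_zero_iff (algebraMap K E) (ω⁻¹) f.natDegree (f.map σ) natDegree_map_le
    rw [aeval_def, aeval_def]
    exact this
  -- step 2 : choose e
  obtain ⟨e, he⟩ : ∃ e : ℕ, (e : ZMod r) * (q : ZMod r) = -1 := by
    refine ⟨(-(q : ZMod r)⁻¹).val, ?_⟩
    rw [ZMod.natCast_val, ZMod.cast_id', id_eq, neg_mul, inv_mul_cancel₀ hqr]
  have hβ : (ω ^ e) ^ q = ω⁻¹ := by
    rw [← pow_mul]
    apply eq_inv_of_mul_eq_one_left
    rw [← pow_succ]
    have h2 : ((e * q + 1 : ℕ) : ZMod r) = 0 := by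
      push_cast; rw [he]; ring
    rw [ZMod.natCast_eq_zero_iff, ← hωo] at h2
    exact orderOf_dvd_iff_pow_eq_one.mp h2
  have h3 : aeval ω⁻¹ (f.map σ) = (aeval (ω ^ e) f) ^ q := by
    rw [← hβ, ← hφ, aeval_frob φ σ hφK, hφ]
  rw [h1, h3, pow_eq_zero_iff (by omega),
    roots_of_frob f hf b (q ^ 2) r (by positivity) hdeg hb hQ ω hω hωo e]
  constructor
  · rintro ⟨j, hj⟩
    refine ⟨j, ?_⟩
    rw [← he, hj]
    push_cast
    ring
  · rintro ⟨j, hj⟩
    refine ⟨j, ?_⟩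
    have h4 : (e : ZMod r) * (q : ZMod r) = ((q : ZMod r) ^ 2) ^ j * (q : ZMod r) := by
      rw [he, ← hj]; ring
    have := mul_right_cancel₀ hqr h4
    rw [this]
    push_cast
    ring

end Cfsg.Agent.Lib.Helper16.GUSemi
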