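import Mathlib
import Cfsg.Agent.Lib.Helper16.PSemi5

set_option autoImplicit false
set_option linter.unusedSectionVars false
set_option linter.unusedSimpArgs false
set_option linter.unusedVariables false
set_option linter.unusedTactic false

namespace Cfsg.Agent.Lib.Helper16.GUSemi

open Cfsg.Agent.Lib.Helper16.PSemi

section
variable {κ : Type*} [Fintype κ] [DecidableEq κ] (π : κ → κ) (P : κ → Prop) [DecidablePred P]

theorem sum_invariant (hππ : ∀ k, π (π k) = k) (hP : ∀ k, P (π k) ↔ ¬ P k) (a : κ → ℕ)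
    (ha : ∀ k, a (π k) = a k) : ∑ k, a k = 2 * ∑ y : {k // P k}, a y.1 := by
  classical
  rw [← Finset.sum_filter_add_sum_filter_not Finset.univ P a]
  have h1 : ∑ k ∈ Finset.univ.filter (fun k => ¬ P k), a k = ∑ k ∈ Finset.univ.filter P, a k := by
    apply Finset.sum_nbij' π π
    · intro k hk
      rw [Finset.mem_filter] at hk ⊢
      exact ⟨Finset.mem_univ _, (hP k).mpr hk.2⟩
    · intro k hk
      rw [Finset.mem_filter] at hk ⊢
      exact ⟨Finset.mem_univ _, fun h => ((hP k).mp h) hk.2⟩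
    · intro k _; exact hππ k
    · intro k _; exact hππ k
    · intro k _; exact (ha k).symm
  rw [h1, ← two_mul]
  congr 1
  exact Finset.sum_subtype (Finset.univ.filter P) (fun x => by simp) a

/-- extension of a function on the `P`-half to a `π`-invariant function -/
def extInv (hP : ∀ k, P (π k) ↔ ¬ P k) (a' : {k // P k} → ℕ) (k : κ) : ℕ :=
  if h : P k then a' ⟨k, h⟩ else a' ⟨π k, (hP k).mpr h⟩

theorem extInv_pos (hP : ∀ k, P (π k) ↔ ¬ P k) (a' : {k // P k} → ℕ) (k : κ) (h : P k) :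
    extInv π P hP a' k = a' ⟨k, h⟩ := by
  unfold extInv; rw [dif_pos h]

theorem extInv_neg (hP : ∀ k, P (π k) ↔ ¬ P k) (a' : {k // P k} → ℕ) (k : κ) (h : ¬ P k) :
    extInv π P hP a' k = a' ⟨π k, (hP k).mpr h⟩ := by
  unfold extInv; rw [dif_neg h]

theorem extInv_inv (hππ : ∀ k, π (π k) = k) (hP : ∀ k, P (π k) ↔ ¬ P k) (a' : {k // P k} → ℕ)
    (k : κ) : extInv π P hP a' (π k) = extInv π P hP a' k := by
  by_cases h : P k
  · have h1 : ¬ P (π k) := fun h' => ((hP k).mp h') h
    rw [extInv_neg π P hP a' _ h1, extInv_pos π P hP a' _ h]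
    congr 1
    apply Subtype.ext
    exact hππ k
  · have h1 : P (π k) := (hP k).mpr h
    rw [extInv_pos π P hP a' _ h1, extInv_neg π P hP a' _ h]

theorem card_invariant_tuples_aux (hππ : ∀ k, π (π k) = k) (hP : ∀ k, P (π k) ↔ ¬ P k)
    (s b n : ℕ) (hb : 0 < b) (hκ : Fintype.card κ = s) :
    Nat.card {a : κ → ℕ // b * ∑ k, a k ≤ n ∧ a ≠ 0 ∧ ∀ k, a (π k) = a k}
      = (n / (2 * b) + s / 2).choose (s / 2) - 1 := by
  classical
  have hcard' : Fintype.card {k // P k} = s / 2 := by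
    have h1 := sum_invariant π P hππ hP (fun _ => 1) (fun _ => rfl)
    simp only [Finset.sum_const, Finset.card_univ, smul_eq_mul, mul_one] at h1
    rw [hκ] at h1
    omega
  rw [← card_tuples (κ := {k // P k}) (s / 2) (2 * b) n (by omega) hcard']
  apply Nat.card_congr
  refine ⟨fun a => ⟨fun y => a.1 y.1, ?_, ?_⟩,
    fun a' => ⟨extInv π P hP a'.1, ?_, ?_, extInv_inv π P hππ hP a'.1⟩, ?_, ?_⟩
  · have h1 := sum_invariant π P hππ hP a.1 a.2.2.2
    have h2 := a.2.1
    rw [h1, ← mul_assoc, mul_comm b 2] at h2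
    exact h2
  · intro h0
    apply a.2.2.1
    funext k
    have h3 : ∀ y : {k // P k}, a.1 y.1 = 0 := fun y => congrFun h0 y
    by_cases h : P k
    · exact h3 ⟨k, h⟩
    · have := h3 ⟨π k, (hP k).mpr h⟩
      rw [a.2.2.2] at this
      exact this
  · have h1 := sum_invariant π P hππ hP (extInv π P hP a'.1) (extInv_inv π P hππ hP a'.1)
    rw [h1]
    have h2 : ∑ y : {k // P k}, extInv π P hP a'.1 y.1 = ∑ y, a'.1 y := by
      apply Finset.sum_congr rfl
      intro y _
      rw [extInv_pos π P hP a'.1 y.1 y.2]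
    rw [h2, ← mul_assoc, mul_comm b 2]
    exact a'.2.1
  · intro h0
    apply a'.2.2
    funext y
    have := congrFun h0 y.1
    rw [extInv_pos π P hP a'.1 y.1 y.2] at this
    exact this
  · intro a
    apply Subtype.ext
    funext k
    show extInv π P hP (fun y => a.1 y.1) k = a.1 k
    by_cases h : P k
    · rw [extInv_pos π P hP _ k h]
    · rw [extInv_neg π P hP _ k h]
      exact a.2.2.2 k
  · intro a'
    apply Subtype.ext
    funext y
    show extInv π P hP a'.1 y.1 = a'.1 y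
    rw [extInv_pos π P hP a'.1 y.1 y.2]

end

theorem card_invariant_tuples {κ : Type*} [Fintype κ] [DecidableEq κ] (π : κ → κ)
    (hππ : ∀ k, π (π k) = k) (hfp : ∀ k, π k ≠ k) (s b n : ℕ) (hb : 0 < b)
    (hκ : Fintype.card κ = s) :
    Nat.card {a : κ → ℕ // b * ∑ k, a k ≤ n ∧ a ≠ 0 ∧ ∀ k, a (π k) = a k}
      = (n / (2 * b) + s / 2).choose (s / 2) - 1 := by
  classical
  obtain ⟨e⟩ : Nonempty (κ ≃ Fin s) := ⟨Fintype.equivFinOfCardEq hκ⟩
  have hne : ∀ k, e k ≠ e (π k) := fun k h => hfp k (e.injective h).symm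
  apply card_invariant_tuples_aux π (fun k => e k < e (π k)) hππ _ s b n hb hκ
  intro k
  rw [hππ]
  constructor
  · intro h h'
    exact lt_asymm h h'
  · intro h
    exact lt_of_le_of_ne (not_lt.mp h) (Ne.symm (hne k))

end Cfsg.Agent.Lib.Helper16.GUSemi
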