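import Mathlib
import Cfsg.Agent.Lib.Helper16.GUSemi7
import Cfsg.Agent.Lib.Helper16.GUSemi8
import Cfsg.Agent.Lib.Helper16.GUUnip
import Cfsg.Agent.Lib.Helper16.PSemi7

set_option autoImplicit false
set_option linter.unusedSectionVars false
set_option linter.unusedSimpArgs false
set_option linter.unusedVariables false
set_option linter.unusedTactic false

namespace Cfsg.Agent.Lib.Helper16.GUSemi

open Matrix Module Polynomial Cfsg.Agent.Lib.Helper16.PSemi Cfsg.Agent.Lib.Helper16.RN

universe u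

variable {K : Type u} [Field K]

theorem conj_into_gu_of_dual [Fintype K] {q n : ℕ} (hK : Fintype.card K = q ^ 2) (σ : K →+* K)
    (Ad : AdjData (Fin n) K) (hσ : ∀ x, σ x = x ^ q) (hAdj : ∀ a, Ad.adj a = (a.map σ)ᵀ)
    (g : GL (Fin n) K) (h : IsConj g (Ad.adjU g)⁻¹) :
    ∃ B : ↥(Cfsg.GU n K q), IsConj g (B : GL (Fin n) K) := by
  rw [FCR.gu_conj_iff_self_dual hK g]
  have hrhs : (((g : Matrix (Fin n) (Fin n) K).map (fun x : K => x ^ q)).transpose)⁻¹
      = ((Ad.adjU g)⁻¹).1 := by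
    rw [Matrix.coe_units_inv, Ad.adjU_val, hAdj]
    congr 2
    ext i j
    simp only [Matrix.map_apply, hσ]
  rw [hrhs]
  obtain ⟨c, hc⟩ := isConj_iff.mp h
  refine ⟨c, ?_⟩
  show c.1 * g.1 = ((Ad.adjU g)⁻¹).1 * c.1
  rw [← Units.val_mul, ← Units.val_mul, ← hc]
  congr 1
  group

theorem kd_conj_gl {n : ℕ} (g g' : GL (Fin n) K) (h : IsConj g g') (P : K[X]) :
    kd g.1 P = kd g'.1 P := by
  obtain ⟨c, hc⟩ := isConj_iff.mp h
  apply kd_conj g.1 g'.1 c.1 ((Matrix.isUnit_iff_isUnit_det _).mp c.isUnit)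
  rw [← Units.val_mul, ← Units.val_mul, ← hc]
  congr 1
  group

theorem orderOf_quad (r : ℕ) (x : ZMod r) (i b : ℕ) (hi : i = orderOf x)
    (hb : b = if Odd i then i else i / 2) : b = orderOf (x ^ 2) := by
  rw [orderOf_pow' x (by norm_num), ← hi, hb]
  rcases Nat.even_or_odd i with he | ho
  · have h1 : ¬ Odd i := Nat.not_odd_iff_even.mpr he
    rw [if_neg h1]
    rcases Nat.eq_zero_or_pos i with h0 | h0
    · rw [h0]; simp
    · have : Nat.gcd i 2 = 2 := Nat.gcd_eq_right he.two_dvd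
      rw [this]
  · rw [if_pos ho]
    have : Nat.gcd i 2 = 1 := Nat.coprime_two_right.mpr ho
    rw [this, Nat.div_one]

theorem aeval_zero_of_associated {E : Type*} [Field E] [Algebra K E] (p q : K[X])
    (h : Associated p q) (x : E) (hp : aeval x p = 0) : aeval x q = 0 := by
  obtain ⟨u, hu⟩ := h
  rw [← hu, map_mul, hp, zero_mul]

theorem kd_one_eq_zero {n : ℕ} (P : K[X]) (hP : aeval (1 : K) P ≠ 0) :
    kd (1 : Matrix (Fin n) (Fin n) K) P = 0 := by
  unfold kd
  have h4 : aeval (Matrix.toLin' (1 : Matrix (Fin n) (Fin n) K)) P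
      = (aeval (1 : K) P) • LinearMap.id := by
    rw [Matrix.toLin'_one]
    have h5 : (LinearMap.id : (Fin n → K) →ₗ[K] (Fin n → K))
        = algebraMap K (Module.End K (Fin n → K)) 1 := by
      rw [map_one]; rfl
    rw [h5, aeval_algebraMap_apply, map_one, Algebra.algebraMap_eq_smul_one]
  rw [h4]
  have h6 : LinearMap.ker ((aeval (1 : K) P) • (LinearMap.id : (Fin n → K) →ₗ[K] (Fin n → K))) = ⊥ := by
    rw [LinearMap.ker_eq_bot']
    intro v hv
    rw [LinearMap.smul_apply, LinearMap.id_apply] at hv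
    exact (smul_eq_zero.mp hv).resolve_left hP
  rw [h6, finrank_bot]

theorem gu_order_r_classes [Fintype K] {p q n r i b s : ℕ} [Fact p.Prime] [CharP K p]
    (hK : Fintype.card K = q ^ 2) (hr : r.Prime) (hr2 : r ≠ 2) (hrp : r ≠ p)
    (hi : i = orderOf (q : ZMod r)) (hi2 : i ≠ 2) (hb : b = if Odd i then i else i / 2)
    (hs : s * b = r - 1) :
    Nat.card {C : ConjClasses ↥(Cfsg.GU n K q) //
      ∃ g : ↥(Cfsg.GU n K q), ConjClasses.mk g = C ∧ orderOf g = r}
      = if i % 4 = 2 then Nat.choose (2 * n / i + s) s - 1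
        else Nat.choose (n / (2 * b) + s / 2) (s / 2) - 1 := by
  classical
  have : Fact r.Prime := ⟨hr⟩
  have hr2' : 2 ≤ r := hr.two_le
  have hb0 : 0 < b := by
    rcases Nat.eq_zero_or_pos b with h | h
    · rw [h, mul_zero] at hs; omega
    · exact h
  have hi0 : 0 < i := by
    rcases Nat.eq_zero_or_pos i with h | h
    · rw [h] at hb; simp at hb; omega
    · exact h
  have hcast : ((q ^ 2 : ℕ) : ZMod r) = (q : ZMod r) ^ 2 := by push_cast; rfl
  have hb' : b = orderOf (((q ^ 2 : ℕ)) : ZMod r) := by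
    rw [hcast]; exact orderOf_quad r _ i b hi hb
  obtain ⟨κ, hκF, hκD, f, E, hEF, hEA, hEfin, ω, hκcard, hirr, hdeg, hcop, hprod, hf1, hω0, hωne,
    hωr, hreal, hclass, hdivsum⟩ := gl_order_r_param hK n r b s hr hrp hb' hs
  obtain ⟨σ, Ad, θ₀, hσ, hσσ, hθ₀, hAdσ, hAdj, hGU⟩ := FCR.gu_data n hK
  obtain ⟨hcoeff0, π, hππ, hπ⟩ := exists_perm σ hσσ f r b hr.pos hirr hdeg hcop hprod
  have hkdual : ∀ (g : GL (Fin n) K) (k : κ), kd ((Ad.adjU g)⁻¹).1 (f k) = kd g.1 (f (π k)) := by
    intro g k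
    rw [kd_dual σ hσσ Ad hAdσ hAdj g (f k)]
    exact kd_associated _ _ _ (hπ k)
  have hω1 : ∀ k, ω k ≠ 1 := by
    intro k h1
    have h2 := hω0 k
    rw [h1] at h2
    have h3 : aeval (1 : E) (f k) = algebraMap K E (aeval (1 : K) (f k)) := by
      rw [← aeval_algebraMap_apply, map_one]
    rw [h3] at h2
    exact hf1 k ((map_eq_zero_iff _ (algebraMap K E).injective).mp h2)
  have hfix : ∀ k, π k = k ↔ i % 4 = 2 := by
    intro k
    rw [← nt_neg_one r hr2 (q : ZMod r) i hi hi0,
      ← dual_root_iff hK σ hσ r hrp (f k) (hirr k).ne_zero b (hdeg k) hb' (ω k) (hω0 k) (hωr k)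
        (hω1 k)]
    constructor
    · intro h
      have h1 := hπ k
      rw [h] at h1
      exact aeval_zero_of_associated _ _ h1.symm (ω k) (hω0 k)
    · intro h
      by_contra hne
      exact hωne (π k) k hne (aeval_zero_of_associated _ _ (hπ k) (ω k) h)
  have hadjpow : ∀ g : GL (Fin n) K, g.1 ^ r = 1 → ((Ad.adjU g)⁻¹).1 ^ r = 1 := by
    intro g hg
    have h1 : g ^ r = 1 := Units.ext (by rw [Units.val_pow_eq_pow_val, hg, Units.val_one])
    rw [← Units.val_pow_eq_pow_val, ← Ad.adjU_inv, ← Units.val_one]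
    congr 1
    have h2 : ∀ (x : GL (Fin n) K) (j : ℕ), (Ad.adjU x) ^ j = Ad.adjU (x ^ j) := by
      intro x j
      induction j with
      | zero => rw [pow_zero, pow_zero, Ad.adjU_one]
      | succ j ih => rw [pow_succ, ih, pow_succ', Ad.adjU_mul]
    rw [h2, inv_pow, h1, inv_one, Ad.adjU_one]
  have hGUinv : ∀ B : GL (Fin n) K, B ∈ Cfsg.GU n K q → (Ad.adjU B)⁻¹ = B := by
    intro B hB
    rw [hGU] at hB
    rw [inv_eq_iff_eq_inv]
    exact eq_inv_of_mul_eq_one_left hB
  have hstep : ∀ g : GL (Fin n) K, g.1 ^ r = 1 →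
      ((∃ B : ↥(Cfsg.GU n K q), IsConj g (B : GL (Fin n) K)) ↔
        ∀ k, kd g.1 (f (π k)) = kd g.1 (f k)) := by
    intro g hg
    constructor
    · rintro ⟨B, hB⟩ k
      rw [kd_conj_gl g B.1 hB, kd_conj_gl g B.1 hB, ← hkdual, hGUinv B.1 B.2]
    · intro h
      apply conj_into_gu_of_dual hK σ Ad hσ hAdj g
      apply hclass g _ hg (hadjpow g hg)
      intro k
      rw [hkdual]
      exact (h k).symm
  have hpowGL : ∀ g : GL (Fin n) K, orderOf g = r → g.1 ^ r = 1 := by
    intro g hg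
    rw [← Units.val_pow_eq_pow_val, ← hg, pow_orderOf_eq_one, Units.val_one]
  by_cases hi4 : i % 4 = 2
  · rw [if_pos hi4]
    have hπid : ∀ k, π k = k := fun k => (hfix k).mpr hi4
    have h1 := FCR.card_classes_subgroup (Cfsg.GU n K q) (fun g : GL (Fin n) K => orderOf g = r)
      (by
        intro a c hac ha
        obtain ⟨d, hd⟩ := isConj_iff.mp hac
        rw [← hd]
        have := (MulAut.conj d).orderOf_eq a
        rw [MulAut.conj_apply] at this
        rw [this]; exact ha)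
      (fun a c hac => (FCR.gu_conj_iff hK a c).mpr hac)
      (by
        intro a ha
        apply (hstep a (hpowGL a ha)).mpr
        intro k
        rw [hπid])
    simp only [Subgroup.orderOf_coe] at h1
    rw [h1, PSemi.gl_order_r_classes hK n r b s hr hrp hb' hs]
    have hodd : ¬ Odd i := by
      rw [Nat.not_odd_iff_even, Nat.even_iff]; omega
    rw [if_neg hodd] at hb
    have hi2b : i = 2 * b := by omega
    rw [hi2b, Nat.mul_div_mul_left _ _ (by norm_num : 0 < 2)]
  · rw [if_neg hi4]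
    have hπne : ∀ k, π k ≠ k := fun k h => hi4 ((hfix k).mp h)
    have hone : (1 : Matrix (Fin n) (Fin n) K) ^ r = 1 := one_pow r
    have hreal' : ∀ a : {a : κ → ℕ // b * ∑ k, a k ≤ n ∧ a ≠ 0 ∧ ∀ k, a (π k) = a k},
        ∃ B : ↥(Cfsg.GU n K q), B.1.1 ^ r = 1 ∧ ∀ k, kd B.1.1 (f k) = b * a.1 k := by
      intro a
      obtain ⟨g, hg, hgk⟩ := hreal a.1 a.2.1
      obtain ⟨B, hB⟩ := (hstep g hg).mpr (fun k => by rw [hgk, hgk, a.2.2.2 k])
      refine ⟨B, ?_, ?_⟩
      · obtain ⟨d, hd⟩ := isConj_iff.mp hB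
        rw [← hd, ← Units.val_pow_eq_pow_val, conj_pow, ← Units.val_one]
        congr 1
        have h1 : g ^ r = 1 := Units.ext (by rw [Units.val_pow_eq_pow_val, hg, Units.val_one])
        rw [h1, mul_one, mul_inv_cancel]
      · intro k
        rw [← kd_conj_gl g B.1 hB, hgk]
    choose rep hrep1 hrep2 using hreal'
    rw [PGLI.card_classes_of_reps (fun g : ↥(Cfsg.GU n K q) => orderOf g = r)
      {a : κ → ℕ // b * ∑ k, a k ≤ n ∧ a ≠ 0 ∧ ∀ k, a (π k) = a k} rep]
    · exact card_invariant_tuples π hππ hπne s b n hb0 hκcard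
    · intro a
      rw [orderOf_eq_prime_iff]
      refine ⟨Subtype.ext (Units.ext ?_), ?_⟩
      · rw [Subgroup.coe_pow, Units.val_pow_eq_pow_val, hrep1 a]; rfl
      · intro h1
        apply a.2.2.1
        funext k
        have h7 := hrep2 a k
        rw [h1] at h7
        have h8 : kd ((1 : ↥(Cfsg.GU n K q)).1.1) (f k) = 0 := kd_one_eq_zero (f k) (hf1 k)
        rw [h8] at h7
        rcases Nat.eq_zero_or_pos (a.1 k) with h9 | h9
        · exact h9
        · exfalso
          have := Nat.mul_pos hb0 h9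
          omega
    · intro g hg
      have hgGL : orderOf g.1 = r := by rw [Subgroup.orderOf_coe]; exact hg
      have hgr : g.1.1 ^ r = 1 := hpowGL g.1 hgGL
      have hg1 : g ≠ 1 := by
        intro h
        rw [h, orderOf_one] at hg
        omega
      obtain ⟨a, ha⟩ : ∃ a : κ → ℕ, ∀ k, b * a k = kd g.1.1 (f k) :=
        ⟨fun k => kd g.1.1 (f k) / b, fun k => Nat.mul_div_cancel' ((hdivsum g.1.1 hgr).1 k)⟩
      have hsumg := (hdivsum g.1.1 hgr).2
      have ha1 : b * ∑ k, a k ≤ n := by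
        rw [Finset.mul_sum, Finset.sum_congr rfl (fun k _ => ha k)]
        omega
      have ha2 : a ≠ 0 := by
        intro h0
        have h1 : ∑ k, kd g.1.1 (f k) = 0 := by
          apply Finset.sum_eq_zero
          intro k _
          rw [← ha k, h0]
          simp
        rw [h1, add_zero] at hsumg
        apply hg1
        have h2 : LinearMap.ker (aeval (Matrix.toLin' g.1.1) (X - 1 : K[X])) = ⊤ := by
          apply Submodule.eq_top_of_finrank_eq
          rw [Module.finrank_fintype_fun_eq_card, Fintype.card_fin]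
          exact hsumg
        have h3 : aeval (Matrix.toLin' g.1.1) (X - 1 : K[X]) = 0 := LinearMap.ker_eq_top.mp h2
        rw [map_sub, aeval_X, map_one, sub_eq_zero] at h3
        apply Subtype.ext
        apply Units.ext
        show g.1.1 = 1
        apply Matrix.toLin'.injective
        rw [h3, Matrix.toLin'_one]
        rfl
      have ha3 : ∀ k, a (π k) = a k := by
        intro k
        have h1 := (hstep g.1 hgr).mp ⟨g, IsConj.refl _⟩ k
        rw [← ha, ← ha] at h1
        exact Nat.eq_of_mul_eq_mul_left hb0 h1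
      refine ⟨⟨a, ha1, ha2, ha3⟩, ?_⟩
      rw [FCR.gu_conj_iff hK]
      apply hclass g.1 _ hgr (hrep1 _)
      intro k
      rw [hrep2 ⟨a, ha1, ha2, ha3⟩ k, ← ha k]
    · intro a a' hconj
      rw [FCR.gu_conj_iff hK] at hconj
      apply Subtype.ext
      funext k
      have h2 := kd_conj_gl _ _ hconj (f k)
      rw [hrep2, hrep2] at h2
      exact Nat.eq_of_mul_eq_mul_left hb0 h2

end Cfsg.Agent.Lib.Helper16.GUSemi
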