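import Mathlib
import Cfsg.Agent.Lib.Helper16.UReg
import Cfsg.Agent.Lib.Helper16.UExist

set_option autoImplicit false
set_option linter.unusedSectionVars false
set_option linter.unusedSimpArgs false
set_option linter.unusedVariables false

namespace Cfsg.Agent.Lib.Helper16.RN

open Matrix Module

variable {K : Type*} [Field K] {n : ℕ}

theorem exists_eps [Fintype K] {q : ℕ} (hK : Fintype.card K = q ^ 2) (σ : K →+* K)
    (hσ : ∀ x, σ x = x ^ q) (hσσ : ∀ x, σ (σ x) = x) (n : ℕ) :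
    ∃ ε : K, ε ≠ 0 ∧ σ ε = (-1) ^ (n - 1) * ε := by
  rcases Nat.even_or_odd (n - 1) with h | h
  · exact ⟨1, one_ne_zero, by rw [h.neg_one_pow, map_one, mul_one]⟩
  · obtain ⟨δ, hδ⟩ := Cfsg.Agent.Lib.Lead.HI.exists_not_fixed hK
    refine ⟨δ - σ δ, ?_, ?_⟩
    · rw [hσ]
      exact sub_ne_zero.mpr (Ne.symm hδ)
    · rw [h.neg_one_pow, map_sub, hσσ]
      ring

end Cfsg.Agent.Lib.Helper16.RN

namespace Cfsg.Agent.Lib.Helper16.RN

open Matrix Module

variable {K : Type*} [Field K] {n : ℕ}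

theorem exists_reg_unip_gu [Fintype K] {q : ℕ} (hK : Fintype.card K = q ^ 2) (hn : 1 ≤ n)
    (σ : K →+* K) (hσ : ∀ x, σ x = x ^ q) (hσσ : ∀ x, σ (σ x) = x) :
    ∃ U : Matrix (Fin n) (Fin n) K, U * (uAdj n σ hσσ).adj U = 1 ∧ (U - 1) ^ n = 0 ∧
      (U - 1).rank = n - 1 := by
  obtain ⟨ε, hε0, hε⟩ := exists_eps hK σ hσ hσσ n
  have hσne : σ ≠ RingHom.id K := by
    obtain ⟨δ, hδ⟩ := Cfsg.Agent.Lib.Lead.HI.exists_not_fixed hK
    intro h
    apply hδ
    rw [← hσ, h]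
    rfl
  set Φ := antiPhi n ε with hΦ
  have hΦh := antiPhi_herm σ ε hε
  obtain ⟨Q, hQ⟩ := exists_herm_congr σ hσne hσσ Φ hΦh (antiPhi_isUnit ε hε0)
  set A := uAdj n σ hσσ with hA
  set S := shiftN K n with hS
  set P := A.adj Q * Φ with hP
  have hPQ : P * Q = 1 := hQ
  have hQP : Q * P = 1 := mul_eq_one_comm.mp hPQ
  set T := P * S * Q with hT
  have hTpow : ∀ j : ℕ, T ^ j = P * S ^ j * Q := by
    intro j
    induction j with
    | zero => rw [pow_zero, pow_zero, mul_one, hPQ]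
    | succ j ih =>
      rw [pow_succ, ih, hT]
      calc P * S ^ j * Q * (P * S * Q) = P * S ^ j * (Q * P) * S * Q := by
            simp only [Matrix.mul_assoc]
        _ = P * S ^ (j + 1) * Q := by rw [hQP, mul_one, pow_succ]; simp only [Matrix.mul_assoc]
  have hTnil : T ^ n = 0 := by
    rw [hTpow, hS, shiftN_pow_self, mul_zero, zero_mul]
  have hPu : IsUnit P.det := (Matrix.isUnit_iff_isUnit_det _).mp ⟨⟨P, Q, hPQ, hQP⟩, rfl⟩
  have hQu : IsUnit Q.det := (Matrix.isUnit_iff_isUnit_det _).mp ⟨⟨Q, P, hQP, hPQ⟩, rfl⟩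
  have hTrank : T.rank = n - 1 := by
    rw [hT, Matrix.rank_mul_eq_left_of_isUnit_det _ _ hQu,
      Matrix.rank_mul_eq_right_of_isUnit_det _ _ hPu]
    obtain ⟨m, rfl⟩ : ∃ m, n = m + 1 := ⟨n - 1, by omega⟩
    rw [hS, rank_shiftN]
    rfl
  have hSadj : A.adj S = Sᵀ := by
    rw [hA, uAdj_apply]
    congr 1
    ext i j
    simp only [Matrix.map_apply, hS, shiftN, Matrix.of_apply]
    split_ifs <;> simp
  have hΦadj : A.adj Φ = Φ := hΦh
  have hTadj : A.adj T = -T := by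
    rw [hT, A.mul', A.mul', hP, A.mul', A.inv', hΦadj, hSadj]
    calc A.adj Q * (Sᵀ * (Φ * Q)) = A.adj Q * ((Sᵀ * Φ) * Q) := by simp only [Matrix.mul_assoc]
      _ = A.adj Q * (-(Φ * S) * Q) := by rw [hS, hΦ, antiPhi_shift]
      _ = -(A.adj Q * Φ * S * Q) := by
          simp only [Matrix.mul_assoc, Matrix.neg_mul, Matrix.mul_neg]
  obtain ⟨θ, hθ⟩ := Cfsg.Agent.Lib.Lead.HI.exists_theta hK
  have hθ' : θ + A.σ θ = 1 := by
    show θ + σ θ = 1
    rw [hσ]; exact hθ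
  obtain ⟨U, hU1, hU2, hU3⟩ := cayley_adj A θ hθ' T n hTadj hTnil
  exact ⟨U, hU1, hU2, by rw [hU3, hTrank]⟩

end Cfsg.Agent.Lib.Helper16.RN
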