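import Mathlib
import Cfsg.Agent.Lib.Helper16.PGLInv2

set_option autoImplicit false
set_option linter.unusedSectionVars false
set_option linter.unusedSimpArgs false
set_option linter.unusedVariables false

namespace Cfsg.Agent.Lib.Helper16.PGLR

open Matrix Module Polynomial

variable {F : Type*} [Field F] {n : ℕ}

theorem exists_alghom_r (r : ℕ) (lam : F) (g : Module.End F (Fin n → F)) (hg : g ^ r = lam • 1) :
    ∃ φ : AdjoinRoot (X ^ r - C lam : F[X]) →ₐ[F] Module.End F (Fin n → F),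
      φ (AdjoinRoot.root _) = g := by
  have h : ∀ a : F[X], a ∈ Ideal.span {(X ^ r - C lam : F[X])} → aeval g a = 0 := by
    intro a ha
    obtain ⟨b, rfl⟩ := Ideal.mem_span_singleton.mp ha
    rw [map_mul, map_sub, map_pow, aeval_X, aeval_C, hg, Algebra.algebraMap_eq_smul_one,
      sub_self, zero_mul]
  refine ⟨Ideal.Quotient.liftₐ (Ideal.span {(X ^ r - C lam : F[X])}) (aeval g) h, ?_⟩
  show aeval g X = g
  exact aeval_X _

theorem conj_of_pow_nonpower (r : ℕ) (hr : r.Prime) (lam : F) (hlam : ∀ b : F, b ^ r ≠ lam)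
    (A B : Matrix (Fin n) (Fin n) F) (hA : A ^ r = lam • 1) (hB : B ^ r = lam • 1) :
    ∃ Q : Matrix (Fin n) (Fin n) F, IsUnit Q.det ∧ A * Q = Q * B := by
  have hirr : Irreducible (X ^ r - C lam : F[X]) :=
    (X_pow_sub_C_irreducible_iff_of_prime hr).mpr hlam
  have : Fact (Irreducible (X ^ r - C lam : F[X])) := ⟨hirr⟩
  have hmonic : (X ^ r - C lam : F[X]).Monic := monic_X_pow_sub_C lam hr.ne_zero
  have : FiniteDimensional F (AdjoinRoot (X ^ r - C lam : F[X])) :=
    (AdjoinRoot.powerBasis' hmonic).finite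
  have hMM : ∀ M : Matrix (Fin n) (Fin n) F, M ^ r = lam • 1 →
      Matrix.toLin' M ^ r = lam • 1 := by
    intro M hM
    rw [← Matrix.toLin'_pow, hM, map_smul, Matrix.toLin'_one]
    rfl
  obtain ⟨φA, hφA⟩ := exists_alghom_r r lam (Matrix.toLin' A) (hMM A hA)
  obtain ⟨φB, hφB⟩ := exists_alghom_r r lam (Matrix.toLin' B) (hMM B hB)
  obtain ⟨e, he⟩ := PGLI.exists_twist_equiv φB φA
  have he' : ∀ v, e (Matrix.toLin' B v) = Matrix.toLin' A (e v) := by
    intro v
    have := he (AdjoinRoot.root _) v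
    rw [hφA, hφB] at this
    exact this
  refine ⟨LinearMap.toMatrix' e.toLinearMap, ?_, ?_⟩
  · have h1 : LinearMap.toMatrix' e.toLinearMap * LinearMap.toMatrix' e.symm.toLinearMap = 1 := by
      rw [← LinearMap.toMatrix'_comp, LinearEquiv.comp_coe, LinearEquiv.symm_trans_self,
        LinearEquiv.refl_toLinearMap, LinearMap.toMatrix'_id]
    exact (Matrix.isUnit_iff_isUnit_det _).mp (IsUnit.of_mul_eq_one _ h1)
  · have h2 : A = LinearMap.toMatrix' (Matrix.toLin' A) := (LinearMap.toMatrix'_toLin' A).symm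
    have h3 : B = LinearMap.toMatrix' (Matrix.toLin' B) := (LinearMap.toMatrix'_toLin' B).symm
    rw [h2, h3, ← LinearMap.toMatrix'_comp, ← LinearMap.toMatrix'_comp]
    congr 1
    apply LinearMap.ext
    intro v
    simp only [LinearMap.comp_apply, LinearEquiv.coe_coe]
    exact (he' v).symm

theorem dvd_of_nonpower (r : ℕ) (hr : r.Prime) (lam : F) (hlam : ∀ b : F, b ^ r ≠ lam)
    (A : Matrix (Fin n) (Fin n) F) (hA : A ^ r = lam • 1) : r ∣ n := by
  by_contra hrn
  have hcop : IsCoprime (r : ℤ) (n : ℤ) := by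
    rw [Int.isCoprime_iff_gcd_eq_one]
    exact (Nat.Prime.coprime_iff_not_dvd hr).mpr hrn
  obtain ⟨u, v, huv⟩ := hcop
  have hlam0 : lam ≠ 0 := by
    rintro rfl
    exact hlam 0 (zero_pow hr.ne_zero)
  have h1 := congrArg Matrix.det hA
  rw [Matrix.det_pow, Matrix.det_smul, Matrix.det_one, mul_one, Fintype.card_fin] at h1
  have hdet0 : A.det ≠ 0 := by
    intro h0
    rw [h0, zero_pow hr.ne_zero] at h1
    exact pow_ne_zero _ hlam0 h1.symm
  apply hlam (lam ^ u * A.det ^ v)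
  have h5 : (A.det ^ v) ^ r = lam ^ (v * (n : ℤ)) := by
    rw [← zpow_natCast, ← _root_.zpow_mul, mul_comm v, _root_.zpow_mul, zpow_natCast, h1,
      ← zpow_natCast, ← _root_.zpow_mul, mul_comm]
  have h6 : (lam ^ u) ^ r = lam ^ (u * (r : ℤ)) := by
    rw [← zpow_natCast, ← _root_.zpow_mul]
  rw [mul_pow, h5, h6, ← zpow_add₀ hlam0, huv, zpow_one]

theorem exists_pow_eq (r : ℕ) (hr : 0 < r) (lam : F) (hrn : r ∣ n) :
    ∃ E : Matrix (Fin n) (Fin n) F, E ^ r = lam • 1 := by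
  classical
  obtain ⟨k, hk⟩ := hrn
  have hmonic : (X ^ r - C lam : F[X]).Monic := monic_X_pow_sub_C lam (by omega)
  obtain ⟨pb, hpb⟩ : ∃ pb : PowerBasis F (AdjoinRoot (X ^ r - C lam : F[X])),
      pb = AdjoinRoot.powerBasis' hmonic := ⟨_, rfl⟩
  have hdim : pb.dim = r := by
    rw [hpb, AdjoinRoot.powerBasis'_dim, natDegree_X_pow_sub_C]
  obtain ⟨Cm, hCm⟩ : ∃ Cm : Matrix (Fin pb.dim) (Fin pb.dim) F,
      Cm = Algebra.leftMulMatrix pb.basis (AdjoinRoot.root _) := ⟨_, rfl⟩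
  have hCr : Cm ^ r = lam • 1 := by
    rw [hCm, ← map_pow]
    have h1 : (AdjoinRoot.root (X ^ r - C lam : F[X])) ^ r = algebraMap F _ lam := by
      have h2 := AdjoinRoot.eval₂_root (X ^ r - C lam : F[X])
      rw [eval₂_sub, eval₂_pow, eval₂_X, eval₂_C] at h2
      exact sub_eq_zero.mp h2
    rw [h1, AlgHom.commutes, Algebra.algebraMap_eq_smul_one]
  have hcard : Fintype.card (Fin pb.dim × Fin k) = Fintype.card (Fin n) := by
    rw [Fintype.card_prod, Fintype.card_fin, Fintype.card_fin, Fintype.card_fin, hdim, hk]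
  obtain ⟨e⟩ := Fintype.card_eq.mp hcard
  refine ⟨Matrix.reindexAlgEquiv F F e (Matrix.blockDiagonal (fun _ : Fin k => Cm)), ?_⟩
  rw [← map_pow]
  have h3 : (Matrix.blockDiagonal (fun _ : Fin k => Cm)) ^ r
      = Matrix.blockDiagonal (fun _ : Fin k => Cm ^ r) := by
    have := map_pow (Matrix.blockDiagonalRingHom (Fin pb.dim) (Fin k) F) (fun _ : Fin k => Cm) r
    exact this.symm
  rw [h3, hCr]
  have h4 : Matrix.blockDiagonal (fun _ : Fin k => lam • (1 : Matrix (Fin pb.dim) (Fin pb.dim) F))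
      = lam • 1 := by
    have : (fun _ : Fin k => lam • (1 : Matrix (Fin pb.dim) (Fin pb.dim) F))
        = lam • (1 : Fin k → Matrix (Fin pb.dim) (Fin pb.dim) F) := by
      funext i; rfl
    rw [this, Matrix.blockDiagonal_smul, Matrix.blockDiagonal_one]
  rw [h4, map_smul, map_one]

theorem coset_data [Fintype F] (r : ℕ) (hr : r.Prime) (hrq : r ∣ Fintype.card F - 1) :
    ∃ γ : F, γ ≠ 0 ∧
      (∀ lam : F, lam ≠ 0 → ∃ j < r, ∃ c : F, c ≠ 0 ∧ lam = γ ^ j * c ^ r) ∧
      (∀ j j', j < r → j' < r → ∀ ζ : F, ζ ≠ 0 → γ ^ j = ζ ^ r * γ ^ j' → j = j') ∧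
      (∃ ζ : F, IsPrimitiveRoot ζ r) := by
  classical
  obtain ⟨g, hg⟩ := IsCyclic.exists_monoid_generator (α := Fˣ)
  have hgz : ∀ x : Fˣ, x ∈ Subgroup.zpowers g := by
    intro x
    obtain ⟨k, hk⟩ := hg x
    refine ⟨(k : ℤ), ?_⟩
    show g ^ (k : ℤ) = x
    rw [zpow_natCast]
    exact hk
  have hord : orderOf g = Fintype.card F - 1 := by
    rw [orderOf_eq_card_of_forall_mem_zpowers hgz, Nat.card_eq_fintype_card, Fintype.card_units]
  refine ⟨(g : F), g.ne_zero, ?_, ?_, ?_⟩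
  · intro lam hlam
    obtain ⟨k, hk⟩ := hg (Units.mk0 lam hlam)
    refine ⟨k % r, Nat.mod_lt _ hr.pos, ((g ^ (k / r) : Fˣ) : F), Units.ne_zero _, ?_⟩
    have h1 : g ^ k = g ^ (k % r) * (g ^ (k / r)) ^ r := by
      rw [← pow_mul, ← pow_add, mul_comm, Nat.mod_add_div]
    have h2 := congrArg Units.val (hk.symm.trans h1)
    rw [Units.val_mk0, Units.val_mul, Units.val_pow_eq_pow_val, Units.val_pow_eq_pow_val] at h2
    exact h2
  · intro j j' hj hj' ζ hζ h
    obtain ⟨l, hl⟩ := hg (Units.mk0 ζ hζ)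
    have h1 : g ^ j = g ^ (l * r + j') := by
      apply Units.ext
      rw [pow_add, pow_mul, Units.val_mul, Units.val_pow_eq_pow_val, Units.val_pow_eq_pow_val,
        Units.val_pow_eq_pow_val, ← Units.val_pow_eq_pow_val g l]
      have : g ^ l = Units.mk0 ζ hζ := hl
      rw [this, Units.val_mk0]
      exact h
    rw [pow_eq_pow_iff_modEq, hord] at h1
    have h2 : j ≡ l * r + j' [MOD r] := Nat.ModEq.of_dvd hrq h1
    have h3 : j % r = j' % r := by
      have := h2
      unfold Nat.ModEq at this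
      rw [this, Nat.mul_add_mod_self_right]
    rw [Nat.mod_eq_of_lt hj, Nat.mod_eq_of_lt hj'] at h3
    exact h3
  · obtain ⟨m, hm⟩ := hrq
    have hm0 : m ≠ 0 := by
      rintro rfl
      have : 1 < Fintype.card F := Fintype.one_lt_card
      omega
    refine ⟨((g ^ m : Fˣ) : F), ?_⟩
    rw [IsPrimitiveRoot.coe_units_iff]
    have h1 : orderOf (g ^ m) = r := by
      rw [orderOf_pow' g hm0, hord, hm, Nat.gcd_mul_left_left, Nat.mul_div_cancel _ (Nat.pos_of_ne_zero hm0)]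
    rw [← h1]
    exact IsPrimitiveRoot.orderOf _

end Cfsg.Agent.Lib.Helper16.PGLR
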