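import Mathlib

set_option autoImplicit false
set_option linter.unusedSectionVars false
set_option linter.unusedSimpArgs false
set_option linter.unusedVariables false
set_option linter.unusedTactic false

namespace Cfsg.Agent.Lib.Helper16.PGLR

open Matrix Module

/-- non-scalar multiplicity functions. -/
def MS (r n : ℕ) [NeZero r] : Type := {m : ZMod r → ℕ // ∑ j, m j = n ∧ ∀ j, m j ≠ n}

variable {r n : ℕ} [NeZero r]

theorem sum_shift (m : ZMod r → ℕ) (k : ZMod r) : ∑ j, m (j - k) = ∑ j, m j :=
  Equiv.sum_comp (Equiv.subRight k) m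

instance msVAdd : VAdd (ZMod r) (MS r n) :=
  ⟨fun k m => ⟨fun j => m.1 (j - k), by rw [sum_shift]; exact m.2.1, fun j => m.2.2 (j - k)⟩⟩

theorem ms_vadd_apply (k : ZMod r) (m : MS r n) (j : ZMod r) : (k +ᵥ m).1 j = m.1 (j - k) := rfl

instance msAddAction : AddAction (ZMod r) (MS r n) where
  zero_vadd m := by
    apply Subtype.ext
    funext j
    rw [ms_vadd_apply, sub_zero]
  add_vadd k l m := by
    apply Subtype.ext
    funext j
    rw [ms_vadd_apply, ms_vadd_apply, ms_vadd_apply, sub_add_eq_sub_sub]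

theorem ms_finite : Finite (MS r n) := by
  have h1 : Finite {m : ZMod r → ℕ // ∀ j, m j ≤ n} := by
    have : Finite (ZMod r → Fin (n + 1)) := inferInstance
    apply Finite.of_surjective (fun f : ZMod r → Fin (n + 1) =>
      (⟨fun j => (f j).val, fun j => Nat.lt_succ_iff.mp (f j).2⟩ : {m : ZMod r → ℕ // ∀ j, m j ≤ n}))
    rintro ⟨m, hm⟩
    refine ⟨fun j => ⟨m j, by have := hm j; omega⟩, rfl⟩
  apply Finite.of_injective (fun m : MS r n =>
    (⟨m.1, fun j => by
      have h3 := Finset.single_le_sum (f := m.1) (fun i _ => Nat.zero_le _) (Finset.mem_univ j)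
      have h4 := m.2.1
      omega⟩ :
      {m : ZMod r → ℕ // ∀ j, m j ≤ n}))
  intro m m' h
  apply Subtype.ext
  exact congrArg (fun x : {m : ZMod r → ℕ // ∀ j, m j ≤ n} => x.1) h

theorem card_sum_eq (r n : ℕ) [NeZero r] :
    Nat.card {m : ZMod r → ℕ // ∑ j, m j = n} = (r + n - 1).choose n := by
  classical
  rw [← Nat.card_congr (Sym.equivNatSumOfFintype (ZMod r) n), Nat.card_eq_fintype_card,
    Sym.card_sym_eq_choose, ZMod.card]

theorem card_ms (hn : 1 ≤ n) : Nat.card (MS r n) + r = (r + n - 1).choose n := by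
  classical
  rw [← card_sum_eq r n]
  have h1 : Nat.card {m : ZMod r → ℕ // ∑ j, m j = n}
      = Nat.card (MS r n ⊕ ZMod r) := by
    symm
    apply Nat.card_congr
    refine Equiv.ofBijective (Sum.elim (fun m => ⟨m.1, m.2.1⟩)
      (fun j => ⟨Pi.single j n, by rw [Finset.sum_pi_single']; simp⟩)) ⟨?_, ?_⟩
    · rintro (m | j) (m' | j') h
      · congr 1
        apply Subtype.ext
        exact congrArg (fun x : {m : ZMod r → ℕ // ∑ j, m j = n} => x.1) h
      · exfalso
        have h3 : m.1 = Pi.single j' n :=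
          congrArg (fun x : {m : ZMod r → ℕ // ∑ j, m j = n} => x.1) h
        apply m.2.2 j'
        rw [h3, Pi.single_eq_same]
      · exfalso
        have h3 : Pi.single j n = m'.1 :=
          congrArg (fun x : {m : ZMod r → ℕ // ∑ j, m j = n} => x.1) h
        apply m'.2.2 j
        rw [← h3, Pi.single_eq_same]
      · congr 1
        have h3 : (Pi.single j n : ZMod r → ℕ) = Pi.single j' n :=
          congrArg (fun x : {m : ZMod r → ℕ // ∑ j, m j = n} => x.1) h
        by_contra hne
        have h4 := congrFun h3 j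
        rw [Pi.single_eq_same, Pi.single_eq_of_ne hne] at h4
        omega
    · rintro ⟨m, hm⟩
      by_cases h : ∃ j, m j = n
      · obtain ⟨j, hj⟩ := h
        refine ⟨Sum.inr j, ?_⟩
        apply Subtype.ext
        show Pi.single j n = m
        funext i
        by_cases hij : i = j
        · rw [hij, Pi.single_eq_same, hj]
        · rw [Pi.single_eq_of_ne hij]
          have h3 : m i + m j ≤ ∑ l, m l := by
            have := Finset.add_le_sum (f := m) (fun i _ => Nat.zero_le _) (Finset.mem_univ i)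
              (Finset.mem_univ j) hij
            exact this
          omega
      · refine ⟨Sum.inl ⟨m, hm, fun j hj => h ⟨j, hj⟩⟩, rfl⟩
  have : Finite (MS r n) := ms_finite
  rw [h1, Nat.card_sum, Nat.card_eq_fintype_card (α := ZMod r), ZMod.card]

theorem const_of_fixed [Fact r.Prime] (m : ZMod r → ℕ) (k : ZMod r) (hk : k ≠ 0)
    (h : ∀ j, m (j - k) = m j) (j : ZMod r) : m j = m 0 := by
  have h1 : ∀ t : ℕ, m ((t : ZMod r) * k) = m 0 := by
    intro t
    induction t with
    | zero => simp
    | succ t ih =>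
      rw [← ih, ← h ((↑(t + 1) : ZMod r) * k)]
      congr 1
      push_cast
      ring
  have h2 : j = ((j * k⁻¹).val : ZMod r) * k := by
    rw [ZMod.natCast_zmod_val, mul_assoc, inv_mul_cancel₀ hk, mul_one]
  rw [h2, h1]

theorem card_fixedBy_ne_zero [Fact r.Prime] (hn : 1 ≤ n) (k : ZMod r) (hk : k ≠ 0) :
    Nat.card (AddAction.fixedBy (MS r n) k) = if r ∣ n then 1 else 0 := by
  have hr2 : 2 ≤ r := (Fact.out : r.Prime).two_le
  by_cases hrn : r ∣ n
  · rw [if_pos hrn]
    obtain ⟨c, hc⟩ := hrn
    have hcn : c ≠ n := by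
      intro h
      rw [h] at hc
      have : n * 2 ≤ r * n := by rw [mul_comm]; exact Nat.mul_le_mul_right n hr2
      omega
    have hconst : ∀ m : AddAction.fixedBy (MS r n) k, ∀ j, m.1.1 j = c := by
      intro m j
      have hfix : k +ᵥ m.1 = m.1 := m.2
      have h1 : ∀ j, m.1.1 (j - k) = m.1.1 j := by
        intro j
        have := congrArg (fun x : MS r n => x.1 j) hfix
        exact this
      have h2 : ∀ j, m.1.1 j = m.1.1 0 := const_of_fixed m.1.1 k hk h1
      have h3 : ∑ j : ZMod r, m.1.1 j = r * m.1.1 0 := by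
        rw [Finset.sum_congr rfl (fun j _ => h2 j), Finset.sum_const, Finset.card_univ, ZMod.card,
          smul_eq_mul]
      have h4 : ∑ j : ZMod r, m.1.1 j = n := m.1.2.1
      rw [h4] at h3
      rw [h2 j]
      exact (Nat.eq_of_mul_eq_mul_left (by omega) (hc.symm.trans h3)).symm
    rw [Nat.card_eq_one_iff_unique]
    constructor
    · constructor
      intro m m'
      apply Subtype.ext
      apply Subtype.ext
      funext j
      rw [hconst m j, hconst m' j]
    · refine ⟨⟨⟨fun _ => c, ?_, fun _ => hcn⟩, ?_⟩⟩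
      · rw [Finset.sum_const, Finset.card_univ, ZMod.card, smul_eq_mul, hc]
      · show k +ᵥ _ = _
        apply Subtype.ext
        rfl
  · rw [if_neg hrn]
    rw [Nat.card_eq_zero]
    left
    constructor
    intro m
    have hfix : k +ᵥ m.1 = m.1 := m.2
    have h1 : ∀ j, m.1.1 (j - k) = m.1.1 j := by
      intro j
      have := congrArg (fun x : MS r n => x.1 j) hfix
      exact this
    have h2 : ∀ j, m.1.1 j = m.1.1 0 := const_of_fixed m.1.1 k hk h1
    have h3 : ∑ j : ZMod r, m.1.1 j = r * m.1.1 0 := by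
      rw [Finset.sum_congr rfl (fun j _ => h2 j), Finset.sum_const, Finset.card_univ, ZMod.card,
        smul_eq_mul]
    have h4 : ∑ j : ZMod r, m.1.1 j = n := m.1.2.1
    rw [h4] at h3
    exact hrn ⟨_, h3⟩

theorem card_orbits [Fact r.Prime] (hn : 1 ≤ n) :
    Nat.card (AddAction.orbitRel.Quotient (ZMod r) (MS r n)) * r
      = Nat.card (MS r n) + (r - 1) * (if r ∣ n then 1 else 0) := by
  classical
  have hfin : Finite (MS r n) := ms_finite
  have : Fintype (MS r n) := Fintype.ofFinite _
  have : ∀ g : ZMod r, Fintype (AddAction.fixedBy (MS r n) g) := fun g => Fintype.ofFinite _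
  have : Fintype (AddAction.orbitRel.Quotient (ZMod r) (MS r n)) := Fintype.ofFinite _
  have hB := AddAction.sum_card_fixedBy_eq_card_orbits_mul_card_addGroup (ZMod r) (MS r n)
  rw [ZMod.card] at hB
  rw [Nat.card_eq_fintype_card, ← hB, ← Finset.add_sum_erase Finset.univ _ (Finset.mem_univ (0 : ZMod r))]
  congr 1
  · rw [← Nat.card_eq_fintype_card]
    apply Nat.card_congr
    refine ⟨fun m => m.1, fun m => ⟨m, ?_⟩, fun m => rfl, fun m => rfl⟩
    show (0 : ZMod r) +ᵥ m = m
    exact zero_vadd _ m
  · have h1 : ∀ k ∈ Finset.univ.erase (0 : ZMod r),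
        Fintype.card (AddAction.fixedBy (MS r n) k) = if r ∣ n then 1 else 0 := by
      intro k hk
      rw [← Nat.card_eq_fintype_card]
      exact card_fixedBy_ne_zero hn k (Finset.ne_of_mem_erase hk)
    rw [Finset.sum_congr rfl h1, Finset.sum_const, Finset.card_erase_of_mem (Finset.mem_univ _),
      Finset.card_univ, ZMod.card, smul_eq_mul]

theorem final_arith (r n Ω X : ℕ) (hr : 2 ≤ r) (hn : 1 ≤ n) (ε : ℕ) (hε : ε = 0 ∨ ε = 1)
    (h1 : Ω * r = X + (r - 1) * ε) (h2 : X + r = (r + n - 1).choose n) :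
    Ω + (r - 1) * ε = ((n + r - 1).choose (r - 1) - r - ε) / r + r * ε := by
  have hsymm : (n + r - 1).choose (r - 1) = (r + n - 1).choose n := by
    have h0 : n + r - 1 = r + n - 1 := by omega
    rw [h0]
    apply Nat.choose_symm_of_eq_add
    omega
  rw [hsymm, ← h2]
  rcases hε with rfl | rfl
  · simp only [mul_zero, add_zero, Nat.sub_zero] at *
    rw [Nat.add_sub_cancel, ← h1, Nat.mul_div_cancel _ (by omega)]
  · simp only [mul_one] at *
    have hΩ : 1 ≤ Ω := by
      by_contra h
      have : Ω = 0 := by omega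
      rw [this, zero_mul] at h1
      omega
    obtain ⟨w, rfl⟩ : ∃ w, Ω = w + 1 := ⟨Ω - 1, by omega⟩
    have h3 : X + r - r - 1 = w * r := by
      have : (w + 1) * r = w * r + r := by ring
      omega
    rw [h3, Nat.mul_div_cancel _ (by omega)]
    omega

end Cfsg.Agent.Lib.Helper16.PGLR
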