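import Mathlib

set_option autoImplicit false
set_option linter.unusedSectionVars false
set_option linter.unusedSimpArgs false
set_option linter.unusedVariables false

namespace Cfsg.Agent.Lib.Helper16.PGLR

open Matrix Module Polynomial

section
variable {F : Type*} [Field F] {V : Type*} [AddCommGroup V] [Module F V]

theorem eigenspace_eq_ker_aeval (a : Module.End F V) (c : F) :
    a.eigenspace c = LinearMap.ker (aeval a (X - C c : F[X])) := by
  rw [Module.End.eigenspace_def, map_sub, aeval_X, aeval_C, Algebra.algebraMap_eq_smul_one]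

theorem ker_aeval_prod [DecidableEq F] (a : Module.End F V) (S : Finset F) :
    LinearMap.ker (aeval a (∏ c ∈ S, (X - C c : F[X]))) = ⨆ c ∈ S, a.eigenspace c := by
  induction S using Finset.induction_on with
  | empty =>
    simp only [Finset.prod_empty, map_one, Finset.notMem_empty, iSup_false, iSup_bot]
    exact LinearMap.ker_id
  | insert c₀ S hc₀ ih =>
    rw [Finset.prod_insert hc₀, Finset.iSup_insert, ← ih, eigenspace_eq_ker_aeval]
    symm
    apply sup_ker_aeval_eq_ker_aeval_mul_of_coprime
    apply IsCoprime.prod_right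
    intro c hc
    apply isCoprime_X_sub_C_of_isUnit_sub
    apply IsUnit.mk0
    intro h
    apply hc₀
    rw [sub_eq_zero.mp h]
    exact hc

theorem iSup_eigenspace_of_pow_eq_one (a : Module.End F V) (r : ℕ) (hr : 0 < r) (ζ : F)
    (hζ : IsPrimitiveRoot ζ r) (ha : a ^ r = 1) :
    ⨆ c ∈ nthRootsFinset r (1 : F), a.eigenspace c = ⊤ := by
  classical
  rw [← ker_aeval_prod, ← X_pow_sub_one_eq_prod hr hζ, map_sub, map_pow, aeval_X, map_one, ha,
    sub_self]
  exact LinearMap.ker_zero

end

section
variable {F : Type*} [Field F] [Fintype F] {ι : Type*} [Fintype ι] [DecidableEq ι]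

theorem exists_eigenbasis (a : Matrix ι ι F) (r : ℕ) (hr : 0 < r) (ζ : F)
    (hζ : IsPrimitiveRoot ζ r) (ha : a ^ r = 1) :
    ∃ (b : Basis ι F (ι → F)) (χ : ι → F), ∀ i, a.mulVec (b i) = χ i • b i := by
  classical
  let f : Module.End F (ι → F) := Matrix.toLin' a
  have hfr : f ^ r = 1 := by
    show (Matrix.toLin' a) ^ r = 1
    rw [← Matrix.toLin'_pow, ha, Matrix.toLin'_one]
    rfl
  have hsup : ⨆ c : F, f.eigenspace c = ⊤ := by
    rw [eq_top_iff, ← iSup_eigenspace_of_pow_eq_one f r hr ζ hζ hfr]
    apply iSup_le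
    intro c
    apply iSup_le
    intro _
    exact le_iSup (fun c => f.eigenspace c) c
  have hind : iSupIndep f.eigenspace := Module.End.eigenspaces_iSupIndep f
  have hint : DirectSum.IsInternal f.eigenspace :=
    DirectSum.isInternal_submodule_of_iSupIndep_of_iSup_eq_top hind hsup
  let bχ : ∀ c : F, Basis (Fin (finrank F (f.eigenspace c))) F (f.eigenspace c) :=
    fun c => Module.finBasis F (f.eigenspace c)
  let B := hint.collectedBasis bχ
  have hcard : Fintype.card (Σ c : F, Fin (finrank F (f.eigenspace c))) = Fintype.card ι := by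
    have := Module.finrank_eq_card_basis B
    rw [← this, Module.finrank_fintype_fun_eq_card]
  let e : (Σ c : F, Fin (finrank F (f.eigenspace c))) ≃ ι := Fintype.equivOfCardEq hcard
  refine ⟨B.reindex e, fun i => (e.symm i).1, ?_⟩
  intro i
  rw [Basis.reindex_apply]
  have hmem : B (e.symm i) ∈ f.eigenspace (e.symm i).1 := hint.collectedBasis_mem bχ (e.symm i)
  rw [Module.End.mem_eigenspace_iff] at hmem
  exact hmem

theorem exists_diag (a : Matrix ι ι F) (r : ℕ) (hr : 0 < r) (ζ : F)
    (hζ : IsPrimitiveRoot ζ r) (ha : a ^ r = 1) :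
    ∃ (P : Matrix ι ι F) (χ : ι → F), IsUnit P.det ∧ (∀ i, χ i ^ r = 1) ∧
      a * P = P * Matrix.diagonal χ := by
  classical
  obtain ⟨b, χ, hb⟩ := exists_eigenbasis a r hr ζ hζ ha
  let P : Matrix ι ι F := (Pi.basisFun F ι).toMatrix b
  have hP : ∀ i j, P i j = b j i := fun i j => by
    show (Pi.basisFun F ι).repr (b j) i = b j i
    simp
  refine ⟨P, χ, ?_, ?_, ?_⟩
  · have := (Pi.basisFun F ι).invertibleToMatrix b
    exact (Matrix.isUnit_iff_isUnit_det P).mp (isUnit_of_invertible P)
  · intro i
    have h1 : ∀ k : ℕ, (a ^ k).mulVec (b i) = (χ i) ^ k • b i := by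
      intro k
      induction k with
      | zero => simp
      | succ k ih =>
        rw [pow_succ, ← Matrix.mulVec_mulVec, hb, Matrix.mulVec_smul, ih, smul_smul, pow_succ,
          mul_comm]
    have h3 := h1 r
    rw [ha, Matrix.one_mulVec] at h3
    have hne : b i ≠ 0 := b.ne_zero i
    have h4 : (χ i ^ r - 1) • b i = 0 := by
      rw [sub_smul, ← h3, one_smul, sub_self]
    rcases smul_eq_zero.mp h4 with h5 | h5
    · exact sub_eq_zero.mp h5
    · exact absurd h5 hne
  · ext i j
    rw [Matrix.mul_apply, Matrix.mul_diagonal]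
    have := congrFun (hb j) i
    simp only [Matrix.mulVec, dotProduct, Pi.smul_apply, smul_eq_mul] at this
    simp only [hP]
    rw [this, mul_comm]

end

end Cfsg.Agent.Lib.Helper16.PGLR
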