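import Mathlib
import Cfsg.Agent.Lib.Helper16.PGLr1
import Cfsg.Agent.Lib.Helper16.PGLInv3

set_option autoImplicit false
set_option linter.unusedSectionVars false
set_option linter.unusedSimpArgs false
set_option linter.unusedVariables false

namespace Cfsg.Agent.Lib.Helper16.PGLR

open Matrix Module Polynomial

variable {F : Type*} [Field F] {n : ℕ}

/-- the multiplicity of `c` as an eigenvalue. -/
noncomputable def mult (A : Matrix (Fin n) (Fin n) F) (c : F) : ℕ := n - (A - c • 1).rank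

theorem mult_diag (χ : Fin n → F) (c : F) :
    mult (Matrix.diagonal χ) c = Nat.card {i : Fin n // χ i = c} := by
  classical
  rw [Nat.card_eq_fintype_card]
  unfold mult
  have h1 : Matrix.diagonal χ - c • (1 : Matrix (Fin n) (Fin n) F)
      = Matrix.diagonal (fun i => χ i - c) := by
    rw [Matrix.smul_one_eq_diagonal, Matrix.diagonal_sub]
  rw [h1, Matrix.rank_diagonal]
  have h3 : Fintype.card {i : Fin n // χ i - c ≠ 0} = Fintype.card {i : Fin n // ¬ (χ i = c)} := by
    apply Fintype.card_congr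
    refine Equiv.subtypeEquivRight ?_
    intro i
    rw [ne_eq, sub_eq_zero]
  rw [h3, Fintype.card_subtype_compl, Fintype.card_fin]
  have : Fintype.card {i : Fin n // χ i = c} ≤ n := by
    calc Fintype.card {i : Fin n // χ i = c} ≤ Fintype.card (Fin n) := Fintype.card_subtype_le _
      _ = n := Fintype.card_fin n
  omega

theorem mult_of_intertwine (A B Q : Matrix (Fin n) (Fin n) F) (hQ : IsUnit Q.det)
    (h : A * Q = Q * B) (c : F) : mult A c = mult B c := by
  unfold mult
  rw [PGLI.rank_eq_of_intertwine (A - c • 1) (B - c • 1) Q hQ (by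
    rw [sub_mul, mul_sub, h, Matrix.smul_mul, Matrix.mul_smul, one_mul, mul_one])]

theorem mult_smul (A : Matrix (Fin n) (Fin n) F) (ξ : F) (hξ : ξ ≠ 0) (c : F) :
    mult (ξ • A) c = mult A (ξ⁻¹ * c) := by
  unfold mult
  have h1 : ξ • A - c • (1 : Matrix (Fin n) (Fin n) F) = ξ • (A - (ξ⁻¹ * c) • 1) := by
    rw [smul_sub, smul_smul, ← mul_assoc, mul_inv_cancel₀ hξ, one_mul]
  rw [h1, Matrix.rank_smul_of_mem_nonZeroDivisors _ (mem_nonZeroDivisors_of_ne_zero hξ)]

theorem diag_conj_of_card (χ χ' : Fin n → F)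
    (h : ∀ c, Nat.card {i : Fin n // χ i = c} = Nat.card {i : Fin n // χ' i = c}) :
    ∃ Q : Matrix (Fin n) (Fin n) F, IsUnit Q.det ∧
      Matrix.diagonal χ * Q = Q * Matrix.diagonal χ' := by
  classical
  have he : ∀ c : F, Nonempty ({i : Fin n // χ' i = c} ≃ {i : Fin n // χ i = c}) := by
    intro c
    have := h c
    rw [Nat.card_eq_fintype_card, Nat.card_eq_fintype_card] at this
    exact Fintype.card_eq.mp this.symm
  obtain ⟨e⟩ : Nonempty (∀ c : F, {i : Fin n // χ' i = c} ≃ {i : Fin n // χ i = c}) :=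
    ⟨fun c => (he c).some⟩
  let σ : Fin n ≃ Fin n := (Equiv.sigmaFiberEquiv χ').symm.trans
    ((Equiv.sigmaCongrRight e).trans (Equiv.sigmaFiberEquiv χ))
  have hσ : ∀ j, χ (σ j) = χ' j := by
    intro j
    show χ ((Equiv.sigmaFiberEquiv χ) ((Equiv.sigmaCongrRight e)
      ((Equiv.sigmaFiberEquiv χ').symm j))) = χ' j
    have h1 : (Equiv.sigmaFiberEquiv χ') ((Equiv.sigmaFiberEquiv χ').symm j) = j :=
      Equiv.apply_symm_apply _ _
    obtain ⟨⟨c, ⟨i, hi⟩⟩, hx⟩ : ∃ x, x = (Equiv.sigmaFiberEquiv χ').symm j := ⟨_, rfl⟩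
    rw [← hx] at h1 ⊢
    have h3 : i = j := h1
    rw [← h3, hi]
    exact (e c ⟨i, hi⟩).2
  refine ⟨(1 : Matrix (Fin n) (Fin n) F).submatrix id σ, ?_, ?_⟩
  · rw [Matrix.det_permute', Matrix.det_one, mul_one]
    rcases Int.units_eq_one_or (Equiv.Perm.sign σ) with h | h <;> simp [h]
  · ext i j
    rw [Matrix.diagonal_mul, Matrix.mul_diagonal]
    simp only [Matrix.submatrix_apply, id, Matrix.one_apply]
    by_cases hij : i = σ j
    · rw [if_pos hij, hij, hσ, mul_one, one_mul]
    · rw [if_neg hij, mul_zero, zero_mul]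

end Cfsg.Agent.Lib.Helper16.PGLR
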