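import Mathlib
import Cfsg.Agent.Lib.Helper16.PGLr2

set_option autoImplicit false
set_option linter.unusedSectionVars false
set_option linter.unusedSimpArgs false
set_option linter.unusedVariables false
set_option linter.unusedTactic false

namespace Cfsg.Agent.Lib.Helper16.PGLR

open Matrix Module

variable {F : Type*} [Field F] {n r : ℕ} [NeZero r]

/-- eigenvalue of index `j`. -/
def ev (ζ : F) (j : ZMod r) : F := ζ ^ j.val

theorem ev_zero (ζ : F) : ev ζ (0 : ZMod r) = 1 := by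
  unfold ev
  rw [ZMod.val_zero, pow_zero]

theorem ev_add (ζ : F) (hζ1 : ζ ^ r = 1) (j k : ZMod r) : ev ζ (j + k) = ev ζ j * ev ζ k := by
  unfold ev
  rw [ZMod.val_add, ← pow_add, ← pow_eq_pow_mod _ hζ1]

theorem ev_pow (ζ : F) (hζ1 : ζ ^ r = 1) (j : ZMod r) : ev ζ j ^ r = 1 := by
  unfold ev
  rw [← pow_mul, mul_comm, pow_mul, hζ1, one_pow]

theorem ev_ne_zero (ζ : F) (hζ1 : ζ ^ r = 1) (j : ZMod r) : ev ζ j ≠ 0 := by
  intro h
  have := ev_pow ζ hζ1 j
  rw [h, zero_pow (NeZero.ne r)] at this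
  exact zero_ne_one this

theorem ev_neg (ζ : F) (hζ1 : ζ ^ r = 1) (j : ZMod r) : ev ζ (-j) = (ev ζ j)⁻¹ := by
  have h1 : ev ζ (-j) * ev ζ j = 1 := by
    rw [← ev_add ζ hζ1, neg_add_cancel, ev_zero]
  exact eq_inv_of_mul_eq_one_left h1

theorem ev_injective (ζ : F) (hζ : IsPrimitiveRoot ζ r) : Function.Injective (ev (r := r) ζ) := by
  intro j k h
  apply ZMod.val_injective r
  exact hζ.pow_inj (ZMod.val_lt j) (ZMod.val_lt k) h

theorem ev_surj (ζ : F) (hζ : IsPrimitiveRoot ζ r) (c : F) (hc : c ^ r = 1) :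
    ∃ j : ZMod r, ev ζ j = c := by
  obtain ⟨i, hi, hic⟩ := hζ.eq_pow_of_pow_eq_one hc
  refine ⟨(i : ZMod r), ?_⟩
  unfold ev
  rw [ZMod.val_natCast_of_lt hi, hic]

/-- the diagonal matrix attached to a labelling. -/
def Dg (ζ : F) (f : Fin n → ZMod r) : Matrix (Fin n) (Fin n) F :=
  Matrix.diagonal (fun i => ev ζ (f i))

/-- fibre sizes of a labelling. -/
noncomputable def cnt (f : Fin n → ZMod r) (j : ZMod r) : ℕ := Nat.card {i : Fin n // f i = j}

theorem mult_Dg (ζ : F) (hζ : IsPrimitiveRoot ζ r) (f : Fin n → ZMod r) (j : ZMod r) :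
    mult (Dg ζ f) (ev ζ j) = cnt f j := by
  unfold Dg cnt
  rw [mult_diag]
  apply Nat.card_congr
  refine Equiv.subtypeEquivRight ?_
  intro i
  exact ⟨fun h => ev_injective ζ hζ h, fun h => by rw [h]⟩

theorem smul_Dg (ζ : F) (hζ1 : ζ ^ r = 1) (f : Fin n → ZMod r) (k : ZMod r) :
    ev ζ k • Dg ζ f = Dg ζ (fun i => f i + k) := by
  unfold Dg
  ext i i'
  by_cases h : i = i'
  · subst h
    simp only [Matrix.smul_apply, Matrix.diagonal_apply_eq, smul_eq_mul]
    rw [ev_add ζ hζ1, mul_comm]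
  · simp only [Matrix.smul_apply, Matrix.diagonal_apply_ne _ h, smul_eq_mul, mul_zero]

theorem cnt_shift (f : Fin n → ZMod r) (k j : ZMod r) :
    cnt (fun i => f i + k) j = cnt f (j - k) := by
  unfold cnt
  apply Nat.card_congr
  refine Equiv.subtypeEquivRight ?_
  intro i
  constructor
  · intro h
    have h' : f i + k = j := h
    rw [← h', add_sub_cancel_right]
  · intro h
    show f i + k = j
    rw [h, sub_add_cancel]

theorem Dg_conj_of_cnt (ζ : F) (hζ : IsPrimitiveRoot ζ r) (f f' : Fin n → ZMod r)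
    (h : ∀ j, cnt f j = cnt f' j) :
    ∃ Q : Matrix (Fin n) (Fin n) F, IsUnit Q.det ∧ Dg ζ f * Q = Q * Dg ζ f' := by
  unfold Dg
  apply diag_conj_of_card
  intro c
  by_cases hc : ∃ j : ZMod r, ev ζ j = c
  · obtain ⟨j, rfl⟩ := hc
    have h1 : Nat.card {i : Fin n // ev ζ (f i) = ev ζ j} = cnt f j := by
      unfold cnt
      apply Nat.card_congr
      refine Equiv.subtypeEquivRight ?_
      intro i
      exact ⟨fun h => ev_injective ζ hζ h, fun h => by rw [h]⟩
    have h2 : Nat.card {i : Fin n // ev ζ (f' i) = ev ζ j} = cnt f' j := by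
      unfold cnt
      apply Nat.card_congr
      refine Equiv.subtypeEquivRight ?_
      intro i
      exact ⟨fun h => ev_injective ζ hζ h, fun h => by rw [h]⟩
    rw [h1, h2, h j]
  · have h1 : IsEmpty {i : Fin n // ev ζ (f i) = c} := ⟨fun i => hc ⟨_, i.2⟩⟩
    have h2 : IsEmpty {i : Fin n // ev ζ (f' i) = c} := ⟨fun i => hc ⟨_, i.2⟩⟩
    rw [Nat.card_of_isEmpty, Nat.card_of_isEmpty]

theorem sum_cnt (f : Fin n → ZMod r) : ∑ j, cnt f j = n := by
  classical
  unfold cnt
  simp only [Nat.card_eq_fintype_card]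
  rw [← Fintype.card_sigma, Fintype.card_congr (Equiv.sigmaFiberEquiv f), Fintype.card_fin]

theorem exists_labelling (m : ZMod r → ℕ) (hm : ∑ j, m j = n) :
    ∃ f : Fin n → ZMod r, ∀ j, cnt f j = m j := by
  classical
  have hcard : Fintype.card (Σ j : ZMod r, Fin (m j)) = Fintype.card (Fin n) := by
    rw [Fintype.card_sigma, Fintype.card_fin]
    simp only [Fintype.card_fin]
    exact hm
  obtain ⟨e⟩ := Fintype.card_eq.mp hcard
  refine ⟨fun i => (e.symm i).1, ?_⟩
  intro j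
  unfold cnt
  rw [Nat.card_eq_fintype_card]
  have : Fintype.card {i : Fin n // (e.symm i).1 = j} = Fintype.card (Fin (m j)) := by
    apply Fintype.card_congr
    exact (e.symm.subtypeEquiv (p := fun i => (e.symm i).1 = j)
      (q := fun s : (Σ j : ZMod r, Fin (m j)) => s.1 = j) (fun i => Iff.rfl)).trans
      (Equiv.sigmaSubtype j)
  rw [this, Fintype.card_fin]

theorem Dg_pow (ζ : F) (hζ1 : ζ ^ r = 1) (f : Fin n → ZMod r) : Dg ζ f ^ r = 1 := by
  unfold Dg
  rw [Matrix.diagonal_pow, ← Matrix.diagonal_one]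
  congr 1
  funext i
  exact ev_pow ζ hζ1 (f i)

theorem Dg_scalar_iff (ζ : F) (hζ : IsPrimitiveRoot ζ r) (hn : 0 < n) (f : Fin n → ZMod r) :
    (∃ c : F, Dg ζ f = c • 1) ↔ ∃ j, cnt f j = n := by
  classical
  constructor
  · rintro ⟨c, hc⟩
    refine ⟨f ⟨0, hn⟩, ?_⟩
    have h1 : ∀ i, ev ζ (f i) = c := by
      intro i
      have := congrFun (congrFun hc i) i
      unfold Dg at this
      simpa using this
    unfold cnt
    have h3 : ∀ i, f i = f ⟨0, hn⟩ := fun i => ev_injective ζ hζ ((h1 i).trans (h1 _).symm)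
    rw [Nat.card_eq_fintype_card]
    have : Fintype.card {i : Fin n // f i = f ⟨0, hn⟩} = Fintype.card (Fin n) := by
      apply Fintype.card_congr
      exact ⟨fun i => i.1, fun i => ⟨i, h3 i⟩, fun i => rfl, fun i => rfl⟩
    rw [this, Fintype.card_fin]
  · rintro ⟨j, hj⟩
    refine ⟨ev ζ j, ?_⟩
    have h3 : ∀ i, f i = j := by
      unfold cnt at hj
      rw [Nat.card_eq_fintype_card] at hj
      by_contra hcon
      rw [not_forall] at hcon
      obtain ⟨i, hi⟩ := hcon
      have : Fintype.card {i : Fin n // f i = j} < Fintype.card (Fin n) :=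
        Fintype.card_subtype_lt hi
      rw [Fintype.card_fin] at this
      omega
    unfold Dg
    rw [Matrix.smul_one_eq_diagonal]
    congr 1
    funext i
    rw [h3 i]

end Cfsg.Agent.Lib.Helper16.PGLR
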