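import Mathlib
import Cfsg.Agent.Lib.Helper16.PGLInv4
import Cfsg.Agent.Lib.Helper16.PGLr3
import Cfsg.Agent.Lib.Helper16.PGLr4
import Cfsg.Agent.Lib.Helper16.PGLr5

set_option autoImplicit false
set_option linter.unusedSectionVars false
set_option linter.unusedSimpArgs false
set_option linter.unusedVariables false
set_option linter.unusedTactic false

namespace Cfsg.Agent.Lib.Helper16.PGLR

open Matrix Module

variable {F : Type*} [Field F] {n r : ℕ}

theorem orderOf_mk_eq_prime_iff (hr : r.Prime) (g : GL (Fin n) F) :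
    orderOf (QuotientGroup.mk g : GL (Fin n) F ⧸ Subgroup.center (GL (Fin n) F)) = r ↔
      (∀ c : F, g.1 ≠ c • 1) ∧ ∃ lam : F, g.1 ^ r = lam • 1 := by
  have hp : Fact (Nat.Prime r) := ⟨hr⟩
  rw [orderOf_eq_prime_iff, ← QuotientGroup.mk_pow, QuotientGroup.eq_one_iff, ne_eq,
    QuotientGroup.eq_one_iff, PGLI.mem_center_iff, PGLI.mem_center_iff, and_comm]
  constructor
  · rintro ⟨h1, c, hc⟩
    refine ⟨fun c hc => h1 ⟨c, hc⟩, c, ?_⟩
    rw [← hc]; rfl
  · rintro ⟨h1, c, hc⟩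
    refine ⟨fun ⟨c, hc⟩ => h1 c hc, c, ?_⟩
    rw [← hc]; rfl

theorem pow_rel (A B Q : Matrix (Fin n) (Fin n) F) (ζ : F) (h : A * Q = ζ • (Q * B)) (k : ℕ) :
    A ^ k * Q = ζ ^ k • (Q * B ^ k) := by
  induction k with
  | zero => simp
  | succ k ih =>
    rw [pow_succ, mul_assoc, h, Matrix.mul_smul, ← mul_assoc, ih, Matrix.smul_mul, smul_smul,
      mul_assoc, ← pow_succ, ← pow_succ']

theorem pow_rel' (hn : 0 < n) (A B Q : Matrix (Fin n) (Fin n) F) (ζ α β : F) (hQ : IsUnit Q.det)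
    (h : A * Q = ζ • (Q * B)) (hA : A ^ r = α • 1) (hB : B ^ r = β • 1) : α = ζ ^ r * β := by
  apply PGLI.smul_unit_inj hn Q hQ
  have h1 := pow_rel A B Q ζ h r
  rw [hA, hB, Matrix.smul_mul, one_mul, Matrix.mul_smul, mul_one, smul_smul] at h1
  exact h1

end Cfsg.Agent.Lib.Helper16.PGLR
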