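import Mathlib
import Cfsg.Agent.Lib.Helper16.PGLr6

set_option autoImplicit false
set_option linter.unusedSectionVars false
set_option linter.unusedSimpArgs false
set_option linter.unusedVariables false
set_option linter.unusedTactic false

namespace Cfsg.Agent.Lib.Helper16.PGLR

open Matrix Module

variable {F : Type*} [Field F] {n r : ℕ}

theorem pgl_order_r_classes [Fintype F] (hn : 2 ≤ n) (hr : r.Prime)
    (hrq : r ∣ Fintype.card F - 1) :
    Nat.card {C : ConjClasses (GL (Fin n) F ⧸ Subgroup.center (GL (Fin n) F)) //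
      ∃ g : GL (Fin n) F ⧸ Subgroup.center (GL (Fin n) F), ConjClasses.mk g = C ∧ orderOf g = r}
      = ((n + r - 1).choose (r - 1) - r - (if r ∣ n then 1 else 0)) / r
        + r * (if r ∣ n then 1 else 0) := by
  classical
  have hn0 : 0 < n := by omega
  have : NeZero r := ⟨hr.ne_zero⟩
  have : Fact r.Prime := ⟨hr⟩
  have hr2 : 2 ≤ r := hr.two_le
  obtain ⟨γ, hγ0, hcos1, hcos2, ζ, hζ⟩ := coset_data (F := F) r hr hrq
  have hζ1 : ζ ^ r = 1 := hζ.pow_eq_one
  have hnp : ∀ j, 0 < j → j < r → ∀ b : F, b ^ r ≠ γ ^ j := by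
    intro j hj0 hjr b hb
    have hb0 : b ≠ 0 := by
      rintro rfl
      rw [zero_pow hr.ne_zero] at hb
      exact pow_ne_zero _ hγ0 hb.symm
    have := hcos2 j 0 hjr hr.pos b hb0 (by rw [pow_zero, mul_one]; exact hb.symm)
    omega
  obtain ⟨lab, hlab⟩ : ∃ lab : MS r n → (Fin n → ZMod r), ∀ m j, cnt (lab m) j = m.1 j :=
    ⟨fun m => (exists_labelling m.1 m.2.1).choose, fun m => (exists_labelling m.1 m.2.1).choose_spec⟩
  have hE : ∀ j : Fin (r - 1), r ∣ n → ∃ E : GL (Fin n) F, E.1 ^ r = (γ ^ (j.val + 1)) • 1 := by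
    intro j h
    obtain ⟨E, hE⟩ := exists_pow_eq (F := F) (n := n) r hr.pos (γ ^ (j.val + 1)) h
    have hc0 : γ ^ (j.val + 1) ≠ 0 := pow_ne_zero _ hγ0
    obtain ⟨s, hs⟩ : ∃ s, r = s + 1 := ⟨r - 1, by omega⟩
    refine ⟨⟨E, (γ ^ (j.val + 1))⁻¹ • E ^ s, ?_, ?_⟩, hE⟩
    · rw [Matrix.mul_smul, ← pow_succ', ← hs, hE, smul_smul, inv_mul_cancel₀ hc0, one_smul]
    · rw [Matrix.smul_mul, ← pow_succ, ← hs, hE, smul_smul, inv_mul_cancel₀ hc0, one_smul]
  have hDgU : ∀ f : Fin n → ZMod r, ∃ U : GL (Fin n) F, U.1 = Dg ζ f := by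
    intro f
    refine ⟨⟨Dg ζ f, Dg ζ (fun i => -f i), ?_, ?_⟩, rfl⟩
    · unfold Dg
      rw [Matrix.diagonal_mul_diagonal, ← Matrix.diagonal_one]
      congr 1
      funext i
      rw [ev_neg ζ hζ1, mul_inv_cancel₀ (ev_ne_zero ζ hζ1 _)]
    · unfold Dg
      rw [Matrix.diagonal_mul_diagonal, ← Matrix.diagonal_one]
      congr 1
      funext i
      rw [ev_neg ζ hζ1, inv_mul_cancel₀ (ev_ne_zero ζ hζ1 _)]
  obtain ⟨rep, hrep1, hrep2⟩ : ∃ rep : AddAction.orbitRel.Quotient (ZMod r) (MS r n) ⊕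
      {j : Fin (r - 1) // r ∣ n} → GL (Fin n) F,
      (∀ q, (rep (Sum.inl q)).1 = Dg ζ (lab (Quotient.out q))) ∧
      (∀ u : {j : Fin (r - 1) // r ∣ n}, (rep (Sum.inr u)).1 ^ r = (γ ^ (u.1.val + 1)) • 1) :=
    ⟨Sum.elim (fun q => (hDgU (lab (Quotient.out q))).choose) (fun u => (hE u.1 u.2).choose),
      fun q => (hDgU (lab (Quotient.out q))).choose_spec, fun u => (hE u.1 u.2).choose_spec⟩
  rw [PGLI.card_classes_of_reps (fun x => orderOf x = r)
    (AddAction.orbitRel.Quotient (ZMod r) (MS r n) ⊕ {j : Fin (r - 1) // r ∣ n})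
    (fun t => QuotientGroup.mk (rep t))]
  · have hfin : Finite (MS r n) := ms_finite
    have hcardT2 : Nat.card {j : Fin (r - 1) // r ∣ n} = (r - 1) * (if r ∣ n then 1 else 0) := by
      by_cases h : r ∣ n
      · rw [if_pos h, mul_one]
        have : Nat.card {j : Fin (r - 1) // r ∣ n} = Nat.card (Fin (r - 1)) := by
          apply Nat.card_congr
          exact ⟨fun j => j.1, fun j => ⟨j, h⟩, fun j => rfl, fun j => rfl⟩
        rw [this, Nat.card_eq_fintype_card, Fintype.card_fin]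
      · rw [if_neg h, mul_zero]
        have : IsEmpty {j : Fin (r - 1) // r ∣ n} := ⟨fun u => h u.2⟩
        exact Nat.card_of_isEmpty
    rw [Nat.card_sum, hcardT2]
    apply final_arith r n _ (Nat.card (MS r n)) hr2 (by omega) _ ?_ (card_orbits (by omega))
      (card_ms (by omega))
    by_cases h : r ∣ n
    · right; rw [if_pos h]
    · left; rw [if_neg h]
  · rintro (q | u)
    · show orderOf (QuotientGroup.mk (rep (Sum.inl q))) = r
      rw [orderOf_mk_eq_prime_iff hr, hrep1]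
      refine ⟨?_, 1, ?_⟩
      · intro c hc
        obtain ⟨j, hj⟩ := (Dg_scalar_iff ζ hζ hn0 _).mp ⟨c, hc⟩
        rw [hlab] at hj
        exact (Quotient.out q).2.2 j hj
      · rw [one_smul]; exact Dg_pow ζ hζ1 _
    · show orderOf (QuotientGroup.mk (rep (Sum.inr u))) = r
      rw [orderOf_mk_eq_prime_iff hr]
      refine ⟨?_, _, hrep2 u⟩
      intro c hc
      have h3 := hrep2 u
      rw [hc, smul_pow, one_pow] at h3
      have hu := u.1.2
      exact hnp (u.1.val + 1) (by omega) (by omega) c (PGLI.smul_one_inj hn0 _ _ h3)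
  · intro gbar hg
    obtain ⟨g, rfl⟩ := QuotientGroup.mk_surjective gbar
    rw [orderOf_mk_eq_prime_iff hr] at hg
    obtain ⟨hns, lam, hlam⟩ := hg
    have hlam0 : lam ≠ 0 := by
      rintro rfl
      rw [zero_smul] at hlam
      have h3 : (1 : Matrix (Fin n) (Fin n) F) = 0 := by
        have h4 : (g ^ r).1 = 0 := hlam
        have h5 := congrArg (fun M => M * ((g ^ r)⁻¹).1) h4
        simp only [zero_mul] at h5
        rw [← Units.val_mul, mul_inv_cancel, Units.val_one] at h5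
        exact h5
      have : Nontrivial (Matrix (Fin n) (Fin n) F) := by
        have : Nonempty (Fin n) := ⟨⟨0, hn0⟩⟩
        infer_instance
      exact one_ne_zero h3
    obtain ⟨j, hjr, c, hc0, hlamc⟩ := hcos1 lam hlam0
    obtain ⟨a, ha⟩ : ∃ a, a = c⁻¹ • g.1 := ⟨_, rfl⟩
    have haA : g.1 = c • a := by rw [ha, smul_smul, mul_inv_cancel₀ hc0, one_smul]
    have har : a ^ r = (γ ^ j) • 1 := by
      rw [ha, smul_pow, hlam, smul_smul, hlamc, inv_pow]
      congr 1
      field_simp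
    have hans : ∀ c' : F, a ≠ c' • 1 := by
      intro c' hc'
      apply hns (c * c')
      rw [haA, hc', smul_smul]
    by_cases hj0 : j = 0
    · subst hj0
      rw [pow_zero, one_smul] at har
      obtain ⟨P, χ, hP, hχ, hPa⟩ := exists_diag a r hr.pos ζ hζ har
      obtain ⟨f, hf⟩ : ∃ f : Fin n → ZMod r, ∀ i, ev ζ (f i) = χ i :=
        ⟨fun i => (ev_surj ζ hζ (χ i) (hχ i)).choose, fun i => (ev_surj ζ hζ (χ i) (hχ i)).choose_spec⟩
      have hPa' : a * P = P * Dg ζ f := by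
        rw [hPa]; unfold Dg
        congr 2
        funext i
        exact (hf i).symm
      have hfns : ∀ j, cnt f j ≠ n := by
        intro j hj
        obtain ⟨c', hc'⟩ := (Dg_scalar_iff ζ hζ hn0 f).mpr ⟨j, hj⟩
        apply hans c'
        rw [hc', Matrix.mul_smul, mul_one] at hPa'
        obtain ⟨u, rfl⟩ := (Matrix.isUnit_iff_isUnit_det P).mpr hP
        have h3 := congrArg (fun M => M * u.inv) hPa'
        simp only [mul_assoc, Matrix.smul_mul] at h3
        rw [Units.inv_eq_val_inv, Units.mul_inv, mul_one] at h3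
        exact h3
      obtain ⟨m, hm⟩ : ∃ m : MS r n, m.1 = cnt f := ⟨⟨cnt f, sum_cnt f, hfns⟩, rfl⟩
      obtain ⟨q, hq⟩ : ∃ q : AddAction.orbitRel.Quotient (ZMod r) (MS r n), q = Quotient.mk'' m :=
        ⟨_, rfl⟩
      have hrel : Quotient.out q ∈ AddAction.orbit (ZMod r) m := by
        have h1 : Quotient.mk'' (Quotient.out q) = (Quotient.mk'' m :
            AddAction.orbitRel.Quotient (ZMod r) (MS r n)) := by
          rw [← hq]; exact Quotient.out_eq q
        exact Quotient.exact h1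
      obtain ⟨k, hk⟩ := hrel
      have hcnt : ∀ j, cnt (fun i => f i + k) j = cnt (lab (Quotient.out q)) j := by
        intro j
        rw [cnt_shift, hlab, ← hk]
        show cnt f (j - k) = (k +ᵥ m).1 j
        rw [ms_vadd_apply, hm]
      obtain ⟨Q', hQ', hQQ⟩ := Dg_conj_of_cnt ζ hζ _ _ hcnt
      refine ⟨Sum.inl q, ?_⟩
      rw [PGLI.isConj_mk_iff hn0, hrep1]
      refine ⟨P * Q', c * (ev ζ k)⁻¹, ?_, mul_ne_zero hc0 (inv_ne_zero (ev_ne_zero ζ hζ1 k)), ?_⟩
      · rw [Matrix.det_mul]; exact hP.mul hQ'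
      · rw [haA, Matrix.smul_mul, ← mul_assoc, hPa', mul_assoc P, mul_assoc P, ← hQQ,
          ← smul_Dg ζ hζ1, Matrix.smul_mul, Matrix.mul_smul, smul_smul, mul_assoc c,
          inv_mul_cancel₀ (ev_ne_zero ζ hζ1 k), mul_one]
    · have hnpj : ∀ b : F, b ^ r ≠ γ ^ j := hnp j (by omega) hjr
      have hrn : r ∣ n := dvd_of_nonpower r hr (γ ^ j) hnpj a har
      obtain ⟨u, hu⟩ : ∃ u : {j : Fin (r - 1) // r ∣ n}, u.1.val + 1 = j :=
        ⟨⟨⟨j - 1, by omega⟩, hrn⟩, by show j - 1 + 1 = j; omega⟩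
      have hEu := hrep2 u
      rw [hu] at hEu
      obtain ⟨Q, hQ, hQa⟩ := conj_of_pow_nonpower r hr (γ ^ j) hnpj a _ har hEu
      refine ⟨Sum.inr u, ?_⟩
      rw [PGLI.isConj_mk_iff hn0]
      refine ⟨Q, c, hQ, hc0, ?_⟩
      rw [haA, Matrix.smul_mul, hQa]
  · intro t t' hconj
    rw [PGLI.isConj_mk_iff hn0] at hconj
    obtain ⟨Q, ξ, hQ, hξ, hgQ⟩ := hconj
    rcases t with q | u <;> rcases t' with q' | u'
    · rw [hrep1, hrep1] at hgQ
      have h1 := pow_rel' hn0 _ _ Q ξ 1 1 hQ hgQ (by rw [one_smul]; exact Dg_pow ζ hζ1 _)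
        (by rw [one_smul]; exact Dg_pow ζ hζ1 _)
      rw [mul_one] at h1
      obtain ⟨k, hk⟩ := ev_surj ζ hζ ξ h1.symm
      rw [← hk, ← Matrix.mul_smul, smul_Dg ζ hζ1] at hgQ
      have hout : Quotient.out q = k +ᵥ Quotient.out q' := by
        apply Subtype.ext
        funext j
        rw [ms_vadd_apply, ← hlab, ← hlab, ← cnt_shift, ← mult_Dg ζ hζ, ← mult_Dg ζ hζ]
        exact mult_of_intertwine _ _ Q hQ hgQ _
      congr 1
      rw [← Quotient.out_eq q, ← Quotient.out_eq q']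
      apply Quotient.sound
      exact ⟨k, hout.symm⟩
    · exfalso
      have h1 := pow_rel' hn0 _ _ Q ξ 1 _ hQ hgQ (by rw [hrep1, one_smul]; exact Dg_pow ζ hζ1 _)
        (hrep2 u')
      have hu := u'.1.2
      apply hnp (u'.1.val + 1) (by omega) (by omega) ξ⁻¹
      rw [inv_pow]
      have hξr : ξ ^ r ≠ 0 := pow_ne_zero _ hξ
      field_simp
      exact h1
    · exfalso
      have h1 := pow_rel' hn0 _ _ Q ξ _ 1 hQ hgQ (hrep2 u)
        (by rw [hrep1, one_smul]; exact Dg_pow ζ hζ1 _)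
      have hu := u.1.2
      apply hnp (u.1.val + 1) (by omega) (by omega) ξ
      rw [h1, mul_one]
    · have h1 := pow_rel' hn0 _ _ Q ξ _ _ hQ hgQ (hrep2 u) (hrep2 u')
      have hu := u.1.2
      have hu' := u'.1.2
      have := hcos2 _ _ (by omega) (by omega) ξ hξ h1
      congr 1
      apply Subtype.ext
      apply Fin.ext
      omega

end Cfsg.Agent.Lib.Helper16.PGLR
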