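import Mathlib
import Cfsg.Agent.S0783
import Cfsg.Agent.Lib.Helper16.GUDual2
import Cfsg.Agent.Lib.Helper16.PGLr7

set_option autoImplicit false
set_option linter.unusedSectionVars false
set_option linter.unusedSimpArgs false
set_option linter.unusedVariables false
set_option linter.unusedTactic false

namespace Cfsg.Agent.Lib.Helper16.PGUR

open Matrix Module

variable {K : Type*} [Field K] {n q r : ℕ}

theorem q_ge_two [Fintype K] (hK : Fintype.card K = q ^ 2) : 2 ≤ q := by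
  have h1 : 1 < Fintype.card K := Fintype.one_lt_card
  rw [hK] at h1
  by_contra hlt
  have : q = 0 ∨ q = 1 := by omega
  rcases this with rfl | rfl <;> simp at h1

theorem exists_gen [Fintype K] (hK : Fintype.card K = q ^ 2) :
    ∃ g : Kˣ, (∀ y : Kˣ, y ∈ Submonoid.powers g) ∧ orderOf g = (q - 1) * (q + 1) := by
  classical
  have hq2 := q_ge_two hK
  obtain ⟨g, hg⟩ := IsCyclic.exists_monoid_generator (α := Kˣ)
  have hgz : ∀ x : Kˣ, x ∈ Subgroup.zpowers g := by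
    intro x
    obtain ⟨k, hk⟩ := hg x
    refine ⟨(k : ℤ), ?_⟩
    show g ^ (k : ℤ) = x
    rw [zpow_natCast]
    exact hk
  have hcard : Fintype.card K - 1 = (q - 1) * (q + 1) := by
    rw [hK]
    obtain ⟨k, rfl⟩ : ∃ k, q = k + 1 := ⟨q - 1, by omega⟩
    have : (k + 1) ^ 2 = (k + 1 - 1) * (k + 1 + 1) + 1 := by
      simp; ring
    omega
  refine ⟨g, hg, ?_⟩
  rw [orderOf_eq_card_of_forall_mem_zpowers hgz, Nat.card_eq_fintype_card, Fintype.card_units,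
    hcard]

theorem exists_norm_one_ne_one [Fintype K] (hK : Fintype.card K = q ^ 2) :
    ∃ z : K, z ^ (q + 1) = 1 ∧ z ≠ 1 := by
  have hq2 := q_ge_two hK
  obtain ⟨g, hg, hord⟩ := exists_gen hK
  have hq1 : 0 < q - 1 := by omega
  refine ⟨((g ^ (q - 1) : Kˣ) : K), ?_, ?_⟩
  · rw [← Units.val_pow_eq_pow_val, ← pow_mul, ← hord, pow_orderOf_eq_one, Units.val_one]
  · intro h
    have h1 : g ^ (q - 1) = 1 := Units.ext h
    have h2 := orderOf_dvd_of_pow_eq_one h1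
    rw [hord] at h2
    have h3 := Nat.le_of_dvd hq1 h2
    nlinarith

theorem exists_mu_data [Fintype K] (hK : Fintype.card K = q ^ 2) (r : ℕ) (hr : r.Prime)
    (hr2 : r ≠ 2) (hrq : r ∣ q + 1) :
    ∃ γ : K, γ ^ (q + 1) = 1 ∧ γ ≠ 1 ∧
      (∀ lam : K, lam ^ (q + 1) = 1 → ∃ j < r, ∃ c : K, c ^ (q + 1) = 1 ∧ lam = γ ^ j * c ^ r) ∧
      (∀ j j', j < r → j' < r → ∀ ξ : K, ξ ≠ 0 → γ ^ j = ξ ^ r * γ ^ j' → j = j') ∧
      (∃ ζ : K, IsPrimitiveRoot ζ r ∧ ζ ^ (q + 1) = 1) := by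
  classical
  have hq2 := q_ge_two hK
  obtain ⟨g, hg, hord⟩ := exists_gen hK
  have hq1 : 0 < q - 1 := by omega
  have hγpow : ((g ^ (q - 1) : Kˣ)) ^ (q + 1) = 1 := by
    rw [← pow_mul, ← hord, pow_orderOf_eq_one]
  have hcop : Nat.Coprime r (q - 1) := by
    rw [Nat.Prime.coprime_iff_not_dvd hr]
    intro h
    have h2 : r ∣ (q + 1) - (q - 1) := Nat.dvd_sub hrq h
    have h3 : (q + 1) - (q - 1) = 2 := by omega
    rw [h3] at h2
    exact hr2 ((Nat.prime_dvd_prime_iff_eq hr Nat.prime_two).mp h2)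
  refine ⟨((g ^ (q - 1) : Kˣ) : K), ?_, ?_, ?_, ?_, ?_⟩
  · rw [← Units.val_pow_eq_pow_val, hγpow, Units.val_one]
  · intro h
    have h1 : g ^ (q - 1) = 1 := Units.ext h
    have h2 := orderOf_dvd_of_pow_eq_one h1
    rw [hord] at h2
    have h3 := Nat.le_of_dvd hq1 h2
    nlinarith
  · intro lam hlam
    have hlam0 : lam ≠ 0 := by
      rintro rfl
      rw [zero_pow (by omega)] at hlam
      exact zero_ne_one hlam
    obtain ⟨k, hk⟩ := hg (Units.mk0 lam hlam0)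
    have hk' : g ^ k = Units.mk0 lam hlam0 := hk
    have h1 : g ^ (k * (q + 1)) = 1 := by
      rw [pow_mul, hk']
      apply Units.ext
      rw [Units.val_pow_eq_pow_val, Units.val_mk0, hlam, Units.val_one]
    have h2 := orderOf_dvd_of_pow_eq_one h1
    rw [hord] at h2
    have h3 : q - 1 ∣ k := Nat.dvd_of_mul_dvd_mul_right (by omega) h2
    obtain ⟨k', rfl⟩ := h3
    refine ⟨k' % r, Nat.mod_lt _ hr.pos, (((g ^ (q - 1)) ^ (k' / r) : Kˣ) : K), ?_, ?_⟩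
    · rw [← Units.val_pow_eq_pow_val, ← pow_mul, mul_comm, pow_mul, hγpow, one_pow, Units.val_one]
    · have h4 : g ^ ((q - 1) * k') = (g ^ (q - 1)) ^ (k' % r) * ((g ^ (q - 1)) ^ (k' / r)) ^ r := by
        rw [← pow_mul (g ^ (q - 1)) (k' / r) r, ← pow_add, mul_comm (k' / r) r, Nat.mod_add_div,
          ← pow_mul]
      have h5 := congrArg Units.val (hk'.symm.trans h4)
      rw [Units.val_mk0, Units.val_mul, Units.val_pow_eq_pow_val, Units.val_pow_eq_pow_val (_ ^ _) r]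
        at h5
      exact h5
  · intro j j' hj hj' ξ hξ h
    obtain ⟨l, hl⟩ := hg (Units.mk0 ξ hξ)
    have hl' : g ^ l = Units.mk0 ξ hξ := hl
    have h1 : g ^ ((q - 1) * j) = g ^ (l * r + (q - 1) * j') := by
      apply Units.ext
      rw [pow_add, pow_mul, pow_mul, pow_mul, hl']
      simp only [Units.val_mul, Units.val_pow_eq_pow_val, Units.val_mk0] at h ⊢
      exact h
    rw [pow_eq_pow_iff_modEq, hord] at h1
    have h2 : (q - 1) * j ≡ l * r + (q - 1) * j' [MOD r] :=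
      Nat.ModEq.of_dvd (Dvd.dvd.mul_left hrq _) h1
    have h3 : (q - 1) * j ≡ (q - 1) * j' [MOD r] := by
      have h4 : l * r + (q - 1) * j' ≡ (q - 1) * j' [MOD r] := by
        unfold Nat.ModEq
        rw [add_comm, Nat.add_mul_mod_self_right]
      exact h2.trans h4
    have h5 : j ≡ j' [MOD r] := Nat.ModEq.cancel_left_of_coprime hcop.gcd_eq_one h3
    unfold Nat.ModEq at h5
    rw [Nat.mod_eq_of_lt hj, Nat.mod_eq_of_lt hj'] at h5
    exact h5
  · obtain ⟨m, hm⟩ := hrq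
    have hm0 : m ≠ 0 := by
      rintro rfl
      omega
    refine ⟨((g ^ ((q - 1) * m) : Kˣ) : K), ?_, ?_⟩
    · rw [IsPrimitiveRoot.coe_units_iff]
      have h1 : orderOf (g ^ ((q - 1) * m)) = r := by
        rw [orderOf_pow' g (by positivity), hord, hm]
        have : ((q - 1) * (r * m)).gcd ((q - 1) * m) = (q - 1) * m := by
          apply Nat.gcd_eq_right
          exact ⟨r, by ring⟩
        rw [this]
        have h3 : (q - 1) * (r * m) = r * ((q - 1) * m) := by ring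
        rw [h3, Nat.mul_div_cancel _ (by positivity)]
      rw [← h1]
      exact IsPrimitiveRoot.orderOf _
    · rw [← Units.val_pow_eq_pow_val, ← pow_mul, mul_comm (q - 1) m, mul_assoc, mul_comm m, pow_mul,
        ← hord, pow_orderOf_eq_one, one_pow, Units.val_one]

theorem exists_scalar_gu (c : K) (hc : c ^ (q + 1) = 1) :
    ∃ z : ↥(Cfsg.GU n K q), z.1.1 = c • 1 ∧ z ∈ Subgroup.center ↥(Cfsg.GU n K q) := by
  refine ⟨Cfsg.Agent.S0783.diagGU (fun _ : Fin n => c) (fun _ => hc), ?_,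
    Cfsg.Agent.S0783.scalar_central c hc⟩
  rw [Cfsg.Agent.S0783.diagGU_coe, Matrix.smul_one_eq_diagonal]

theorem center_gu_scalar [Fintype K] (hK : Fintype.card K = q ^ 2) (hn : 1 ≤ n)
    (g : ↥(Cfsg.GU n K q)) (hg : g ∈ Subgroup.center ↥(Cfsg.GU n K q)) :
    ∃ c : K, c ^ (q + 1) = 1 ∧ g.1.1 = c • 1 := by
  obtain ⟨z0, hz0, hz01⟩ := exists_norm_one_ne_one hK
  have hq2 := q_ge_two hK
  obtain ⟨y, hy, hgy⟩ := Cfsg.Agent.S0783.center_scalar (by omega) hn z0 hz0 hz01 g hg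
  refine ⟨y, hy, ?_⟩
  rw [Matrix.smul_one_eq_diagonal]
  exact hgy

theorem scalar_gu_center (g : ↥(Cfsg.GU n K q)) (c : K) (h : g.1.1 = c • 1) :
    g ∈ Subgroup.center ↥(Cfsg.GU n K q) := by
  rw [Subgroup.mem_center_iff]
  intro x
  apply Subtype.ext
  apply Units.ext
  show x.1.1 * g.1.1 = g.1.1 * x.1.1
  rw [h, Matrix.mul_smul, Matrix.smul_mul, mul_one, one_mul]

theorem mem_center_gu_iff [Fintype K] (hK : Fintype.card K = q ^ 2) (hn : 1 ≤ n)
    (g : ↥(Cfsg.GU n K q)) :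
    g ∈ Subgroup.center ↥(Cfsg.GU n K q) ↔ ∃ c : K, g.1.1 = c • 1 := by
  constructor
  · intro hg
    obtain ⟨c, -, hc⟩ := center_gu_scalar hK hn g hg
    exact ⟨c, hc⟩
  · rintro ⟨c, hc⟩
    exact scalar_gu_center g c hc

theorem norm_of_scalar_gu [Fintype K] (hK : Fintype.card K = q ^ 2) (hn : 1 ≤ n)
    (g : ↥(Cfsg.GU n K q)) (c : K) (h : g.1.1 = c • 1) : c ^ (q + 1) = 1 := by
  obtain ⟨c', hc', hc'2⟩ := center_gu_scalar hK hn g (scalar_gu_center g c h)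
  rw [h] at hc'2
  rw [PGLI.smul_one_inj (by omega) _ _ hc'2]
  exact hc'

theorem orderOf_mk_eq_prime_iff_gu [Fintype K] (hK : Fintype.card K = q ^ 2) (hn : 1 ≤ n)
    (hr : r.Prime) (g : ↥(Cfsg.GU n K q)) :
    orderOf (QuotientGroup.mk g : ↥(Cfsg.GU n K q) ⧸ Subgroup.center ↥(Cfsg.GU n K q)) = r ↔
      (∀ c : K, g.1.1 ≠ c • 1) ∧ ∃ lam : K, g.1.1 ^ r = lam • 1 := by
  have hp : Fact (Nat.Prime r) := ⟨hr⟩
  rw [orderOf_eq_prime_iff, ← QuotientGroup.mk_pow, QuotientGroup.eq_one_iff, ne_eq,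
    QuotientGroup.eq_one_iff, mem_center_gu_iff hK hn, mem_center_gu_iff hK hn, and_comm]
  constructor
  · rintro ⟨h1, c, hc⟩
    refine ⟨fun c hc => h1 ⟨c, hc⟩, c, ?_⟩
    rw [← hc]; rfl
  · rintro ⟨h1, c, hc⟩
    refine ⟨fun ⟨c, hc⟩ => h1 c hc, c, ?_⟩
    rw [← hc]; rfl

theorem isConj_mk_iff_gu [Fintype K] (hK : Fintype.card K = q ^ 2) (hn : 1 ≤ n)
    (g h : ↥(Cfsg.GU n K q)) :
    IsConj (QuotientGroup.mk g : ↥(Cfsg.GU n K q) ⧸ Subgroup.center ↥(Cfsg.GU n K q))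
      (QuotientGroup.mk h) ↔
    ∃ (Q : Matrix (Fin n) (Fin n) K) (ξ : K), IsUnit Q.det ∧ ξ ^ (q + 1) = 1 ∧
      g.1.1 * Q = ξ • (Q * h.1.1) := by
  constructor
  · intro hc
    obtain ⟨cbar, hcbar⟩ := isConj_iff.mp hc
    obtain ⟨c, rfl⟩ := QuotientGroup.mk_surjective cbar
    rw [← QuotientGroup.mk_inv, ← QuotientGroup.mk_mul, ← QuotientGroup.mk_mul,
      QuotientGroup.eq] at hcbar
    obtain ⟨ζ, hζ1, hζ⟩ := center_gu_scalar hK hn _ hcbar
    have hζ0 : ζ ≠ 0 := by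
      rintro rfl
      rw [zero_pow (by omega)] at hζ1
      exact zero_ne_one hζ1
    have h1 : h = (c * g * c⁻¹) * ((c * g * c⁻¹)⁻¹ * h) := by group
    have h2 : h.1.1 = (c.1.1 * g.1.1 * (c⁻¹).1.1) * (ζ • 1) := by
      rw [← hζ]
      exact congrArg (fun x : ↥(Cfsg.GU n K q) => x.1.1) h1
    refine ⟨(c⁻¹).1.1, ζ⁻¹, ?_, ?_, ?_⟩
    · exact (Matrix.isUnit_iff_isUnit_det _).mp (c⁻¹).1.isUnit
    · rw [inv_pow, hζ1, inv_one]
    · rw [h2, Matrix.mul_smul, Matrix.mul_smul, mul_one, smul_smul, inv_mul_cancel₀ hζ0, one_smul,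
        ← mul_assoc, ← mul_assoc]
      have h3 : (c⁻¹).1.1 * c.1.1 = 1 := by
        have := congrArg (fun x : ↥(Cfsg.GU n K q) => x.1.1) (inv_mul_cancel c)
        exact this
      rw [h3, one_mul]
  · rintro ⟨Q, ξ, hQ, hξ, hgQ⟩
    obtain ⟨z, hz, hzc⟩ := exists_scalar_gu (n := n) ξ hξ
    have h1 : (QuotientGroup.mk h : ↥(Cfsg.GU n K q) ⧸ Subgroup.center ↥(Cfsg.GU n K q))
        = QuotientGroup.mk (z * h) := by
      rw [QuotientGroup.mk_mul, (QuotientGroup.eq_one_iff z).mpr hzc, one_mul]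
    rw [h1]
    apply (QuotientGroup.mk' (Subgroup.center ↥(Cfsg.GU n K q))).map_isConj
    rw [FCR.gu_conj_iff hK]
    obtain ⟨c, hc⟩ := (Matrix.isUnit_iff_isUnit_det _).mpr hQ
    apply isConj_iff.mpr
    refine ⟨c⁻¹, ?_⟩
    apply Units.ext
    show (c⁻¹).1 * g.1.1 * (c⁻¹⁻¹).1 = z.1.1 * h.1.1
    rw [inv_inv, mul_assoc, hc, hgQ, hz, Matrix.smul_mul, one_mul, Matrix.mul_smul, ← mul_assoc,
      ← hc, ← Units.val_mul, inv_mul_cancel, Units.val_one, one_mul]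

end Cfsg.Agent.Lib.Helper16.PGUR
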