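import Mathlib
import Cfsg.Agent.Lib.Helper16.Symplectic
import Cfsg.Agent.Lib.Lead.SympCount
import Cfsg.Agent.S2574

set_option autoImplicit false

namespace Cfsg.Agent.Lib.Helper16

open Module

universe u v

theorem alt_family_with {F : Type u} [Field F] (m : ℕ) {V : Type v} [AddCommGroup V] [Module F V]
    [FiniteDimensional F V] (hV : finrank F V = 2 * (m + 1)) (ω : LinearMap.BilinForm F V) (hω : ω.IsAlt)
    (hnd : ω.Nondegenerate) (e₀ : V) (he₀ : e₀ ≠ 0) :
    ∃ e f : Fin (m + 1) → V, e 0 = e₀ ∧ (∀ i j, ω (e i) (f j) = if i = j then 1 else 0) ∧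
      (∀ i j, ω (e i) (e j) = 0 ∧ ω (f i) (f j) = 0) := by
  have : ∃ f₁ : V, ω e₀ f₁ ≠ 0 := by
    by_contra hcon
    push Not at hcon
    exact he₀ (hnd.1 e₀ hcon)
  obtain ⟨f₁, hf₁⟩ := this
  obtain ⟨f₀, hef⟩ : ∃ f₀ : V, ω e₀ f₀ = 1 := by
    refine ⟨(ω e₀ f₁)⁻¹ • f₁, ?_⟩
    rw [map_smul, smul_eq_mul, inv_mul_cancel₀ hf₁]
  have hfe : ω f₀ e₀ = -1 := by rw [← hω.neg_eq, hef]
  have hfr := finrank_altPerp ω hω hef
  have hnd' := altPerp_nondeg ω hω hnd hef
  have hω' : (ω.restrict (altPerp ω e₀ f₀)).IsAlt := fun x => hω (x : V)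
  obtain ⟨e', f', hef', hee'⟩ := alt_family m (by omega) (ω.restrict (altPerp ω e₀ f₀)) hω' hnd'
  have hmem : ∀ w : altPerp ω e₀ f₀, ω e₀ (w : V) = 0 ∧ ω f₀ (w : V) = 0 :=
    fun w => (mem_altPerp ω e₀ f₀ w).mp w.2
  have hmem' : ∀ w : altPerp ω e₀ f₀, ω (w : V) e₀ = 0 ∧ ω (w : V) f₀ = 0 := by
    intro w
    constructor
    · rw [← hω.neg_eq, (hmem w).1, neg_zero]
    · rw [← hω.neg_eq, (hmem w).2, neg_zero]
  refine ⟨Fin.cons e₀ (fun i => (e' i : V)), Fin.cons f₀ (fun i => (f' i : V)), rfl, ?_, ?_⟩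
  · intro i j
    refine Fin.cases ?_ (fun i => ?_) i <;> refine Fin.cases ?_ (fun j => ?_) j
    · simp only [Fin.cons_zero]
      simpa using hef
    · simp only [Fin.cons_zero, Fin.cons_succ]
      rw [(hmem (f' j)).1, if_neg (Fin.succ_ne_zero j).symm]
    · simp only [Fin.cons_zero, Fin.cons_succ]
      rw [(hmem' (e' i)).2, if_neg (Fin.succ_ne_zero i)]
    · simp only [Fin.cons_succ, Fin.succ_inj]
      exact hef' i j
  · intro i j
    refine Fin.cases ?_ (fun i => ?_) i <;> refine Fin.cases ?_ (fun j => ?_) j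
    · simp only [Fin.cons_zero]
      exact ⟨hω e₀, hω f₀⟩
    · simp only [Fin.cons_zero, Fin.cons_succ]
      exact ⟨(hmem (e' j)).1, (hmem (f' j)).2⟩
    · simp only [Fin.cons_zero, Fin.cons_succ]
      exact ⟨(hmem' (e' i)).1, (hmem' (f' i)).2⟩
    · simp only [Fin.cons_succ]
      exact hee' i j

theorem symplectic_basis_of_family {F : Type u} [Field F] {V : Type v} [AddCommGroup V] [Module F V]
    [FiniteDimensional F V] {m : ℕ} (hV : finrank F V = 2 * m) (ω : LinearMap.BilinForm F V) (hω : ω.IsAlt)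
    (e f : Fin m → V) (hef : ∀ i j, ω (e i) (f j) = if i = j then 1 else 0)
    (hee : ∀ i j, ω (e i) (e j) = 0 ∧ ω (f i) (f j) = 0) :
    ∃ b : Basis (Fin m ⊕ Fin m) F V, LinearMap.BilinForm.toMatrix b ω = Matrix.J (Fin m) F ∧
      ∀ i, b (Sum.inr i) = e i := by
  have hfe : ∀ i j, ω (f i) (e j) = if i = j then -1 else 0 := by
    intro i j
    rw [← hω.neg_eq, hef j i]
    by_cases h : i = j
    · subst h; simp
    · rw [if_neg h, if_neg (fun h' => h h'.symm), neg_zero]
  set v : Fin m ⊕ Fin m → V := Sum.elim f e with hv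
  set w : Fin m ⊕ Fin m → V := Sum.elim e f with hw
  set d : Fin m ⊕ Fin m → F := Sum.elim (fun _ => -1) (fun _ => 1) with hd
  have hd0 : ∀ j, d j ≠ 0 := by
    rintro (j | j)
    · simp [hd]
    · simp [hd]
  have hdual : ∀ i j, ω (v i) (w j) = if i = j then d j else 0 := by
    intro i j
    rcases i with i | i <;> rcases j with j | j
    · simp only [hv, hw, hd, Sum.elim_inl, hfe i j, Sum.inl.injEq]
    · simp [hv, hw, (hee i j).2]
    · simp [hv, hw, (hee i j).1]
    · simp only [hv, hw, hd, Sum.elim_inr, hef i j, Sum.inr.injEq]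
  have hli := li_of_dual ω v w d hd0 hdual
  have hcard : Fintype.card (Fin m ⊕ Fin m) = finrank F V := by
    rw [hV, Fintype.card_sum, Fintype.card_fin]; ring
  refine ⟨basisOfLinearIndependentOfCardEqFinrank' v hli hcard, ?_, ?_⟩
  · ext i j
    rw [LinearMap.BilinForm.toMatrix_apply, coe_basisOfLinearIndependentOfCardEqFinrank']
    rcases i with i | i <;> rcases j with j | j
    · simp [hv, Matrix.J, (hee i j).2]
    · simp only [hv, Sum.elim_inl, Sum.elim_inr, hfe i j, Matrix.J, Matrix.fromBlocks_apply₁₂, Matrix.neg_apply,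
        Matrix.one_apply]
      by_cases h : i = j
      · simp [h]
      · simp [h]
    · simp only [hv, Sum.elim_inl, Sum.elim_inr, hef i j, Matrix.J, Matrix.fromBlocks_apply₂₁, Matrix.one_apply]
    · simp [hv, Matrix.J, (hee i j).1]
  · intro i
    rw [coe_basisOfLinearIndependentOfCardEqFinrank', hv]
    rfl

open Matrix Cfsg.Agent.Lib.Lead

section
variable {F : Type*} [Field F] {m : ℕ}

theorem sympB_isAlt : (sympB F m).IsAlt := fun x => sympB_self x

theorem sympB_nondegenerate : (sympB F m).Nondegenerate := by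
  unfold sympB
  apply Matrix.Nondegenerate.toBilin'
  apply Matrix.nondegenerate_of_det_ne_zero
  exact (Matrix.isUnit_det_J (Fin m) F).ne_zero

theorem sp_exists_map (m : ℕ) (v : Fin (m + 1) ⊕ Fin (m + 1) → F) (hv : v ≠ 0) :
    ∃ A : Matrix.symplecticGroup (Fin (m + 1)) F,
      (A : Matrix (Fin (m + 1) ⊕ Fin (m + 1)) (Fin (m + 1) ⊕ Fin (m + 1)) F).mulVec (Pi.single (Sum.inr 0) 1) = v := by
  have hV : finrank F (Fin (m + 1) ⊕ Fin (m + 1) → F) = 2 * (m + 1) := by
    rw [Module.finrank_fintype_fun_eq_card, Fintype.card_sum, Fintype.card_fin]; ring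
  obtain ⟨e, f, he0, hef, hee⟩ := alt_family_with m hV (sympB F (m + 1)) sympB_isAlt sympB_nondegenerate v hv
  obtain ⟨b, hb, hbe⟩ := symplectic_basis_of_family hV (sympB F (m + 1)) sympB_isAlt e f hef hee
  let P : Matrix (Fin (m + 1) ⊕ Fin (m + 1)) (Fin (m + 1) ⊕ Fin (m + 1)) F := Matrix.of (fun k i => b i k)
  have hP : P ∈ Matrix.symplecticGroup (Fin (m + 1)) F := by
    rw [SymplecticGroup.mem_iff']
    ext k l
    rw [Cfsg.Agent.Lib.Lead.gram_apply]
    have := congrFun (congrFun hb k) l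
    rw [LinearMap.BilinForm.toMatrix_apply] at this
    exact this
  refine ⟨⟨P, hP⟩, ?_⟩
  show P.mulVec (Pi.single (Sum.inr 0) 1) = v
  rw [Matrix.mulVec_single_one]
  funext k
  show b (Sum.inr 0) k = v k
  rw [hbe, he0]

theorem sp_transitive (m : ℕ) (v w : Fin (m + 1) ⊕ Fin (m + 1) → F) (hv : v ≠ 0) (hw : w ≠ 0) :
    ∃ A : Matrix.symplecticGroup (Fin (m + 1)) F,
      (A : Matrix (Fin (m + 1) ⊕ Fin (m + 1)) (Fin (m + 1) ⊕ Fin (m + 1)) F).mulVec v = w := by
  obtain ⟨A, hA⟩ := sp_exists_map m v hv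
  obtain ⟨B, hB⟩ := sp_exists_map m w hw
  refine ⟨B * A⁻¹, ?_⟩
  have h1 : (↑(A⁻¹) : Matrix (Fin (m + 1) ⊕ Fin (m + 1)) (Fin (m + 1) ⊕ Fin (m + 1)) F).mulVec v = Pi.single (Sum.inr 0) 1 := by
    rw [← hA, Matrix.mulVec_mulVec]
    have : (↑(A⁻¹) : Matrix (Fin (m + 1) ⊕ Fin (m + 1)) (Fin (m + 1) ⊕ Fin (m + 1)) F) * (A : Matrix _ _ F) = 1 := by
      have := congrArg Subtype.val (inv_mul_cancel A)
      exact this
    rw [this, Matrix.one_mulVec]
  show ((B : Matrix _ _ F) * (↑(A⁻¹) : Matrix (Fin (m + 1) ⊕ Fin (m + 1)) (Fin (m + 1) ⊕ Fin (m + 1)) F)).mulVec v = w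
  rw [← Matrix.mulVec_mulVec, h1, hB]

noncomputable def spEnd (F : Type*) [Field F] (m : ℕ) :
    ↥(Matrix.symplecticGroup (Fin m) F) →* Module.End F (Fin m ⊕ Fin m → F) where
  toFun g := Matrix.toLin' (g : Matrix (Fin m ⊕ Fin m) (Fin m ⊕ Fin m) F)
  map_one' := by
    show Matrix.toLin' (1 : Matrix (Fin m ⊕ Fin m) (Fin m ⊕ Fin m) F) = 1
    exact Matrix.toLin'_one
  map_mul' := by
    intro g h
    show Matrix.toLin' ((g : Matrix (Fin m ⊕ Fin m) (Fin m ⊕ Fin m) F) * (h : Matrix (Fin m ⊕ Fin m) (Fin m ⊕ Fin m) F)) = _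
    rw [Matrix.toLin'_mul]
    rfl

noncomputable def spAction (F : Type*) [Field F] (m : ℕ) :
    MulAction ↥(Matrix.symplecticGroup (Fin m) F) (Fin m ⊕ Fin m → F) :=
  MulAction.compHom _ (spEnd F m)

theorem card_stab [Fintype F] (m : ℕ) (w : Fin (m + 1) ⊕ Fin (m + 1) → F) (hw : w ≠ 0) :
    (Fintype.card F ^ (2 * (m + 1)) - 1) *
      Nat.card {g : Matrix.symplecticGroup (Fin (m + 1)) F //
        (g : Matrix (Fin (m + 1) ⊕ Fin (m + 1)) (Fin (m + 1) ⊕ Fin (m + 1)) F).mulVec w = w} =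
      Nat.card (Matrix.symplecticGroup (Fin (m + 1)) F) := by
  classical
  let _ := spAction F (m + 1)
  have hsmul : ∀ (g : Matrix.symplecticGroup (Fin (m + 1)) F) (v : Fin (m + 1) ⊕ Fin (m + 1) → F),
      g • v = (g : Matrix _ _ F).mulVec v := fun g v => rfl
  have horbit : ∀ v : Fin (m + 1) ⊕ Fin (m + 1) → F,
      v ∈ MulAction.orbit (Matrix.symplecticGroup (Fin (m + 1)) F) w ↔ v ≠ 0 := by
    intro v
    constructor
    · rintro ⟨g, rfl⟩ h0
      apply hw
      replace h0 : (g : Matrix (Fin (m + 1) ⊕ Fin (m + 1)) (Fin (m + 1) ⊕ Fin (m + 1)) F).mulVec w = 0 := h0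
      have : (↑(g⁻¹) : Matrix (Fin (m + 1) ⊕ Fin (m + 1)) (Fin (m + 1) ⊕ Fin (m + 1)) F) * (g : Matrix _ _ F) = 1 := by
        have := congrArg Subtype.val (inv_mul_cancel g)
        exact this
      have h1 := congrArg (fun x => (↑(g⁻¹) : Matrix (Fin (m + 1) ⊕ Fin (m + 1)) (Fin (m + 1) ⊕ Fin (m + 1)) F).mulVec x) h0
      simp only [Matrix.mulVec_mulVec, this, Matrix.one_mulVec, Matrix.mulVec_zero] at h1
      exact h1
    · intro hv
      obtain ⟨A, hA⟩ := sp_transitive m w v hw hv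
      exact ⟨A, hA⟩
  have h1 : Nat.card (MulAction.orbit (Matrix.symplecticGroup (Fin (m + 1)) F) w) = Fintype.card F ^ (2 * (m + 1)) - 1 := by
    rw [Nat.card_congr (Equiv.subtypeEquivRight horbit), Nat.card_eq_fintype_card,
      Fintype.card_subtype_compl, Fintype.card_pi]
    simp only [Finset.prod_const, Finset.card_univ, Fintype.card_sum, Fintype.card_fin, Fintype.card_unique]
    congr 2
    ring
  have h2 : Nat.card (MulAction.stabilizer (Matrix.symplecticGroup (Fin (m + 1)) F) w) =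
      Nat.card {g : Matrix.symplecticGroup (Fin (m + 1)) F //
        (g : Matrix (Fin (m + 1) ⊕ Fin (m + 1)) (Fin (m + 1) ⊕ Fin (m + 1)) F).mulVec w = w} := by
    apply Nat.card_congr
    apply Equiv.subtypeEquivRight
    intro g
    rw [MulAction.mem_stabilizer_iff]
    exact Iff.rfl
  rw [← h1, ← h2, ← Nat.card_prod]
  exact Nat.card_congr (MulAction.orbitProdStabilizerEquivGroup _ w)

end

section
variable {F : Type*} [Field F] {m : ℕ}

theorem sympB_pres (A : Matrix.symplecticGroup (Fin m) F) (x y : Fin m ⊕ Fin m → F) :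
    sympB F m ((A : Matrix (Fin m ⊕ Fin m) (Fin m ⊕ Fin m) F).mulVec x)
      ((A : Matrix (Fin m ⊕ Fin m) (Fin m ⊕ Fin m) F).mulVec y) = sympB F m x y := by
  rw [sympB_apply, sympB_apply]
  exact Cfsg.Agent.S2574.symp_pres _ A.2 x y

theorem sp_transv_centralizer [CharP F 2] (t : Matrix.symplecticGroup (Fin m) F)
    (ht : ((t : Matrix (Fin m ⊕ Fin m) (Fin m ⊕ Fin m) F) - 1).rank = 1) :
    ∃ w : Fin m ⊕ Fin m → F, w ≠ 0 ∧ ∀ g : Matrix.symplecticGroup (Fin m) F,
      (g * t = t * g ↔ (g : Matrix (Fin m ⊕ Fin m) (Fin m ⊕ Fin m) F).mulVec w = w) := by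
  set N := (t : Matrix (Fin m ⊕ Fin m) (Fin m ⊕ Fin m) F) - 1 with hN
  have htN : ∀ x, (t : Matrix (Fin m ⊕ Fin m) (Fin m ⊕ Fin m) F).mulVec x = x + N.mulVec x := by
    intro x
    rw [hN, Matrix.sub_mulVec, Matrix.one_mulVec]
    abel
  have hr : finrank F (LinearMap.range (Matrix.mulVecLin N)) = 1 := ht
  obtain ⟨⟨w, hwr⟩, hw0, hspan⟩ := finrank_eq_one_iff'.mp hr
  have hw : w ≠ 0 := fun h => hw0 (Subtype.ext h)
  have hc : ∀ x, ∃ c : F, N.mulVec x = c • w := by
    intro x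
    obtain ⟨c, hc⟩ := hspan ⟨N.mulVec x, ⟨x, rfl⟩⟩
    exact ⟨c, (congrArg Subtype.val hc).symm⟩
  choose c hcx using hc
  set ω := sympB F m with hω
  have h2 : (2 : F) = 0 := CharTwo.two_eq_zero
  have hsymm : ∀ x y, ω x y = ω y x := by
    intro x y
    rw [hω, sympB_antisymm x y]
    have : (-1 : F) = 1 := by rw [CharTwo.neg_eq]
    rw [this, one_mul]
  have hself : ∀ x, ω x x = 0 := fun x => sympB_self x
  have hkey : ∀ x y, c y * ω x w = c x * ω y w := by
    intro x y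
    have h1 := sympB_pres t x y
    rw [htN, htN, hcx, hcx] at h1
    simp only [map_add, map_smul, LinearMap.add_apply, LinearMap.smul_apply, smul_eq_mul, ← hω, hself,
      mul_zero, add_zero] at h1
    rw [hsymm w y] at h1
    have h3 : c y * ω x w + c x * ω y w = 0 := by linear_combination h1
    have h4 : c x * ω y w + c x * ω y w = 0 := by
      have : c x * ω y w + c x * ω y w = 2 * (c x * ω y w) := by ring
      rw [this, h2, zero_mul]
    linear_combination h3 - h4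
  obtain ⟨y₀, hy₀⟩ : ∃ y₀, c y₀ ≠ 0 := by
    by_contra hcon
    push Not at hcon
    obtain ⟨x, rfl⟩ := hwr
    apply hw
    show N.mulVec x = 0
    rw [hcx, hcon, zero_smul]
  obtain ⟨x₀, hx₀⟩ : ∃ x₀, ω x₀ w ≠ 0 := by
    obtain ⟨x, hx⟩ := sympB_nondeg w hw
    exact ⟨x, by rw [hsymm]; exact hx⟩
  have hcform : ∀ x, c x * ω y₀ w = c y₀ * ω x w := fun x => (hkey x y₀).symm
  have hκ : ω y₀ w ≠ 0 := by
    intro h0
    have := hcform x₀
    rw [h0, mul_zero] at this
    exact (mul_ne_zero hy₀ hx₀) this.symm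
  refine ⟨w, hw, ?_⟩
  intro g
  set G := (g : Matrix (Fin m ⊕ Fin m) (Fin m ⊕ Fin m) F) with hG
  have hcomm_iff : g * t = t * g ↔ ∀ x, G.mulVec (N.mulVec x) = N.mulVec (G.mulVec x) := by
    constructor
    · intro h x
      have h1 : G * (t : Matrix (Fin m ⊕ Fin m) (Fin m ⊕ Fin m) F) = (t : Matrix (Fin m ⊕ Fin m) (Fin m ⊕ Fin m) F) * G := by
        have := congrArg Subtype.val h
        exact this
      have h3 : G * N = N * G := by
        rw [hN, mul_sub, sub_mul, mul_one, one_mul, h1]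
      rw [Matrix.mulVec_mulVec, Matrix.mulVec_mulVec, h3]
    · intro h
      apply Subtype.ext
      show G * (t : Matrix (Fin m ⊕ Fin m) (Fin m ⊕ Fin m) F) = (t : Matrix (Fin m ⊕ Fin m) (Fin m ⊕ Fin m) F) * G
      have h3 : G * N = N * G := by
        apply Matrix.toLin'.injective
        apply LinearMap.ext
        intro x
        simp only [Matrix.toLin'_apply, ← Matrix.mulVec_mulVec]
        exact h x
      have : (t : Matrix (Fin m ⊕ Fin m) (Fin m ⊕ Fin m) F) = 1 + N := by rw [hN]; abel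
      rw [this, mul_add, add_mul, mul_one, one_mul, h3]
  rw [hcomm_iff]
  constructor
  · intro h
    have h1 := h y₀
    rw [hcx, hcx, Matrix.mulVec_smul] at h1
    set μ := c (G.mulVec y₀) / c y₀ with hμ
    have hgw : G.mulVec w = μ • w := by
      have : G.mulVec w = (c y₀)⁻¹ • (c y₀ • G.mulVec w) := by
        rw [smul_smul, inv_mul_cancel₀ hy₀, one_smul]
      rw [this, h1, smul_smul, hμ]
      congr 1
      field_simp
    have hμc : ∀ x, c x * μ = c (G.mulVec x) := by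
      intro x
      have h3 := h x
      rw [hcx, hcx, Matrix.mulVec_smul, hgw, smul_smul] at h3
      by_contra hne
      apply hw
      have h4 : (c x * μ - c (G.mulVec x)) • w = 0 := by rw [sub_smul, h3, sub_self]
      rcases smul_eq_zero.mp h4 with h5 | h5
      · exact absurd (sub_eq_zero.mp h5) hne
      · exact h5
    have hμ1 : μ * μ = 1 := by
      have h3 := hμc x₀
      have h4 := hcform x₀
      have h5 := hcform (G.mulVec x₀)
      have h6 : ω (G.mulVec x₀) (μ • w) = ω x₀ w := by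
        rw [← hgw]
        exact sympB_pres g x₀ w
      rw [map_smul, smul_eq_mul] at h6
      have h7 : c y₀ * ω x₀ w * (μ * μ) = c y₀ * ω x₀ w := by
        calc c y₀ * ω x₀ w * (μ * μ) = (c x₀ * μ) * ω y₀ w * μ := by rw [← h4]; ring
          _ = c (G.mulVec x₀) * ω y₀ w * μ := by rw [h3]
          _ = c y₀ * (μ * ω (G.mulVec x₀) w) := by rw [h5]; ring
          _ = c y₀ * ω x₀ w := by rw [h6]
      have h8 : c y₀ * ω x₀ w ≠ 0 := mul_ne_zero hy₀ hx₀
      exact mul_left_cancel₀ h8 (by rw [h7, mul_one])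
    have hμ2 : μ = 1 := by
      have h3 : (μ - 1) * (μ - 1) = 0 := by
        have : (μ - 1) * (μ - 1) = μ * μ - 2 * μ + 1 := by ring
        rw [this, hμ1, h2, zero_mul, sub_zero]
        have : (1 : F) + 1 = 2 := by norm_num
        rw [this, h2]
      have := mul_self_eq_zero.mp h3
      exact sub_eq_zero.mp this
    rw [hgw, hμ2, one_smul]
  · intro hgw x
    rw [hcx, hcx, Matrix.mulVec_smul, hgw]
    congr 1
    have h3 := hcform x
    have h4 := hcform (G.mulVec x)
    have h5 : ω (G.mulVec x) w = ω x w := by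
      have := sympB_pres g x w
      rw [← hG, hgw] at this
      exact this
    rw [h5, ← h3] at h4
    exact (mul_right_cancel₀ hκ h4).symm

end

end Cfsg.Agent.Lib.Helper16
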