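import Mathlib
import Cfsg.Agent.Lib.Helper10.RES.Defs
import Cfsg.Agent.Lib.Helper25.RESGA5

/-!
# Project RES, piece GA6a : orders of `z` and `Z`
-/

set_option autoImplicit false
set_option linter.unusedVariables false

namespace Cfsg.Agent.Lib.Helper10.RES

variable {Ω : Type*} [Group Ω]

section G
variable {p n s : ℕ} [Fact p.Prime] {S : Subgroup Ω} {x y z : Ω}

/-- **GA6a**. orders of `z` and `Z`. -/
theorem F2Set.orders (hF : F2Set p n s S x y z) :
    orderOf z = p ^ (n - 2) ∧ Nat.card (ZZ p z) = p ^ (n - 3) := by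
  have hp : p.Prime := Fact.out
  have h1 : orderOf z ∣ p ^ (n - 2) := orderOf_dvd_of_pow_eq_one hF.zp
  have h2 : p ^ (n - 2) ∣ orderOf z := by
    have h := hF.normal_form 0 0 (orderOf z) (by rw [pow_zero, pow_zero, one_mul, one_mul, pow_orderOf_eq_one])
    exact h.2.2
  have ho : orderOf z = p ^ (n - 2) := Nat.dvd_antisymm h1 h2
  refine ⟨ho, ?_⟩
  have hn4 := hF.hn4
  have hpos : 0 < orderOf z := by rw [ho]; exact pow_pos hp.pos _
  have hfin : IsOfFinOrder z := orderOf_pos_iff.1 hpos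
  unfold ZZ
  rw [Nat.card_zpowers, hfin.orderOf_pow, ho]
  have e1 : n - 2 = (n - 3) + 1 := by omega
  rw [e1, pow_succ]
  have hg : Nat.gcd (p ^ (n - 3) * p) p = p := Nat.gcd_eq_right (Dvd.intro_left _ rfl)
  rw [hg, Nat.mul_div_cancel _ hp.pos]

end G

end Cfsg.Agent.Lib.Helper10.RES
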