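import Mathlib
import Cfsg.Agent.Lib.helper7.SPC.Defs

set_option autoImplicit false

/-!
# Project SPC (designer helper7), row D2: `disc_sum` (helper16).
-/

namespace Cfsg.Agent.Lib.helper7.SPC

universe u

open Module

variable {F : Type u} [Field F]

/-- first projection of the orthogonal sum -/
def spcd2_p1 (T T' : Trip F) : (TSum T T').V →ₗ[F] T.V := LinearMap.fst F T.V T'.V

/-- second projection of the orthogonal sum -/
def spcd2_p2 (T T' : Trip F) : (TSum T T').V →ₗ[F] T'.V := LinearMap.snd F T.V T'.V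

/-- pairing -/
def spcd2_mk (T T' : Trip F) (a : T.V) (b : T'.V) : (TSum T T').V := ((a, b) : T.V × T'.V)

theorem spcd2_p1_mk (T T' : Trip F) (a : T.V) (b : T'.V) : spcd2_p1 T T' (spcd2_mk T T' a b) = a := rfl

theorem spcd2_p2_mk (T T' : Trip F) (a : T.V) (b : T'.V) : spcd2_p2 T T' (spcd2_mk T T' a b) = b := rfl

theorem spcd2_B (T T' : Trip F) (x y : (TSum T T').V) :
    (TSum T T').B x y = T.B (spcd2_p1 T T' x) (spcd2_p1 T T' y) + T'.B (spcd2_p2 T T' x) (spcd2_p2 T T' y) :=
  rfl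

theorem spcd2_N1 (T T' : Trip F) (z : (TSum T T').V) :
    spcd2_p1 T T' ((TSum T T').N z) = T.N (spcd2_p1 T T' z) := rfl

theorem spcd2_N2 (T T' : Trip F) (z : (TSum T T').V) :
    spcd2_p2 T T' ((TSum T T').N z) = T'.N (spcd2_p2 T T' z) := rfl

theorem spcd2_pow1 (T T' : Trip F) (j : ℕ) (z : (TSum T T').V) :
    spcd2_p1 T T' (((TSum T T').N ^ j) z) = (T.N ^ j) (spcd2_p1 T T' z) := by
  induction j generalizing z with
  | zero => rfl
  | succ j ih =>
    rw [pow_succ, pow_succ, Module.End.mul_apply, Module.End.mul_apply, ih, spcd2_N1]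

theorem spcd2_pow2 (T T' : Trip F) (j : ℕ) (z : (TSum T T').V) :
    spcd2_p2 T T' (((TSum T T').N ^ j) z) = (T'.N ^ j) (spcd2_p2 T T' z) := by
  induction j generalizing z with
  | zero => rfl
  | succ j ih =>
    rw [pow_succ, pow_succ, Module.End.mul_apply, Module.End.mul_apply, ih, spcd2_N2]

theorem spcd2_ext (T T' : Trip F) (x y : (TSum T T').V) (h1 : spcd2_p1 T T' x = spcd2_p1 T T' y)
    (h2 : spcd2_p2 T T' x = spcd2_p2 T T' y) : x = y := Prod.ext h1 h2

theorem spcd2_beta (T T' : Trip F) (k : ℕ) (x y : (TSum T T').V) :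
    (TSum T T').beta k x y =
      T.beta k (spcd2_p1 T T' x) (spcd2_p1 T T' y) + T'.beta k (spcd2_p2 T T' x) (spcd2_p2 T T' y) := by
  unfold Trip.beta
  rw [spcd2_B, spcd2_pow1, spcd2_pow2]

theorem spcd2_beta_zero_left (T : Trip F) (k : ℕ) (y : T.V) : T.beta k 0 y = 0 := by
  unfold Trip.beta
  rw [map_zero, LinearMap.zero_apply]

theorem spcd2_beta_zero_right (T : Trip F) (k : ℕ) (x : T.V) : T.beta k x 0 = 0 := by
  unfold Trip.beta
  rw [map_zero, map_zero]

/-- D2 [M]: `ι ⊕ ι'`, `u = Sum.elim (fun i => (u i, 0)) (fun i => (0, u' i))`; `((TSum T T').N ^ j) z = ((T.N ^ j) z.1, (T'.N ^ j) z.2)`; `beta` of the sum is the sum of the `beta`s (`TSum_B`);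
`Fintype.card_sum`, `Fintype.prod_sum_type`, `Fintype.sum_sum_type`. -/
theorem disc_sum (T T' : Trip F) (k r r' : ℕ) (d d' : F) (h : HasDisc T k r d) (h' : HasDisc T' k r' d') :
    HasDisc (TSum T T') k (r + r') (d * d') := by
  obtain ⟨ι, i1, i2, u, c, hcard, hu, hc, hg, hspan, hd⟩ := h
  obtain ⟨ι', i1', i2', u', c', hcard', hu', hc', hg', hspan', hd'⟩ := h'
  refine ⟨ι ⊕ ι', inferInstance, inferInstance,
    Sum.elim (fun i => spcd2_mk T T' (u i) 0) (fun i => spcd2_mk T T' 0 (u' i)),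
    Sum.elim c c', ?_, ?_, ?_, ?_, ?_, ?_⟩
  · rw [Fintype.card_sum, hcard, hcard']
  · rintro (i | i)
    · apply spcd2_ext
      · rw [spcd2_pow1]
        show (T.N ^ k) (u i) = 0
        exact hu i
      · rw [spcd2_pow2]
        show (T'.N ^ k) 0 = 0
        exact map_zero _
    · apply spcd2_ext
      · rw [spcd2_pow1]
        show (T.N ^ k) 0 = 0
        exact map_zero _
      · rw [spcd2_pow2]
        show (T'.N ^ k) (u' i) = 0
        exact hu' i
  · rintro (i | i)
    · exact hc i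
    · exact hc' i
  · rintro (i | i) (j | j)
    · rw [spcd2_beta]
      show T.beta k (u i) (u j) + T'.beta k 0 0 = _
      rw [spcd2_beta_zero_left, add_zero, hg i j]
      by_cases hij : i = j
      · subst hij
        rw [if_pos rfl, if_pos rfl]
        rfl
      · rw [if_neg hij, if_neg (fun h => hij (Sum.inl.inj h))]
    · rw [spcd2_beta]
      show T.beta k (u i) 0 + T'.beta k 0 (u' j) = _
      rw [spcd2_beta_zero_left, spcd2_beta_zero_right, add_zero, if_neg (by simp)]
    · rw [spcd2_beta]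
      show T.beta k 0 (u j) + T'.beta k (u' i) 0 = _
      rw [spcd2_beta_zero_left, spcd2_beta_zero_right, add_zero, if_neg (by simp)]
    · rw [spcd2_beta]
      show T.beta k 0 0 + T'.beta k (u' i) (u' j) = _
      rw [spcd2_beta_zero_left, zero_add, hg' i j]
      by_cases hij : i = j
      · subst hij
        rw [if_pos rfl, if_pos rfl]
        rfl
      · rw [if_neg hij, if_neg (fun h => hij (Sum.inr.inj h))]
  · intro z hz
    have hz1 : (T.N ^ k) (spcd2_p1 T T' z) = 0 := by
      rw [← spcd2_pow1, hz, map_zero]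
    have hz2 : (T'.N ^ k) (spcd2_p2 T T' z) = 0 := by
      rw [← spcd2_pow2, hz, map_zero]
    obtain ⟨a, ha⟩ := hspan _ hz1
    obtain ⟨a', ha'⟩ := hspan' _ hz2
    refine ⟨Sum.elim a a', ?_⟩
    intro w hw
    have hw1 : (T.N ^ k) (spcd2_p1 T T' w) = 0 := by
      rw [← spcd2_pow1, hw, map_zero]
    have hw2 : (T'.N ^ k) (spcd2_p2 T T' w) = 0 := by
      rw [← spcd2_pow2, hw, map_zero]
    rw [spcd2_beta]
    have e1 : spcd2_p1 T T' (z - ∑ i, Sum.elim a a' i •
        Sum.elim (fun i => spcd2_mk T T' (u i) 0) (fun i => spcd2_mk T T' 0 (u' i)) i)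
        = spcd2_p1 T T' z - ∑ i, a i • u i := by
      rw [map_sub, map_sum, Fintype.sum_sum_type]
      simp only [Sum.elim_inl, Sum.elim_inr, map_smul, spcd2_p1_mk, smul_zero, Finset.sum_const_zero,
        add_zero]
    have e2 : spcd2_p2 T T' (z - ∑ i, Sum.elim a a' i •
        Sum.elim (fun i => spcd2_mk T T' (u i) 0) (fun i => spcd2_mk T T' 0 (u' i)) i)
        = spcd2_p2 T T' z - ∑ i, a' i • u' i := by
      rw [map_sub, map_sum, Fintype.sum_sum_type]
      simp only [Sum.elim_inl, Sum.elim_inr, map_smul, spcd2_p2_mk, smul_zero, Finset.sum_const_zero,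
        zero_add]
    rw [e1, e2, ha _ hw1, ha' _ hw2, add_zero]
  · rw [Fintype.prod_sum_type, hd, hd']
    rfl

end Cfsg.Agent.Lib.helper7.SPC
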