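import Mathlib
import Cfsg.Agent.Lib.helper7.SPC.Defs

set_option autoImplicit false

/-!
# Project SPC (designer helper7), rows D4A, D4B, D4C (helper16): the discriminants of the blocks.
Coordinates: `(N^j v) i = v (i - j)` for `j ≤ i`, `0` otherwise (`spcd4_pow_apply`); for the block `A l c`:
`β_k (x, y) = x ⬝ᵥ gramA l c *ᵥ (S^(k-1) *ᵥ y)` (`spcd4_betaA`).
-/

namespace Cfsg.Agent.Lib.helper7.SPC

universe u

open Module Matrix

variable {F : Type u} [Field F]

theorem spcd4_shift_apply (l : ℕ) (v : Fin l → F) (i : Fin l) :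
    (shiftM l F *ᵥ v) i = if h : 1 ≤ i.val then v ⟨i.val - 1, by have := i.isLt; omega⟩ else 0 := by
  rw [Matrix.mulVec, dotProduct]
  by_cases h : 1 ≤ i.val
  · rw [dif_pos h, Finset.sum_eq_single (⟨i.val - 1, by have := i.isLt; omega⟩ : Fin l)]
    · unfold shiftM
      rw [if_pos (by simp only; omega), one_mul]
    · intro b _ hb
      unfold shiftM
      rw [if_neg, zero_mul]
      intro h1
      apply hb
      apply Fin.ext
      simp only
      omega
    · intro h1
      exact absurd (Finset.mem_univ _) h1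
  · rw [dif_neg h]
    apply Finset.sum_eq_zero
    intro b _
    unfold shiftM
    rw [if_neg (by omega), zero_mul]

theorem spcd4_pow_apply (l : ℕ) (j : ℕ) (v : Fin l → F) (i : Fin l) :
    ((shiftM l F ^ j) *ᵥ v) i = if h : j ≤ i.val then v ⟨i.val - j, by have := i.isLt; omega⟩ else 0 := by
  induction j generalizing i with
  | zero =>
    rw [pow_zero, Matrix.one_mulVec, dif_pos (Nat.zero_le _)]
    rfl
  | succ j ih =>
    rw [pow_succ', ← Matrix.mulVec_mulVec, spcd4_shift_apply]
    by_cases h : 1 ≤ i.val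
    · rw [dif_pos h, ih]
      by_cases h2 : j + 1 ≤ i.val
      · rw [dif_pos h2, dif_pos (by simp only; omega)]
        congr 1
        apply Fin.ext
        simp only
        omega
      · rw [dif_neg h2, dif_neg (by simp only; omega)]
    · rw [dif_neg h, dif_neg (by omega)]

theorem spcd4_N_pow (l : ℕ) (c : F) (j : ℕ) (v : Fin l → F) :
    ((blkA l c).N ^ j) v = (shiftM l F ^ j) *ᵥ v := by
  show ((Matrix.toLin' (shiftM l F)) ^ j) v = _
  rw [← Matrix.toLin'_pow, Matrix.toLin'_apply]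

theorem spcd4_betaA (l : ℕ) (c : F) (k : ℕ) (x y : Fin l → F) :
    (blkA l c).beta k x y = x ⬝ᵥ (gramA l c *ᵥ ((shiftM l F ^ (k - 1)) *ᵥ y)) := by
  unfold Trip.beta
  rw [spcd4_N_pow]
  exact Matrix.toLinearMap₂'_apply' _ _ _

/-- the kernel of `N^k` in coordinates -/
theorem spcd4_ker (l k : ℕ) (z : Fin l → F) (hz : (shiftM l F ^ k) *ᵥ z = 0) (a : Fin l)
    (ha : a.val + k < l) : z a = 0 := by
  have h1 := congrFun hz ⟨a.val + k, ha⟩
  rw [spcd4_pow_apply, dif_pos (by simp only; omega)] at h1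
  have h2 : (⟨(⟨a.val + k, ha⟩ : Fin l).val - k, by simp only; omega⟩ : Fin l) = a := by
    apply Fin.ext
    simp only
    omega
  rw [h2] at h1
  exact h1

/-- core of D4B/D4C: `x ⬝ᵥ gramA l c *ᵥ (S^(k-1) y) = 0` if `S^k x = 0 = S^k y`, `l ≠ k` -/
theorem spcd4_vanish (l k : ℕ) (hk0 : 0 < k) (hlk : l ≠ k) (c : F) (x y : Fin l → F)
    (hx : (shiftM l F ^ k) *ᵥ x = 0) (hy : (shiftM l F ^ k) *ᵥ y = 0) :
    x ⬝ᵥ (gramA l c *ᵥ ((shiftM l F ^ (k - 1)) *ᵥ y)) = 0 := by
  rw [dotProduct]
  apply Finset.sum_eq_zero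
  intro a _
  rw [Matrix.mulVec, dotProduct]
  by_cases hxa : x a = 0
  · rw [hxa, zero_mul]
  have ha : l ≤ a.val + k := by
    by_contra hcon
    exact hxa (spcd4_ker l k x hx a (by omega))
  have : ∑ b, gramA l c a b * ((shiftM l F ^ (k - 1)) *ᵥ y) b = 0 := by
    apply Finset.sum_eq_zero
    intro b _
    unfold gramA
    by_cases hab : a.val + b.val + 1 = l
    · rw [if_pos hab, spcd4_pow_apply]
      by_cases hb : k - 1 ≤ b.val
      · rw [dif_pos hb]
        -- the index b - (k-1) = l - 1 - a - (k - 1) ≤ 0, and l ≠ k forces y there to vanish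
        have hidx : (b.val - (k - 1)) + k < l := by
          have := a.isLt
          have := b.isLt
          omega
        rw [spcd4_ker l k y hy ⟨b.val - (k - 1), by have := b.isLt; omega⟩ hidx, mul_zero]
      · rw [dif_neg hb, mul_zero]
    · rw [if_neg hab, zero_mul]
  rw [this, mul_zero]

/-- D4A [M]: `ι = Unit`, `u = e_0` (`Pi.single ⟨0, hk0⟩ 1`), `β (e_0, e_0) = B (e_0, e_(k-1)) = c`; `N^k = 0` on the block; for `z` take `a = z 0`: `β (e_a, w) = B (e_a, w_0 e_(k-1)) = 0` for `a ≥ 1`. -/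
theorem disc_blkA_self (k : ℕ) (hk0 : 0 < k) (c : F) (hc : c ≠ 0) : HasDisc (blkA k c) k 1 c := by
  classical
  -- the formula `β_k (x, y) = x 0 * c * y 0`
  have hbeta : ∀ x y : Fin k → F, (blkA k c).beta k x y = x ⟨0, hk0⟩ * c * y ⟨0, hk0⟩ := by
    intro x y
    rw [spcd4_betaA, dotProduct, Finset.sum_eq_single (⟨0, hk0⟩ : Fin k)]
    · rw [Matrix.mulVec, dotProduct, Finset.sum_eq_single (⟨k - 1, by omega⟩ : Fin k)]
      · unfold gramA
        rw [if_pos (by simp only; omega), spcd4_pow_apply, dif_pos (by simp only; omega)]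
        have h2 : (⟨(⟨k - 1, by omega⟩ : Fin k).val - (k - 1), by simp only; omega⟩ : Fin k) = ⟨0, hk0⟩ := by
          apply Fin.ext
          simp only
          omega
        rw [h2]
        simp only [pow_zero, one_mul]
        ring
      · intro b _ hb
        unfold gramA
        rw [if_neg, zero_mul]
        intro h1
        apply hb
        apply Fin.ext
        simp only at h1 ⊢
        omega
      · intro h1
        exact absurd (Finset.mem_univ _) h1
    · intro a _ ha
      have ha' : 1 ≤ a.val := by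
        by_contra hcon
        apply ha
        apply Fin.ext
        simp only
        omega
      have : (gramA k c *ᵥ ((shiftM k F ^ (k - 1)) *ᵥ y)) a = 0 := by
        rw [Matrix.mulVec, dotProduct]
        apply Finset.sum_eq_zero
        intro b _
        unfold gramA
        by_cases hab : a.val + b.val + 1 = k
        · rw [if_pos hab, spcd4_pow_apply, dif_neg (by omega), mul_zero]
        · rw [if_neg hab, zero_mul]
      rw [this, mul_zero]
    · intro h1
      exact absurd (Finset.mem_univ _) h1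
  refine ⟨Unit, inferInstance, inferInstance, fun _ => (Pi.single (⟨0, hk0⟩ : Fin k) (1 : F) : Fin k → F),
    fun _ => c, ?_, ?_, ?_, ?_, ?_, ?_⟩
  · rfl
  · intro _
    show ((blkA k c).N ^ k) (Pi.single (⟨0, hk0⟩ : Fin k) (1 : F) : Fin k → F) = 0
    rw [spcd4_N_pow]
    funext i
    rw [spcd4_pow_apply, dif_neg (by have := i.isLt; omega)]
    rfl
  · intro _
    exact hc
  · intro i j
    rw [if_pos (Subsingleton.elim i j)]
    show (blkA k c).beta k (Pi.single (⟨0, hk0⟩ : Fin k) (1 : F) : Fin k → F)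
      (Pi.single (⟨0, hk0⟩ : Fin k) (1 : F) : Fin k → F) = c
    rw [hbeta, Pi.single_eq_same]
    ring
  · intro (z : Fin k → F) _
    refine ⟨fun _ => z ⟨0, hk0⟩, ?_⟩
    intro (w : Fin k → F) _
    show (blkA k c).beta k
      ((z - ∑ _i : Unit, z ⟨0, hk0⟩ • (Pi.single (⟨0, hk0⟩ : Fin k) (1 : F) : Fin k → F)) : Fin k → F) w = 0
    rw [hbeta]
    have : (z - ∑ _i : Unit, z ⟨0, hk0⟩ • (Pi.single (⟨0, hk0⟩ : Fin k) (1 : F) : Fin k → F)) ⟨0, hk0⟩ = 0 := by
      simp
    rw [this, zero_mul, zero_mul]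
  · simp

/-- D4B [M]: `ι = Empty`; to show: `β_k (z, w) = 0` for `z, w ∈ ker N^k`.  `l < k`: `N^(k-1) = 0`.  `l > k`: `z ∈ ker N^k` iff `z_a = 0` for `a + k < l`; `β_k (z, w) = Σ z_a w_b B (e_a, e_(b+k-1))`,
non-zero terms need `a + b = l - k` with `a, b ≥ l - k ≥ 1`: impossible. -/
theorem disc_blkA_ne (l k : ℕ) (hk0 : 0 < k) (hlk : l ≠ k) (c : F) : HasDisc (blkA l c) k 0 1 := by
  classical
  refine ⟨Empty, inferInstance, inferInstance, fun i => i.elim, fun i => i.elim, ?_, ?_, ?_, ?_, ?_, ?_⟩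
  · rfl
  · intro i
    exact i.elim
  · intro i
    exact i.elim
  · intro i
    exact i.elim
  · intro z hz
    refine ⟨fun i => i.elim, ?_⟩
    intro w hw
    rw [Finset.univ_eq_empty, Finset.sum_empty, sub_zero]
    have hz' : ((blkA l c).N ^ k) (show Fin l → F from z) = 0 := hz
    have hw' : ((blkA l c).N ^ k) (show Fin l → F from w) = 0 := hw
    rw [spcd4_N_pow] at hz' hw'
    show (blkA l c).beta k (show Fin l → F from z) (show Fin l → F from w) = 0
    rw [spcd4_betaA]
    exact spcd4_vanish l k hk0 hlk c _ _ hz' hw'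
  · simp

end Cfsg.Agent.Lib.helper7.SPC
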