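import Mathlib
import Cfsg.Agent.Lib.helper7.SPC.Defs
import Cfsg.Agent.Lib.Helper16.SPCD4A

set_option autoImplicit false

/-!
# Project SPC (designer helper7), row D4C (helper16): `disc_blkH`, `disc_zero`.
-/

namespace Cfsg.Agent.Lib.helper7.SPC

universe u

open Module Matrix

variable {F : Type u} [Field F]

/-- transposed companion of `spcd4_vanish` -/
theorem spcd4_vanish' (l k : ℕ) (hk0 : 0 < k) (hlk : l ≠ k) (c : F) (x y : Fin l → F)
    (hx : (shiftM l F ^ k) *ᵥ x = 0) (hy : (shiftM l F ^ k) *ᵥ y = 0) :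
    ((shiftM l F ^ (k - 1)) *ᵥ y) ⬝ᵥ (gramA l c *ᵥ x) = 0 := by
  rw [dotProduct]
  apply Finset.sum_eq_zero
  intro a _
  rw [spcd4_pow_apply]
  by_cases ha : k - 1 ≤ a.val
  · rw [dif_pos ha]
    by_cases hya : y ⟨a.val - (k - 1), by have := a.isLt; omega⟩ = 0
    · rw [hya, zero_mul]
    have h1 : l ≤ (a.val - (k - 1)) + k := by
      by_contra hcon
      exact hya (spcd4_ker l k y hy ⟨a.val - (k - 1), by have := a.isLt; omega⟩ (by simp only; omega))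
    have : (gramA l c *ᵥ x) a = 0 := by
      rw [Matrix.mulVec, dotProduct]
      apply Finset.sum_eq_zero
      intro b _
      unfold gramA
      by_cases hab : a.val + b.val + 1 = l
      · rw [if_pos hab]
        have hb : b.val + k < l := by
          have := a.isLt
          have := b.isLt
          omega
        rw [spcd4_ker l k x hx b hb, mul_zero]
      · rw [if_neg hab, zero_mul]
    rw [this, mul_zero]
  · rw [dif_neg ha, zero_mul]

theorem spcd4_H_pow (l : ℕ) (j : ℕ) (v : Fin l ⊕ Fin l → F) :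
    ((blkH l F).N ^ j) v = Sum.elim ((shiftM l F ^ j) *ᵥ (v ∘ Sum.inl)) ((shiftM l F ^ j) *ᵥ (v ∘ Sum.inr)) := by
  show ((Matrix.toLin' (Matrix.fromBlocks (shiftM l F) 0 0 (shiftM l F))) ^ j) v = _
  rw [← Matrix.toLin'_pow, Matrix.toLin'_apply, Matrix.fromBlocks_diagonal_pow, Matrix.fromBlocks_mulVec]
  simp only [Matrix.zero_mulVec, add_zero, zero_add]

theorem spcd4_betaH (l k : ℕ) (x y : Fin l ⊕ Fin l → F) :
    (blkH l F).beta k x y =
      (x ∘ Sum.inl) ⬝ᵥ (gramA l (1 : F) *ᵥ ((shiftM l F ^ (k - 1)) *ᵥ (y ∘ Sum.inr))) -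
        ((shiftM l F ^ (k - 1)) *ᵥ (y ∘ Sum.inl)) ⬝ᵥ (gramA l (1 : F) *ᵥ (x ∘ Sum.inr)) := by
  unfold Trip.beta
  rw [spcd4_H_pow]
  refine (Matrix.toLinearMap₂'_apply' _ _ _).trans ?_
  unfold gramH
  rw [Matrix.fromBlocks_mulVec]
  simp only [Matrix.zero_mulVec, add_zero, zero_add, Sum.elim_comp_inl, Sum.elim_comp_inr]
  rw [dotProduct, Fintype.sum_sum_type]
  simp only [Sum.elim_inl, Sum.elim_inr]
  rw [Matrix.neg_mulVec]
  have e1 : ∑ i, x (Sum.inl i) * (gramA l (1 : F) *ᵥ ((shiftM l F ^ (k - 1)) *ᵥ (y ∘ Sum.inr))) i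
      = (x ∘ Sum.inl) ⬝ᵥ (gramA l (1 : F) *ᵥ ((shiftM l F ^ (k - 1)) *ᵥ (y ∘ Sum.inr))) := rfl
  have e2 : ∑ i, x (Sum.inr i) * (-((gramA l (1 : F))ᵀ *ᵥ ((shiftM l F ^ (k - 1)) *ᵥ (y ∘ Sum.inl)))) i
      = - ((x ∘ Sum.inr) ⬝ᵥ ((gramA l (1 : F))ᵀ *ᵥ ((shiftM l F ^ (k - 1)) *ᵥ (y ∘ Sum.inl)))) := by
    rw [dotProduct, ← Finset.sum_neg_distrib]
    apply Finset.sum_congr rfl
    intro i _
    rw [Pi.neg_apply, mul_neg]
    rfl
  have e3 : (x ∘ Sum.inr) ⬝ᵥ ((gramA l (1 : F))ᵀ *ᵥ ((shiftM l F ^ (k - 1)) *ᵥ (y ∘ Sum.inl)))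
      = ((shiftM l F ^ (k - 1)) *ᵥ (y ∘ Sum.inl)) ⬝ᵥ (gramA l (1 : F) *ᵥ (x ∘ Sum.inr)) := by
    rw [Matrix.dotProduct_mulVec, Matrix.vecMul_transpose, dotProduct_comm]
  rw [e1, e2, e3, sub_eq_add_neg]

/-- D4C [M]: as D4B with the two chains. -/
theorem disc_blkH (l k : ℕ) (hk0 : 0 < k) (hlk : l ≠ k) : HasDisc (blkH l F) k 0 1 := by
  classical
  refine ⟨Empty, inferInstance, inferInstance, fun i => i.elim, fun i => i.elim, ?_, ?_, ?_, ?_, ?_, ?_⟩
  · rfl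
  · intro i
    exact i.elim
  · intro i
    exact i.elim
  · intro i
    exact i.elim
  · intro z hz
    refine ⟨fun i => i.elim, ?_⟩
    intro w hw
    rw [Finset.univ_eq_empty, Finset.sum_empty, sub_zero]
    have hz' : ((blkH l F).N ^ k) (show Fin l ⊕ Fin l → F from z) = 0 := hz
    have hw' : ((blkH l F).N ^ k) (show Fin l ⊕ Fin l → F from w) = 0 := hw
    rw [spcd4_H_pow] at hz' hw'
    have hz1 : (shiftM l F ^ k) *ᵥ ((show Fin l ⊕ Fin l → F from z) ∘ Sum.inl) = 0 := by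
      funext i
      exact congrFun hz' (Sum.inl i)
    have hz2 : (shiftM l F ^ k) *ᵥ ((show Fin l ⊕ Fin l → F from z) ∘ Sum.inr) = 0 := by
      funext i
      exact congrFun hz' (Sum.inr i)
    have hw1 : (shiftM l F ^ k) *ᵥ ((show Fin l ⊕ Fin l → F from w) ∘ Sum.inl) = 0 := by
      funext i
      exact congrFun hw' (Sum.inl i)
    have hw2 : (shiftM l F ^ k) *ᵥ ((show Fin l ⊕ Fin l → F from w) ∘ Sum.inr) = 0 := by
      funext i
      exact congrFun hw' (Sum.inr i)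
    show (blkH l F).beta k (show Fin l ⊕ Fin l → F from z) (show Fin l ⊕ Fin l → F from w) = 0
    rw [spcd4_betaH, spcd4_vanish l k hk0 hlk 1 _ _ hz1 hw2, spcd4_vanish' l k hk0 hlk 1 _ _ hz2 hw1,
      sub_zero]
  · simp

/-- D4C (second part) [S]. -/
theorem disc_zero (k : ℕ) : HasDisc (TZero F) k 0 1 := by
  classical
  refine ⟨Empty, inferInstance, inferInstance, fun i => i.elim, fun i => i.elim, ?_, ?_, ?_, ?_, ?_, ?_⟩
  · rfl
  · intro i
    exact i.elim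
  · intro i
    exact i.elim
  · intro i
    exact i.elim
  · intro z _
    refine ⟨fun i => i.elim, ?_⟩
    intro w _
    rfl
  · simp

end Cfsg.Agent.Lib.helper7.SPC
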