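import Cfsg.Agent.Lib.Helper10.SZC.Defs
import Cfsg.Agent.Lib.helper3.SuzukiPartition
import Cfsg.Agent.Lib.helper3.SuzukiSimple
import Cfsg.Agent.Lib.helper3.SuzukiLieIso

/-!
# SZC row B7: every non-identity element of `Sz(q)` is conjugate into `Qs`, the diagonal torus,
or one of the two self-centralising tori.
-/

set_option autoImplicit false
open scoped ComplexConjugate

namespace Cfsg.Agent.Lib.Helper10.SZC

open Cfsg Cfsg.Agent.Lib.helper3

section Bridge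
variable {F : Type*} [Field F] [Fintype F] {m : ℕ}

/-- a fixed-point-free `g` is conjugate into a self-centralising subgroup `A` of order `cOrd g`
dividing `q² + 1`. -/
theorem h16_szcB7_key (hF : Fintype.card F = 2 ^ (2 * m + 1)) (hm : 1 ≤ m)
    (A : Subgroup (Sz F m)) (hA1 : 1 < Nat.card A)
    (hAd : Nat.card A ∣ (2 ^ (2 * m + 1)) ^ 2 + 1)
    (hC : ∀ u ∈ A, u ≠ 1 → Subgroup.centralizer ({u} : Set (Sz F m)) = A)
    (g : Sz F m) (hfpf : Fpf g) (hcard : cOrd g = Nat.card A) :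
    ∃ x : Sz F m, x * g * x⁻¹ ∈ A := by
  have hfin : Finite (Sz F m) := finite_Sz hF hm
  obtain ⟨hodd1, hodd2, hcop⟩ := sz_orders_arith m
  -- a non-identity element of `A`
  have hne : A ≠ ⊥ := by
    intro h
    rw [h, Subgroup.card_bot] at hA1
    exact lt_irrefl _ hA1
  obtain ⟨u, huA, hu1⟩ := (Subgroup.ne_bot_iff_exists_ne_one).mp hne |>.imp
    (fun u hu => hu) |> fun ⟨u, hu⟩ => (⟨(u : Sz F m), u.2, fun h => hu (Subtype.ext h)⟩ :
      ∃ u : Sz F m, u ∈ A ∧ u ≠ 1)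
  have hord : orderOf u ∣ (2 ^ (2 * m + 1)) ^ 2 + 1 :=
    dvd_trans (Subgroup.orderOf_dvd_natCard A huA) hAd
  -- `u` is fixed-point-free
  have hufpf : Fpf u := by
    rcases sz_trichotomy hF hm hu1 with ⟨v, a, b, hab, hv⟩ | ⟨v, k, hk, hv⟩ | hf
    · exfalso
      apply hu1
      have hpow : u ^ 4 = 1 := by
        rw [hv, conj_pow', gT_pow_four]
        group
      have h4 : orderOf u ∣ 4 := orderOf_dvd_of_pow_eq_one hpow
      have hc4 : Nat.Coprime 4 ((2 ^ (2 * m + 1)) ^ 2 + 1) := by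
        have : Nat.Coprime 2 ((2 ^ (2 * m + 1)) ^ 2 + 1) := Nat.coprime_two_left.2 hodd2
        exact Nat.Coprime.pow_left 2 this
      exact orderOf_eq_one_of_dvd_coprime h4 hord hc4
    · exfalso
      apply hu1
      have hpow : u ^ (2 ^ (2 * m + 1) - 1) = 1 := by
        rw [hv, conj_pow', gD_pow_card hF]
        group
      exact orderOf_eq_one_of_dvd_coprime (orderOf_dvd_of_pow_eq_one hpow) hord hcop
    · exact hf
  have hcu : Subgroup.centralizer ({u} : Set (Sz F m)) = A := hC u huA hu1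
  -- a common prime
  set p := (Nat.card A).minFac with hp
  have hpp : p.Prime := Nat.minFac_prime (by omega)
  have hpA : p ∣ Nat.card A := Nat.minFac_dvd _
  have hpu : p ∣ Nat.card (Subgroup.centralizer ({u} : Set (Sz F m))) := by rw [hcu]; exact hpA
  have hpg : p ∣ Nat.card (Subgroup.centralizer ({g} : Set (Sz F m))) := by
    have : Nat.card (Subgroup.centralizer ({g} : Set (Sz F m))) = Nat.card A := hcard
    rw [this]
    exact hpA
  obtain ⟨y, hy⟩ := hufpf.exists_conj_of_prime hF hm hfpf hpp hpu hpg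
  have hgc : g ∈ Subgroup.centralizer ({g} : Set (Sz F m)) :=
    Subgroup.mem_centralizer_singleton_iff.2 rfl
  rw [hy, hcu] at hgc
  obtain ⟨a, haA, hag⟩ := hgc
  refine ⟨y⁻¹, ?_⟩
  have : y⁻¹ * g * y⁻¹⁻¹ = a := by
    rw [← hag]
    simp only [MulEquiv.coe_toMonoidHom, MulAut.conj_apply]
    group
  rw [this]
  exact haA

/-- B7 -/
theorem sz_cover (hF : Fintype.card F = 2 ^ (2 * m + 1)) (hm : 1 ≤ m)
    (A1 A2 : Subgroup (Sz F m))
    (h1 : Nat.card A1 = 2 ^ (2 * m + 1) + 2 ^ (m + 1) + 1)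
    (hC1 : ∀ u ∈ A1, u ≠ 1 → Subgroup.centralizer ({u} : Set (Sz F m)) = A1)
    (h2 : Nat.card A2 = 2 ^ (2 * m + 1) - 2 ^ (m + 1) + 1)
    (hC2 : ∀ u ∈ A2, u ≠ 1 → Subgroup.centralizer ({u} : Set (Sz F m)) = A2)
    (g : Sz F m) (hg : g ≠ 1) :
    ∃ x : Sz F m, x * g * x⁻¹ ∈ Qs hF ∨ x * g * x⁻¹ ∈ (gDhom hF : Fˣ →* Sz F m).range ∨
      x * g * x⁻¹ ∈ A1 ∨ x * g * x⁻¹ ∈ A2 := by
  obtain ⟨hprod, _, hk2, hk1⟩ := sz_k_arith hm
  rcases sz_trichotomy hF hm hg with ⟨u, a, b, hab, rfl⟩ | ⟨u, k, hk, rfl⟩ | hfpf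
  · refine ⟨u⁻¹, Or.inl ?_⟩
    have : u⁻¹ * (u * gT hF a b * u⁻¹) * u⁻¹⁻¹ = gT hF a b := by group
    rw [this]
    exact gT_mem_Qs hF a b
  · refine ⟨u⁻¹, Or.inr (Or.inl ?_)⟩
    have : u⁻¹ * (u * gD hF k * u⁻¹) * u⁻¹⁻¹ = gD hF k := by group
    rw [this]
    exact ⟨k, rfl⟩
  · rcases hfpf.cOrd_eq hF hm with hc | hc
    · obtain ⟨x, hx⟩ := h16_szcB7_key hF hm A1 (by rw [h1]; exact hk1)
        (by rw [h1]; exact ⟨_, hprod.symm⟩) hC1 g hfpf (by rw [hc, h1])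
      exact ⟨x, Or.inr (Or.inr (Or.inl hx))⟩
    · obtain ⟨x, hx⟩ := h16_szcB7_key hF hm A2 (by rw [h2]; exact hk2)
        (by rw [h2]; exact Dvd.intro_left _ hprod) hC2 g hfpf (by rw [hc, h2])
      exact ⟨x, Or.inr (Or.inr (Or.inr hx))⟩

end Bridge

end Cfsg.Agent.Lib.Helper10.SZC
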