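import Mathlib
import Cfsg.Agent.Lib.Helper10.TEM.Defs
import Cfsg.Agent.Lib.helper8.ChevTw7
import Cfsg.Agent.Lib.helper8.ChevOrd

/-!
# Project TEM = S2191 (designer helper10), row F1 (helper16): `XS_add` VERBATIM: the short root elements `XS q r t` are additive in `t`
(`X r` and `X (σ r)` commute: `decide +kernel` certificate `temf1_cert`; `h8xU_add`; `f` is additive).
-/

set_option autoImplicit false

namespace Cfsg.Agent.Lib.Helper10.TEM

open Cfsg.Lie Cfsg.Lie.ChevalleyDatum Matrix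
open Cfsg.Agent.Lib.helper8

universe u

variable {K : Type u} [Field K] {q : ℕ} {f : K ≃+* K} {M H : Subgroup (GG K)}

set_option synthInstance.maxSize 1024 in
theorem temf1_cert : ∀ r < 72, h8sE6 r ≠ r →
    h8sE6 r < 72 ∧ h8sE6 r ≠ 71 - r ∧ chevE6.commTerms r (h8sE6 r) = [] := by
  decide +kernel

/-- the root elements of `r` and `σ r` commute (`r` not fixed) -/
theorem temf1_comm (r : ℕ) (hr : r < 72) (hσ : h8sE6 r ≠ r) (t u : K) :
    X r t * X (h8sE6 r) u = X (h8sE6 r) u * X r t := by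
  have hn : chevE6.nroots = 72 := by decide
  obtain ⟨h1, h2, h3⟩ := temf1_cert r hr hσ
  have hneg : chevE6.negIdx.getD r 0 = 71 - r := (root_data r hr).2.1
  exact h8xU_commute (K := K) chevE6 hB hC r (h8sE6 r) (by rw [hn]; exact hr) (by rw [hn]; exact h1) hσ
    (by rw [hneg]; exact h2) h3 t u

theorem temf1_X_add (r : ℕ) (hr : r < 72) (a b : K) : X r (a + b) = X r a * X r b := by
  have hn : chevE6.nroots = 72 := by decide
  exact (h8xU_add chevE6 hB r (by rw [hn]; exact hr) a b).symm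

-- ROW F1  [S]  `X r` and `X (σ r)` commute (`decide`: `commTerms r (σ r) = []`), `h8xU_add`, `f` additive.
theorem XS_add (hF : Frob q f) (r : ℕ) (hr : r < 72) (hσ : h8sE6 r ≠ r) (s t : K) :
    XS q r (s + t) = XS q r s * XS q r t := by
  obtain ⟨h1, -, -⟩ := temf1_cert r hr hσ
  have hpow : (s + t) ^ q = s ^ q + t ^ q := by
    rw [← hF.pow, ← hF.pow, ← hF.pow, map_add]
  unfold XS
  rw [hpow, mul_add, temf1_X_add r hr, temf1_X_add (h8sE6 r) h1]
  calc X r s * X r t * (X (h8sE6 r) (((h8eE6 r : ℤ) : K) * s ^ q) * X (h8sE6 r) (((h8eE6 r : ℤ) : K) * t ^ q))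
      = X r s * (X r t * X (h8sE6 r) (((h8eE6 r : ℤ) : K) * s ^ q)) * X (h8sE6 r) (((h8eE6 r : ℤ) : K) * t ^ q) := by
        simp only [mul_assoc]
    _ = X r s * (X (h8sE6 r) (((h8eE6 r : ℤ) : K) * s ^ q) * X r t) * X (h8sE6 r) (((h8eE6 r : ℤ) : K) * t ^ q) := by
        rw [temf1_comm r hr hσ]
    _ = X r s * X (h8sE6 r) (((h8eE6 r : ℤ) : K) * s ^ q) * (X r t * X (h8sE6 r) (((h8eE6 r : ℤ) : K) * t ^ q)) := by
        simp only [mul_assoc]

end Cfsg.Agent.Lib.Helper10.TEM
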