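import Mathlib
import Cfsg.Agent.Lib.Helper10.TEM.Defs
import Cfsg.Agent.Lib.helper8.ChevTwH1

/-!
# Project TEM = S2191 (designer helper10), row C8 (helper16): `T_act` VERBATIM: an element of the torus `T¹` acts on the root subgroup of a fixed root
by a rational scalar (`h8chi_spec`, `h8chi_sig` of helper8's `ChevTwH1`, with `sig_fix`).
-/

set_option autoImplicit false

namespace Cfsg.Agent.Lib.Helper10.TEM

open Cfsg.Lie Cfsg.Lie.ChevalleyDatum Matrix
open Cfsg.Agent.Lib.helper8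

universe u

variable {K : Type u} [Field K] {q : ℕ} {f : K ≃+* K} {M H : Subgroup (GG K)}

-- ROW C8  [S-M]
theorem T_act (hF : Frob q f) (t : GG K) (ht : t ∈ T1 K q) (a : ℕ) (ha : a < 72)
    (hσ : h8sE6 a = a) :
    ∃ χ : K, χ ≠ 0 ∧ χ ^ q = χ ∧ ∀ c : K, t * X a c * t⁻¹ = X a (χ * c) := by
  have hn : chevE6.nroots = 72 := by decide
  have ha' : a < chevE6.nroots := by rw [hn]; exact ha
  have htd : t ∈ chevE6.diagonalSubgroup K := ht.1
  have hfix : Sg f t = t := sig_fix hF t ht.2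
  obtain ⟨h0, h1⟩ := h8chi_spec chevE6 hB t htd a ha'
  have h2 := h8chi_sig chevE6 hB hA hW h8sE6 h8tE6 h8pE6 h8qE6 h8eE6 hAut f t htd hfix a ha'
  rw [hσ, hF.pow] at h2
  exact ⟨h8chi chevE6 hB t a, h0, h2.symm, fun c => h1 c⟩

end Cfsg.Agent.Lib.Helper10.TEM
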