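import Mathlib
import Cfsg.Agent.Lib.Helper10.TEM.Defs
import Cfsg.Agent.Lib.Helper16.TEMC6

/-!
# Project TEM = S2191 (designer helper10), row C7 (helper16): `nW_UPsi`, `nW_UPsi_inv` VERBATIM: conjugation of the subgroups `UPsi K L` by products of the
`n_{α_i}(1)` (closure induction + C6 `nW_X`).
-/

set_option autoImplicit false

namespace Cfsg.Agent.Lib.Helper10.TEM

open Cfsg.Lie Cfsg.Lie.ChevalleyDatum Matrix
open Cfsg.Agent.Lib.helper8

universe u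

variable {K : Type u} [Field K] {q : ℕ} {f : K ≃+* K} {M H : Subgroup (GG K)}

/-- conjugation by `n` maps `closure S` into `P` as soon as it maps `S` into `P` -/
theorem temc7_conj_closure {G : Type*} [Group G] (n : G) (S : Set G) (P : Subgroup G)
    (h : ∀ x ∈ S, n * x * n⁻¹ ∈ P) : ∀ g ∈ Subgroup.closure S, n * g * n⁻¹ ∈ P := by
  intro g hg
  induction hg using Subgroup.closure_induction with
  | mem x hx => exact h x hx
  | one => rw [mul_one, mul_inv_cancel]; exact P.one_mem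
  | mul x y _ _ hx hy =>
    have e : n * (x * y) * n⁻¹ = (n * x * n⁻¹) * (n * y * n⁻¹) := by group
    rw [e]
    exact P.mul_mem hx hy
  | inv x _ hx =>
    have e : n * x⁻¹ * n⁻¹ = (n * x * n⁻¹)⁻¹ := by group
    rw [e]
    exact P.inv_mem hx

-- ROW C7  [S-M]  closure induction + C6.
theorem nW_UPsi (w : List ℕ) (hw : ∀ i ∈ w, i < 6) (L L' : List ℕ)
    (h : ∀ r ∈ L, r < 72 ∧ h8sW chevE6 w r ∈ L') (g : GG K) (hg : g ∈ UPsi K L) :
    nW w * g * (nW w)⁻¹ ∈ UPsi K L' := by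
  refine temc7_conj_closure (nW w) _ (UPsi K L') ?_ g hg
  rintro _ ⟨r, hr, t, rfl⟩
  obtain ⟨hr72, hr'⟩ := h r hr
  obtain ⟨ε, -, h1, -⟩ := nW_X (K := K) w hw r hr72
  rw [h1 t]
  exact Subgroup.subset_closure ⟨_, hr', ε * t, rfl⟩

theorem nW_UPsi_inv (w : List ℕ) (hw : ∀ i ∈ w, i < 6) (L L' : List ℕ)
    (h : ∀ r ∈ L, ∃ r' ∈ L', r' < 72 ∧ h8sW chevE6 w r' = r)
    (g : GG K) (hg : g ∈ UPsi K L) : (nW w)⁻¹ * g * nW w ∈ UPsi K L' := by
  have key := temc7_conj_closure (nW w : GG K)⁻¹ {g : GG K | ∃ r ∈ L, ∃ t : K, g = X r t} (UPsi K L') ?_ g hg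
  · rw [inv_inv] at key
    exact key
  rintro _ ⟨r, hr, t, rfl⟩
  obtain ⟨r', hr', hr72, hrr⟩ := h r hr
  obtain ⟨ε, -, -, h2⟩ := nW_X (K := K) w hw r' hr72
  rw [inv_inv, ← hrr, h2 t]
  exact Subgroup.subset_closure ⟨_, hr', ε * t, rfl⟩

end Cfsg.Agent.Lib.Helper10.TEM
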