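import Mathlib
import Cfsg.Agent.Lib.Helper10.TEM.Defs
import Cfsg.Agent.Lib.helper8.ChevK
import Cfsg.Agent.Lib.helper8.ChevTwP1

/-!
# Project TEM = S2191 (designer helper10), row F2 (helper16): `tor_XS` VERBATIM: a rational torus element `hh a c` (`a` a fixed root with
`⟨r, a^∨⟩ = 1 = ⟨σ r, a^∨⟩`) scales the short root element `XS q r t` by `c` (`h8hU_conj`, certificate `temf2_cert` by `decide +kernel` with `h8KF`).
-/

set_option autoImplicit false

namespace Cfsg.Agent.Lib.Helper10.TEM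

open Cfsg.Lie Cfsg.Lie.ChevalleyDatum Matrix
open Cfsg.Agent.Lib.helper8

universe u

variable {K : Type u} [Field K] {q : ℕ} {f : K ≃+* K} {M H : Subgroup (GG K)}

set_option synthInstance.maxSize 1024 in
theorem temf2_cert : ∀ r < 72, h8sE6 r ≠ r →
    ∃ a < 72, h8sE6 a = a ∧ h8sE6 r < 72 ∧ h8KF chevE6 a r = 1 ∧ h8KF chevE6 a (h8sE6 r) = 1 := by
  decide +kernel

/-- conjugation of a root element by `hh a c` when `⟨s, a^∨⟩ = 1` -/
theorem temf2_conj (a s : ℕ) (ha : a < 72) (hs : s < 72) (hK : h8KF chevE6 a s = 1) (c : K) (hc : c ≠ 0) (t : K) :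
    hh a c * X s t * (hh a c)⁻¹ = X s (c * t) := by
  have hn : chevE6.nroots = 72 := by decide
  have hs' : s < chevE6.nroots := by rw [hn]; exact hs
  have ha' : a < chevE6.nroots := by rw [hn]; exact ha
  have h1 := h8hU_conj (K := K) chevE6 hB a s ha' hs' c hc t
  rw [← h8KF_eq chevE6 hA.ca a s hs', hK, zpow_one] at h1
  exact h1

-- ROW F2  [M]
theorem tor_XS (hF : Frob q f) (r : ℕ) (hr : r < 72) (hσ : h8sE6 r ≠ r) :
    ∃ a < 72, h8sE6 a = a ∧ ∀ c : K, c ≠ 0 → c ^ q = c → ∀ t : K,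
      hh a c * XS q r t * (hh a c)⁻¹ = XS q r (c * t) := by
  obtain ⟨a, ha, hσa, hσr, hK1, hK2⟩ := temf2_cert r hr hσ
  refine ⟨a, ha, hσa, fun c hc hcq t => ?_⟩
  unfold XS
  have e : hh a c * (X r t * X (h8sE6 r) (((h8eE6 r : ℤ) : K) * t ^ q)) * (hh a c)⁻¹ =
      (hh a c * X r t * (hh a c)⁻¹) * (hh a c * X (h8sE6 r) (((h8eE6 r : ℤ) : K) * t ^ q) * (hh a c)⁻¹) := by
    group
  rw [e, temf2_conj a r ha hr hK1 c hc, temf2_conj a (h8sE6 r) ha hσr hK2 c hc]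
  congr 2
  rw [mul_pow, hcq]
  ring

end Cfsg.Agent.Lib.Helper10.TEM
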