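import Mathlib
import Cfsg.Agent.Lib.Helper28.BP2.Defs

/-!
# BP2 row T8 (`fix_eq_of_bin`), helper16: the Gill–Spiga fixity lemma on a finite `G`-set.
-/

set_option autoImplicit false

namespace Cfsg.Agent.Lib.Helper28.BP2

open Cfsg.Agent.Lib.helper14

universe u v w

section Toolbox

variable {G : Type u} [Group G]

/-- a point fixed by `a` is fixed by every power of `a`. -/
theorem bp2t8_pow_smul {X : Type v} [MulAction G X] (a : G) (ω : X) (h : a • ω = ω) (m : ℕ) :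
    a ^ m • ω = ω :=
  MulAction.mem_stabilizer_iff.mp (pow_mem (MulAction.mem_stabilizer_iff.mpr h) m)

/-- **T8** (Gill–Spiga fixity lemma). -/
theorem fix_eq_of_bin [Finite G] {X : Type v} [MulAction G X] [Finite X] (hB : Bin G X)
    (p : ℕ) [Fact p.Prime] (g h : G) (hc : Commute g h) (hg : orderOf g = p)
    (hmax : ∀ f : G, orderOf f = p →
      Nat.card {ω : X // f • ω = ω} ≤ Nat.card {ω : X // g • ω = ω})
    (hh : Nat.card {ω : X // h • ω = ω} = Nat.card {ω : X // g • ω = ω})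
    (hk : Nat.card {ω : X // (g * h⁻¹) • ω = ω} = Nat.card {ω : X // g • ω = ω}) :
    ∀ ω : X, h • ω = ω ↔ g • ω = ω := by
  classical
  have cardf : ∀ f : G, Nat.card {ω : X // f • ω = ω} = ({ω : X | f • ω = ω} : Set X).ncard :=
    fun f => Nat.card_coe_set_eq _
  rw [cardf, cardf] at hh hk
  simp only [cardf] at hmax
  -- (a) `Fix g ∩ Fix k ⊆ Fix h`
  have hgk : ∀ ω : X, g • ω = ω → (g * h⁻¹) • ω = ω → h • ω = ω := by
    intro ω h1 h2
    rw [mul_smul] at h2
    have h3 : h⁻¹ • ω = g⁻¹ • ω := (smul_eq_iff_eq_inv_smul g).mp h2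
    have h4 : g⁻¹ • ω = ω := inv_smul_eq_iff.mpr h1.symm
    exact (inv_smul_eq_iff.mp (h3.trans h4)).symm
  -- (b) on `Fix h`, `k = g`
  have hhk : ∀ ω : X, h • ω = ω → (g * h⁻¹) • ω = g • ω := by
    intro ω h1
    rw [mul_smul, inv_smul_eq_iff.mpr h1.symm]
  -- (c) `Fix h` is stable under powers of `g`
  have hst : ∀ (m : ℕ) (ω : X), h • ω = ω → h • (g ^ m • ω) = g ^ m • ω := by
    intro m ω h1
    rw [← mul_smul, ← (hc.pow_left m).eq, mul_smul, h1]
  -- the main point: `Fix h ⊆ Fix g`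
  have key : ({ω : X | h • ω = ω} : Set X) ⊆ {ω : X | g • ω = ω} := by
    intro ω₀ hω₀
    simp only [Set.mem_ofPred_eq] at hω₀ ⊢
    by_contra hgω₀
    let σ : X → X := fun ω => if h • ω = ω then g • ω else ω
    have mh : ∀ ω : X, h • ω = ω → g • ω = σ ω ∧ (g * h⁻¹) • ω = σ ω := by
      intro ω h1
      have : σ ω = g • ω := if_pos h1
      exact ⟨this.symm, (hhk ω h1).trans this.symm⟩
    have mg : ∀ ω : X, g • ω = ω → g • ω = σ ω ∧ (1 : G) • ω = σ ω := by
      intro ω h1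
      have : σ ω = ω := by
        by_cases h2 : h • ω = ω
        · exact (if_pos h2).trans h1
        · exact if_neg h2
      exact ⟨h1.trans this.symm, (one_smul G ω).trans this.symm⟩
    have mk : ∀ ω : X, (g * h⁻¹) • ω = ω → (g * h⁻¹) • ω = σ ω ∧ (1 : G) • ω = σ ω := by
      intro ω h1
      have : σ ω = ω := by
        by_cases h2 : h • ω = ω
        · exact (if_pos h2).trans ((hhk ω h2).symm.trans h1)
        · exact if_neg h2
      exact ⟨h1.trans this.symm, (one_smul G ω).trans this.symm⟩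
    let Λ : Set X := {ω : X | g • ω = ω ∨ h • ω = ω ∨ (g * h⁻¹) • ω = ω}
    have pair : ∀ ω₁ ω₂ : X, ω₁ ∈ Λ → ω₂ ∈ Λ → ∃ f : G, f • ω₁ = σ ω₁ ∧ f • ω₂ = σ ω₂ := by
      intro ω₁ ω₂ h1 h2
      rcases h1 with a | a | a <;> rcases h2 with b | b | b
      · exact ⟨g, (mg _ a).1, (mg _ b).1⟩
      · exact ⟨g, (mg _ a).1, (mh _ b).1⟩
      · exact ⟨1, (mg _ a).2, (mk _ b).2⟩
      · exact ⟨g, (mh _ a).1, (mg _ b).1⟩
      · exact ⟨g, (mh _ a).1, (mh _ b).1⟩
      · exact ⟨g * h⁻¹, (mh _ a).2, (mk _ b).1⟩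
      · exact ⟨1, (mk _ a).2, (mg _ b).2⟩
      · exact ⟨g * h⁻¹, (mk _ a).1, (mh _ b).2⟩
      · exact ⟨1, (mk _ a).2, (mk _ b).2⟩
    have hn2 : 2 ≤ Nat.card Λ := by
      rw [Nat.card_coe_set_eq]
      refine (Set.one_lt_ncard_iff).mpr ⟨ω₀, g • ω₀, Or.inr (Or.inl hω₀), Or.inr (Or.inl ?_), ?_⟩
      · have := hst 1 ω₀ hω₀
        simpa using this
      · exact fun h1 => hgω₀ h1.symm
    let e : Fin (Nat.card Λ) ≃ Λ := (Finite.equivFin Λ).symm
    obtain ⟨f, hf⟩ := hB (Nat.card Λ) (fun i => ((e i : Λ) : X)) (fun i => σ ((e i : Λ) : X)) hn2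
      (fun i j _ => pair _ _ (e i).2 (e j).2)
    have hfΛ : ∀ ω : X, ω ∈ Λ → f • ω = σ ω := by
      intro ω hω
      have := hf (e.symm ⟨ω, hω⟩)
      simp only [Equiv.apply_symm_apply] at this
      exact this
    have hf_h : ∀ ω : X, h • ω = ω → f • ω = g • ω := fun ω hω =>
      (hfΛ ω (Or.inr (Or.inl hω))).trans (if_pos hω)
    have hf_g : ∀ ω : X, g • ω = ω → f • ω = ω := fun ω hω =>
      (hfΛ ω (Or.inl hω)).trans ((mg ω hω).2.symm.trans (one_smul _ _))
    have hf_k : ∀ ω : X, (g * h⁻¹) • ω = ω → f • ω = ω := fun ω hω =>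
      (hfΛ ω (Or.inr (Or.inr hω))).trans ((mk ω hω).2.symm.trans (one_smul _ _))
    have hpow : ∀ m : ℕ, f ^ m • ω₀ = g ^ m • ω₀ := by
      intro m
      induction m with
      | zero => simp
      | succ m ih =>
        rw [pow_succ', mul_smul, ih, pow_succ', mul_smul]
        exact hf_h _ (hst m ω₀ hω₀)
    have hpd : p ∣ orderOf f := by
      by_contra hnd
      have hcop : Nat.Coprime (orderOf f) (orderOf g) := by
        rw [hg]
        exact ((Fact.out : p.Prime).coprime_iff_not_dvd.mpr hnd).symm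
      obtain ⟨m, hm⟩ := exists_pow_eq_self_of_coprime hcop
      have hfix : g ^ orderOf f • ω₀ = ω₀ := by
        rw [← hpow (orderOf f), pow_orderOf_eq_one, one_smul]
      have := bp2t8_pow_smul _ _ hfix m
      rw [hm] at this
      exact hgω₀ this
    have hford : orderOf (f ^ (orderOf f / p)) = p :=
      orderOf_pow_orderOf_div (orderOf_pos f).ne' hpd
    have hsub : ({ω : X | g • ω = ω} ∪ {ω : X | (g * h⁻¹) • ω = ω} : Set X) ⊆
        {ω : X | (f ^ (orderOf f / p)) • ω = ω} := by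
      rintro ω (hω | hω)
      · exact bp2t8_pow_smul f ω (hf_g ω hω) _
      · exact bp2t8_pow_smul f ω (hf_k ω hω) _
    have hle : ({ω : X | g • ω = ω} ∪ {ω : X | (g * h⁻¹) • ω = ω} : Set X).ncard ≤
        ({ω : X | g • ω = ω} : Set X).ncard :=
      (Set.ncard_le_ncard hsub (Set.toFinite _)).trans (hmax _ hford)
    have heq1 : ({ω : X | g • ω = ω} : Set X) =
        {ω : X | g • ω = ω} ∪ {ω : X | (g * h⁻¹) • ω = ω} :=
      Set.eq_of_subset_of_ncard_le Set.subset_union_left hle (Set.toFinite _)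
    have hkg : ({ω : X | (g * h⁻¹) • ω = ω} : Set X) ⊆ {ω : X | g • ω = ω} := by
      intro ω hω
      have h1 : ω ∈ ({ω : X | g • ω = ω} ∪ {ω : X | (g * h⁻¹) • ω = ω} : Set X) := Or.inr hω
      rw [← heq1] at h1
      exact h1
    have heq2 : ({ω : X | (g * h⁻¹) • ω = ω} : Set X) = {ω : X | g • ω = ω} :=
      Set.eq_of_subset_of_ncard_le hkg (le_of_eq hk.symm) (Set.toFinite _)
    have hgh : ({ω : X | g • ω = ω} : Set X) ⊆ {ω : X | h • ω = ω} := by
      intro ω hω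
      have h1 : ω ∈ ({ω : X | (g * h⁻¹) • ω = ω} : Set X) := by rw [heq2]; exact hω
      exact hgk ω hω h1
    have heq3 : ({ω : X | g • ω = ω} : Set X) = {ω : X | h • ω = ω} :=
      Set.eq_of_subset_of_ncard_le hgh (le_of_eq hh) (Set.toFinite _)
    have h1 : ω₀ ∈ ({ω : X | g • ω = ω} : Set X) := by rw [heq3]; exact hω₀
    exact hgω₀ h1
  have heq : ({ω : X | h • ω = ω} : Set X) = {ω : X | g • ω = ω} :=
    Set.eq_of_subset_of_ncard_le key (le_of_eq hh.symm) (Set.toFinite _)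
  intro ω
  have := Set.ext_iff.mp heq ω
  simpa using this

end Toolbox

end Cfsg.Agent.Lib.Helper28.BP2
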