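import Mathlib
import Cfsg.Agent.Lib.helper17.STM.Defs
import Cfsg.Agent.Lib.helper17.STM.Defs2
import Cfsg.Agent.Lib.helper17.STM.Defs3
import Cfsg.Agent.Lib.helper17.STM.Sub
import Cfsg.Agent.Lib.Helper20.STCR1
import Cfsg.Agent.Lib.Helper20.STMR0
import Cfsg.Agent.Lib.Helper20.STMR3

/-!
# Project STM (designer helper17), part 3, row R4 (helper16), VERBATIM: `SysM.Rep.XQ_colStab`, `SysM.Rep.XQ_rowStab` (stabilisers of basis vectors).
Port of `Helper25.STBR4`.  On R0 (`Helper20.STMR0`), R3 (`Helper20.STMR3`).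
-/

set_option autoImplicit false

namespace Cfsg.Agent.Lib.helper17.STM

open Matrix Cfsg.Agent.Lib.helper15.St2 Cfsg.Agent.Lib.helper3.STC Cfsg.Agent.Lib.Lead.STD

universe v w

namespace SysM

namespace Rep

variable {F : Type*} [Field F] {A B : F} [Fact (∀ r : F, r ^ 2 ≠ -B + A * r)] {ι : Type*} {G : Type*} [Group G] {S : SysM F A B ι G}
  {l : Type*} [Fintype l] [DecidableEq l] (R : S.Rep l)

omit [Fintype l] in
theorem stmr4_evm_ne {c d : Im l} (h : d ≠ c) : (evm c : Im l → F) d = 0 := by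
  unfold evm
  rw [Pi.single_apply, if_neg h]

/-- R4 [S-M]  stabilisers of basis vectors (model STB R4 `Helper25.STBR4`). -/
theorem XQ_colStab {Q : ι ⊕ ι → ι ⊕ ι → Prop} {Qs : ι ⊕ ι → Prop} {c : Im l}
    (h : ∀ a b, a ≠ b → a ≠ ng b → Q a b → Ebm R.e b ≠ c ∧ Ebm R.e (ng a) ≠ c) (hs : ∀ a, Qs a → iz1 ≠ c ∧ iz2 ≠ c ∧ Ebm R.e (ng a) ≠ c) :
    ∀ z ∈ S.XQ Q Qs, R.M z *ᵥ evm c = evm c := by
  intro z hz
  unfold XQ at hz
  induction hz using Subgroup.closure_induction with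
  | mem g hg =>
    rcases hg with ⟨a, b, t, hab, hab', hQ, rfl⟩ | ⟨a, t, hQ, rfl⟩
    · obtain ⟨h1, h2⟩ := h a b hab hab' hQ
      rw [M_x R hab hab', TmL_mulVec]
      have e1 : (evm c : Im l → F) (Sum.inl (Em R.e b)) = 0 := stmr4_evm_ne h1
      have e2 : (evm c : Im l → F) (Sum.inl (ng (Em R.e a))) = 0 := by
        rw [← Em_ng]
        exact stmr4_evm_ne h2
      rw [e1, e2]
      simp
    · obtain ⟨h1, h2, h3⟩ := hs a hQ
      rw [M_xs R, TmS_mulVec]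
      have e1 : (evm c : Im l → F) iz1 = 0 := stmr4_evm_ne h1
      have e2 : (evm c : Im l → F) iz2 = 0 := stmr4_evm_ne h2
      have e3 : (evm c : Im l → F) (Sum.inl (ng (Em R.e a))) = 0 := by
        rw [← Em_ng]
        exact stmr4_evm_ne h3
      rw [e1, e2, e3]
      simp
  | one => rw [M_one, Matrix.one_mulVec]
  | mul y y' _ _ ihy ihy' => rw [M_mul, ← Matrix.mulVec_mulVec, ihy', ihy]
  | inv y _ ihy => exact M_inv_mulVec R ihy

theorem XQ_rowStab {Q : ι ⊕ ι → ι ⊕ ι → Prop} {Qs : ι ⊕ ι → Prop} {c : Im l}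
    (h : ∀ a b, a ≠ b → a ≠ ng b → Q a b → Ebm R.e a ≠ c ∧ Ebm R.e (ng b) ≠ c) (hs : ∀ a, Qs a → iz1 ≠ c ∧ iz2 ≠ c ∧ Ebm R.e a ≠ c) :
    ∀ z ∈ S.XQ Q Qs, evm c ᵥ* R.M z = evm c := by
  intro z hz
  unfold XQ at hz
  induction hz using Subgroup.closure_induction with
  | mem g hg =>
    rcases hg with ⟨a, b, t, hab, hab', hQ, rfl⟩ | ⟨a, t, hQ, rfl⟩
    · obtain ⟨h1, h2⟩ := h a b hab hab' hQ
      rw [M_x R hab hab', vecMul_TmL]
      have e1 : (evm c : Im l → F) (Sum.inl (Em R.e a)) = 0 := stmr4_evm_ne h1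
      have e2 : (evm c : Im l → F) (Sum.inl (ng (Em R.e b))) = 0 := by
        rw [← Em_ng]
        exact stmr4_evm_ne h2
      rw [e1, e2]
      simp
    · obtain ⟨h1, h2, h3⟩ := hs a hQ
      rw [M_xs R, vecMul_TmS]
      have e1 : (evm c : Im l → F) iz1 = 0 := stmr4_evm_ne h1
      have e2 : (evm c : Im l → F) iz2 = 0 := stmr4_evm_ne h2
      have e3 : (evm c : Im l → F) (Sum.inl (Em R.e a)) = 0 := stmr4_evm_ne h3
      rw [e1, e2, e3]
      simp
  | one => rw [M_one, Matrix.vecMul_one]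
  | mul y y' _ _ ihy ihy' => rw [M_mul, ← Matrix.vecMul_vecMul, ihy, ihy']
  | inv y _ ihy =>
    have h1 : R.M y * R.M y⁻¹ = 1 := stmr3_M_mul_inv R y
    have := congrArg (fun v => v ᵥ* R.M y⁻¹) ihy
    simp only [Matrix.vecMul_vecMul, h1, Matrix.vecMul_one] at this
    exact this.symm

end Rep

end SysM

end Cfsg.Agent.Lib.helper17.STM
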