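import Mathlib
import Cfsg.Agent.Lib.helper17.STM.Defs
import Cfsg.Agent.Lib.helper17.STM.Defs2
import Cfsg.Agent.Lib.helper17.STM.Defs3
import Cfsg.Agent.Lib.helper17.STM.Sub
import Cfsg.Agent.Lib.Helper24.STCI1
import Cfsg.Agent.Lib.Helper20.STCR1
import Cfsg.Agent.Lib.Helper20.STMR3
import Cfsg.Agent.Lib.Helper16.STMR4

/-!
# Project STM (designer helper17), part 3, row R6 (helper16): `SysM.Rep.Pg_col`, `Lg_col'`, `Yg_row`, `Yg_apply` VERBATIM, and the CORE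
`stmr6_Phat_lineStab_core` of `Phat_lineStab` (with the statements of R5 `M_h_fst` and R5t `M_hs_fst` as hypotheses; the verbatim
`Phat_lineStab` is in `Helper16.STMR6b`).  Port of `helper15.STBR6`.  On R3 (`Helper20.STMR3`) and R4 (`Helper16.STMR4`).
-/

set_option autoImplicit false

namespace Cfsg.Agent.Lib.helper17.STM

open Matrix Cfsg.Agent.Lib.helper15.St2 Cfsg.Agent.Lib.helper3.STC Cfsg.Agent.Lib.Lead.STD

universe v w

namespace SysM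

namespace Rep

variable {F : Type*} [Field F] {A B : F} [Fact (∀ r : F, r ^ 2 ≠ -B + A * r)] {ι : Type*} {G : Type*} [Group G] {S : SysM F A B ι G}
  {l : Type*} [Fintype l] [DecidableEq l] (R : S.Rep l)

/-- `Ebm` is injective. -/
theorem stmr6_Ebm_ne {a b : ι ⊕ ι} (h : a ≠ b) : Ebm R.e a ≠ Ebm R.e b := fun e =>
  h (Em_injective R.e (Sum.inl_injective e))

variable (o : ι ⊕ ι)

/-- R6 [S-M]  the parabolic subgroup fixes the line of `e_o`. -/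
theorem Pg_col : ∀ p ∈ S.Pg o, R.M p *ᵥ evm (Ebm R.e o) = evm (Ebm R.e o) := by
  unfold Pg
  apply XQ_colStab R
  · intro a b _ _ hQ
    exact ⟨stmr6_Ebm_ne R hQ.1, stmr6_Ebm_ne R (fun h => hQ.2 (ng_eq_iff.1 h))⟩
  · intro a ha
    exact ⟨Sum.inr_ne_inl, Sum.inr_ne_inl, stmr6_Ebm_ne R (fun h => ha (ng_eq_iff.1 h))⟩

theorem Lg_col' : ∀ x ∈ S.Lg o, R.M x *ᵥ evm (Ebm R.e (ng o)) = evm (Ebm R.e (ng o)) := by
  unfold Lg
  apply XQ_colStab R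
  · intro a b _ _ hQ
    exact ⟨stmr6_Ebm_ne R hQ.2.2, stmr6_Ebm_ne R (fun h => hQ.1.1 (ng_inj.1 h))⟩
  · intro a ha
    exact ⟨Sum.inr_ne_inl, Sum.inr_ne_inl, stmr6_Ebm_ne R (fun h => ha.1 (ng_inj.1 h))⟩

/-- the stabiliser of the line of `e_o` -/
def stmr6_lineStab : Subgroup G where
  carrier := {g | ∃ c : F, c ≠ 0 ∧ R.M g *ᵥ evm (Ebm R.e o) = c • evm (Ebm R.e o)}
  mul_mem' := by
    rintro g g' ⟨c, hc, h⟩ ⟨c', hc', h'⟩
    refine ⟨c' * c, mul_ne_zero hc' hc, ?_⟩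
    rw [M_mul, ← Matrix.mulVec_mulVec, h', Matrix.mulVec_smul, h, smul_smul]
  one_mem' := ⟨1, one_ne_zero, by rw [M_one, Matrix.one_mulVec, one_smul]⟩
  inv_mem' := by
    rintro g ⟨c, hc, h⟩
    refine ⟨c⁻¹, inv_ne_zero hc, ?_⟩
    have h2 := M_inv_mulVec R h
    rw [Matrix.mulVec_smul] at h2
    calc R.M g⁻¹ *ᵥ evm (Ebm R.e o) = c⁻¹ • (c • R.M g⁻¹ *ᵥ evm (Ebm R.e o)) := by
          rw [smul_smul, inv_mul_cancel₀ hc, one_smul]
      _ = c⁻¹ • evm (Ebm R.e o) := by rw [h2]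

/-- core of `Phat_lineStab`: `hR5` is the statement of R5 `M_h_fst`, `hR5t` that of R5t `M_hs_fst`. -/
theorem stmr6_Phat_lineStab_core
    (hR5 : ∀ {a b : ι ⊕ ι}, a ≠ b → a ≠ ng b → ∀ u : F, u ≠ 0 →
      R.M (S.h a b u) *ᵥ evm (Ebm R.e a) = u • evm (Ebm R.e a))
    (hR5t : ∀ (a : ι ⊕ ι) (u : Kq F A B), u ≠ 0 → R.M (S.hs a u) *ᵥ evm (Ebm R.e a) = nm u • evm (Ebm R.e a)) :
    ∀ p ∈ S.Phat o, ∃ c : F, c ≠ 0 ∧ R.M p *ᵥ evm (Ebm R.e o) = c • evm (Ebm R.e o) := by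
  have hle : S.Phat o ≤ stmr6_lineStab R o := by
    unfold Phat
    apply sup_le
    · intro p hp
      exact ⟨1, one_ne_zero, by rw [Pg_col R o p hp, one_smul]⟩
    · unfold Hg
      rw [Subgroup.closure_le]
      rintro g (⟨b, t, hb, hb', ht, rfl⟩ | ⟨t, ht, rfl⟩)
      · exact ⟨t, ht, hR5 hb.symm (fun h => hb' (by rw [h, ng_ng])) t ht⟩
      · exact ⟨nm t, nm_ne_zero ht, hR5t o t ht⟩
  exact fun p hp => hle hp

theorem Yg_row : ∀ y ∈ S.Yg o, evm (Ebm R.e o) ᵥ* R.M y = evm (Ebm R.e o) := by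
  unfold Yg
  apply XQ_rowStab R
  · intro a b hab _ hQ
    rw [hQ] at hab
    exact ⟨stmr6_Ebm_ne R hab, by rw [hQ]; exact stmr6_Ebm_ne R (ng_ne o)⟩
  · intro a ha
    rw [ha]
    exact ⟨Sum.inr_ne_inl, Sum.inr_ne_inl, stmr6_Ebm_ne R (ng_ne o)⟩

theorem Yg_apply {y : G} (hy : y ∈ S.Yg o) : (R.M y *ᵥ evm (Ebm R.e o)) (Ebm R.e o) = 1 := by
  have h1 : (R.M y *ᵥ evm (Ebm R.e o)) (Ebm R.e o) =
      (evm (Ebm R.e o) : Im l → F) ⬝ᵥ (R.M y *ᵥ evm (Ebm R.e o)) := by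
    unfold evm
    rw [single_one_dotProduct]
  rw [h1, Matrix.dotProduct_mulVec, Yg_row R o y hy]
  unfold evm
  rw [single_one_dotProduct, Pi.single_eq_same]

end Rep

end SysM

end Cfsg.Agent.Lib.helper17.STM
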