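import Mathlib
import Cfsg.Agent.Lib.helper17.STM.Defs
import Cfsg.Agent.Lib.helper17.STM.Defs2
import Cfsg.Agent.Lib.helper17.STM.Defs3
import Cfsg.Agent.Lib.helper17.STM.Sub
import Cfsg.Agent.Lib.Helper20.STCR1
import Cfsg.Agent.Lib.Helper20.STMR3

/-!
# Project STM (designer helper17), part 3, row J1 (`Yg_fix_phi_eq_one`) (helper16), CORE:
`stmj1_core`: J1 with the statements of R3b `M_form` (for this `y`), R2 `eq_one_of_Yshape` and R7 `Yg_col` (for this `y`) as hypotheses.  On R3 (`Helper20.STMR3`).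
-/

set_option autoImplicit false

namespace Cfsg.Agent.Lib.helper17.STM

open Matrix Cfsg.Agent.Lib.helper15.St2 Cfsg.Agent.Lib.helper3.STC Cfsg.Agent.Lib.Lead.STD

universe v w

namespace SysM

namespace Rep

variable {F : Type*} [Field F] {A B : F} [Fact (∀ r : F, r ^ 2 ≠ -B + A * r)] {ι : Type*} {G : Type*} [Group G] {S : SysM F A B ι G}
  {l : Type*} [Fintype l] [DecidableEq l] (R : S.Rep l)

variable (o : ι ⊕ ι)

/-- J1 core -/
theorem stmj1_core {y : G} (h : R.M y *ᵥ evm (Ebm R.e o) = evm (Ebm R.e o))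
    (hform : (R.M y)ᵀ * JM A B * R.M y = (JM A B : Matrix (Im l) (Im l) F))
    (hR2 : ∀ {M : Matrix (Im l) (Im l) F} {o : l ⊕ l}, Mᵀ * JM A B * M = JM A B → M *ᵥ evm (Sum.inl o) = evm (Sum.inl o) →
      (∀ c : Im l, c ≠ Sum.inl o → ∃ r : F, M *ᵥ evm c = evm c + r • evm (Sum.inl (ng o))) → M = 1)
    (hcol : ∀ c : Im l, c ≠ Ebm R.e o → ∃ r : F, R.M y *ᵥ evm c = evm c + r • evm (Ebm R.e (ng o))) : R.φ y = 1 := by
  apply phi_eq_one_of_M
  apply hR2 (o := Em R.e o) hform h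
  intro c hc
  obtain ⟨r, hr⟩ := hcol c hc
  refine ⟨r, ?_⟩
  rw [← Em_ng]
  exact hr

end Rep

end SysM

end Cfsg.Agent.Lib.helper17.STM
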