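import Mathlib
import Cfsg.Agent.Lib.helper17.STM.Defs
import Cfsg.Agent.Lib.helper17.STM.Defs2
import Cfsg.Agent.Lib.helper17.STM.Defs3
import Cfsg.Agent.Lib.helper17.STM.Sub
import Cfsg.Agent.Lib.Helper16.STMJ1core
import Cfsg.Agent.Lib.Helper28.STMR0b
import Cfsg.Agent.Lib.Helper5.STMR3bcore
import Cfsg.Agent.Lib.Helper28.STMR7

/-!
# Project STM (designer helper17), part 3, row J1 (`Yg_fix_phi_eq_one`) (helper16), VERBATIM.
On `Helper16.STMJ1core`, R0b / R2 (`Helper28.STMR0b`), the core of R3b (`Helper5.STMR3bcore`), R7 `Yg_col` (`Helper28.STMR7`).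
-/

set_option autoImplicit false

namespace Cfsg.Agent.Lib.helper17.STM

open Matrix Cfsg.Agent.Lib.helper15.St2 Cfsg.Agent.Lib.helper3.STC Cfsg.Agent.Lib.Lead.STD

universe v w

namespace SysM

namespace Rep

variable {F : Type*} [Field F] {A B : F} [Fact (∀ r : F, r ^ 2 ≠ -B + A * r)] {ι : Type*} {G : Type*} [Group G] {S : SysM F A B ι G}
  {l : Type*} [Fintype l] [DecidableEq l] (R : S.Rep l)

variable (o : ι ⊕ ι)

/-- J1 [S] -/
theorem Yg_fix_phi_eq_one {y : G} (hy : y ∈ S.Yg o) (h : R.M y *ᵥ evm (Ebm R.e o) = evm (Ebm R.e o)) : R.φ y = 1 :=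
  stmj1_core R o h (R.stmr3b_core (fun hab hab' t => TmL_form hab hab' t) (fun a t => TmS_form a t) y hy) (fun hM h0 h => eq_one_of_Yshape hM h0 h) (Yg_col R o y hy)

end Rep

end SysM

end Cfsg.Agent.Lib.helper17.STM
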