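import Mathlib
import Cfsg.Agent.Lib.helper17.STM.Defs
import Cfsg.Agent.Lib.helper17.STM.Defs2
import Cfsg.Agent.Lib.Helper16.STMN7core
import Cfsg.Agent.Lib.Helper9.STMN4a

/-!
# Project STM (designer helper17), part 2, row N7 (`Yg_decomp2`) (helper16), VERBATIM (on N4a `Yg_comm`).
-/

set_option autoImplicit false

namespace Cfsg.Agent.Lib.helper17.STM

open Cfsg.Agent.Lib.helper15.St2 Cfsg.Agent.Lib.helper3.STC Cfsg.Agent.Lib.Lead.STD

universe v w

namespace SysM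

variable {F : Type*} [Field F] {A B : F} [Fact (∀ r : F, r ^ 2 ≠ -B + A * r)] {ι : Type*} [DecidableEq ι] {G : Type*} [Group G] (S : SysM F A B ι G)

section N
variable (o : ι ⊕ ι)

omit [DecidableEq ι] in
/-- N7 [S-M] -/
theorem Yg_decomp2 {o' : ι ⊕ ι} (ho' : o' ≠ o) (ho'' : o' ≠ ng o) :
    ∀ y ∈ S.Yg o, ∃ u u' : F, ∃ y'' ∈ S.Yjj o o', y = S.x o' o u * S.x (ng o') o u' * y'' :=
  S.stmn7_core o (S.Yg_comm o) ho' ho''

end N

end SysM

end Cfsg.Agent.Lib.helper17.STM
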