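import Mathlib
import Cfsg.Agent.Lib.helper14.G2T.Defs

/-!
# G2T row C6: the character of `diag(lam, lam^q, lam^(q²))` is regular.
-/

set_option autoImplicit false

namespace Cfsg.Agent.Lib.helper14.G2T

open Cfsg.Lie Cfsg.Lie.ChevalleyDatum Matrix

universe u v

section C'

variable {E : Type v} [Field E]

/-- the exponent of `lam` in `chi (lam lam^q) (lam² lam^q) r`. -/
def g2tc6_e (q : ℤ) (r : ℕ) : ℤ := (q + 1) * chevG2.cartan 0 r + (q + 2) * chevG2.cartan 1 r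

/-- the table of exponents. -/
def g2tc6_tab (q : ℤ) : List ℤ :=
  [-(q + 2), -(2 * q + 1), -(q + 1), -1, -q, q - 1, 1 - q, q, 1, q + 1, 2 * q + 1, q + 2]

theorem g2tc6_vals (q : ℤ) : ∀ r < 12, g2tc6_e q r = (g2tc6_tab q).getD r 0 := by
  have c0 : ∀ r < 12, chevG2.cartan 0 r =
      ([0, -3, -1, 1, -2, 3, -3, 2, -1, 1, 3, 0] : List ℤ).getD r 0 := by decide
  have c1 : ∀ r < 12, chevG2.cartan 1 r =
      ([-1, 1, 0, -1, 1, -2, 2, -1, 1, 0, -1, 1] : List ℤ).getD r 0 := by decide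
  intro r hr
  unfold g2tc6_e g2tc6_tab
  rw [c0 r hr, c1 r hr]
  interval_cases r <;> simp <;> ring

theorem g2tc6_chi (q : ℕ) (lam : E) (h0 : lam ≠ 0) (r : ℕ) :
    chi (lam * lam ^ q) (lam ^ 2 * lam ^ q) r = lam ^ g2tc6_e q r := by
  unfold chi g2tc6_e
  have h1 : lam * lam ^ q = lam ^ ((q : ℤ) + 1) := by
    rw [zpow_add₀ h0, zpow_one, zpow_natCast, mul_comm]
  have h2 : lam ^ 2 * lam ^ q = lam ^ ((q : ℤ) + 2) := by
    rw [zpow_add₀ h0, zpow_natCast, mul_comm]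
    norm_cast
  rw [h1, h2, ← _root_.zpow_mul, ← _root_.zpow_mul, ← zpow_add₀ h0]

theorem g2tc6_bound (q : ℤ) (hq : 3 ≤ q) :
    ∀ r < 12, -(2 * q + 1) ≤ g2tc6_e q r ∧ g2tc6_e q r ≤ 2 * q + 1 ∧ g2tc6_e q r ≠ 0 := by
  intro r hr
  rw [g2tc6_vals q r hr]
  unfold g2tc6_tab
  interval_cases r <;> simp only [List.getD_cons_succ, List.getD_cons_zero] <;> omega

theorem g2tc6_inj (q : ℤ) (hq : 3 ≤ q) :
    ∀ r < 12, ∀ r' < 12, g2tc6_e q r = g2tc6_e q r' → r = r' := by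
  intro r hr r' hr' h
  rw [g2tc6_vals q r hr, g2tc6_vals q r' hr'] at h
  unfold g2tc6_tab at h
  interval_cases r <;> interval_cases r' <;> simp at h ⊢ <;> omega

theorem g2tc6_inj3 :
    ∀ r < 12, ∀ r' < 12, (13 : ℤ) ∣ g2tc6_e 3 r' - g2tc6_e 3 r → r = r' := by
  intro r hr r' hr' h
  rw [g2tc6_vals 3 r hr, g2tc6_vals 3 r' hr'] at h
  unfold g2tc6_tab at h
  interval_cases r <;> interval_cases r' <;> simp at h ⊢

/-- C6 [M]. The character of `diag(lam, lam^q, lam^(q²))` is regular. -/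
theorem chi_regular (q : ℕ) (hq : 3 ≤ q) (lam : E) (hlam : orderOf lam = q ^ 2 + q + 1) :
    (∀ r < 12, chi (lam * lam ^ q) (lam ^ 2 * lam ^ q) r ≠ 1) ∧
    (∀ r < 12, ∀ r' < 12, chi (lam * lam ^ q) (lam ^ 2 * lam ^ q) r =
      chi (lam * lam ^ q) (lam ^ 2 * lam ^ q) r' → r = r') := by
  have hq' : (3 : ℤ) ≤ (q : ℤ) := by exact_mod_cast hq
  have h0 : lam ≠ 0 := by
    rintro rfl
    have h1 : (0 : E) ^ (q ^ 2 + q + 1) = 1 := by
      rw [← hlam]
      exact pow_orderOf_eq_one 0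
    rw [zero_pow (by omega)] at h1
    exact zero_ne_one h1
  have hn : ((orderOf lam : ℕ) : ℤ) = (q : ℤ) ^ 2 + q + 1 := by
    rw [hlam]
    push_cast
    ring
  set lamU : Eˣ := Units.mk0 lam h0 with hlamU
  have hordU : orderOf lamU = orderOf lam := by
    rw [← orderOf_units, hlamU, Units.val_mk0]
  have hval : ∀ k : ℤ, lam ^ k = ((lamU ^ k : Eˣ) : E) := by
    intro k
    rw [Units.val_zpow_eq_zpow_val, hlamU, Units.val_mk0]
  refine ⟨?_, ?_⟩
  · intro r hr h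
    rw [g2tc6_chi q lam h0, hval, ← Units.val_one, Units.val_inj] at h
    have hdvd := (orderOf_dvd_iff_zpow_eq_one).mpr h
    rw [hordU, hn] at hdvd
    obtain ⟨hb1, hb2, hb3⟩ := g2tc6_bound q hq' r hr
    apply hb3
    apply Int.eq_zero_of_abs_lt_dvd hdvd
    rw [abs_lt]
    constructor <;> nlinarith
  · intro r hr r' hr' h
    rw [g2tc6_chi q lam h0, g2tc6_chi q lam h0, hval, hval, Units.val_inj] at h
    have hmod := (zpow_eq_zpow_iff_modEq).mp h
    have hdvd := (Int.modEq_iff_dvd).mp hmod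
    rw [hordU, hn] at hdvd
    rcases Nat.eq_or_lt_of_le hq with h3 | h4
    · subst h3
      apply g2tc6_inj3 r hr r' hr'
      have : ((3 : ℕ) : ℤ) ^ 2 + ((3 : ℕ) : ℤ) + 1 = 13 := by norm_num
      rw [this] at hdvd
      exact_mod_cast hdvd
    · have hq4 : (4 : ℤ) ≤ (q : ℤ) := by exact_mod_cast h4
      obtain ⟨hb1, hb2, _⟩ := g2tc6_bound q hq' r hr
      obtain ⟨hb1', hb2', _⟩ := g2tc6_bound q hq' r' hr'
      have hz : g2tc6_e q r' - g2tc6_e q r = 0 := by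
        apply Int.eq_zero_of_abs_lt_dvd hdvd
        rw [abs_lt]
        constructor <;> nlinarith
      exact g2tc6_inj q hq' r hr r' hr' (by linarith)

end C'

end Cfsg.Agent.Lib.helper14.G2T
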