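import Mathlib
import Cfsg.Agent.Lib.helper14.G2T.Defs

/-!
# G2T row C5: the norm-one elements of `GF(q³)` are the powers of `lam`.
-/

set_option autoImplicit false

namespace Cfsg.Agent.Lib.helper14.G2T

open Matrix

universe u v

section C

variable {F : Type u} [Field F] [Fintype F] {E : Type v} [Field E] [Fintype E] [Algebra F E]

/-- C5 [S-M]. The elements of norm one are the powers of `lam`. -/
theorem lam_basic (lam : E) (hlam : orderOf lam = Fintype.card F ^ 2 + Fintype.card F + 1) :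
    lam ≠ 0 ∧ lam * lam ^ Fintype.card F * lam ^ Fintype.card F ^ 2 = 1 ∧
    (∀ μ : E, μ * μ ^ Fintype.card F * μ ^ Fintype.card F ^ 2 = 1 → ∃ i : ℕ, μ = lam ^ i) := by
  have hnorm : ∀ μ : E, μ * μ ^ Fintype.card F * μ ^ Fintype.card F ^ 2 =
      μ ^ (Fintype.card F ^ 2 + Fintype.card F + 1) := by
    intro μ
    rw [pow_add, pow_add, pow_one]
    ring
  have hpos : 0 < Fintype.card F ^ 2 + Fintype.card F + 1 := by omega
  have h1 : lam ^ (Fintype.card F ^ 2 + Fintype.card F + 1) = 1 := by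
    rw [← hlam]
    exact pow_orderOf_eq_one lam
  refine ⟨?_, ?_, ?_⟩
  · rintro rfl
    rw [zero_pow (by omega)] at h1
    exact zero_ne_one h1
  · rw [hnorm, h1]
  · intro μ hμ
    rw [hnorm] at hμ
    have hprim : IsPrimitiveRoot lam (Fintype.card F ^ 2 + Fintype.card F + 1) := by
      rw [← hlam]
      exact IsPrimitiveRoot.orderOf lam
    haveI : NeZero (Fintype.card F ^ 2 + Fintype.card F + 1) := ⟨by omega⟩
    obtain ⟨i, _, hi⟩ := hprim.eq_pow_of_pow_eq_one hμ
    exact ⟨i, hi.symm⟩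

end C

end Cfsg.Agent.Lib.helper14.G2T
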