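import Mathlib
import Cfsg.Agent.Lib.Helper19.G2V.Defs
import Cfsg.Agent.Lib.helper8.ChevReflDataG2
import Cfsg.Agent.Lib.helper8.ChevBN2

/-!
# Project G2V (S2461), row N4 (`nrho_X6 … nrho_X11`), verbatim.

`nrho = nb * na * nb * na⁻¹ * nb⁻¹` and the explicit signs of the simple reflections (helper8's tables
`h8eta_G2`).
-/

set_option autoImplicit false

namespace Cfsg.Agent.Lib.Helper19.G2V

open Cfsg.Lie Cfsg.Lie.ChevalleyDatum Matrix
open Cfsg.Agent.Lib.helper8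

universe u

variable {F : Type u} [Field F]

/-- conjugation by `n_a`, with the sign of helper8's table -/
theorem g2vn4_conj_a (s : ℕ) (hs : s < 12) (t : F) :
    na * X s t * na⁻¹ =
      X (chevG2.reflectRoot 0 s) ((((h8eta_G2 0).getD s 0 : ℤ) : F) * t) := by
  rw [mul_inv_eq_iff_eq_mul]
  apply Units.ext
  rw [Units.val_mul, Units.val_mul]
  have h := h8n_simple_conj (F := F) chevG2 0 (by decide) (h8eta_G2 0) (h8n_G2 0 (by decide)).1
    (h8n_G2 0 (by decide)).2 h8ceChk_G2 h8CAchk_G2 h8reflChk_G2_0 s hs t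
  exact h

/-- conjugation by `n_b`, with the sign of helper8's table -/
theorem g2vn4_conj_b (s : ℕ) (hs : s < 12) (t : F) :
    nb * X s t * nb⁻¹ =
      X (chevG2.reflectRoot 1 s) ((((h8eta_G2 1).getD s 0 : ℤ) : F) * t) := by
  rw [mul_inv_eq_iff_eq_mul]
  apply Units.ext
  rw [Units.val_mul, Units.val_mul]
  have h := h8n_simple_conj (F := F) chevG2 1 (by decide) (h8eta_G2 1) (h8n_G2 1 (by decide)).1
    (h8n_G2 1 (by decide)).2 h8ceChk_G2 h8CAchk_G2 h8reflChk_G2_1 s hs t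
  exact h

theorem g2vn4_a (s s' : ℕ) (e : ℤ) (hs : s < 12) (h1 : chevG2.reflectRoot 0 s = s')
    (h2 : (h8eta_G2 0).getD s 0 = e) (t : F) : na * X s t * na⁻¹ = X s' ((e : F) * t) := by
  rw [g2vn4_conj_a s hs t, h1, h2]

theorem g2vn4_b (s s' : ℕ) (e : ℤ) (hs : s < 12) (h1 : chevG2.reflectRoot 1 s = s')
    (h2 : (h8eta_G2 1).getD s 0 = e) (t : F) : nb * X s t * nb⁻¹ = X s' ((e : F) * t) := by
  rw [g2vn4_conj_b s hs t, h1, h2]

theorem g2vn4_a' (r r' : ℕ) (e : ℤ) (hr' : r' < 12) (h1 : chevG2.reflectRoot 0 r' = r)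
    (h2 : (h8eta_G2 0).getD r' 0 = e) (he : e = 1 ∨ e = -1) (t : F) :
    na⁻¹ * X r t * na = X r' ((e : F) * t) := by
  have h := g2vn4_a (F := F) r' r e hr' h1 h2 ((e : F) * t)
  have e2 : (e : F) * ((e : F) * t) = t := by
    rcases he with rfl | rfl <;> push_cast <;> ring
  rw [e2] at h
  rw [← h]
  group

theorem g2vn4_b' (r r' : ℕ) (e : ℤ) (hr' : r' < 12) (h1 : chevG2.reflectRoot 1 r' = r)
    (h2 : (h8eta_G2 1).getD r' 0 = e) (he : e = 1 ∨ e = -1) (t : F) :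
    nb⁻¹ * X r t * nb = X r' ((e : F) * t) := by
  have h := g2vn4_b (F := F) r' r e hr' h1 h2 ((e : F) * t)
  have e2 : (e : F) * ((e : F) * t) = t := by
    rcases he with rfl | rfl <;> push_cast <;> ring
  rw [e2] at h
  rw [← h]
  group

/-- `n_ρ = (n_b n_a) n_b (n_b n_a)⁻¹` -/
theorem g2vn4_nrho : (nrho : GG F) = nb * na * nb * na⁻¹ * nb⁻¹ := by
  have hb : (nb : GG F) = X 6 1 * X 5 (-(1 : F)⁻¹) * X 6 1 := by
    unfold nb X
    rw [h8nU_eq]
    rfl
  have hr : (nrho : GG F) = X 11 1 * X 0 (-(1 : F)⁻¹) * X 11 1 := by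
    unfold nrho X
    rw [h8nU_eq]
    rfl
  have c6 : ∀ t : F, nb * na * X 6 t * na⁻¹ * nb⁻¹ = X 11 t := by
    intro t
    have h1 := g2vn4_a (F := F) 6 10 1 (by decide) (by decide) (by decide) t
    have h2 := g2vn4_b (F := F) 10 11 1 (by decide) (by decide) (by decide) t
    have e : nb * na * X 6 t * na⁻¹ * nb⁻¹ = nb * (na * X 6 t * na⁻¹) * nb⁻¹ := by group
    rw [e, h1]
    simp only [Int.cast_one, one_mul] at h2 ⊢
    exact h2
  have c5 : ∀ t : F, nb * na * X 5 t * na⁻¹ * nb⁻¹ = X 0 t := by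
    intro t
    have h1 := g2vn4_a (F := F) 5 1 1 (by decide) (by decide) (by decide) t
    have h2 := g2vn4_b (F := F) 1 0 1 (by decide) (by decide) (by decide) t
    have e : nb * na * X 5 t * na⁻¹ * nb⁻¹ = nb * (na * X 5 t * na⁻¹) * nb⁻¹ := by group
    rw [e, h1]
    simp only [Int.cast_one, one_mul] at h2 ⊢
    exact h2
  have key : ∀ x y z : GG F, nb * na * (x * y * z) * na⁻¹ * nb⁻¹ =
      (nb * na * x * na⁻¹ * nb⁻¹) * (nb * na * y * na⁻¹ * nb⁻¹) * (nb * na * z * na⁻¹ * nb⁻¹) := by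
    intro x y z
    group
  calc (nrho : GG F) = X 11 1 * X 0 (-(1 : F)⁻¹) * X 11 1 := hr
    _ = (nb * na * X 6 1 * na⁻¹ * nb⁻¹) * (nb * na * X 5 (-(1 : F)⁻¹) * na⁻¹ * nb⁻¹) *
          (nb * na * X 6 1 * na⁻¹ * nb⁻¹) := by rw [c6, c5]
    _ = nb * na * (X 6 1 * X 5 (-(1 : F)⁻¹) * X 6 1) * na⁻¹ * nb⁻¹ := (key _ _ _).symm
    _ = nb * na * nb * na⁻¹ * nb⁻¹ := by rw [← hb]

theorem g2vn4_chain (x : GG F) : nrho * x * nrho⁻¹ =
    nb * (na * (nb * (na⁻¹ * (nb⁻¹ * x * nb) * na) * nb⁻¹) * na⁻¹) * nb⁻¹ := by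
  rw [g2vn4_nrho]
  group

/-- **N4** (all five). -/
theorem nrho_X6 (t : F) : nrho * X 6 t * nrho⁻¹ = X 1 (-t) := by
  rw [g2vn4_chain,
    g2vn4_b' 6 5 (-1) (by decide) (by decide) (by decide) (Or.inr rfl),
    g2vn4_a' 5 1 (-1) (by decide) (by decide) (by decide) (Or.inr rfl),
    g2vn4_b 1 0 1 (by decide) (by decide) (by decide),
    g2vn4_a 0 0 1 (by decide) (by decide) (by decide),
    g2vn4_b 0 1 (-1) (by decide) (by decide) (by decide)]
  congr 1
  push_cast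
  ring

theorem nrho_X8 (t : F) : nrho * X 8 t * nrho⁻¹ = X 2 (-t) := by
  rw [g2vn4_chain,
    g2vn4_b' 8 7 1 (by decide) (by decide) (by decide) (Or.inl rfl),
    g2vn4_a' 7 4 (-1) (by decide) (by decide) (by decide) (Or.inr rfl),
    g2vn4_b 4 3 1 (by decide) (by decide) (by decide),
    g2vn4_a 3 2 1 (by decide) (by decide) (by decide),
    g2vn4_b 2 2 1 (by decide) (by decide) (by decide)]
  congr 1
  push_cast
  ring

theorem nrho_X9 (t : F) : nrho * X 9 t * nrho⁻¹ = X 3 t := by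
  rw [g2vn4_chain,
    g2vn4_b' 9 9 1 (by decide) (by decide) (by decide) (Or.inl rfl),
    g2vn4_a' 9 8 1 (by decide) (by decide) (by decide) (Or.inl rfl),
    g2vn4_b 8 7 (-1) (by decide) (by decide) (by decide),
    g2vn4_a 7 4 (-1) (by decide) (by decide) (by decide),
    g2vn4_b 4 3 1 (by decide) (by decide) (by decide)]
  congr 1
  push_cast
  ring

theorem nrho_X10 (t : F) : nrho * X 10 t * nrho⁻¹ = X 5 t := by
  rw [g2vn4_chain,
    g2vn4_b' 10 11 (-1) (by decide) (by decide) (by decide) (Or.inr rfl),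
    g2vn4_a' 11 11 1 (by decide) (by decide) (by decide) (Or.inl rfl),
    g2vn4_b 11 10 (-1) (by decide) (by decide) (by decide),
    g2vn4_a 10 6 (-1) (by decide) (by decide) (by decide),
    g2vn4_b 6 5 (-1) (by decide) (by decide) (by decide)]
  congr 1
  push_cast
  ring

theorem nrho_X11 (t : F) : nrho * X 11 t * nrho⁻¹ = X 0 (-t) := by
  rw [g2vn4_chain,
    g2vn4_b' 11 10 1 (by decide) (by decide) (by decide) (Or.inl rfl),
    g2vn4_a' 10 6 1 (by decide) (by decide) (by decide) (Or.inl rfl),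
    g2vn4_b 6 5 (-1) (by decide) (by decide) (by decide),
    g2vn4_a 5 1 1 (by decide) (by decide) (by decide),
    g2vn4_b 1 0 1 (by decide) (by decide) (by decide)]
  congr 1
  push_cast
  ring

end Cfsg.Agent.Lib.Helper19.G2V
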