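import Mathlib
import Cfsg.Prelude.Def_GeometricClasses
import Cfsg.Agent.Lib.Helper27.ASC.Defs
import Cfsg.Agent.Lib.helper23.ASCO.Defs
import Cfsg.Agent.Lib.Lead.Reindex
import Cfsg.Agent.Lib.Helper11.ASCRED

/-!
# Project ASCO, piece RED : `ored_case`

A reducible group of isometries of a non-degenerate quadratic form in odd dimension (`2 ≠ 0`) fixes a
non-zero totally singular subspace or a non-zero non-degenerate subspace of even dimension:
`W₀` from `red_case`, `W₀⊥` is `H`-stable; `W₀ ⊓ W₀⊥ ≠ ⊥` is totally singular; otherwise `W₀`, `W₀⊥` are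
non-degenerate of complementary dimensions and one of them has even dimension.
-/

set_option autoImplicit false
set_option linter.unusedVariables false
set_option linter.unusedSectionVars false

namespace Cfsg.Agent.Lib.helper23.ASCO

open Cfsg Cfsg.Geo Cfsg.Agent.Lib.Helper27.ASC
open scoped MatrixGroups Matrix

variable {n : ℕ} {F : Type*} [Field F] [Fintype F]

theorem ascored_stab_of_maps (H : Subgroup (GL (Fin n) F)) (W : Submodule F (Fin n → F))
    (hW : ∀ g ∈ H, ∀ v ∈ W, (g : Matrix (Fin n) (Fin n) F) *ᵥ v ∈ W) : H ≤ subspaceStabilizer W := by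
  intro g hg
  show ∀ v, v ∈ (W : Set (Fin n → F)) ↔ (glToMat (Fin n) F g) *ᵥ v ∈ (W : Set (Fin n → F))
  intro v
  constructor
  · intro hv
    exact hW g hg v hv
  · intro hv
    have h2 := hW g⁻¹ (H.inv_mem hg) _ hv
    have e : ((g⁻¹ : GL (Fin n) F) : Matrix (Fin n) (Fin n) F) *ᵥ ((glToMat (Fin n) F g) *ᵥ v) = v := by
      rw [Matrix.mulVec_mulVec]
      have : ((g⁻¹ : GL (Fin n) F) : Matrix (Fin n) (Fin n) F) * (glToMat (Fin n) F g) = 1 := by
        show ((g⁻¹ : GL (Fin n) F) : Matrix (Fin n) (Fin n) F) * (g : Matrix (Fin n) (Fin n) F) = 1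
        rw [← Units.val_mul, inv_mul_cancel, Units.val_one]
      rw [this, Matrix.one_mulVec]
    rw [e] at h2
    exact h2

theorem ascored_maps_of_stab (H : Subgroup (GL (Fin n) F)) (W : Submodule F (Fin n → F))
    (hW : H ≤ subspaceStabilizer W) : ∀ g ∈ H, ∀ v ∈ W, (g : Matrix (Fin n) (Fin n) F) *ᵥ v ∈ W := by
  intro g hg v hv
  exact ((hW hg) v).1 hv

/-- an isometry preserves the polar form -/
theorem ascored_polar (Q : QuadraticForm F (Fin n → F)) (g : GL (Fin n) F)
    (hg : g ∈ isometryGroup F (⇑Q)) (u v : Fin n → F) :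
    QuadraticMap.polar (⇑Q) ((g : Matrix (Fin n) (Fin n) F) *ᵥ u)
      ((g : Matrix (Fin n) (Fin n) F) *ᵥ v) = QuadraticMap.polar (⇑Q) u v := by
  have hq : ∀ x : Fin n → F, Q ((g : Matrix (Fin n) (Fin n) F) *ᵥ x) = Q x := fun x => hg x x
  unfold QuadraticMap.polar
  rw [← Matrix.mulVec_add, hq, hq, hq]

/-- RED : a reducible group of isometries fixes a non-zero totally singular subspace or a non-zero
non-degenerate subspace of even dimension. -/
theorem ored_case (hodd : Odd n) (h2 : (2 : F) ≠ 0) (Q : QuadraticForm F (Fin n → F))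
    (hQ : (QuadraticMap.polarBilin Q).Nondegenerate) {H : Subgroup (GL (Fin n) F)}
    (hHO : H ≤ isometryGroup F (⇑Q)) (h : ¬ Irr H) :
    ∃ W : Submodule F (Fin n → F), W ≠ ⊥ ∧ W ≠ ⊤ ∧ H ≤ subspaceStabilizer W ∧
      (IsTotallySingularQuad (⇑Q) W ∨
        (Even (Module.finrank F W) ∧ IsNondegenerateOn (QuadraticMap.polar (⇑Q)) W)) := by
  classical
  obtain ⟨W₀, h0, h1, hst⟩ := red_case H h
  have hWm := ascored_maps_of_stab H W₀ hst
  set B : LinearMap.BilinForm F (Fin n → F) := QuadraticMap.polarBilin Q with hBdef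
  have hBapp : ∀ x y : Fin n → F, B x y = QuadraticMap.polar (⇑Q) x y := fun x y => rfl
  have hpol : ∀ g ∈ H, ∀ u v : Fin n → F,
      QuadraticMap.polar (⇑Q) ((g : Matrix (Fin n) (Fin n) F) *ᵥ u)
        ((g : Matrix (Fin n) (Fin n) F) *ᵥ v) = QuadraticMap.polar (⇑Q) u v :=
    fun g hg u v => ascored_polar Q g (hHO hg) u v
  have hginv : ∀ g : GL (Fin n) F, ∀ w : Fin n → F, (g : Matrix (Fin n) (Fin n) F) *ᵥ
      (((g⁻¹ : GL (Fin n) F) : Matrix (Fin n) (Fin n) F) *ᵥ w) = w := by
    intro g w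
    rw [Matrix.mulVec_mulVec, ← Units.val_mul, mul_inv_cancel, Units.val_one, Matrix.one_mulVec]
  set Wp : Submodule F (Fin n → F) := B.orthogonal W₀ with hWp
  have hmemp : ∀ v : Fin n → F, v ∈ Wp ↔ ∀ w ∈ W₀, QuadraticMap.polar (⇑Q) w v = 0 := by
    intro v
    rw [hWp, LinearMap.BilinForm.mem_orthogonal_iff]
    constructor
    · intro hv w hw
      have := hv w hw
      rw [← hBapp]
      exact this
    · intro hv w hw
      show B w v = 0
      rw [hBapp]
      exact hv w hw
  -- the perp is invariant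
  have hPm : ∀ g ∈ H, ∀ v ∈ Wp, (g : Matrix (Fin n) (Fin n) F) *ᵥ v ∈ Wp := by
    intro g hg v hv
    rw [hmemp] at hv ⊢
    intro w hw
    have h3 := hWm g⁻¹ (H.inv_mem hg) w hw
    have h4 := hpol g hg (((g⁻¹ : GL (Fin n) F) : Matrix (Fin n) (Fin n) F) *ᵥ w) v
    rw [hginv] at h4
    rw [h4]
    exact hv _ h3
  by_cases hR : W₀ ⊓ Wp = ⊥
  · -- `W₀` is non-degenerate
    have hnd₀ : IsNondegenerateOn (QuadraticMap.polar (⇑Q)) W₀ := by
      intro w hw hw0
      have hnot : w ∉ Wp := by
        intro hwp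
        have : w ∈ W₀ ⊓ Wp := ⟨hw, hwp⟩
        rw [hR] at this
        exact hw0 ((Submodule.mem_bot F).1 this)
      rw [hmemp] at hnot
      push Not at hnot
      obtain ⟨x, hx, hx0⟩ := hnot
      refine ⟨⟨x, hx, hx0⟩, ⟨x, hx, ?_⟩⟩
      rw [QuadraticMap.polar_comm]
      exact hx0
    have hfr : Module.finrank F Wp = n - Module.finrank F W₀ := by
      have := LinearMap.BilinForm.finrank_orthogonal (B := B) hQ W₀
      rwa [Module.finrank_fin_fun] at this
    have hWlt : Module.finrank F W₀ < n := by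
      have := Submodule.finrank_lt h1
      rwa [Module.finrank_fin_fun] at this
    have hWpos : 0 < Module.finrank F W₀ := by
      rcases Nat.eq_zero_or_pos (Module.finrank F W₀) with hz | hp
      · exact absurd (Submodule.finrank_eq_zero.1 hz) h0
      · exact hp
    by_cases hev : Even (Module.finrank F W₀)
    · exact ⟨W₀, h0, h1, hst, Or.inr ⟨hev, hnd₀⟩⟩
    · have hsi := Submodule.finrank_sup_add_finrank_inf_eq W₀ Wp
      rw [hR, finrank_bot, add_zero] at hsi
      have hsup : W₀ ⊔ Wp = ⊤ := by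
        apply Submodule.eq_top_of_finrank_eq
        rw [Module.finrank_fin_fun]
        omega
      refine ⟨Wp, ?_, ?_, ascored_stab_of_maps H _ hPm, Or.inr ⟨?_, ?_⟩⟩
      · intro hb
        rw [hb, finrank_bot] at hfr
        omega
      · intro ht
        rw [ht, finrank_top, Module.finrank_fin_fun] at hfr
        omega
      · rw [hfr]
        rw [Nat.not_even_iff_odd] at hev
        obtain ⟨a, ha⟩ := hodd
        obtain ⟨b, hb⟩ := hev
        exact ⟨a - b, by omega⟩
      · intro w' hw' hw'0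
        have key : ∃ x ∈ Wp, QuadraticMap.polar (⇑Q) x w' ≠ 0 := by
          by_contra hcon
          push Not at hcon
          have hall : ∀ v : Fin n → F, B v w' = 0 := by
            intro v
            have hv : v ∈ W₀ ⊔ Wp := by rw [hsup]; exact Submodule.mem_top
            obtain ⟨a, ha, b, hb, rfl⟩ := Submodule.mem_sup.1 hv
            rw [map_add, LinearMap.add_apply, hBapp, hBapp, hcon b hb, add_zero]
            exact (hmemp w').1 hw' a ha
          exact hw'0 (hQ.2 w' hall)
        obtain ⟨x, hx, hx0⟩ := key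
        refine ⟨⟨x, hx, hx0⟩, ⟨x, hx, ?_⟩⟩
        rw [QuadraticMap.polar_comm]
        exact hx0
  · -- the radical is totally singular
    refine ⟨W₀ ⊓ Wp, hR, ?_, ?_, Or.inl ?_⟩
    · intro ht
      apply h1
      rw [eq_top_iff, ← ht]
      exact inf_le_left
    · apply ascored_stab_of_maps
      intro g hg v hv
      exact ⟨hWm g hg v hv.1, hPm g hg v hv.2⟩
    · intro w hw
      have h3 : QuadraticMap.polar (⇑Q) w w = 0 := (hmemp w).1 hw.2 w hw.1
      rw [QuadraticMap.polar_self, two_nsmul, ← two_mul] at h3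
      exact (mul_eq_zero.mp h3).resolve_left h2

end Cfsg.Agent.Lib.helper23.ASCO
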