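import Mathlib
import Cfsg.Prelude.Def_Characters
import Cfsg.Prelude.Def_Blocks
import Cfsg.Agent.Lib.Helper25.CharLinear
import Cfsg.Agent.Lib.Helper29.LeoOrbit
import Cfsg.Agent.Lib.helper7.BR.Defs
import Cfsg.Agent.Lib.Helper13.BT.Defs
import Cfsg.Agent.Lib.helper2.Burnside
import Cfsg.Agent.Lib.helper23.PSLZCHI
import Cfsg.Agent.Lib.Helper21.BTFAITH

/-!
# Project BT, piece BURN : Burnside's coprimality lemma in a simple group
-/

set_option autoImplicit false
set_option linter.unusedVariables false
set_option linter.unusedSectionVars false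
set_option linter.style.haveILetI false

namespace Cfsg.Agent.Lib.Helper13.BT

open Classical
open scoped ComplexConjugate
open Cfsg.Agent.Lib.Helper25 Cfsg.Agent.Lib.Helper29
open Cfsg.Agent.Lib.helper7.BR

universe u

variable {G : Type u} [Group G] [Fintype G] {p : ℕ} [Fact p.Prime]

/-- the centre of a non-commutative simple group is trivial -/
theorem btburn_center [IsSimpleGroup G] (hnc : ¬ ∀ x y : G, x * y = y * x) :
    Subgroup.center G = ⊥ := by
  rcases IsSimpleGroup.eq_bot_or_eq_top_of_normal (Subgroup.center G) inferInstance with h | h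
  · exact h
  · exfalso
    apply hnc
    intro x y
    have hx : x ∈ Subgroup.center G := by rw [h]; exact Subgroup.mem_top x
    exact ((Subgroup.mem_center_iff.mp hx) y).symm

/-- BURN : Burnside's coprimality lemma in a simple group (`helper2.burnside_coprime`,
`helper2.simple_noncomm_not_scalar` / `center_of_norm_eq`) -/
theorem burnside_vanish [IsSimpleGroup G] (hnc : ¬ ∀ x y : G, x * y = y * x) (χ : Cfsg.IrrCharacter G)
    (hχ : χ ≠ trivIrr G) (g : G) (hg : g ≠ 1)
    (hcop : Nat.Coprime (leoDeg χ) (Subgroup.centralizer ({g} : Set G)).index) :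
    (χ : G → ℂ) g = 0 := by
  obtain ⟨n, ρ, hρ, hρχ⟩ := χ.2
  haveI := hρ
  have h1 : (χ : G → ℂ) 1 = (Module.finrank ℂ (Fin n → ℂ) : ℂ) := by
    rw [← hρχ, Representation.char_one]
  have hdeg : leoDeg χ = Module.finrank ℂ (Fin n → ℂ) := by
    have h2 := leoDeg_spec χ
    rw [h1] at h2
    exact_mod_cast h2.symm
  rw [hdeg] at hcop
  rcases Cfsg.Agent.Lib.helper2.burnside_coprime ρ g hcop with h0 | hnorm
  · rw [← hρχ]
    exact h0
  · exfalso
    apply hg
    have hcen : g ∈ Subgroup.center G := by
      apply Cfsg.Agent.Lib.helper15.PSL.center_of_norm_eq χ (faithful_of_simple χ hχ) g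
      rw [Complex.mul_conj, Complex.normSq_eq_norm_sq, ← hρχ, hnorm, Representation.char_one]
      push_cast
      ring
    rw [btburn_center hnc, Subgroup.mem_bot] at hcen
    exact hcen

end Cfsg.Agent.Lib.Helper13.BT
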