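import Mathlib
import Cfsg.Prelude.Def_Characters
import Cfsg.Prelude.Def_Blocks
import Cfsg.Agent.Lib.Helper25.CharLinear
import Cfsg.Agent.Lib.Helper29.LeoOrbit
import Cfsg.Agent.Lib.helper7.BR.Defs
import Cfsg.Agent.Lib.Helper13.BT.Defs

/-!
# Project BT, piece CCONJ : conjugate elements have centralizers of the same order
-/

set_option autoImplicit false
set_option linter.unusedVariables false
set_option linter.unusedSectionVars false

namespace Cfsg.Agent.Lib.Helper13.BT

open Classical
open scoped ComplexConjugate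
open Cfsg.Agent.Lib.Helper25 Cfsg.Agent.Lib.Helper29
open Cfsg.Agent.Lib.helper7.BR

universe u

variable {G : Type u} [Group G] [Fintype G] {p : ℕ} [Fact p.Prime]

/-- CCONJ : conjugate elements have centralizers of the same order -/
theorem card_centralizer_conj (g h : G) (hgh : IsConj g h) :
    Nat.card ↥(Subgroup.centralizer ({g} : Set G)) = Nat.card ↥(Subgroup.centralizer ({h} : Set G)) := by
  obtain ⟨c, hc⟩ := isConj_iff.mp hgh
  subst hc
  apply Nat.card_congr
  refine ⟨fun x => ⟨c * x.1 * c⁻¹, ?_⟩, fun y => ⟨c⁻¹ * y.1 * c, ?_⟩, ?_, ?_⟩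
  · have hx := Subgroup.mem_centralizer_singleton_iff.mp x.2
    rw [Subgroup.mem_centralizer_singleton_iff]
    calc c * x.1 * c⁻¹ * (c * g * c⁻¹) = c * (x.1 * g) * c⁻¹ := by group
      _ = c * (g * x.1) * c⁻¹ := by rw [hx]
      _ = c * g * c⁻¹ * (c * x.1 * c⁻¹) := by group
  · have hy := Subgroup.mem_centralizer_singleton_iff.mp y.2
    rw [Subgroup.mem_centralizer_singleton_iff]
    calc c⁻¹ * y.1 * c * g = c⁻¹ * (y.1 * (c * g * c⁻¹)) * c := by group
      _ = c⁻¹ * ((c * g * c⁻¹) * y.1) * c := by rw [hy]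
      _ = g * (c⁻¹ * y.1 * c) := by group
  · intro x
    apply Subtype.ext
    show c⁻¹ * (c * x.1 * c⁻¹) * c = x.1
    group
  · intro y
    apply Subtype.ext
    show c * (c⁻¹ * y.1 * c) * c⁻¹ = y.1
    group

end Cfsg.Agent.Lib.Helper13.BT
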