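import Mathlib
import Cfsg.Agent.Lib.helper7.BR.Defs

/-!
Project BR (S4701 / S0999), wave 1, piece SET1 (helper16): `p ∣ |G| < p ^ 3`, `P` not normal ⟹ `|P| = p`.
-/

set_option autoImplicit false
set_option linter.unusedVariables false
set_option linter.unusedSectionVars false

namespace Cfsg.Agent.Lib.helper7.BR

open Classical
open Cfsg.Agent.Lib.Helper25

universe u

variable {G : Type u} [Group G] [Fintype G] {p : ℕ} [Fact p.Prime]

/-- SET1 : `p ∣ |G| < p ^ 3` and `P` not normal ⟹ `|P| = p`.
(`|P| = p ^ k`, `k ≥ 1`; if `k ≥ 2` then `|G : P| < p`, so the number of Sylow `p`-subgroups,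
which is `≡ 1 mod p` and divides `|G : P|`, is `1`.) -/
theorem card_sylow_eq (hdvd : p ∣ Nat.card G) (hbig : Nat.card G < p ^ 3) (P : Sylow p G)
    (hP : ¬ (P : Subgroup G).Normal) : Nat.card ↥(P : Subgroup G) = p := by
  have hp : p.Prime := Fact.out
  have hG0 : Nat.card G ≠ 0 := Nat.card_pos.ne'
  have hcard := P.card_eq_multiplicity
  set k := (Nat.card G).factorization p with hk
  have hk1 : 1 ≤ k := by
    rw [hk]
    exact (hp.dvd_iff_one_le_factorization hG0).mp hdvd
  rcases Nat.lt_or_ge k 2 with hlt | hge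
  · have : k = 1 := by omega
    rw [hcard, this, pow_one]
  · exfalso
    apply hP
    -- `|G| = |P| * |G : P|`
    have hmul : Nat.card (P : Subgroup G) * (P : Subgroup G).index = Nat.card G :=
      Subgroup.card_mul_index _
    have hp2 : p ^ 2 ≤ Nat.card (P : Subgroup G) := by
      rw [hcard]
      exact Nat.pow_le_pow_right hp.pos hge
    have hidx : (P : Subgroup G).index < p := by
      by_contra hcon
      have hcon' : p ≤ (P : Subgroup G).index := Nat.le_of_not_lt hcon
      have : p ^ 2 * p ≤ Nat.card (P : Subgroup G) * (P : Subgroup G).index :=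
        Nat.mul_le_mul hp2 hcon'
      rw [hmul] at this
      have h3 : p ^ 3 = p ^ 2 * p := by ring
      omega
    have hdvd' : Nat.card (Sylow p G) ∣ (P : Subgroup G).index := P.card_dvd_index
    have hmod : Nat.card (Sylow p G) ≡ 1 [MOD p] := card_sylow_modEq_one p G
    have hidx0 : (P : Subgroup G).index ≠ 0 := Subgroup.index_ne_zero_of_finite
    have hle : Nat.card (Sylow p G) ≤ (P : Subgroup G).index :=
      Nat.le_of_dvd (Nat.pos_of_ne_zero hidx0) hdvd'
    have hlt : Nat.card (Sylow p G) < p := lt_of_le_of_lt hle hidx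
    have hone : Nat.card (Sylow p G) = 1 := by
      have h1 : Nat.card (Sylow p G) % p = 1 % p := hmod
      rw [Nat.mod_eq_of_lt hlt, Nat.mod_eq_of_lt hp.one_lt] at h1
      exact h1
    have hsub : Subsingleton (Sylow p G) := (Nat.card_eq_one_iff_unique.mp hone).1
    exact Sylow.normal_of_subsingleton P

end Cfsg.Agent.Lib.helper7.BR
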