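import Mathlib
import Cfsg.Agent.Lib.Lead.STB.Defs
import Cfsg.Agent.Lib.Lead.STDB1
import Cfsg.Agent.Lib.Helper24.STCI1

/-!
# Project STB (designer lead), rows H5 (`hs_comm`, `h_hs_comm`) and H6 (`hs_neg_one_eq`) (helper16): CORES, with the statements of
W11 `IsMon.cj_hs`, H1 `ws_mul_ws`, H4 `hs_eq_hh` as hypotheses.
-/

set_option autoImplicit false

namespace Cfsg.Agent.Lib.Lead.STB

open Cfsg.Agent.Lib.helper15.St2 Cfsg.Agent.Lib.helper3.STC Cfsg.Agent.Lib.Lead.STD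

universe v w

namespace SysB

variable {K : Type*} [Field K] {ι : Type*} {G : Type*} [Group G] (S : SysB K ι G)

/-- H5 core: an element which is monomial with trivial permutation and `d0 = 1` commutes with every short torus element.
`hcj` = statement of W11 `IsMon.cj_hs`, `hww` = statement of H1 `ws_mul_ws`. -/
theorem stbh5_core
    (hcj : ∀ {g : G} {σ : Equiv.Perm (ι ⊕ ι)} {d : ι ⊕ ι → K} {d0 : K}, S.IsMon g σ d d0 → ∀ (a : ι ⊕ ι) (u : K), u ≠ 0 →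
      cj g (S.hs a u) = S.ws (σ a) (d a * d0 * u) * S.ws (σ a) (-(d a * d0)))
    (hww : ∀ (a : ι ⊕ ι) (c d : K), c ≠ 0 → d ≠ 0 → S.ws a c * S.ws a d = S.hs a (-(c * d⁻¹)))
    {g : G} {d : ι ⊕ ι → K} (hg : S.IsMon g 1 d 1) (c : ι ⊕ ι) (v : K) (hv : v ≠ 0) :
    g * S.hs c v = S.hs c v * g := by
  have hd : d c ≠ 0 := hg.1.1 c
  have h1 := hcj hg c v hv
  rw [Equiv.Perm.coe_one, id_eq, mul_one,
    hww c (d c * v) (-(d c)) (mul_ne_zero hd hv) (neg_ne_zero.2 hd)] at h1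
  have e : -(d c * v * (-(d c))⁻¹) = v := by
    rw [inv_neg]
    field_simp
  rw [e] at h1
  unfold cj at h1
  exact mul_inv_eq_iff_eq_mul.mp h1

/-- H6 core: `h4` = statement of H4 `hs_eq_hh`. -/
theorem stbh6_core [Finite K]
    (h4 : ∀ {a b : ι ⊕ ι}, a ≠ b → a ≠ ng b → ∀ (t : K), t ≠ 0 → S.hs a t = S.h a b t * S.h a (ng b) t)
    {a b : ι ⊕ ι} (hab : a ≠ b) (hab' : a ≠ ng b) : S.hs a (-1) = S.hs b (-1) := by
  have hm1 : (-1 : K) ≠ 0 := neg_ne_zero.2 one_ne_zero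
  have hinv : (-1 : K)⁻¹ = -1 := by rw [inv_neg, inv_one]
  have hba : b ≠ a := fun e => hab e.symm
  have hba' : b ≠ ng a := fun e => hab' (by rw [e, ng_ng])
  rw [h4 hab hab' (-1) hm1, h4 hba hba' (-1) hm1]
  have e1 : S.h b a (-1) = S.h a b (-1) := by
    show S.toSysD.h b a (-1) = S.toSysD.h a b (-1)
    rw [S.toSysD.h_swap hab hab' (-1) hm1, hinv]
  have e2 : S.h b (ng a) (-1) = S.h a (ng b) (-1) := by
    show S.toSysD.h b (ng a) (-1) = S.toSysD.h a (ng b) (-1)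
    have hn : b ≠ ng (ng a) := by rw [ng_ng]; exact hba
    rw [S.toSysD.h_sym hba' hn (-1) hm1, ng_ng]
  rw [e1, e2]

end SysB

end Cfsg.Agent.Lib.Lead.STB
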