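import Mathlib
import Cfsg.Agent.Lib.Lead.STB.Defs
import Cfsg.Agent.Lib.Helper16.STBH5core
import Cfsg.Agent.Lib.Helper13.STBW11
import Cfsg.Agent.Lib.Helper20.STBH1
import Cfsg.Agent.Lib.Helper20.STBH2

/-!
# Project STB (designer lead), rows H5 (`hs_comm`, `h_hs_comm`) and H6 (`hs_neg_one_eq`) (helper16), VERBATIM.
-/

set_option autoImplicit false

namespace Cfsg.Agent.Lib.Lead.STB

open Cfsg.Agent.Lib.helper15.St2 Cfsg.Agent.Lib.helper3.STC Cfsg.Agent.Lib.Lead.STD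

universe v w

namespace SysB

variable {K : Type*} [Field K] {ι : Type*} {G : Type*} [Group G] (S : SysB K ι G)

variable [DecidableEq ι]

section H
variable [Finite K]

/-- H5 [S-M] -/
theorem hs_comm (a b : ι ⊕ ι) (u v : K) (hu : u ≠ 0) (hv : v ≠ 0) : S.hs a u * S.hs b v = S.hs b v * S.hs a u :=
  S.stbh5_core (fun hg a u hu => IsMon.cj_hs S hg a u hu) (fun a c d hc hd => S.ws_mul_ws a c d hc hd) (S.isMon_hs a u hu) b v hv

theorem h_hs_comm {a b : ι ⊕ ι} (hab : a ≠ b) (hab' : a ≠ ng b) (c : ι ⊕ ι) (u v : K) (hu : u ≠ 0) (hv : v ≠ 0) :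
    S.h a b u * S.hs c v = S.hs c v * S.h a b u :=
  S.stbh5_core (fun hg a u hu => IsMon.cj_hs S hg a u hu) (fun a c d hc hd => S.ws_mul_ws a c d hc hd) (S.isMon_h hab hab' u hu) c v hv

/-- H6 [S-M] -/
theorem hs_neg_one_eq {a b : ι ⊕ ι} (hab : a ≠ b) (hab' : a ≠ ng b) : S.hs a (-1) = S.hs b (-1) :=
  S.stbh6_core (fun hab hab' t ht => S.hs_eq_hh hab hab' t ht) hab hab'

end H

end SysB

end Cfsg.Agent.Lib.Lead.STB
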