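import Mathlib
import Cfsg.Agent.Lib.helper15.St2
import Cfsg.Agent.Lib.helper3.STC.Defs
import Cfsg.Agent.Lib.helper3.STC.Defs2
import Cfsg.Agent.Lib.helper3.STC.Defs3
import Cfsg.Agent.Lib.Helper24.STCI1
import Cfsg.Agent.Lib.Helper24.STCB1
import Cfsg.Agent.Lib.helper23.STCH1
import Cfsg.Agent.Lib.Helper26.STCN1
import Cfsg.Agent.Lib.helper2.STCN3
import Cfsg.Agent.Lib.Helper26.STCN4
import Cfsg.Agent.Lib.Helper12.STCN5
import Cfsg.Agent.Lib.Helper22.STCN6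

/-!
Project STC (designer helper3; Skel3), row F5 `cell0_sub_cell` (helper16): an element of the big cell whose `x j o`-coordinate is not
`0` lies in the cell of `j`.  Verbatim against `helper3/STC/Skel3.lean.txt`; cites the landed rows B1, H1, N1, N3, N4, N5, N6.
The fact `h_cj_mem_Yg` of row F2 is proved here under an own name (`stcf5_h_cj_mem_Yg`), so the module does not wait for F2.
-/

set_option autoImplicit false

namespace Cfsg.Agent.Lib.helper3.STC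

open Cfsg.Agent.Lib.helper15.St2 Cfsg.Agent.Lib.helper7.St

namespace SysC

variable {K : Type*} [Field K] {ι : Type*} {G : Type*} [Group G] (S : SysC K ι G)

section F
variable [DecidableEq ι] (o : ι ⊕ ι)

/-- own-name copy of F2 `h_cj_mem_Yg` -/
theorem stcf5_h_cj_mem_Yg (hH : S.HH) {b : ι ⊕ ι} (hb : b ≠ o) {t : K} (ht : t ≠ 0) :
    ∀ y ∈ S.Yg o, cj (S.h o b t) y ∈ S.Yg o :=
  (hH o b (Ne.symm hb) t ht).cj_mem_Yg S o rfl

/-- F5 [M] -/
theorem cell0_sub_cell [Finite K] (hH : S.HH) {j : ι ⊕ ι} (hj : j ≠ o) (hj' : j ≠ ng o) {u : K} (hu : u ≠ 0) {y' p : G}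
    (hy' : y' ∈ S.Yj o j) (hp : p ∈ S.Phat o) : S.x j o u * y' * p ∈ S.cell o j := by
  have hoj : o ≠ j := Ne.symm hj
  -- rank one: `x j o u = w o j 1 * h o j (-u) * x j o (-u) * x o j u⁻¹`
  have e1 : S.x j o u = S.w j o u * S.x j o (-u) * S.x o j u⁻¹ := by
    have h0 := S.lu0 hj u
    have h1 : S.x o j u⁻¹ = (S.x o j (-u⁻¹))⁻¹ := by
      rw [← S.x_neg, neg_neg]
    rw [h1, ← h0]
    group
  have e2 : S.w j o u = S.w o j 1 * S.h o j (-u) := by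
    rw [S.w_swap hoj u hu, S.w_eq_w_one_mul_h hoj (-u⁻¹) (neg_ne_zero.2 (inv_ne_zero hu))]
    congr 2
    rw [inv_neg, inv_inv]
  -- N6
  have hdec : ∀ z ∈ S.Yg j, ∃ v : K, ∃ z'' ∈ S.Yj j (ng o), z = S.x (ng o) j v * z'' :=
    S.Yg_decomp j (Ne.symm hj') (fun h => hj (ng_inj.1 h).symm)
  obtain ⟨y₂, hy₂, p₁, hp₁, e3⟩ := S.Yj_Pg o hj hj' hdec (S.Yj_cj_mem_Yg o hj hj') y' hy' u⁻¹
  have hnu : (-u : K) ≠ 0 := neg_ne_zero.2 hu
  refine ⟨cj (S.h o j (-u)) (S.x j o (-u) * y' * y₂), ?_, S.h o j (-u) * p₁ * p, ?_, ?_⟩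
  · refine S.stcf5_h_cj_mem_Yg o hH hj hnu _ ?_
    exact mul_mem (mul_mem (S.x_mem_Yg o hj _) (S.Yj_le_Yg o j hy')) hy₂
  · exact mul_mem (mul_mem (S.h_mem_Phat o hj hnu) (S.Pg_le_Phat o hp₁)) hp
  · have e4 : S.x j o u * y' * p
        = S.w o j 1 * S.h o j (-u) * S.x j o (-u) * (S.x o j u⁻¹ * y') * p := by
      rw [e1, e2]
      group
    rw [e4, e3]
    unfold cj
    group

end F

end SysC

end Cfsg.Agent.Lib.helper3.STC
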