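import Mathlib
import Cfsg.Prelude.Def_LieTypeDatum
import Cfsg.Agent.Lib.Helper16.PG10
import Cfsg.Agent.Lib.Helper16.OPlane
import Cfsg.Agent.Lib.Helper16.PlusFam

set_option autoImplicit false
set_option linter.unusedSectionVars false

namespace Cfsg.Agent.Lib.Helper16.PG

open Matrix Module Cfsg.Agent.Lib.Helper16.SpSemi Cfsg.Agent.Lib.Helper16.OSemi

universe u

section
variable {F : Type u} [Field F] {n : ℕ}

/-- the Gram matrix of the polar form of a non-degenerate quadratic form. -/
theorem exists_gram (Q : QuadraticForm F (Fin n → F)) (hQ : (QuadraticMap.polarBilin Q).Nondegenerate) :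
    ∃ U : GL (Fin n) F, (U : Matrix (Fin n) (Fin n) F)ᵀ = U ∧
      ∀ u v, bilM (U : Matrix (Fin n) (Fin n) F) u v = QuadraticMap.polar Q u v := by
  set M : Matrix (Fin n) (Fin n) F := LinearMap.BilinForm.toMatrix' (QuadraticMap.polarBilin Q) with hM
  have hbil : ∀ u v, bilM M u v = QuadraticMap.polar Q u v := by
    intro u v
    unfold bilM
    rw [hM, ← Matrix.toBilin'_apply', Matrix.toBilin'_toMatrix', QuadraticMap.polarBilin_apply_apply]
  have hsymm : Mᵀ = M := by
    ext i j
    rw [Matrix.transpose_apply, hM, LinearMap.BilinForm.toMatrix'_apply, LinearMap.BilinForm.toMatrix'_apply,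
      QuadraticMap.polarBilin_apply_apply, QuadraticMap.polarBilin_apply_apply, QuadraticMap.polar_comm]
  have hinj : Function.Injective M.mulVec := by
    intro v v' hvv
    have h0 : ∀ z, M.mulVec z = 0 → z = 0 := by
      intro z hz
      apply hQ.2 z
      intro u
      rw [QuadraticMap.polarBilin_apply_apply, ← hbil]
      unfold bilM
      rw [hz, dotProduct_zero]
    have := h0 (v - v') (by rw [Matrix.mulVec_sub, hvv, sub_self])
    exact sub_eq_zero.mp this
  obtain ⟨U, hU⟩ := Matrix.mulVec_injective_iff_isUnit.mp hinj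
  refine ⟨U, ?_, ?_⟩
  · rw [hU]; exact hsymm
  · rw [hU]; exact hbil

theorem exists_zeta [Finite F] : ∃ ζ : F, ∀ t : F, t ^ 2 + t + ζ ≠ 0 := by
  have hni : ¬ Function.Injective (fun t : F => t ^ 2 + t) := by
    intro hinj
    have h1 : (fun t : F => t ^ 2 + t) 0 = (fun t : F => t ^ 2 + t) (-1) := by
      simp
    have := hinj h1
    have h2 : (1 : F) = 0 := by
      have := congrArg (fun x => -x) this
      simpa using this.symm
    exact one_ne_zero h2
  have hns : ¬ Function.Surjective (fun t : F => t ^ 2 + t) := fun hs => hni (Finite.injective_iff_surjective.mpr hs)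
  rw [Function.Surjective] at hns
  push Not at hns
  obtain ⟨w, hw⟩ := hns
  refine ⟨-w, fun t ht => hw t ?_⟩
  show t ^ 2 + t = w
  linear_combination ht

theorem graph_order_two (hn : 3 ≤ n) (U : GL (Fin n) F) (c : Fˣ)
    (hU : (U : Matrix (Fin n) (Fin n) F)ᵀ = (c : F) • (U : Matrix (Fin n) (Fin n) F)) :
    orderOf (Phi n F U⁻¹ * iota n F) = 2 := by
  have : Fact (Nat.Prime 2) := ⟨Nat.prime_two⟩
  apply orderOf_eq_prime
  · rw [pow_two, graph_sq_eq_one_iff, inv_inv]
    exact ⟨c, hU⟩
  · intro h1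
    have h2 : iota n F = Phi n F U := by
      rw [mul_eq_one_iff_eq_inv', ← map_inv, inv_inv] at h1
      exact h1
    exact iota_ne_Phi hn U h2

theorem graph_isGraphAut (hn : 3 ≤ n) (g : GL (Fin n) F) : Cfsg.IsGraphAutClassPSL (Phi n F g * iota n F) :=
  ⟨hn, Phi n F g, iota n F, (isInnerDiag_iff _).mpr ⟨g, rfl⟩, (isInvTranspose_iff _).mpr rfl, rfl⟩

theorem graph_of_isGraphAut (γ : MulAut (Matrix.ProjectiveSpecialLinearGroup (Fin n) F))
    (h : Cfsg.IsGraphAutClassPSL γ) : ∃ U : GL (Fin n) F, γ = Phi n F U⁻¹ * iota n F := by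
  obtain ⟨-, δ, ι', hδ, hι', rfl⟩ := h
  obtain ⟨g, rfl⟩ := (isInnerDiag_iff δ).mp hδ
  rw [(isInvTranspose_iff ι').mp hι']
  exact ⟨g⁻¹, by rw [inv_inv]⟩

theorem symm_alt_zero (h2 : (2 : F) ≠ 0) (M : Matrix (Fin n) (Fin n) F) (hM : Mᵀ = M)
    (halt : ∀ v, bilM M v v = 0) : M = 0 := by
  apply gram_ext
  intro u v
  have h1 := halt (u + v)
  rw [bilM_add_left, bilM_add_right, bilM_add_right, halt u, halt v, bilM_symm M hM v u] at h1
  have h3 : 2 * bilM M u v = 0 := by linear_combination h1
  have h4 := (mul_eq_zero.mp h3).resolve_left h2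
  rw [h4]
  unfold bilM
  rw [Matrix.zero_mulVec, dotProduct_zero]

theorem transpose_scalar_cases (U : GL (Fin n) F) (hn : 1 ≤ n) (c : Fˣ)
    (hU : (U : Matrix (Fin n) (Fin n) F)ᵀ = (c : F) • (U : Matrix (Fin n) (Fin n) F)) :
    (c : F) = 1 ∨ (c : F) = -1 := by
  have h1 : (U : Matrix (Fin n) (Fin n) F) = ((c : F) * (c : F)) • (U : Matrix (Fin n) (Fin n) F) := by
    have := congrArg Matrix.transpose hU
    rw [Matrix.transpose_transpose, Matrix.transpose_smul, hU, smul_smul] at this
    exact this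
  have hne : (U : Matrix (Fin n) (Fin n) F) ≠ 0 := by
    intro h0
    have h3 := gl_mul_inv U
    rw [h0, Matrix.zero_mul] at h3
    have : Nonempty (Fin n) := ⟨⟨0, by omega⟩⟩
    exact zero_ne_one h3
  have h2 : ((c : F) * (c : F) - 1) • (U : Matrix (Fin n) (Fin n) F) = 0 := by
    rw [sub_smul, one_smul, ← h1, sub_self]
  rcases smul_eq_zero.mp h2 with h | h
  · have h3 : ((c : F) - 1) * ((c : F) + 1) = 0 := by linear_combination h
    rcases mul_eq_zero.mp h3 with h4 | h4
    · left; exact sub_eq_zero.mp h4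
    · right; exact eq_neg_of_add_eq_zero_left h4
  · exact absurd h hne

theorem isType_smul [Fintype F] {W : Type*} (f : W → F) (c : F) (hc : c ≠ 0) (m : ℕ) (s : ℤ) :
    IsType (fun w => c * f w) m s ↔ IsType f m s := by
  unfold IsType
  have : cnt (fun w => c * f w) 0 = cnt f 0 := by
    unfold cnt
    apply Nat.card_congr
    apply Equiv.subtypeEquivRight
    intro w
    constructor
    · intro h; exact (mul_eq_zero.mp h).resolve_left hc
    · intro h; show c * f w = 0; rw [h, mul_zero]
  rw [this]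

end

end Cfsg.Agent.Lib.Helper16.PG
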