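import Mathlib
import Cfsg.Prelude.Def_LieTypeDatum
import Cfsg.Agent.Lib.Helper16.PG11
import Cfsg.Agent.Lib.Helper16.SpSemi2
import Cfsg.Agent.Lib.Helper16.Symplectic

set_option autoImplicit false
set_option linter.unusedSectionVars false

namespace Cfsg.Agent.Lib.Helper16.PG

open Matrix Module Cfsg.Agent.Lib.Helper16.SpSemi Cfsg.Agent.Lib.Helper16.OSemi

universe u

section
variable {F : Type u} [Field F] {n : ℕ}

/-- Lemma A: symplectic Gram data. -/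
theorem sympl_data {m : ℕ} (T : (Fin n → F) ≃ₗ[F] (Fin m ⊕ Fin m → F)) :
    ∃ U : GL (Fin n) F, (∀ u v, bilM (U : Matrix (Fin n) (Fin n) F) u v = Cfsg.sympForm m F (T u) (T v)) ∧
      (U : Matrix (Fin n) (Fin n) F)ᵀ = ((-1 : Fˣ) : F) • (U : Matrix (Fin n) (Fin n) F) := by
  have hJ : IsUnit (Matrix.J (Fin m) F) :=
    ⟨⟨Matrix.J (Fin m) F, -Matrix.J (Fin m) F, by rw [Matrix.mul_neg, Matrix.J_squared, neg_neg],
      by rw [Matrix.neg_mul, Matrix.J_squared, neg_neg]⟩, rfl⟩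
  obtain ⟨U, hU⟩ := isUnit_pullM T (Matrix.J (Fin m) F) hJ
  refine ⟨U, ?_, ?_⟩
  · intro u v
    rw [hU, bilM_pullM]
    rfl
  · rw [hU, pullM_transpose, Matrix.J_transpose]
    unfold pullM
    rw [Matrix.mul_neg, Matrix.neg_mul, Units.val_neg, Units.val_one, neg_smul, one_smul]

/-- Lemma B: quadratic Gram data. -/
theorem quad_data {ι : Type} [Fintype ι] [DecidableEq ι] (Q₀ : QuadraticForm F (ι → F))
    (hQ₀ : (QuadraticMap.polarBilin Q₀).Nondegenerate) (T : (Fin n → F) ≃ₗ[F] (ι → F)) :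
    ∃ U : GL (Fin n) F, (U : Matrix (Fin n) (Fin n) F)ᵀ = U ∧
      ∀ u v, bilM (U : Matrix (Fin n) (Fin n) F) u v = QuadraticMap.polar Q₀ (T u) (T v) := by
  set Q : QuadraticForm F (Fin n → F) := Q₀.comp T.toLinearMap with hQ
  have hQapp : ∀ v, Q₀ (T v) = Q v := fun v => rfl
  have hnd := nondeg_of_equiv Q₀ Q T hQapp hQ₀
  obtain ⟨U, hsymm, hU⟩ := exists_gram Q hnd
  refine ⟨U, hsymm, ?_⟩
  intro u v
  rw [hU, polar_of_equiv (⇑Q₀) (⇑Q) T hQapp]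

/-- Lemma C: the centraliser for a symmetric Gram matrix. -/
theorem cent_quad {ι : Type} [Fintype ι] [DecidableEq ι] (h2 : (2 : F) ≠ 0) (Q₀ : QuadraticForm F (ι → F))
    (T : (Fin n → F) ≃ₗ[F] (ι → F)) (U : GL (Fin n) F) (hsymm : (U : Matrix (Fin n) (Fin n) F)ᵀ = U)
    (hU : ∀ u v, bilM (U : Matrix (Fin n) (Fin n) F) u v = QuadraticMap.polar Q₀ (T u) (T v)) :
    Nonempty (↥(Cfsg.inndiagPSL n F ⊓ Subgroup.centralizer {Phi n F U⁻¹ * iota n F}) ≃* Cfsg.PGO F (⇑Q₀)) := by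
  obtain ⟨e0⟩ := cent_graph_equiv (U⁻¹ : GL (Fin n) F)
  rw [inv_inv, bilSim_eq_quadSim h2 _ hsymm] at e0
  obtain ⟨e1⟩ := pgo_congr (fun v => gramQ (U : Matrix (Fin n) (Fin n) F) v) (⇑Q₀) T.symm 2 h2 (by
    intro w
    show gramQ (U : Matrix (Fin n) (Fin n) F) (T.symm w) = 2 * Q₀ w
    rw [gramQ_apply, hU, LinearEquiv.apply_symm_apply, QuadraticMap.polar_self, nsmul_eq_mul]
    norm_num)
  exact ⟨e0.trans e1⟩

/-- Lemma D: the centraliser for the symplectic Gram matrix. -/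
theorem cent_sympl {m : ℕ} (T : (Fin n → F) ≃ₗ[F] (Fin m ⊕ Fin m → F)) (U : GL (Fin n) F)
    (hU : ∀ u v, bilM (U : Matrix (Fin n) (Fin n) F) u v = Cfsg.sympForm m F (T u) (T v)) :
    Nonempty (↥(Cfsg.inndiagPSL n F ⊓ Subgroup.centralizer {Phi n F U⁻¹ * iota n F}) ≃* Cfsg.PGSp m F) := by
  obtain ⟨e0⟩ := cent_graph_equiv (U⁻¹ : GL (Fin n) F)
  rw [inv_inv] at e0
  obtain ⟨e1⟩ := bilSim_congr (bilM (U : Matrix (Fin n) (Fin n) F)) (Cfsg.sympForm m F) T.symm 1 one_ne_zero (by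
    intro u v
    rw [hU, LinearEquiv.apply_symm_apply, LinearEquiv.apply_symm_apply, one_mul])
  exact ⟨e0.trans e1⟩

/-- Lemma E: alternating and symmetric Gram matrices are not similar. -/
theorem not_conj_alt_symm (h2 : (2 : F) ≠ 0) (hn : 1 ≤ n) (U U' : GL (Fin n) F)
    (halt : ∀ v, bilM (U : Matrix (Fin n) (Fin n) F) v v = 0)
    (hsymm : (U' : Matrix (Fin n) (Fin n) F)ᵀ = U') :
    ¬ Cfsg.IsConjUnder (Cfsg.inndiagPSL n F) (Phi n F U⁻¹ * iota n F) (Phi n F U'⁻¹ * iota n F) := by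
  intro h
  obtain ⟨k, c, hk⟩ := bil_equiv_of_conj U U' h
  have h0 : (U' : Matrix (Fin n) (Fin n) F) = 0 := by
    apply symm_alt_zero h2 _ hsymm
    intro v
    rw [hk, halt, mul_zero]
  have h3 := gl_mul_inv U'
  rw [h0, Matrix.zero_mul] at h3
  have : Nonempty (Fin n) := ⟨⟨0, by omega⟩⟩
  exact zero_ne_one h3

/-- the action of an invertible matrix as an equivalence. -/
noncomputable def glEquiv (k : GL (Fin n) F) : (Fin n → F) ≃ (Fin n → F) where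
  toFun v := (k : Matrix (Fin n) (Fin n) F) *ᵥ v
  invFun v := ((k⁻¹ : GL (Fin n) F) : Matrix (Fin n) (Fin n) F) *ᵥ v
  left_inv v := by
    show ((k⁻¹ : GL (Fin n) F) : Matrix (Fin n) (Fin n) F) *ᵥ ((k : Matrix (Fin n) (Fin n) F) *ᵥ v) = v
    rw [Matrix.mulVec_mulVec, gl_inv_mul, Matrix.one_mulVec]
  right_inv v := by
    show (k : Matrix (Fin n) (Fin n) F) *ᵥ (((k⁻¹ : GL (Fin n) F) : Matrix (Fin n) (Fin n) F) *ᵥ v) = v
    rw [Matrix.mulVec_mulVec, gl_mul_inv, Matrix.one_mulVec]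

/-- Lemma F: plus and minus type Gram matrices are not similar. -/
theorem not_conj_plus_minus [Fintype F] (h2 : (2 : F) ≠ 0) {m : ℕ} (hm : 1 ≤ m) (a b : F)
    (hab : ∀ z₁ z₂ : F, z₁ ^ 2 + a * z₁ * z₂ + b * z₂ ^ 2 = 0 → z₁ = 0 ∧ z₂ = 0)
    (T₂ : (Fin n → F) ≃ₗ[F] (Fin m ⊕ Fin m → F))
    (T₃ : (Fin n → F) ≃ₗ[F] ((Fin (m - 1) ⊕ Fin (m - 1)) ⊕ Fin 2 → F)) (U₂ U₃ : GL (Fin n) F)
    (hU₂ : ∀ u v, bilM (U₂ : Matrix (Fin n) (Fin n) F) u v = QuadraticMap.polar (qfPlus m F) (T₂ u) (T₂ v))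
    (hU₃ : ∀ u v, bilM (U₃ : Matrix (Fin n) (Fin n) F) u v =
      QuadraticMap.polar (qfMinus (m - 1) F a b) (T₃ u) (T₃ v)) :
    ¬ Cfsg.IsConjUnder (Cfsg.inndiagPSL n F) (Phi n F U₂⁻¹ * iota n F) (Phi n F U₃⁻¹ * iota n F) := by
  intro h
  obtain ⟨k, c, hk⟩ := bil_equiv_of_conj U₂ U₃ h
  have key : ∀ v, Cfsg.quadFormMinus (m - 1) F a b (T₃ v) =
      (c : F) * Cfsg.quadFormPlus m F (T₂ ((k : Matrix (Fin n) (Fin n) F) *ᵥ v)) := by
    intro v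
    have h1 := hk v v
    rw [hU₂, hU₃, QuadraticMap.polar_self, QuadraticMap.polar_self, nsmul_eq_mul, nsmul_eq_mul] at h1
    have h3 : (2 : F) * qfMinus (m - 1) F a b (T₃ v) =
        2 * ((c : F) * qfPlus m F (T₂ ((k : Matrix (Fin n) (Fin n) F) *ᵥ v))) := by
      have : ((2 : ℕ) : F) = 2 := by norm_num
      rw [this] at h1
      linear_combination h1
    exact mul_left_cancel₀ h2 h3
  let e : ((Fin (m - 1) ⊕ Fin (m - 1)) ⊕ Fin 2 → F) ≃ (Fin m ⊕ Fin m → F) :=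
    (T₃.symm.toEquiv.trans (glEquiv k)).trans T₂.toEquiv
  have he : ∀ w, (fun w' => (c : F) * Cfsg.quadFormPlus m F w') (e w) = Cfsg.quadFormMinus (m - 1) F a b w := by
    intro w
    have := key (T₃.symm w)
    rw [LinearEquiv.apply_symm_apply] at this
    rw [this]
    rfl
  have h1 : IsType (fun w' => (c : F) * Cfsg.quadFormPlus m F w') m 1 :=
    (isType_smul _ _ c.ne_zero m 1).mpr (isType_plus m)
  have h3 : IsType (Cfsg.quadFormMinus (m - 1) F a b) m 1 := (isType_congr e _ _ he m 1).mp h1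
  have h4 := isType_minus (m - 1) a b hab
  rw [show m - 1 + 1 = m by omega] at h4
  exact isType_unique _ m h3 h4

end

end Cfsg.Agent.Lib.Helper16.PG
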