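import Mathlib
import Cfsg.Prelude.Def_LieTypeDatum
import Cfsg.Agent.Lib.Helper16.PG12

set_option autoImplicit false
set_option linter.unusedSectionVars false

namespace Cfsg.Agent.Lib.Helper16.PG

open Matrix Module Cfsg.Agent.Lib.Helper16.SpSemi Cfsg.Agent.Lib.Helper16.OSemi

universe u

section
variable {F : Type u} [Field F] {n : ℕ}

/-- Lemma G: a symmetric Gram matrix is similar to the plus or the minus one. -/
theorem conj_symm_cases [Fintype F] (h2 : (2 : F) ≠ 0) {m : ℕ} (hm : 1 ≤ m) (hnm : n = 2 * m) (a b : F)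
    (hab : ∀ z₁ z₂ : F, z₁ ^ 2 + a * z₁ * z₂ + b * z₂ ^ 2 = 0 → z₁ = 0 ∧ z₂ = 0)
    (T₂ : (Fin n → F) ≃ₗ[F] (Fin m ⊕ Fin m → F))
    (T₃ : (Fin n → F) ≃ₗ[F] ((Fin (m - 1) ⊕ Fin (m - 1)) ⊕ Fin 2 → F)) (U₂ U₃ : GL (Fin n) F)
    (hU₂ : ∀ u v, bilM (U₂ : Matrix (Fin n) (Fin n) F) u v = QuadraticMap.polar (qfPlus m F) (T₂ u) (T₂ v))
    (hU₃ : ∀ u v, bilM (U₃ : Matrix (Fin n) (Fin n) F) u v =
      QuadraticMap.polar (qfMinus (m - 1) F a b) (T₃ u) (T₃ v))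
    (U : GL (Fin n) F) (hsymm : (U : Matrix (Fin n) (Fin n) F)ᵀ = U) :
    Cfsg.IsConjUnder (Cfsg.inndiagPSL n F) (Phi n F U₂⁻¹ * iota n F) (Phi n F U⁻¹ * iota n F) ∨
    Cfsg.IsConjUnder (Cfsg.inndiagPSL n F) (Phi n F U₃⁻¹ * iota n F) (Phi n F U⁻¹ * iota n F) := by
  have hnd := gramQ_nondeg h2 (U : Matrix (Fin n) (Fin n) F) hsymm ⟨U, rfl⟩
  have hcard : Fintype.card (Fin n) = 2 * m := by rw [Fintype.card_fin, hnm]
  have hhalf : ((2⁻¹ : F)) * 2 = 1 := inv_mul_cancel₀ h2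
  rcases classify hm hcard (gramQ (U : Matrix (Fin n) (Fin n) F)) hnd with ⟨Φ', hΦ'⟩ | ⟨ζ', hζ', Φ', hΦ'⟩
  · left
    refine conj_of_bil_equiv U₂ U (Φ'.symm.trans T₂.symm) (Units.mk0 (2⁻¹ : F) (inv_ne_zero h2)) ?_
    intro u v
    rw [hU₂, Units.val_mk0]
    show _ = 2⁻¹ * QuadraticMap.polar (qfPlus m F) (T₂ (T₂.symm (Φ'.symm u))) (T₂ (T₂.symm (Φ'.symm v)))
    rw [LinearEquiv.apply_symm_apply, LinearEquiv.apply_symm_apply]
    have h3 := polar_of_equiv (fun v => gramQ (U : Matrix (Fin n) (Fin n) F) v) (Cfsg.quadFormPlus m F) Φ' hΦ'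
      (Φ'.symm u) (Φ'.symm v)
    rw [LinearEquiv.apply_symm_apply, LinearEquiv.apply_symm_apply] at h3
    have h4 : QuadraticMap.polar (qfPlus m F) (Φ'.symm u) (Φ'.symm v) =
        QuadraticMap.polar (gramQ (U : Matrix (Fin n) (Fin n) F)) u v := h3
    rw [h4, gramQ_polar _ hsymm, ← mul_assoc, hhalf, one_mul]
  · right
    obtain ⟨Ψ, hΨ⟩ := minus_change (m - 1) 1 ζ' a b (aniso_of_irred ζ' hζ') hab
    refine conj_of_bil_equiv U₃ U ((Φ'.symm.trans Ψ).trans T₃.symm) (Units.mk0 (2⁻¹ : F) (inv_ne_zero h2)) ?_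
    intro u v
    rw [hU₃, Units.val_mk0]
    show _ = 2⁻¹ * QuadraticMap.polar (qfMinus (m - 1) F a b) (T₃ (T₃.symm (Ψ (Φ'.symm u))))
      (T₃ (T₃.symm (Ψ (Φ'.symm v))))
    rw [LinearEquiv.apply_symm_apply, LinearEquiv.apply_symm_apply]
    have h3 := polar_of_equiv (fun v => gramQ (U : Matrix (Fin n) (Fin n) F) v)
      (Cfsg.quadFormMinus (m - 1) F 1 ζ') Φ' hΦ' (Φ'.symm u) (Φ'.symm v)
    rw [LinearEquiv.apply_symm_apply, LinearEquiv.apply_symm_apply] at h3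
    have h5 := polar_of_equiv (Cfsg.quadFormMinus (m - 1) F a b) (Cfsg.quadFormMinus (m - 1) F 1 ζ') Ψ hΨ
      (Φ'.symm u) (Φ'.symm v)
    have h4 : QuadraticMap.polar (qfMinus (m - 1) F a b) (Ψ (Φ'.symm u)) (Ψ (Φ'.symm v)) =
        QuadraticMap.polar (gramQ (U : Matrix (Fin n) (Fin n) F)) u v := by
      rw [← h3, h5]
      rfl
    rw [h4, gramQ_polar _ hsymm, ← mul_assoc, hhalf, one_mul]

/-- Lemma H: an alternating Gram matrix is similar to the symplectic one. -/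
theorem conj_alt {m : ℕ} (hnm : n = 2 * m)
    (T₂ : (Fin n → F) ≃ₗ[F] (Fin m ⊕ Fin m → F)) (U₁ : GL (Fin n) F)
    (hU₁ : ∀ u v, bilM (U₁ : Matrix (Fin n) (Fin n) F) u v = Cfsg.sympForm m F (T₂ u) (T₂ v))
    (U : GL (Fin n) F) (halt : ∀ v, bilM (U : Matrix (Fin n) (Fin n) F) v v = 0) :
    Cfsg.IsConjUnder (Cfsg.inndiagPSL n F) (Phi n F U₁⁻¹ * iota n F) (Phi n F U⁻¹ * iota n F) := by
  set ω : LinearMap.BilinForm F (Fin n → F) := Matrix.toBilin' (U : Matrix (Fin n) (Fin n) F) with hω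
  have hωapp : ∀ u v, ω u v = bilM (U : Matrix (Fin n) (Fin n) F) u v := by
    intro u v
    rw [hω, Matrix.toBilin'_apply']
    rfl
  have hωalt : ω.IsAlt := by
    intro v
    rw [hωapp]; exact halt v
  have hleft : ∀ u, (∀ v, ω u v = 0) → u = 0 := by
    intro u hu
    have h3 : Matrix.vecMul u (U : Matrix (Fin n) (Fin n) F) = 0 := by
      funext j
      have := hu (Pi.single j 1)
      rw [hωapp] at this
      unfold bilM at this
      rw [Matrix.dotProduct_mulVec] at this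
      simpa using this
    have h4 : Matrix.vecMul (Matrix.vecMul u (U : Matrix (Fin n) (Fin n) F))
        ((U⁻¹ : GL (Fin n) F) : Matrix (Fin n) (Fin n) F) = 0 := by
      rw [h3, Matrix.zero_vecMul]
    rw [Matrix.vecMul_vecMul, gl_mul_inv, Matrix.vecMul_one] at h4
    exact h4
  have hωnd : ω.Nondegenerate := by
    refine ⟨hleft, ?_⟩
    intro v hv
    apply hleft
    intro u
    rw [← hωalt.neg_eq, hv u, neg_zero]
  have hV : finrank F (Fin n → F) = 2 * m := by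
    rw [Module.finrank_pi, Fintype.card_fin, hnm]
  obtain ⟨b, hb⟩ := symplectic_basis hV ω hωalt hωnd
  refine conj_of_bil_equiv U₁ U (b.equivFun.trans T₂.symm) 1 ?_
  intro u v
  rw [hU₁, Units.val_one, one_mul]
  show _ = Cfsg.sympForm m F (T₂ (T₂.symm (b.equivFun u))) (T₂ (T₂.symm (b.equivFun v)))
  rw [LinearEquiv.apply_symm_apply, LinearEquiv.apply_symm_apply, ← hωapp,
    LinearMap.BilinForm.apply_eq_dotProduct_toMatrix_mulVec b ω u v, hb]
  rfl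

end

end Cfsg.Agent.Lib.Helper16.PG
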