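import Mathlib
import Cfsg.Prelude.Def_LieTypeDatum
import Cfsg.Agent.Lib.Helper16.PG13
import Cfsg.Agent.Lib.Helper16.SpinG2
import Cfsg.Agent.S2618

set_option autoImplicit false
set_option linter.unusedSectionVars false
set_option linter.unusedVariables false

namespace Cfsg.Agent.Lib.Helper16.PG

open Matrix Module Cfsg.Agent.Lib.Helper16.SpSemi

universe u v

/-- a non-degenerate alternating form lives in even dimension. -/
theorem alt_even_finrank {F : Type u} [Field F] : ∀ (k : ℕ) {V : Type v} [AddCommGroup V] [Module F V]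
    [FiniteDimensional F V], finrank F V = k → ∀ ω : LinearMap.BilinForm F V, ω.IsAlt → ω.Nondegenerate →
    Even k := by
  intro k
  induction k using Nat.strong_induction_on with
  | _ k ih =>
    intro V _ _ _ hV ω hω hnd
    rcases Nat.eq_zero_or_pos k with h0 | hpos
    · rw [h0]; exact Even.zero
    · have hnt : Nontrivial V := Module.nontrivial_of_finrank_pos (R := F) (by omega)
      obtain ⟨e₀, he₀⟩ := exists_ne (0 : V)
      have : ∃ f₁ : V, ω e₀ f₁ ≠ 0 := by
        by_contra hcon
        push Not at hcon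
        exact he₀ (hnd.1 e₀ hcon)
      obtain ⟨f₁, hf₁⟩ := this
      obtain ⟨f₀, hef⟩ : ∃ f₀ : V, ω e₀ f₀ = 1 := by
        refine ⟨(ω e₀ f₁)⁻¹ • f₁, ?_⟩
        rw [map_smul, smul_eq_mul, inv_mul_cancel₀ hf₁]
      have hfr := Cfsg.Agent.Lib.Helper16.finrank_altPerp ω hω hef
      have hnd' := Cfsg.Agent.Lib.Helper16.altPerp_nondeg ω hω hnd hef
      have hω' : (ω.restrict (Cfsg.Agent.Lib.Helper16.altPerp ω e₀ f₀)).IsAlt := fun x => hω (x : V)
      have h2 : finrank F (Cfsg.Agent.Lib.Helper16.altPerp ω e₀ f₀) = k - 2 := by omega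
      have h3 := ih (k - 2) (by omega) h2 (ω.restrict (Cfsg.Agent.Lib.Helper16.altPerp ω e₀ f₀)) hω' hnd'
      have h4 : k = (k - 2) + 2 := by omega
      rw [h4]
      exact h3.add even_two

section
variable {F : Type u} [Field F] {n : ℕ}

theorem bilM_left_nondeg (U : GL (Fin n) F) (u : Fin n → F)
    (hu : ∀ v, bilM (U : Matrix (Fin n) (Fin n) F) u v = 0) : u = 0 := by
  have h3 : Matrix.vecMul u (U : Matrix (Fin n) (Fin n) F) = 0 := by
    funext j
    have := hu (Pi.single j 1)
    unfold bilM at this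
    rw [Matrix.dotProduct_mulVec] at this
    simpa using this
  have h4 : Matrix.vecMul (Matrix.vecMul u (U : Matrix (Fin n) (Fin n) F))
      ((U⁻¹ : GL (Fin n) F) : Matrix (Fin n) (Fin n) F) = 0 := by
    rw [h3, Matrix.zero_vecMul]
  rw [Matrix.vecMul_vecMul, gl_mul_inv, Matrix.vecMul_one] at h4
  exact h4

theorem bilM_right_nondeg (U : GL (Fin n) F) (v : Fin n → F)
    (hv : ∀ u, bilM (U : Matrix (Fin n) (Fin n) F) u v = 0) : v = 0 := by
  have h3 : (U : Matrix (Fin n) (Fin n) F) *ᵥ v = 0 := by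
    funext j
    have := hv (Pi.single j 1)
    unfold bilM at this
    simpa using this
  have h4 : ((U⁻¹ : GL (Fin n) F) : Matrix (Fin n) (Fin n) F) *ᵥ ((U : Matrix (Fin n) (Fin n) F) *ᵥ v) = 0 := by
    rw [h3, Matrix.mulVec_zero]
  rw [Matrix.mulVec_mulVec, gl_inv_mul, Matrix.one_mulVec] at h4
  exact h4

/-- in odd dimension an invertible Gram matrix is not alternating. -/
theorem nonalt_of_odd_dim (hn : Odd n) (U : GL (Fin n) F) :
    ∃ v, bilM (U : Matrix (Fin n) (Fin n) F) v v ≠ 0 := by
  by_contra hcon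
  push Not at hcon
  set ω : LinearMap.BilinForm F (Fin n → F) := Matrix.toBilin' (U : Matrix (Fin n) (Fin n) F) with hω
  have hωapp : ∀ u v, ω u v = bilM (U : Matrix (Fin n) (Fin n) F) u v := by
    intro u v
    rw [hω, Matrix.toBilin'_apply']
    rfl
  have hωalt : ω.IsAlt := by
    intro v
    rw [hωapp]; exact hcon v
  have hωnd : ω.Nondegenerate := by
    refine ⟨?_, ?_⟩
    · intro u hu
      apply bilM_left_nondeg U u
      intro v; rw [← hωapp]; exact hu v
    · intro v hv
      apply bilM_right_nondeg U v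
      intro u; rw [← hωapp]; exact hv u
  have hV : finrank F (Fin n → F) = n := by
    rw [Module.finrank_pi, Fintype.card_fin]
  have := alt_even_finrank n hV ω hωalt hωnd
  exact (Nat.not_even_iff_odd.mpr hn) this

/-- an involutory graph automorphism in odd dimension has a symmetric Gram matrix. -/
theorem graph_symm_of_odd (hn : Odd n) (U : GL (Fin n) F)
    (hsq : (Phi n F U⁻¹ * iota n F) * (Phi n F U⁻¹ * iota n F) = 1) :
    (U : Matrix (Fin n) (Fin n) F)ᵀ = U := by
  rw [graph_sq_eq_one_iff, inv_inv] at hsq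
  obtain ⟨c, hc⟩ := hsq
  have hn1 : 1 ≤ n := hn.pos
  rcases transpose_scalar_cases U hn1 c hc with h1 | h1
  · rw [hc, h1, one_smul]
  · by_cases h2 : (2 : F) = 0
    · have h5 : (-1 : F) = 1 := by linear_combination (-1 : F) * h2
      rw [hc, h1, h5, one_smul]
    exfalso
    obtain ⟨v, hv⟩ := nonalt_of_odd_dim hn U
    have h3 : bilM (U : Matrix (Fin n) (Fin n) F) v v = - bilM (U : Matrix (Fin n) (Fin n) F) v v := by
      have h4 : bilM ((U : Matrix (Fin n) (Fin n) F)ᵀ) v v = bilM (U : Matrix (Fin n) (Fin n) F) v v := by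
        unfold bilM
        rw [Matrix.mulVec_transpose, Matrix.dotProduct_mulVec, dotProduct_comm]
      rw [hc, h1] at h4
      unfold bilM at h4 ⊢
      rw [Matrix.smul_mulVec, dotProduct_smul, smul_eq_mul] at h4
      linear_combination -h4
    apply hv
    have : 2 * bilM (U : Matrix (Fin n) (Fin n) F) v v = 0 := by linear_combination h3
    exact (mul_eq_zero.mp this).resolve_left h2

end

end Cfsg.Agent.Lib.Helper16.PG
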