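import Cfsg.Agent.Lib.Helper16.SPA8

set_option autoImplicit false
set_option linter.unusedSectionVars false
set_option linter.unusedVariables false

namespace Cfsg.Agent.Lib.Helper16.SPA

open Matrix Cfsg.Agent.Lib.helper6 Cfsg.Agent.Lib.helper6.SB Cfsg.Agent.Lib.Helper26

universe u
variable {F : Type u} [Field F] {m : ℕ}

theorem XComm_map (α : MulAut (Cfsg.PSp m F)) {x y x' y' : Fin m ⊕ Fin m → F}
    (hx : (Xb x).map α.toMonoidHom = Xb x') (hy : (Xb y).map α.toMonoidHom = Xb y') :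
    XComm x' y' ↔ XComm x y := by
  constructor
  · intro h a ha b hb
    have h1 := h (α a) (by rw [← hx]; exact Subgroup.mem_map_of_mem _ ha)
      (α b) (by rw [← hy]; exact Subgroup.mem_map_of_mem _ hb)
    apply α.injective
    rw [map_mul, map_mul, h1]
  · intro h a ha b hb
    rw [← hx] at ha
    rw [← hy] at hb
    obtain ⟨a0, ha0, rfl⟩ := ha
    obtain ⟨b0, hb0, rfl⟩ := hb
    show α a0 * α b0 = α b0 * α a0
    rw [← map_mul, ← map_mul, h a0 ha0 b0 hb0]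

theorem perp_iff_of_map (hm : 1 ≤ m) (α : MulAut (Cfsg.PSp m F)) {x y x' y' : Fin m ⊕ Fin m → F}
    (hx : (Xb x).map α.toMonoidHom = Xb x') (hy : (Xb y).map α.toMonoidHom = Xb y') :
    Cfsg.sympForm m F x' y' = 0 ↔ Cfsg.sympForm m F x y = 0 := by
  rw [← XComm_iff hm, ← XComm_iff hm]
  exact XComm_map α hx hy

/-- the matrix with prescribed columns. -/
def colMat (c : Fin m ⊕ Fin m → (Fin m ⊕ Fin m → F)) : Matrix (Fin m ⊕ Fin m) (Fin m ⊕ Fin m) F :=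
  Matrix.of fun a k => c k a

theorem colMat_bV (c : Fin m ⊕ Fin m → (Fin m ⊕ Fin m → F)) (k : Fin m ⊕ Fin m) :
    colMat c *ᵥ (bV k : Fin m ⊕ Fin m → F) = c k := by
  funext a
  rw [mulVec_bV]
  rfl

theorem colMat_mem (c : Fin m ⊕ Fin m → (Fin m ⊕ Fin m → F))
    (h : ∀ k l, Cfsg.sympForm m F (c k) (c l) = Cfsg.sympForm m F (bV k : Fin m ⊕ Fin m → F) (bV l)) :
    colMat c ∈ Matrix.symplecticGroup (Fin m) F := by
  rw [SymplecticGroup.mem_iff']
  ext k l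
  rw [Cfsg.Agent.Lib.Lead.gram_apply, Cfsg.Agent.Lib.Lead.sympB_apply]
  have h1 := h k l
  unfold Cfsg.sympForm at h1
  have h2 : (fun i => colMat c i k) = c k := rfl
  have h3 : (fun i => colMat c i l) = c l := rfl
  rw [h2, h3, h1]
  unfold bV
  rw [Matrix.mulVec_single_one]
  simp

/-- a diagonal element of `GL`. -/
noncomputable def diagGL (lam : Fin m ⊕ Fin m → F) (h : ∀ k, lam k ≠ 0) : GL (Fin m ⊕ Fin m) F :=
  Matrix.GeneralLinearGroup.mkOfDetNeZero (Matrix.diagonal lam) (by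
    rw [Matrix.det_diagonal]
    exact Finset.prod_ne_zero_iff.mpr (fun k _ => h k))

theorem diagGL_mulVec (lam : Fin m ⊕ Fin m → F) (h : ∀ k, lam k ≠ 0) (v : Fin m ⊕ Fin m → F) :
    (diagGL lam h : Matrix (Fin m ⊕ Fin m) (Fin m ⊕ Fin m) F) *ᵥ v = fun k => lam k * v k := by
  funext k
  show (Matrix.diagonal lam *ᵥ v) k = _
  rw [Matrix.mulVec_diagonal]

theorem diagGL_sim (lam : Fin m ⊕ Fin m → F) (h : ∀ k, lam k ≠ 0) (μ : F)
    (hμ : ∀ k, lam k * lam (Sum.swap k) = μ) (u v : Fin m ⊕ Fin m → F) :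
    Cfsg.sympForm m F ((diagGL lam h : Matrix (Fin m ⊕ Fin m) (Fin m ⊕ Fin m) F) *ᵥ u)
      ((diagGL lam h : Matrix (Fin m ⊕ Fin m) (Fin m ⊕ Fin m) F) *ᵥ v) = μ * Cfsg.sympForm m F u v := by
  rw [diagGL_mulVec, diagGL_mulVec, sympForm_eq_sum_eps, sympForm_eq_sum_eps, Finset.mul_sum]
  apply Finset.sum_congr rfl
  intro j _
  rw [← hμ j]
  ring

theorem diagGL_mem (lam : Fin m ⊕ Fin m → F) (h : ∀ k, lam k ≠ 0) (μ : F) (hμ0 : μ ≠ 0)
    (hμ : ∀ k, lam k * lam (Sum.swap k) = μ) : diagGL lam h ∈ Cfsg.GSp m F :=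
  ⟨Units.mk0 μ hμ0, fun u v => diagGL_sim lam h μ hμ u v⟩

/-- an element of `Sp` as an element of `GL`. -/
def spGL' (s : ↥(Matrix.symplecticGroup (Fin m) F)) : GL (Fin m ⊕ Fin m) F where
  val := s.1
  inv := (s⁻¹ : ↥(Matrix.symplecticGroup (Fin m) F)).1
  val_inv := by
    have := congrArg Subtype.val (mul_inv_cancel s)
    exact this
  inv_val := by
    have := congrArg Subtype.val (inv_mul_cancel s)
    exact this

theorem spGL'_mem (s : ↥(Matrix.symplecticGroup (Fin m) F)) : spGL' s ∈ Cfsg.GSp m F :=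
  ⟨1, fun u v => by
    rw [Units.val_one, one_mul]
    exact sp_form s u v⟩

theorem conj_mul_liftP (g₀ : ↥(Matrix.symplecticGroup (Fin m) F)) (g : GL (Fin m ⊕ Fin m) F)
    (hg : g ∈ Cfsg.GSp m F) (σ : F ≃+* F) :
    MulAut.conj (mkP m F g₀) * liftP (iotaSp g hg σ) =
      liftP (iotaSp (spGL' g₀ * g) (mul_mem (spGL'_mem g₀) hg) σ) := by
  apply MulEquiv.ext
  intro y
  obtain ⟨s, rfl⟩ := mkP_surjective y
  show (MulAut.conj (mkP m F g₀)) (liftP (iotaSp g hg σ) (mkP m F s)) = _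
  rw [liftP_mk, liftP_mk, MulAut.conj_apply, ← map_inv, ← map_mul, ← map_mul]
  congr 1
  apply Subtype.ext
  show g₀.1 * (iotaSp g hg σ s).1 * (g₀⁻¹ : ↥(Matrix.symplecticGroup (Fin m) F)).1 = _
  rw [iotaSp_val, iotaSp_val, _root_.mul_inv_rev]
  show g₀.1 * (_ * _ * _) * (g₀⁻¹ : ↥(Matrix.symplecticGroup (Fin m) F)).1 =
    (g₀.1 * (g : Matrix (Fin m ⊕ Fin m) (Fin m ⊕ Fin m) F)) * _ *
    (((g⁻¹ : GL (Fin m ⊕ Fin m) F) : Matrix (Fin m ⊕ Fin m) (Fin m ⊕ Fin m) F) *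
      (g₀⁻¹ : ↥(Matrix.symplecticGroup (Fin m) F)).1)
  simp only [Matrix.mul_assoc]


variable [Fintype F]

omit [Fintype F] in
theorem sympForm_e_f' (i : Fin m) :
    Cfsg.sympForm m F (bV (Sum.inl i) : Fin m ⊕ Fin m → F) (bV (Sum.inr i)) = -1 := by
  rw [sympForm_bV_bV]; simp [eps]

theorem exists_frame_sp (hm : 2 ≤ m) (α : MulAut (Cfsg.PSp m F)) (hα : PermX α) :
    ∃ g₀ : ↥(Matrix.symplecticGroup (Fin m) F), ∀ k : Fin m ⊕ Fin m,
      (Xb (bV k : Fin m ⊕ Fin m → F)).map α.toMonoidHom = Xb (g₀.1 *ᵥ bV k) := by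
  choose c hc0 hc using fun k : Fin m ⊕ Fin m => hα (bV k) (bV_ne_zero k)
  have hperp : ∀ k l, Cfsg.sympForm m F (c k) (c l) = 0 ↔
      Cfsg.sympForm m F (bV k : Fin m ⊕ Fin m → F) (bV l) = 0 :=
    fun k l => perp_iff_of_map (by omega) α (hc k) (hc l)
  have hnz : ∀ i : Fin m, Cfsg.sympForm m F (c (Sum.inr i)) (c (Sum.inl i)) ≠ 0 := by
    intro i h
    have := (hperp _ _).mp h
    rw [sympForm_f_e] at this
    exact one_ne_zero this
  let scal : Fin m ⊕ Fin m → F := fun k =>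
    Sum.elim (fun _ => 1) (fun i => (Cfsg.sympForm m F (c (Sum.inr i)) (c (Sum.inl i)))⁻¹) k
  have hscal0 : ∀ k, scal k ≠ 0 := by
    intro k
    rcases k with i | i
    · exact one_ne_zero
    · exact inv_ne_zero (hnz i)
  let c' : Fin m ⊕ Fin m → (Fin m ⊕ Fin m → F) := fun k => scal k • c k
  have h : ∀ k l, Cfsg.sympForm m F (c' k) (c' l) =
      Cfsg.sympForm m F (bV k : Fin m ⊕ Fin m → F) (bV l) := by
    intro k l
    show Cfsg.sympForm m F (scal k • c k) (scal l • c l) = _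
    rw [sympForm_smul_left, sympForm_smul_right]
    by_cases h0 : Cfsg.sympForm m F (bV k : Fin m ⊕ Fin m → F) (bV l) = 0
    · rw [h0, (hperp k l).mpr h0, mul_zero, mul_zero]
    · have hkl : k = Sum.swap l := by
        by_contra hne
        apply h0
        rw [sympForm_bV_bV, if_neg hne]
      subst hkl
      rcases l with i | i
      · show (Cfsg.sympForm m F (c (Sum.inr i)) (c (Sum.inl i)))⁻¹ *
          (1 * Cfsg.sympForm m F (c (Sum.inr i)) (c (Sum.inl i))) = _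
        rw [one_mul, inv_mul_cancel₀ (hnz i)]
        exact (sympForm_f_e i).symm
      · show 1 * ((Cfsg.sympForm m F (c (Sum.inr i)) (c (Sum.inl i)))⁻¹ *
          Cfsg.sympForm m F (c (Sum.inl i)) (c (Sum.inr i))) = _
        rw [one_mul, sympForm_swap (m := m) (c (Sum.inl i)) (c (Sum.inr i)), mul_neg,
          inv_mul_cancel₀ (hnz i)]
        exact (sympForm_e_f' i).symm
  refine ⟨⟨colMat c', colMat_mem c' h⟩, fun k => ?_⟩
  show _ = Xb (colMat c' *ᵥ bV k)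
  rw [colMat_bV, hc k]
  exact (Xb_smul (c k) (hscal0 k)).symm

theorem aut_eq_iota (p : ℕ) [Fact p.Prime] [CharP F p] (hm : 2 ≤ m) (h4 : m = 2 → p ≠ 2)
    (α : MulAut (Cfsg.PSp m F)) :
    ∃ (g : GL (Fin m ⊕ Fin m) F) (hg : g ∈ Cfsg.GSp m F) (σ : F ≃+* F),
      α = liftP (iotaSp g hg σ) := by
  classical
  obtain ⟨g₀, hg₀⟩ := exists_frame_sp hm α (permX_all p hm h4 α)
  obtain ⟨α₁, hα₁def⟩ : ∃ α₁ : MulAut (Cfsg.PSp m F), α₁ = (MulAut.conj (mkP m F g₀))⁻¹ * α := ⟨_, rfl⟩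
  have hα₁ := permX_all p hm h4 α₁
  have hinv : (MulAut.conj (mkP m F g₀))⁻¹ = MulAut.conj (mkP m F g₀⁻¹) := by
    rw [← map_inv, ← map_inv]
  have hframe : ∀ k : Fin m ⊕ Fin m,
      (Xb (bV k : Fin m ⊕ Fin m → F)).map α₁.toMonoidHom = Xb (bV k) := by
    intro k
    have : (Xb (bV k : Fin m ⊕ Fin m → F)).map α₁.toMonoidHom =
        ((Xb (bV k : Fin m ⊕ Fin m → F)).map α.toMonoidHom).map
          (MulAut.conj (mkP m F g₀⁻¹)).toMonoidHom := by
      rw [Subgroup.map_map, hα₁def, hinv]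
      rfl
    rw [this, hg₀ k, Xb_conj, sp_inv_mulVec]
  let φ : (Fin m ⊕ Fin m → F) → (Fin m ⊕ Fin m → F) := fun x =>
    if hx : x = 0 then 0 else Classical.choose (hα₁ x hx)
  have hφ_spec : ∀ x, x ≠ 0 → φ x ≠ 0 ∧ (Xb x).map α₁.toMonoidHom = Xb (φ x) := by
    intro x hx
    have := Classical.choose_spec (hα₁ x hx)
    simp only [φ, dif_neg hx]
    exact this
  have hpm : PolarMap φ := by
    refine ⟨fun x hx => (hφ_spec x hx).1, fun x y hx hy => ?_, fun k => ?_⟩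
    · exact perp_iff_of_map (by omega) α₁ (hφ_spec x hx).2 (hφ_spec y hy).2
    · apply par_of_Xb_eq hm (bV_ne_zero k) (hφ_spec _ (bV_ne_zero k)).1
      rw [← (hφ_spec _ (bV_ne_zero k)).2, hframe k]
  obtain ⟨σ, lam, μ, hμ0, hlam, hμ, hdesc⟩ := hpm.exists_semilinear hm
  have hg₁ := diagGL_mem lam hlam μ hμ0 hμ
  have hι : ∀ x : Fin m ⊕ Fin m → F, x ≠ 0 →
      (Xb x).map (liftP (iotaSp (diagGL lam hlam) hg₁ σ)).toMonoidHom = (Xb x).map α₁.toMonoidHom := by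
    intro x hx
    rw [Xb_map_liftP, diagGL_mulVec, (hφ_spec x hx).2]
    exact Xb_eq_of_par (hdesc x hx)
  have hβ : (liftP (iotaSp (diagGL lam hlam) hg₁ σ))⁻¹ * α₁ = 1 := by
    apply eq_one_of_fix_Xb hm
    intro x hx
    have : (Xb x).map ((liftP (iotaSp (diagGL lam hlam) hg₁ σ))⁻¹ * α₁).toMonoidHom =
        ((Xb x).map α₁.toMonoidHom).map ((liftP (iotaSp (diagGL lam hlam) hg₁ σ))⁻¹).toMonoidHom := by
      rw [Subgroup.map_map]
      rfl
    rw [this, ← hι x hx, Subgroup.map_map]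
    have h2 : ((liftP (iotaSp (diagGL lam hlam) hg₁ σ))⁻¹).toMonoidHom.comp
        (liftP (iotaSp (diagGL lam hlam) hg₁ σ)).toMonoidHom = MonoidHom.id _ := by
      apply MonoidHom.ext
      intro z
      show (liftP (iotaSp (diagGL lam hlam) hg₁ σ))⁻¹ ((liftP (iotaSp (diagGL lam hlam) hg₁ σ)) z) = z
      exact MulEquiv.symm_apply_apply _ z
    rw [h2, Subgroup.map_id]
  have h5 : α₁ = liftP (iotaSp (diagGL lam hlam) hg₁ σ) := by
    have := congrArg (fun x => liftP (iotaSp (diagGL lam hlam) hg₁ σ) * x) hβ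
    simpa using this
  refine ⟨spGL' g₀ * diagGL lam hlam, mul_mem (spGL'_mem g₀) hg₁, σ, ?_⟩
  rw [← conj_mul_liftP g₀ (diagGL lam hlam) hg₁ σ, ← h5, hα₁def]
  group

end Cfsg.Agent.Lib.Helper16.SPA
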