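import Mathlib
import Cfsg.Agent.Lib.Helper11.UNS.Defs
import Cfsg.Agent.Lib.Helper9.UNSW1
import Cfsg.Agent.Lib.Helper20.UNSW4
import Cfsg.Agent.Lib.helper4.UNSE0

/-!
Project UNS (S2316), row G2 (`mono_mem_subN`), verbatim vs `Helper11/UNS/Skel.lean.txt`.
Copy of `mono_mem_closure_aux` (SpBNg) with `BP J` carried along.
-/

set_option autoImplicit false

namespace Cfsg.Agent.Lib.Helper11.UNS

open Matrix Cfsg.Agent.Lib.helper14.SpBN Cfsg.Agent.Lib.helper3 Cfsg.Agent.Lib.helper14
  Cfsg.Agent.Lib.Helper5.UNI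

universe u

variable {F : Type u} [Field F] {m : ℕ}

theorem unsg2_aux (hm : 0 < m) (J : Finset ℕ) : ∀ d : ℕ,
    ∀ (n : ↥(Matrix.symplecticGroup (Fin m) F)) (π : Equiv.Perm (Fin m ⊕ Fin m)),
      SwC π → IsMono n.1 π → BP J π → (gbound m - gphi π).toNat < d →
      n ∈ subN (spBN (F := F) hm) (sigmaS m F '' (J : Set ℕ)) := by
  intro d
  induction d with
  | zero => intro n π _ _ _ h; exact absurd h (Nat.not_lt_zero _)
  | succ d ih =>
    intro n π hπ hn hbp hd
    by_cases hall : ∀ k : Fin m, k.val ∈ J → rk (π.symm (pa k)) < rk (π.symm (pc k))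
    · have h1 : π.symm = 1 :=
        perm_one_of_simple_J J π.symm (SwC_inv hπ) (BP_inv J hbp) hall
      have h2 : π = 1 := by
        have := congrArg Equiv.symm h1
        rwa [Equiv.symm_symm] at this
      rw [h2] at hn
      exact Subgroup.mem_sup_right ((mem_Tsp_iff n).2 hn)
    · push Not at hall
      obtain ⟨k, hkJ, hk⟩ := hall
      have hne : rk (π.symm (pc k)) ≠ rk (π.symm (pa k)) := by
        intro e
        exact pa_ne_pc k (π.symm.injective (rk_injective e)).symm
      have hneg : rk (π.symm (pc k)) < rk (π.symm (pa k)) := lt_of_le_of_ne hk hne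
      have hlt := gphi_lt k π hπ hneg
      have hle := gphi_le (tauS k * π)
      have hmono : IsMono (sRef (F := F) k * n).1 (tauS k * π) := by
        rw [coe_mul']
        exact isMono_mul (isMono_sRef k) hn
      have hmeas : (gbound m - gphi (tauS k * π)).toNat < d := by omega
      have h3 := ih (sRef k * n) (tauS k * π) (SwC_mul (SwC_tauS k) hπ) hmono
        (BP_mul J (BP_tauS J k hkJ) hbp) hmeas
      have h4 : sRef (F := F) k ∈ subN (spBN (F := F) hm) (sigmaS m F '' (J : Set ℕ)) := by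
        apply Subgroup.mem_sup_left
        apply Subgroup.subset_closure
        exact ⟨k.val, hkJ, sigmaS_eq k⟩
      have e : n = (sRef (F := F) k)⁻¹ * (sRef k * n) := by group
      rw [e]
      exact Subgroup.mul_mem _ (Subgroup.inv_mem _ h4) h3

/-- G2. -/
theorem mono_mem_subN (hm : 0 < m) (J : Finset ℕ) (n : ↥(Matrix.symplecticGroup (Fin m) F))
    (π : Equiv.Perm (Fin m ⊕ Fin m)) (h1 : SwC π) (h2 : IsMono n.1 π) (h3 : BP J π) :
    n ∈ subN (spBN (F := F) hm) (sigmaS m F '' (J : Set ℕ)) :=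
  unsg2_aux hm J _ n π h1 h2 h3 (Nat.lt_succ_self _)

end Cfsg.Agent.Lib.Helper11.UNS
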