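import Cfsg.Agent.Lib.Helper16.SPA2

set_option autoImplicit false
set_option linter.unusedSectionVars false
set_option linter.unusedVariables false

namespace Cfsg.Agent.Lib.Helper16.SPA

open Matrix Cfsg.Agent.Lib.helper6 Cfsg.Agent.Lib.helper6.SB Cfsg.Agent.Lib.Helper26
open Cfsg.Agent.Lib.Helper16.AP (Zs mem_Zs_iff map_Zs)

universe u
variable {F : Type u} [Field F] [Fintype F] {m : ℕ}

/-- the action of `Sp` on vectors. -/
@[reducible] def spAct (m : ℕ) (F : Type u) [Field F] :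
    MulAction ↥(Matrix.symplecticGroup (Fin m) F) (Fin m ⊕ Fin m → F) where
  smul g v := g.1 *ᵥ v
  one_smul v := sp_one_mulVec v
  mul_smul g h v := sp_mul_mulVec g h v

theorem exists_fixed_vector (p : ℕ) [Fact p.Prime] [CharP F p] (hm : 1 ≤ m)
    (P : Subgroup ↥(Matrix.symplecticGroup (Fin m) F)) (hP : IsPGroup p ↥P) :
    ∃ v : Fin m ⊕ Fin m → F, v ≠ 0 ∧ ∀ g ∈ P, g.1 *ᵥ v = v := by
  classical
  let _ := spAct m F
  obtain ⟨f, hp, hF⟩ := FiniteField.card F p
  have hcard : p ∣ Nat.card (Fin m ⊕ Fin m → F) := by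
    rw [Nat.card_eq_fintype_card, Fintype.card_fun, hF, Fintype.card_sum, Fintype.card_fin, ← pow_mul]
    apply dvd_pow_self
    have : 0 < (f : ℕ) := f.pos
    have : 0 < (f : ℕ) * (m + m) := Nat.mul_pos this (by omega)
    omega
  have h0 : (0 : Fin m ⊕ Fin m → F) ∈ MulAction.fixedPoints ↥P (Fin m ⊕ Fin m → F) := by
    intro g
    show (g : ↥(Matrix.symplecticGroup (Fin m) F)).1 *ᵥ (0 : Fin m ⊕ Fin m → F) = 0
    exact Matrix.mulVec_zero _
  obtain ⟨v, hv, hv0⟩ := hP.exists_fixed_point_of_prime_dvd_card_of_fixed_point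
    (Fin m ⊕ Fin m → F) hcard h0
  refine ⟨v, fun h => hv0 h.symm, fun g hg => ?_⟩
  exact hv ⟨g, hg⟩

omit [Fintype F] in
theorem sympForm_f_e (i : Fin m) :
    Cfsg.sympForm m F (bV (Sum.inr i) : Fin m ⊕ Fin m → F) (bV (Sum.inl i)) = 1 := by
  rw [sympForm_bV_bV]
  simp [eps]

theorem fixed_by_Usp (hm : 1 ≤ m) (v : Fin m ⊕ Fin m → F)
    (hv : ∀ g ∈ Usp m F, g.1 *ᵥ v = v) :
    v = v (Sum.inl ⟨0, hm⟩) • bV (Sum.inl ⟨0, hm⟩) := by
  have h1 : ∀ i : Fin m, v (Sum.inr i) = 0 := by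
    intro i
    have := hv _ (spT_e_mem_Usp i 1)
    rw [spT_mulVec, add_eq_left, one_mul, sympForm_bV_right] at this
    rcases smul_eq_zero.mp this with h | h
    · simpa [eps] using h
    · exact absurd h (bV_ne_zero _)
  have h2 : ∀ j : Fin m, (⟨0, hm⟩ : Fin m) < j → v (Sum.inl j) = 0 := by
    intro j hj
    have := hv _ (sR_e_f_mem_Usp ⟨0, hm⟩ j hj 1)
    rw [sR_mulVec (sympForm_e_f _ _ (ne_of_lt hj)), add_eq_left, one_smul] at this
    have h3 := congrFun this (Sum.inl ⟨0, hm⟩)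
    simp only [Pi.add_apply, Pi.smul_apply, bV_apply, smul_eq_mul, reduceCtorEq, if_false, mul_zero,
      zero_add, if_true, mul_one, Pi.zero_apply] at h3
    rw [sympForm_bV_right] at h3
    simpa [eps] using h3
  funext a
  rcases a with i | i
  · by_cases hi : i = ⟨0, hm⟩
    · subst hi
      simp [bV_apply]
    · have : (⟨0, hm⟩ : Fin m) < i := by
        rw [Fin.lt_def]
        have : (i : ℕ) ≠ 0 := fun h => hi (Fin.ext h)
        show 0 < (i : ℕ)
        omega
      rw [h2 i this]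
      simp [bV_apply, hi]
  · rw [h1]
    simp [bV_apply]

theorem sylow_fix_e0 (p : ℕ) [Fact p.Prime] [CharP F p] (hm : 1 ≤ m)
    (P : Sylow p ↥(Matrix.symplecticGroup (Fin m) F)) (hU : Usp m F ≤ P) :
    ∀ g ∈ P, g.1 *ᵥ (bV (Sum.inl ⟨0, hm⟩) : Fin m ⊕ Fin m → F) = bV (Sum.inl ⟨0, hm⟩) := by
  obtain ⟨v, hv0, hv⟩ := exists_fixed_vector p hm P.toSubgroup P.2
  have h1 := fixed_by_Usp hm v (fun g hg => hv g (hU hg))
  have hc : v (Sum.inl ⟨0, hm⟩) ≠ 0 := by
    intro h
    rw [h, zero_smul] at h1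
    exact hv0 h1
  intro g hg
  have h2 := hv g hg
  rw [h1, Matrix.mulVec_smul] at h2
  exact smul_right_injective _ hc h2

omit [Fintype F] in
theorem spRoot_isPGroup (p : ℕ) [Fact p.Prime] [CharP F p] (q : Fin m ⊕ Fin m → F) :
    IsPGroup p ↥(spRoot q) := by
  intro g
  refine ⟨1, ?_⟩
  obtain ⟨g, c, rfl⟩ := g
  apply Subtype.ext
  rw [Subgroup.coe_pow, Subgroup.coe_one, pow_one]
  have : ∀ k : ℕ, (spT m q c) ^ k = spT m q (k * c) := by
    intro k
    induction k with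
    | zero => rw [pow_zero, Nat.cast_zero, zero_mul, spT_zero]
    | succ k ih => rw [pow_succ, ih, spT_mul]; congr 1; push_cast; ring
  rw [this, CharP.cast_eq_zero, zero_mul, spT_zero]

theorem spRoot_le_sylow (p : ℕ) [Fact p.Prime] [CharP F p] (hm : 1 ≤ m)
    (P : Sylow p ↥(Matrix.symplecticGroup (Fin m) F)) (hU : Usp m F ≤ P) :
    spRoot (bV (Sum.inl ⟨0, hm⟩) : Fin m ⊕ Fin m → F) ≤ P := by
  have hfix := sylow_fix_e0 p hm P hU
  have hfix' : ∀ g ∈ P, (g⁻¹ : ↥(Matrix.symplecticGroup (Fin m) F)).1 *ᵥ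
      (bV (Sum.inl ⟨0, hm⟩) : Fin m ⊕ Fin m → F) = bV (Sum.inl ⟨0, hm⟩) :=
    fun g hg => hfix _ (inv_mem hg)
  have hnorm : (P : Subgroup ↥(Matrix.symplecticGroup (Fin m) F)) ≤
      Subgroup.normalizer (spRoot (bV (Sum.inl ⟨0, hm⟩) : Fin m ⊕ Fin m → F) : Set _) := by
    intro g hg
    rw [Subgroup.mem_normalizer_iff]
    intro h
    constructor
    · rintro ⟨c, rfl⟩
      exact ⟨c, by rw [spT_conj, hfix g hg]⟩
    · rintro ⟨c, hc⟩
      refine ⟨c, ?_⟩
      have : h = g⁻¹ * (g * h * g⁻¹) * g⁻¹⁻¹ := by group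
      rw [this, hc, spT_conj, hfix' g hg]
  have hQ := IsPGroup.to_sup_of_normal_right' P.2 (spRoot_isPGroup p _) hnorm
  have := P.3 hQ le_sup_left
  rw [← this]
  exact le_sup_right

theorem spRoot_le_Zs (p : ℕ) [Fact p.Prime] [CharP F p] (hm : 1 ≤ m)
    (P : Sylow p ↥(Matrix.symplecticGroup (Fin m) F)) (hU : Usp m F ≤ P) :
    spRoot (bV (Sum.inl ⟨0, hm⟩) : Fin m ⊕ Fin m → F) ≤
      Zs (P : Subgroup ↥(Matrix.symplecticGroup (Fin m) F)) := by
  intro t ht
  rw [mem_Zs_iff]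
  refine ⟨spRoot_le_sylow p hm P hU ht, fun g hg => ?_⟩
  obtain ⟨c, rfl⟩ := ht
  have := spT_conj g (bV (Sum.inl ⟨0, hm⟩) : Fin m ⊕ Fin m → F) c
  rw [sylow_fix_e0 p hm P hU g hg] at this
  have h2 : g * spT m (bV (Sum.inl ⟨0, hm⟩) : Fin m ⊕ Fin m → F) c =
      (g * spT m (bV (Sum.inl ⟨0, hm⟩) : Fin m ⊕ Fin m → F) c * g⁻¹) * g := by group
  rw [h2, this]


section central
omit [Fintype F]

/-- structure of an element commuting with the test elements and fixing `e₀`. -/
theorem central_form (hm : 2 ≤ m) (z : ↥(Matrix.symplecticGroup (Fin m) F))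
    (h0 : z.1 *ᵥ (bV (Sum.inl ⟨0, by omega⟩) : Fin m ⊕ Fin m → F) = bV (Sum.inl ⟨0, by omega⟩))
    (hT : ∀ i : Fin m, z * spT m (bV (Sum.inl i) : Fin m ⊕ Fin m → F) 1 =
      spT m (bV (Sum.inl i) : Fin m ⊕ Fin m → F) 1 * z)
    (hS : ∀ i j : Fin m, i < j → z * sR (bV (Sum.inl i) : Fin m ⊕ Fin m → F) (bV (Sum.inr j)) 1 =
      sR (bV (Sum.inl i) : Fin m ⊕ Fin m → F) (bV (Sum.inr j)) 1 * z) :
    ∃ a b : F, (2 : F) * b = 0 ∧
      z = spT m (bV (Sum.inl ⟨0, by omega⟩) : Fin m ⊕ Fin m → F) a *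
        sR (bV (Sum.inl ⟨0, by omega⟩) : Fin m ⊕ Fin m → F) (bV (Sum.inl ⟨1, by omega⟩)) b := by
  set i0 : Fin m := ⟨0, by omega⟩ with hi0
  set i1 : Fin m := ⟨1, by omega⟩ with hi1
  have h01 : i0 < i1 := by rw [Fin.lt_def]; show (0 : ℕ) < 1; omega
  have h01' : i0 ≠ i1 := ne_of_lt h01
  -- Step 1
  have step1 : ∀ i : Fin m, ∃ l : F, z.1 *ᵥ (bV (Sum.inl i) : Fin m ⊕ Fin m → F) = l • bV (Sum.inl i) := by
    intro i
    have h1 : spT m (z.1 *ᵥ (bV (Sum.inl i) : Fin m ⊕ Fin m → F)) 1 = spT m (bV (Sum.inl i)) 1 := by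
      rw [← spT_conj, hT i]; group
    have h2 := congrArg (fun g : ↥(Matrix.symplecticGroup (Fin m) F) =>
      g.1 *ᵥ (bV (Sum.inr i) : Fin m ⊕ Fin m → F)) h1
    simp only [spT_mulVec, one_mul, sympForm_f_e, one_smul] at h2
    have h3 := add_left_cancel h2
    set μ := Cfsg.sympForm m F (bV (Sum.inr i) : Fin m ⊕ Fin m → F) (z.1 *ᵥ bV (Sum.inl i)) with hμ
    have hμ0 : μ ≠ 0 := by
      intro h
      rw [h, zero_smul] at h3
      exact bV_ne_zero _ h3.symm
    refine ⟨μ⁻¹, ?_⟩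
    calc z.1 *ᵥ (bV (Sum.inl i) : Fin m ⊕ Fin m → F)
        = μ⁻¹ • (μ • z.1 *ᵥ (bV (Sum.inl i) : Fin m ⊕ Fin m → F)) := by
          rw [smul_smul, inv_mul_cancel₀ hμ0, one_smul]
      _ = μ⁻¹ • bV (Sum.inl i) := by rw [h3]
  -- Step 2
  have hfix : ∀ j : Fin m, z.1 *ᵥ (bV (Sum.inl j) : Fin m ⊕ Fin m → F) = bV (Sum.inl j) := by
    intro j
    by_cases hj : j = i0
    · rw [hj]; exact h0
    have h0j : i0 < j := by
      rw [Fin.lt_def]
      have : (j : ℕ) ≠ 0 := fun h => hj (Fin.ext h)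
      show 0 < (j : ℕ)
      omega
    obtain ⟨l, hl⟩ := step1 j
    have h1 := congrArg (fun g : ↥(Matrix.symplecticGroup (Fin m) F) =>
      g.1 *ᵥ (bV (Sum.inl j) : Fin m ⊕ Fin m → F)) (hS i0 j h0j)
    simp only [sp_mul_mulVec] at h1
    rw [sR_e_f_bV i0 j (ne_of_lt h0j), if_pos rfl, one_smul, Matrix.mulVec_sub, hl, h0,
      Matrix.mulVec_smul, sR_e_f_bV i0 j (ne_of_lt h0j), if_pos rfl, one_smul] at h1
    have h2 := congrFun h1 (Sum.inl i0)
    simp only [Pi.sub_apply, Pi.smul_apply, bV_apply, smul_eq_mul, if_true] at h2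
    have hne : ¬ (Sum.inl i0 : Fin m ⊕ Fin m) = Sum.inl j := fun h => hj (Sum.inl.inj h).symm
    rw [if_neg hne] at h2
    have : l = 1 := by linear_combination h2
    rw [hl, this, one_smul]
  -- Step 3
  have hinr : ∀ (x : Fin m ⊕ Fin m → F) (j : Fin m), (z.1 *ᵥ x) (Sum.inr j) = x (Sum.inr j) :=
    fixE_inr z hfix
  -- Step 4
  set S : Fin m → Fin m → F := fun i j => z.1 (Sum.inl i) (Sum.inr j) with hS_def
  have hzf_inl : ∀ i j : Fin m, (z.1 *ᵥ (bV (Sum.inr j) : Fin m ⊕ Fin m → F)) (Sum.inl i) = S i j := by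
    intro i j
    rw [mulVec_bV]
  have hzf_inr : ∀ i j : Fin m, (z.1 *ᵥ (bV (Sum.inr j) : Fin m ⊕ Fin m → F)) (Sum.inr i) =
      if i = j then 1 else 0 := by
    intro i j
    rw [hinr, bV_apply]
    simp
  have hsymm : ∀ i j : Fin m, S i j = S j i := by
    intro i j
    have h1 := sp_form z (bV (Sum.inr i) : Fin m ⊕ Fin m → F) (bV (Sum.inr j))
    rw [sympForm_bV_bV, if_neg (by simp), sympForm_eq_sum] at h1
    simp only [hzf_inl, hzf_inr, ite_mul, one_mul, zero_mul, mul_ite, mul_one, mul_zero,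
      Finset.sum_sub_distrib, Finset.sum_ite_eq, Finset.sum_ite_eq', Finset.mem_univ, if_true] at h1
    linear_combination h1
  -- Step 5
  have step5 : ∀ i j : Fin m, i < j → ∀ k : Fin m, S k j = if k = i then - S j i else 0 := by
    intro i j hij k
    have h1 := congrArg (fun g : ↥(Matrix.symplecticGroup (Fin m) F) =>
      g.1 *ᵥ (bV (Sum.inr i) : Fin m ⊕ Fin m → F)) (hS i j hij)
    simp only [sp_mul_mulVec] at h1
    rw [sR_mulVec (sympForm_e_f i j (ne_of_lt hij)), sR_mulVec (sympForm_e_f i j (ne_of_lt hij)),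
      sympForm_f_e, sympForm_bV_bV, if_neg (by simp), one_smul, one_smul, zero_smul, add_zero,
      Matrix.mulVec_add, sympForm_bV_right, sympForm_bV_right] at h1
    have h2 := congrFun h1 (Sum.inl k)
    simp only [Pi.add_apply, Pi.smul_apply, smul_eq_mul, hzf_inl, Sum.swap_inl, Sum.swap_inr,
      hzf_inr, if_true, eps, Sum.elim_inl, Sum.elim_inr, bV_apply, reduceCtorEq, if_false,
      mul_zero, zero_add, one_mul, mul_one] at h2
    by_cases hk : k = i
    · rw [if_pos hk]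
      have : (Sum.inl k : Fin m ⊕ Fin m) = Sum.inl i := by rw [hk]
      rw [if_pos this] at h2
      linear_combination h2
    · rw [if_neg hk]
      have : ¬ (Sum.inl k : Fin m ⊕ Fin m) = Sum.inl i := fun h => hk (Sum.inl.inj h)
      rw [if_neg this] at h2
      linear_combination h2
  -- Step 6
  have hb2 : (2 : F) * S i0 i1 = 0 := by
    have := step5 i0 i1 h01 i0
    rw [if_pos rfl, hsymm i1 i0] at this
    linear_combination this
  refine ⟨S i0 i0, S i0 i1, hb2, ?_⟩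
  apply sp_ext_basis
  intro l
  have hee : ∀ a b : Fin m, Cfsg.sympForm m F (bV (Sum.inl a) : Fin m ⊕ Fin m → F) (bV (Sum.inl b)) = 0 := by
    intro a b
    rw [sympForm_bV_bV, if_neg (by simp)]
  rcases l with j | j
  · rw [hfix, sp_mul_mulVec, sR_mulVec (hee _ _), hee, hee, zero_smul, zero_smul, add_zero, smul_zero,
      add_zero, spT_mulVec, hee, mul_zero, zero_smul, add_zero]
  · rw [sp_mul_mulVec, sR_mulVec (hee _ _), spT_mulVec]
    funext a
    rcases a with k | k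
    · rw [hzf_inl]
      simp only [sympForm_add_left, sympForm_smul_left, sympForm_bV_bV, Sum.swap_inl, Sum.inr.injEq,
        Sum.swap_inr, reduceCtorEq, if_false, mul_zero, add_zero, Pi.add_apply, Pi.smul_apply,
        bV_apply, smul_eq_mul, Sum.inl.injEq, eps, Sum.elim_inl, zero_add]
      by_cases hj0 : j = i0
      · subst hj0
        rw [if_pos rfl, if_neg h01']
        by_cases hk0 : k = i0
        · subst hk0
          simp [h01']
        · by_cases hk1 : k = i1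
          · subst hk1
            rw [hsymm]
            simp [hk0]
          · have h0k : i0 < k := by
              rw [Fin.lt_def]
              have : (k : ℕ) ≠ 0 := fun h => hk0 (Fin.ext h)
              show 0 < (k : ℕ)
              omega
            have h1k : i1 < k := by
              rw [Fin.lt_def]
              have h1 : (k : ℕ) ≠ 0 := fun h => hk0 (Fin.ext h)
              have h2 : (k : ℕ) ≠ 1 := fun h => hk1 (Fin.ext h)
              show 1 < (k : ℕ)
              omega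
            rw [hsymm, step5 i1 k h1k i0, if_neg h01']
            simp [hk0, hk1]
      · have h0j : i0 < j := by
          rw [Fin.lt_def]
          have : (j : ℕ) ≠ 0 := fun h => hj0 (Fin.ext h)
          show 0 < (j : ℕ)
          omega
        rw [if_neg hj0]
        by_cases hj1 : j = i1
        · subst hj1
          rw [if_pos rfl]
          by_cases hk0 : k = i0
          · subst hk0
            simp
          · rw [step5 i0 i1 h01 k, if_neg hk0]
            simp [hk0]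
        · rw [if_neg hj1]
          have h1j : i1 < j := by
            rw [Fin.lt_def]
            have h1 : (j : ℕ) ≠ 0 := fun h => hj0 (Fin.ext h)
            have h2 : (j : ℕ) ≠ 1 := fun h => hj1 (Fin.ext h)
            show 1 < (j : ℕ)
            omega
          by_cases hk0 : k = i0
          · subst hk0
            rw [step5 i1 j h1j i0, if_neg h01']
            simp
          · rw [step5 i0 j h0j k, if_neg hk0]
            simp
    · rw [hzf_inr]
      simp only [sympForm_add_left, sympForm_smul_left, sympForm_bV_bV, Pi.add_apply, Pi.smul_apply,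
        bV_apply, smul_eq_mul, reduceCtorEq, if_false, mul_zero, add_zero]
      by_cases hkj : k = j
      · subst hkj; simp
      · have : ¬ (Sum.inr k : Fin m ⊕ Fin m) = Sum.inr j := fun h => hkj (Sum.inr.inj h)
        simp [hkj, this]

end central


theorem Zs_sylow_form (p : ℕ) [Fact p.Prime] [CharP F p] (hm : 2 ≤ m)
    (P : Sylow p ↥(Matrix.symplecticGroup (Fin m) F)) (hU : Usp m F ≤ P)
    (z : ↥(Matrix.symplecticGroup (Fin m) F))
    (hz : z ∈ Zs (P : Subgroup ↥(Matrix.symplecticGroup (Fin m) F))) :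
    ∃ a b : F, (2 : F) * b = 0 ∧
      z = spT m (bV (Sum.inl ⟨0, by omega⟩) : Fin m ⊕ Fin m → F) a *
        sR (bV (Sum.inl ⟨0, by omega⟩) : Fin m ⊕ Fin m → F) (bV (Sum.inl ⟨1, by omega⟩)) b := by
  rw [mem_Zs_iff] at hz
  apply central_form hm z
  · exact sylow_fix_e0 p (by omega) P hU z hz.1
  · intro i
    exact (hz.2 _ (hU (spT_e_mem_Usp i 1))).symm
  · intro i j hij
    exact (hz.2 _ (hU (sR_e_f_mem_Usp i j hij 1))).symm

end Cfsg.Agent.Lib.Helper16.SPA
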