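import Mathlib
import Cfsg.Prelude.Def_ChevStructure
import Cfsg.Agent.Lib.Helper12.INVE8.Defs
import Cfsg.Agent.Lib.Helper11.INVSTDN
import Cfsg.Agent.Lib.helper8.ChevCommDataE8

/-!
# Project INVE8 (S2176) : piece STDN
-/

set_option autoImplicit false
set_option linter.unusedVariables false

namespace Cfsg.Agent.Lib.Helper12.INVE8

open Cfsg.Lie Cfsg.Lie.ChevalleyDatum Cfsg.Agent.Lib.helper8 Cfsg.Agent.Lib.helper14
  Cfsg.Agent.Lib.helper14.INV

universe u

variable {F : Type u} [Field F]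

set_option maxRecDepth 100000 in
theorem e8stdn_chk : ∀ k < 9, invstdnListChk chevE8 (e8Std.getD k []) = true := by
  decide +kernel

/-- STDN : the standard involutions `∏ n_r(1)`, `r ∈ e8Std[k]`, lie in `N` and square to `1` -/
theorem e8_std_N [CharP F 2] (hB : H8Base.{u} chevE8) (k : ℕ) (hk : k < 9) :
    (n1 chevE8 hB (e8Std.getD k []) : GL chevE8.Idx F) ∈ chevE8.monomialSubgroup F ∧
    (n1 chevE8 hB (e8Std.getD k []) : GL chevE8.Idx F) * n1 chevE8 hB (e8Std.getD k []) = 1 := by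
  have hC := h8commAll_E8.{u}
  exact invstdn_list chevE8 hB hC _ (e8stdn_chk k hk)

end Cfsg.Agent.Lib.Helper12.INVE8
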