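import Mathlib
import Cfsg.Prelude.Def_ChevStructure
import Cfsg.Prelude.Def_ChevE8
import Cfsg.Agent.Lib.Helper12.INVE8.Defs
import Cfsg.Agent.Lib.Helper12.INVE8.CHK
import Cfsg.Agent.Lib.helper14.INVGT3
import Cfsg.Agent.Lib.helper8.ChevReflAll
import Cfsg.Agent.Lib.helper8.ChevUC7

/-!
# Project INVE8 (S2176) : piece NCORTH

An element of the Weyl group maps the `l + 1` pairwise orthogonal roots of the `l`-th representative to `l + 1`
pairwise distinct, pairwise orthogonal roots; `e8L[k]`, `k < l`, contains no `k + 2` such roots.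
-/

set_option autoImplicit false
set_option linter.unusedVariables false
set_option maxRecDepth 100000

namespace Cfsg.Agent.Lib.Helper12.INVE8

open Cfsg.Lie Cfsg.Lie.ChevalleyDatum Cfsg.Agent.Lib.helper8 Cfsg.Agent.Lib.helper14
  Cfsg.Agent.Lib.helper14.INV

theorem e8ncorth_mem : chevE8 ∈ [chevG2, chevB2, chevD4, chevF4, chevE6, chevE7, chevE8] := by simp

/-- `e8L[0]` contains no two distinct roots -/
theorem e8ncorth_L0 : ∀ x ∈ e8L.getD 0 [], ∀ y ∈ e8L.getD 0 [], x ≠ y → False := by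
  decide +kernel

/-- `e8L[1]` contains no three pairwise distinct, pairwise orthogonal roots -/
theorem e8ncorth_L1 : ∀ x ∈ e8L.getD 1 [], ∀ y ∈ e8L.getD 1 [], x ≠ y → gtIpL chevE8 x y = 0 →
    ∀ z ∈ e8L.getD 1 [], x ≠ z → y ≠ z → gtIpL chevE8 x z = 0 → gtIpL chevE8 y z = 0 →
    False := by
  decide +kernel

/-- `e8L[2]` contains no four pairwise distinct, pairwise orthogonal roots -/
theorem e8ncorth_L2 : ∀ x ∈ e8L.getD 2 [], ∀ y ∈ e8L.getD 2 [], x ≠ y → gtIpL chevE8 x y = 0 →
    ∀ z ∈ e8L.getD 2 [], x ≠ z → y ≠ z → gtIpL chevE8 x z = 0 → gtIpL chevE8 y z = 0 →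
    ∀ t ∈ e8L.getD 2 [], x ≠ t → y ≠ t → z ≠ t → gtIpL chevE8 x t = 0 → gtIpL chevE8 y t = 0 →
      gtIpL chevE8 z t = 0 → False := by
  decide +kernel

/-- the roots of the representatives are pairwise orthogonal -/
theorem e8ncorth_orth : ∀ j < 4, ∀ r ∈ e8Reps.getD j [], ∀ s ∈ e8Reps.getD j [], r ≠ s →
    gtIpL chevE8 r s = 0 := by
  decide +kernel

theorem e8ncorth_lt : ∀ j < 4, ∀ r ∈ e8Reps.getD j [], r < 240 := by decide

/-- the images of two distinct orthogonal roots are distinct and orthogonal -/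
theorem e8ncorth_img (w : List ℕ) (hw : ValidW chevE8 w) (r s : ℕ) (hr : r < 240) (hs : s < 240)
    (hne : r ≠ s) (ho : gtIpL chevE8 r s = 0) :
    h8sW chevE8 w r ≠ h8sW chevE8 w s ∧ gtIpL chevE8 (h8sW chevE8 w r) (h8sW chevE8 w s) = 0 := by
  have hA := h8reflAll chevE8 e8ncorth_mem
  constructor
  · intro h
    exact hne (h8sW_inj hA w hw r s hr hs h)
  · rw [gt_ipL_inv chevE8 hA e8chk_gt e8chk_sym w hw r s hr hs]
    exact ho

/-- NCORTH : no Weyl group element maps the `l` pairwise orthogonal roots of the `l`-th representative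
into `e8L[k]`, `k < l` (which contains no `k + 2` pairwise orthogonal roots) -/
theorem e8_nc_orth (k l : ℕ) (hkl : k < l) (hl : l < 4) (w : List ℕ) (hw : ValidW chevE8 w)
    (h : ∀ r ∈ e8Reps.getD l [], h8sW chevE8 w r ∈ e8L.getD k []) : False := by
  have key : ∀ r ∈ e8Reps.getD l [], ∀ s ∈ e8Reps.getD l [], r ≠ s →
      h8sW chevE8 w r ≠ h8sW chevE8 w s ∧
        gtIpL chevE8 (h8sW chevE8 w r) (h8sW chevE8 w s) = 0 := by
    intro r hr s hs hne
    exact e8ncorth_img w hw r s (e8ncorth_lt l hl r hr) (e8ncorth_lt l hl s hs) hne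
      (e8ncorth_orth l hl r hr s hs hne)
  interval_cases l
  · omega
  · -- `l = 1`
    interval_cases k
    obtain ⟨hne, _⟩ := key 232 (by decide) 233 (by decide) (by decide)
    exact e8ncorth_L0 _ (h 232 (by decide)) _ (h 233 (by decide)) hne
  · -- `l = 2`
    obtain ⟨n12, o12⟩ := key 228 (by decide) 222 (by decide) (by decide)
    obtain ⟨n13, o13⟩ := key 228 (by decide) 218 (by decide) (by decide)
    obtain ⟨n23, o23⟩ := key 222 (by decide) 218 (by decide) (by decide)
    interval_cases k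
    · exact e8ncorth_L0 _ (h 228 (by decide)) _ (h 222 (by decide)) n12
    · exact e8ncorth_L1 _ (h 228 (by decide)) _ (h 222 (by decide)) n12 o12 _
        (h 218 (by decide)) n13 n23 o13 o23
  · -- `l = 3`
    obtain ⟨n12, o12⟩ := key 226 (by decide) 220 (by decide) (by decide)
    obtain ⟨n13, o13⟩ := key 226 (by decide) 213 (by decide) (by decide)
    obtain ⟨n23, o23⟩ := key 220 (by decide) 213 (by decide) (by decide)
    obtain ⟨n14, o14⟩ := key 226 (by decide) 216 (by decide) (by decide)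
    obtain ⟨n24, o24⟩ := key 220 (by decide) 216 (by decide) (by decide)
    obtain ⟨n34, o34⟩ := key 213 (by decide) 216 (by decide) (by decide)
    interval_cases k
    · exact e8ncorth_L0 _ (h 226 (by decide)) _ (h 220 (by decide)) n12
    · exact e8ncorth_L1 _ (h 226 (by decide)) _ (h 220 (by decide)) n12 o12 _
        (h 213 (by decide)) n13 n23 o13 o23
    · exact e8ncorth_L2 _ (h 226 (by decide)) _ (h 220 (by decide)) n12 o12 _
        (h 213 (by decide)) n13 n23 o13 o23 _ (h 216 (by decide)) n14 n24 n34 o14 o24 o34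

end Cfsg.Agent.Lib.Helper12.INVE8
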