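import Mathlib
import Cfsg.Agent.Lib.helper15.St2
import Cfsg.Agent.Lib.helper3.STC.Defs
import Cfsg.Agent.Lib.helper3.STC.Defs2
import Cfsg.Agent.Lib.helper3.STC.Defs3
import Cfsg.Agent.Lib.Helper21.STCM.Vec
import Cfsg.Agent.Lib.Helper21.STCM.Weyl
import Cfsg.Agent.Lib.Helper21.STCM.Sys

/-!
Project STC (designer helper3; Skel4), row R5 `M_w_fst`, `M_w_snd`, `M_h_fst` (helper16): the matrices of the Weyl and torus elements
in a representation, on the basis vectors of their root.  Verbatim against `helper3/STC/Skel4.lean.txt`; only helper21's matrix library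
is cited; the facts of rows R1 / R3 which are used are proved under own names (`stcr5_*`), so the module waits for nothing.
-/

set_option autoImplicit false

namespace Cfsg.Agent.Lib.helper3.STC

open Cfsg.Agent.Lib.helper15.St2 Matrix

theorem stcr5_Em_ng {ι l : Type*} (e : ι ↪ l) (a : ι ⊕ ι) : Em e (ng a) = ng (Em e a) := by
  cases a <;> rfl

theorem stcr5_Em_inj {ι l : Type*} (e : ι ↪ l) : Function.Injective (Em e) := by
  intro a b h
  cases a <;> cases b <;> simp [Em] at h <;> simp [h]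

theorem stcr5_ng_ng {l : Type*} (a : l ⊕ l) : ng (ng a) = a := by cases a <;> rfl

theorem stcr5_single_smul {l : Type*} [DecidableEq l] {K : Type*} [Field K] (c : l ⊕ l) (r : K) :
    (Pi.single c r : l ⊕ l → K) = r • (ev c : l ⊕ l → K) := by
  ext d
  simp [ev, Pi.single_apply]

namespace SysC

namespace Rep

variable {K : Type*} [Field K] {ι : Type*} {G : Type*} [Group G] {S : SysC K ι G}
  {l : Type*} [Fintype l] [DecidableEq l] (R : S.Rep l)

theorem stcr5_M_mul (g g' : G) : R.M (g * g') = R.M g * R.M g' := by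
  unfold Rep.M
  rw [map_mul]
  rfl

theorem stcr5_M_x {a b : ι ⊕ ι} (hab : a ≠ b) (t : K) : R.M (S.x a b t) = Tm (Em R.e a) (Em R.e b) t :=
  R.hφ a b hab t

/-- the matrix of a long Weyl element -/
theorem stcr5_M_w_long (a : ι ⊕ ι) (u : K) (hu : u ≠ 0) :
    R.M (S.w a (ng a) u) = Mat.WL (Em R.e a) u := by
  have hne : a ≠ ng a := by cases a <;> simp [ng]
  unfold SysC.w
  rw [R.stcr5_M_mul, R.stcr5_M_mul, R.stcr5_M_x hne, R.stcr5_M_x hne.symm, stcr5_Em_ng, Mat.Tm_long]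
  have e : Tm (ng (Em R.e a)) (Em R.e a) (-u⁻¹) = Mat.TL (ng (Em R.e a)) (-u⁻¹) := by
    have := Mat.Tm_long (F := K) (ng (Em R.e a)) (-u⁻¹)
    rwa [stcr5_ng_ng] at this
  rw [e]
  exact Mat.WL_eq (Em R.e a) u hu

/-- the matrix of a short Weyl element -/
theorem stcr5_M_w_short {a b : ι ⊕ ι} (hab : a ≠ b) (hab' : b ≠ ng a) (u : K) (hu : u ≠ 0) :
    R.M (S.w a b u) = Mat.WS (Em R.e a) (Em R.e b) u := by
  have h1 : Em R.e a ≠ Em R.e b := (stcr5_Em_inj R.e).ne hab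
  have h2 : Em R.e b ≠ ng (Em R.e a) := by
    rw [← stcr5_Em_ng]
    exact (stcr5_Em_inj R.e).ne hab'
  have h3 : Em R.e a ≠ ng (Em R.e b) := by
    intro h
    apply h2
    rw [h, stcr5_ng_ng]
  unfold SysC.w
  rw [R.stcr5_M_mul, R.stcr5_M_mul, R.stcr5_M_x hab, R.stcr5_M_x hab.symm, Mat.Tm_short h2, Mat.Tm_short h3]
  exact Mat.WS_eq h1 h3 u hu

/-- R5 [S-M] -/
theorem M_w_fst {a b : ι ⊕ ι} (hab : a ≠ b) (u : K) (hu : u ≠ 0) :
    R.M (S.w a b u) *ᵥ ev (Em R.e a) = (-u⁻¹) • ev (Em R.e b) := by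
  by_cases hb : b = ng a
  · subst hb
    rw [R.stcr5_M_w_long a u hu, stcr5_Em_ng, ← stcr5_single_smul]
    exact Mat.WL_mulVec_a (Em R.e a) u
  · have h1 : Em R.e a ≠ Em R.e b := (stcr5_Em_inj R.e).ne hab
    have h2 : Em R.e b ≠ ng (Em R.e a) := by
      rw [← stcr5_Em_ng]
      exact (stcr5_Em_inj R.e).ne hb
    have h3 : Em R.e a ≠ ng (Em R.e b) := by
      intro h
      apply h2
      rw [h, stcr5_ng_ng]
    rw [R.stcr5_M_w_short hab hb u hu, ← stcr5_single_smul]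
    exact Mat.WS_mulVec_a h1 h3 u

theorem M_w_snd {a b : ι ⊕ ι} (hab : a ≠ b) (u : K) (hu : u ≠ 0) :
    R.M (S.w a b u) *ᵥ ev (Em R.e b) = u • ev (Em R.e a) := by
  by_cases hb : b = ng a
  · subst hb
    rw [R.stcr5_M_w_long a u hu, stcr5_Em_ng, ← stcr5_single_smul]
    exact Mat.WL_mulVec_na (Em R.e a) u
  · have h1 : Em R.e a ≠ Em R.e b := (stcr5_Em_inj R.e).ne hab
    have h2 : Em R.e b ≠ ng (Em R.e a) := by
      rw [← stcr5_Em_ng]
      exact (stcr5_Em_inj R.e).ne hb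
    have h3 : Em R.e a ≠ ng (Em R.e b) := by
      intro h
      apply h2
      rw [h, stcr5_ng_ng]
    rw [R.stcr5_M_w_short hab hb u hu, ← stcr5_single_smul]
    exact Mat.WS_mulVec_b h1 h3 u

theorem M_h_fst {a b : ι ⊕ ι} (hab : a ≠ b) (u : K) (hu : u ≠ 0) :
    R.M (S.h a b u) *ᵥ ev (Em R.e a) = u • ev (Em R.e a) := by
  unfold SysC.h
  rw [R.stcr5_M_mul, ← Matrix.mulVec_mulVec, R.M_w_fst hab (-1) (by simp)]
  have e : (-(-1 : K)⁻¹) = 1 := by rw [inv_neg, inv_one, neg_neg]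
  rw [e, one_smul, R.M_w_snd hab u hu]

end Rep

end SysC

end Cfsg.Agent.Lib.helper3.STC
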