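import Mathlib
import Cfsg.Agent.Lib.helper15.St2
import Cfsg.Agent.Lib.helper3.STC.Defs

/-!
Project STC (designer helper3), rows W7 (`cj_ws_nab`), W9 (`cj_ws_bnb`), W10 (`cj_ws_naa`, `cj_ws_nbb`), W12 (`cj_wl_nal`):
cores by helper16, with the statements of the cited rows (B1 `w_swap`, B2 `w_sym`, W6, W8, W11) as hypotheses.
-/

set_option autoImplicit false

namespace Cfsg.Agent.Lib.helper3.STC

open Cfsg.Agent.Lib.helper15.St2

theorem stcw_ng_ng {ι : Type*} (a : ι ⊕ ι) : ng (ng a) = a := by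
  cases a <;> rfl

theorem stcw_ng_inj {ι : Type*} {a b : ι ⊕ ι} (h : ng a = ng b) : a = b := by
  have := congrArg ng h
  rwa [stcw_ng_ng, stcw_ng_ng] at this

theorem stcw_sg_ng {ι : Type*} {K : Type*} [Field K] (a : ι ⊕ ι) : (sg (ng a) : K) = -sg a := by
  cases a <;> simp [ng, sg]

theorem stcw_sg_sq {ι : Type*} {K : Type*} [Field K] (a : ι ⊕ ι) : (sg a : K) * sg a = 1 := by
  cases a <;> simp [sg]

theorem stcw_sg_ne {ι : Type*} {K : Type*} [Field K] (a : ι ⊕ ι) : (sg a : K) ≠ 0 := by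
  intro h
  have := stcw_sg_sq (K := K) a
  rw [h, mul_zero] at this
  exact zero_ne_one this

namespace SysC

variable {K : Type*} [Field K] {ι : Type*} {G : Type*} [Group G] (S : SysC K ι G)

/-- W9 core -/
theorem stcw9_core
    (hswap : ∀ {a b : ι ⊕ ι} (_ : a ≠ b) (t : K) (_ : t ≠ 0), S.w b a t = S.w a b (-t⁻¹))
    (hW8 : ∀ {a b : ι ⊕ ι} (_ : a ≠ b) (_ : a ≠ ng b) (u t : K) (_ : u ≠ 0),
      cj (S.w a b u) (S.x a (ng a) t) = S.x b (ng b) (sg a * sg b * (u⁻¹ ^ 2 * t)))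
    {a b : ι ⊕ ι} (hab : a ≠ b) (hab' : a ≠ ng b) (u t : K) (hu : u ≠ 0) :
    cj (S.w a b u) (S.x b (ng b) t) = S.x a (ng a) (sg a * sg b * (u ^ 2 * t)) := by
  have hba' : b ≠ ng a := by
    intro h
    apply hab'
    rw [h, stcw_ng_ng]
  have hu' : -u⁻¹ ≠ 0 := neg_ne_zero.mpr (inv_ne_zero hu)
  rw [hswap hab.symm u hu, hW8 hab.symm hba' (-u⁻¹) t hu', inv_neg, inv_inv, neg_sq, mul_comm (sg b) (sg a)]

/-- W12 core -/
theorem stcw12_core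
    (hswap : ∀ {a b : ι ⊕ ι} (_ : a ≠ b) (t : K) (_ : t ≠ 0), S.w b a t = S.w a b (-t⁻¹))
    (hW11 : ∀ {a l : ι ⊕ ι} (_ : l ≠ a) (_ : l ≠ ng a) (u t : K) (_ : u ≠ 0),
      cj (S.w a (ng a) u) (S.x a l t) = S.x (ng a) l (-(u⁻¹ * t)))
    {a l : ι ⊕ ι} (hla : l ≠ a) (hla' : l ≠ ng a) (u t : K) (hu : u ≠ 0) :
    cj (S.w a (ng a) u) (S.x (ng a) l t) = S.x a l (u * t) := by
  have hne : ng a ≠ a := by
    cases a <;> simp [ng]
  have hu' : -u⁻¹ ≠ 0 := neg_ne_zero.mpr (inv_ne_zero hu)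
  have h11 := hW11 (a := ng a) (l := l) hla' (by rw [stcw_ng_ng]; exact hla) (-u⁻¹) t hu'
  rw [stcw_ng_ng] at h11
  rw [hswap hne u hu, h11, inv_neg, inv_inv, neg_mul, neg_neg]

/-- W7 core -/
theorem stcw7_core
    (hsym : ∀ {a b : ι ⊕ ι} (_ : a ≠ b) (t : K), S.w a b t = S.w (ng b) (ng a) (-(sg a * sg b * t)))
    (hW6 : ∀ {a b : ι ⊕ ι} (_ : a ≠ b) (_ : a ≠ ng b) (u t : K) (_ : u ≠ 0),
      cj (S.w a b u) (S.x a (ng b) t) = S.x a (ng b) (-t))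
    {a b : ι ⊕ ι} (hab : a ≠ b) (hab' : a ≠ ng b) (u t : K) (hu : u ≠ 0) :
    cj (S.w a b u) (S.x (ng a) b t) = S.x (ng a) b (-t) := by
  have hnab : ng a ≠ b := by
    intro h
    apply hab'
    rw [← h, stcw_ng_ng]
  have hnn : ng b ≠ ng a := fun h => hab (stcw_ng_inj h).symm
  have hnn' : ng b ≠ ng (ng a) := by
    rw [stcw_ng_ng]
    intro h
    apply hab'
    exact h.symm
  have hu' : -(sg a * sg b * u) ≠ 0 :=
    neg_ne_zero.mpr (mul_ne_zero (mul_ne_zero (stcw_sg_ne a) (stcw_sg_ne b)) hu)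
  have h6 := hW6 hnn hnn' (-(sg a * sg b * u)) (-(sg (ng a) * sg b * t)) hu'
  rw [S.sym (ng a) b hnab t, S.sym (ng a) b hnab (-t), hsym hab u, h6]
  congr 1
  ring

/-- W10 core -/
theorem stcw10_core
    (hsym : ∀ {a b : ι ⊕ ι} (_ : a ≠ b) (t : K), S.w a b t = S.w (ng b) (ng a) (-(sg a * sg b * t)))
    (hW8 : ∀ {a b : ι ⊕ ι} (_ : a ≠ b) (_ : a ≠ ng b) (u t : K) (_ : u ≠ 0),
      cj (S.w a b u) (S.x a (ng a) t) = S.x b (ng b) (sg a * sg b * (u⁻¹ ^ 2 * t)))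
    (hW9 : ∀ {a b : ι ⊕ ι} (_ : a ≠ b) (_ : a ≠ ng b) (u t : K) (_ : u ≠ 0),
      cj (S.w a b u) (S.x b (ng b) t) = S.x a (ng a) (sg a * sg b * (u ^ 2 * t)))
    {a b : ι ⊕ ι} (hab : a ≠ b) (hab' : a ≠ ng b) (u t : K) (hu : u ≠ 0) :
    cj (S.w a b u) (S.x (ng a) a t) = S.x (ng b) b (sg a * sg b * (u ^ 2 * t)) ∧
      cj (S.w a b u) (S.x (ng b) b t) = S.x (ng a) a (sg a * sg b * (u⁻¹ ^ 2 * t)) := by
  have hnn : ng b ≠ ng a := fun h => hab (stcw_ng_inj h).symm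
  have hnn' : ng b ≠ ng (ng a) := by
    rw [stcw_ng_ng]
    intro h
    apply hab'
    exact h.symm
  have hu' : -(sg a * sg b * u) ≠ 0 :=
    neg_ne_zero.mpr (mul_ne_zero (mul_ne_zero (stcw_sg_ne a) (stcw_sg_ne b)) hu)
  have h8 := hW8 hnn hnn' (-(sg a * sg b * u)) t hu'
  have h9 := hW9 hnn hnn' (-(sg a * sg b * u)) t hu'
  rw [stcw_ng_ng, stcw_ng_ng] at h8 h9
  have ha := stcw_sg_sq (K := K) a
  have hb := stcw_sg_sq (K := K) b
  have hsq : (-(sg a * sg b * u)) ^ 2 = u ^ 2 := by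
    have : (-(sg a * sg b * u)) ^ 2 = (sg a * sg a) * (sg b * sg b) * u ^ 2 := by ring
    rw [this, ha, hb, one_mul, one_mul]
  have hsqi : (-(sg a * sg b * u))⁻¹ ^ 2 = u⁻¹ ^ 2 := by
    rw [inv_pow, hsq, inv_pow]
  constructor
  · rw [hsym hab u, h9, hsq, stcw_sg_ng, stcw_sg_ng]
    congr 1
    ring
  · rw [hsym hab u, h8, hsqi, stcw_sg_ng, stcw_sg_ng]
    congr 1
    ring

end SysC

end Cfsg.Agent.Lib.helper3.STC
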