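import Mathlib
import Cfsg.Prelude.Def_Classical
import Cfsg.Agent.Lib.helper17.SLP.Defs
import Cfsg.Agent.Lib.Helper25.SU3P.Defs
import Cfsg.Agent.Lib.Helper25.SU3P.Basic
import Cfsg.Agent.Lib.Helper19.U3P.Defs

/-!
Project U3P (designer helper19; S2289), row X16 (`card_B_S`), core by helper16: the statement with the statements of
X10 (`exists_US`), X12 (`card_US`), X13 (`gen_U`) as hypotheses.
-/

set_option autoImplicit false

namespace Cfsg.Agent.Lib.Helper19.U3P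

open Cfsg.Agent.Lib.helper17.SLP Cfsg.Agent.Lib.helper14.SU3J Cfsg.Agent.Lib.Helper25.SU3P
open Polynomial Matrix

universe u v

section X

variable {F : Type u} [Field F] [Fintype F] {K : Type u} [Field K] [Fintype K] {q : ℕ}

omit [Fintype F] in
theorem u3px16_isUp_dd (σ : F →+* F) (l : F) : IsUp (dd σ l) := by
  refine ⟨?_, ?_, ?_⟩ <;> simp [dd]

variable {D : Par F K q} {a b c : ↥(Cfsg.SU 3 F q)} {ρ : SL2 K →* ↥(Cfsg.SU 3 F q)}

omit [Fintype F] [Fintype K] in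
/-- `b ^ i` is upper triangular in the coordinates `D.c`, with `(0,0)` entry `ζ ^ i` -/
theorem u3px16_b_pow (hG : Gens D a b c ρ) (i : ℕ) :
    IsUp (D.c.cj (b ^ i)) ∧ (D.c.cj (b ^ i)) 0 0 = (D.ζ : F) ^ i := by
  rw [Coords.cj_pow, hG.hb]
  obtain ⟨h1, h2⟩ := isUp_pow (u3px16_isUp_dd D.σ (D.ζ : F)) i
  refine ⟨h1, ?_⟩
  rw [h2]
  simp [dd]

omit [Fintype K] in
theorem u3px16_order (D : Par F K q) (hF : Fintype.card F = q ^ 2) : orderOf D.ζ = q ^ 2 - 1 := by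
  classical
  rw [orderOf_eq_card_of_forall_mem_zpowers D.hζ, Nat.card_units, Nat.card_eq_fintype_card, hF]

omit [Fintype K] in
theorem card_B_S_core (hG : Gens D a b c ρ) (hF : Fintype.card F = q ^ 2)
    (hX10 : ∃ US : Subgroup ↥(Cfsg.SU 3 F q), ∀ X, X ∈ US ↔ IsUT (D.c.cj X))
    (hX12 : ∀ US : Subgroup ↥(Cfsg.SU 3 F q), (∀ X, X ∈ US ↔ IsUT (D.c.cj X)) → Nat.card ↥US = q ^ 3)
    (hX13 : ∀ X : ↥(Cfsg.SU 3 F q), IsUT (D.c.cj X) →
      X ∈ Subgroup.closure ({a, b} : Set ↥(Cfsg.SU 3 F q))) :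
    q ^ 3 * (q ^ 2 - 1) ≤ Nat.card ↥(Subgroup.closure ({a, b} : Set ↥(Cfsg.SU 3 F q))) := by
  obtain ⟨US, hUS⟩ := hX10
  have hcard := hX12 US hUS
  have hb : b ∈ Subgroup.closure ({a, b} : Set ↥(Cfsg.SU 3 F q)) := Subgroup.subset_closure (by simp)
  let Φ : ↥US × Fin (q ^ 2 - 1) → ↥(Subgroup.closure ({a, b} : Set ↥(Cfsg.SU 3 F q))) := fun p =>
    ⟨(p.1 : ↥(Cfsg.SU 3 F q)) * b ^ (p.2 : ℕ),
      Subgroup.mul_mem _ (hX13 _ ((hUS _).mp p.1.2)) (Subgroup.pow_mem _ hb _)⟩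
  have hΦ : Function.Injective Φ := by
    rintro ⟨Y, i⟩ ⟨Y', j⟩ h
    have h' : (Y : ↥(Cfsg.SU 3 F q)) * b ^ (i : ℕ) = (Y' : ↥(Cfsg.SU 3 F q)) * b ^ (j : ℕ) :=
      congrArg Subtype.val h
    have hY := (hUS _).mp Y.2
    have hY' := (hUS _).mp Y'.2
    have e1 : (D.c.cj ((Y : ↥(Cfsg.SU 3 F q)) * b ^ (i : ℕ))) 0 0 = (D.ζ : F) ^ (i : ℕ) := by
      rw [Coords.cj_mul, (isUp_mul hY.1 (u3px16_b_pow hG i).1).2, hY.2.1, one_mul, (u3px16_b_pow hG i).2]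
    have e2 : (D.c.cj ((Y' : ↥(Cfsg.SU 3 F q)) * b ^ (j : ℕ))) 0 0 = (D.ζ : F) ^ (j : ℕ) := by
      rw [Coords.cj_mul, (isUp_mul hY'.1 (u3px16_b_pow hG j).1).2, hY'.2.1, one_mul, (u3px16_b_pow hG j).2]
    rw [h', e2] at e1
    have hz : D.ζ ^ (j : ℕ) = D.ζ ^ (i : ℕ) := by
      apply Units.ext
      rw [Units.val_pow_eq_pow_val, Units.val_pow_eq_pow_val]
      exact e1
    have hij : (j : ℕ) = (i : ℕ) := by
      have hord := u3px16_order D hF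
      apply pow_injOn_Iio_orderOf (x := D.ζ)
      · rw [hord]; exact j.2
      · rw [hord]; exact i.2
      · exact hz
    have hij' : i = j := Fin.ext hij.symm
    subst hij'
    have hYY : (Y : ↥(Cfsg.SU 3 F q)) = (Y' : ↥(Cfsg.SU 3 F q)) := mul_right_cancel h'
    have : Y = Y' := Subtype.ext hYY
    rw [this]
  have hle := Nat.card_le_card_of_injective Φ hΦ
  rw [Nat.card_prod, hcard, Nat.card_eq_fintype_card, Fintype.card_fin] at hle
  exact hle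

end X

end Cfsg.Agent.Lib.Helper19.U3P
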