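import Mathlib
import Cfsg.Agent.Lib.helper3.BSZ.Defs

/-!
# BSZ row A05: cosets of an overgroup `M` of `H` are blocks.
-/

set_option autoImplicit false

namespace Cfsg.Agent.Lib.helper3.BSZ

open Cfsg Cfsg.Agent.Lib.helper3

/-- `g • mk a = mk b` in `G ⧸ H` iff `b⁻¹ * g * a ∈ H`. -/
theorem bsza05_smul_mk_eq_iff {G : Type*} [Group G] (H : Subgroup G) (g a b : G) :
    g • (QuotientGroup.mk a : G ⧸ H) = QuotientGroup.mk b ↔ b⁻¹ * g * a ∈ H := by
  rw [MulAction.Quotient.smul_mk, QuotientGroup.eq]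
  constructor
  · intro h
    have := H.inv_mem h
    have e : ((g • a)⁻¹ * b)⁻¹ = b⁻¹ * g * a := by
      rw [smul_eq_mul]
      group
    rwa [e] at this
  · intro h
    have := H.inv_mem h
    have e : (b⁻¹ * g * a)⁻¹ = (g • a)⁻¹ * b := by
      rw [smul_eq_mul]
      group
    rwa [e] at this

/-- A05 [M]: cosets of `M` are blocks. -/
theorem binary_sub {G : Type*} [Group G] (H M : Subgroup G) (hHM : H ≤ M) (hB : BinH H) :
    BinH (H.subgroupOf M) := by
  intro n I J hn hpair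
  -- representatives
  choose a ha using fun i => QuotientGroup.mk_surjective (I i)
  choose b hb using fun i => QuotientGroup.mk_surjective (J i)
  have hmem : ∀ (x : M) (i : Fin n), x • I i = J i ↔
      ((b i : G))⁻¹ * (x : G) * (a i : G) ∈ H := by
    intro x i
    rw [← ha i, ← hb i, bsza05_smul_mk_eq_iff, Subgroup.mem_subgroupOf]
    simp only [Subgroup.coe_mul, Subgroup.coe_inv]
  set I' : Fin n → G ⧸ H := fun i => QuotientGroup.mk (a i : G) with hI'
  set J' : Fin n → G ⧸ H := fun i => QuotientGroup.mk (b i : G) with hJ'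
  have hpair' : ∀ i j : Fin n, i ≠ j → ∃ g : G, g • I' i = J' i ∧ g • I' j = J' j := by
    intro i j hij
    obtain ⟨x, hx1, hx2⟩ := hpair i j hij
    refine ⟨(x : G), ?_, ?_⟩
    · rw [hI', hJ']
      simp only
      rw [bsza05_smul_mk_eq_iff]
      exact (hmem x i).1 hx1
    · rw [hI', hJ']
      simp only
      rw [bsza05_smul_mk_eq_iff]
      exact (hmem x j).1 hx2
  obtain ⟨g, hg⟩ := hB n I' J' hn hpair'
  have hg' : ∀ i : Fin n, ((b i : G))⁻¹ * g * (a i : G) ∈ H := by
    intro i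
    have := hg i
    rw [hI', hJ'] at this
    simp only at this
    rwa [bsza05_smul_mk_eq_iff] at this
  have i0 : Fin n := ⟨0, by omega⟩
  have hgM : g ∈ M := by
    have h1 := hHM (hg' i0)
    have h2 : g = (b i0 : G) * ((b i0 : G)⁻¹ * g * (a i0 : G)) * (a i0 : G)⁻¹ := by group
    rw [h2]
    exact M.mul_mem (M.mul_mem (b i0).2 h1) (M.inv_mem (a i0).2)
  refine ⟨⟨g, hgM⟩, fun i => ?_⟩
  rw [hmem]
  exact hg' i

end Cfsg.Agent.Lib.helper3.BSZ
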