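import Mathlib
import Cfsg.Agent.Lib.helper3.BSZ.Defs
import Cfsg.Agent.Lib.Helper16.BSZA05

/-!
# BSZ row A06: a point stabiliser of a binary action is binary on each of its orbits.
-/

set_option autoImplicit false

namespace Cfsg.Agent.Lib.helper3.BSZ

open Cfsg Cfsg.Agent.Lib.helper3

/-- membership in the conjugate subgroup. -/
theorem bsza06_mem_cj {G : Type*} [Group G] (H : Subgroup G) (g x : G) :
    x ∈ cj H g ↔ g⁻¹ * x * g ∈ H := by
  constructor
  · rintro ⟨y, hy, rfl⟩
    have : g⁻¹ * (MulAut.conj g).toMonoidHom y * g = y := by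
      simp only [MulEquiv.coe_toMonoidHom, MulAut.conj_apply]
      group
    rw [this]
    exact hy
  · intro h
    refine ⟨g⁻¹ * x * g, h, ?_⟩
    simp only [MulEquiv.coe_toMonoidHom, MulAut.conj_apply]
    group

/-- A06 [M]: a point stabiliser of a binary action is binary on each of its orbits. -/
theorem binary_stab {G : Type*} [Group G] (H : Subgroup G) (hB : BinH H) (g : G) :
    BinH ((H ⊓ cj H g).subgroupOf H) := by
  intro n I J hn hpair
  choose a ha using fun i => QuotientGroup.mk_surjective (I i)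
  choose b hb using fun i => QuotientGroup.mk_surjective (J i)
  -- the condition `x • I i = J i` in `G`
  have hmem : ∀ (x : H) (i : Fin n), x • I i = J i ↔
      ((b i : G) * g)⁻¹ * (x : G) * ((a i : G) * g) ∈ H := by
    intro x i
    rw [← ha i, ← hb i, bsza05_smul_mk_eq_iff, Subgroup.mem_subgroupOf, Subgroup.mem_inf,
      bsza06_mem_cj]
    simp only [Subgroup.coe_mul, Subgroup.coe_inv]
    have e : g⁻¹ * ((b i : G)⁻¹ * (x : G) * (a i : G)) * g =
        ((b i : G) * g)⁻¹ * (x : G) * ((a i : G) * g) := by group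
    rw [e]
    constructor
    · exact fun h => h.2
    · intro h
      exact ⟨H.mul_mem (H.mul_mem (H.inv_mem (b i).2) x.2) (a i).2, h⟩
  set I' : Fin (n + 1) → G ⧸ H :=
    Fin.cons (QuotientGroup.mk 1) (fun i => QuotientGroup.mk ((a i : G) * g)) with hI'
  set J' : Fin (n + 1) → G ⧸ H :=
    Fin.cons (QuotientGroup.mk 1) (fun i => QuotientGroup.mk ((b i : G) * g)) with hJ'
  have hI0 : I' 0 = QuotientGroup.mk 1 := by rw [hI', Fin.cons_zero]
  have hJ0 : J' 0 = QuotientGroup.mk 1 := by rw [hJ', Fin.cons_zero]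
  have hIs : ∀ i : Fin n, I' i.succ = QuotientGroup.mk ((a i : G) * g) := by
    intro i; rw [hI', Fin.cons_succ]
  have hJs : ∀ i : Fin n, J' i.succ = QuotientGroup.mk ((b i : G) * g) := by
    intro i; rw [hJ', Fin.cons_succ]
  -- an element of `H` fixes `mk 1`
  have hfix : ∀ x : G, x • (QuotientGroup.mk 1 : G ⧸ H) = QuotientGroup.mk 1 ↔ x ∈ H := by
    intro x
    rw [bsza05_smul_mk_eq_iff]
    simp
  have hsucc : ∀ (x : H) (i : Fin n), (x : G) • I' i.succ = J' i.succ ↔ x • I i = J i := by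
    intro x i
    rw [hIs, hJs, bsza05_smul_mk_eq_iff, hmem]
  -- every `I j` is mapped to `J j` by some element of `H`
  have hsingle : ∀ j : Fin n, ∃ x : H, x • I j = J j := by
    intro j
    obtain ⟨j', hj'⟩ : ∃ j' : Fin n, j' ≠ j := by
      by_cases h0 : (j : ℕ) = 0
      · exact ⟨⟨1, by omega⟩, fun h => by
          have := congrArg Fin.val h
          simp only at this
          omega⟩
      · exact ⟨⟨0, by omega⟩, fun h => by
          have := congrArg Fin.val h
          simp only at this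
          omega⟩
    obtain ⟨x, hx, _⟩ := hpair j j' (Ne.symm hj')
    exact ⟨x, hx⟩
  have hpair' : ∀ i j : Fin (n + 1), i ≠ j → ∃ x : G, x • I' i = J' i ∧ x • I' j = J' j := by
    intro i j
    refine Fin.cases ?_ (fun i' => ?_) i <;> refine Fin.cases ?_ (fun j' => ?_) j
    · intro h
      exact absurd rfl h
    · intro _
      obtain ⟨x, hx⟩ := hsingle j'
      refine ⟨(x : G), ?_, (hsucc x j').2 hx⟩
      rw [hI0, hJ0]
      exact (hfix _).2 x.2
    · intro _
      obtain ⟨x, hx⟩ := hsingle i'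
      refine ⟨(x : G), (hsucc x i').2 hx, ?_⟩
      rw [hI0, hJ0]
      exact (hfix _).2 x.2
    · intro hij
      have hij' : i' ≠ j' := fun h => hij (by rw [h])
      obtain ⟨x, hx1, hx2⟩ := hpair i' j' hij'
      exact ⟨(x : G), (hsucc x i').2 hx1, (hsucc x j').2 hx2⟩
  obtain ⟨x, hx⟩ := hB (n + 1) I' J' (by omega) hpair'
  have hxH : x ∈ H := by
    have := hx 0
    rw [hI0, hJ0] at this
    exact (hfix x).1 this
  refine ⟨⟨x, hxH⟩, fun i => ?_⟩
  exact (hsucc ⟨x, hxH⟩ i).1 (hx i.succ)

end Cfsg.Agent.Lib.helper3.BSZ
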