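import Mathlib
import Cfsg.Agent.Lib.helper3.CEUO.Defs2
import Cfsg.Agent.Lib.Helper27.STU.Defs3
import Cfsg.Agent.Lib.Helper27.STU.Frob
import Cfsg.Agent.Lib.Helper27.STUH8
import Cfsg.Agent.Lib.Helper24.STCI1
import Cfsg.Agent.Lib.Helper24.STUM3

/-!
# Project CEUO (sub-designer helper3), row R4 (helper16): `r1_of_univ` VERBATIM: the lifted rank one relation from the universal property `R1Univ`
(`Z.eqv` at the long Weyl elements `wl a ξ`, `wl (ng a) ξ`; `hW_all` of `Helper24.STUM3`).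
-/

set_option autoImplicit false

namespace Cfsg.Agent.Lib.helper3.CEUO

open Cfsg.Agent.Lib.helper15.St2 Cfsg.Agent.Lib.helper7.Ce Cfsg.Agent.Lib.helper3.STC Cfsg.Agent.Lib.Helper27.STU
  Cfsg.Agent.Lib.helper7.CEU

open Cfsg.Agent.Lib.helper7.CEC (I2 I3 I4 U2 U3)

section R

variable {F : Type*} [Field F] [StarRing F] {od : Prop}

variable {ι : Type*} {Γ G : Type*} [Group Γ] [Group G] {S : SysU F od ι G} {σ : Γ →* G} {h : IsCE σ}

/-- the action of the lifted long Weyl element at `a` on the canonical lifts at `a`, `ng a` -/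
theorem ceuor4_aux [DecidableEq ι] (Z : LongLift S h) (a : ι ⊕ ι) (ξ η : Lam F od) (hξ : ξ.c ≠ 0) :
    cj (Z.Z a ξ * Z.Z (ng a) (Lam.mu ξ) * Z.Z a (Lam.nu ξ)) (Z.Z a η) = Z.Z (ng a) (Lam.act (sW ξ) η) ∧
    cj (Z.Z a ξ * Z.Z (ng a) (Lam.mu ξ) * Z.Z a (Lam.nu ξ)) (Z.Z (ng a) η) = Z.Z a (Lam.act (sW' ξ) η) := by
  have he : σ (Z.Z a ξ * Z.Z (ng a) (Lam.mu ξ) * Z.Z a (Lam.nu ξ)) = S.wl a ξ := by
    rw [map_mul, map_mul, Z.map, Z.map, Z.map]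
    rfl
  have hmon := S.hW_all.2 a ξ hξ
  constructor
  · have h1 := Z.eqv _ _ _ _ hmon _ he a η
    rw [Equiv.swap_apply_left] at h1
    have h2 : dwl a ξ a = (star ξ.c)⁻¹ := by
      unfold Cfsg.Agent.Lib.Helper27.STU.dwl
      rw [if_pos rfl]
    rw [h2] at h1
    exact h1
  · have h1 := Z.eqv _ _ _ _ hmon _ he (ng a) η
    rw [Equiv.swap_apply_right] at h1
    have h2 : dwl a ξ (ng a) = ξ.c := by
      unfold Cfsg.Agent.Lib.Helper27.STU.dwl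
      rw [if_neg (ng_ne a), if_pos rfl]
    rw [h2] at h1
    exact h1

/-- R4 [M] -/
theorem r1_of_univ [DecidableEq ι] (Z : LongLift S h) (hU : R1Univ F od Γ) :
    ∀ a, ∃ ρ : ↥(SUm F od) →* Γ, ∀ ξ, ρ (XpU ξ) = Z.Z a ξ ∧ ρ (XmU ξ) = Z.Z (ng a) ξ := by
  intro a
  refine hU (Z.Z a) (Z.Z (ng a)) (Z.mul a) (Z.mul (ng a)) ?_ ?_ ?_ ?_
  · intro ξ η hξ
    exact (ceuor4_aux Z a ξ η hξ).1
  · intro ξ η hξ
    exact (ceuor4_aux Z a ξ η hξ).2
  · intro ξ η hξ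
    have h1 := (ceuor4_aux Z (ng a) ξ η hξ).1
    rw [ng_ng] at h1
    exact h1
  · intro ξ η hξ
    have h1 := (ceuor4_aux Z (ng a) ξ η hξ).2
    rw [ng_ng] at h1
    exact h1

end R

end Cfsg.Agent.Lib.helper3.CEUO
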