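import Mathlib
import Cfsg.Agent.Lib.helper15.St2
import Cfsg.Agent.Lib.helper7.StA
import Cfsg.Agent.Lib.helper7.StC
import Cfsg.Agent.Lib.Helper24.STCI1
import Cfsg.Agent.Lib.Helper29.STCH3
import Cfsg.Agent.Lib.Helper27.STU.Defs
import Cfsg.Agent.Lib.Helper27.STU.Defs2
import Cfsg.Agent.Lib.Helper24.STUM1

/-!
# Project STU (block of PSU, S2291; designer helper27), row H4 (helper16), VERBATIM:
`isMon_hs`, `isMon_hl`, `hH_all` (hypothesis `hW : S.HW`).
Extras: `stuh4_coeff_s`, `stuh4_coeff_l`, `stuh4_d0` (the coefficient identities).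
-/

set_option autoImplicit false

namespace Cfsg.Agent.Lib.Helper27.STU

open Cfsg.Agent.Lib.helper15.St2 Cfsg.Agent.Lib.helper7.St Cfsg.Agent.Lib.helper3.STC

namespace SysU

variable {F : Type*} [Field F] [StarRing F] {od : Prop} {ι : Type*} {G : Type*} [Group G] (S : SysU F od ι G)

section H
variable [Finite F]

variable [DecidableEq ι]

omit [Finite F] in
/-- the coefficient identity for the short torus element -/
theorem stuh4_coeff_s {a b : ι ⊕ ι} (hab : a ≠ b) (hab' : a ≠ ng b) (u : F) (k : ι ⊕ ι) :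
    dws a b u (sws a b k) * dws a b (-1) k = dhs a b u k := by
  have h1 : ng a ≠ a := ng_ne a
  have h2 : ng b ≠ b := ng_ne b
  have h3 : ng a ≠ b := fun h => hab' (by rw [← h, ng_ng])
  have h4 : ng b ≠ a := fun h => hab' h.symm
  have h5 : ng a ≠ ng b := fun h => hab (ng_inj.1 h)
  by_cases hka : k = a
  · subst hka
    rw [stch3_sws_apply_left hab']
    simp [dws, dhs, hab, hab.symm]
  by_cases hkb : k = b
  · subst hkb
    rw [stch3_sws_apply_right hab']
    simp [dws, dhs, hab, hab.symm, h2.symm, h3.symm]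
  by_cases hka' : k = ng a
  · subst hka'
    rw [stch3_sws_apply_nleft hab']
    simp [dws, dhs, h1, h2, h3, h4, h5, h5.symm]
  by_cases hkb' : k = ng b
  · subst hkb'
    rw [stch3_sws_apply_nright hab']
    simp [dws, dhs, h1, h2, h3, h4, h5, h5.symm, inv_neg]
  · rw [stch3_sws_apply_of_ne hka hkb hka' hkb']
    simp [dws, dhs, hka, hkb, hka', hkb']

omit [Finite F] in
/-- the coefficient identity for the long torus element -/
theorem stuh4_coeff_l (a : ι ⊕ ι) {ξ η : Lam F od} (hξ : ξ.c ≠ 0) (hη : η.c ≠ 0) (k : ι ⊕ ι) :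
    dwl a ξ ((Equiv.swap a (ng a))⁻¹ k) * (dwl a η ((Equiv.swap a (ng a))⁻¹ k))⁻¹ = dhl a (ξ.c / η.c) k := by
  have h1 : ng a ≠ a := ng_ne a
  have hξ' : star ξ.c ≠ 0 := fun h => hξ (by simpa using congrArg star h)
  have hη' : star η.c ≠ 0 := fun h => hη (by simpa using congrArg star h)
  rw [Equiv.swap_inv]
  by_cases hka : k = a
  · subst hka
    rw [Equiv.swap_apply_left]
    simp only [dwl, dhl, h1, if_true, if_false]
    rw [div_eq_mul_inv]
  by_cases hka' : k = ng a
  · subst hka'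
    rw [Equiv.swap_apply_right]
    simp only [dwl, dhl, h1, if_true, if_false]
    rw [star_div₀]
    field_simp
  · rw [Equiv.swap_apply_of_ne_of_ne hka hka']
    simp [dwl, dhl, hka, hka']

omit [Finite F] in
/-- the coefficient on `d` of the long torus element -/
theorem stuh4_d0 {ξ η : Lam F od} (hξ : ξ.c ≠ 0) (hη : η.c ≠ 0) :
    d0l ξ * (d0l η)⁻¹ = d0h (ξ.c / η.c) := by
  have hξ' : star ξ.c ≠ 0 := fun h => hξ (by simpa using congrArg star h)
  have hη' : star η.c ≠ 0 := fun h => hη (by simpa using congrArg star h)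
  unfold d0l d0h
  rw [star_div₀]
  field_simp

omit [Finite F] in
/-- H4 [S-M]  model `SysC.isMon_hs`, `isMon_hl` (`Helper29.STCH3`): `IsMon.mul` of the data of `ws a b u` and `ws a b (-1)` (resp. of `wl a ξ` and `IsMon.inv` of `wl a η`), then
`IsMon.congr` (`sws a b * sws a b = 1`, `swap * swap⁻¹ = 1`; the coefficients by cases on `k`). -/
theorem isMon_hs (hW : S.HW) {a b : ι ⊕ ι} (hab : a ≠ b) (hab' : a ≠ ng b) (u : F) (hu : u ≠ 0) :
    S.IsMon (S.hs a b u) 1 (dhs a b u) 1 := by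
  have hm := IsMon.mul S (hW.1 a b hab hab' u hu) (hW.1 a b hab hab' (-1) (by simp))
  exact IsMon.congr S hm (stch3_sws_mul_self hab hab') (fun k => stuh4_coeff_s hab hab' u k) (mul_one 1)

omit [Finite F] in
theorem isMon_hl (hW : S.HW) (a : ι ⊕ ι) {ξ η : Lam F od} (hξ : ξ.c ≠ 0) (hη : η.c ≠ 0) :
    S.IsMon (S.hl a ξ η) 1 (dhl a (ξ.c / η.c)) (d0h (ξ.c / η.c)) := by
  have hm := IsMon.mul S (hW.2 a ξ hξ) (IsMon.inv S (hW.2 a η hη))
  exact IsMon.congr S hm (mul_inv_cancel _) (fun k => stuh4_coeff_l a hξ hη k) (stuh4_d0 hξ hη)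

omit [Finite F] in
theorem hH_all (hW : S.HW) : S.HH :=
  ⟨fun _ _ hab hab' u hu => S.isMon_hs hW hab hab' u hu, fun a _ _ hξ hη => S.isMon_hl hW a hξ hη⟩

end H

end SysU

end Cfsg.Agent.Lib.Helper27.STU
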