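import Mathlib
import Cfsg.Agent.Lib.Helper24.SU3M.Defs
import Cfsg.Agent.Lib.Helper25.SU3P.Basic

/-!
# Project SU3M (designer helper24), rows T2 (`tor_conj`) and T4 (`tor_cent_w`) (helper16), VERBATIM.
-/

set_option autoImplicit false

namespace Cfsg.Agent.Lib.Helper24.SU3M

open Cfsg.Agent.Lib.Helper19.U3P Cfsg.Agent.Lib.Helper25.SU3P Cfsg.Agent.Lib.helper14.SU3J Matrix

universe u

section T

variable {F : Type u} [Field F] [Fintype F] {q : ℕ}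

/-- the `3`-cycle moves the diagonal entries -/
theorem su3mt2_w_diag (x y z : F) :
    (!![0, 0, 1; 1, 0, 0; 0, 1, 0] : Matrix (Fin 3) (Fin 3) F) * Matrix.diagonal ![x, y, z] =
      Matrix.diagonal ![z, x, y] * !![0, 0, 1; 1, 0, 0; 0, 1, 0] := by
  ext i j
  fin_cases i <;> fin_cases j <;>
    simp [Matrix.mul_apply, Fin.sum_univ_three, Matrix.diagonal]

/-- the signed transposition swaps the first two diagonal entries -/
theorem su3mt2_s_diag (x y z : F) :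
    (!![0, -1, 0; -1, 0, 0; 0, 0, -1] : Matrix (Fin 3) (Fin 3) F) * Matrix.diagonal ![x, y, z] =
      Matrix.diagonal ![y, x, z] * !![0, -1, 0; -1, 0, 0; 0, 0, -1] := by
  ext i j
  fin_cases i <;> fin_cases j <;>
    simp [Matrix.mul_apply, Fin.sum_univ_three, Matrix.diagonal]

/-- the matrix of `dg (a, b)` with all coercions pushed to `Fˣ` -/
theorem su3mt2_hdg {dg : (↥(rootsOfUnity (q + 1) F) × ↥(rootsOfUnity (q + 1) F)) →* ↥(Cfsg.SU 3 F q)} {w s : ↥(Cfsg.SU 3 F q)}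
    (hT : Tor q dg w s) (a b : ↥(rootsOfUnity (q + 1) F)) :
    smat (dg (a, b)) = Matrix.diagonal ![((a : Fˣ) : F), ((b : Fˣ) : F), ((((a : Fˣ) * (b : Fˣ))⁻¹ : Fˣ) : F)] :=
  hT.hdg a b

/-- `w * dg (a, b) = dg ((a * b)⁻¹, a) * w` -/
theorem su3mt2_w_mul {dg : (↥(rootsOfUnity (q + 1) F) × ↥(rootsOfUnity (q + 1) F)) →* ↥(Cfsg.SU 3 F q)} {w s : ↥(Cfsg.SU 3 F q)}
    (hT : Tor q dg w s) (a b : ↥(rootsOfUnity (q + 1) F)) :
    w * dg (a, b) = dg ((a * b)⁻¹, a) * w := by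
  apply smat_inj
  rw [smat_mul, smat_mul, su3mt2_hdg hT, su3mt2_hdg hT, hT.hw]
  have h0 : (((a * b)⁻¹ : ↥(rootsOfUnity (q + 1) F)) : Fˣ) = ((a : Fˣ) * (b : Fˣ))⁻¹ := rfl
  have h1 : (((a : Fˣ) * (b : Fˣ))⁻¹ * (a : Fˣ))⁻¹ = (b : Fˣ) := by
    rw [_root_.mul_inv_rev, inv_inv, inv_mul_cancel_left]
  rw [h0, h1]
  exact su3mt2_w_diag _ _ _

/-- `s * dg (a, b) = dg (b, a) * s` -/
theorem su3mt2_s_mul {dg : (↥(rootsOfUnity (q + 1) F) × ↥(rootsOfUnity (q + 1) F)) →* ↥(Cfsg.SU 3 F q)} {w s : ↥(Cfsg.SU 3 F q)}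
    (hT : Tor q dg w s) (a b : ↥(rootsOfUnity (q + 1) F)) :
    s * dg (a, b) = dg (b, a) * s := by
  apply smat_inj
  rw [smat_mul, smat_mul, su3mt2_hdg hT, su3mt2_hdg hT, hT.hs, mul_comm (b : Fˣ) (a : Fˣ)]
  exact su3mt2_s_diag _ _ _

/-- T2 [S-M] -/
theorem tor_conj {dg : (↥(rootsOfUnity (q + 1) F) × ↥(rootsOfUnity (q + 1) F)) →* ↥(Cfsg.SU 3 F q)} {w s : ↥(Cfsg.SU 3 F q)} (hT : Tor q dg w s)
    (a b : ↥(rootsOfUnity (q + 1) F)) :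
    s * dg (a, b) * s⁻¹ = dg (b, a) ∧ w * dg (a, b) * w⁻¹ = dg ((a * b)⁻¹, a) ∧ w⁻¹ * dg (a, b) * w = dg (b, (a * b)⁻¹) := by
  refine ⟨?_, ?_, ?_⟩
  · rw [su3mt2_s_mul hT, mul_inv_cancel_right]
  · rw [su3mt2_w_mul hT, mul_inv_cancel_right]
  · have h := su3mt2_w_mul hT b (a * b)⁻¹
    have h1 : (b * (a * b)⁻¹)⁻¹ = a := by
      rw [_root_.mul_inv_rev, inv_inv, mul_inv_cancel_right]
    rw [h1] at h
    rw [mul_assoc, ← h, inv_mul_cancel_left]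

/-- T4 [S-M] -/
theorem tor_cent_w {dg : (↥(rootsOfUnity (q + 1) F) × ↥(rootsOfUnity (q + 1) F)) →* ↥(Cfsg.SU 3 F q)} {w s : ↥(Cfsg.SU 3 F q)} (hT : Tor q dg w s)
    (X : ↥(Cfsg.SU 3 F q)) (hX : X ∈ dg.range) (hw : w * X = X * w) : X ∈ Subgroup.center ↥(Cfsg.SU 3 F q) := by
  obtain ⟨⟨a, b⟩, rfl⟩ := hX
  have h1 : dg ((a * b)⁻¹, a) = dg (a, b) := by
    have := su3mt2_w_mul hT a b
    rw [hw] at this
    exact (mul_right_cancel this).symm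
  have h2 := congrArg smat h1
  rw [su3mt2_hdg hT, su3mt2_hdg hT] at h2
  have h3 := Matrix.diagonal_injective h2
  have h0 : (((a * b)⁻¹ : ↥(rootsOfUnity (q + 1) F)) : Fˣ) = ((a : Fˣ) * (b : Fˣ))⁻¹ := rfl
  have e0 : (((a : Fˣ) * (b : Fˣ))⁻¹ : Fˣ) = (a : Fˣ) := by
    have := congrFun h3 0
    rw [h0] at this
    exact Units.ext (by simpa using this)
  have e1 : (a : Fˣ) = (b : Fˣ) := by
    have := congrFun h3 1
    exact Units.ext (by simpa using this)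
  have hsm : smat (dg (a, b)) = (((a : Fˣ) : F)) • (1 : Matrix (Fin 3) (Fin 3) F) := by
    rw [su3mt2_hdg hT, e0, ← e1]
    ext i j
    fin_cases i <;> fin_cases j <;> simp [Matrix.diagonal]
  rw [Subgroup.mem_center_iff]
  intro g
  apply smat_inj
  rw [smat_mul, smat_mul, hsm, Matrix.mul_smul, Matrix.smul_mul, Matrix.mul_one, Matrix.one_mul]

end T

end Cfsg.Agent.Lib.Helper24.SU3M
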