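import Mathlib
import Cfsg.Agent.Lib.Helper24.SU3M.Defs
import Cfsg.Agent.Lib.Helper25.SU3P.Basic
import Cfsg.Agent.Lib.Helper18.U3PM2
import Cfsg.Agent.Lib.Helper16.SU3MT2

/-!
# Project SU3M (designer helper24), row T6 (`card_Ng`) (helper16), VERBATIM.
-/

set_option autoImplicit false

namespace Cfsg.Agent.Lib.Helper24.SU3M

open Cfsg.Agent.Lib.Helper19.U3P Cfsg.Agent.Lib.Helper25.SU3P Cfsg.Agent.Lib.helper14.SU3J Matrix

universe u

/-- counting `N ⊔ zpowers w` when `w` normalises `N`, `w ^ n = 1` and no smaller positive power of `w` lies in `N` -/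
theorem su3mt6_card_sup {G : Type*} [Group G] (N : Subgroup G) [Finite N] (w : G) (n : ℕ) (hn0 : 0 < n)
    (hwn : w ^ n = 1) (hconj : ∀ x ∈ N, w * x * w⁻¹ ∈ N) (hconj' : ∀ x ∈ N, w⁻¹ * x * w ∈ N)
    (hout : ∀ k, 0 < k → k < n → w ^ k ∉ N) :
    Nat.card ↥(N ⊔ Subgroup.zpowers w) = n * Nat.card N := by
  have hcl : Subgroup.closure ((N : Set G) ∪ {w}) = N ⊔ Subgroup.zpowers w := by
    rw [Subgroup.closure_union, Subgroup.closure_eq, Subgroup.zpowers_eq_closure]
  obtain ⟨hfin, hle⟩ := card_ext_cyclic N w n hn0 (by rw [hwn]; exact N.one_mem) hconj hconj'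
  rw [hcl] at hfin hle
  refine le_antisymm hle ?_
  have key : ∀ (x y : N) (i j : ℕ), i ≤ j → j < n → (x : G) * w ^ i = (y : G) * w ^ j → i = j := by
    intro x y i j hij hjn hxy
    by_contra hne
    have h1 : 0 < j - i := by omega
    have h2 : w ^ (j - i) = (y : G)⁻¹ * (x : G) := by
      rw [← pow_sub_mul_pow w hij, ← mul_assoc] at hxy
      have := mul_right_cancel hxy
      rw [this, inv_mul_cancel_left]
    exact hout (j - i) h1 (by omega) (h2 ▸ N.mul_mem (N.inv_mem y.2) x.2)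
  let f : N × Fin n → ↥(N ⊔ Subgroup.zpowers w) := fun p =>
    ⟨(p.1 : G) * w ^ (p.2 : ℕ), mul_mem (Subgroup.mem_sup_left p.1.2)
      (Subgroup.mem_sup_right (pow_mem (Subgroup.mem_zpowers w) _))⟩
  have hf : Function.Injective f := by
    rintro ⟨x, i⟩ ⟨y, j⟩ h
    have hxy : (x : G) * w ^ (i : ℕ) = (y : G) * w ^ (j : ℕ) := congrArg Subtype.val h
    have hij : (i : ℕ) = (j : ℕ) := by
      rcases le_total (i : ℕ) (j : ℕ) with h' | h'
      · exact key x y i j h' j.2 hxy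
      · exact (key y x j i h' i.2 hxy.symm).symm
    have hxy' : (x : G) = (y : G) := by
      rw [hij] at hxy
      exact mul_right_cancel hxy
    exact Prod.ext (Subtype.ext hxy') (Fin.ext hij)
  have := Nat.card_le_card_of_injective f hf
  rwa [Nat.card_prod, Nat.card_fin, mul_comm] at this

section T

variable {F : Type u} [Field F] [Fintype F] {q : ℕ}

/-- the number of `(q + 1)`-th roots of unity in the field with `q²` elements -/
theorem su3mt6_card_roots (hF : Fintype.card F = q ^ 2) : Nat.card ↥(rootsOfUnity (q + 1) F) = q + 1 := by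
  classical
  obtain ⟨g, hg⟩ := IsCyclic.exists_generator (α := Fˣ)
  have ho : orderOf g = q ^ 2 - 1 := by
    rw [orderOf_eq_card_of_forall_mem_zpowers hg, Nat.card_eq_fintype_card, Fintype.card_units, hF]
  have hq : 1 ≤ q := by
    rcases Nat.eq_zero_or_pos q with h | h
    · rw [h] at hF
      have := Fintype.card_pos (α := F)
      simp at hF
    · exact h
  have hfac : q ^ 2 - 1 = (q - 1) * (q + 1) := by
    obtain ⟨k, rfl⟩ : ∃ k, q = k + 1 := ⟨q - 1, by omega⟩
    simp only [Nat.add_sub_cancel]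
    have : (k + 1) ^ 2 = k * (k + 1 + 1) + 1 := by ring
    omega
  have hpos : 0 < q ^ 2 - 1 := by
    have := Fintype.one_lt_card (α := F)
    omega
  have hprim : IsPrimitiveRoot g (q ^ 2 - 1) := ho ▸ IsPrimitiveRoot.orderOf g
  have h2 : IsPrimitiveRoot (g ^ (q - 1)) (q + 1) := hprim.pow hpos hfac
  have h3 : IsPrimitiveRoot ((g ^ (q - 1) : Fˣ) : F) (q + 1) := IsPrimitiveRoot.coe_units_iff.mpr h2
  exact h3.card_rootsOfUnity

variable {dg : (↥(rootsOfUnity (q + 1) F) × ↥(rootsOfUnity (q + 1) F)) →* ↥(Cfsg.SU 3 F q)} {w s : ↥(Cfsg.SU 3 F q)}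

/-- `dg` is injective -/
theorem su3mt6_dg_inj (hT : Tor q dg w s) : Function.Injective dg := by
  rintro ⟨a, b⟩ ⟨a', b'⟩ h
  have h2 := congrArg smat h
  rw [su3mt2_hdg hT, su3mt2_hdg hT] at h2
  have h3 := Matrix.diagonal_injective h2
  have e0 : a = a' := Subtype.ext (Units.ext (by simpa using congrFun h3 0))
  have e1 : b = b' := Subtype.ext (Units.ext (by simpa using congrFun h3 1))
  rw [e0, e1]

/-- `w ^ 3 = 1` -/
theorem su3mt6_w_pow (hT : Tor q dg w s) : w ^ 3 = 1 := by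
  apply smat_inj
  rw [smat_pow, smat_one, hT.hw]
  ext i j
  fin_cases i <;> fin_cases j <;>
    simp [pow_succ, Matrix.mul_apply, Fin.sum_univ_three]

/-- `w` is not diagonal -/
theorem su3mt6_w_notMem (hT : Tor q dg w s) : w ∉ dg.range := by
  rintro ⟨⟨a, b⟩, h⟩
  have h2 := congrArg smat h
  rw [su3mt2_hdg hT, hT.hw] at h2
  have := congrFun (congrFun h2 1) 0
  simp at this

/-- T6 [M-L] -/
theorem card_Ng {dg : (↥(rootsOfUnity (q + 1) F) × ↥(rootsOfUnity (q + 1) F)) →* ↥(Cfsg.SU 3 F q)} {w s : ↥(Cfsg.SU 3 F q)} (hT : Tor q dg w s)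
    (hF : Fintype.card F = q ^ 2) : Nat.card ↥(Ng dg w) = 3 * (q + 1) ^ 2 := by
  have hw3 := su3mt6_w_pow hT
  have hcard : Nat.card ↥dg.range = (q + 1) ^ 2 := by
    rw [← Nat.card_congr (MonoidHom.ofInjective (su3mt6_dg_inj hT)).toEquiv, Nat.card_prod,
      su3mt6_card_roots hF, sq]
  have hconj : ∀ x ∈ dg.range, w * x * w⁻¹ ∈ dg.range := by
    rintro _ ⟨⟨a, b⟩, rfl⟩
    exact ⟨_, ((tor_conj hT a b).2.1).symm⟩
  have hconj' : ∀ x ∈ dg.range, w⁻¹ * x * w ∈ dg.range := by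
    rintro _ ⟨⟨a, b⟩, rfl⟩
    exact ⟨_, ((tor_conj hT a b).2.2).symm⟩
  have hout : ∀ k, 0 < k → k < 3 → w ^ k ∉ dg.range := by
    intro k hk0 hk3 hmem
    have hk : k = 1 ∨ k = 2 := by omega
    rcases hk with rfl | rfl
    · rw [pow_one] at hmem
      exact su3mt6_w_notMem hT hmem
    · have h1 : w = (w ^ 2)⁻¹ := by
        apply eq_inv_of_mul_eq_one_left
        rw [← pow_succ', hw3]
      exact su3mt6_w_notMem hT (h1 ▸ dg.range.inv_mem hmem)
  have := su3mt6_card_sup dg.range w 3 (by norm_num) hw3 hconj hconj' hout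
  rw [Ng, this, hcard]

end T

end Cfsg.Agent.Lib.Helper24.SU3M
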