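import Mathlib
import Cfsg.Agent.Lib.Helper24.SU3M.Defs
import Cfsg.Agent.Lib.Helper25.SU3P.Main
import Cfsg.Agent.Lib.Helper16.SU3MT6

/-!
# Project SU3M (designer helper24), row T7 (`Ng_index`) (helper16): CORE, with the statement of NT5 (`nt_plus`) as a hypothesis.
-/

set_option autoImplicit false

namespace Cfsg.Agent.Lib.Helper24.SU3M

open Cfsg.Agent.Lib.Helper19.U3P Cfsg.Agent.Lib.Helper25.SU3P Cfsg.Agent.Lib.helper14.SU3J Matrix

universe u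

section T

variable {F : Type u} [Field F] [Fintype F] {q : ℕ}

/-- T7 core: `hnt` is the statement of NT5 `nt_plus` -/
theorem su3mt7_core
    (hnt : ∀ (q r m : ℕ) (_ : r.Prime) (_ : r ≠ 2) (_ : 2 ≤ q) (_ : r ∣ q + 1)
      (_ : m * (3 * (q + 1) ^ 2) = q ^ 3 * ((q ^ 2 - 1) * (q ^ 3 + 1))), ¬ r ∣ m)
    {dg : (↥(rootsOfUnity (q + 1) F) × ↥(rootsOfUnity (q + 1) F)) →* ↥(Cfsg.SU 3 F q)} {w s : ↥(Cfsg.SU 3 F q)} (hT : Tor q dg w s)
    (hF : Fintype.card F = q ^ 2) (r : ℕ) (hr : r.Prime) (hr2 : r ≠ 2) (h : r ∣ q + 1) : ¬ r ∣ (Ng dg w).index := by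
  have hq : 2 ≤ q := by
    by_contra hlt
    have h1 : q ≤ 1 := by omega
    have h2 := Nat.pow_le_pow_left h1 2
    have h3 := Fintype.one_lt_card (α := F)
    omega
  refine hnt q r _ hr hr2 hq h ?_
  rw [← card_Ng hT hF, Subgroup.index_mul_card, card_SU3 hF]

end T

end Cfsg.Agent.Lib.Helper24.SU3M
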