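import Mathlib
import Cfsg.Agent.Lib.Helper24.SU3M.Defs
import Cfsg.Agent.Lib.Helper16.SU3MT7core
import Cfsg.Agent.Lib.Helper20.SU3MNT1

/-!
# Project SU3M (designer helper24), row T7 (`Ng_index`) (helper16), VERBATIM (on T6 `card_Ng` and NT5 `nt_plus`).
-/

set_option autoImplicit false

namespace Cfsg.Agent.Lib.Helper24.SU3M

open Cfsg.Agent.Lib.Helper19.U3P Cfsg.Agent.Lib.Helper25.SU3P Cfsg.Agent.Lib.helper14.SU3J Matrix

universe u

section T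

variable {F : Type u} [Field F] [Fintype F] {q : ℕ}

/-- T7 [S] -/
theorem Ng_index {dg : (↥(rootsOfUnity (q + 1) F) × ↥(rootsOfUnity (q + 1) F)) →* ↥(Cfsg.SU 3 F q)} {w s : ↥(Cfsg.SU 3 F q)} (hT : Tor q dg w s)
    (hF : Fintype.card F = q ^ 2) (r : ℕ) (hr : r.Prime) (hr2 : r ≠ 2) (h : r ∣ q + 1) : ¬ r ∣ (Ng dg w).index :=
  su3mt7_core nt_plus hT hF r hr hr2 h

end T

end Cfsg.Agent.Lib.Helper24.SU3M
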