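import Mathlib
import Cfsg.Agent.Lib.Helper16.OReal3

set_option autoImplicit false
set_option linter.unusedSectionVars false
set_option linter.unusedSimpArgs false
set_option linter.unusedVariables false
set_option linter.unusedTactic false

namespace Cfsg.Agent.Lib.Helper16.OSemi

open Matrix Module Cfsg.Agent.Lib.Helper16.SpSemi

universe u

variable {F : Type u} [Field F] {m : ℕ}

/-- `quadFormOdd` as a bundled quadratic form. -/
noncomputable def quadOddQF (F : Type u) [Field F] (m : ℕ) : QuadraticForm F (OI m → F) :=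
  (Matrix.toBilin' (S0 F m)).toQuadraticMap

theorem quadOddQF_apply (h2 : (2 : F) ≠ 0) (v : OI m → F) :
    quadOddQF F m v = Cfsg.quadFormOdd m F v := by
  unfold quadOddQF
  rw [LinearMap.BilinMap.toQuadraticMap_apply, Matrix.toBilin'_apply', S0_quad h2]

theorem S0_transpose : (S0 F m)ᵀ = S0 F m := by
  unfold S0
  rw [Matrix.fromBlocks_transpose, Matrix.fromBlocks_transpose]
  simp only [Matrix.transpose_zero, Matrix.transpose_one, Matrix.transpose_smul]

theorem quadOddQF_polar (x y : OI m → F) :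
    QuadraticMap.polar (quadOddQF F m) x y = 2 * (x ⬝ᵥ S0 F m *ᵥ y) := by
  unfold quadOddQF
  rw [LinearMap.BilinMap.polar_toQuadraticMap, Matrix.toBilin'_apply', Matrix.toBilin'_apply',
    sym_bilin_comm (S0 F m) S0_transpose y x]
  ring

theorem quadOddQF_nondeg (h2 : (2 : F) ≠ 0) :
    (QuadraticMap.polarBilin (quadOddQF F m)).Nondegenerate := by
  have hsep : ∀ x : OI m → F, (∀ y, QuadraticMap.polar (quadOddQF F m) x y = 0) → x = 0 := by
    intro x hx
    have h1 : S0 F m *ᵥ x = 0 := by
      funext k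
      have h3 := hx (Pi.single k 1)
      rw [quadOddQF_polar, sym_bilin_comm (S0 F m) S0_transpose, single_one_dotProduct] at h3
      rcases mul_eq_zero.mp h3 with h | h
      · exact absurd h h2
      · exact h
    have h4 := congrArg (fun v => S0i F m *ᵥ v) h1
    simp only [Matrix.mulVec_mulVec, S0i_mul_S0 h2, Matrix.one_mulVec, Matrix.mulVec_zero] at h4
    exact h4
  constructor
  · intro x hx
    exact hsep x hx
  · intro y hy
    apply hsep y
    intro x
    rw [QuadraticMap.polar_comm]
    exact hy x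

theorem o_odd_conj_iff [Fintype F] {p : ℕ} [Fact p.Prime] [CharP F p] (h2 : (2 : F) ≠ 0)
    (A B : ↥(Cfsg.isometryGroup F (Cfsg.quadFormOdd m F))) (hodd : Odd (orderOf A))
    (hA : (orderOf A).Coprime p) :
    IsConj A B ↔ IsConj ((A : GL (OI m) F) : Matrix (OI m) (OI m) F)
      ((B : GL (OI m) F) : Matrix (OI m) (OI m) F) := by
  constructor
  · intro h
    obtain ⟨c, hc⟩ := isConj_iff.mp h
    have h1 : c * A = B * c := by rw [← hc]; group
    have h2 : c.1.1 * A.1.1 = B.1.1 * c.1.1 := by
      have := congrArg (fun x : ↥(Cfsg.isometryGroup F (Cfsg.quadFormOdd m F)) => x.1.1) h1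
      exact this
    exact ⟨c.1, h2⟩
  · rintro ⟨P, hP⟩
    have hP' : P.1 * A.1.1 = B.1.1 * P.1 := hP
    obtain ⟨N, hN⟩ : ∃ N, N = orderOf A := ⟨_, rfl⟩
    have hAN : A.1.1 ^ N = 1 := by
      have h1 : A ^ N = 1 := by rw [hN]; exact pow_orderOf_eq_one A
      have := congrArg (fun x : ↥(Cfsg.isometryGroup F (Cfsg.quadFormOdd m F)) => x.1.1) h1
      simp only [Subgroup.coe_pow, Units.val_pow_eq_pow_val, OneMemClass.coe_one, Units.val_one] at this
      exact this
    have hNF : (N : F) ≠ 0 := by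
      intro h0
      rw [CharP.cast_eq_zero_iff F p] at h0
      rw [← hN] at hA
      have h1 : p ∣ Nat.gcd N p := Nat.dvd_gcd h0 dvd_rfl
      rw [hA] at h1
      exact (Fact.out : p.Prime).one_lt.ne' (Nat.dvd_one.mp h1)
    rw [← hN] at hodd
    have hAQ : ∀ x, quadOddQF F m (A.1.1 *ᵥ x) = quadOddQF F m x := by
      intro x
      rw [quadOddQF_apply h2, quadOddQF_apply h2]
      exact iso_pres _ A x
    have hBQ : ∀ x, quadOddQF F m (B.1.1 *ᵥ x) = quadOddQF F m x := by
      intro x
      rw [quadOddQF_apply h2, quadOddQF_apply h2]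
      exact iso_pres _ B x
    obtain ⟨g, hg⟩ := o_conj_core (quadOddQF F m) (quadOddQF_nondeg h2) A.1.1 B.1.1 P.1 hAQ hBQ
      P.isUnit hP' N hodd hNF hAN
    have hgmem : (g : GL (OI m) F) ∈ Cfsg.isometryGroup F (Cfsg.quadFormOdd m F) := by
      rw [mem_iso_iff]
      intro x
      have := iso_pres _ g x
      rw [quadOddQF_apply h2, quadOddQF_apply h2] at this
      exact this
    apply isConj_iff.mpr
    refine ⟨⟨g.1, hgmem⟩, ?_⟩
    rw [mul_inv_eq_iff_eq_mul]
    apply Subtype.ext
    apply Units.ext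
    exact hg

end Cfsg.Agent.Lib.Helper16.OSemi
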