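import Mathlib
import Cfsg.Agent.Lib.Helper16.GUSemi6
import Cfsg.Agent.Lib.Helper16.GUSemi2

set_option autoImplicit false
set_option linter.unusedSectionVars false
set_option linter.unusedSimpArgs false
set_option linter.unusedVariables false
set_option linter.unusedTactic false

namespace Cfsg.Agent.Lib.Helper16.SpSemi

open Matrix Module Polynomial Cfsg.Agent.Lib.Helper16.GUSemi

theorem nt_even (r : ℕ) [Fact r.Prime] (hr2 : r ≠ 2) (x : ZMod r) (i : ℕ) (hi : i = orderOf x)
    (hi0 : 0 < i) : (∃ j : ℕ, x ^ j = -1) ↔ Even i := by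
  have hr : r.Prime := Fact.out
  have hne : (-1 : ZMod r) ≠ 1 := by
    intro h
    have h2 : (2 : ZMod r) = 0 := by
      have : (1 : ZMod r) + 1 = 0 := by
        nth_rewrite 1 [← h]; ring
      rw [← this]; ring
    have h3 : ((2 : ℕ) : ZMod r) = 0 := by exact_mod_cast h2
    rw [ZMod.natCast_eq_zero_iff] at h3
    have := (Nat.prime_dvd_prime_iff_eq hr Nat.prime_two).mp h3
    exact hr2 this
  constructor
  · rintro ⟨j, hj⟩
    have h1 : x ^ (2 * j) = 1 := by
      rw [mul_comm, pow_mul, hj]; ring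
    have h2 : i ∣ 2 * j := by rw [hi]; exact orderOf_dvd_of_pow_eq_one h1
    have h3 : ¬ i ∣ j := by
      intro h
      rw [hi] at h
      have := orderOf_dvd_iff_pow_eq_one.mp h
      rw [hj] at this
      exact hne this
    rcases Nat.even_or_odd i with he | ho
    · exact he
    · exfalso
      apply h3
      have hcop : Nat.Coprime i 2 := Nat.coprime_two_right.mpr ho
      exact hcop.dvd_of_dvd_mul_left h2
  · rintro ⟨j, hj⟩
    refine ⟨j, ?_⟩
    have h1 : (x ^ j) * (x ^ j) = 1 := by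
      rw [← pow_add, ← hj, hi, pow_orderOf_eq_one]
    have h2 : x ^ j = 1 ∨ x ^ j = -1 := mul_self_eq_one_iff.mp h1
    rcases h2 with h2 | h2
    · exfalso
      have h3 : i ∣ j := by rw [hi]; exact orderOf_dvd_of_pow_eq_one h2
      have := Nat.le_of_dvd (by omega) h3
      omega
    · exact h2

variable {K : Type*} [Field K] {E : Type*} [Field E] [Algebra K E]

theorem dual_root_iff_id [Fintype K] {p q : ℕ} [Fact p.Prime] [CharP K p]
    (hK : Fintype.card K = q) (r : ℕ) [Fact r.Prime] (hrp : r ≠ p) (f : K[X]) (hf : f ≠ 0)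
    (i : ℕ) (hdeg : f.natDegree = i) (hi : i = orderOf ((q : ℕ) : ZMod r)) (ω : E)
    (hω : aeval ω f = 0) (hωr : ω ^ r = 1) (hω1 : ω ≠ 1) :
    aeval ω (dualP (RingHom.id K) f) = 0 ↔ ∃ j : ℕ, (q : ZMod r) ^ j = -1 := by
  classical
  have hr : r.Prime := Fact.out
  have hp : p.Prime := Fact.out
  obtain ⟨a, -, hqa⟩ := FiniteField.card K p
  rw [hK] at hqa
  have hq0 : 0 < q := by rw [hqa]; exact pow_pos hp.pos _
  have hcE : CharP E p := charP_of_injective_algebraMap (algebraMap K E).injective p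
  obtain ⟨φ, hφ⟩ : ∃ φ : E →+* E, ∀ x, φ x = x ^ q :=
    ⟨iterateFrobenius E p a, fun x => by rw [iterateFrobenius_def, hqa]⟩
  have hφK : ∀ c : K, φ (algebraMap K E c) = algebraMap K E ((RingHom.id K) c) := by
    intro c
    rw [hφ, RingHom.id_apply, ← map_pow, ← hK, FiniteField.pow_card]
  have hQ : ∀ β : E, aeval (β ^ q) f = (aeval β f) ^ q := by
    intro β
    have := aeval_frob φ (RingHom.id K) hφK β f
    rw [Polynomial.map_id, hφ, hφ] at this
    exact this
  have hωo : orderOf ω = r := orderOf_eq_prime hωr hω1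
  have hω0 : ω ≠ 0 := by
    intro h0
    rw [h0, zero_pow hr.ne_zero] at hωr
    exact zero_ne_one hωr
  have h1 : aeval ω (dualP (RingHom.id K) f) = 0 ↔ aeval ω⁻¹ f = 0 := by
    let _ : Invertible (ω⁻¹) := ⟨ω, mul_inv_cancel₀ hω0, inv_mul_cancel₀ hω0⟩
    have := eval₂_reflect_eq_zero_iff (algebraMap K E) (ω⁻¹) f.natDegree
      (f.map (RingHom.id K)) natDegree_map_le
    rw [aeval_def, aeval_def]
    unfold dualP
    rw [Polynomial.map_id] at this ⊢
    exact this
  obtain ⟨r', hr'⟩ : ∃ r', r = r' + 1 := ⟨r - 1, by have := hr.two_le; omega⟩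
  have hinv : ω⁻¹ = ω ^ r' := by
    apply inv_eq_of_mul_eq_one_right
    rw [← pow_succ', ← hr', hωr]
  rw [h1, hinv, roots_of_frob f hf i q r hq0 hdeg hi hQ ω hω hωo r']
  have hcast : (r' : ZMod r) = -1 := by
    have : ((r' + 1 : ℕ) : ZMod r) = 0 := by rw [← hr']; exact ZMod.natCast_self r
    push_cast at this
    exact eq_neg_of_add_eq_zero_left this
  rw [hcast]
  constructor
  · rintro ⟨j, hj⟩; exact ⟨j, hj.symm⟩
  · rintro ⟨j, hj⟩; exact ⟨j, hj.symm⟩

end Cfsg.Agent.Lib.Helper16.SpSemi
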