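import Mathlib
import Cfsg.Agent.Lib.Helper16.SpReal2
import Cfsg.Agent.Lib.Helper16.RegSp
import Cfsg.Agent.Lib.Helper16.Symplectic

set_option autoImplicit false
set_option linter.unusedSectionVars false
set_option linter.unusedSimpArgs false
set_option linter.unusedVariables false
set_option linter.unusedTactic false

namespace Cfsg.Agent.Lib.Helper16.SpSemi

open Matrix Module Polynomial Cfsg.Agent.Lib.Helper16.RN

universe u

variable {K : Type u} [Field K] {ι : Type} [Fintype ι] [DecidableEq ι]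

theorem exists_alt_invariant [Fintype K] (G P : Matrix ι ι K) (r : ℕ) (hrodd : Odd r)
    (hrF : (r : K) ≠ 0) (hG : G ^ r = 1) (hP : IsUnit P) (hGP : Gᵀ * P * G = P)
    (hcard : Even (Fintype.card ι)) :
    ∃ H : Matrix ι ι K, (∀ x : ι → K, x ⬝ᵥ H *ᵥ x = 0) ∧ IsUnit H ∧ Gᵀ * H * G = H := by
  classical
  obtain ⟨H', ε, e, c, d, hεe, hidem, hεG, hGe, ⟨u, huε, hεu⟩, hH', hdc, hce, hcG, hskew, hinv⟩ :=
    exists_skew_invariant G P r hrodd hrF hG hP hGP
  obtain ⟨Pinv, hPi⟩ := hP.exists_right_inv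
  have hPi' : Pinv * P = 1 := mul_eq_one_comm.mp hPi
  have he : e = 1 - ε := by rw [← hεe]; abel
  have hεe0 : ε * e = 0 := by rw [he, mul_sub, mul_one, hidem, sub_self]
  have heε0 : e * ε = 0 := by rw [he, sub_mul, one_mul, hidem, sub_self]
  have hee : e * e = e := by
    have : e * e = e * (1 - ε) := by rw [← he]
    rw [this, mul_sub, mul_one, heε0, sub_zero]
  have heG : e * G = G * e := by rw [he, sub_mul, mul_sub, one_mul, mul_one, hεG]
  have hH'e : H' * e = 0 := by rw [hH', mul_assoc, hce, mul_zero]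
  have hskew' : ∀ x y : ι → K, y ⬝ᵥ H' *ᵥ x = -(x ⬝ᵥ H' *ᵥ y) := by
    intro x y
    rw [Matrix.dotProduct_mulVec, ← Matrix.mulVec_transpose, hskew, Matrix.neg_mulVec,
      neg_dotProduct, dotProduct_comm]
  have hkerH' : ∀ x : ι → K, H' *ᵥ x = 0 → ε *ᵥ x = 0 := by
    intro x hx
    have h1 : c *ᵥ x = 0 := by
      have := congrArg (fun v => Pinv *ᵥ v) hx
      simp only [hH', Matrix.mulVec_mulVec, ← mul_assoc, hPi', one_mul, Matrix.mulVec_zero] at this
      exact this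
    have h2 := congrArg (fun v => d *ᵥ v) h1
    simp only [Matrix.mulVec_mulVec, hdc, Matrix.mulVec_zero] at h2
    exact h2
  -- alternating
  have halt : ∀ x : ι → K, x ⬝ᵥ H' *ᵥ x = 0 := by
    obtain ⟨q, hq⟩ : ∃ q : (ι → K) → K, ∀ x, q x = x ⬝ᵥ H' *ᵥ x := ⟨_, fun x => rfl⟩
    have hqadd : ∀ x y, q (x + y) = q x + q y := by
      intro x y
      rw [hq, hq, hq, Matrix.mulVec_add, add_dotProduct, dotProduct_add, dotProduct_add,
        hskew' x y]
      ring
    have hqG : ∀ x, q (G *ᵥ x) = q x := by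
      intro x
      rw [hq, hq, ← bilin_congr, hinv]
    have hqneg : ∀ x, q (-x) = q x := by
      intro x
      rw [hq, hq, Matrix.mulVec_neg, neg_dotProduct, dotProduct_neg, neg_neg]
    have hq2 : ∀ x, q x + q x = 0 := by
      intro x
      have h1 := hqadd x x
      have h2 : q (x + x) = 4 * q x := by
        rw [hq, hq, ← two_smul K x, Matrix.mulVec_smul, smul_dotProduct, dotProduct_smul,
          smul_eq_mul, smul_eq_mul]
        ring
      rw [h2] at h1
      linear_combination h1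
    have hqG1 : ∀ x, q ((G - 1) *ᵥ x) = 0 := by
      intro x
      have h1 : (G - 1) *ᵥ x = -x + G *ᵥ x := by
        rw [Matrix.sub_mulVec, Matrix.one_mulVec]; abel
      rw [h1, hqadd, hqneg, hqG]
      exact hq2 x
    intro x
    have hx : x = ε *ᵥ x + e *ᵥ x := by rw [← Matrix.add_mulVec, hεe, Matrix.one_mulVec]
    have h1 : q (ε *ᵥ x) = 0 := by
      rw [← huε, ← Matrix.mulVec_mulVec]
      exact hqG1 _
    have h2 : q (e *ᵥ x) = 0 := by
      rw [hq, Matrix.mulVec_mulVec, hH'e, Matrix.zero_mulVec, dotProduct_zero]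
    rw [← hq, hx, hqadd, h1, h2, add_zero]
  have hnd : ∀ x : ι → K, ε *ᵥ x = x →
      (∀ y : ι → K, ε *ᵥ y = y → x ⬝ᵥ H' *ᵥ y = 0) → x = 0 := by
    intro x hx h
    have h1 : ∀ v : ι → K, v ⬝ᵥ H' *ᵥ x = 0 := by
      intro v
      rw [hskew' x v]
      have hv : v = ε *ᵥ v + e *ᵥ v := by rw [← Matrix.add_mulVec, hεe, Matrix.one_mulVec]
      rw [hv, Matrix.mulVec_add, dotProduct_add, h _ (by rw [Matrix.mulVec_mulVec, hidem]),
        Matrix.mulVec_mulVec, hH'e, Matrix.zero_mulVec, dotProduct_zero, add_zero, neg_zero]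
    have h2 : H' *ᵥ x = 0 := by
      funext i
      have := h1 (Pi.single i 1)
      simpa using this
    rw [← hx]
    exact hkerH' x h2
  obtain ⟨k', hk'⟩ := alt_rank_even H' ε hidem halt hnd
  have hrk : finrank K (LinearMap.range (Matrix.toLin' e))
      + finrank K (LinearMap.range (Matrix.toLin' ε)) = Fintype.card ι := by
    have h1 := LinearMap.finrank_range_add_finrank_ker (Matrix.toLin' e)
    rw [Module.finrank_fintype_fun_eq_card] at h1
    have h2 : LinearMap.ker (Matrix.toLin' e) = LinearMap.range (Matrix.toLin' ε) := by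
      ext x
      rw [LinearMap.mem_ker, LinearMap.mem_range, Matrix.toLin'_apply]
      constructor
      · intro h
        refine ⟨x, ?_⟩
        rw [Matrix.toLin'_apply]
        have hx : x = ε *ᵥ x + e *ᵥ x := by rw [← Matrix.add_mulVec, hεe, Matrix.one_mulVec]
        rw [h, add_zero] at hx
        exact hx.symm
      · rintro ⟨v, rfl⟩
        rw [Matrix.toLin'_apply, Matrix.mulVec_mulVec, heε0, Matrix.zero_mulVec]
    rw [h2] at h1
    exact h1
  obtain ⟨k, hk⟩ : ∃ k, finrank K (LinearMap.range (Matrix.toLin' e)) = k + k := by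
    obtain ⟨j, hj⟩ := hcard
    refine ⟨j - k', ?_⟩
    omega
  obtain ⟨L, R, hLR, hRL⟩ := idem_factor e hee (κ := Fin k ⊕ Fin k)
    (by rw [Fintype.card_sum, Fintype.card_fin, hk])
  have heR : e * R = R := by rw [← hRL, Matrix.mul_assoc, hLR, Matrix.mul_one]
  have hLe : L * e = L := by rw [← hRL, ← Matrix.mul_assoc, hLR, Matrix.one_mul]
  have hLG : L * G = L := by
    calc L * G = L * e * G := by rw [hLe]
      _ = L * (G * e) := by rw [Matrix.mul_assoc, heG]
      _ = L := by rw [hGe, hLe]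
  have hH'R : H' * R = 0 := by rw [← heR, ← Matrix.mul_assoc, hH'e, Matrix.zero_mul]
  have hRH' : Rᵀ * H' = 0 := by
    have h1 := congrArg Matrix.transpose hH'R
    rw [Matrix.transpose_mul, hskew, Matrix.transpose_zero, Matrix.mul_neg, neg_eq_zero] at h1
    exact h1
  refine ⟨H' + Lᵀ * Matrix.J (Fin k) K * L, ?_, ?_, ?_⟩
  · intro x
    rw [Matrix.add_mulVec, dotProduct_add, halt, bilin_congr', J_alt, add_zero]
  · rw [← Matrix.mulVec_injective_iff_isUnit]
    suffices hker : ∀ x : ι → K, (H' + Lᵀ * Matrix.J (Fin k) K * L) *ᵥ x = 0 → x = 0 by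
      intro x y hxy
      have : (H' + Lᵀ * Matrix.J (Fin k) K * L) *ᵥ (x - y) = 0 := by
        rw [Matrix.mulVec_sub]
        exact sub_eq_zero.mpr hxy
      exact sub_eq_zero.mp (hker _ this)
    intro x hx
    have hx' : H' *ᵥ x + (Lᵀ * Matrix.J (Fin k) K * L) *ᵥ x = 0 := by
      rw [← Matrix.add_mulVec]; exact hx
    have h1 : Matrix.J (Fin k) K *ᵥ (L *ᵥ x) = 0 := by
      have := congrArg (fun v => Rᵀ *ᵥ v) hx'
      simp only [Matrix.mulVec_add, Matrix.mulVec_mulVec, hRH', Matrix.zero_mulVec, zero_add,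
        Matrix.mulVec_zero] at this
      rw [← Matrix.mul_assoc, ← Matrix.mul_assoc, ← Matrix.transpose_mul, hLR, Matrix.transpose_one,
        Matrix.one_mul, ← Matrix.mulVec_mulVec] at this
      exact this
    have h2 : L *ᵥ x = 0 := by
      have h := congrArg (fun v => (-Matrix.J (Fin k) K) *ᵥ v) h1
      simp only [Matrix.mulVec_zero] at h
      rw [Matrix.mulVec_mulVec _ (-Matrix.J (Fin k) K) (Matrix.J (Fin k) K), negJ_mul_J,
        Matrix.one_mulVec] at h
      exact h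
    have h3 : e *ᵥ x = 0 := by
      rw [← hRL, ← Matrix.mulVec_mulVec, h2, Matrix.mulVec_zero]
    have h4 : H' *ᵥ x = 0 := by
      have h5 : (Lᵀ * Matrix.J (Fin k) K * L) *ᵥ x = 0 := by
        rw [← Matrix.mulVec_mulVec, h2, Matrix.mulVec_zero]
      rw [h5, add_zero] at hx'
      exact hx'
    have h6 := hkerH' x h4
    have hxx : x = ε *ᵥ x + e *ᵥ x := by rw [← Matrix.add_mulVec, hεe, Matrix.one_mulVec]
    rw [hxx, h6, h3, add_zero]
  · rw [mul_add, add_mul, hinv]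
    congr 1
    calc Gᵀ * (Lᵀ * Matrix.J (Fin k) K * L) * G
        = (L * G)ᵀ * Matrix.J (Fin k) K * (L * G) := by
          rw [Matrix.transpose_mul]; simp only [Matrix.mul_assoc]
      _ = Lᵀ * Matrix.J (Fin k) K * L := by rw [hLG]

theorem exists_sp_conj {m : ℕ} (G H : Matrix (Fin m ⊕ Fin m) (Fin m ⊕ Fin m) K)
    (halt : ∀ x : Fin m ⊕ Fin m → K, x ⬝ᵥ H *ᵥ x = 0) (hH : IsUnit H) (hinv : Gᵀ * H * G = H) :
    ∃ (Q : Matrix (Fin m ⊕ Fin m) (Fin m ⊕ Fin m) K) (B : Matrix.symplecticGroup (Fin m) K),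
      IsUnit Q ∧ Q * G = B.1 * Q := by
  classical
  obtain ⟨ω, hω⟩ : ∃ ω : LinearMap.BilinForm K (Fin m ⊕ Fin m → K), ω = Matrix.toBilin' H :=
    ⟨_, rfl⟩
  have hωalt : ω.IsAlt := by
    intro x
    rw [hω, Matrix.toBilin'_apply']
    exact halt x
  have hωnd : ω.Nondegenerate := by
    rw [hω]
    apply Matrix.Nondegenerate.toBilin'
    apply Matrix.nondegenerate_of_det_ne_zero
    exact ((Matrix.isUnit_iff_isUnit_det H).mp hH).ne_zero
  have hfr : finrank K (Fin m ⊕ Fin m → K) = 2 * m := by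
    rw [Module.finrank_fintype_fun_eq_card, Fintype.card_sum, Fintype.card_fin]; ring
  obtain ⟨b, hb⟩ := symplectic_basis hfr ω hωalt hωnd
  obtain ⟨Q0, hQ0⟩ : ∃ Q0, Q0 = (Pi.basisFun K (Fin m ⊕ Fin m)).toMatrix b := ⟨_, rfl⟩
  obtain ⟨Q0i, hQ0i⟩ : ∃ Q0i, Q0i = b.toMatrix (Pi.basisFun K (Fin m ⊕ Fin m)) := ⟨_, rfl⟩
  have h1 : Q0 * Q0i = 1 := by rw [hQ0, hQ0i]; exact Basis.toMatrix_mul_toMatrix_flip _ _
  have h1' : Q0i * Q0 = 1 := mul_eq_one_comm.mp h1
  have h2 : Q0ᵀ * H * Q0 = Matrix.J (Fin m) K := by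
    have := LinearMap.BilinForm.toMatrix_mul_basis_toMatrix (Pi.basisFun K (Fin m ⊕ Fin m)) b ω
    rw [LinearMap.BilinForm.toMatrix_basisFun, hb, hω, LinearMap.BilinForm.toMatrix'_toBilin',
      ← hQ0] at this
    exact this
  obtain ⟨B, hB⟩ : ∃ B, B = Q0i * G * Q0 := ⟨_, rfl⟩
  have hQ0iT : Q0iᵀ * Q0ᵀ = 1 := by rw [← Matrix.transpose_mul, h1, Matrix.transpose_one]
  have h3 : Bᵀ * Matrix.J (Fin m) K * B = Matrix.J (Fin m) K := by
    rw [hB, Matrix.transpose_mul, Matrix.transpose_mul, ← h2]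
    calc Q0ᵀ * (Gᵀ * Q0iᵀ) * (Q0ᵀ * H * Q0) * (Q0i * G * Q0)
        = Q0ᵀ * Gᵀ * (Q0iᵀ * Q0ᵀ) * H * (Q0 * Q0i) * G * Q0 := by simp only [mul_assoc]
      _ = Q0ᵀ * (Gᵀ * H * G) * Q0 := by rw [hQ0iT, h1, mul_one, mul_one]; simp only [mul_assoc]
      _ = Q0ᵀ * H * Q0 := by rw [hinv]
  have hBsp : B ∈ Matrix.symplecticGroup (Fin m) K := by
    rw [mem_sp_iff_adj]
    apply mul_eq_one_comm.mp
    rw [spAdj_apply]
    calc -Matrix.J (Fin m) K * Bᵀ * Matrix.J (Fin m) K * B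
        = -Matrix.J (Fin m) K * (Bᵀ * Matrix.J (Fin m) K * B) := by simp only [mul_assoc]
      _ = 1 := by rw [h3, negJ_mul_J]
  refine ⟨Q0i, ⟨B, hBsp⟩, IsUnit.of_mul_eq_one _ h1', ?_⟩
  show Q0i * G = B * Q0i
  rw [hB]
  calc Q0i * G = Q0i * G * (Q0 * Q0i) := by rw [h1, mul_one]
    _ = Q0i * G * Q0 * Q0i := by simp only [mul_assoc]

end Cfsg.Agent.Lib.Helper16.SpSemi
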