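import Mathlib
import Cfsg.Agent.Lib.Helper16.SpSemi2

set_option autoImplicit false
set_option linter.unusedSectionVars false
set_option linter.unusedSimpArgs false
set_option linter.unusedVariables false
set_option linter.unusedTactic false

namespace Cfsg.Agent.Lib.Helper16.SpSemi

open Matrix Module Polynomial Cfsg.Agent.Lib.Helper16.RN

universe u

variable {K : Type u} [Field K] {m : ℕ}

/-- assembling the pieces (purely ring-theoretic). -/
theorem assemble {E : Type*} [Ring E] (adj : E → E)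
    (hadd : ∀ a b, adj (a + b) = adj a + adj b) (hmul : ∀ a b, adj (a * b) = adj b * adj a)
    (A T ε e e₁ e₂ c' c₁ c₂ : E) (hεe : ε + e = 1) (he12 : e₁ + e₂ = e)
    (h12 : e₁ * e₂ = 0) (h21 : e₂ * e₁ = 0) (h11 : e₁ * e₁ = e₁) (h22 : e₂ * e₂ = e₂)
    (hadj1 : adj e₁ = e₁) (hadj2 : adj e₂ = e₂)
    (hA1 : A * e₁ = e₁) (hA2 : A * e₂ = -e₂) (hA1' : e₁ * A = e₁) (hA2' : e₂ * A = -e₂)
    (hc'A : c' * A = A * c')
    (hc'e : c' * e = 0) (hec' : e * c' = 0) (hae : adj c' * e = 0)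
    (hF1 : adj c' * c' = T * ε)
    (hc1a : e₁ * c₁ = c₁) (hc1b : c₁ * e₁ = c₁) (hc1 : adj c₁ * c₁ = T * e₁)
    (hc2a : e₂ * c₂ = c₂) (hc2b : c₂ * e₂ = c₂) (hc2 : adj c₂ * c₂ = T * e₂) :
    adj (c' + c₁ + c₂) * (c' + c₁ + c₂) = T ∧ (c' + c₁ + c₂) * A = A * (c' + c₁ + c₂) := by
  have hee1 : e * e₁ = e₁ := by rw [← he12, add_mul, h11, h21, add_zero]
  have hee2 : e * e₂ = e₂ := by rw [← he12, add_mul, h12, h22, zero_add]
  have he1e : e₁ * e = e₁ := by rw [← he12, mul_add, h11, h12, add_zero]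
  have he2e : e₂ * e = e₂ := by rw [← he12, mul_add, h21, h22, zero_add]
  have ha1 : adj c₁ = adj c₁ * e₁ := by
    conv_lhs => rw [← hc1a, hmul, hadj1]
  have ha2 : adj c₂ = adj c₂ * e₂ := by
    conv_lhs => rw [← hc2a, hmul, hadj2]
  have t1 : adj c' * c₁ = 0 := by
    rw [← hc1a, ← hee1, ← mul_assoc, ← mul_assoc, hae, zero_mul, zero_mul]
  have t2 : adj c' * c₂ = 0 := by
    rw [← hc2a, ← hee2, ← mul_assoc, ← mul_assoc, hae, zero_mul, zero_mul]
  have t3 : adj c₁ * c' = 0 := by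
    rw [ha1, ← he1e, mul_assoc, mul_assoc, hec', mul_zero, mul_zero]
  have t4 : adj c₂ * c' = 0 := by
    rw [ha2, ← he2e, mul_assoc, mul_assoc, hec', mul_zero, mul_zero]
  have t5 : adj c₁ * c₂ = 0 := by
    rw [ha1, ← hc2a, mul_assoc, ← mul_assoc e₁, h12, zero_mul, mul_zero]
  have t6 : adj c₂ * c₁ = 0 := by
    rw [ha2, ← hc1a, mul_assoc, ← mul_assoc e₂, h21, zero_mul, mul_zero]
  constructor
  · rw [hadd, hadd]
    simp only [add_mul, mul_add, t1, t2, t3, t4, t5, t6, hF1, hc1, hc2, add_zero, zero_add]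
    rw [← mul_add, ← mul_add, add_assoc, he12, hεe, mul_one]
  · have s1 : c₁ * A = c₁ := by rw [← hc1b, mul_assoc, hA1']
    have s2 : A * c₁ = c₁ := by rw [← hc1a, ← mul_assoc, hA1]
    have s3 : c₂ * A = -c₂ := by rw [← hc2b, mul_assoc, hA2', mul_neg]
    have s4 : A * c₂ = -c₂ := by rw [← hc2a, ← mul_assoc, hA2, neg_mul]
    rw [add_mul, add_mul, mul_add, mul_add, hc'A, s1, s2, s3, s4]

theorem sp_conj_core [Fintype K] (A B P : Matrix (Fin m ⊕ Fin m) (Fin m ⊕ Fin m) K)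
    (hA : A * spAdj K m A = 1) (hB : B * spAdj K m B = 1) (hP : IsUnit P) (hPA : P * A = B * P)
    (N : ℕ) (hN : (N : K) ≠ 0) (hAN : A ^ N = 1) :
    ∃ S : Matrix (Fin m ⊕ Fin m) (Fin m ⊕ Fin m) K, S * spAdj K m S = 1 ∧ S * A = B * S := by
  classical
  obtain ⟨adj, hadjdef⟩ : ∃ adj : Matrix (Fin m ⊕ Fin m) (Fin m ⊕ Fin m) K →
      Matrix (Fin m ⊕ Fin m) (Fin m ⊕ Fin m) K, ∀ a, adj a = spAdj K m a := ⟨_, fun a => rfl⟩
  have hadd : ∀ a b, adj (a + b) = adj a + adj b := by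
    intro a b; rw [hadjdef, hadjdef, hadjdef, map_add]
  have hmul : ∀ a b, adj (a * b) = adj b * adj a := by
    intro a b; rw [hadjdef, hadjdef, hadjdef, spAdj_mul]
  have hone : adj 1 = 1 := by rw [hadjdef, spAdj_one]
  have hinv : ∀ a, adj (adj a) = a := by intro a; rw [hadjdef, hadjdef, spAdj_spAdj]
  have hsmul : ∀ (a : K) x, adj (a • x) = a • adj x := by
    intro a x; rw [hadjdef, hadjdef, map_smul]
  rw [← hadjdef] at hA hB
  have hA' : adj A * A = 1 := mul_eq_one_comm.mp hA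
  have hB' : adj B * B = 1 := mul_eq_one_comm.mp hB
  have hN0 : N ≠ 0 := by rintro rfl; simp at hN
  obtain ⟨N', rfl⟩ : ∃ N', N = N' + 1 := ⟨N - 1, by omega⟩
  have hAinv : adj A = A ^ (N' + 1 - 1) := by
    rw [Nat.add_sub_cancel]
    calc adj A = adj A * (A * A ^ N') := by rw [← pow_succ', hAN, mul_one]
      _ = A ^ N' := by rw [← mul_assoc, hA', one_mul]
  obtain ⟨T, hT⟩ : ∃ T, T = adj P * P := ⟨_, rfl⟩
  have hTadj : adj T = T := by rw [hT, hmul, hinv]
  have hPB : adj P * B = A * adj P := by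
    have h1 := congrArg adj hPA
    rw [hmul, hmul] at h1
    calc adj P * B = (A * adj A) * adj P * B := by rw [hA, one_mul]
      _ = A * (adj A * adj P) * B := by simp only [mul_assoc]
      _ = A * (adj P * adj B) * B := by rw [h1]
      _ = A * adj P * (adj B * B) := by simp only [mul_assoc]
      _ = A * adj P := by rw [hB', mul_one]
  have hTA : T * A = A * T := by
    rw [hT, mul_assoc, hPA, ← mul_assoc, hPB, mul_assoc]
  have hTA' : T * adj A = adj A * T := by
    calc T * adj A = (adj A * A) * T * adj A := by rw [hA', one_mul]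
      _ = adj A * (A * T) * adj A := by simp only [mul_assoc]
      _ = adj A * (T * A) * adj A := by rw [hTA]
      _ = adj A * T * (A * adj A) := by simp only [mul_assoc]
      _ = adj A * T := by rw [hA, mul_one]
  obtain ⟨Pi, hPi⟩ := hP.exists_right_inv
  have hPi' : Pi * P = 1 := mul_eq_one_comm.mp hPi
  have hTu : IsUnit T := by
    apply IsUnit.of_mul_eq_one (Pi * adj Pi)
    rw [hT]
    calc adj P * P * (Pi * adj Pi) = adj P * (P * Pi) * adj Pi := by simp only [mul_assoc]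
      _ = adj (Pi * P) := by rw [hPi, mul_one, hmul]
      _ = 1 := by rw [hPi', hone]
  obtain ⟨S, hSdef⟩ : ∃ S : Set (Matrix (Fin m ⊕ Fin m) (Fin m ⊕ Fin m) K),
      S = {x | x = A ∨ x = adj A ∨ x = T ∨ ∃ a : K, x = a • 1} := ⟨_, rfl⟩
  have hcomm : ∀ a ∈ S, ∀ b ∈ S, a * b = b * a := by
    intro a ha b hb
    rw [hSdef] at ha hb
    rcases ha with rfl | rfl | rfl | ⟨a, rfl⟩ <;> rcases hb with rfl | rfl | rfl | ⟨b, rfl⟩
    · rfl
    · rw [hA, hA']
    · exact hTA.symm
    · rw [Matrix.mul_smul, Matrix.smul_mul, mul_one, one_mul]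
    · rw [hA, hA']
    · rfl
    · exact hTA'.symm
    · rw [Matrix.mul_smul, Matrix.smul_mul, mul_one, one_mul]
    · exact hTA
    · exact hTA'
    · rfl
    · rw [Matrix.mul_smul, Matrix.smul_mul, mul_one, one_mul]
    · rw [Matrix.mul_smul, Matrix.smul_mul, mul_one, one_mul]
    · rw [Matrix.mul_smul, Matrix.smul_mul, mul_one, one_mul]
    · rw [Matrix.mul_smul, Matrix.smul_mul, mul_one, one_mul]
    · rw [Matrix.smul_mul, Matrix.smul_mul, one_mul, one_mul, smul_comm]
  have hS : ∀ a ∈ S, adj a ∈ S := by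
    intro a ha
    rw [hSdef] at ha ⊢
    rcases ha with rfl | rfl | rfl | ⟨a, rfl⟩
    · right; left; rfl
    · left; exact hinv _
    · right; right; left; exact hTadj
    · right; right; right; exact ⟨a, by rw [hsmul, hone]⟩
  have hSS : ∀ a ∈ S, adj (adj a) = a := fun a _ => hinv a
  have hAS : A ∈ Subring.closure S := Subring.subset_closure (by rw [hSdef]; left; rfl)
  have hTS : T ∈ Subring.closure S :=
    Subring.subset_closure (by rw [hSdef]; right; right; left; rfl)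
  have hscal : ∀ (a : K) x, x ∈ Subring.closure S → a • x ∈ Subring.closure S := by
    intro a x hx
    have h1 : a • x = (a • (1 : Matrix (Fin m ⊕ Fin m) (Fin m ⊕ Fin m) K)) * x := by
      rw [Matrix.smul_mul, one_mul]
    rw [h1]
    exact mul_mem (Subring.subset_closure (by rw [hSdef]; right; right; right; exact ⟨a, rfl⟩)) hx
  have hcl := fun {x y : Matrix (Fin m ⊕ Fin m) (Fin m ⊕ Fin m) K} (hx : x ∈ Subring.closure S)
    (hy : y ∈ Subring.closure S) => FCR.commute_closure S hcomm hx hy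
  have hadjcl := fun {x : Matrix (Fin m ⊕ Fin m) (Fin m ⊕ Fin m) K} (hx : x ∈ Subring.closure S) =>
    FCR.adj_mem_closure adj hadd hmul hone S hS hx
  obtain ⟨k, hk1, hidem, hadjε, H1, -⟩ := FCR.key2 adj hadd hmul hone S hcomm hS hSS A hAS
  obtain ⟨D, hD⟩ : ∃ D, D = A - adj A := ⟨_, rfl⟩
  rw [← hD] at hidem hadjε H1
  have hDS : D ∈ Subring.closure S := by rw [hD]; exact sub_mem hAS (hadjcl hAS)
  have hfit : D * (1 - D ^ k) = 0 := by
    have := fitting_zero A (N' + 1) hN hAN k hk1 (by rw [← hAinv, ← hD]; exact hidem)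
    rw [← hAinv, ← hD] at this
    exact this
  obtain ⟨ε, hε⟩ : ∃ ε, ε = D ^ k := ⟨_, rfl⟩
  obtain ⟨e, he⟩ : ∃ e, e = 1 - ε := ⟨_, rfl⟩
  rw [← hε] at hidem hadjε H1 hfit
  rw [← he] at H1 hfit
  have hεS : ε ∈ Subring.closure S := by rw [hε]; exact pow_mem hDS k
  have heS : e ∈ Subring.closure S := by rw [he]; exact sub_mem (one_mem _) hεS
  have hεe : ε + e = 1 := by rw [he]; abel
  have hee : e * e = e := by
    have : (1 - ε) * (1 - ε) = 1 - ε - ε + ε * ε := by noncomm_ring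
    rw [he, this, hidem]; abel
  have hadje : adj e = e := by rw [he, FCR.adj_sub' adj hadd, hone, hadjε]
  obtain ⟨c', hc'S, hF1, hc'e⟩ := H1 T hTS hTu hTadj
  have hec' : e * c' = 0 := by rw [hcl heS hc'S]; exact hc'e
  have hae : adj c' * e = 0 := by
    have := congrArg adj hec'
    rw [hmul, hadje, FCR.adj_zero' adj hadd] at this
    exact this
  have hAe : A * e = adj A * e := by
    have : (A - adj A) * e = 0 := by rw [← hD]; exact hfit
    rw [sub_mul, sub_eq_zero] at this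
    exact this
  have hAAe : A * (A * e) = e := by rw [hAe, ← mul_assoc, hA, one_mul]
  have heA : e * A = A * e := hcl heS hAS
  -- the two eigen-idempotents
  obtain ⟨e₁, e₂, he12, h12, h21, h11, h22, hadj1, hadj2, hA1, hA2, he1S, he2S⟩ :
      ∃ e₁ e₂, e₁ + e₂ = e ∧ e₁ * e₂ = 0 ∧ e₂ * e₁ = 0 ∧ e₁ * e₁ = e₁ ∧ e₂ * e₂ = e₂ ∧
        adj e₁ = e₁ ∧ adj e₂ = e₂ ∧ A * e₁ = e₁ ∧ A * e₂ = -e₂ ∧
        e₁ ∈ Subring.closure S ∧ e₂ ∈ Subring.closure S := by
    by_cases h2 : (2 : K) = 0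
    · refine ⟨e, 0, add_zero _, mul_zero _, zero_mul _, hee, mul_zero _, hadje,
        FCR.adj_zero' adj hadd, ?_, by rw [mul_zero, neg_zero], heS, zero_mem _⟩
      have h3 : (A - 1) * e = 0 := by
        obtain ⟨Q, hQ⟩ : ∃ Q : K[X], Q = (X - 1) * (1 - (X - X ^ (N' + 1 - 1)) ^ k) := ⟨_, rfl⟩
        have hQe : aeval A Q = (A - 1) * e := by
          rw [hQ, he, hε, hD, hAinv]
          simp only [map_mul, map_sub, map_pow, aeval_X, map_one]
        rw [← hQe]
        apply aeval_eq_zero_of_pow A (N' + 1) hN hAN Q 2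
        rw [hQe, sq]
        have hAm1 : A - 1 ∈ Subring.closure S := sub_mem hAS (one_mem _)
        have h4 : (A - 1) * e * ((A - 1) * e) = (A - 1) * ((A - 1) * e) * e := by
          rw [mul_assoc, hcl heS (mul_mem hAm1 heS), ← mul_assoc]
        rw [h4]
        have h6 : (A - 1) * ((A - 1) * e) = (2 : K) • (e - A * e) := by
          rw [sub_mul, sub_mul, mul_sub, mul_sub, one_mul, one_mul, one_mul, hAAe, two_smul]
          abel
        rw [h6, h2, zero_smul, zero_mul]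
      rw [sub_mul, one_mul, sub_eq_zero] at h3
      exact h3
    · have h2i : (2⁻¹ : K) * 2 = 1 := inv_mul_cancel₀ h2
      have hhalf : (2⁻¹ : K) + 2⁻¹ = 1 := by rw [← two_mul, mul_comm]; exact h2i
      have hq : (2⁻¹ : K) * 2⁻¹ + 2⁻¹ * 2⁻¹ = 2⁻¹ := by rw [← add_mul, hhalf, one_mul]
      have hx1 : ∀ x y : Matrix (Fin m ⊕ Fin m) (Fin m ⊕ Fin m) K, ∀ a b : K,
          (a • x) * (b • y) = (a * b) • (x * y) := by
        intro x y a b
        rw [Matrix.smul_mul, Matrix.mul_smul, smul_smul]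
      have hp1 : (e + A * e) * (e + A * e) = (2 : K) • (e + A * e) := by
        have e1 : e * (A * e) = A * e := by rw [← mul_assoc, heA, mul_assoc, hee]
        have e2 : A * e * e = A * e := by rw [mul_assoc, hee]
        have e3 : A * e * (A * e) = e := by rw [mul_assoc, e1, hAAe]
        rw [add_mul, mul_add, mul_add, hee, e1, e2, e3, two_smul]; abel
      have hp2 : (e - A * e) * (e - A * e) = (2 : K) • (e - A * e) := by
        have e1 : e * (A * e) = A * e := by rw [← mul_assoc, heA, mul_assoc, hee]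
        have e2 : A * e * e = A * e := by rw [mul_assoc, hee]
        have e3 : A * e * (A * e) = e := by rw [mul_assoc, e1, hAAe]
        rw [sub_mul, mul_sub, mul_sub, hee, e1, e2, e3, two_smul]; abel
      have hp3 : (e + A * e) * (e - A * e) = 0 := by
        have e1 : e * (A * e) = A * e := by rw [← mul_assoc, heA, mul_assoc, hee]
        have e2 : A * e * e = A * e := by rw [mul_assoc, hee]
        have e3 : A * e * (A * e) = e := by rw [mul_assoc, e1, hAAe]
        rw [add_mul, mul_sub, mul_sub, hee, e1, e2, e3]; abel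
      have hp4 : (e - A * e) * (e + A * e) = 0 := by
        have e1 : e * (A * e) = A * e := by rw [← mul_assoc, heA, mul_assoc, hee]
        have e2 : A * e * e = A * e := by rw [mul_assoc, hee]
        have e3 : A * e * (A * e) = e := by rw [mul_assoc, e1, hAAe]
        rw [sub_mul, mul_add, mul_add, hee, e1, e2, e3]; abel
      have hadjAe : adj (A * e) = A * e := by
        rw [hmul, hadje, hcl heS (hadjcl hAS), ← hAe]
      have hAeS : A * e ∈ Subring.closure S := mul_mem hAS heS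
      refine ⟨(2⁻¹ : K) • (e + A * e), (2⁻¹ : K) • (e - A * e), ?_, ?_, ?_, ?_, ?_, ?_, ?_, ?_, ?_,
        hscal _ _ (add_mem heS hAeS), hscal _ _ (sub_mem heS hAeS)⟩
      · rw [← smul_add]
        have : e + A * e + (e - A * e) = (2 : K) • e := by rw [two_smul]; abel
        rw [this, smul_smul, h2i, one_smul]
      · rw [hx1, hp3, smul_zero]
      · rw [hx1, hp4, smul_zero]
      · rw [hx1, hp1, smul_smul, mul_assoc, h2i, mul_one]
      · rw [hx1, hp2, smul_smul, mul_assoc, h2i, mul_one]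
      · rw [hsmul, hadd, hadje, hadjAe]
      · rw [hsmul, FCR.adj_sub' adj hadd, hadje, hadjAe]
      · rw [Matrix.mul_smul, mul_add, hAAe, add_comm]
      · rw [Matrix.mul_smul, mul_sub, hAAe, ← smul_neg, neg_sub]
  have hA1' : e₁ * A = e₁ := by rw [hcl he1S hAS]; exact hA1
  have hA2' : e₂ * A = -e₂ := by rw [hcl he2S hAS]; exact hA2
  obtain ⟨c₁, hc1a, hc1b, hc1⟩ := piece_sp T e₁ P h11 (by rw [← hadjdef]; exact hadj1)
    (hcl he1S hTS) (by rw [hT, hadjdef]) hTu
  obtain ⟨c₂, hc2a, hc2b, hc2⟩ := piece_sp T e₂ P h22 (by rw [← hadjdef]; exact hadj2)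
    (hcl he2S hTS) (by rw [hT, hadjdef]) hTu
  rw [← hadjdef] at hc1 hc2
  obtain ⟨hcc, hcA⟩ := assemble adj hadd hmul A T ε e e₁ e₂ c' c₁ c₂ hεe he12 h12 h21 h11 h22
    hadj1 hadj2 hA1 hA2 hA1' hA2' (hcl hc'S hAS) hc'e hec' hae hF1 hc1a hc1b hc1 hc2a hc2b hc2
  obtain ⟨c, hc⟩ : ∃ c, c = c' + c₁ + c₂ := ⟨_, rfl⟩
  rw [← hc] at hcc hcA
  obtain ⟨Ti, hTi⟩ := hTu.exists_left_inv
  have hTi' : T * Ti = 1 := mul_eq_one_comm.mp hTi
  obtain ⟨ci, hci⟩ : ∃ ci, ci = Ti * adj c := ⟨_, rfl⟩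
  have hcic : ci * c = 1 := by rw [hci, mul_assoc, hcc, hTi]
  have hcci : c * ci = 1 := mul_eq_one_comm.mp hcic
  have hciA : ci * A = A * ci := by
    calc ci * A = ci * A * (c * ci) := by rw [hcci, mul_one]
      _ = ci * (A * c) * ci := by simp only [mul_assoc]
      _ = ci * (c * A) * ci := by rw [hcA]
      _ = (ci * c) * A * ci := by simp only [mul_assoc]
      _ = A * ci := by rw [hcic, one_mul]
  have hadjci : adj ci * adj c = 1 := by rw [← hmul, hcci, hone]
  have hciadj : ci * adj ci = Ti := by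
    calc ci * adj ci = ci * adj ci * (T * Ti) := by rw [hTi', mul_one]
      _ = ci * adj ci * (adj c * c) * Ti := by rw [hcc]; simp only [mul_assoc]
      _ = ci * (adj ci * adj c) * c * Ti := by simp only [mul_assoc]
      _ = Ti := by rw [hadjci, mul_one, hcic, one_mul]
  refine ⟨P * ci, ?_, ?_⟩
  · rw [← hadjdef, hmul]
    calc P * ci * (adj ci * adj P) = P * (ci * adj ci) * adj P := by simp only [mul_assoc]
      _ = P * Ti * adj P := by rw [hciadj]
      _ = P * Ti * adj P * (P * Pi) := by rw [hPi, mul_one]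
      _ = P * (Ti * (adj P * P)) * Pi := by simp only [mul_assoc]
      _ = 1 := by rw [← hT, hTi, mul_one, hPi]
  · rw [mul_assoc, hciA, ← mul_assoc, hPA, mul_assoc]

theorem sp_conj_iff {F : Type*} [Field F] [Fintype F] {p : ℕ} [Fact p.Prime] [CharP F p] {m : ℕ}
    (A B : Matrix.symplecticGroup (Fin m) F) (hA : (orderOf A).Coprime p) :
    IsConj A B ↔ IsConj (A : Matrix (Fin m ⊕ Fin m) (Fin m ⊕ Fin m) F)
      (B : Matrix (Fin m ⊕ Fin m) (Fin m ⊕ Fin m) F) := by
  constructor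
  · intro h
    obtain ⟨c, hc⟩ := isConj_iff.mp h
    have h1 : c * A = B * c := by rw [← hc]; group
    have h2 : c.1 * A.1 = B.1 * c.1 := congrArg Subtype.val h1
    have h3 : c.1 * (c⁻¹).1 = 1 := by
      have := congrArg Subtype.val (mul_inv_cancel c)
      exact this
    have h4 : (c⁻¹).1 * c.1 = 1 := by
      have := congrArg Subtype.val (inv_mul_cancel c)
      exact this
    exact ⟨⟨c.1, (c⁻¹).1, h3, h4⟩, h2⟩
  · rintro ⟨P, hP⟩
    have hP' : P.1 * A.1 = B.1 * P.1 := hP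
    obtain ⟨N, hN⟩ : ∃ N, N = orderOf A := ⟨_, rfl⟩
    have hAN : A.1 ^ N = 1 := by
      have h1 : A ^ N = 1 := by rw [hN]; exact pow_orderOf_eq_one A
      have := congrArg Subtype.val h1
      rw [SubmonoidClass.coe_pow] at this
      exact this
    have hNF : (N : F) ≠ 0 := by
      intro h0
      rw [CharP.cast_eq_zero_iff F p] at h0
      rw [← hN] at hA
      have h1 : p ∣ Nat.gcd N p := Nat.dvd_gcd h0 dvd_rfl
      rw [hA] at h1
      exact (Fact.out : p.Prime).one_lt.ne' (Nat.dvd_one.mp h1)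
    obtain ⟨S, hS1, hS2⟩ := sp_conj_core A.1 B.1 P.1 ((mem_sp_iff_adj _).mp A.2)
      ((mem_sp_iff_adj _).mp B.2) P.isUnit hP' N hNF hAN
    apply isConj_iff.mpr
    refine ⟨⟨S, (mem_sp_iff_adj _).mpr hS1⟩, ?_⟩
    rw [mul_inv_eq_iff_eq_mul]
    apply Subtype.ext
    exact hS2

end Cfsg.Agent.Lib.Helper16.SpSemi
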