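import Mathlib
import Cfsg.Agent.Lib.Helper16.SpCount2
import Cfsg.Agent.Lib.Helper16.OReal4

set_option autoImplicit false
set_option linter.unusedSectionVars false
set_option linter.unusedSimpArgs false
set_option linter.unusedVariables false
set_option linter.unusedTactic false

namespace Cfsg.Agent.Lib.Helper16.OSemi

open Matrix Module Polynomial Cfsg.Agent.Lib.Helper16.PSemi Cfsg.Agent.Lib.Helper16.RN
  Cfsg.Agent.Lib.Helper16.GUSemi Cfsg.Agent.Lib.Helper16.SpSemi

universe u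

variable {F : Type u} [Field F]

theorem exists_reindex' {ι : Type} [Fintype ι] [DecidableEq ι] (n : ℕ)
    (h : Fintype.card ι = n) :
    ∃ R : Matrix ι ι F ≃ₐ[F] Matrix (Fin n) (Fin n) F,
      (∀ a, R aᵀ = (R a)ᵀ) ∧ ∀ a, R.symm aᵀ = (R.symm a)ᵀ := by
  refine ⟨Matrix.reindexAlgEquiv F F (Fintype.equivFinOfCardEq h), ?_, ?_⟩
  · intro a
    rw [Matrix.coe_reindexAlgEquiv]
    rfl
  · intro a
    rw [Matrix.symm_reindexAlgEquiv, Matrix.coe_reindexAlgEquiv]
    rfl

theorem two_ne_zero_of_odd_card [Fintype F] (hq : Odd (Fintype.card F)) : (2 : F) ≠ 0 := by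
  intro h
  have h1 : ringChar F = 2 := CharP.ringChar_of_prime_eq_zero Nat.prime_two h
  have h2 := FiniteField.even_card_iff_char_two.mp h1
  rw [Nat.odd_iff] at hq
  omega

/-- the polar form is preserved by isometries. -/
theorem iso_gram (h2 : (2 : F) ≠ 0) {m : ℕ}
    (A : ↥(Cfsg.isometryGroup F (Cfsg.quadFormOdd m F))) :
    ((A : GL (OI m) F) : Matrix (OI m) (OI m) F)ᵀ * S0 F m
      * ((A : GL (OI m) F) : Matrix (OI m) (OI m) F) = S0 F m := by
  have hpol : ∀ x y : OI m → F, x ⬝ᵥ (A.1.1ᵀ * S0 F m * A.1.1) *ᵥ y = x ⬝ᵥ S0 F m *ᵥ y := by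
    intro x y
    rw [bilin_congr']
    have h1 := polar_pres (quadOddQF F m) A.1.1 (fun v => by
      rw [quadOddQF_apply h2, quadOddQF_apply h2]; exact iso_pres _ A v) x y
    rw [quadOddQF_polar, quadOddQF_polar] at h1
    exact mul_left_cancel₀ h2 h1
  ext k l
  have := hpol (Pi.single k 1) (Pi.single l 1)
  rw [single_one_dotProduct, single_one_dotProduct, Matrix.mulVec_single_one,
    Matrix.mulVec_single_one] at this
  exact this


theorem o_odd_order_r_classes [Fintype F] {p q : ℕ} [Fact p.Prime] [CharP F p]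
    (hF : Fintype.card F = q) (hq : Odd q) (m r i t : ℕ) (hr : r.Prime) (hr2 : r ≠ 2) (hrp : r ≠ p)
    (hi : i = orderOf (q : ZMod r)) (ht : t * i = r - 1) :
    Nat.card {C : ConjClasses ↥(Cfsg.isometryGroup F (Cfsg.quadFormOdd m F)) //
      ∃ g : ↥(Cfsg.isometryGroup F (Cfsg.quadFormOdd m F)), ConjClasses.mk g = C ∧ orderOf g = r}
      = if Odd i then Nat.choose (m / i + t / 2) (t / 2) - 1
        else Nat.choose ((2 * m + 1) / i + t) t - 1 := by
  classical
  have : Fact r.Prime := ⟨hr⟩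
  have h2F : (2 : F) ≠ 0 := two_ne_zero_of_odd_card (by rw [hF]; exact hq)
  have hr2' : 2 ≤ r := hr.two_le
  have hi0 : 0 < i := by
    rcases Nat.eq_zero_or_pos i with h | h
    · rw [h, mul_zero] at ht; omega
    · exact h
  have hrF : (r : F) ≠ 0 := by
    intro h
    rw [CharP.cast_eq_zero_iff F p] at h
    exact hrp ((Nat.prime_dvd_prime_iff_eq Fact.out hr).mp h).symm
  have hrodd : Odd r := hr.odd_of_ne_two hr2
  obtain ⟨n, hn⟩ : ∃ n, n = 2 * m + 1 := ⟨_, rfl⟩
  obtain ⟨κ, hκF, hκD, f, E, hEF, hEA, hEfin, ω, hκcard, hirr, hdeg, hcop, hprod, hf1, hω0, hωne,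
    hωr, hreal, hclass, hdivsum⟩ := gl_order_r_param hF n r i t hr hrp hi ht
  obtain ⟨hcoeff0, π, hππ, hπ⟩ :=
    exists_perm (RingHom.id F) (fun a => rfl) f r i hr.pos hirr hdeg hcop hprod
  obtain ⟨Ad, hAdσ, hAdj, hAdval⟩ : ∃ Ad : AdjData (Fin n) F, Ad.σ = RingHom.id F ∧
      (∀ a, Ad.adj a = (a.map ⇑(RingHom.id F))ᵀ) ∧ ∀ a, Ad.adj a = aᵀ :=
    ⟨trAdj n F, rfl, fun a => by
      show aᵀ = (a.map ⇑(RingHom.id F))ᵀ
      congr 1, fun a => rfl⟩
  have hkdual : ∀ (g : GL (Fin n) F) (k : κ),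
      kd ((Ad.adjU g)⁻¹).1 (f k) = kd g.1 (f (π k)) := by
    intro g k
    rw [kd_dual (RingHom.id F) (fun a => rfl) Ad hAdσ hAdj g (f k)]
    exact kd_associated _ _ _ (hπ k)
  have hcardOI : Fintype.card (OI m) = n := by
    rw [Fintype.card_sum, Fintype.card_sum, Fintype.card_unit, Fintype.card_fin]
    omega
  obtain ⟨R, hRT, hRsT⟩ := exists_reindex' (F := F) (ι := OI m) n hcardOI
  have hω1 : ∀ k, ω k ≠ 1 := by
    intro k h1
    have h2 := hω0 k
    rw [h1] at h2
    have h3 : aeval (1 : E) (f k) = algebraMap F E (aeval (1 : F) (f k)) := by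
      rw [← aeval_algebraMap_apply, map_one]
    rw [h3] at h2
    exact hf1 k ((map_eq_zero_iff _ (algebraMap F E).injective).mp h2)
  have hfix : ∀ k, π k = k ↔ Even i := by
    intro k
    rw [← nt_even r hr2 (q : ZMod r) i hi hi0,
      ← dual_root_iff_id hF r hrp (f k) (hirr k).ne_zero i (hdeg k) hi (ω k) (hω0 k) (hωr k)
        (hω1 k)]
    constructor
    · intro h
      have h1 := hπ k
      rw [h] at h1
      exact aeval_zero_of_associated _ _ h1.symm (ω k) (hω0 k)
    · intro h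
      by_contra hne
      exact hωne (π k) k hne (aeval_zero_of_associated _ _ (hπ k) (ω k) h)
  have hadjpow : ∀ g : GL (Fin n) F, g.1 ^ r = 1 → ((Ad.adjU g)⁻¹).1 ^ r = 1 := by
    intro g hg
    have h1 : g ^ r = 1 := Units.ext (by rw [Units.val_pow_eq_pow_val, hg, Units.val_one])
    rw [← Units.val_pow_eq_pow_val, ← Ad.adjU_inv, ← Units.val_one]
    congr 1
    have h2 : ∀ (x : GL (Fin n) F) (j : ℕ), (Ad.adjU x) ^ j = Ad.adjU (x ^ j) := by
      intro x j
      induction j with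
      | zero => rw [pow_zero, pow_zero, Ad.adjU_one]
      | succ j ih => rw [pow_succ, ih, pow_succ', Ad.adjU_mul]
    rw [h2, inv_pow, h1, inv_one, Ad.adjU_one]
  -- elements of O
  have hmatpow : ∀ (A : ↥(Cfsg.isometryGroup F (Cfsg.quadFormOdd m F))) (j : ℕ),
      ((A ^ j : ↥(Cfsg.isometryGroup F (Cfsg.quadFormOdd m F))) : GL (OI m) F).1 = A.1.1 ^ j := by
    intro A j
    rw [Subgroup.coe_pow, Units.val_pow_eq_pow_val]
  have hspr : ∀ A : ↥(Cfsg.isometryGroup F (Cfsg.quadFormOdd m F)), A ^ r = 1 →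
      (R A.1.1) ^ r = 1 := by
    intro A hA
    rw [← map_pow, ← hmatpow, hA]
    exact map_one R
  have hRSu : IsUnit (R (S0 F m)).det := by
    rw [← Matrix.isUnit_iff_isUnit_det]
    apply IsUnit.of_mul_eq_one (R (S0i F m))
    rw [← map_mul]
    have : S0 F m * S0i F m = 1 := mul_eq_one_comm.mp (S0i_mul_S0 h2F)
    rw [this, map_one]
  have hsp_dual : ∀ A : ↥(Cfsg.isometryGroup F (Cfsg.quadFormOdd m F)), A ^ r = 1 →
      ∀ k, kd (R A.1.1) (f (π k)) = kd (R A.1.1) (f k) := by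
    intro A hA k
    obtain ⟨g, hg⟩ := mkGL (R A.1.1) r hr.pos (hspr A hA)
    rw [← hg, ← hkdual g k]
    have hX : ((Ad.adjU g)⁻¹).1 * g.1ᵀ = 1 := by
      have h1 : (Ad.adjU g).1 = g.1ᵀ := by rw [Ad.adjU_val, hAdval]
      rw [← h1, ← Units.val_mul, inv_mul_cancel, Units.val_one]
    have hJ : g.1ᵀ * R (S0 F m) * g.1 = R (S0 F m) := by
      have h2 := congrArg R (iso_gram h2F A)
      rw [map_mul, map_mul, hRT] at h2
      rw [hg]
      exact h2
    symm
    apply kd_conj _ _ (R (S0 F m)) hRSu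
    calc R (S0 F m) * g.1 = (((Ad.adjU g)⁻¹).1 * g.1ᵀ) * R (S0 F m) * g.1 := by rw [hX, one_mul]
      _ = ((Ad.adjU g)⁻¹).1 * (g.1ᵀ * R (S0 F m) * g.1) := by simp only [mul_assoc]
      _ = ((Ad.adjU g)⁻¹).1 * R (S0 F m) := by rw [hJ]
  -- realization
  have hreal' : ∀ a : {a : κ → ℕ // i * ∑ k, a k ≤ n ∧ a ≠ 0 ∧ ∀ k, a (π k) = a k},
      ∃ B : ↥(Cfsg.isometryGroup F (Cfsg.quadFormOdd m F)), B ^ r = 1 ∧
        ∀ k, kd (R B.1.1) (f k) = i * a.1 k := by
    intro a
    obtain ⟨g, hg, hgk⟩ := hreal a.1 a.2.1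
    have hconj : IsConj g (Ad.adjU g)⁻¹ := by
      apply hclass g _ hg (hadjpow g hg)
      intro k
      rw [hkdual, hgk, hgk, a.2.2.2 k]
    obtain ⟨c, hc⟩ := isConj_iff.mp hconj
    have hc1 : Ad.adjU g * c * g = c := by
      have : c * g = (Ad.adjU g)⁻¹ * c := by rw [← hc]; group
      rw [mul_assoc, this, ← mul_assoc, mul_inv_cancel, one_mul]
    have hc2 : g.1ᵀ * c.1 * g.1 = c.1 := by
      have := congrArg Units.val hc1
      rw [Units.val_mul, Units.val_mul, Ad.adjU_val, hAdval] at this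
      exact this
    obtain ⟨G, hGdef⟩ : ∃ G, G = R.symm g.1 := ⟨_, rfl⟩
    obtain ⟨P, hPdef⟩ : ∃ P, P = R.symm c.1 := ⟨_, rfl⟩
    have hGP : Gᵀ * P * G = P := by
      have := congrArg R.symm hc2
      rw [map_mul, map_mul, hRsT, ← hGdef, ← hPdef] at this
      exact this
    have hGr : G ^ r = 1 := by rw [hGdef, ← map_pow, hg, map_one]
    have hPu : IsUnit P := by
      rw [hPdef]
      exact c.isUnit.map R.symm
    have hGu : IsUnit G := by
      rw [hGdef]
      exact g.isUnit.map R.symm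
    obtain ⟨H, hsym, hHu, hHinv⟩ := exists_sym_invariant G P r hrodd hrF hGr hPu hGP
    obtain ⟨Q, B, hQu, hQG⟩ := o_odd_conj h2F G H hsym hHu hHinv hGu
    obtain ⟨Qi, hQi⟩ := hQu.exists_right_inv
    have hQi' : Qi * Q = 1 := mul_eq_one_comm.mp hQi
    have hBpow : ∀ j : ℕ, Q * B.1.1 ^ j = G ^ j * Q := by
      intro j
      induction j with
      | zero => rw [pow_zero, pow_zero, one_mul, mul_one]
      | succ j ih => rw [pow_succ, ← mul_assoc, ih, mul_assoc, hQG, ← mul_assoc, ← pow_succ]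
    refine ⟨B, ?_, ?_⟩
    · apply Subtype.ext
      apply Units.ext
      rw [hmatpow]
      have h1 := hBpow r
      rw [hGr, one_mul] at h1
      calc B.1.1 ^ r = (Qi * Q) * B.1.1 ^ r := by rw [hQi', one_mul]
        _ = Qi * (Q * B.1.1 ^ r) := by rw [mul_assoc]
        _ = 1 := by rw [h1, hQi']
    · intro k
      rw [← hgk k]
      have hRG : R G = g.1 := by rw [hGdef, AlgEquiv.apply_symm_apply]
      rw [← hRG]
      apply kd_conj _ _ (R Q)
      · rw [← Matrix.isUnit_iff_isUnit_det]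
        exact hQu.map R
      · rw [← map_mul, ← map_mul, hQG]
  choose rep hrep1 hrep2 using hreal'
  have hcop' : ∀ A : ↥(Cfsg.isometryGroup F (Cfsg.quadFormOdd m F)), orderOf A = r →
      (orderOf A).Coprime p := by
    intro A hA
    rw [hA, Nat.coprime_primes hr Fact.out]
    exact hrp
  have hmatconj : ∀ A B : ↥(Cfsg.isometryGroup F (Cfsg.quadFormOdd m F)), A ^ r = 1 → B ^ r = 1 →
      (∀ k, kd (R A.1.1) (f k) = kd (R B.1.1) (f k)) → IsConj A.1.1 B.1.1 := by
    intro A B hA hB hk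
    obtain ⟨gA, hgA⟩ := mkGL (R A.1.1) r hr.pos (hspr A hA)
    obtain ⟨gB, hgB⟩ := mkGL (R B.1.1) r hr.pos (hspr B hB)
    have h1 : IsConj gA gB := by
      apply hclass gA gB (by rw [hgA]; exact hspr A hA) (by rw [hgB]; exact hspr B hB)
      intro k
      rw [hgA, hgB]; exact hk k
    obtain ⟨c, hc⟩ := isConj_iff.mp h1
    have h2 : c.1 * R A.1.1 = R B.1.1 * c.1 := by
      have : c * gA = gB * c := by rw [← hc]; group
      have := congrArg Units.val this
      rw [Units.val_mul, Units.val_mul, hgA, hgB] at this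
      exact this
    have h3 : R.symm c.1 * A.1.1 = B.1.1 * R.symm c.1 := by
      have := congrArg R.symm h2
      rw [map_mul, map_mul, AlgEquiv.symm_apply_apply, AlgEquiv.symm_apply_apply] at this
      exact this
    obtain ⟨u, hu⟩ := c.isUnit.map R.symm
    exact ⟨u, by show u.1 * A.1.1 = B.1.1 * u.1; rw [hu]; exact h3⟩
  have hpow_of_order : ∀ A : ↥(Cfsg.isometryGroup F (Cfsg.quadFormOdd m F)),
      orderOf A = r → A ^ r = 1 := by
    intro A hA
    rw [← hA]; exact pow_orderOf_eq_one A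
  have hone_kd : ∀ k, kd (R (1 : ↥(Cfsg.isometryGroup F (Cfsg.quadFormOdd m F))).1.1) (f k)
      = 0 := by
    intro k
    have : R (1 : ↥(Cfsg.isometryGroup F (Cfsg.quadFormOdd m F))).1.1 = 1 := map_one R
    rw [this]
    exact kd_one_eq_zero (f k) (hf1 k)
  have hrep_ord : ∀ a, orderOf (rep a) = r := by
    intro a
    rw [orderOf_eq_prime_iff]
    refine ⟨hrep1 a, ?_⟩
    intro h1
    apply a.2.2.1
    funext k
    have h7 := hrep2 a k
    rw [h1, hone_kd k] at h7
    rcases Nat.eq_zero_or_pos (a.1 k) with h9 | h9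
    · exact h9
    · exfalso
      have := Nat.mul_pos hi0 h9
      omega
  rw [PGLI.card_classes_of_reps
    (fun g : ↥(Cfsg.isometryGroup F (Cfsg.quadFormOdd m F)) => orderOf g = r)
    {a : κ → ℕ // i * ∑ k, a k ≤ n ∧ a ≠ 0 ∧ ∀ k, a (π k) = a k} rep]
  · by_cases hodd : Odd i
    · rw [if_pos hodd]
      have hπne : ∀ k, π k ≠ k := by
        intro k h
        have := (hfix k).mp h
        exact (Nat.not_even_iff_odd.mpr hodd) this
      rw [card_invariant_tuples π hππ hπne t i n hi0 hκcard]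
      have : n / (2 * i) = m / i := by
        rw [← Nat.div_div_eq_div_mul]
        congr 1
        omega
      rw [this]
    · rw [if_neg hodd]
      have heven : Even i := Nat.not_odd_iff_even.mp hodd
      have hπid : ∀ k, π k = k := fun k => (hfix k).mpr heven
      have h1 : Nat.card {a : κ → ℕ // i * ∑ k, a k ≤ n ∧ a ≠ 0 ∧ ∀ k, a (π k) = a k}
          = Nat.card {a : κ → ℕ // i * ∑ k, a k ≤ n ∧ a ≠ 0} := by
        apply Nat.card_congr
        exact ⟨fun a => ⟨a.1, a.2.1, a.2.2.1⟩, fun a => ⟨a.1, a.2.1, a.2.2, fun k => by rw [hπid]⟩,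
          fun a => rfl, fun a => rfl⟩
      rw [h1, PSemi.card_tuples t i n hi0 hκcard, hn]
  · exact hrep_ord
  · intro A hA
    have hAr := hpow_of_order A hA
    have hMr := hspr A hAr
    have hA1 : A ≠ 1 := by
      intro h
      rw [h, orderOf_one] at hA
      omega
    obtain ⟨a, ha⟩ : ∃ a : κ → ℕ, ∀ k, i * a k = kd (R A.1.1) (f k) :=
      ⟨fun k => kd (R A.1.1) (f k) / i, fun k => Nat.mul_div_cancel' ((hdivsum _ hMr).1 k)⟩
    have hsumg := (hdivsum _ hMr).2
    have ha1 : i * ∑ k, a k ≤ n := by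
      rw [Finset.mul_sum, Finset.sum_congr rfl (fun k _ => ha k)]
      omega
    have ha2 : a ≠ 0 := by
      intro h0
      have h1 : ∑ k, kd (R A.1.1) (f k) = 0 := by
        apply Finset.sum_eq_zero
        intro k _
        rw [← ha k, h0]
        simp
      rw [h1, add_zero] at hsumg
      apply hA1
      have h2 : LinearMap.ker (aeval (Matrix.toLin' (R A.1.1)) (X - 1 : F[X])) = ⊤ := by
        apply Submodule.eq_top_of_finrank_eq
        rw [Module.finrank_fintype_fun_eq_card, Fintype.card_fin]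
        exact hsumg
      have h3 : aeval (Matrix.toLin' (R A.1.1)) (X - 1 : F[X]) = 0 := LinearMap.ker_eq_top.mp h2
      rw [map_sub, aeval_X, map_one, sub_eq_zero] at h3
      have h4 : R A.1.1 = 1 := by
        apply Matrix.toLin'.injective
        rw [h3, Matrix.toLin'_one]
        rfl
      apply Subtype.ext
      apply Units.ext
      show A.1.1 = 1
      apply R.injective
      rw [h4, map_one]
    have ha3 : ∀ k, a (π k) = a k := by
      intro k
      have h1 := hsp_dual A hAr k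
      rw [← ha, ← ha] at h1
      exact Nat.eq_of_mul_eq_mul_left hi0 h1
    refine ⟨⟨a, ha1, ha2, ha3⟩, ?_⟩
    rw [o_odd_conj_iff h2F A _ (by rw [hA]; exact hrodd) (hcop' A hA)]
    apply hmatconj A _ hAr (hrep1 _)
    intro k
    rw [hrep2 ⟨a, ha1, ha2, ha3⟩ k, ← ha k]
  · intro a a' hconj
    have hord : orderOf (rep a) = r := hrep_ord a
    rw [o_odd_conj_iff h2F (rep a) (rep a') (by rw [hord]; exact hrodd) (hcop' _ hord)] at hconj
    obtain ⟨u, hu⟩ := hconj
    have hu' : u.1 * (rep a).1.1 = (rep a').1.1 * u.1 := hu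
    apply Subtype.ext
    funext k
    have h2 := kd_conj (R (rep a).1.1) (R (rep a').1.1) (R u.1)
      (by rw [← Matrix.isUnit_iff_isUnit_det]; exact u.isUnit.map R)
      (by rw [← map_mul, ← map_mul, hu']) (f k)
    rw [hrep2, hrep2] at h2
    exact Nat.eq_of_mul_eq_mul_left hi0 h2

end Cfsg.Agent.Lib.Helper16.OSemi
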