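import Mathlib
import Cfsg.Agent.Lib.helper14.SQD.Defs

/-!
# SQD row G3 (helper16): `sieg_inf_lev`
-/

set_option autoImplicit false

namespace Cfsg.Agent.Lib.helper14.SQD

open Cfsg Cfsg.Lie Matrix

universe u v

section G
variable {k : ℕ} {F : Type u} [Field F]

/-- G3 [E-M]. -/
theorem sieg_inf_lev (τ : F →+* F) (𝒮 : AddSubgroup (Matrix (Fin k) (Fin k) F)) :
    siegGrp 𝒮 ⊓ levGrp (k := k) τ = ⊥ := by
  rw [eq_bot_iff]
  rintro g ⟨hg1, hg2⟩
  obtain ⟨S, _, rfl⟩ := hg1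
  obtain ⟨A, _, hA⟩ := hg2
  have h := congrArg (fun x : GL (Fin k ⊕ Fin k) F =>
    (x : Matrix (Fin k ⊕ Fin k) (Fin k ⊕ Fin k) F)) hA
  simp only [levHom_coe, siegHom_coe] at h
  rw [Matrix.fromBlocks_inj] at h
  have hS : Multiplicative.toAdd S = 0 := h.2.1.symm
  rw [Subgroup.mem_bot]
  apply Units.ext
  rw [siegHom_coe, hS, Units.val_one, Matrix.fromBlocks_one]

end G

end Cfsg.Agent.Lib.helper14.SQD
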