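import Mathlib
import Cfsg.Agent.Lib.helper14.SQD.Defs

/-!
# SQD row G4 (helper16): `card_siegGrp` (verbatim) and the core of `card_levGrp` (statement of T3b `card_uutGL` as hypothesis)
-/

set_option autoImplicit false

namespace Cfsg.Agent.Lib.helper14.SQD

open Cfsg Cfsg.Lie Matrix

universe u v

section G
variable {k : ℕ} {F : Type u} [Field F]

theorem sqdg4_siegHom_injective :
    Function.Injective (siegHom : Multiplicative (Matrix (Fin k) (Fin k) F) →* GL (Fin k ⊕ Fin k) F) := by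
  intro S T h
  have h' := congrArg (fun x : GL (Fin k ⊕ Fin k) F =>
    (x : Matrix (Fin k ⊕ Fin k) (Fin k ⊕ Fin k) F)) h
  simp only [siegHom_coe] at h'
  rw [Matrix.fromBlocks_inj] at h'
  exact Multiplicative.toAdd.injective h'.2.1

theorem sqdg4_levHom_injective (τ : F →+* F) :
    Function.Injective (levHom τ : GL (Fin k) F →* GL (Fin k ⊕ Fin k) F) := by
  intro g h hgh
  have h' := congrArg (fun x : GL (Fin k ⊕ Fin k) F =>
    (x : Matrix (Fin k ⊕ Fin k) (Fin k ⊕ Fin k) F)) hgh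
  simp only [levHom_coe] at h'
  rw [Matrix.fromBlocks_inj] at h'
  exact Units.ext h'.1

/-- the elements of `AddSubgroup.toSubgroup 𝒮` are those of `𝒮` -/
def sqdg4_equiv (𝒮 : AddSubgroup (Matrix (Fin k) (Fin k) F)) :
    ↥(AddSubgroup.toSubgroup 𝒮) ≃ ↥𝒮 where
  toFun x := ⟨Multiplicative.toAdd x.1, x.2⟩
  invFun y := ⟨Multiplicative.ofAdd y.1, y.2⟩
  left_inv _ := rfl
  right_inv _ := rfl

/-- G4a [E-M]. -/
theorem card_siegGrp (𝒮 : AddSubgroup (Matrix (Fin k) (Fin k) F)) :
    Nat.card (siegGrp 𝒮) = Nat.card 𝒮 := by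
  unfold siegGrp
  rw [← Nat.card_congr (sqdg4_equiv 𝒮)]
  exact Nat.card_congr
    ((AddSubgroup.toSubgroup 𝒮).equivMapOfInjective siegHom sqdg4_siegHom_injective).symm.toEquiv

/-- G4b core: the statement of T3b (`card_uutGL`) as a hypothesis. -/
theorem card_levGrp_core [Fintype F]
    (hT3 : Nat.card (uutGL k F) = Fintype.card F ^ (k * (k - 1) / 2)) (τ : F →+* F) :
    Nat.card (levGrp (k := k) τ) = Fintype.card F ^ (k * (k - 1) / 2) := by
  unfold levGrp
  rw [← hT3]
  exact Nat.card_congr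
    ((uutGL k F).equivMapOfInjective (levHom τ) (sqdg4_levHom_injective τ)).symm.toEquiv

end G

end Cfsg.Agent.Lib.helper14.SQD
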