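import Mathlib
import Cfsg.Agent.Lib.Helper19.SU5.Defs
import Cfsg.Agent.Lib.Helper19.SU5.Defs2
import Cfsg.Agent.Lib.helper3.SU5.Defs
import Cfsg.Agent.Lib.Helper22.SU5B0
import Cfsg.Agent.Lib.Helper22.SU5B0b
import Cfsg.Agent.Lib.Helper5.SU5F8
import Cfsg.Agent.Lib.helper8.STULA1

/-!
# Project SU5 (designer helper19), row B2 (`tab5_weylU`) (helper16), VERBATIM (on B0, B0b).
-/

set_option autoImplicit false

namespace Cfsg.Agent.Lib.Helper19.SU5

open Cfsg.Agent.Lib.helper17.SLP Cfsg.Agent.Lib.helper3.SP4 Cfsg.Agent.Lib.Helper22.SU4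
open Cfsg.Agent.Lib.Helper27.STU (Lam XpM XmM XpS XmS SUm XpU XmU SysU)
open Cfsg.Agent.Lib.helper3.STC (ng sws)
open Cfsg.Agent.Lib.helper3.SU5 (Dat Tab5 Pre)

universe u v w

section B

variable {F : Type u} {K : Type u} [Field F] [Field K] [StarRing F] [Fintype F] [Fintype K] {D : Tw F K}
  {G : Type v} [Group G]

/-- B2 [S-M] -/
theorem tab5_weylU (hFK : Fintype.card F = Fintype.card K ^ 2) (P : RO D)
    (φa : Matrix.SpecialLinearGroup (Fin 2) F →* G) (φb : ↥(SUm F True) →* G) (H : HypU P φa φb)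
    (W : WactU P φa φb) :
    (∀ t, Cfsg.Agent.Lib.helper15.St2.cj (datU P φa φb).nA ((datU P φa φb).xD t) = (datU P φa φb).xD (star t)) ∧
      (∀ ξ, Cfsg.Agent.Lib.helper15.St2.cj (datU P φa φb).nB ((datU P φa φb).xC ξ) =
        (datU P φa φb).xC (Lam.act (-((datU P φa φb).ξ₀.c / star (datU P φa φb).ξ₀.c)) ξ)) ∧
      (datU P φa φb).nA * (datU P φa φb).nB * (datU P φa φb).nA * (datU P φa φb).nB =
        (datU P φa φb).nB * (datU P φa φb).nA * (datU P φa φb).nB * (datU P φa φb).nA := by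
  have hk := su5f8_kap_ne hFK P
  have hs := su5f8_star_kap P
  obtain ⟨-, -, -, -, hnA, hnB, hc⟩ := dat_dictU P φa φb
  obtain ⟨hxC, hxD⟩ := dat_dict2U P φa φb W
  refine ⟨?_, ?_, ?_⟩
  · intro t
    rw [hnA, hxD, hxD]
    unfold Cfsg.Agent.Lib.helper15.St2.cj
    rw [W.a_c]
    congr 1
    rw [star_div₀, hs]
    field_simp
  · intro ξ
    rw [hnB, hc, hs, hxC, hxC]
    unfold Cfsg.Agent.Lib.helper15.St2.cj
    rw [W.b_d]
    have e : -(P.kap / -P.kap) = 1 := by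
      rw [div_neg, neg_neg, div_self hk]
    rw [e, Lam.act_one]
  · rw [hnA, hnB]
    exact H.N6

end B

end Cfsg.Agent.Lib.Helper19.SU5
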