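import Mathlib
import Cfsg.Agent.Lib.helper17.SLP.Defs
import Cfsg.Agent.Lib.helper3.SP4.Defs
import Cfsg.Agent.Lib.Helper22.SU4.Defs
import Cfsg.Agent.Lib.Helper27.STU.Defs
import Cfsg.Agent.Lib.Helper27.STU.Defs3
import Cfsg.Agent.Lib.Helper19.SU5.Defs
import Cfsg.Agent.Lib.Helper28.SP4R1

/-!
# Project SU5 (designer helper19), row T8 (`tor_wbU`) (helper16): CORE, with the needed parts of the statements of
T0 (`phiL_basicU`), F8 (`wu_conjU`) and F1 (`ro_basicU`) as hypotheses.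
-/

set_option autoImplicit false

namespace Cfsg.Agent.Lib.Helper19.SU5

open Cfsg.Agent.Lib.helper17.SLP Cfsg.Agent.Lib.helper3.SP4 Cfsg.Agent.Lib.Helper22.SU4
open Cfsg.Agent.Lib.Helper27.STU (Lam XpM XmM XpS XmS SUm XpU XmU)

universe u v

section T

variable {F : Type u} {K : Type u} [Field F] [Field K] [StarRing F] {D : Tw F K}
  {G : Type v} [Group G]

/-- `hbF` is multiplicative -/
theorem su5t8_hbF_mul (P : RO D) (φb : ↥(SUm F True) →* G) (r s : Fˣ) :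
    hbF P φb (r * s) = hbF P φb r * hbF P φb s := by
  unfold hbF
  rw [map_mul, map_mul]

/-- `hbF` and inverses -/
theorem su5t8_hbF_inv (P : RO D) (φb : ↥(SUm F True) →* G) (r : Fˣ) :
    hbF P φb r⁻¹ = (hbF P φb r)⁻¹ := by
  unfold hbF
  rw [map_inv, map_inv]

/-- T8 core: `hT0w`, `hT0h` are the second and third parts of T0 `phiL_basicU`; `hF8a`, `hF8b` the first and second parts of F8 `wu_conjU`;
`hF1` the sixth part of F1 `ro_basicU`. -/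
theorem su5t8_core (P : RO D)
    (φa : Matrix.SpecialLinearGroup (Fin 2) F →* G) (φb : ↥(SUm F True) →* G)
    (hT0w : rn (phiL P φb) = φb (WU (Lam.tr (P.ζ : F))))
    (hT0h : ∀ r : Kˣ, rh (phiL P φb) r = hbF P φb (D.ιu r))
    (hF8a : ∀ r : Fˣ, WU (Lam.tr (P.ζ : F)) * P.HU r * (WU (Lam.tr (P.ζ : F)))⁻¹ = P.HU (D.σu r)⁻¹)
    (hF8b : WU (Lam.tr (P.ζ : F)) ^ 2 = P.HU (-1))
    (hF1 : ∀ s : Fˣ, ((D.σu s : Fˣ) : F) = star (s : F))
    (R4 : Tor4T D φa (phiL P φb))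
    (hab : ∀ r : Fˣ, Act (hbF P φb r) (rx φa) ((r⁻¹ : Fˣ) : F)) :
    (∀ s : Fˣ, rn (phiL P φb) * rh φa s * (rn (phiL P φb))⁻¹ = rh φa s * hbF P φb (D.ιu (D.nmu s))) ∧
      (∀ s : Fˣ, (rn (phiL P φb))⁻¹ * rh φa s * rn (phiL P φb) = rh φa s * hbF P φb (D.ιu (D.nmu s))) ∧
      (∀ r : Fˣ, rn (phiL P φb) * hbF P φb r * (rn (phiL P φb))⁻¹ = hbF P φb (D.σu r)⁻¹) ∧
      (∀ r : Fˣ, (rn (phiL P φb))⁻¹ * hbF P φb r * rn (phiL P φb) = hbF P φb (D.σu r)⁻¹) ∧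
      (∀ s : Fˣ, Act (rh φa s) (xcU P φa φb) ((s : F) * star ((s⁻¹ : Fˣ) : F))) ∧
      ∀ r : Fˣ, Act (hbF P φb r) (xcU P φa φb) (star (r : F)) := by
  have h3 : ∀ r : Fˣ, rn (phiL P φb) * hbF P φb r * (rn (phiL P φb))⁻¹ = hbF P φb (D.σu r)⁻¹ := by
    intro r
    rw [hT0w]
    unfold hbF
    rw [← map_inv, ← map_mul, ← map_mul, hF8a]
  refine ⟨?_, ?_, h3, ?_, ?_, ?_⟩
  · intro s
    rw [R4.wb_ha s, hT0h]
  · intro s
    rw [R4.wb_ha' s, hT0h]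
  · intro r
    rw [hT0w]
    unfold hbF
    rw [← map_inv, ← map_mul, ← map_mul]
    congr 1
    set W := WU (Lam.tr (P.ζ : F)) with hW
    have e1 : W⁻¹ * P.HU r * W = (W ^ 2)⁻¹ * (W * P.HU r * W⁻¹) * W ^ 2 := by group
    rw [e1, hF8a, hF8b, ← map_inv, ← map_mul, ← map_mul]
    congr 1
    rw [mul_comm, mul_inv_cancel_left]
  · intro s
    have h := R4.ca s
    rw [P.hσ] at h
    exact h
  · intro r
    have h1 : Act (rn (phiL P φb) * hbF P φb r * (rn (phiL P φb))⁻¹) (rx φa) (star (r : F)) := by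
      rw [h3 r]
      have h2 := hab (D.σu r)⁻¹
      rw [inv_inv, hF1] at h2
      exact h2
    exact act_conj (hbF P φb r) (rn (phiL P φb)) (rx φa) (star (r : F)) h1

end T

end Cfsg.Agent.Lib.Helper19.SU5
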