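import Mathlib
import Cfsg.Agent.Lib.Helper19.SU5.Defs
import Cfsg.Agent.Lib.Helper16.SU5T8core
import Cfsg.Agent.Lib.Helper5.SU5T0
import Cfsg.Agent.Lib.Helper5.SU5F8
import Cfsg.Agent.Lib.Helper9.SU5UF1
import Cfsg.Prelude.Def_Classical

/-!
# Project SU5 (designer helper19), row T8 (`tor_wbU`) (helper16), VERBATIM (on T0, F8, UF1).
-/

set_option autoImplicit false

namespace Cfsg.Agent.Lib.Helper19.SU5

open Cfsg.Agent.Lib.helper17.SLP Cfsg.Agent.Lib.helper3.SP4 Cfsg.Agent.Lib.Helper22.SU4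
open Cfsg.Agent.Lib.Helper27.STU (Lam XpM XmM XpS XmS SUm XpU XmU)

universe u v

section T

variable {F : Type u} {K : Type u} [Field F] [Field K] [StarRing F] [Fintype F] [Fintype K] {D : Tw F K}
  {G : Type v} [Group G]

/-- T8 [S-M] -/
theorem tor_wbU (hFK : Fintype.card F = Fintype.card K ^ 2) (P : RO D)
    (φa : Matrix.SpecialLinearGroup (Fin 2) F →* G) (φb : ↥(SUm F True) →* G) (R4 : Tor4T D φa (phiL P φb))
    (hab : ∀ r : Fˣ, Act (hbF P φb r) (rx φa) ((r⁻¹ : Fˣ) : F)) :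
    (∀ s : Fˣ, rn (phiL P φb) * rh φa s * (rn (phiL P φb))⁻¹ = rh φa s * hbF P φb (D.ιu (D.nmu s))) ∧
      (∀ s : Fˣ, (rn (phiL P φb))⁻¹ * rh φa s * rn (phiL P φb) = rh φa s * hbF P φb (D.ιu (D.nmu s))) ∧
      (∀ r : Fˣ, rn (phiL P φb) * hbF P φb r * (rn (phiL P φb))⁻¹ = hbF P φb (D.σu r)⁻¹) ∧
      (∀ r : Fˣ, (rn (phiL P φb))⁻¹ * hbF P φb r * rn (phiL P φb) = hbF P φb (D.σu r)⁻¹) ∧
      (∀ s : Fˣ, Act (rh φa s) (xcU P φa φb) ((s : F) * star ((s⁻¹ : Fˣ) : F))) ∧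
      ∀ r : Fˣ, Act (hbF P φb r) (xcU P φa φb) (star (r : F)) :=
  su5t8_core P φa φb (phiL_basicU P φa φb).2.1 (phiL_basicU P φa φb).2.2.1 (wu_conjU hFK P).1 (wu_conjU hFK P).2.1
    (ro_basicU P).2.2.2.2.2.1 R4 hab

end T

end Cfsg.Agent.Lib.Helper19.SU5
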