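import Mathlib
import Cfsg.Agent.Lib.helper17.SLP.Defs
import Cfsg.Agent.Lib.helper3.SP4.Defs
import Cfsg.Agent.Lib.Helper22.SU4.Defs
import Cfsg.Agent.Lib.Helper27.STU.Defs
import Cfsg.Agent.Lib.Helper27.STU.Defs3
import Cfsg.Agent.Lib.Helper19.SU5.Defs

/-!
# Project SU5 (designer helper19), row T9 (`torU`) (helper16): CORE, with the conclusions of T1 T2 T3 T6 T7 T8 and the first part of F7
as hypotheses.
-/

set_option autoImplicit false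

namespace Cfsg.Agent.Lib.Helper19.SU5

open Cfsg.Agent.Lib.helper17.SLP Cfsg.Agent.Lib.helper3.SP4 Cfsg.Agent.Lib.Helper22.SU4
open Cfsg.Agent.Lib.Helper27.STU (Lam XpM XmM XpS XmS SUm XpU XmU)

universe u v

section T

variable {F : Type u} {K : Type u} [Field F] [Field K] [StarRing F] {D : Tw F K}
  {G : Type v} [Group G]

/-- T9 core: `h1` = conclusion of T1 `tor_commU`, `h2` = T2 `act_abU`, `h3` = T3 `wa_hbU`, `h6` = T6 `tor_ybU`, `h7` = T7 `tor_ydU`,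
`h8` = T8 `tor_wbU`, `hF7` = first part of F7 `hu_conjU`. -/
theorem su5t9_core (P : RO D)
    (φa : Matrix.SpecialLinearGroup (Fin 2) F →* G) (φb : ↥(SUm F True) →* G)
    (h1 : ∀ s r : Fˣ, Commute (rh φa s) (hbF P φb r))
    (h2 : ∀ r : Fˣ, Act (hbF P φb r) (rx φa) ((r⁻¹ : Fˣ) : F))
    (h3 : (∀ r : Fˣ, rn φa * hbF P φb r * (rn φa)⁻¹ = rh φa r * hbF P φb r) ∧
      ∀ r : Fˣ, (rn φa)⁻¹ * hbF P φb r * rn φa = rh φa r * hbF P φb r)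
    (h6 : ∀ (s : Fˣ) (ξ : Lam F True), rh φa s * yb φb ξ * (rh φa s)⁻¹ = yb φb (Lam.act ((s⁻¹ : Fˣ) : F) ξ))
    (h7 : (∀ (s : Fˣ) (ξ : Lam F True), rh φa s * ydU φa φb ξ * (rh φa s)⁻¹ = ydU φa φb (Lam.act (s : F) ξ)) ∧
      ∀ (r : Fˣ) (ξ : Lam F True),
        hbF P φb r * ydU φa φb ξ * (hbF P φb r)⁻¹ = ydU φa φb (Lam.act ((r : F) / star (r : F)) ξ))
    (h8 : (∀ s : Fˣ, rn (phiL P φb) * rh φa s * (rn (phiL P φb))⁻¹ = rh φa s * hbF P φb (D.ιu (D.nmu s))) ∧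
      (∀ s : Fˣ, (rn (phiL P φb))⁻¹ * rh φa s * rn (phiL P φb) = rh φa s * hbF P φb (D.ιu (D.nmu s))) ∧
      (∀ r : Fˣ, rn (phiL P φb) * hbF P φb r * (rn (phiL P φb))⁻¹ = hbF P φb (D.σu r)⁻¹) ∧
      (∀ r : Fˣ, (rn (phiL P φb))⁻¹ * hbF P φb r * rn (phiL P φb) = hbF P φb (D.σu r)⁻¹) ∧
      (∀ s : Fˣ, Act (rh φa s) (xcU P φa φb) ((s : F) * star ((s⁻¹ : Fˣ) : F))) ∧
      ∀ r : Fˣ, Act (hbF P φb r) (xcU P φa φb) (star (r : F)))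
    (hF7 : ∀ (r : Fˣ) (ξ : Lam F True),
      P.HU r * XpU ξ * (P.HU r)⁻¹ = XpU (Lam.act ((r : F) ^ 2 / star (r : F)) ξ)) :
    TorU P φa φb where
  comm := h1
  wa_hb := h3.1
  wa_hb' := h3.2
  wb_ha := h8.1
  wb_ha' := h8.2.1
  wb_hb := h8.2.2.1
  wb_hb' := h8.2.2.2.1
  ab := h2
  ac := h8.2.2.2.2.1
  bc := h8.2.2.2.2.2
  a_yb := h6
  b_yb := by
    intro r ξ
    unfold hbF yb
    rw [← map_inv, ← map_mul, ← map_mul, hF7]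
  a_yd := h7.1
  b_yd := h7.2

end T

end Cfsg.Agent.Lib.Helper19.SU5
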