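import Mathlib
import Cfsg.Agent.Lib.Helper19.SU5.Defs
import Cfsg.Agent.Lib.Helper16.SU5T8
import Cfsg.Agent.Lib.Helper16.SU5T9core
import Cfsg.Agent.Lib.helper8.SU5T1
import Cfsg.Agent.Lib.Helper9.SU5T5
import Cfsg.Agent.Lib.Helper20.SU5T6
import Cfsg.Agent.Lib.helper15.SU5F7
import Cfsg.Prelude.Def_Classical

/-!
# Project SU5 (designer helper19), row T9 (`torU`) (helper16), VERBATIM.
-/

set_option autoImplicit false

namespace Cfsg.Agent.Lib.Helper19.SU5

open Cfsg.Agent.Lib.helper17.SLP Cfsg.Agent.Lib.helper3.SP4 Cfsg.Agent.Lib.Helper22.SU4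
open Cfsg.Agent.Lib.Helper27.STU (Lam XpM XmM XpS XmS SUm XpU XmU)

universe u v

section T

variable {F : Type u} {K : Type u} [Field F] [Field K] [StarRing F] [Fintype F] [Fintype K] {D : Tw F K}
  {G : Type v} [Group G]

/-- T9 [S] -/
theorem torU (hFK : Fintype.card F = Fintype.card K ^ 2) (P : RO D)
    (φa : Matrix.SpecialLinearGroup (Fin 2) F →* G) (φb : ↥(SUm F True) →* G) (H : HypU P φa φb) :
    TorU P φa φb := by
  have h2 := act_abU P φa φb H
  have h3 := wa_hbU P φa φb H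
  have h6 := tor_ybU hFK P φa φb H
  have R4 := (su4_of_hypU hFK P φa φb H).1
  exact su5t9_core P φa φb (tor_commU P φa φb H) h2 h3 h6 (tor_ydU P φa φb h3.1 h6) (tor_wbU hFK P φa φb R4 h2)
    (fun r ξ => (hu_conjU P r ξ).1)

end T

end Cfsg.Agent.Lib.Helper19.SU5
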