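import Mathlib

/-!
# TSD (S5980) row SKEW, second copy (helper16): a skew-symmetric matrix over a field with `2 ≠ 0` has even rank.

`W` a complement of `ker M`, `b` a basis of `W` (`finrank W = rank M` by rank-nullity); the Gram matrix
`G k l = b_k ⬝ᵥ (M *ᵥ b_l)` is skew-symmetric with `det G ≠ 0`, and `det G = det Gᵀ = (-1)^r det G`.
-/

set_option autoImplicit false

namespace Cfsg.Agent.Lib.helper4.TSD

open Matrix

variable {F : Type*} [Field F]

theorem tsdskew_h16_rank_even (h2 : (2 : F) ≠ 0) {n : ℕ} (M : Matrix (Fin n) (Fin n) F) (hM : Mᵀ = -M) :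
    Even M.rank := by
  classical
  set φ : (Fin n → F) →ₗ[F] (Fin n → F) := M.mulVecLin with hφ
  set K := LinearMap.ker φ with hK
  obtain ⟨W, hW⟩ := Submodule.exists_isCompl K
  have hrk : Module.finrank F W = M.rank := by
    have h1 : Module.finrank F K + Module.finrank F W = Module.finrank F (Fin n → F) :=
      Submodule.finrank_add_eq_of_isCompl hW
    have h2' : Module.finrank F (LinearMap.range φ) + Module.finrank F K =
        Module.finrank F (Fin n → F) := LinearMap.finrank_range_add_finrank_ker φ
    have h3 : M.rank = Module.finrank F (LinearMap.range φ) := rfl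
    omega
  rw [← hrk]
  set r := Module.finrank F W with hr
  let b : Module.Basis (Fin r) F W := Module.finBasis F W
  let G : Matrix (Fin r) (Fin r) F :=
    fun k l => ((b k : W) : Fin n → F) ⬝ᵥ (M *ᵥ ((b l : W) : Fin n → F))
  have hskew : ∀ x y : Fin n → F, x ⬝ᵥ (M *ᵥ y) = - (y ⬝ᵥ (M *ᵥ x)) := by
    intro x y
    rw [Matrix.dotProduct_mulVec, ← Matrix.mulVec_transpose, hM, Matrix.neg_mulVec, neg_dotProduct,
      dotProduct_comm]
  have hGt : Gᵀ = -G := by
    ext k l
    simp only [Matrix.transpose_apply, Matrix.neg_apply, G]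
    exact hskew _ _
  have hdet : G.det ≠ 0 := by
    intro h0
    obtain ⟨c, hc0, hc⟩ := Matrix.exists_mulVec_eq_zero_iff.mpr h0
    set w : W := ∑ l, c l • b l with hw
    have hwne : w ≠ 0 := by
      intro hw0
      apply hc0
      have := (Fintype.linearIndependent_iff.mp b.linearIndependent) c hw0
      funext i
      exact this i
    set u : Fin n → F := M *ᵥ (w : Fin n → F) with hu
    have hwc : (w : Fin n → F) = ∑ l, c l • ((b l : W) : Fin n → F) := by
      rw [hw]
      simp [Submodule.coe_sum]
    have hbk : ∀ k, ((b k : W) : Fin n → F) ⬝ᵥ u = 0 := by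
      intro k
      have hck := congrFun hc k
      have e1 : u = ∑ l, c l • (M *ᵥ ((b l : W) : Fin n → F)) := by
        rw [hu, hwc]
        have : M *ᵥ (∑ l, c l • ((b l : W) : Fin n → F)) =
            M.mulVecLin (∑ l, c l • ((b l : W) : Fin n → F)) := rfl
        rw [this, map_sum]
        apply Finset.sum_congr rfl
        intro l _
        rw [map_smul]
        rfl
      rw [e1, dotProduct_sum]
      have e2 : (G *ᵥ c) k = ∑ l, G k l * c l := rfl
      rw [e2] at hck
      refine Eq.trans ?_ hck
      apply Finset.sum_congr rfl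
      intro l _
      rw [dotProduct_smul, smul_eq_mul, mul_comm]
    let ℓ : (Fin n → F) →ₗ[F] F :=
      { toFun := fun x => x ⬝ᵥ u
        map_add' := fun x y => add_dotProduct x y u
        map_smul' := fun a x => by simp [smul_dotProduct] }
    have hℓW : W ≤ LinearMap.ker ℓ := by
      intro x hx
      rw [LinearMap.mem_ker]
      have hfg : ℓ.comp W.subtype = 0 := by
        apply b.ext
        intro k
        simp only [LinearMap.comp_apply, Submodule.subtype_apply, LinearMap.zero_apply]
        exact hbk k
      have := LinearMap.congr_fun hfg ⟨x, hx⟩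
      simpa using this
    have hℓK : K ≤ LinearMap.ker ℓ := by
      intro x hx
      rw [LinearMap.mem_ker]
      have hx0 : M *ᵥ x = 0 := by
        have : φ x = 0 := LinearMap.mem_ker.mp hx
        exact this
      show x ⬝ᵥ u = 0
      rw [hu, hskew, hx0, dotProduct_zero, neg_zero]
    have htop : LinearMap.ker ℓ = ⊤ := by
      apply top_le_iff.mp
      rw [← hW.sup_eq_top]
      exact sup_le hℓK hℓW
    have hu0 : u = 0 := by
      funext i
      have : Pi.single i (1 : F) ∈ LinearMap.ker ℓ := by rw [htop]; trivial
      rw [LinearMap.mem_ker] at this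
      have h' : Pi.single i (1 : F) ⬝ᵥ u = 0 := this
      rw [single_one_dotProduct] at h'
      simpa using h'
    have hwK : (w : Fin n → F) ∈ K := by
      rw [hK, LinearMap.mem_ker]
      exact hu0
    have hwW : (w : Fin n → F) ∈ W := w.2
    have hbot : (w : Fin n → F) ∈ K ⊓ W := ⟨hwK, hwW⟩
    rw [hW.inf_eq_bot] at hbot
    have : (w : Fin n → F) = 0 := (Submodule.mem_bot F).mp hbot
    exact hwne (Subtype.ext this)
  by_contra hodd
  rw [Nat.not_even_iff_odd] at hodd
  have h1 : G.det = Gᵀ.det := (Matrix.det_transpose G).symm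
  rw [hGt, Matrix.det_neg, Fintype.card_fin, hodd.neg_one_pow] at h1
  have h3 : (2 : F) * G.det = 0 := by
    have : G.det + G.det = 0 := by
      nth_rewrite 1 [h1]
      ring
    rw [two_mul]; exact this
  rcases mul_eq_zero.mp h3 with h | h
  · exact h2 h
  · exact hdet h

end Cfsg.Agent.Lib.helper4.TSD
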