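import Mathlib
import Cfsg.Prelude.Def_GeometricClasses
import Cfsg.Agent.Lib.Helper27.ASC.Defs

/-!
# Project ASC, piece DEC3 : over the field with three elements the stabiliser of a decomposition into lines
is orthogonal (it preserves the sum of squares of the coordinates along the lines).
-/

set_option autoImplicit false
set_option linter.unusedVariables false

namespace Cfsg.Agent.Lib.Helper27.ASC

open Cfsg Cfsg.Geo
open scoped MatrixGroups Matrix
open Module

variable {n : ℕ} {F : Type*} [Field F] [Fintype F]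

/-- in a field with three elements `2 ≠ 0` -/
theorem ascdec3_two_ne_zero (hq : Fintype.card F = 3) : (2 : F) ≠ 0 := by
  intro h2
  have h1 : addOrderOf (1 : F) ∣ 2 := by
    rw [addOrderOf_dvd_iff_nsmul_eq_zero]
    rw [nsmul_eq_mul, mul_one]
    exact_mod_cast h2
  have h3 : addOrderOf (1 : F) ∣ 3 := by
    rw [← hq]
    exact addOrderOf_dvd_card
  have h4 : addOrderOf (1 : F) ∣ 1 := by
    have := Nat.dvd_sub h3 h1
    simpa using this
  have h5 : addOrderOf (1 : F) = 1 := Nat.dvd_one.mp h4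
  rw [AddMonoid.addOrderOf_eq_one_iff] at h5
  exact one_ne_zero h5

/-- in a field with three elements the square of a non-zero element is `1` -/
theorem ascdec3_sq_eq_one (hq : Fintype.card F = 3) (c : F) (hc : c ≠ 0) : c ^ 2 = 1 := by
  have h := FiniteField.pow_card_sub_one_eq_one c hc
  rwa [hq] at h

/-- the sum of squares of the coordinates with respect to a basis is a non-degenerate quadratic form
when `2 ≠ 0` -/
theorem ascdec3_sumsq_nondeg {t : ℕ} (b : Basis (Fin t) F (Fin n → F)) (h2 : (2 : F) ≠ 0) :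
    IsNondegenerateQuadraticForm (fun v : Fin n → F => ∑ i, (b.equivFun v i) ^ 2) := by
  have hpolar : QuadraticMap.polar (fun v : Fin n → F => ∑ i, (b.equivFun v i) ^ 2) =
      fun u v => 2 * ∑ i, b.equivFun u i * b.equivFun v i := by
    funext u v
    unfold QuadraticMap.polar
    simp only [map_add, Pi.add_apply]
    rw [Finset.mul_sum, ← Finset.sum_sub_distrib, ← Finset.sum_sub_distrib]
    refine Finset.sum_congr rfl fun i _ => ?_
    ring
  refine ⟨fun c v => ?_, ?_, ?_⟩
  · simp only [map_smul, Pi.smul_apply, smul_eq_mul]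
    rw [Finset.mul_sum]
    refine Finset.sum_congr rfl fun i _ => ?_
    ring
  · rw [hpolar]
    refine ⟨fun x y v => ?_, fun c x v => ?_, fun v x y => ?_, fun c v x => ?_⟩
    · simp only [map_add, Pi.add_apply, Finset.mul_sum]
      rw [← Finset.sum_add_distrib]
      refine Finset.sum_congr rfl fun i _ => ?_
      ring
    · simp only [map_smul, Pi.smul_apply, smul_eq_mul, Finset.mul_sum]
      refine Finset.sum_congr rfl fun i _ => ?_
      ring
    · simp only [map_add, Pi.add_apply, Finset.mul_sum]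
      rw [← Finset.sum_add_distrib]
      refine Finset.sum_congr rfl fun i _ => ?_
      ring
    · simp only [map_smul, Pi.smul_apply, smul_eq_mul, Finset.mul_sum]
      refine Finset.sum_congr rfl fun i _ => ?_
      ring
  · rw [hpolar]
    intro v hv
    have hev : b.equivFun v ≠ 0 := by
      intro h
      exact hv (b.equivFun.map_eq_zero_iff.mp h)
    obtain ⟨j, hj⟩ := Function.ne_iff.mp hev
    have hj' : b.equivFun v j ≠ 0 := hj
    have hsum1 : ∑ i, b.equivFun (b j) i * b.equivFun v i = b.equivFun v j := by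
      rw [Finset.sum_eq_single j]
      · rw [Basis.equivFun_self, if_pos rfl, one_mul]
      · intro i _ hij
        rw [Basis.equivFun_self, if_neg (Ne.symm hij), zero_mul]
      · intro h
        exact absurd (Finset.mem_univ j) h
    have hsum2 : ∑ i, b.equivFun v i * b.equivFun (b j) i = b.equivFun v j := by
      rw [← hsum1]
      refine Finset.sum_congr rfl fun i _ => ?_
      ring
    refine ⟨⟨b j, ?_⟩, ⟨b j, ?_⟩⟩
    · show 2 * ∑ i, b.equivFun (b j) i * b.equivFun v i ≠ 0
      rw [hsum1]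
      exact mul_ne_zero h2 hj'
    · show 2 * ∑ i, b.equivFun v i * b.equivFun (b j) i ≠ 0
      rw [hsum2]
      exact mul_ne_zero h2 hj'

/-- a matrix sending every basis vector `b i` to `c i • b (σ i)` with `c i ^ 2 = 1` preserves the sum of squares of
the coordinates -/
theorem ascdec3_sumsq_inv {t : ℕ} (b : Basis (Fin t) F (Fin n → F)) (g : Matrix (Fin n) (Fin n) F)
    (σ : Equiv.Perm (Fin t)) (c : Fin t → F) (hc : ∀ i, c i ^ 2 = 1)
    (hg : ∀ i, g *ᵥ (b i) = c i • b (σ i)) (v : Fin n → F) :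
    ∑ i, (b.equivFun (g *ᵥ v) i) ^ 2 = ∑ i, (b.equivFun v i) ^ 2 := by
  have hv : g *ᵥ v = b.equivFun.symm (fun j => b.equivFun v (σ.symm j) * c (σ.symm j)) := by
    rw [Basis.equivFun_symm_apply]
    conv_lhs => rw [← b.sum_equivFun v]
    rw [← Matrix.toLin'_apply, map_sum]
    rw [← Equiv.sum_comp σ (fun j => (b.equivFun v (σ.symm j) * c (σ.symm j)) • b j)]
    refine Finset.sum_congr rfl fun i _ => ?_
    rw [map_smul, Matrix.toLin'_apply, hg i, Equiv.symm_apply_apply, smul_smul]
  rw [hv, LinearEquiv.apply_symm_apply]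
  rw [← Equiv.sum_comp σ (fun j => (b.equivFun v (σ.symm j) * c (σ.symm j)) ^ 2)]
  refine Finset.sum_congr rfl fun i _ => ?_
  rw [Equiv.symm_apply_apply, mul_pow, hc i, mul_one]

/-- DEC3 -/
theorem dec_q3 {t : ℕ} (D : Fin t → Submodule F (Fin n → F)) (hD : IsMDecomposition 1 D) (hq : Fintype.card F = 3) :
    ∃ Q : (Fin n → F) → F, IsNondegenerateQuadraticForm Q ∧ decompositionStabilizer D ≤ quadSimilarityGroup Q := by
  classical
  -- generators of the lines
  have hgen : ∀ i, ∃ d : Fin n → F, d ∈ D i ∧ d ≠ 0 ∧ ∀ w ∈ D i, ∃ c : F, w = c • d := by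
    intro i
    obtain ⟨v, hv0, hv⟩ := (finrank_eq_one_iff' (K := F) (V := ↥(D i))).mp (hD.finrank_eq i)
    refine ⟨(v : Fin n → F), v.2, fun h => hv0 (Subtype.ext h), fun w hw => ?_⟩
    obtain ⟨c, hc⟩ := hv ⟨w, hw⟩
    refine ⟨c, ?_⟩
    have := congrArg Subtype.val hc
    simpa using this.symm
  choose d hdmem hd0 hdgen using hgen
  have hli : LinearIndependent F d := hD.indep.linearIndependent D hdmem hd0
  have hspan : ⊤ ≤ Submodule.span F (Set.range d) := by
    rw [← hD.iSup_eq_top]
    refine iSup_le fun i w hw => ?_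
    obtain ⟨c, rfl⟩ := hdgen i w hw
    exact Submodule.smul_mem _ _ (Submodule.subset_span ⟨i, rfl⟩)
  let b : Basis (Fin t) F (Fin n → F) := Basis.mk hli hspan
  have hb : ∀ i, b i = d i := fun i => Basis.mk_apply hli hspan i
  refine ⟨fun v => ∑ i, (b.equivFun v i) ^ 2, ascdec3_sumsq_nondeg b (ascdec3_two_ne_zero hq), ?_⟩
  intro g hg
  obtain ⟨σ, hσ⟩ := hg
  -- `g d_i = c_i d_(σ i)`
  have hgd : ∀ i, ∃ c : F, c ^ 2 = 1 ∧ (g : Matrix (Fin n) (Fin n) F) *ᵥ (b i) = c • b (σ i) := by
    intro i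
    have hmem : (g : Matrix (Fin n) (Fin n) F) *ᵥ (d i) ∈ D (σ i) := by
      rw [← hσ i, ← Matrix.toLin'_apply]
      exact Submodule.mem_map_of_mem (hdmem i)
    obtain ⟨c, hc⟩ := hdgen (σ i) _ hmem
    have hc0 : c ≠ 0 := by
      intro h0
      rw [h0, zero_smul] at hc
      have h1 : ((g⁻¹ : GL (Fin n) F) : Matrix (Fin n) (Fin n) F) *ᵥ
          ((g : Matrix (Fin n) (Fin n) F) *ᵥ (d i)) = d i := by
        rw [Matrix.mulVec_mulVec, ← Units.val_mul, inv_mul_cancel, Units.val_one, Matrix.one_mulVec]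
      rw [hc, Matrix.mulVec_zero] at h1
      exact hd0 i h1.symm
    exact ⟨c, ascdec3_sq_eq_one hq c hc0, by rw [hb, hb, hc]⟩
  choose c hc2 hcg using hgd
  refine ⟨1, fun v => ?_⟩
  rw [Units.val_one, one_mul]
  exact ascdec3_sumsq_inv b (g : Matrix (Fin n) (Fin n) F) σ c hc2 hcg v

end Cfsg.Agent.Lib.Helper27.ASC
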