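import Mathlib
import Cfsg.Prelude.Def_GeometricClasses
import Cfsg.Agent.Lib.Helper27.ASC.Defs
import Cfsg.Agent.Lib.helper23.ASCO.Defs
import Cfsg.Agent.Lib.Helper19.ASG.Defs
import Cfsg.Agent.Lib.Helper1.ASGCLIF3
import Cfsg.Agent.Lib.Helper25.ASO.Defs
import Cfsg.Agent.Lib.helper23.ASE.Defs
import Cfsg.Agent.Lib.Helper16.ASE10.Defs
import Cfsg.Agent.Lib.Helper13.ASEPLUSDECcore
import Cfsg.Agent.Lib.helper15.NPNP3A

set_option autoImplicit false
set_option linter.unusedVariables false
set_option linter.unusedSectionVars false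

/-!
# Project E10M (leader helper16), piece DISC : `plus_of_non_iso_halves`

`-1` not a square: two NON-isometric orthogonal non-degenerate halves of odd dimension make the space of plus type.
Normal forms `<1, .., 1, d>`, `<1, .., 1, d'>` (`Helper9.NotPlus.odd_normal_form`); `d' / d` a square: isometric; otherwise
`d' = - d s²` and the graph of an anti-isometry is totally singular of half the dimension.
-/

namespace Cfsg.Agent.Lib.Helper16.E10M

open Cfsg Cfsg.Geo Cfsg.Agent.Lib.Helper27.ASC Cfsg.Agent.Lib.helper23.ASCO Cfsg.Agent.Lib.Helper19.ASG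
  Cfsg.Agent.Lib.Helper25.ASO
open scoped MatrixGroups Matrix Kronecker

variable {n : ℕ} {F : Type*} [Field F] [Fintype F]

/-- `Q` of a linear combination of pairwise orthogonal vectors -/
theorem e10mdisc_Q_comb (Q : QuadraticForm F (Fin n → F)) {k : ℕ} (b : Fin k → (Fin n → F))
    (hb : ∀ i j, i ≠ j → QuadraticMap.polar (⇑Q) (b i) (b j) = 0) (x : Fin k → F) :
    Q (∑ j, x j • b j) = ∑ j, x j * x j * Q (b j) := by
  rw [Cfsg.Agent.Lib.helper23.ASE.aseplusdec_map_sum Q]
  · apply Finset.sum_congr rfl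
    intro j _
    rw [QuadraticMap.map_smul, smul_eq_mul]
  · intro i _ j _ hij
    rw [QuadraticMap.polar_smul_left, QuadraticMap.polar_smul_right, hb i j hij, smul_zero, smul_zero]

/-- coordinates of a subspace with respect to a linearly independent family of the right size -/
theorem e10mdisc_coord (W : Submodule F (Fin n → F)) {k : ℕ} (hd : Module.finrank F W = k)
    (b : Fin k → (Fin n → F)) (hbW : ∀ j, b j ∈ W) (hli : LinearIndependent F b) :
    ∃ φ : (Fin k → F) ≃ₗ[F] W, ∀ x, ((φ x : W) : Fin n → F) = ∑ j, x j • b j := by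
  classical
  have hf : ∀ x, Fintype.linearCombination F b x = ∑ j, x j • b j :=
    fun x => Fintype.linearCombination_apply F b x
  have hfW : ∀ x, Fintype.linearCombination F b x ∈ W := by
    intro x
    rw [hf]
    exact W.sum_mem (fun j _ => W.smul_mem _ (hbW j))
  let g : (Fin k → F) →ₗ[F] W := (Fintype.linearCombination F b).codRestrict W hfW
  have hginj : Function.Injective g := by
    intro x y hxy
    have h1 : Fintype.linearCombination F b x = Fintype.linearCombination F b y := congrArg Subtype.val hxy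
    exact linearIndependent_iff_injective_fintypeLinearCombination.mp hli h1
  have hfr : Module.finrank F (Fin k → F) = Module.finrank F W := by
    rw [hd, Module.finrank_fin_fun]
  have hgsurj : Function.Surjective g :=
    (LinearMap.injective_iff_surjective_of_finrank_eq_finrank hfr).mp hginj
  refine ⟨LinearEquiv.ofBijective g ⟨hginj, hgsurj⟩, ?_⟩
  intro x
  exact hf x

/-- matched (up to squares) orthogonal bases give an isometry -/
theorem e10mdisc_iso (Q : QuadraticForm F (Fin n → F)) (W W' : Submodule F (Fin n → F)) {k : ℕ}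
    (hd : Module.finrank F W = k) (hd' : Module.finrank F W' = k)
    (b b' : Fin k → (Fin n → F)) (hbW : ∀ j, b j ∈ W) (hbW' : ∀ j, b' j ∈ W')
    (hli : LinearIndependent F b) (hli' : LinearIndependent F b')
    (ho : ∀ i j, i ≠ j → QuadraticMap.polar (⇑Q) (b i) (b j) = 0)
    (ho' : ∀ i j, i ≠ j → QuadraticMap.polar (⇑Q) (b' i) (b' j) = 0)
    (c : Fin k → F) (hc : ∀ j, c j ≠ 0) (hq : ∀ j, Q (b j) = c j * c j * Q (b' j)) :
    AreIsometricFor (⇑Q) W W' := by
  classical
  obtain ⟨φ, hφ⟩ := e10mdisc_coord W hd b hbW hli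
  obtain ⟨φ', hφ'⟩ := e10mdisc_coord W' hd' b' hbW' hli'
  let T : (Fin k → F) ≃ₗ[F] (Fin k → F) :=
    LinearEquiv.piCongrRight (fun j => LinearEquiv.smulOfNeZero F F (c j) (hc j))
  have hT : ∀ x j, T x j = c j * x j := by
    intro x j
    simp [T]
  refine ⟨(φ.symm.trans T).trans φ', ?_⟩
  intro w
  obtain ⟨x, rfl⟩ := φ.surjective w
  rw [LinearEquiv.trans_apply, LinearEquiv.trans_apply, LinearEquiv.symm_apply_apply, hφ, hφ',
    e10mdisc_Q_comb Q b ho, e10mdisc_Q_comb Q b' ho']
  apply Finset.sum_congr rfl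
  intro j _
  rw [hT, hq j]
  ring

/-- the rotation identity on pairs of coordinates -/
theorem e10mdisc_rot (h2 : (2 : F) ≠ 0) {r : ℕ} (a c : F) (hac : a * a + c * c = -1) :
    ∃ (σ : Fin (2 * r) → Fin (2 * r)) (ε : Fin (2 * r) → F), ∀ y : Fin (2 * r) → F,
      ∑ i, (a * y i + c * ε i * y (σ i)) * (a * y i + c * ε i * y (σ i)) = - ∑ i, y i * y i := by
  classical
  let σ : Fin (2 * r) → Fin (2 * r) := fun i =>
    ⟨if i.val % 2 = 0 then i.val + 1 else i.val - 1, by
      have := i.isLt
      split_ifs <;> omega⟩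
  let ε : Fin (2 * r) → F := fun i => if i.val % 2 = 0 then 1 else -1
  have hσσ : Function.Involutive σ := by
    intro i
    apply Fin.ext
    simp only [σ]
    split_ifs <;> omega
  have hεσ : ∀ i, ε (σ i) = - ε i := by
    intro i
    simp only [ε, σ]
    split_ifs <;> first | omega | simp
  have hεε : ∀ i, ε i * ε i = 1 := by
    intro i
    simp only [ε]
    split_ifs <;> ring
  refine ⟨σ, ε, ?_⟩
  intro y
  have h1 : ∑ i, y (σ i) * y (σ i) = ∑ i, y i * y i :=
    Fintype.sum_bijective σ hσσ.bijective _ _ (fun i => rfl)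
  have h3 : ∑ i, ε i * y i * y (σ i) = - ∑ i, ε i * y i * y (σ i) := by
    calc ∑ i, ε i * y i * y (σ i) = ∑ i, ε (σ i) * y (σ i) * y (σ (σ i)) :=
          (Fintype.sum_bijective σ hσσ.bijective (fun i => ε (σ i) * y (σ i) * y (σ (σ i)))
            (fun i => ε i * y i * y (σ i)) (fun i => rfl)).symm
      _ = ∑ i, - (ε i * y i * y (σ i)) := by
          apply Finset.sum_congr rfl
          intro i _
          rw [hσσ i, hεσ i]
          ring
      _ = - ∑ i, ε i * y i * y (σ i) := Finset.sum_neg_distrib _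
  have hS : ∑ i, ε i * y i * y (σ i) = 0 := by
    have h4 : (2 : F) * ∑ i, ε i * y i * y (σ i) = 0 := by linear_combination h3
    rcases mul_eq_zero.mp h4 with h | h
    · exact absurd h h2
    · exact h
  have h5 : ∀ i, (a * y i + c * ε i * y (σ i)) * (a * y i + c * ε i * y (σ i)) =
      a * a * (y i * y i) + c * c * (y (σ i) * y (σ i)) + 2 * a * c * (ε i * y i * y (σ i)) := by
    intro i
    linear_combination (c * c * (y (σ i) * y (σ i))) * hεε i
  simp_rw [h5]
  rw [Finset.sum_add_distrib, Finset.sum_add_distrib, ← Finset.mul_sum, ← Finset.mul_sum, ← Finset.mul_sum, h1, hS]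
  linear_combination (∑ i, y i * y i) * hac

/-- the product of two non-squares of a finite field is a square -/
theorem e10mdisc_nonsq_mul {x y : F} (hx : ¬ IsSquare x) (hy : ¬ IsSquare y) : IsSquare (x * y) := by
  classical
  have hx0 : x ≠ 0 := fun h => hx (h ▸ IsSquare.zero)
  have hy0 : y ≠ 0 := fun h => hy (h ▸ IsSquare.zero)
  rw [← quadraticChar_one_iff_isSquare (mul_ne_zero hx0 hy0), map_mul,
    quadraticChar_neg_one_iff_not_isSquare.2 hx, quadraticChar_neg_one_iff_not_isSquare.2 hy]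
  norm_num

/-- DISC -/
theorem plus_of_non_iso_halves (hsq : ¬ IsSquare (-1 : F)) (Q : QuadraticForm F (Fin n → F))
    (hQ : (QuadraticMap.polarBilin Q).Nondegenerate) {k : ℕ} (hk : Odd k)
    (D : Fin 2 → Submodule F (Fin n → F)) (hD : IsNondegenerateMDecomposition (QuadraticMap.polar (⇑Q)) k D)
    (hni : ¬ AreIsometricFor (⇑Q) (D 0) (D 1)) : IsPlusTypeOn (⇑Q) ⊤ := by
  classical
  have h2 : (2 : F) ≠ 0 := by
    intro h
    apply hsq
    exact ⟨1, by linear_combination (-1 : F) * h⟩
  obtain ⟨r, hr⟩ := hk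
  subst hr
  have hn : 2 * (2 * r + 1) = n := Cfsg.Agent.Lib.Helper28.Ld.card_eq D hD.decomp
  obtain ⟨b, hbW, hli, ho, hb1, hbl⟩ := Cfsg.Agent.Lib.Helper9.NotPlus.odd_normal_form h2 Q (2 * r) (D 0)
    (hD.nondegenerate 0) (hD.decomp.finrank_eq 0)
  obtain ⟨b', hbW', hli', ho', hb1', hbl'⟩ := Cfsg.Agent.Lib.Helper9.NotPlus.odd_normal_form h2 Q (2 * r) (D 1)
    (hD.nondegenerate 1) (hD.decomp.finrank_eq 1)
  by_cases hs : IsSquare (Q (b (Fin.last (2 * r))) * (Q (b' (Fin.last (2 * r))))⁻¹)
  · -- the halves are isometric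
    exfalso
    apply hni
    obtain ⟨s, hs⟩ := hs
    have hs0 : s ≠ 0 := by
      rintro rfl
      rw [mul_zero] at hs
      exact mul_ne_zero hbl (inv_ne_zero hbl') hs
    refine e10mdisc_iso Q (D 0) (D 1) (hD.decomp.finrank_eq 0) (hD.decomp.finrank_eq 1) b b' hbW hbW' hli hli'
      ho ho' (Fin.lastCases s (fun _ => 1)) ?_ ?_
    · intro j
      refine Fin.lastCases ?_ (fun i => ?_) j
      · rw [Fin.lastCases_last]
        exact hs0
      · rw [Fin.lastCases_castSucc]
        exact one_ne_zero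
    · intro j
      refine Fin.lastCases ?_ (fun i => ?_) j
      · rw [Fin.lastCases_last, ← hs, mul_assoc, inv_mul_cancel₀ hbl', mul_one]
      · rw [Fin.lastCases_castSucc, hb1, hb1']
        ring
  · -- the graph of an anti-isometry
    have hs' := e10mdisc_nonsq_mul hsq hs
    obtain ⟨s, hs'⟩ := hs'
    have hsd : s * s * Q (b' (Fin.last (2 * r))) = - Q (b (Fin.last (2 * r))) := by
      rw [← hs', mul_assoc, mul_assoc, inv_mul_cancel₀ hbl', mul_one, neg_one_mul]
    obtain ⟨a, c, hac0⟩ := Cfsg.Agent.Lib.Helper9.NotPlus.npnp3a_repr h2 (-1 : F) (-1 : F)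
      (neg_ne_zero.mpr one_ne_zero) (neg_ne_zero.mpr one_ne_zero)
    have hac : a * a + c * c = -1 := by linear_combination (-1 : F) * hac0
    obtain ⟨σ, ε, hrot⟩ := e10mdisc_rot h2 (r := r) a c hac
    obtain ⟨φ, hφ⟩ := e10mdisc_coord (D 0) (hD.decomp.finrank_eq 0) b hbW hli
    obtain ⟨φ', hφ'⟩ := e10mdisc_coord (D 1) (hD.decomp.finrank_eq 1) b' hbW' hli'
    let T : (Fin (2 * r + 1) → F) →ₗ[F] (Fin (2 * r + 1) → F) :=
      LinearMap.pi (fun j => Fin.lastCases (motive := fun _ => (Fin (2 * r + 1) → F) →ₗ[F] F)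
        (s • LinearMap.proj (Fin.last (2 * r)))
        (fun i => a • LinearMap.proj i.castSucc + (c * ε i) • LinearMap.proj (σ i).castSucc) j)
    have hTl : ∀ x, T x (Fin.last (2 * r)) = s * x (Fin.last (2 * r)) := by
      intro x
      simp [T]
    have hTc : ∀ x (i : Fin (2 * r)), T x i.castSucc = a * x i.castSucc + c * ε i * x (σ i).castSucc := by
      intro x i
      simp [T]
    let Ψ : (Fin (2 * r + 1) → F) →ₗ[F] (Fin n → F) :=
      (D 0).subtype ∘ₗ φ.toLinearMap + (D 1).subtype ∘ₗ φ'.toLinearMap ∘ₗ T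
    have hΨ : ∀ x, Ψ x = ((φ x : D 0) : Fin n → F) + ((φ' (T x) : D 1) : Fin n → F) := fun x => rfl
    have hdisj : Disjoint (D 0) (D 1) := hD.decomp.indep.pairwiseDisjoint (by decide)
    have hΨinj : Function.Injective Ψ := by
      rw [← LinearMap.ker_eq_bot, LinearMap.ker_eq_bot']
      intro x hx
      rw [hΨ] at hx
      have h1 : ((φ x : D 0) : Fin n → F) = - ((φ' (T x) : D 1) : Fin n → F) := eq_neg_of_add_eq_zero_left hx
      have h3 : ((φ x : D 0) : Fin n → F) ∈ D 1 := by
        rw [h1]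
        exact (D 1).neg_mem (φ' (T x)).2
      have h4 : ((φ x : D 0) : Fin n → F) = 0 := (Submodule.disjoint_def.mp hdisj) _ (φ x).2 h3
      have h5 : φ x = 0 := Subtype.ext h4
      exact φ.map_eq_zero_iff.mp h5
    refine ⟨LinearMap.range Ψ, le_top, ?_, ?_⟩
    · rintro _ ⟨x, rfl⟩
      rw [hΨ, QuadraticMap.map_add Q, hD.orthogonal 0 1 (by decide) _ (φ x).2 _ (φ' (T x)).2, add_zero, hφ, hφ',
        e10mdisc_Q_comb Q b ho, e10mdisc_Q_comb Q b' ho', Fin.sum_univ_castSucc, Fin.sum_univ_castSucc]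
      simp_rw [hb1, hb1', hTc, hTl, mul_one]
      rw [hrot (fun i => x i.castSucc)]
      linear_combination (x (Fin.last (2 * r)) * x (Fin.last (2 * r))) * hsd
    · rw [LinearMap.finrank_range_of_inj hΨinj, Module.finrank_fin_fun, finrank_top,
        Module.finrank_fintype_fun_eq_card, Fintype.card_fin]
      exact hn

end Cfsg.Agent.Lib.Helper16.E10M
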