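import Mathlib
import Cfsg.Prelude.Def_GeometricClasses
import Cfsg.Agent.Lib.Helper27.ASC.Defs
import Cfsg.Agent.Lib.helper23.ASCO.Defs
import Cfsg.Agent.Lib.Helper19.ASG.Defs
import Cfsg.Agent.Lib.Helper1.ASGCLIF3
import Cfsg.Agent.Lib.Helper25.ASO.Defs
import Cfsg.Agent.Lib.helper23.ASE.Defs
import Cfsg.Agent.Lib.Helper25.ASOADJ
import Cfsg.Agent.Lib.Helper1.ASODEC2

set_option autoImplicit false
set_option linter.unusedVariables false
set_option linter.unusedSectionVars false

/-!
# Project ASE (leader helper23), piece PAIR2 : `epair_two`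

Two idempotents of an idempotent system exchanged by the adjoint give a pair of totally singular subspaces (all
characteristics; in characteristic 2 the irreducibility of `H` is used).
-/

namespace Cfsg.Agent.Lib.helper23.ASE

open Cfsg Cfsg.Geo Cfsg.Agent.Lib.Helper27.ASC Cfsg.Agent.Lib.helper23.ASCO Cfsg.Agent.Lib.Helper19.ASG
  Cfsg.Agent.Lib.Helper25.ASO
open scoped MatrixGroups Matrix Kronecker

variable {n : ℕ} {F : Type*} [Field F] [Fintype F]

/-- squaring is onto in a finite field of characteristic two -/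
theorem asepair2_sqrt (h2 : (2 : F) = 0) (a : F) : ∃ c : F, c * c = a := by
  have : CharP F 2 := CharTwo.of_one_ne_zero_of_two_eq_zero one_ne_zero h2
  have : Fact (Nat.Prime 2) := ⟨Nat.prime_two⟩
  have hinj : Function.Injective (frobenius F 2) := frobenius_inj F 2
  obtain ⟨c, hc⟩ := (Finite.injective_iff_surjective.mp hinj) a
  exact ⟨c, by rw [← hc, frobenius_def, pow_two]⟩

/-- the singular vectors of a totally isotropic subspace in characteristic two -/
def asepair2Sing (Q : QuadraticForm F (Fin n → F)) (D : Submodule F (Fin n → F))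
    (hD : ∀ x ∈ D, ∀ y ∈ D, QuadraticMap.polar (⇑Q) x y = 0) : Submodule F (Fin n → F) where
  carrier := {x | x ∈ D ∧ Q x = 0}
  add_mem' := by
    rintro x y ⟨hx, hx0⟩ ⟨hy, hy0⟩
    refine ⟨D.add_mem hx hy, ?_⟩
    have h := hD x hx y hy
    unfold QuadraticMap.polar at h
    rw [hx0, hy0, sub_zero, sub_zero] at h
    exact h
  zero_mem' := ⟨D.zero_mem, map_zero Q⟩
  smul_mem' := by
    rintro c x ⟨hx, hx0⟩
    refine ⟨D.smul_mem c hx, ?_⟩
    rw [QuadraticMap.map_smul, hx0, smul_zero]

/-- PAIR2 -/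
theorem epair_two (hn : 3 ≤ n) (Q : QuadraticForm F (Fin n → F)) (hQ : (QuadraticMap.polarBilin Q).Nondegenerate)
    {H N : Subgroup (GL (Fin n) F)} (hH : Irr H) (hHO : H ≤ isometryGroup F (⇑Q)) (hN : NormalIn N H)
    (E : Fin 2 → Matrix (Fin n) (Fin n) F) (hE : IsIdemSystem H N E) (hτ : oadj (⇑Q) (E 0) = E 1) :
    ∃ k : ℕ, IsMDecomposition k (fun i => LinearMap.range (Matrix.toLin' (E i))) ∧
      (∀ i, IsTotallySingularQuad (⇑Q) (LinearMap.range (Matrix.toLin' (E i)))) ∧
      H ≤ decompositionStabilizer (fun i => LinearMap.range (Matrix.toLin' (E i))) := by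
  classical
  have hτ' : oadj (⇑Q) (E 1) = E 0 := by rw [← hτ, oadj_oadj Q hQ]
  -- the ranges are totally isotropic
  have hiso : ∀ i (u v : Fin n → F), QuadraticMap.polar (⇑Q) (E i *ᵥ u) (E i *ᵥ v) = 0 := by
    intro i u v
    rw [oadj_spec Q hQ, Matrix.mulVec_mulVec]
    fin_cases i
    · show QuadraticMap.polar (⇑Q) u ((oadj (⇑Q) (E 0) * E 0) *ᵥ v) = 0
      rw [hτ, hE.orth 1 0 (by decide), Matrix.zero_mulVec]
      exact QuadraticMap.polar_zero_right _ _
    · show QuadraticMap.polar (⇑Q) u ((oadj (⇑Q) (E 1) * E 1) *ᵥ v) = 0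
      rw [hτ', hE.orth 0 1 (by decide), Matrix.zero_mulVec]
      exact QuadraticMap.polar_zero_right _ _
  have hisoD : ∀ i, ∀ x ∈ LinearMap.range (Matrix.toLin' (E i)), ∀ y ∈ LinearMap.range (Matrix.toLin' (E i)),
      QuadraticMap.polar (⇑Q) x y = 0 := by
    rintro i _ ⟨u, rfl⟩ _ ⟨v, rfl⟩
    rw [Matrix.toLin'_apply, Matrix.toLin'_apply]
    exact hiso i u v
  have hmap : ∀ h ∈ H, ∀ i j, asgConj h (E i) = E j →
      (LinearMap.range (Matrix.toLin' (E i))).map (Matrix.toLin' (h : Matrix (Fin n) (Fin n) F)) =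
        LinearMap.range (Matrix.toLin' (E j)) := by
    intro h hh i j hij
    rw [asgclif_range_conj, hij]
  have hfr : ∀ i, Module.finrank F (LinearMap.range (Matrix.toLin' (E i))) =
      Module.finrank F (LinearMap.range (Matrix.toLin' (E 0))) := by
    intro i
    obtain ⟨h, hh, hc⟩ := hE.trans 0 i
    rw [← hmap h hh 0 i hc]
    exact (LinearEquiv.finrank_eq (Submodule.equivMapOfInjective _ (asodec2_toLin_inj h) _)).symm
  have hpos : 0 < Module.finrank F (LinearMap.range (Matrix.toLin' (E 0))) := by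
    rw [Module.finrank_pos_iff_exists_ne_zero]
    have hne : ∃ v : Fin n → F, E 0 *ᵥ v ≠ 0 := by
      by_contra hcon
      push Not at hcon
      apply hE.ne_zero 0
      apply Matrix.toLin'.injective
      apply LinearMap.ext
      intro v
      rw [Matrix.toLin'_apply, hcon v, map_zero, LinearMap.zero_apply]
    obtain ⟨v, hv⟩ := hne
    refine ⟨⟨E 0 *ᵥ v, ⟨v, by rw [Matrix.toLin'_apply]⟩⟩, ?_⟩
    intro h0
    exact hv (congrArg Subtype.val h0)
  have hdecomp : ∀ v : Fin n → F, v = E 0 *ᵥ v + E 1 *ᵥ v := by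
    intro v
    rw [← Matrix.add_mulVec, ← Fin.sum_univ_two E, hE.sum, Matrix.one_mulVec]
  have htop : (⨆ i, LinearMap.range (Matrix.toLin' (E i))) = ⊤ := by
    rw [eq_top_iff]
    intro v _
    rw [hdecomp v]
    refine Submodule.add_mem _ ?_ ?_
    · exact Submodule.mem_iSup_of_mem 0 ⟨v, by rw [Matrix.toLin'_apply]⟩
    · exact Submodule.mem_iSup_of_mem 1 ⟨v, by rw [Matrix.toLin'_apply]⟩
  have hstab : H ≤ decompositionStabilizer (fun i => LinearMap.range (Matrix.toLin' (E i))) := by
    intro h hh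
    obtain ⟨σ, hσ⟩ := hE.perm h hh
    exact ⟨σ, fun i => hmap h hh i (σ i) (hσ i)⟩
  refine ⟨Module.finrank F (LinearMap.range (Matrix.toLin' (E 0))),
    ⟨hE.two_le, hpos, hfr, asgclif_indep E hE.idem hE.orth, htop⟩, ?_, hstab⟩
  -- totally singular
  by_cases h2 : (2 : F) = 0
  swap
  · rintro i w hw
    have h := hisoD i w hw w hw
    rw [QuadraticMap.polar_self, two_smul, ← two_mul] at h
    rcases mul_eq_zero.mp h with h | h
    · exact absurd h h2
    · exact h
  · -- characteristic two
    set D : Fin 2 → Submodule F (Fin n → F) := fun i => LinearMap.range (Matrix.toLin' (E i)) with hDdef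
    set D0 : Fin 2 → Submodule F (Fin n → F) := fun i => asepair2Sing Q (D i) (hisoD i) with hD0def
    have hD0mem : ∀ i x, x ∈ D0 i ↔ x ∈ D i ∧ Q x = 0 := fun i x => Iff.rfl
    set U : Submodule F (Fin n → F) := D0 0 ⊔ D0 1 with hU
    have hUinv : ∀ s ∈ matrixSet H, U.map (Matrix.toLin' s) ≤ U := by
      rintro _ ⟨h, hh, rfl⟩
      obtain ⟨σ, hσ⟩ := hE.perm h hh
      have hD0map : ∀ i, (D0 i).map (Matrix.toLin' (h : Matrix (Fin n) (Fin n) F)) ≤ D0 (σ i) := by
        rintro i _ ⟨x, hx, rfl⟩
        obtain ⟨hxD, hx0⟩ := (hD0mem i x).mp hx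
        refine (hD0mem (σ i) _).mpr ⟨?_, ?_⟩
        · show _ ∈ LinearMap.range (Matrix.toLin' (E (σ i)))
          rw [← hmap h hh i (σ i) (hσ i)]
          exact Submodule.mem_map_of_mem hxD
        · rw [Matrix.toLin'_apply]
          have := hHO hh x x
          exact this.trans hx0
      have hle : ∀ j, D0 j ≤ U := by
        intro j
        fin_cases j
        · exact le_sup_left
        · exact le_sup_right
      rw [hU, Submodule.map_sup]
      exact sup_le ((hD0map 0).trans (hle _)) ((hD0map 1).trans (hle _))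
    have hfix : ∀ i, ∀ x ∈ D i, E i *ᵥ x = x := fun i x hx =>
      (asodec2_mem_range (E i) (hE.idem i) x).mp hx
    rcases hH U hUinv with hbot | htopU
    · -- no singular vectors: the blocks are lines
      exfalso
      have hD0bot : ∀ i, D0 i = ⊥ := by
        intro i
        rw [eq_bot_iff, ← hbot]
        fin_cases i
        · exact le_sup_left
        · exact le_sup_right
      have hle1 : ∀ i, Module.finrank F (D i) ≤ 1 := by
        intro i
        by_cases hbotD : D i = ⊥
        · rw [hbotD, finrank_bot]; exact Nat.zero_le _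
        obtain ⟨x, hx, hx0⟩ := Submodule.exists_mem_ne_zero_of_ne_bot hbotD
        have hQx : Q x ≠ 0 := by
          intro h
          have : x ∈ D0 i := (hD0mem i x).mpr ⟨hx, h⟩
          rw [hD0bot i, Submodule.mem_bot] at this
          exact hx0 this
        apply finrank_le_one (⟨x, hx⟩ : D i)
        rintro ⟨y, hy⟩
        obtain ⟨c, hc⟩ := asepair2_sqrt h2 (Q y / Q x)
        have hmem : y + c • x ∈ D0 i := by
          refine (hD0mem i _).mpr ⟨(D i).add_mem hy ((D i).smul_mem c hx), ?_⟩
          have hp : QuadraticMap.polar (⇑Q) y (c • x) = 0 := hisoD i y hy (c • x) ((D i).smul_mem c hx)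
          have h1 : Q (y + c • x) = Q y + Q (c • x) + QuadraticMap.polar (⇑Q) y (c • x) := by
            unfold QuadraticMap.polar; ring
          rw [h1, hp, add_zero, QuadraticMap.map_smul, smul_eq_mul, hc, div_mul_cancel₀ _ hQx]
          rw [← two_mul, h2, zero_mul]
        rw [hD0bot i, Submodule.mem_bot] at hmem
        refine ⟨-c, Subtype.ext ?_⟩
        show (-c) • x = y
        rw [neg_smul]
        exact (eq_neg_of_add_eq_zero_right hmem).symm ▸ (by rw [neg_neg])
      have hn2 : n ≤ 2 := by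
        have h1 : (⊤ : Submodule F (Fin n → F)) ≤ D 0 ⊔ D 1 := by
          intro v _
          rw [hdecomp v]
          exact Submodule.add_mem_sup ⟨v, by rw [Matrix.toLin'_apply]⟩ ⟨v, by rw [Matrix.toLin'_apply]⟩
        have h2' := Submodule.finrank_mono h1
        rw [finrank_top, Module.finrank_fin_fun] at h2'
        have h3 := Submodule.finrank_add_le_finrank_add_finrank (D 0) (D 1)
        have := hle1 0
        have := hle1 1
        omega
      omega
    · -- all vectors of the blocks are singular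
      intro i w hw
      have hwU : w ∈ U := by rw [htopU]; exact Submodule.mem_top
      obtain ⟨a, ha, b, hb, hab⟩ := Submodule.mem_sup.mp hwU
      obtain ⟨haD, ha0⟩ := (hD0mem 0 a).mp ha
      obtain ⟨hbD, hb0⟩ := (hD0mem 1 b).mp hb
      have hw' := hfix i w hw
      fin_cases i
      · -- `w = E 0 w = a`
        have h1 : E 0 *ᵥ w = a := by
          rw [← hab, Matrix.mulVec_add, hfix 0 a haD, ← hfix 1 b hbD, Matrix.mulVec_mulVec,
            hE.orth 0 1 (by decide), Matrix.zero_mulVec, add_zero]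
        have hw0 : w = a := hw'.symm.trans h1
        rw [hw0]; exact ha0
      · have h1 : E 1 *ᵥ w = b := by
          rw [← hab, Matrix.mulVec_add, hfix 1 b hbD, ← hfix 0 a haD, Matrix.mulVec_mulVec,
            hE.orth 1 0 (by decide), Matrix.zero_mulVec, zero_add]
        have hw0 : w = b := hw'.symm.trans h1
        rw [hw0]; exact hb0

end Cfsg.Agent.Lib.helper23.ASE
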