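import Mathlib
import Cfsg.Prelude.Def_GeometricClasses
import Cfsg.Agent.Lib.Helper27.ASC.Defs
import Cfsg.Agent.Lib.helper23.ASCO.Defs
import Cfsg.Agent.Lib.Helper19.ASG.Defs
import Cfsg.Agent.Lib.Helper1.ASGCLIF3
import Cfsg.Agent.Lib.Helper25.ASO.Defs
import Cfsg.Agent.Lib.helper23.ASE.Defs
import Cfsg.Agent.Lib.Helper16.ASCORED

set_option autoImplicit false
set_option linter.unusedVariables false
set_option linter.unusedSectionVars false

/-!
# Project ASE (leader helper23), piece PERP : `end_perp`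

The orthogonal complement of a non-degenerate subspace: non-degenerate, of complementary dimension, stabilised by the
isometries stabilising the subspace.  All characteristics.
-/

namespace Cfsg.Agent.Lib.helper23.ASE

open Cfsg Cfsg.Geo Cfsg.Agent.Lib.Helper27.ASC Cfsg.Agent.Lib.helper23.ASCO Cfsg.Agent.Lib.Helper19.ASG
  Cfsg.Agent.Lib.Helper25.ASO
open scoped MatrixGroups Matrix Kronecker

variable {n : ℕ} {F : Type*} [Field F] [Fintype F]

/-- PERP -/
theorem end_perp (Q : QuadraticForm F (Fin n → F)) (hQ : (QuadraticMap.polarBilin Q).Nondegenerate)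
    (W : Submodule F (Fin n → F)) (hW : IsNondegenerateOn (QuadraticMap.polar (⇑Q)) W) :
    ∃ W' : Submodule F (Fin n → F), Module.finrank F W + Module.finrank F W' = n ∧
      IsNondegenerateOn (QuadraticMap.polar (⇑Q)) W' ∧
      subspaceStabilizer W ⊓ isometryGroup F (⇑Q) ≤ subspaceStabilizer W' := by
  classical
  set H : Subgroup (GL (Fin n) F) := subspaceStabilizer W ⊓ isometryGroup F (⇑Q) with hH
  have hst : H ≤ subspaceStabilizer W := inf_le_left
  have hHO : H ≤ isometryGroup F (⇑Q) := inf_le_right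
  have hWm := Cfsg.Agent.Lib.helper23.ASCO.ascored_maps_of_stab H W hst
  set B : LinearMap.BilinForm F (Fin n → F) := QuadraticMap.polarBilin Q with hBdef
  have hBapp : ∀ x y : Fin n → F, B x y = QuadraticMap.polar (⇑Q) x y := fun x y => rfl
  have hpol : ∀ g ∈ H, ∀ u v : Fin n → F,
      QuadraticMap.polar (⇑Q) ((g : Matrix (Fin n) (Fin n) F) *ᵥ u)
        ((g : Matrix (Fin n) (Fin n) F) *ᵥ v) = QuadraticMap.polar (⇑Q) u v :=
    fun g hg u v => Cfsg.Agent.Lib.helper23.ASCO.ascored_polar Q g (hHO hg) u v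
  have hginv : ∀ g : GL (Fin n) F, ∀ w : Fin n → F, (g : Matrix (Fin n) (Fin n) F) *ᵥ
      (((g⁻¹ : GL (Fin n) F) : Matrix (Fin n) (Fin n) F) *ᵥ w) = w := by
    intro g w
    rw [Matrix.mulVec_mulVec, ← Units.val_mul, mul_inv_cancel, Units.val_one, Matrix.one_mulVec]
  set Wp : Submodule F (Fin n → F) := B.orthogonal W with hWp
  have hmemp : ∀ v : Fin n → F, v ∈ Wp ↔ ∀ w ∈ W, QuadraticMap.polar (⇑Q) w v = 0 := by
    intro v
    rw [hWp, LinearMap.BilinForm.mem_orthogonal_iff]
    constructor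
    · intro hv w hw
      have := hv w hw
      rw [← hBapp]
      exact this
    · intro hv w hw
      show B w v = 0
      rw [hBapp]
      exact hv w hw
  -- the perp is invariant
  have hPm : ∀ g ∈ H, ∀ v ∈ Wp, (g : Matrix (Fin n) (Fin n) F) *ᵥ v ∈ Wp := by
    intro g hg v hv
    rw [hmemp] at hv ⊢
    intro w hw
    have h3 := hWm g⁻¹ (H.inv_mem hg) w hw
    have h4 := hpol g hg (((g⁻¹ : GL (Fin n) F) : Matrix (Fin n) (Fin n) F) *ᵥ w) v
    rw [hginv] at h4
    rw [h4]
    exact hv _ h3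
  have hR : W ⊓ Wp = ⊥ := by
    rw [eq_bot_iff]
    intro w hw
    rw [Submodule.mem_bot]
    by_contra hw0
    obtain ⟨⟨x, hx, hx0⟩, _⟩ := hW w hw.1 hw0
    exact hx0 ((hmemp w).1 hw.2 x hx)
  have hfr : Module.finrank F Wp = n - Module.finrank F W := by
    have := LinearMap.BilinForm.finrank_orthogonal (B := B) hQ W
    rwa [Module.finrank_fin_fun] at this
  have hWle : Module.finrank F W ≤ n := by
    have := Submodule.finrank_le W
    rwa [Module.finrank_fin_fun] at this
  have hsi := Submodule.finrank_sup_add_finrank_inf_eq W Wp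
  rw [hR, finrank_bot, add_zero] at hsi
  have hsup : W ⊔ Wp = ⊤ := by
    apply Submodule.eq_top_of_finrank_eq
    rw [Module.finrank_fin_fun]
    omega
  refine ⟨Wp, by omega, ?_, Cfsg.Agent.Lib.helper23.ASCO.ascored_stab_of_maps H _ hPm⟩
  intro w' hw' hw'0
  have key : ∃ x ∈ Wp, QuadraticMap.polar (⇑Q) x w' ≠ 0 := by
    by_contra hcon
    push Not at hcon
    have hall : ∀ v : Fin n → F, B v w' = 0 := by
      intro v
      have hv : v ∈ W ⊔ Wp := by rw [hsup]; exact Submodule.mem_top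
      obtain ⟨a, ha, b, hb, rfl⟩ := Submodule.mem_sup.1 hv
      rw [map_add, LinearMap.add_apply, hBapp, hBapp, hcon b hb, add_zero]
      exact (hmemp w').1 hw' a ha
    exact hw'0 (hQ.2 w' hall)
  obtain ⟨x, hx, hx0⟩ := key
  refine ⟨⟨x, hx, hx0⟩, ⟨x, hx, ?_⟩⟩
  rw [QuadraticMap.polar_comm]
  exact hx0

end Cfsg.Agent.Lib.helper23.ASE
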