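import Mathlib
import Cfsg.Agent.Lib.Lead.B3P.Defs
import Cfsg.Agent.Lib.helper2.CharNat
import Cfsg.Agent.Lib.helper2.PModular2
import Cfsg.Agent.S0139

/-!
# Project B3P, piece ROOTS : the local ring `locRing M hM` contains a primitive `m`-th root of unity
-/

set_option autoImplicit false
set_option linter.unusedVariables false
set_option linter.unusedSectionVars false
set_option linter.style.haveILetI false
open scoped ComplexConjugate
open Classical

namespace Cfsg.Agent.Lib.Lead.B3P

open Cfsg.Agent.Lib.helper7 Cfsg.Agent.Lib.helper7.Br Polynomial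

/-- piece ROOTS : enough roots of unity -/
theorem locRing_roots (M : Ideal Cfsg.AlgInt) (hM : M.IsPrime) (m : ℕ) (hm : 0 < m) :
    ∃ ζ : locRing M hM, IsPrimitiveRoot ζ m := by
  have h0 : IsPrimitiveRoot (Complex.exp (2 * Real.pi * Complex.I / m)) m :=
    Complex.isPrimitiveRoot_exp m hm.ne'
  have hint : IsIntegral ℤ (Complex.exp (2 * Real.pi * Complex.I / m)) := h0.isIntegral hm
  have hmem : Complex.exp (2 * Real.pi * Complex.I / m) ∈ locRing M hM :=
    mem_locRing.mpr (h7_memLocalRing_of_isIntegral hM hint)
  refine ⟨⟨_, hmem⟩, ?_⟩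
  have hinj : Function.Injective ((locRing M hM).subtype) := Subtype.coe_injective
  exact IsPrimitiveRoot.of_map_of_injective (f := (locRing M hM).subtype) h0 hinj

end Cfsg.Agent.Lib.Lead.B3P
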