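import Mathlib
import Cfsg.Agent.Lib.Lead.BCG.Defs
import Cfsg.Agent.Lib.Helper19.ONETYEX
import Cfsg.Agent.Lib.Helper22.BCGA11
import Cfsg.Agent.Lib.Helper22.BCGA15
import Cfsg.Agent.Lib.Helper5.BCGA14
import Cfsg.Agent.Lib.Helper16.BCGA13
import Cfsg.Agent.Lib.Helper16.OA25
import Cfsg.Agent.Lib.helper15.S5972STDCTX
import Cfsg.Agent.Lib.helper15.S5972STDO
import Cfsg.Agent.Lib.Helper25.S5972OMEGAODD
import Cfsg.Agent.Lib.helper17.ONENDPERPS

/-! Project BCG (designer lead), row O5 `o_2p`: second copy under an own name (helper16), same statement. -/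

set_option autoImplicit false

namespace Cfsg.Agent.Lib.Lead.BCG

open Polynomial Module Matrix Cfsg.Agent.Lib.Helper13.S5955 Cfsg.Agent.Lib.helper15.S5972
  Cfsg.Agent.Lib.Helper18.ONE Cfsg.Agent.Lib.Lead.BCS

theorem bcgo5_h16 {F : Type*} [Field F] [Fintype F] {p : ℕ} [Fact p.Prime] [CharP F p]
    (hodd : Odd (Fintype.card F)) (n : ℕ) (hn : 3 ≤ n) : InO n F (2 * p) := by
  classical
  have hpp : p.Prime := Fact.out
  have h2 : (2 : F) ≠ 0 := by
    intro h
    haveI : CharP F 2 := CharTwo.of_one_ne_zero_of_two_eq_zero one_ne_zero h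
    have hc2 : ringChar F = 2 := ringChar.eq F 2
    have := FiniteField.even_card_of_char_two hc2
    rw [Nat.odd_iff] at hodd
    omega
  have hp2 : p ≠ 2 := by
    rintro rfl
    apply h2
    have := CharP.cast_eq_zero F 2
    exact_mod_cast this
  obtain ⟨hsymm, hnd, hself, -⟩ := stdO_facts (F := F) h2 n
  have hfin : finrank F (Unit ⊕ (Fin n ⊕ Fin n) → F) = 2 * n + 1 := by
    rw [Module.finrank_fintype_fun_eq_card]
    simp only [Fintype.card_sum, Fintype.card_fin, Fintype.card_unit]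
    omega
  have hTop : SND (stdO n F) ⊤ := fun u _ hu => hnd u (fun v => hu v Submodule.mem_top)
  -- the plane
  obtain ⟨t, ht, htq⟩ : ∃ t : ℤ, (t = 1 ∨ t = -1) ∧ (t = 1 ↔ Fintype.card F ^ 1 % 4 = 1) := by
    by_cases hq : Fintype.card F ^ 1 % 4 = 1
    · exact ⟨1, Or.inl rfl, ⟨fun _ => hq, fun _ => rfl⟩⟩
    · refine ⟨-1, Or.inr rfl, ⟨fun h => ?_, fun h => absurd h hq⟩⟩
      norm_num at h
  obtain ⟨P, -, hPnd, hPdim, hPty⟩ := ty_ex h2 (stdO n F) hsymm ⊤ hTop 2 (by decide) (by norm_num)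
    (by rw [finrank_top, hfin]; omega) t ht
  obtain ⟨z, hzctx, hzcyc, hzfix, hzcomm⟩ := o_flip h2 (stdO n F) hsymm hnd P hPnd
  obtain ⟨Z, hZiso, hZz, hZ2⟩ := o_realize h2 n 2 z hzctx
  have hZΩ : Z ∈ Cfsg.Geo.omegaGL (Cfsg.quadFormOdd n F) :=
    invol_omega_mem hodd n Z hZiso hZ2 1 (by rw [hZz, hzcyc, hPdim]) t ht
      (by rw [hZz, hzcyc]; exact hPty) htq
  -- the complement
  obtain ⟨-, -, hCnd, -, hCdim⟩ := nd_perp_symm (stdO n F) hsymm ⊤ P hTop le_top hPnd
  have hC3 : 3 ≤ finrank F ↥((⊤ : Submodule F (Unit ⊕ (Fin n ⊕ Fin n) → F)) ⊓ (stdO n F).orthogonal P) := by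
    rw [finrank_top, hfin, hPdim] at hCdim
    omega
  obtain ⟨z0, w, hz0C, hwC, hz0ne, hz0z0, hz0w, hww⟩ :=
    sing_pair h2 (stdO n F) hsymm _ hCnd hC3
  have hz0fix : z z0 = z0 := by
    rw [← bcs_mem_fixS, hzfix]
    exact (Submodule.mem_inf.mp hz0C).2
  have hwfix : z w = w := by
    rw [← bcs_mem_fixS, hzfix]
    exact (Submodule.mem_inf.mp hwC).2
  -- the quadratic form
  have hQz0 : (Cfsg.Agent.Lib.Helper16.qfOdd n F) z0 = 0 := by
    have h1 := hself z0
    rw [hz0z0] at h1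
    rcases mul_eq_zero.mp h1.symm with h3 | h3
    · exact absurd h3 h2
    · exact h3
  have hQw : (Cfsg.Agent.Lib.Helper16.qfOdd n F) w ≠ 0 := by
    intro h
    apply hww
    rw [hself w]
    have : Cfsg.quadFormOdd n F w = 0 := h
    rw [this, mul_zero]
  have hpol : QuadraticMap.polar (⇑(Cfsg.Agent.Lib.Helper16.qfOdd n F)) z0 w = 0 := by
    have := hz0w
    unfold stdO at this
    rw [QuadraticMap.polarBilin_apply_apply] at this
    exact this
  obtain ⟨u, huQ, hup, hu1, hucomm⟩ := siegel_elt (p := p) hp2 (Cfsg.Agent.Lib.Helper16.qfOdd n F)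
    (Cfsg.Agent.Lib.Helper16.OA.qfOdd_nondeg n h2) z0 w hz0ne hQz0 hpol hQw
  have hzpol : ∀ a b, QuadraticMap.polar (⇑(Cfsg.Agent.Lib.Helper16.qfOdd n F)) (z a) (z b) =
      QuadraticMap.polar (⇑(Cfsg.Agent.Lib.Helper16.qfOdd n F)) a b := by
    intro a b
    have := hzctx.pres a b
    unfold stdO at this
    rw [QuadraticMap.polarBilin_apply_apply, QuadraticMap.polarBilin_apply_apply] at this
    exact this
  have hzu : Commute z u := hucomm z hzpol hz0fix hwfix
  -- `u` as a context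
  have huctx : OCtx p (stdO n F) u := by
    refine ⟨hsymm, hnd, ?_, hup⟩
    intro a b
    unfold stdO
    rw [QuadraticMap.polarBilin_apply_apply, QuadraticMap.polarBilin_apply_apply]
    unfold QuadraticMap.polar
    rw [← map_add, huQ, huQ, huQ]
  obtain ⟨U, hUiso, hUu, hUp⟩ := o_realize h2 n p u huctx
  have hU1 : U ≠ 1 := by
    rintro rfl
    apply hu1
    rw [← hUu, Units.val_one, Matrix.toLin'_one]
    rfl
  have hUord : orderOf U = p := orderOf_eq_prime hUp hU1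
  have hUΩ : U ∈ Cfsg.Geo.omegaGL (Cfsg.quadFormOdd n F) :=
    omega_of_odd hodd n hn U hUiso (by rw [hUord]; exact hpp.odd_of_ne_two hp2)
  -- `Z ≠ 1`
  have hZ1 : Z ≠ 1 := by
    rintro rfl
    have hz1 : z = 1 := by
      rw [← hZz, Units.val_one, Matrix.toLin'_one]
      rfl
    have hPpos : 0 < finrank F P := by rw [hPdim]; norm_num
    obtain ⟨v, hv0⟩ := Module.finrank_pos_iff_exists_ne_zero.mp hPpos
    have hvP : (v : Unit ⊕ (Fin n ⊕ Fin n) → F) ∈ cycS 2 z := by rw [hzcyc]; exact v.2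
    rw [bcs_mem_cyc_two, hz1, Module.End.one_apply] at hvP
    have h3 : (2 : F) • (v : Unit ⊕ (Fin n ⊕ Fin n) → F) = 0 := by
      rw [two_smul]
      nth_rewrite 1 [hvP]
      exact neg_add_cancel _
    rcases smul_eq_zero.mp h3 with h4 | h4
    · exact h2 h4
    · exact hv0 (Subtype.ext h4)
  have hZord : orderOf Z = 2 := orderOf_eq_prime hZ2 hZ1
  have hcomm' : Z * U = U * Z := by
    apply Units.ext
    apply Matrix.toLin'.injective
    rw [Units.val_mul, Units.val_mul, Matrix.toLin'_mul, Matrix.toLin'_mul, hZz, hUu]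
    exact hzu
  have hcomm : Commute Z U := hcomm'
  have hcop : Nat.Coprime (orderOf Z) (orderOf U) := by
    rw [hZord, hUord]
    exact (Nat.coprime_primes Nat.prime_two hpp).mpr (Ne.symm hp2)
  refine ⟨Z * U, mul_mem hZΩ hUΩ, ?_⟩
  rw [hcomm.orderOf_mul_eq_mul_orderOf_of_coprime hcop, hZord, hUord]

end Cfsg.Agent.Lib.Lead.BCG
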