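import Mathlib
import Cfsg.Agent.Lib.Lead.BCG.Defs
import Cfsg.Agent.Lib.Helper22.BCSB12
import Cfsg.Agent.Lib.Helper9.BCSA2
import Cfsg.Agent.Lib.helper15.S5972STDCTX

/-! Project BCG (designer lead), row O6 `o_type_cond`: second copy under an own name (helper16), same statement. -/

set_option autoImplicit false

namespace Cfsg.Agent.Lib.Lead.BCG

open Polynomial Module Matrix Cfsg.Agent.Lib.Helper13.S5955 Cfsg.Agent.Lib.helper15.S5972
  Cfsg.Agent.Lib.Helper18.ONE Cfsg.Agent.Lib.Lead.BCS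

theorem bcgo6_h16 {F : Type*} [Field F] [Fintype F] {p : ℕ} [Fact p.Prime] [CharP F p]
    (hodd : Odd (Fintype.card F)) (n : ℕ) (hn : 1 ≤ n) (s : ℕ) [Fact s.Prime] (hsp : s ≠ p)
    (hs2 : s ≠ 2) (Z Y : GL (Unit ⊕ (Fin n ⊕ Fin n)) F)
    (hZ : Z ∈ Cfsg.Geo.omegaGL (Cfsg.quadFormOdd n F)) (hZ2 : Z ^ 2 = 1)
    (hY : Y ∈ Cfsg.isometryGroup F (Cfsg.quadFormOdd n F)) (hYs : Y ^ s = 1)
    (heq : cycS 2 (Matrix.toLin'
        (Z : Matrix (Unit ⊕ (Fin n ⊕ Fin n)) (Unit ⊕ (Fin n ⊕ Fin n)) F)) =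
      cycS s (Matrix.toLin' (Y : Matrix (Unit ⊕ (Fin n ⊕ Fin n)) (Unit ⊕ (Fin n ⊕ Fin n)) F)))
    (hdim : finrank F (cycS s (Matrix.toLin'
      (Y : Matrix (Unit ⊕ (Fin n ⊕ Fin n)) (Unit ⊕ (Fin n ⊕ Fin n)) F))) = 2 * n)
    (hc : cOf (Fintype.card F) s = 2 * n) :
    (Odd (orderOf ((Fintype.card F : ℕ) : ZMod s)) ↔ Fintype.card F ^ n % 4 = 1) := by
  have h2 : (2 : F) ≠ 0 := by
    intro h
    haveI : CharP F 2 := CharTwo.of_one_ne_zero_of_two_eq_zero one_ne_zero h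
    have hc2 : ringChar F = 2 := ringChar.eq F 2
    have := FiniteField.even_card_of_char_two hc2
    rw [Nat.odd_iff] at hodd
    omega
  have hctx := std_octx h2 n s Y hY hYs
  obtain ⟨hA2a, hA2b⟩ := bcs_cyc_ty (p := p) h2 hsp hs2 hctx n hn hdim
  obtain ⟨-, hB12⟩ := bcs_invol_omega_ty hodd n Z hZ hZ2
  rw [heq, hdim] at hB12
  have hhalf : 2 * n / 2 = n := by omega
  rw [hhalf] at hB12
  rcases ordc_of_cof hc with hord | ⟨hord, hnodd⟩
  · have hty := hA2a hord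
    have h1 := hB12 (-1) (Or.inr rfl) hty
    have hno : ¬ Fintype.card F ^ n % 4 = 1 := by
      intro h
      have := h1.mpr h
      omega
    constructor
    · intro ho
      rw [hord] at ho
      exact absurd ho (by rw [Nat.not_odd_iff_even]; exact even_two_mul n)
    · intro h
      exact absurd h hno
  · have hty := hA2b hord
    have h1 := hB12 1 (Or.inl rfl) hty
    constructor
    · intro _
      exact h1.mp rfl
    · intro _
      rw [hord]
      exact hnodd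

end Cfsg.Agent.Lib.Lead.BCG
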