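import Mathlib
import Cfsg.Agent.Lib.Lead.BCG.Defs
import Cfsg.Agent.Lib.Helper16.BCGO6h16

/-! Project BCG (designer lead), row O6 `o_type_cond`, verbatim (one line on `bcgo6_h16`). -/

set_option autoImplicit false

namespace Cfsg.Agent.Lib.Lead.BCG

open Polynomial Module Matrix Cfsg.Agent.Lib.Helper13.S5955 Cfsg.Agent.Lib.helper15.S5972
  Cfsg.Agent.Lib.Helper18.ONE Cfsg.Agent.Lib.Lead.BCS

theorem o_type_cond {F : Type*} [Field F] [Fintype F] {p : ℕ} [Fact p.Prime] [CharP F p]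
    (hodd : Odd (Fintype.card F)) (n : ℕ) (hn : 1 ≤ n) (s : ℕ) [Fact s.Prime] (hsp : s ≠ p)
    (hs2 : s ≠ 2) (Z Y : GL (Unit ⊕ (Fin n ⊕ Fin n)) F)
    (hZ : Z ∈ Cfsg.Geo.omegaGL (Cfsg.quadFormOdd n F)) (hZ2 : Z ^ 2 = 1)
    (hY : Y ∈ Cfsg.isometryGroup F (Cfsg.quadFormOdd n F)) (hYs : Y ^ s = 1)
    (heq : cycS 2 (Matrix.toLin'
        (Z : Matrix (Unit ⊕ (Fin n ⊕ Fin n)) (Unit ⊕ (Fin n ⊕ Fin n)) F)) =
      cycS s (Matrix.toLin' (Y : Matrix (Unit ⊕ (Fin n ⊕ Fin n)) (Unit ⊕ (Fin n ⊕ Fin n)) F)))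
    (hdim : finrank F (cycS s (Matrix.toLin'
      (Y : Matrix (Unit ⊕ (Fin n ⊕ Fin n)) (Unit ⊕ (Fin n ⊕ Fin n)) F))) = 2 * n)
    (hc : cOf (Fintype.card F) s = 2 * n) :
    (Odd (orderOf ((Fintype.card F : ℕ) : ZMod s)) ↔ Fintype.card F ^ n % 4 = 1) :=
  bcgo6_h16 (p := p) hodd n hn s hsp hs2 Z Y hZ hZ2 hY hYs heq hdim hc

end Cfsg.Agent.Lib.Lead.BCG
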