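import Mathlib
import Cfsg.Agent.Lib.Lead.BCG.Defs
import Cfsg.Agent.Lib.helper15.S5972OS2CTX
import Cfsg.Agent.Lib.helper2.BCGT2A

/-! Project BCG (designer lead), row S4 `sq_neg_build`, second copy (helper16), part a: the abstract model on `OS2 F n 1`. -/

set_option autoImplicit false

namespace Cfsg.Agent.Lib.Lead.BCG

open Polynomial Module Matrix Cfsg.Agent.Lib.Helper13.S5955 Cfsg.Agent.Lib.helper15.S5972
  Cfsg.Agent.Lib.Helper18.ONE Cfsg.Agent.Lib.Lead.BCS

variable {F : Type*} [Field F]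

/-- powers of `g ⊕ 1` -/
theorem bcgs4h16_prod_pow {h k : ℕ} (g : Module.End F (Fin h ⊕ Fin h → F)) (m : ℕ) (v : OS2 F h k) :
    ((LinearMap.prodMap g LinearMap.id : Module.End F (OS2 F h k)) ^ m) v = ((g ^ m) v.1, v.2) := by
  induction m generalizing v with
  | zero => simp
  | succ m ih =>
    rw [pow_succ, Module.End.mul_apply, LinearMap.prodMap_apply, ih, pow_succ, Module.End.mul_apply]
    rfl

/-- the context of `g ⊕ 1` -/
theorem bcgs4h16_ctx {n s : ℕ} (hs : Odd s) (hs1 : 1 < s) (y' g : Module.End F (Fin n ⊕ Fin n → F))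
    (hy : SCtx s (stdB n F) y') (hfix : fixS y' = ⊥)
    (hg : ∀ u v, stdB n F (g u) (g v) = stdB n F u v) (hgy : Commute g y') (hg4s : g ^ (4 * s) = 1) :
    OCtx (4 * s) (os2B y' s 1) (LinearMap.prodMap g LinearMap.id : Module.End F (OS2 F n 1)) := by
  obtain ⟨hO, -⟩ := os2_ctx s 1 hs hs1 y' hy hfix
  refine ⟨hO.symm, hO.nd, ?_, ?_⟩
  · intro u v
    rw [os2B_apply, os2B_apply]
    simp only [LinearMap.prodMap_apply, LinearMap.id_apply]
    rw [(altb_of_sctx hs hy hfix).2 g hg hgy u.1 v.1]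
  · apply LinearMap.ext
    intro v
    rw [bcgs4h16_prod_pow, hg4s]
    rfl

/-- the `-1`-eigenspace of `(g ⊕ 1)^m` when `g^m = -1` -/
theorem bcgs4h16_cyc2 (h2 : (2 : F) ≠ 0) {n : ℕ} (g : Module.End F (Fin n ⊕ Fin n → F)) (m : ℕ)
    (hgm : g ^ m = -1) (v : OS2 F n 1) :
    v ∈ cycS 2 ((LinearMap.prodMap g LinearMap.id : Module.End F (OS2 F n 1)) ^ m) ↔ v.2 = 0 := by
  rw [bcs_mem_cyc_two, bcgs4h16_prod_pow, hgm, Prod.ext_iff]
  simp only [LinearMap.neg_apply, Module.End.one_apply, Prod.fst_neg, Prod.snd_neg, true_and]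
  constructor
  · intro h
    have h3 : (2 : F) • v.2 = 0 := by
      rw [two_smul]
      nth_rewrite 1 [h]
      exact neg_add_cancel _
    rcases smul_eq_zero.mp h3 with h4 | h4
    · exact absurd h4 h2
    · exact h4
  · intro h
    rw [h, neg_zero]

/-- the cyclotomic part of `(g ⊕ 1)^m` when the geometric sum of `g^m` vanishes -/
theorem bcgs4h16_cycs {n s : ℕ} (hsP : s.Prime) (hsF : (s : F) ≠ 0)
    (g w : Module.End F (Fin n ⊕ Fin n → F)) (m : ℕ) (hgm : g ^ m = w)
    (hw : ∑ j ∈ Finset.range s, w ^ j = 0) (v : OS2 F n 1) :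
    v ∈ cycS s ((LinearMap.prodMap g LinearMap.id : Module.End F (OS2 F n 1)) ^ m) ↔ v.2 = 0 := by
  haveI : Fact s.Prime := ⟨hsP⟩
  unfold cycS
  rw [LinearMap.mem_ker, cyclotomic_prime, map_sum, LinearMap.sum_apply]
  have h1 : ∀ j ∈ Finset.range s,
      (aeval ((LinearMap.prodMap g LinearMap.id : Module.End F (OS2 F n 1)) ^ m) ((X : F[X]) ^ j)) v =
        ((w ^ j) v.1, v.2) := by
    intro j _
    rw [map_pow, aeval_X, ← pow_mul, bcgs4h16_prod_pow, pow_mul, hgm]
  rw [Finset.sum_congr rfl h1, Prod.ext_iff, Prod.fst_sum, Prod.snd_sum]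
  simp only [Prod.fst_zero, Prod.snd_zero]
  have h3 : ∑ j ∈ Finset.range s, (w ^ j) v.1 = 0 := by
    rw [← LinearMap.sum_apply, hw, LinearMap.zero_apply]
  rw [h3, Finset.sum_const, Finset.card_range]
  simp only [true_and]
  constructor
  · intro h
    have h4 : (s : F) • v.2 = 0 := by
      rw [← h]
      exact (Nat.cast_smul_eq_nsmul F s v.2)
    rcases smul_eq_zero.mp h4 with h5 | h5
    · exact absurd h5 hsF
    · exact h5
  · intro h
    rw [h, smul_zero]

/-- the geometric sum of `y^4` vanishes when `y^s = 1`, `s` odd and `y` has no fixed vector -/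
theorem bcgs4h16_geom {V : Type*} [AddCommGroup V] [Module F V] (y : Module.End F V) (s : ℕ)
    (hs : Odd s) (hpow : y ^ s = 1) (hfix : fixS y = ⊥) :
    ∑ j ∈ Finset.range s, (y ^ 4) ^ j = 0 := by
  have hkm : ∃ k m : ℕ, 4 * k = 1 + s * m := by
    obtain ⟨a, ha⟩ := hs
    rcases Nat.even_or_odd a with ⟨b, hb⟩ | ⟨b, hb⟩
    · exact ⟨3 * b + 1, 3, by omega⟩
    · exact ⟨b + 1, 1, by omega⟩
  obtain ⟨k, m, hk⟩ := hkm
  have hwk : (y ^ 4) ^ k = y := by
    rw [← pow_mul, hk, pow_add, pow_one, pow_mul, hpow, one_pow, mul_one]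
  have hinj : ∀ v, (y ^ 4) v = v → v = 0 := by
    intro v hv
    have h1 : ∀ i : ℕ, ((y ^ 4) ^ i) v = v := by
      intro i
      induction i with
      | zero => simp
      | succ i ih => rw [pow_succ, Module.End.mul_apply, hv, ih]
    have h3 : y v = v := by
      have := h1 k
      rw [hwk] at this
      exact this
    have h4 : v ∈ fixS y := (bcs_mem_fixS y v).mpr h3
    rw [hfix] at h4
    exact (Submodule.mem_bot F).mp h4
  have hmul : (y ^ 4 - 1) * ∑ j ∈ Finset.range s, (y ^ 4) ^ j = 0 := by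
    rw [mul_geom_sum, ← pow_mul, mul_comm, pow_mul, hpow, one_pow, sub_self]
  apply LinearMap.ext
  intro v
  rw [LinearMap.zero_apply]
  apply hinj
  have h1 := congrArg (fun f : Module.End F V => f v) hmul
  simp only [Module.End.mul_apply, LinearMap.sub_apply, Module.End.one_apply, LinearMap.zero_apply] at h1
  exact sub_eq_zero.mp h1

end Cfsg.Agent.Lib.Lead.BCG
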