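import Mathlib
import Cfsg.Agent.Lib.Lead.BCG.Defs
import Cfsg.Agent.Lib.Helper16.BCGS4h16a
import Cfsg.Agent.Lib.helper8.BCGX1
import Cfsg.Agent.Lib.Helper20.BCGA17
import Cfsg.Agent.Lib.Helper11.BCGX3
import Cfsg.Agent.Lib.Helper24.S5972TRANSPORT
import Cfsg.Agent.Lib.helper15.S5972STDCTX
import Cfsg.Agent.Lib.Helper18.OmegaOdd
import Cfsg.Agent.Lib.Helper16.OA25

/-! Project BCG (designer lead), row S4 `sq_neg_build`: second copy under an own name (helper16), same statement. -/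

set_option autoImplicit false

namespace Cfsg.Agent.Lib.Lead.BCG

open Polynomial Module Matrix Cfsg.Agent.Lib.Helper13.S5955 Cfsg.Agent.Lib.helper15.S5972
  Cfsg.Agent.Lib.Helper18.ONE Cfsg.Agent.Lib.Lead.BCS

/-- transport of kernels of polynomials in powers along an intertwining equivalence -/
theorem bcgs4h16_transp {F : Type*} [Field F] {W V' : Type*} [AddCommGroup W] [Module F W]
    [AddCommGroup V'] [Module F V'] (ψ : W ≃ₗ[F] V') (y : Module.End F W) (x' : Module.End F V')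
    (hψ : ∀ u, ψ (y u) = x' (ψ u)) (P : F[X]) (m : ℕ) (u : W) :
    u ∈ LinearMap.ker (aeval (y ^ m) P) ↔ ψ u ∈ LinearMap.ker (aeval (x' ^ m) P) := by
  have hpow : ∀ k : ℕ, ∀ u, ψ ((y ^ k) u) = (x' ^ k) (ψ u) := by
    intro k
    induction k with
    | zero => intro u; simp
    | succ k ih =>
      intro u
      rw [pow_succ, Module.End.mul_apply, ih, hψ, pow_succ, Module.End.mul_apply]
  have hP : ψ ((aeval (y ^ m) P) u) = (aeval (x' ^ m) P) (ψ u) := by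
    rw [aeval_eq_sum_range, aeval_eq_sum_range, LinearMap.sum_apply, LinearMap.sum_apply, map_sum]
    apply Finset.sum_congr rfl
    intro i _
    rw [LinearMap.smul_apply, LinearMap.smul_apply, map_smul, ← pow_mul, ← pow_mul, hpow]
  rw [LinearMap.mem_ker, LinearMap.mem_ker, ← hP]
  exact (map_eq_zero_iff ψ ψ.injective).symm

theorem bcgs4_h16 {F : Type*} [Field F] [Fintype F] {p : ℕ} [Fact p.Prime] [CharP F p]
    (hodd : Odd (Fintype.card F)) (n : ℕ) (hn : 1 ≤ n) (s : ℕ) [Fact s.Prime] (hsp : s ≠ p)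
    (hs2 : s ≠ 2) (hc : cOf (Fintype.card F) s = 2 * n)
    (t y : Matrix.symplecticGroup (Fin n) F) (hty : Commute t y) (hy : orderOf y = s)
    (ht : t * t = Cfsg.Agent.S0246.negOne F n) :
    ∃ Z Y : GL (Unit ⊕ (Fin n ⊕ Fin n)) F, Z ∈ Cfsg.Geo.omegaGL (Cfsg.quadFormOdd n F) ∧
      Z ^ 2 = 1 ∧ Y ∈ Cfsg.isometryGroup F (Cfsg.quadFormOdd n F) ∧ Y ^ s = 1 ∧
      cycS 2 (Matrix.toLin'
        (Z : Matrix (Unit ⊕ (Fin n ⊕ Fin n)) (Unit ⊕ (Fin n ⊕ Fin n)) F)) =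
      cycS s (Matrix.toLin'
        (Y : Matrix (Unit ⊕ (Fin n ⊕ Fin n)) (Unit ⊕ (Fin n ⊕ Fin n)) F)) ∧
      finrank F (cycS s (Matrix.toLin'
        (Y : Matrix (Unit ⊕ (Fin n ⊕ Fin n)) (Unit ⊕ (Fin n ⊕ Fin n)) F))) = 2 * n := by
  classical
  have hsP : s.Prime := Fact.out
  have hpP : p.Prime := Fact.out
  have hso : Odd s := hsP.odd_of_ne_two hs2
  have hs1 : 1 < s := hsP.one_lt
  have h2 : (2 : F) ≠ 0 := by
    intro h
    haveI : CharP F 2 := CharTwo.of_one_ne_zero_of_two_eq_zero one_ne_zero h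
    have hc2 : ringChar F = 2 := ringChar.eq F 2
    have := FiniteField.even_card_of_char_two hc2
    rw [Nat.odd_iff] at hodd
    omega
  have hsF : ((s : ℕ) : F) ≠ 0 := by
    intro h
    have h1 := (CharP.cast_eq_zero_iff F p s).mp h
    exact hsp ((Nat.prime_dvd_prime_iff_eq hpP hsP).mp h1).symm
  -- the endomorphisms
  obtain ⟨y', hy'⟩ : ∃ f : Module.End F (Fin n ⊕ Fin n → F),
      f = Matrix.toLin' (y : Matrix (Fin n ⊕ Fin n) (Fin n ⊕ Fin n) F) := ⟨_, rfl⟩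
  obtain ⟨t', ht'⟩ : ∃ f : Module.End F (Fin n ⊕ Fin n → F),
      f = Matrix.toLin' (t : Matrix (Fin n ⊕ Fin n) (Fin n ⊕ Fin n) F) := ⟨_, rfl⟩
  have hys : y ^ s = 1 := by rw [← hy]; exact pow_orderOf_eq_one y
  have hctx : SCtx s (stdB n F) y' := by rw [hy']; exact sp_ctx n y s hys
  have hy1 : y' ≠ 1 := by
    intro h
    have h1 : y ^ 1 = 1 := (sp_same n y 1).mpr (by rw [pow_one, ← hy']; exact h)
    rw [pow_one] at h1
    rw [h1, orderOf_one] at hy
    omega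
  obtain ⟨hpos, hdvd, hsum⟩ := s_cyc_dim (p := p) hsp hctx hy1
  have hfinV : finrank F (Fin n ⊕ Fin n → F) = 2 * n := by
    rw [Module.finrank_fintype_fun_eq_card]
    simp only [Fintype.card_sum, Fintype.card_fin]
    omega
  have hfix0 : finrank F (fixS y') = 0 := by
    rw [hc] at hdvd
    obtain ⟨k, hk⟩ := hdvd
    rw [hfinV] at hsum
    have hk1 : 1 ≤ k := by
      rcases Nat.eq_zero_or_pos k with h0 | h0
      · rw [h0, mul_zero] at hk; omega
      · exact h0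
    have : 2 * n * 1 ≤ 2 * n * k := Nat.mul_le_mul_left _ hk1
    omega
  have hfix : fixS y' = ⊥ := Submodule.finrank_eq_zero.mp hfix0
  -- `t'`
  have hnn : Cfsg.Agent.S0246.negOne F n * Cfsg.Agent.S0246.negOne F n = 1 := by
    apply Subtype.ext
    show (-1 : Matrix (Fin n ⊕ Fin n) (Fin n ⊕ Fin n) F) * (-1) = 1
    simp
  have ht4 : t ^ 4 = 1 := by
    rw [show (4 : ℕ) = 2 + 2 from rfl, pow_add, pow_two, ht, hnn]
  have htctx : SCtx 4 (stdB n F) t' := by rw [ht']; exact sp_ctx n t 4 ht4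
  have ht2 : t' * t' = -1 := by
    rw [ht', Module.End.mul_eq_comp, ← Matrix.toLin'_mul]
    have h1 : (t : Matrix (Fin n ⊕ Fin n) (Fin n ⊕ Fin n) F) * (t : Matrix (Fin n ⊕ Fin n) (Fin n ⊕ Fin n) F) = -1 := by
      have := congrArg (fun a : Matrix.symplecticGroup (Fin n) F => (a : Matrix (Fin n ⊕ Fin n) (Fin n ⊕ Fin n) F)) ht
      simpa [Cfsg.Agent.S0246.negOne_coe] using this
    rw [h1, map_neg, Matrix.toLin'_one]
    rfl
  have hcomm : Commute t' y' := by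
    have h1 : (t : Matrix (Fin n ⊕ Fin n) (Fin n ⊕ Fin n) F) * (y : Matrix (Fin n ⊕ Fin n) (Fin n ⊕ Fin n) F) =
        (y : Matrix (Fin n ⊕ Fin n) (Fin n ⊕ Fin n) F) * (t : Matrix (Fin n ⊕ Fin n) (Fin n ⊕ Fin n) F) := by
      have := congrArg (fun a : Matrix.symplecticGroup (Fin n) F => (a : Matrix (Fin n ⊕ Fin n) (Fin n ⊕ Fin n) F)) hty.eq
      simpa using this
    show t' * y' = y' * t'
    rw [ht', hy', Module.End.mul_eq_comp, Module.End.mul_eq_comp, ← Matrix.toLin'_mul, ← Matrix.toLin'_mul, h1]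
  -- `g = t' y'`
  obtain ⟨g, hg⟩ : ∃ f : Module.End F (Fin n ⊕ Fin n → F), f = t' * y' := ⟨_, rfl⟩
  have hgpres : ∀ u v, stdB n F (g u) (g v) = stdB n F u v := by
    intro u v
    rw [hg, Module.End.mul_apply, Module.End.mul_apply, htctx.pres, hctx.pres]
  have hgy : Commute g y' := by
    rw [hg]
    exact (hcomm.mul_left (Commute.refl y'))
  have hgpow : ∀ k : ℕ, g ^ k = t' ^ k * y' ^ k := by
    intro k
    rw [hg]
    exact hcomm.mul_pow k
  have ht'sq : t' ^ 2 = -1 := by rw [pow_two]; exact ht2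
  have hnegs : (-1 : Module.End F (Fin n ⊕ Fin n → F)) ^ s = -1 := by
    have := Odd.neg_one_pow (α := Module.End F (Fin n ⊕ Fin n → F)) hso
    exact this
  have hneg2 : (-1 : Module.End F (Fin n ⊕ Fin n → F)) ^ 2 = 1 := by
    have := neg_one_sq (R := Module.End F (Fin n ⊕ Fin n → F))
    exact this
  have hg2s : g ^ (2 * s) = -1 := by
    rw [hgpow, pow_mul, ht'sq, hnegs, mul_comm 2 s, pow_mul, hctx.pow, one_pow, mul_one]
  have hg4 : g ^ 4 = y' ^ 4 := by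
    rw [hgpow, show 4 = 2 * 2 from rfl, pow_mul, ht'sq, hneg2, one_mul]
  have hg4s : g ^ (4 * s) = 1 := by
    rw [show 4 * s = (2 * s) * 2 by ring, pow_mul, hg2s, hneg2]
  -- the model
  obtain ⟨x', hx'⟩ : ∃ f : Module.End F (OS2 F n 1), f = LinearMap.prodMap g LinearMap.id := ⟨_, rfl⟩
  have hOx : OCtx (4 * s) (os2B y' s 1) x' := by
    rw [hx']
    exact bcgs4h16_ctx hso hs1 y' g hctx hfix hgpres hgy hg4s
  have hfinOS : finrank F (OS2 F n 1) = 2 * n + 1 := (os2_ctx s 1 hso hs1 y' hctx hfix).2.1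
  obtain ⟨ys, ψ, c, -, hOy, -, hψ⟩ := o_transport h2 (os2B y' s 1) x' hOx n hfinOS
  obtain ⟨M, hMiso, hMy, hMpow⟩ := o_realize h2 n (4 * s) ys hOy
  -- the two elements
  have hZmem : M ^ s * M ^ s ∈ Cfsg.Geo.omegaGL (Cfsg.quadFormOdd n F) := by
    have h := Cfsg.Agent.Lib.Helper18.OmegaOdd.omegaodd_sq_mem h2 (Cfsg.Agent.Lib.Helper16.qfOdd n F)
      (Cfsg.Agent.Lib.Helper16.OA.qfOdd_nondeg n h2) (M ^ s)
      (by rw [Cfsg.Agent.Lib.Helper16.qfOdd_coe]; exact pow_mem hMiso s)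
    rw [Cfsg.Agent.Lib.Helper16.qfOdd_coe] at h
    exact h
  have hZeq : M ^ s * M ^ s = M ^ (2 * s) := by rw [← pow_add]; congr 1; omega
  have hlinpow : ∀ k : ℕ, Matrix.toLin' ((M ^ k : GL (Unit ⊕ (Fin n ⊕ Fin n)) F) :
      Matrix (Unit ⊕ (Fin n ⊕ Fin n)) (Unit ⊕ (Fin n ⊕ Fin n)) F) = ys ^ k := by
    intro k
    rw [Units.val_pow_eq_pow_val, Matrix.toLin'_pow, hMy]
  -- the common subspace
  have hmem2 : ∀ u, u ∈ cycS 2 (ys ^ (2 * s)) ↔ (ψ u).2 = 0 := by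
    intro u
    unfold cycS
    rw [bcgs4h16_transp ψ ys x' hψ _ (2 * s) u]
    have := bcgs4h16_cyc2 h2 g (2 * s) hg2s (ψ u)
    unfold cycS at this
    rw [hx']
    exact this
  have hgeom : ∑ j ∈ Finset.range s, (y' ^ 4) ^ j = 0 := bcgs4h16_geom y' s hso hctx.pow hfix
  have hmems : ∀ u, u ∈ cycS s (ys ^ 4) ↔ (ψ u).2 = 0 := by
    intro u
    unfold cycS
    rw [bcgs4h16_transp ψ ys x' hψ _ 4 u]
    have := bcgs4h16_cycs hsP hsF g (y' ^ 4) 4 hg4 hgeom (ψ u)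
    unfold cycS at this
    rw [hx']
    exact this
  have heq : cycS 2 (ys ^ (2 * s)) = cycS s (ys ^ 4) := by
    ext u
    rw [hmem2, hmems]
  -- the dimension
  have hdim : finrank F (cycS s (ys ^ 4)) = 2 * n := by
    obtain ⟨L, hL⟩ : ∃ L : (Unit ⊕ (Fin n ⊕ Fin n) → F) →ₗ[F] (Fin 1 → F),
        L = (LinearMap.snd F (Fin n ⊕ Fin n → F) (Fin 1 → F)) ∘ₗ ψ.toLinearMap := ⟨_, rfl⟩
    have hker : cycS s (ys ^ 4) = LinearMap.ker L := by
      ext u
      rw [hmems, LinearMap.mem_ker, hL]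
      rfl
    have hsurj : Function.Surjective L := by
      intro a
      refine ⟨ψ.symm (0, a), ?_⟩
      rw [hL]
      simp
    have hrank := LinearMap.finrank_range_add_finrank_ker L
    rw [LinearMap.range_eq_top.mpr hsurj, finrank_top] at hrank
    have h1 : finrank F (Fin 1 → F) = 1 := by simp
    have h3 : finrank F (Unit ⊕ (Fin n ⊕ Fin n) → F) = 2 * n + 1 := by
      rw [ψ.finrank_eq, hfinOS]
    rw [hker]
    omega
  refine ⟨M ^ s * M ^ s, M ^ 4, hZmem, ?_, pow_mem hMiso 4, ?_, ?_, ?_⟩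
  · rw [hZeq, ← pow_mul, show 2 * s * 2 = 4 * s by ring, hMpow]
  · rw [← pow_mul, hMpow]
  · rw [hZeq, hlinpow, hlinpow]
    exact heq
  · rw [hlinpow]
    exact hdim

end Cfsg.Agent.Lib.Lead.BCG
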