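import Mathlib
import Cfsg.Agent.Lib.Lead.BCS.Defs
import Cfsg.Agent.Lib.Helper28.BCSC4core
import Cfsg.Agent.Lib.helper15.BCSC1h15
import Cfsg.Agent.Lib.Helper25.BCSC2
import Cfsg.Agent.Lib.Helper9.BCSC3

/-! Project BCS (designer lead), row C4 second copy under an own name (helper16): the statement of `bcs_psp_mem`,
one line on helper28's core + helper15 C1 copy + Helper25 C2 + Helper9 C3. -/

set_option autoImplicit false

namespace Cfsg.Agent.Lib.Lead.BCS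

theorem bcsc4_h16 {F : Type*} [Field F] [Fintype F] {p : ℕ} [Fact p.Prime] [CharP F p]
    (hodd : Odd (Fintype.card F)) (m : ℕ) (hm : 1 ≤ m) (ℓ : ℕ) [Fact ℓ.Prime] (hℓp : ℓ ≠ p)
    (hℓ2 : ℓ ≠ 2) (hℓ : ℓ ∣ Fintype.card F ^ (2 * m) - 1) :
    2 * p * ℓ ∈ Set.range (orderOf : Cfsg.PSp (m + 1) F → ℕ) :=
  bcsc4_core (p := p) hodd m hm ℓ hℓp hℓ2 (bcsc1_h15 m)
    (fun u hu => bcs_sp_transv (p := p) (m + 1) u hu) (bcs_sp_cauchy m hm ℓ hℓ)

end Cfsg.Agent.Lib.Lead.BCS
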