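import Mathlib
import Cfsg.Agent.Lib.helper7.BD.Defs
import Cfsg.Agent.Lib.helper7.BD.D1Defs
import Cfsg.Agent.Lib.Helper24.CyclicInertial3
import Cfsg.Agent.Lib.helper7.Br.Defs
import Cfsg.Agent.Lib.Helper1.BD2IDCJ
import Cfsg.Agent.Lib.Helper25.BDTSTAB

/-!
# Project BD, stage B, piece TINV : the block idempotent of `b` commutes with the action of `T`
-/

set_option autoImplicit false
set_option linter.unusedVariables false
set_option linter.unusedSectionVars false

namespace Cfsg.Agent.Lib.helper7.BD

open Cfsg.Agent.Lib.helper7 Cfsg.Agent.Lib.helper7.Br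

universe u v w

section root

variable {G : Type u} [Group G] [Fintype G] {M : Ideal Cfsg.AlgInt} {p : ℕ} [Fact p.Prime]
  {P : Sylow p G} {B : Set (Cfsg.IrrCharacter G)}
  {b : Set (Cfsg.IrrCharacter (Subgroup.centralizer ((P : Subgroup G) : Set G)))}
  {θ : Cfsg.IrrCharacter (Subgroup.centralizer ((P : Subgroup G) : Set G))} {T : Subgroup G}

variable [Fintype ↥(Subgroup.centralizer ((P : Subgroup G) : Set G))]
  [Fintype ↥(Subgroup.normalizer ((P : Subgroup G) : Set G))]

/-- M6a = TINV : the block idempotent of `b` commutes with the action of `T` -/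
theorem root_blockOp_comm (h : RootHyp p M P B b θ T) (hMp : M.IsPrime) {S : Type v} [AddCommGroup S]
    [Module (h7_resRing M hMp) S]
    (σ : Representation (h7_resRing M hMp) ↥(Subgroup.normalizer ((P : Subgroup G) : Set G)) S)
    (t : ↥(Subgroup.normalizer ((P : Subgroup G) : Set G))) (ht : (t : G) ∈ T) :
    σ t ∘ₗ subOp (Subgroup.centralizer_le_normalizer ((P : Subgroup G) : Set G)) σ (eBar hMp b) =
      subOp (Subgroup.centralizer_le_normalizer ((P : Subgroup G) : Set G)) σ (eBar hMp b) ∘ₗ σ t := by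
  classical
  have hCN : Subgroup.centralizer ((P : Subgroup G) : Set G) ≤
      Subgroup.normalizer ((P : Subgroup G) : Set G) :=
    Subgroup.centralizer_le_normalizer ((P : Subgroup G) : Set G)
  have htN : (t : G) ∈ Subgroup.normalizer
      (((Subgroup.centralizer ((P : Subgroup G) : Set G)) : Subgroup G) : Set G) :=
    Cfsg.Agent.Lib.Helper24.ci_normalizer_le (P : Subgroup G) t.2
  have hbt : cjSet (Subgroup.centralizer ((P : Subgroup G) : Set G)) (t : G) b = b :=
    (root_stab h (t : G) t.2).1 ht
  -- conjugation by `t` as a permutation of `C`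
  have hconj : ∀ c : ↥(Subgroup.centralizer ((P : Subgroup G) : Set G)),
      (t : G) * (c : G) * (t : G)⁻¹ ∈ Subgroup.centralizer ((P : Subgroup G) : Set G) := fun c =>
    (Subgroup.mem_normalizer_iff.mp htN (c : G)).mp c.2
  have hconj' : ∀ c : ↥(Subgroup.centralizer ((P : Subgroup G) : Set G)),
      (t : G)⁻¹ * (c : G) * (t : G) ∈ Subgroup.centralizer ((P : Subgroup G) : Set G) := fun c => by
    have := (Subgroup.mem_normalizer_iff.mp (Subgroup.inv_mem _ htN) (c : G)).mp c.2
    simpa using this
  let e : ↥(Subgroup.centralizer ((P : Subgroup G) : Set G)) ≃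
      ↥(Subgroup.centralizer ((P : Subgroup G) : Set G)) :=
    { toFun := fun c => ⟨(t : G) * (c : G) * (t : G)⁻¹, hconj c⟩
      invFun := fun c => ⟨(t : G)⁻¹ * (c : G) * (t : G), hconj' c⟩
      left_inv := fun c => by apply Subtype.ext; simp [mul_assoc]
      right_inv := fun c => by apply Subtype.ext; simp [mul_assoc] }
  have heb : ∀ c : ↥(Subgroup.centralizer ((P : Subgroup G) : Set G)),
      eBar hMp b (e c) = eBar hMp b c := by
    intro c
    have := eBar_cjSet hMp (Subgroup.centralizer ((P : Subgroup G) : Set G)) htN b c (e c) rfl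
    rw [hbt] at this
    exact this
  have hσ : ∀ c : ↥(Subgroup.centralizer ((P : Subgroup G) : Set G)),
      σ t ∘ₗ σ (Subgroup.inclusion hCN c) = σ (Subgroup.inclusion hCN (e c)) ∘ₗ σ t := by
    intro c
    have h1 : t * Subgroup.inclusion hCN c = Subgroup.inclusion hCN (e c) * t := by
      apply Subtype.ext
      show (t : G) * (c : G) = (t : G) * (c : G) * (t : G)⁻¹ * (t : G)
      rw [inv_mul_cancel_right]
    have h2 : σ (t * Subgroup.inclusion hCN c) = σ (Subgroup.inclusion hCN (e c) * t) := by rw [h1]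
    rw [map_mul, map_mul] at h2
    exact h2
  have key : subOp hCN σ (eBar hMp b) =
      ∑ c : ↥(Subgroup.centralizer ((P : Subgroup G) : Set G)),
        eBar hMp b c • σ (Subgroup.inclusion hCN c) := rfl
  show σ t ∘ₗ subOp hCN σ (eBar hMp b) = subOp hCN σ (eBar hMp b) ∘ₗ σ t
  rw [key]
  apply LinearMap.ext
  intro x
  simp only [LinearMap.comp_apply, LinearMap.sum_apply, LinearMap.smul_apply, map_sum, map_smul]
  rw [← Equiv.sum_comp e (fun c => eBar hMp b c • σ (Subgroup.inclusion hCN c) (σ t x))]
  refine Finset.sum_congr rfl fun c _ => ?_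
  have h3 := LinearMap.congr_fun (hσ c) x
  simp only [LinearMap.comp_apply] at h3
  rw [heb c, ← h3]

end root

end Cfsg.Agent.Lib.helper7.BD
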