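import Mathlib
import Cfsg.Agent.Lib.Helper28.BP2.Defs
import Cfsg.Agent.Lib.Helper12.BP2T11
import Cfsg.Agent.Lib.Helper13.BP2C1
import Cfsg.Agent.Lib.Helper13.BP2C2
import Cfsg.Agent.Lib.Helper1.BP2C3
import Cfsg.Agent.Lib.Helper20.BP2T9a
import Cfsg.Agent.Lib.Helper18.BP2C6

/-!
# BP2 row C7 (`stepC`), second copy by helper16 as a core on the statement of T9

`bp2c7_h16_core`: the exact Skel statement of C7 with one extra hypothesis `hT9` = the statement of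
T9 `binS_mem_of_conj` for the given `H` and `p` (the `BinS H` hypothesis of T9 is discharged by
the caller).  Cites the landed T11, C1, C2, C3, T9a, C6.
-/

set_option autoImplicit false

namespace Cfsg.Agent.Lib.Helper28.BP2

open Cfsg.Agent.Lib.helper14

universe u v w

section StepC

variable {F : Type u} [Field F] [Fintype F]

/-- `β ↦ x * pr (uS β) * x⁻¹`. -/
def bp2c7_h16_phi (x : PSL2 F) (β : F) : PSL2 F := x * pr F (uS β) * x⁻¹

omit [Fintype F] in
theorem bp2c7_h16_phi_add (x : PSL2 F) (a b : F) :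
    bp2c7_h16_phi x (a + b) = bp2c7_h16_phi x a * bp2c7_h16_phi x b := by
  simp only [bp2c7_h16_phi, ← uS_mul, map_mul]
  group

omit [Fintype F] in
theorem bp2c7_h16_phi_zero (x : PSL2 F) : bp2c7_h16_phi x 0 = 1 := by
  simp only [bp2c7_h16_phi, uS_zero, map_one]
  group

omit [Fintype F] in
theorem bp2c7_h16_phi_neg (x : PSL2 F) (a : F) :
    bp2c7_h16_phi x (-a) = (bp2c7_h16_phi x a)⁻¹ := by
  have h := bp2c7_h16_phi_add x a (-a)
  rw [add_neg_cancel, bp2c7_h16_phi_zero] at h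
  exact eq_inv_of_mul_eq_one_right h.symm

theorem bp2c7_h16_phi_conj (x : PSL2 F) (β : F) (ν : Fˣ) :
    IsConj (bp2c7_h16_phi x β) (bp2c7_h16_phi x ((ν : F) ^ 2 * β)) := by
  have h := (MulAut.conj x).toMonoidHom.map_isConj (uS_conj_sq β ν)
  simpa [bp2c7_h16_phi, MulAut.conj_apply] using h

theorem bp2c7_h16_phi_order (p : ℕ) [Fact p.Prime] [CharP F p] (x : PSL2 F) (β : F)
    (hβ : β ≠ 0) : orderOf (bp2c7_h16_phi x β) = p := by
  have h := orderOf_injective (MulAut.conj x).toMonoidHom (MulAut.conj x).injective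
    (pr F (uS β))
  rw [← orderOf_pr_uS p β hβ, ← h]
  simp [bp2c7_h16_phi, MulAut.conj_apply]

/-- **C7** on the statement of T9. -/
theorem bp2c7_h16_core (p : ℕ) [Fact p.Prime] [CharP F p] (hp : p ≠ 2)
    (h7 : 7 ≤ Fintype.card F) (h9 : Fintype.card F ≠ 9) (H : Subgroup (PSL2 F))
    (hpH : p ∣ Nat.card H)
    (hT9 : ∀ g h : PSL2 F, g ∈ H → Commute g h → orderOf g = p →
      (∀ f : PSL2 F, orderOf f = p → fx H f ≤ fx H g) → IsConj h g → IsConj (g * h⁻¹) g →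
      h ∈ H) :
    ∃ g : PSL2 F, PU F ≤ H.map (MulAut.conj g).toMonoidHom := by
  obtain ⟨g₀, hg₀H, hg₀ord, hg₀max⟩ := exists_maxfix H p hpH
  obtain ⟨x, α, hα, hg₀eq⟩ := order_p_conj p g₀ hg₀ord
  have hodd : Odd (Fintype.card F) := by
    obtain ⟨n, hpp, hn⟩ := FiniteField.card F p
    rw [hn]
    exact (hpp.odd_of_ne_two hp).pow
  let A : AddSubgroup F :=
    { carrier := {β | bp2c7_h16_phi x β ∈ H}
      zero_mem' := by
        show bp2c7_h16_phi x 0 ∈ H
        rw [bp2c7_h16_phi_zero]; exact H.one_mem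
      add_mem' := by
        intro a b ha hb
        show bp2c7_h16_phi x (a + b) ∈ H
        rw [bp2c7_h16_phi_add]; exact H.mul_mem ha hb
      neg_mem' := by
        intro a ha
        show bp2c7_h16_phi x (-a) ∈ H
        rw [bp2c7_h16_phi_neg]; exact H.inv_mem ha }
  have hmemA : ∀ β : F, β ∈ A ↔ bp2c7_h16_phi x β ∈ H := fun β => Iff.rfl
  have hαA : α ∈ A := by
    rw [hmemA]
    show x * pr F (uS α) * x⁻¹ ∈ H
    rw [← hg₀eq]; exact hg₀H
  have hg₀phi : g₀ = bp2c7_h16_phi x α := hg₀eq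
  have hcl : ∀ β ∈ A, (∃ μ : F, μ ≠ 0 ∧ β = μ ^ 2 * α) →
      ∀ ρ : F, IsSquare ρ → ρ ≠ 0 → IsSquare (1 - ρ) → 1 - ρ ≠ 0 → ρ * β ∈ A := by
    intro β hβA hβ ρ hρ hρ0 hρ1 hρ10
    obtain ⟨μ, hμ, hβeq⟩ := hβ
    obtain ⟨r, hr⟩ := hρ
    obtain ⟨s, hs⟩ := hρ1
    have hr0 : r ≠ 0 := by
      rintro rfl
      exact hρ0 (by rw [hr, mul_zero])
    have hs0 : s ≠ 0 := by
      rintro rfl
      exact hρ10 (by rw [hs, mul_zero])
    have hβ0 : β ≠ 0 := by
      rw [hβeq]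
      exact mul_ne_zero (pow_ne_zero 2 hμ) hα
    rw [hmemA] at hβA ⊢
    -- `g := φ β` is conjugate to `g₀`
    have hconj0 : IsConj g₀ (bp2c7_h16_phi x β) := by
      rw [hg₀phi, hβeq]
      exact bp2c7_h16_phi_conj x α (Units.mk0 μ hμ)
    have hgmax : ∀ f : PSL2 F, orderOf f = p → fx H f ≤ fx H (bp2c7_h16_phi x β) := by
      intro f hf
      rw [← fx_isConj H g₀ _ hconj0]
      exact hg₀max f hf
    have hcomm : Commute (bp2c7_h16_phi x β) (bp2c7_h16_phi x (ρ * β)) := by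
      show _ * _ = _ * _
      rw [← bp2c7_h16_phi_add, ← bp2c7_h16_phi_add, add_comm]
    have hh : IsConj (bp2c7_h16_phi x (ρ * β)) (bp2c7_h16_phi x β) := by
      have := bp2c7_h16_phi_conj x β (Units.mk0 r hr0)
      rw [Units.val_mk0, sq, ← hr] at this
      exact this.symm
    have hk : IsConj (bp2c7_h16_phi x β * (bp2c7_h16_phi x (ρ * β))⁻¹) (bp2c7_h16_phi x β) := by
      have := bp2c7_h16_phi_conj x β (Units.mk0 s hs0)
      rw [Units.val_mk0, sq, ← hs] at this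
      rw [← bp2c7_h16_phi_neg, ← bp2c7_h16_phi_add]
      have h1 : β + -(ρ * β) = (1 - ρ) * β := by ring
      rw [h1]
      exact this.symm
    exact hT9 _ _ hβA hcomm (bp2c7_h16_phi_order p x β hβ0) hgmax hh hk
  have hAtop : A = ⊤ := gen_by_R hodd h7 h9 A α hαA hα hcl
  refine ⟨x⁻¹, ?_⟩
  rintro z ⟨m, hm, rfl⟩
  obtain ⟨β, rfl⟩ := (mem_US m).mp hm
  have hβ : β ∈ A := by rw [hAtop]; exact AddSubgroup.mem_top β
  rw [hmemA] at hβ
  refine Subgroup.mem_map.mpr ⟨_, hβ, ?_⟩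
  simp only [bp2c7_h16_phi, MulEquiv.coe_toMonoidHom, MulAut.conj_apply]
  group

end StepC

end Cfsg.Agent.Lib.Helper28.BP2
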