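import Mathlib
import Cfsg.Agent.Lib.Helper28.BP2.Defs
import Cfsg.Agent.Lib.helper15.BP2T7
import Cfsg.Agent.Lib.Helper25.BP2T12
import Cfsg.Agent.Lib.Helper26.BP2T3
import Cfsg.Agent.Lib.helper4.BP2U2
import Cfsg.Agent.Lib.Helper13.BP2U1
import Cfsg.Agent.Lib.Helper24.BP2E5
import Cfsg.Agent.Lib.helper15.SL2Conj

/-!
# BP2 row D6 (`not_binS_three_odd`), second copy by helper16 under own names

`p ≠ 2, 3`, `|H| = 3`: `H` is not binary.  Route: a generic "prime triple" lemma from T7 and the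
TI-lemma of helper25; `H = ⟨pr A⟩` with `tr A = -1`; all matrices of `SL₂(F)` of trace `-1` are
conjugate in `SL₂(F)` (`helper15.conj_of_trace_eq`, `nrm_universal`), so by T3 we may take
`A = compSL (-1) = !![0,-1;1,-1]`; a point `(x, y)` of the conic `x² + xy + y² + x + y + 1 = 0`
gives `b₀ = !![x, y; x + y + 1, -1 - x]`, `c₀ = !![y, -(1 + x + y); -x, -(y + 1)]` of trace `-1`
with `b₀ c₀ = - comp`, neither commuting nor anticommuting with `comp`.
-/

set_option autoImplicit false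

namespace Cfsg.Agent.Lib.Helper28.BP2

open Cfsg.Agent.Lib.helper14 Cfsg.Agent.Lib.helper15

universe u v w

section Generic

variable {G : Type u} [Group G]

/-- T7 for a subgroup of prime order: `a = b c`, `a ∈ H`, `a ≠ 1`, `b`, `c` conjugate into `H` but
not in `H`. -/
theorem bp2d6_h16_prime_triple (H : Subgroup G) (hp : (Nat.card H).Prime) (a b c x y : G)
    (ha : a ∈ H) (ha1 : a ≠ 1) (hb : x⁻¹ * b * x ∈ H) (hc : y⁻¹ * c * y ∈ H) (habc : a = b * c)
    (hbH : b ∉ H) (hcH : c ∉ H) : ¬ BinS H := by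
  apply not_binS_of_triple H a b c x y ha hb hc habc
  intro h₁ h₂ hh₁ hh₁' hh₂ hh₂' heq
  have hx : x ∉ Subgroup.normalizer (H : Set G) := by
    intro hx
    apply hbH
    have := (Subgroup.mem_normalizer_iff.mp hx (x⁻¹ * b * x)).mp hb
    have e : x * (x⁻¹ * b * x) * x⁻¹ = b := by group
    rwa [e] at this
  have hy : y ∉ Subgroup.normalizer (H : Set G) := by
    intro hy
    apply hcH
    have := (Subgroup.mem_normalizer_iff.mp hy (y⁻¹ * c * y)).mp hc
    have e : y * (y⁻¹ * c * y) * y⁻¹ = c := by group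
    rwa [e] at this
  have e1 := bp2t12_ti H hp hx hh₁ hh₁'
  have e2 := bp2t12_ti H hp hy hh₂ hh₂'
  apply ha1
  rw [heq, e1, e2, one_mul]

end Generic

section D6

variable {F : Type u} [Field F]

/-- a matrix of `SL₂(F)` of trace `-1` is not scalar when `3 ≠ 0`. -/
theorem bp2d6_h16_nonscalar (h3 : (3 : F) ≠ 0) (M : SL2 F)
    (htr : Matrix.trace (M : Matrix (Fin 2) (Fin 2) F) = -1) :
    ∀ c : F, (M : Matrix (Fin 2) (Fin 2) F) ≠ c • (1 : Matrix (Fin 2) (Fin 2) F) := by
  intro c hc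
  have hd := M.2
  rw [Matrix.det_fin_two] at hd
  rw [Matrix.trace_fin_two] at htr
  have h00 : (M : Matrix (Fin 2) (Fin 2) F) 0 0 = c := by rw [hc]; simp
  have h11 : (M : Matrix (Fin 2) (Fin 2) F) 1 1 = c := by rw [hc]; simp
  have h01 : (M : Matrix (Fin 2) (Fin 2) F) 0 1 = 0 := by rw [hc]; simp
  rw [h00, h11] at htr
  rw [h00, h11, h01] at hd
  apply h3
  linear_combination (-4 : F) * hd + (2 * c - 1) * htr

/-- the matrix `b₀` of a point of the conic. -/
def bp2d6_h16_b (x y : F) (h : x ^ 2 + x * y + y ^ 2 + x + y + 1 = 0) : SL2 F :=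
  ⟨!![x, y; x + y + 1, -1 - x], by rw [Matrix.det_fin_two_of]; linear_combination (-1 : F) * h⟩

/-- the matrix `c₀ = - b₀⁻¹ * comp` of a point of the conic. -/
def bp2d6_h16_c (x y : F) (h : x ^ 2 + x * y + y ^ 2 + x + y + 1 = 0) : SL2 F :=
  ⟨!![y, -(1 + x + y); -x, -(y + 1)], by
    rw [Matrix.det_fin_two_of]; linear_combination (-1 : F) * h⟩

theorem bp2d6_h16_b_mul_c (x y : F) (h : x ^ 2 + x * y + y ^ 2 + x + y + 1 = 0) :
    bp2d6_h16_b x y h * bp2d6_h16_c x y h = -compSL (-1) := by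
  apply Subtype.ext
  rw [Matrix.SpecialLinearGroup.coe_mul, Matrix.SpecialLinearGroup.coe_neg, compSL_coe]
  show !![x, y; x + y + 1, -1 - x] * !![y, -(1 + x + y); -x, -(y + 1)] = -!![0, -1; 1, -1]
  rw [Matrix.mul_fin_two]
  ext i j
  fin_cases i <;> fin_cases j <;> simp
  · ring
  · linear_combination (-1 : F) * h
  · linear_combination h
  · linear_combination (-1 : F) * h

theorem bp2d6_h16_b_trace (x y : F) (h : x ^ 2 + x * y + y ^ 2 + x + y + 1 = 0) :
    Matrix.trace ((bp2d6_h16_b x y h : SL2 F) : Matrix (Fin 2) (Fin 2) F) = -1 := by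
  show Matrix.trace !![x, y; x + y + 1, -1 - x] = -1
  rw [Matrix.trace_fin_two_of]; ring

theorem bp2d6_h16_c_trace (x y : F) (h : x ^ 2 + x * y + y ^ 2 + x + y + 1 = 0) :
    Matrix.trace ((bp2d6_h16_c x y h : SL2 F) : Matrix (Fin 2) (Fin 2) F) = -1 := by
  show Matrix.trace !![y, -(1 + x + y); -x, -(y + 1)] = -1
  rw [Matrix.trace_fin_two_of]; ring

/-- `b₀` neither commutes nor anticommutes with `comp`. -/
theorem bp2d6_h16_b_not_comm (h2 : (2 : F) ≠ 0) (x y : F)
    (h : x ^ 2 + x * y + y ^ 2 + x + y + 1 = 0) :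
    ¬ (compSL (-1) * bp2d6_h16_b x y h = bp2d6_h16_b x y h * compSL (-1) ∨
      compSL (-1) * bp2d6_h16_b x y h = -(bp2d6_h16_b x y h * compSL (-1))) := by
  rintro (hc | hc)
  · have hm := congrArg (fun g : SL2 F => (g : Matrix (Fin 2) (Fin 2) F)) hc
    simp only [Matrix.SpecialLinearGroup.coe_mul, compSL_coe] at hm
    change !![0, -1; 1, -1] * !![x, y; x + y + 1, -1 - x] =
      !![x, y; x + y + 1, -1 - x] * !![0, -1; 1, -1] at hm
    rw [Matrix.mul_fin_two, Matrix.mul_fin_two] at hm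
    have e00 := congrFun (congrFun hm 0) 0
    have e10 := congrFun (congrFun hm 1) 0
    simp at e00 e10
    apply h2
    have hxy : x = y := by linear_combination e10
    subst hxy
    have e : 3 * x + 1 = 0 := by linear_combination (-1 : F) * e00
    linear_combination 3 * h - (3 * x + 1) * e
  · have hm := congrArg (fun g : SL2 F => (g : Matrix (Fin 2) (Fin 2) F)) hc
    simp only [Matrix.SpecialLinearGroup.coe_mul, Matrix.SpecialLinearGroup.coe_neg,
      compSL_coe] at hm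
    change !![0, -1; 1, -1] * !![x, y; x + y + 1, -1 - x] =
      -(!![x, y; x + y + 1, -1 - x] * !![0, -1; 1, -1]) at hm
    rw [Matrix.mul_fin_two, Matrix.mul_fin_two] at hm
    have e00 := congrFun (congrFun hm 0) 0
    have e01 := congrFun (congrFun hm 0) 1
    have e10 := congrFun (congrFun hm 1) 0
    simp at e00 e01 e10
    apply h2
    linear_combination e00 + e01 - e10

/-- `c₀` neither commutes nor anticommutes with `comp`. -/
theorem bp2d6_h16_c_not_comm (h2 : (2 : F) ≠ 0) (x y : F)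
    (h : x ^ 2 + x * y + y ^ 2 + x + y + 1 = 0) :
    ¬ (compSL (-1) * bp2d6_h16_c x y h = bp2d6_h16_c x y h * compSL (-1) ∨
      compSL (-1) * bp2d6_h16_c x y h = -(bp2d6_h16_c x y h * compSL (-1))) := by
  rintro (hc | hc)
  · have hm := congrArg (fun g : SL2 F => (g : Matrix (Fin 2) (Fin 2) F)) hc
    simp only [Matrix.SpecialLinearGroup.coe_mul, compSL_coe] at hm
    change !![0, -1; 1, -1] * !![y, -(1 + x + y); -x, -(y + 1)] =
      !![y, -(1 + x + y); -x, -(y + 1)] * !![0, -1; 1, -1] at hm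
    rw [Matrix.mul_fin_two, Matrix.mul_fin_two] at hm
    have e00 := congrFun (congrFun hm 0) 0
    have e01 := congrFun (congrFun hm 0) 1
    simp at e00 e01
    apply h2
    have hxy : x = y := by linear_combination (-1 : F) * e01
    subst hxy
    have e : 3 * x + 1 = 0 := by linear_combination e00
    linear_combination 3 * h - (3 * x + 1) * e
  · have hm := congrArg (fun g : SL2 F => (g : Matrix (Fin 2) (Fin 2) F)) hc
    simp only [Matrix.SpecialLinearGroup.coe_mul, Matrix.SpecialLinearGroup.coe_neg,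
      compSL_coe] at hm
    change !![0, -1; 1, -1] * !![y, -(1 + x + y); -x, -(y + 1)] =
      -(!![y, -(1 + x + y); -x, -(y + 1)] * !![0, -1; 1, -1]) at hm
    rw [Matrix.mul_fin_two, Matrix.mul_fin_two] at hm
    have e00 := congrFun (congrFun hm 0) 0
    have e01 := congrFun (congrFun hm 0) 1
    have e10 := congrFun (congrFun hm 1) 0
    simp at e00 e01 e10
    apply h2
    linear_combination e01 - e10 + e00

/-- `pr (-A) = pr A`. -/
theorem bp2d6_h16_pr_neg (A : SL2 F) : pr F (-A) = pr F A :=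
  (pr_eq_iff (-A) A).mpr (Or.inr rfl)

/-- a subgroup of order 3 of `PSL₂(F)` is generated by the image of a matrix of trace `-1`. -/
theorem bp2d6_h16_exists_lift (H : Subgroup (PSL2 F)) (hH : Nat.card H = 3) :
    ∃ A : SL2 F, Matrix.trace (A : Matrix (Fin 2) (Fin 2) F) = -1 ∧
      H = Subgroup.zpowers (pr F A) := by
  have hp : (Nat.card H).Prime := by rw [hH]; norm_num
  obtain ⟨a, haH, ha1⟩ : ∃ a ∈ H, a ≠ 1 := by
    by_contra hcon
    push Not at hcon
    have : H = ⊥ := (Subgroup.eq_bot_iff_forall H).mpr hcon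
    rw [this] at hH
    simp at hH
  have hHz : H = Subgroup.zpowers a := by
    apply le_antisymm
    · intro x hx
      obtain ⟨k, hk⟩ := bp2t12_exists_zpow H hp haH ha1 hx
      rw [hk]; exact Subgroup.zpow_mem_zpowers a k
    · rw [Subgroup.zpowers_le]; exact haH
  have ha3 : a ^ 3 = 1 := by
    have h1 : (⟨a, haH⟩ : H) ^ Nat.card H = 1 := pow_card_eq_one'
    rw [hH] at h1
    have := congrArg Subtype.val h1
    simpa using this
  obtain ⟨A₀, rfl⟩ := pr_surjective a
  rw [← map_pow, ← map_one (pr F), pr_eq_iff] at ha3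
  have hA1 : A₀ ≠ 1 := by
    rintro rfl; exact ha1 (map_one _)
  have hA2 : A₀ ≠ -1 := by
    rintro rfl
    apply ha1
    rw [bp2d6_h16_pr_neg, map_one]
  obtain ⟨a, ha⟩ : ∃ a, (A₀ : Matrix (Fin 2) (Fin 2) F) 0 0 = a := ⟨_, rfl⟩
  obtain ⟨b, hb⟩ : ∃ b, (A₀ : Matrix (Fin 2) (Fin 2) F) 0 1 = b := ⟨_, rfl⟩
  obtain ⟨c, hc⟩ : ∃ c, (A₀ : Matrix (Fin 2) (Fin 2) F) 1 0 = c := ⟨_, rfl⟩
  obtain ⟨d, hd⟩ : ∃ d, (A₀ : Matrix (Fin 2) (Fin 2) F) 1 1 = d := ⟨_, rfl⟩
  have hM : (A₀ : Matrix (Fin 2) (Fin 2) F) = !![a, b; c, d] := by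
    rw [Matrix.eta_fin_two (A₀ : Matrix (Fin 2) (Fin 2) F), ha, hb, hc, hd]
  have hdet : a * d - b * c = 1 := by
    have := A₀.2
    rw [Matrix.det_fin_two, ha, hb, hc, hd] at this
    exact this
  have htr : Matrix.trace (A₀ : Matrix (Fin 2) (Fin 2) F) = a + d := by
    rw [Matrix.trace_fin_two, ha, hd]
  -- the cube is scalar
  have hscal : ∃ e : F, (!![a, b; c, d] : Matrix (Fin 2) (Fin 2) F) ^ 3 = !![e, 0; 0, e] := by
    rcases ha3 with h | h
    · refine ⟨1, ?_⟩
      have := congrArg (fun g : SL2 F => (g : Matrix (Fin 2) (Fin 2) F)) h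
      simp only [Matrix.SpecialLinearGroup.coe_pow, Matrix.SpecialLinearGroup.coe_one, hM] at this
      rw [this, Matrix.one_fin_two]
    · refine ⟨-1, ?_⟩
      have := congrArg (fun g : SL2 F => (g : Matrix (Fin 2) (Fin 2) F)) h
      simp only [Matrix.SpecialLinearGroup.coe_pow, Matrix.SpecialLinearGroup.coe_neg,
        Matrix.SpecialLinearGroup.coe_one, hM] at this
      rw [this, Matrix.one_fin_two]
      ext i j
      fin_cases i <;> fin_cases j <;> simp
  obtain ⟨e, he⟩ := hscal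
  rw [bp2e5_cube a b c d hdet, Cfsg.Agent.Lib.helper14.m2_eq_iff] at he
  obtain ⟨e1, e2, e3, e4⟩ := he
  have hτ : (a + d) ^ 2 = 1 := by
    by_contra hne
    have hne' : (a + d) ^ 2 - 1 ≠ 0 := sub_ne_zero.mpr hne
    have hb0 : b = 0 := (mul_eq_zero.mp e2).resolve_left hne'
    have hc0 : c = 0 := (mul_eq_zero.mp e3).resolve_left hne'
    have had : a = d := by
      have : ((a + d) ^ 2 - 1) * (a - d) = 0 := by linear_combination e1 - e4
      exact sub_eq_zero.mp ((mul_eq_zero.mp this).resolve_left hne')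
    subst hb0 hc0 had
    have ha2 : (a - 1) * (a + 1) = 0 := by linear_combination hdet
    rcases mul_eq_zero.mp ha2 with h | h
    · apply hA1
      apply Subtype.ext
      rw [hM, Matrix.SpecialLinearGroup.coe_one, Matrix.one_fin_two, sub_eq_zero.mp h]
    · apply hA2
      apply Subtype.ext
      rw [hM, Matrix.SpecialLinearGroup.coe_neg, Matrix.SpecialLinearGroup.coe_one,
        Matrix.one_fin_two, eq_neg_of_add_eq_zero_left h]
      ext i j
      fin_cases i <;> fin_cases j <;> simp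
  have hτ' : (a + d - 1) * (a + d + 1) = 0 := by linear_combination hτ
  rcases mul_eq_zero.mp hτ' with h | h
  · refine ⟨-A₀, ?_, ?_⟩
    · rw [Matrix.SpecialLinearGroup.coe_neg, Matrix.trace_neg, htr]
      linear_combination (-1 : F) * h
    · rw [bp2d6_h16_pr_neg]; exact hHz
  · refine ⟨A₀, ?_, hHz⟩
    rw [htr]
    linear_combination h

theorem bp2d6_h16_comp_pow : (compSL (-1) : SL2 F) ^ 3 = 1 := by
  apply Subtype.ext
  rw [Matrix.SpecialLinearGroup.coe_pow, compSL_coe, bp2e5_cube _ _ _ _ (by ring),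
    Matrix.SpecialLinearGroup.coe_one, Matrix.one_fin_two]
  apply Cfsg.Agent.Lib.helper14.m2_congr <;> ring

theorem bp2d6_h16_pr_comp_ne_one : pr F (compSL (-1)) ≠ 1 := by
  intro h
  rw [← map_one (pr F), pr_eq_iff] at h
  rcases h with h | h
  · have := congrArg (fun g : SL2 F => (g : Matrix (Fin 2) (Fin 2) F) 1 0) h
    simp [compSL_coe] at this
  · have := congrArg (fun g : SL2 F => (g : Matrix (Fin 2) (Fin 2) F) 1 0) h
    simp [compSL_coe] at this

end D6

section D6fin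

variable {F : Type u} [Field F] [Fintype F]

/-- the conic has a point over a finite field of characteristic `≠ 2, 3`. -/
theorem bp2d6_h16_conic (hodd : Fintype.card F % 2 = 1) (h2 : (2 : F) ≠ 0) (h3 : (3 : F) ≠ 0) :
    ∃ x y : F, x ^ 2 + x * y + y ^ 2 + x + y + 1 = 0 := by
  have hf2 : (Polynomial.X ^ 2 : Polynomial F).degree = 2 := Polynomial.degree_X_pow 2
  have hg2 : (Polynomial.C (3 : F) * Polynomial.X ^ 2 + Polynomial.C 2 * Polynomial.X +
      Polynomial.C 3 : Polynomial F).degree = 2 := Polynomial.degree_quadratic h3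
  obtain ⟨a, b, hab⟩ := FiniteField.exists_root_sum_quadratic hf2 hg2 hodd
  simp only [Polynomial.eval_add, Polynomial.eval_mul, Polynomial.eval_pow, Polynomial.eval_X,
    Polynomial.eval_C] at hab
  refine ⟨(a - b - 1) / 2, b, ?_⟩
  have hx : 2 * ((a - b - 1) / 2) = a - b - 1 := by field_simp
  have h4 : (4 : F) * (((a - b - 1) / 2) ^ 2 + ((a - b - 1) / 2) * b + b ^ 2 +
      ((a - b - 1) / 2) + b + 1) = 0 := by
    linear_combination hab + (2 * ((a - b - 1) / 2) + b + 1 + a) * hx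
  have h4' : (4 : F) ≠ 0 := by
    have : (4 : F) = 2 * 2 := by norm_num
    rw [this]; exact mul_ne_zero h2 h2
  exact (mul_eq_zero.mp h4).resolve_left h4'

/-- the norm form of trace `-1` is universal. -/
theorem bp2d6_h16_univ (hodd : Fintype.card F % 2 = 1) (h2 : (2 : F) ≠ 0) (h3 : (3 : F) ≠ 0) :
    ∀ n : F, n ≠ 0 → ∃ z : F × F,
      nrm (Matrix.trace ((compSL (-1) : SL2 F) : Matrix (Fin 2) (Fin 2) F)) z = n := by
  intro n _
  rw [compSL_trace]
  exact nrm_universal hodd h2 (-1) (by intro h4; apply h3; linear_combination (-1 : F) * h4) n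

/-- the standard subgroup of order 3 is not binary. -/
theorem bp2d6_h16_comp (hodd : Fintype.card F % 2 = 1) (h2 : (2 : F) ≠ 0) (h3 : (3 : F) ≠ 0) :
    ¬ BinS (Subgroup.zpowers (pr F (compSL (-1)))) := by
  obtain ⟨x, y, h⟩ := bp2d6_h16_conic hodd h2 h3
  have huniv := bp2d6_h16_univ hodd h2 h3
  obtain ⟨Pb, hPb⟩ := conj_of_trace_eq (compSL (-1)) (bp2d6_h16_b x y h) (compSL_nonscalar _)
    (bp2d6_h16_nonscalar h3 _ (bp2d6_h16_b_trace x y h))
    (by rw [compSL_trace, bp2d6_h16_b_trace]) huniv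
  obtain ⟨Pc, hPc⟩ := conj_of_trace_eq (compSL (-1)) (bp2d6_h16_c x y h) (compSL_nonscalar _)
    (bp2d6_h16_nonscalar h3 _ (bp2d6_h16_c_trace x y h))
    (by rw [compSL_trace, bp2d6_h16_c_trace]) huniv
  have hcomp1 : pr F (compSL (-1)) ≠ 1 := bp2d6_h16_pr_comp_ne_one
  have hord : orderOf (pr F (compSL (-1))) = 3 :=
    orderOf_eq_prime (by rw [← map_pow, bp2d6_h16_comp_pow, map_one]) hcomp1
  have hcard : (Nat.card (Subgroup.zpowers (pr F (compSL (-1))))).Prime := by
    rw [Nat.card_zpowers, hord]; norm_num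
  refine bp2d6_h16_prime_triple _ hcard (pr F (compSL (-1))) (pr F (bp2d6_h16_b x y h))
    (pr F (bp2d6_h16_c x y h)) (pr F Pb) (pr F Pc) (Subgroup.mem_zpowers _) hcomp1 ?_ ?_ ?_ ?_ ?_
  · rw [← map_inv, ← map_mul, ← map_mul, ← hPb]
    have : Pb⁻¹ * (Pb * compSL (-1) * Pb⁻¹) * Pb = compSL (-1) := by group
    rw [this]; exact Subgroup.mem_zpowers _
  · rw [← map_inv, ← map_mul, ← map_mul, ← hPc]
    have : Pc⁻¹ * (Pc * compSL (-1) * Pc⁻¹) * Pc = compSL (-1) := by group
    rw [this]; exact Subgroup.mem_zpowers _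
  · rw [← map_mul, bp2d6_h16_b_mul_c, bp2d6_h16_pr_neg]
  · intro hb
    obtain ⟨k, hk⟩ := Subgroup.mem_zpowers_iff.mp hb
    have hcomm : Commute (pr F (compSL (-1))) (pr F (bp2d6_h16_b x y h)) := by
      rw [← hk]; exact (Commute.refl _).zpow_right k
    have := hcomm.eq
    rw [← map_mul, ← map_mul, pr_eq_iff] at this
    exact bp2d6_h16_b_not_comm h2 x y h this
  · intro hc
    obtain ⟨k, hk⟩ := Subgroup.mem_zpowers_iff.mp hc
    have hcomm : Commute (pr F (compSL (-1))) (pr F (bp2d6_h16_c x y h)) := by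
      rw [← hk]; exact (Commute.refl _).zpow_right k
    have := hcomm.eq
    rw [← map_mul, ← map_mul, pr_eq_iff] at this
    exact bp2d6_h16_c_not_comm h2 x y h this

/-- **D6** under own name (the hypothesis `7 ≤ q` of the Skel is not needed). -/
theorem bp2d6_h16_main (p : ℕ) [Fact p.Prime] [CharP F p] (hp2 : p ≠ 2) (hp3 : p ≠ 3)
    (H : Subgroup (PSL2 F)) (hH : Nat.card H = 3) : ¬ BinS H := by
  have hpp : p.Prime := Fact.out
  have h2 : (2 : F) ≠ 0 := by
    intro h
    have h' : ((2 : ℕ) : F) = 0 := by exact_mod_cast h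
    rw [CharP.cast_eq_zero_iff F p] at h'
    exact hp2 ((Nat.prime_dvd_prime_iff_eq hpp Nat.prime_two).mp h')
  have h3 : (3 : F) ≠ 0 := by
    intro h
    have h' : ((3 : ℕ) : F) = 0 := by exact_mod_cast h
    rw [CharP.cast_eq_zero_iff F p] at h'
    exact hp3 ((Nat.prime_dvd_prime_iff_eq hpp Nat.prime_three).mp h')
  have hodd : Fintype.card F % 2 = 1 := by
    obtain ⟨n, _, hn⟩ := FiniteField.card F p
    rw [hn]
    exact Nat.odd_iff.mp ((hpp.odd_of_ne_two hp2).pow)
  obtain ⟨A, htrA, hHA⟩ := bp2d6_h16_exists_lift H hH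
  obtain ⟨P, hP⟩ := conj_of_trace_eq (compSL (-1)) A (compSL_nonscalar _)
    (bp2d6_h16_nonscalar h3 A htrA) (by rw [compSL_trace, htrA]) (bp2d6_h16_univ hodd h2 h3)
  have hmap : H = (Subgroup.zpowers (pr F (compSL (-1)))).map
      (MulAut.conj (pr F P)).toMonoidHom := by
    rw [MonoidHom.map_zpowers, hHA, ← hP]
    simp [MulAut.conj_apply]
  rw [hmap, binS_conj]
  exact bp2d6_h16_comp hodd h2 h3

end D6fin

end Cfsg.Agent.Lib.Helper28.BP2
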