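import Mathlib
import Cfsg.Agent.Lib.Helper28.BP2.Defs

/-!
# BP2 row E1 (`binS_US`), helper16

`SL₂(F)` acting on the nonzero vectors of `F²` is binary; written inside the group for the
stabiliser `US F` of `e₁` (no use of T6): `(y i)⁻¹ * g * x i ∈ US F` iff `g` maps the first column
of `x i` to the first column of `y i`.
-/

set_option autoImplicit false

namespace Cfsg.Agent.Lib.Helper28.BP2

open Cfsg.Agent.Lib.helper14

universe u v w

section E1aux

variable {F : Type u} [Field F]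

/-- `det (a | b)` for two vectors of `F²`. -/
def bp2e1_det2 (a b : Fin 2 → F) : F := a 0 * b 1 - a 1 * b 0

/-- first column of a matrix of `SL₂(F)`. -/
def bp2e1_c0 (m : SL2 F) : Fin 2 → F := fun r => (m : Matrix (Fin 2) (Fin 2) F) r 0

theorem bp2e1_c0_mul (a b : SL2 F) :
    bp2e1_c0 (a * b) = (a : Matrix (Fin 2) (Fin 2) F).mulVec (bp2e1_c0 b) := by
  funext r
  simp only [bp2e1_c0, Matrix.SpecialLinearGroup.coe_mul, Matrix.mul_apply, Matrix.mulVec,
    dotProduct]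

theorem bp2e1_c0_one : bp2e1_c0 (1 : SL2 F) = ![1, 0] := by
  funext r
  fin_cases r <;> simp [bp2e1_c0]

theorem bp2e1_c0_ne_zero (m : SL2 F) : bp2e1_c0 m ≠ 0 := by
  intro h
  have h0 : (m : Matrix (Fin 2) (Fin 2) F) 0 0 = 0 := congrFun h 0
  have h1 : (m : Matrix (Fin 2) (Fin 2) F) 1 0 = 0 := congrFun h 1
  have hd := m.2
  rw [Matrix.det_fin_two, h0, h1] at hd
  simp at hd

theorem bp2e1_mem_US_iff (m : SL2 F) : m ∈ US F ↔ bp2e1_c0 m = ![1, 0] := by
  constructor
  · intro h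
    obtain ⟨t, rfl⟩ := (mem_US m).mp h
    funext r
    fin_cases r <;> simp [bp2e1_c0, uS_coe]
  · intro h
    have h0 : (m : Matrix (Fin 2) (Fin 2) F) 0 0 = 1 := congrFun h 0
    have h1 : (m : Matrix (Fin 2) (Fin 2) F) 1 0 = 0 := congrFun h 1
    have hd := m.2
    rw [Matrix.det_fin_two, h0, h1] at hd
    have h11 : (m : Matrix (Fin 2) (Fin 2) F) 1 1 = 1 := by linear_combination hd
    obtain ⟨t, ht⟩ : ∃ t, (m : Matrix (Fin 2) (Fin 2) F) 0 1 = t := ⟨_, rfl⟩
    refine (mem_US m).mpr ⟨t, ?_⟩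
    apply Subtype.ext
    rw [uS_coe, Matrix.eta_fin_two (m : Matrix (Fin 2) (Fin 2) F), h0, h1, h11, ht]

/-- the coset condition for `US F` in terms of first columns. -/
theorem bp2e1_mem_iff (x y g : SL2 F) :
    y⁻¹ * g * x ∈ US F ↔
      (g : Matrix (Fin 2) (Fin 2) F).mulVec (bp2e1_c0 x) = bp2e1_c0 y := by
  rw [bp2e1_mem_US_iff, ← bp2e1_c0_mul]
  constructor
  · intro h
    have h1 : g * x = y * (y⁻¹ * g * x) := by group
    rw [h1, bp2e1_c0_mul, h, ← bp2e1_c0_one, ← bp2e1_c0_mul, mul_one]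
  · intro h
    have h1 : y⁻¹ * g * x = y⁻¹ * (g * x) := by group
    rw [h1, bp2e1_c0_mul, h, ← bp2e1_c0_mul, inv_mul_cancel, bp2e1_c0_one]

theorem bp2e1_det2_mulVec (g : SL2 F) (a b : Fin 2 → F) :
    bp2e1_det2 ((g : Matrix (Fin 2) (Fin 2) F).mulVec a)
      ((g : Matrix (Fin 2) (Fin 2) F).mulVec b) = bp2e1_det2 a b := by
  have hd := g.2
  rw [Matrix.det_fin_two] at hd
  simp only [bp2e1_det2, Matrix.mulVec, dotProduct, Fin.sum_univ_two]
  linear_combination (a 0 * b 1 - a 1 * b 0) * hd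

theorem bp2e1_det2_self (a : Fin 2 → F) : bp2e1_det2 a a = 0 := by
  simp only [bp2e1_det2]; ring

theorem bp2e1_det2_sub (a b c : Fin 2 → F) :
    bp2e1_det2 (a - b) c = bp2e1_det2 a c - bp2e1_det2 b c := by
  simp only [bp2e1_det2, Pi.sub_apply]; ring

/-- Cramer: a vector with zero determinants against a basis is zero. -/
theorem bp2e1_eq_zero (a b c : Fin 2 → F) (hab : bp2e1_det2 a b ≠ 0) (h1 : bp2e1_det2 c a = 0)
    (h2 : bp2e1_det2 c b = 0) : c = 0 := by
  simp only [bp2e1_det2] at hab h1 h2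
  funext r
  fin_cases r
  · have : (a 0 * b 1 - a 1 * b 0) * c 0 = 0 := by
      linear_combination (a 0) * h2 - (b 0) * h1
    rcases mul_eq_zero.mp this with h | h
    · exact absurd h hab
    · exact h
  · have : (a 0 * b 1 - a 1 * b 0) * c 1 = 0 := by
      linear_combination (a 1) * h2 - (b 1) * h1
    rcases mul_eq_zero.mp this with h | h
    · exact absurd h hab
    · exact h

/-- a vector with zero determinant against a nonzero vector is a multiple of it. -/
theorem bp2e1_exists_smul (a b : Fin 2 → F) (ha : a ≠ 0) (h : bp2e1_det2 b a = 0) :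
    ∃ l : F, b = l • a := by
  simp only [bp2e1_det2] at h
  have ha' : a 0 ≠ 0 ∨ a 1 ≠ 0 := by
    by_contra hcon
    push Not at hcon
    apply ha
    funext r
    fin_cases r
    · exact hcon.1
    · exact hcon.2
  rcases ha' with h0 | h1
  · refine ⟨b 0 / a 0, ?_⟩
    funext r
    fin_cases r
    · simp only [Fin.zero_eta, Pi.smul_apply, smul_eq_mul]
      field_simp
    · simp only [Fin.mk_one, Pi.smul_apply, smul_eq_mul]
      field_simp
      linear_combination (-1 : F) * h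
  · refine ⟨b 1 / a 1, ?_⟩
    funext r
    fin_cases r
    · simp only [Fin.zero_eta, Pi.smul_apply, smul_eq_mul]
      field_simp
      linear_combination h
    · simp only [Fin.mk_one, Pi.smul_apply, smul_eq_mul]
      field_simp

/-- the linear-algebra core of E1: `SL₂(F)` on nonzero vectors is binary. -/
theorem bp2e1_core (n : ℕ) (v w : Fin n → (Fin 2 → F)) (hn : 2 ≤ n) (hv : ∀ i, v i ≠ 0)
    (hp : ∀ i j : Fin n, i ≠ j → ∃ g : SL2 F,
      (g : Matrix (Fin 2) (Fin 2) F).mulVec (v i) = w i ∧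
      (g : Matrix (Fin 2) (Fin 2) F).mulVec (v j) = w j) :
    ∃ g : SL2 F, ∀ i, (g : Matrix (Fin 2) (Fin 2) F).mulVec (v i) = w i := by
  have hdet : ∀ i j : Fin n, bp2e1_det2 (v i) (v j) = bp2e1_det2 (w i) (w j) := by
    intro i j
    by_cases hij : i = j
    · subst hij
      rw [bp2e1_det2_self, bp2e1_det2_self]
    · obtain ⟨g, h1, h2⟩ := hp i j hij
      rw [← h1, ← h2, bp2e1_det2_mulVec]
  by_cases hcase : ∃ i₀ j₀ : Fin n, bp2e1_det2 (v i₀) (v j₀) ≠ 0
  · obtain ⟨i₀, j₀, hD⟩ := hcase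
    have hij : i₀ ≠ j₀ := by
      rintro rfl
      exact hD (bp2e1_det2_self _)
    obtain ⟨g, hg1, hg2⟩ := hp i₀ j₀ hij
    refine ⟨g, fun i => ?_⟩
    have hD' : bp2e1_det2 (w i₀) (w j₀) ≠ 0 := by
      rw [← hdet]; exact hD
    have hz : (g : Matrix (Fin 2) (Fin 2) F).mulVec (v i) - w i = 0 := by
      apply bp2e1_eq_zero (w i₀) (w j₀) _ hD'
      · rw [bp2e1_det2_sub, ← hdet i i₀]
        nth_rewrite 1 [← hg1]
        rw [bp2e1_det2_mulVec, sub_self]
      · rw [bp2e1_det2_sub, ← hdet i j₀]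
        nth_rewrite 1 [← hg2]
        rw [bp2e1_det2_mulVec, sub_self]
    exact sub_eq_zero.mp hz
  · push Not at hcase
    obtain ⟨g, hg1, -⟩ := hp ⟨0, by omega⟩ ⟨1, by omega⟩ (by simp [Fin.ext_iff])
    refine ⟨g, fun i => ?_⟩
    by_cases hi : i = ⟨0, by omega⟩
    · rw [hi]; exact hg1
    · obtain ⟨g', h1, h2⟩ := hp i ⟨0, by omega⟩ hi
      obtain ⟨l, hl⟩ := bp2e1_exists_smul (v ⟨0, by omega⟩) (v i) (hv _) (hcase i _)
      rw [← h1, hl, Matrix.mulVec_smul, Matrix.mulVec_smul, hg1, h2]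

end E1aux

section Easy

variable {F : Type u} [Field F] [Fintype F]

/-- **E1**.  `SL₂(F)` on the nonzero vectors is binary, hence `BinS (US F)`. -/
theorem binS_US [CharP F 2] : BinS (US F) := by
  intro n x y hn hp
  obtain ⟨g, hg⟩ := bp2e1_core n (fun i => bp2e1_c0 (x i)) (fun i => bp2e1_c0 (y i)) hn
    (fun i => bp2e1_c0_ne_zero (x i))
    (fun i j hij => by
      obtain ⟨g, h1, h2⟩ := hp i j hij
      exact ⟨g, (bp2e1_mem_iff _ _ _).mp h1, (bp2e1_mem_iff _ _ _).mp h2⟩)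
  exact ⟨g, fun i => (bp2e1_mem_iff _ _ _).mpr (hg i)⟩

end Easy

end Cfsg.Agent.Lib.Helper28.BP2
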