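import Mathlib
import Cfsg.Agent.Lib.Helper28.BP2.Defs

/-!
# BP2 row E4 (`tr1_triple`), helper16

char 2, no primitive cube root of unity in `F`: `tr k = tr c = tr (k c) = 1` forces `c = k`.
Proof in coordinates (instead of the nilpotent-`N` argument of the skeleton): with
`k = !![a, b; c, d]`, `c = !![e, f; g, h]`, the three trace equations and the two determinants give
`(e - a)² b + (e - a)(b + f) + c (b + f)² = 0`; if `f ≠ b` then `ω := (e - a) b / (f - b) + a` is a
root of `X² + X + 1`; so `f = b`, then `e = a`, `g = c`, `h = d`.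
-/

set_option autoImplicit false

namespace Cfsg.Agent.Lib.Helper28.BP2

open Cfsg.Agent.Lib.helper14

universe u v w

/-- the coordinate form of E4. -/
theorem bp2e4_field {F : Type u} [Field F] [CharP F 2] (hno : ∀ ω : F, ω ^ 2 + ω + 1 ≠ 0)
    (a b c d e f g h : F) (hk : a + d = 1) (hdk : a * d - b * c = 1) (hc : e + h = 1)
    (hdc : e * h - f * g = 1) (hkc : a * e + b * g + c * f + d * h = 1) :
    e = a ∧ f = b ∧ g = c ∧ h = d := by
  have hT : (e - a) ^ 2 * b + (e - a) * (b + f) + c * (b + f) ^ 2 = 0 := by grind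
  have hb : b ≠ 0 := by
    intro hb
    apply hno a
    grind
  have hfb : f = b := by
    by_contra hfb
    have hne : f - b ≠ 0 := sub_ne_zero.mpr hfb
    apply hno ((e - a) * b / (f - b) + a)
    have : ((e - a) * b / (f - b) + a) ^ 2 + ((e - a) * b / (f - b) + a) + 1
        = (((e - a) * b + a * (f - b)) ^ 2 + ((e - a) * b + a * (f - b)) * (f - b)
            + (f - b) ^ 2) / (f - b) ^ 2 := by
      field_simp
    rw [this, div_eq_zero_iff]
    left
    grind
  have hea : e = a := by
    have h1 : (e - a) ^ 2 * b = 0 := by grind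
    have h2 : (e - a) ^ 2 = 0 := by
      rcases mul_eq_zero.mp h1 with h | h
      · exact h
      · exact absurd h hb
    have h3 : e - a = 0 := by simpa using h2
    exact sub_eq_zero.mp h3
  have hgc : g = c := by
    have h1 : b * (g - c) = 0 := by grind
    rcases mul_eq_zero.mp h1 with h | h
    · exact absurd h hb
    · exact sub_eq_zero.mp h
  refine ⟨hea, hfb, hgc, ?_⟩
  grind

section Easy

variable {F : Type u} [Field F] [Fintype F]

/-- **E4**.  char 2, no primitive cube root of unity in `F`, three matrices of trace `1` with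
`k c` again of trace `1`: then `c = k`. -/
theorem tr1_triple [CharP F 2] (hno : ∀ ω : F, ω ^ 2 + ω + 1 ≠ 0) (k c : SL2 F)
    (hk : Matrix.trace (k : Matrix (Fin 2) (Fin 2) F) = 1)
    (hc : Matrix.trace (c : Matrix (Fin 2) (Fin 2) F) = 1)
    (hkc : Matrix.trace ((k * c : SL2 F) : Matrix (Fin 2) (Fin 2) F) = 1) : c = k := by
  have hdk := k.2
  have hdc := c.2
  rw [Matrix.det_fin_two] at hdk hdc
  rw [Matrix.trace_fin_two] at hk hc hkc
  rw [Matrix.SpecialLinearGroup.coe_mul, Matrix.mul_apply, Matrix.mul_apply, Fin.sum_univ_two,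
    Fin.sum_univ_two] at hkc
  obtain ⟨h1, h2, h3, h4⟩ := bp2e4_field hno _ _ _ _ _ _ _ _ hk hdk hc hdc
    (by linear_combination hkc)
  ext i j
  fin_cases i <;> fin_cases j
  · exact h1
  · exact h2
  · exact h3
  · exact h4

end Easy

end Cfsg.Agent.Lib.Helper28.BP2
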