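import Mathlib
import Cfsg.Prelude.Def_CaseTheorems
import Cfsg.Agent.Lib.helper7.BR.Defs
import Cfsg.Agent.Lib.Helper18.BRF.Defs
import Cfsg.Agent.Lib.Helper16.BRSET2
import Cfsg.Agent.Lib.Helper1.BRSET3
import Cfsg.Agent.Lib.helper2.CharNat

/-!
# Project BRF (S4700), piece CEN : the core (MIDNEG, TOPNEG, VKER, KERP, CENP as hypotheses)

`O_{p'}(G) = 1` and `¬ FF p n` force `C_G(P) = P`.
-/

set_option autoImplicit false
set_option linter.unusedVariables false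
set_option linter.unusedSectionVars false

namespace Cfsg.Agent.Lib.Helper18.BRF

open Classical
open Cfsg.Agent.Lib.Helper25
open Cfsg.Agent.Lib.helper7.BR

universe u

section main

variable {G : Type u} [Group G] [Fintype G] {p : ℕ} [Fact p.Prime]

/-- `x y` is `p`-singular for `1 ≠ x ∈ P` (`|P| = p`) and `y ∈ C_G(P)` `p`-regular -/
theorem brfcen_sing (P : Sylow p G) (hP : Nat.card ↥(P : Subgroup G) = p) (x : G)
    (hx : x ∈ (P : Subgroup G)) (hx1 : x ≠ 1) (y : G) (hy : y ∈ cen P) (hyreg : ¬ p ∣ orderOf y) :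
    p ∣ orderOf (x * y) := by
  have hp : p.Prime := Fact.out
  have hox : orderOf x = p := by
    have h1 : orderOf (⟨x, hx⟩ : ↥(P : Subgroup G)) ∣ p := by
      have h0 := orderOf_dvd_natCard (⟨x, hx⟩ : ↥(P : Subgroup G))
      rwa [hP] at h0
    have h2 : orderOf (⟨x, hx⟩ : ↥(P : Subgroup G)) = orderOf x := by
      rw [← Subgroup.orderOf_coe]
    rw [h2] at h1
    rcases (Nat.dvd_prime hp).mp h1 with h | h
    · exact absurd (orderOf_eq_one_iff.mp h) hx1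
    · exact h
  have hcomm : Commute x y := by
    have := (Subgroup.mem_centralizer_iff.mp hy) x hx
    exact this
  have hcop : Nat.Coprime (orderOf x) (orderOf y) := by
    rw [hox]
    exact (Nat.Prime.coprime_iff_not_dvd hp).mpr hyreg
  rw [hcomm.orderOf_mul_eq_mul_orderOf_of_coprime hcop, hox]
  exact Dvd.intro _ rfl

/-- CEN, with the lower statements as hypotheses -/
theorem brfcen_core (hperf : commutator G = ⊤) (hcore : Cfsg.pPrimeCore p G = ⊥) (P : Sylow p G)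
    (hP : Nat.card ↥(P : Subgroup G) = p) (hPn : ¬ (P : Subgroup G).Normal) (n : ℕ)
    (hidx : (nrm P).index = 1 + n * p) (hF : ¬ FF p n)
    (hMID : ∀ q n : ℕ, (cen P).relIndex (nrm P) = q → 2 ≤ q → q + 1 < p → q ∣ p - 1 →
      (cen P).index = q * (1 + n * p) → 1 ≤ n → ¬ FF p n →
      ∃ χ : Cfsg.IrrCharacter G, (χ : G → ℂ) 1 = (p : ℂ) - 1 ∧
        ∀ g : G, p ∣ orderOf g → (χ : G → ℂ) g = -1)
    (hTOP : ∀ n : ℕ, (cen P).relIndex (nrm P) = p - 1 →
      (cen P).index = (p - 1) * (1 + n * p) → 1 ≤ n → ¬ FF p n →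
      ∃ χ : Cfsg.IrrCharacter G, (χ : G → ℂ) 1 = (p : ℂ) - 1 ∧
        ∀ x ∈ (P : Subgroup G), x ≠ 1 → ∀ y ∈ cen P, ¬ p ∣ orderOf y → (χ : G → ℂ) (x * y) = -1)
    (hVKER : ∀ χ : G → ℂ, Cfsg.IsCharacter G χ → χ 1 = (p : ℂ) - 1 →
      (∀ x ∈ (P : Subgroup G), x ≠ 1 → ∀ y ∈ cen P, ¬ p ∣ orderOf y → χ (x * y) = -1) →
      ∀ y : G, y ∈ cen P → ¬ p ∣ orderOf y → χ y = χ 1)
    (hKERP : ∀ χ : Cfsg.IrrCharacter G,
      (∀ x ∈ (P : Subgroup G), x ≠ 1 → (χ : G → ℂ) x ≠ (χ : G → ℂ) 1) →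
      ∀ g : G, (χ : G → ℂ) g = (χ : G → ℂ) 1 → g = 1)
    (hCENP : (∀ y ∈ cen P, ¬ p ∣ orderOf y → y = 1) → cen P = (P : Subgroup G)) :
    cen P = (P : Subgroup G) := by
  have hp : p.Prime := Fact.out
  obtain ⟨q, w, n', hqdvd, hq1, hw1, hn'1, hrel, hcC, hcN, hidx', hcidx, hcG⟩ :=
    order_formula P hP hPn
  -- `n' = n`
  have hnn : n' = n := by
    rw [hidx] at hidx'
    have h1 : n * p = n' * p := Nat.add_left_cancel hidx'
    exact (Nat.eq_of_mul_eq_mul_right hp.pos h1).symm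
  subst hnn
  -- `q ≥ 2`
  have hq2 : 2 ≤ q := by
    have hne : q ≠ 1 := by
      rw [← hrel]
      exact Cfsg.Agent.Lib.helper7.BR.relIndex_ne_one hperf P hP
    omega
  have hp1 : 1 ≤ p - 1 := by
    have := hp.two_le
    omega
  have hqle : q ≤ p - 1 := Nat.le_of_dvd hp1 hqdvd
  -- the character
  have hχ : ∃ χ : Cfsg.IrrCharacter G, (χ : G → ℂ) 1 = (p : ℂ) - 1 ∧
      ∀ x ∈ (P : Subgroup G), x ≠ 1 → ∀ y ∈ cen P, ¬ p ∣ orderOf y →
        (χ : G → ℂ) (x * y) = -1 := by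
    by_cases hqtop : q = p - 1
    · subst hqtop
      exact hTOP n' hrel hcidx hn'1 hF
    · have hqlt : q + 1 < p := by omega
      obtain ⟨χ, hdeg, hval⟩ := hMID q n' hrel hq2 hqlt hqdvd hcidx hn'1 hF
      exact ⟨χ, hdeg, fun x hx hx1 y hy hyreg => hval _ (brfcen_sing P hP x hx hx1 y hy hyreg)⟩
  obtain ⟨χ, hdeg, hval⟩ := hχ
  have hpC : (p : ℂ) ≠ 0 := by exact_mod_cast hp.ne_zero
  -- `χ` is non-trivial on `P ∖ 1`
  have hne : ∀ x ∈ (P : Subgroup G), x ≠ 1 → (χ : G → ℂ) x ≠ (χ : G → ℂ) 1 := by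
    intro x hx hx1 heq
    have h1 : ¬ p ∣ orderOf (1 : G) := by
      rw [orderOf_one]
      exact hp.one_lt.ne' ∘ Nat.dvd_one.mp
    have h2 := hval x hx hx1 1 (Subgroup.one_mem _) h1
    rw [mul_one, heq, hdeg] at h2
    apply hpC
    linear_combination h2
  -- the `p`-regular elements of `C_G(P)` are trivial
  have hreg : ∀ y ∈ cen P, ¬ p ∣ orderOf y → y = 1 := by
    intro y hy hyreg
    have h1 := hVKER (χ : G → ℂ) (Cfsg.Agent.Lib.helper2.isCharacter_of_irr χ) hdeg hval y hy hyreg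
    exact hKERP χ hne y h1
  exact hCENP hreg

end main

end Cfsg.Agent.Lib.Helper18.BRF
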