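import Mathlib
import Cfsg.Prelude.Def_CaseTheorems
import Cfsg.Agent.Lib.helper7.BR.Defs
import Cfsg.Agent.Lib.Helper18.BRF.Defs
import Cfsg.Agent.Lib.Helper16.BRFCENcore
import Cfsg.Agent.Lib.Helper24.BRFMID
import Cfsg.Agent.Lib.Helper18.BRFTOPNEGcore
import Cfsg.Agent.Lib.Helper19.BRFA1F
import Cfsg.Agent.Lib.Helper22.BRFVKER
import Cfsg.Agent.Lib.Helper22.BRFKERP
import Cfsg.Agent.Lib.Helper29.BRFFCRIT

/-!
# Project BRF (S4700), piece CEN : `cen_eq` (verbatim)

`O_{p'}(G) = 1` and `¬ FF p n` force `C_G(P) = P`.  (`brfcen_core` applied to the landed MIDNEG, VKER, KERP, CENP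
and to `brftopneg_core` with A1F, A2F at `q = p - 1`, `t = 1`.)
-/

set_option autoImplicit false
set_option linter.unusedVariables false
set_option linter.unusedSectionVars false

namespace Cfsg.Agent.Lib.Helper18.BRF

open Classical
open Cfsg.Agent.Lib.Helper25
open Cfsg.Agent.Lib.helper7.BR

universe u

section main

variable {G : Type u} [Group G] [Fintype G] {p : ℕ} [Fact p.Prime]

/-- CEN : `O_{p'}(G) = 1` and `¬ FF p n` force `C_G(P) = P`.
(`order_formula`; MIDNEG or TOPNEG gives `χ`; VKER, KERP, CENP.) -/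
theorem cen_eq (hperf : commutator G = ⊤) (hcore : Cfsg.pPrimeCore p G = ⊥) (P : Sylow p G)
    (hP : Nat.card ↥(P : Subgroup G) = p) (hPn : ¬ (P : Subgroup G).Normal) (n : ℕ)
    (hidx : (nrm P).index = 1 + n * p) (hF : ¬ FF p n) : cen P = (P : Subgroup G) := by
  have hp : p.Prime := Fact.out
  have hp1 : 1 ≤ p - 1 := by
    have := hp.two_le
    omega
  exact brfcen_core hperf hcore P hP hPn n hidx hF
    (fun q n hrel hq2 hqlt hqdvd hcidx hn hF => mid_neg hperf P hP q n hrel hq2 hqlt hqdvd hcidx hn hF)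
    (fun n hrel hcidx hn hF => brftopneg_core hperf P hP n hrel hcidx hn
      (fun e hd h1 h2 => af_plus p (p - 1) 1 n e hp (Nat.mul_one _) hp1 hn hF hd h1 h2)
      (fun e hd h1 => (af_minus p (p - 1) 1 n e hp (Nat.mul_one _) hp1 hn hF hd h1).imp id
        (fun h => h.2)))
    (fun χ hχ hdeg hval y hy hyreg => val_cen_reg P hP χ hχ hdeg hval y hy hyreg)
    (fun χ hne g hg => ker_trivial hcore P χ hne g hg)
    (fun h => cen_eq_of_reg_trivial P hP h)

end main

end Cfsg.Agent.Lib.Helper18.BRF
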