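import Mathlib
import Cfsg.Prelude.Def_Solvable
import Cfsg.Agent.S0586
import Cfsg.Agent.Lib.Helper1.Cores
import Cfsg.Agent.Lib.Helper1.Fitting

/-!
# BSQ row E4 (`pPrimeCore_two_eq_bot`): no minimal normal subgroup of odd order forces `O_{2'}(G) = 1`.
-/

set_option autoImplicit false

namespace Cfsg.Agent.Lib.Helper21.BSQ

universe u

variable {G : Type u} [Group G]

theorem pPrimeCore_two_eq_bot [Finite G]
    (hmin : ∀ N : Subgroup G, N.Normal → N ≠ ⊥ →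
      (∀ K : Subgroup G, K.Normal → K ≤ N → K = ⊥ ∨ K = N) → ¬ Odd (Nat.card ↥N)) :
    Cfsg.pPrimeCore 2 G = ⊥ := by
  by_contra hne
  have hn : (Cfsg.pPrimeCore 2 G).Normal := Cfsg.Agent.Lib.Helper1.pPrimeCore_normal 2
  obtain ⟨N, hNn, hNb, hND, hNmin⟩ :=
    Cfsg.Agent.S0586.exists_min_normal_le (Cfsg.pPrimeCore 2 G) hn hne
  apply hmin N hNn hNb hNmin
  have hcop : (Nat.card ↥(Cfsg.pPrimeCore 2 G)).Coprime 2 :=
    Cfsg.Agent.Lib.Helper1.pPrimeCore_card_coprime 2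
  have hdvd : Nat.card ↥N ∣ Nat.card ↥(Cfsg.pPrimeCore 2 G) := Subgroup.card_dvd_of_le hND
  have hc : (Nat.card ↥N).Coprime 2 := Nat.Coprime.coprime_dvd_left hdvd hcop
  exact Nat.Coprime.odd_of_right hc

end Cfsg.Agent.Lib.Helper21.BSQ
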