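import Mathlib
import Cfsg.Agent.Lib.Helper21.BSQ.Defs
import Cfsg.Agent.S3909

/-!
# BSQ row S1 (`order_p_mem`): in a B*-group, a normal subgroup of prime order `p` contains every element of order `p`.
-/

set_option autoImplicit false

namespace Cfsg.Agent.Lib.Helper21.BSQ

universe u

variable {G : Type u} [Group G]

theorem order_p_mem [Finite G] (hB : IsBStar G) (p : ℕ) [Fact p.Prime] (N : Subgroup G)
    [N.Normal] (hN : Nat.card ↥N = p) (x : G) (hx : orderOf x = p) : x ∈ N := by
  have h := (Cfsg.Agent.S3909.result (G := G) hB N).1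
  have hdvd : p ∣ Nat.card ↥N := by rw [hN]
  obtain ⟨m, hm⟩ := exists_prime_orderOf_dvd_card' (G := ↥N) p hdvd
  refine h x ⟨(m : G), m.2, ?_⟩
  rw [hx, Subgroup.orderOf_coe, hm]

end Cfsg.Agent.Lib.Helper21.BSQ
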