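import Mathlib
import Cfsg.Agent.Lib.helper3.BSZ.Defs
import Cfsg.Agent.Lib.helper3.SuzukiMultC
import Cfsg.Agent.Lib.helper3.SuzukiSubFinal
import Cfsg.Agent.Lib.helper3.SuzukiSolN
import Cfsg.Agent.Lib.Helper5.BSZA01
import Cfsg.Agent.Lib.Helper16.BSZA06
import Cfsg.Agent.Lib.Helper21.BSZF01
import Cfsg.Agent.Lib.Helper22.BSZF03

/-!
# BSZ row F05 (second copy, own names): the subfield subgroup `subStab m K'` is not binary.
-/

set_option autoImplicit false

namespace Cfsg.Agent.Lib.helper3.BSZ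

open Cfsg Cfsg.Agent.Lib.helper3
open scoped commutatorElement

variable {F : Type*} [Field F] [Fintype F] {m : ℕ}

/-- own copy of A12: the centre of a Sylow 2-subgroup is commutative. -/
theorem bszf05_h16_sylCen_comm {G : Type*} [Group G] {H : Subgroup G} (h : IsSylCen H) :
    ∀ x ∈ H, ∀ y ∈ H, x * y = y * x := by
  obtain ⟨P, rfl⟩ := h
  rintro _ ⟨x, hx, rfl⟩ _ ⟨y, hy, rfl⟩
  have := (Subgroup.mem_center_iff.1 hx) y
  have h2 := congrArg (fun z : (P : Subgroup G) => (z : G)) this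
  simp only [Subgroup.coe_mul] at h2
  simpa using h2.symm

/-- second copy of F05. -/
theorem bszf05_h16_S_case (hF : Fintype.card F = 2 ^ (2 * m + 1)) (hm : 1 ≤ m)
    (IH : ∀ (K : Type) [Field K] [Fintype K] (k : ℕ), Fintype.card K = 2 ^ (2 * k + 1) → 1 ≤ k → k < m →
      ∀ H' : Subgroup (Sz K k), H' ≠ ⊤ → BinH H' → (H' = ⊥ ∨ IsSylCen H'))
    (K' : Subfield F) (k : ℕ) (hk : 1 ≤ k) (hkm : k < m) (hK' : Nat.card K' = 2 ^ (2 * k + 1)) :
    ¬ BinH (subStab m K') := by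
  intro hB
  have h2 : (2 : F) = 0 := sz_two hF
  have hdouble : ∀ x : F, x + x = 0 := by
    intro x
    have : x + x = 2 * x := by ring
    rw [this, h2, zero_mul]
  have hneg : ∀ x : F, -x = x := fun x => neg_eq_of_add_eq_zero_left (hdouble x)
  obtain ⟨K, iK1, iK2, hKcard, _, ⟨e⟩⟩ := subStab_iso hF hm K' k hk hK'
  -- `β ∉ K'`
  obtain ⟨β, hβ⟩ : ∃ β : F, β ∉ K' := by
    by_contra hcon
    push Not at hcon
    have hc : Nat.card K' = Nat.card F :=
      Nat.card_congr (Equiv.ofBijective (fun x : K' => (x : F))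
        ⟨Subtype.val_injective, fun β => ⟨⟨β, hcon β⟩, rfl⟩⟩)
    rw [hK', Nat.card_eq_fintype_card, hF] at hc
    have := Nat.pow_right_injective (le_refl 2) hc
    omega
  set S : Subgroup (Sz F m) := subStab m K' with hS
  set g : Sz F m := gT hF 0 β with hg
  set M : Subgroup S := (S ⊓ cj S g).subgroupOf S with hM
  have hBM : BinH M := binary_stab S hB g
  set L : Subgroup (Sz K k) := M.map e.toMonoidHom with hL
  have hBL : BinH L := (binary_iso e M).1 hBM
  -- translations over `K'` lie in `S ⊓ cj S g`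
  have hT : ∀ a b : F, a ∈ K' → b ∈ K' → gT hF a b ∈ S ⊓ cj S g := by
    intro a b ha hb
    have h1 : gT hF a b ∈ S := subStab_gT hF K' ha hb
    refine Subgroup.mem_inf.2 ⟨h1, ?_⟩
    rw [bsza06_mem_cj]
    have : g⁻¹ * gT hF a b * g = gT hF a b := by
      rw [mul_assoc, hg, gT_central hF a b β, ← mul_assoc, inv_mul_cancel, one_mul]
    rw [this]
    exact h1
  obtain ⟨a, haK, ha0, ha1⟩ := subK_exists_ne K' hK' hk
  have hx₁ := hT 1 0 K'.one_mem K'.zero_mem
  have hx₂ := hT a 0 haK K'.zero_mem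
  -- they do not commute
  have hnc : gT hF 1 0 * gT hF a 0 ≠ gT hF a 0 * gT hF (1 : F) 0 := by
    intro hc
    have h3 : ⁅gT hF (1 : F) 0, gT hF a 0⁆ = 1 := by
      rw [commutatorElement_def, hc]
      group
    rw [gT_comm, szθ_one, one_mul, mul_one, ← gT_zero hF] at h3
    have h4 := (gT_injective hF h3).2
    have h5 : szθ m a = a := by
      have : szθ m a = -a := by linear_combination h4
      rw [this, hneg]
    rcases szθ_fixed hF h5 with h6 | h6
    · exact ha0 h6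
    · exact ha1 h6
  set y₁ : S := ⟨gT hF 1 0, hx₁.1⟩ with hy₁
  set y₂ : S := ⟨gT hF a 0, hx₂.1⟩ with hy₂
  have hy₁M : y₁ ∈ M := by
    rw [hM, Subgroup.mem_subgroupOf]
    exact hx₁
  have hy₂M : y₂ ∈ M := by
    rw [hM, Subgroup.mem_subgroupOf]
    exact hx₂
  have hey₁ : e y₁ ∈ L := ⟨y₁, hy₁M, rfl⟩
  have hey₂ : e y₂ ∈ L := ⟨y₂, hy₂M, rfl⟩
  have hency : e y₁ * e y₂ ≠ e y₂ * e y₁ := by
    intro hc
    rw [← map_mul, ← map_mul] at hc
    have := e.injective hc
    apply hnc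
    have h3 := congrArg (fun z : S => (z : Sz F m)) this
    simpa [hy₁, hy₂] using h3
  -- hence `L = ⊤`
  have hLtop : L = ⊤ := by
    by_contra hne
    rcases IH K k hKcard hk hkm L hne hBL with hbot | hsc
    · apply hency
      have h1 : e y₁ = 1 := by
        have := hey₁
        rw [hbot, Subgroup.mem_bot] at this
        exact this
      rw [h1, one_mul, mul_one]
    · exact hency (bszf05_h16_sylCen_comm hsc _ hey₁ _ hey₂)
  -- so `S ≤ cj S g`
  have hSle : ∀ s : Sz F m, s ∈ S → g⁻¹ * s * g ∈ S := by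
    intro s hs
    have h1 : e ⟨s, hs⟩ ∈ L := by rw [hLtop]; exact Subgroup.mem_top _
    obtain ⟨s', hs'M, hs'⟩ := Subgroup.mem_map.1 h1
    have h2 : s' = ⟨s, hs⟩ := e.injective hs'
    rw [h2, hM, Subgroup.mem_subgroupOf] at hs'M
    have := (Subgroup.mem_inf.1 hs'M).2
    rwa [bsza06_mem_cj] at this
  -- the torus element `gD κ`
  set l : Fˣ := Units.mk0 a ha0 with hl
  have hlK : ((l : Fˣ) : F) ∈ K' := haK
  have hl1 : l ≠ 1 := by
    intro h
    apply ha1
    have := congrArg (fun u : Fˣ => (u : F)) h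
    simpa [hl] using this
  have hDS : gD hF l ∈ S := subStab_gD hF K' hlK
  have h3 := hSle _ hDS
  have h4 : g⁻¹ * gD hF l * g * (gD hF l)⁻¹ ∈ S := S.mul_mem h3 (S.inv_mem hDS)
  set ν : F := (l : F) ^ 2 * szθ m (l : F) ^ 2 with hν
  have hνK : ν ∈ K' := K'.mul_mem (pow_mem hlK 2) (pow_mem (subK_szθ (m := m) K' hlK) 2)
  have hν1 : ν ≠ 1 := sz_nu_ne_one hF hl1
  have h5 : g⁻¹ * gD hF l * g * (gD hF l)⁻¹ = gT hF 0 (β + ν * β) := by
    have h6 : g⁻¹ = gT hF 0 β := by
      rw [hg, gT_inv, zero_mul, add_zero]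
    rw [mul_assoc, mul_assoc, ← mul_assoc (gD hF l), hg, gD_conj_gT_zero, ← hg, h6, gT_zero_mul]
  rw [h5] at h4
  have h7 : β + ν * β ∈ K' := subStab_gT_zero hF K' h4
  have h8 : 1 + ν ≠ 0 := by
    intro h
    apply hν1
    have : ν = -1 := by linear_combination h
    rw [this, hneg]
  apply hβ
  have h9 : β = (1 + ν)⁻¹ * (β + ν * β) := by
    field_simp
  rw [h9]
  exact K'.mul_mem (K'.inv_mem (K'.add_mem K'.one_mem hνK)) h7

end Cfsg.Agent.Lib.helper3.BSZ
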