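import Mathlib
import Cfsg.Agent.Lib.helper3.BSZ.Defs

/-!
# BSZ row W01: a multiplier `l` with `W ∩ l W = 0` for a small additive subgroup.
-/

set_option autoImplicit false

namespace Cfsg.Agent.Lib.helper3.BSZ

open Cfsg Cfsg.Agent.Lib.helper3

/-- W01 [M]. -/
theorem lemW_small_exists {F : Type*} [Field F] [Fintype F] (W : AddSubgroup F) (h0 : W ≠ ⊥)
    (hW : (Nat.card W) ^ 2 < Fintype.card F) :
    ∃ l : F, l ≠ 0 ∧ l ≠ 1 ∧ ∀ w ∈ W, l * w ∈ W → w = 0 := by
  classical
  set Wf : Finset F := Finset.univ.filter (fun x => x ∈ W) with hWf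
  have hmem : ∀ x, x ∈ Wf ↔ x ∈ W := by
    intro x
    rw [hWf, Finset.mem_filter]
    simp
  have hcardW : Wf.card = Nat.card W := by
    rw [Nat.card_eq_fintype_card, Fintype.card_subtype]
  set S : Finset F := Finset.image₂ (fun x y => x / y) Wf Wf with hS
  have hScard : S.card < Fintype.card F := by
    refine lt_of_le_of_lt (Finset.card_image₂_le _ _ _) ?_
    rw [hcardW, ← sq]
    exact hW
  obtain ⟨l, hl⟩ : ∃ l : F, l ∉ S := by
    by_contra hcon
    push Not at hcon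
    have : S = Finset.univ := Finset.eq_univ_iff_forall.2 hcon
    rw [this, Finset.card_univ] at hScard
    exact lt_irrefl _ hScard
  obtain ⟨w0, hw0W, hw00⟩ : ∃ w0 : F, w0 ∈ W ∧ w0 ≠ 0 := by
    by_contra hcon
    push Not at hcon
    apply h0
    rw [AddSubgroup.eq_bot_iff_forall]
    exact hcon
  refine ⟨l, ?_, ?_, ?_⟩
  · rintro rfl
    apply hl
    rw [hS, Finset.mem_image₂]
    exact ⟨0, (hmem 0).2 W.zero_mem, 0, (hmem 0).2 W.zero_mem, by simp⟩
  · rintro rfl
    apply hl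
    rw [hS, Finset.mem_image₂]
    exact ⟨w0, (hmem w0).2 hw0W, w0, (hmem w0).2 hw0W, div_self hw00⟩
  · intro w hw hlw
    by_contra hw0
    apply hl
    rw [hS, Finset.mem_image₂]
    exact ⟨l * w, (hmem _).2 hlw, w, (hmem w).2 hw, by field_simp⟩

end Cfsg.Agent.Lib.helper3.BSZ
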