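import Mathlib
import Cfsg.Agent.Lib.helper3.BSZ.Defs
import Cfsg.Agent.Lib.Helper16.BSZW01

/-!
# BSZ row W02: Lemma W for small additive subgroups.
-/

set_option autoImplicit false

namespace Cfsg.Agent.Lib.helper3.BSZ

open Cfsg Cfsg.Agent.Lib.helper3

/-- W02 [S-M] (cites W01). -/
theorem lemW_small {F : Type*} [Field F] [Fintype F] (h2 : (2 : F) = 0) (W : AddSubgroup F) (h0 : W ≠ ⊥)
    (hW : (Nat.card W) ^ 2 < Fintype.card F) :
    ∃ l μ : F, l ≠ 0 ∧ μ ≠ 0 ∧ ∃ w₁ ∈ W, ∃ w₂ ∈ W, l * w₁ + μ * w₂ ∈ W ∧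
      ∀ κ ∈ W, ∀ κ' ∈ W, (∃ w ∈ W, κ = μ * w) → (∃ w ∈ W, κ' = l * w) → l * w₁ + μ * w₂ ≠ κ + κ' := by
  obtain ⟨l, hl0, hl1, hl⟩ := lemW_small_exists W h0 hW
  obtain ⟨t, htW, ht0⟩ : ∃ t : F, t ∈ W ∧ t ≠ 0 := by
    by_contra hcon
    push Not at hcon
    apply h0
    rw [AddSubgroup.eq_bot_iff_forall]
    exact hcon
  have hneg : ∀ x : F, -x = x := by
    intro x
    have : x + x = 0 := by
      have : x + x = 2 * x := by ring
      rw [this, h2, zero_mul]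
    exact neg_eq_of_add_eq_zero_left this
  have hsum : l * t + (1 + l) * t = t := by
    have : l * t + (1 + l) * t = t + 2 * (l * t) := by ring
    rw [this, h2, zero_mul, add_zero]
  refine ⟨l, 1 + l, hl0, ?_, t, htW, t, htW, ?_, ?_⟩
  · intro h
    apply hl1
    have : l = -1 := by linear_combination h
    rw [this, hneg]
  · rw [hsum]
    exact htW
  · rintro κ hκ κ' hκ' ⟨w, hw, rfl⟩ ⟨w', hw', rfl⟩ heq
    rw [hsum] at heq
    -- `l * w ∈ W`
    have h1 : l * w ∈ W := by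
      have : l * w = (1 + l) * w - w := by ring
      rw [this]
      exact W.sub_mem hκ hw
    have hw0 : w = 0 := hl w hw h1
    have hw0' : w' = 0 := hl w' hw' hκ'
    apply ht0
    rw [heq, hw0, hw0']
    ring

end Cfsg.Agent.Lib.helper3.BSZ
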