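import Mathlib
import Cfsg.Agent.Lib.helper3.BSZ.Defs

/-!
# BSZ row W05: double counting of the intersections `W ⊓ l W`.
-/

set_option autoImplicit false

namespace Cfsg.Agent.Lib.helper3.BSZ

open Cfsg Cfsg.Agent.Lib.helper3

/-- membership in `sc l W`. -/
theorem bszw05_mem_sc {F : Type*} [Field F] (l : F) (W : AddSubgroup F) (x : F) :
    x ∈ sc l W ↔ ∃ w ∈ W, l * w = x := by
  unfold sc
  rw [AddSubgroup.mem_map]
  rfl

/-- the number of nonzero elements of an additive subgroup. -/
theorem bszw05_card_ne_zero {F : Type*} [Field F] [Fintype F] [DecidableEq F] (K : AddSubgroup F)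
    [DecidablePred (· ∈ K)] :
    (Finset.univ.filter (fun x : F => x ∈ K ∧ x ≠ 0)).card = Nat.card K - 1 := by
  have h1 : Finset.univ.filter (fun x : F => x ∈ K ∧ x ≠ 0) =
      (Finset.univ.filter (fun x : F => x ∈ K)).erase 0 := by
    ext x
    simp only [Finset.mem_filter, Finset.mem_univ, true_and, Finset.mem_erase]
    tauto
  rw [h1, Finset.card_erase_of_mem (by simp [K.zero_mem]), Nat.card_eq_fintype_card,
    Fintype.card_subtype]

/-- W05 [M]: double counting. -/
theorem sum_card_inter {F : Type*} [Field F] [Fintype F] (W : AddSubgroup F) :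
    ∑ l : F, (Nat.card ↥(W ⊓ sc l W) - 1) = (Nat.card W - 1) ^ 2 := by
  classical
  set Wf : Finset F := Finset.univ.filter (fun x : F => x ∈ W ∧ x ≠ 0) with hWf
  have hWfc : Wf.card = Nat.card W - 1 := bszw05_card_ne_zero W
  have hmemWf : ∀ x, x ∈ Wf ↔ x ∈ W ∧ x ≠ 0 := by
    intro x
    rw [hWf, Finset.mem_filter]
    simp
  -- each term as a filter of `Wf`
  have hterm : ∀ l : F, Nat.card ↥(W ⊓ sc l W) - 1 = (Wf.filter (fun x => x ∈ sc l W)).card := by
    intro l
    rw [← bszw05_card_ne_zero (W ⊓ sc l W)]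
    congr 1
    ext x
    simp only [Finset.mem_filter, Finset.mem_univ, true_and, AddSubgroup.mem_inf, hmemWf]
    tauto
  simp_rw [hterm, Finset.card_filter]
  rw [Finset.sum_comm]
  have hinner : ∀ x ∈ Wf, (∑ l : F, if x ∈ sc l W then 1 else 0) = Wf.card := by
    intro x hx
    obtain ⟨hxW, hx0⟩ := (hmemWf x).1 hx
    rw [← Finset.card_filter]
    symm
    apply Finset.card_bij (fun w _ => x / w)
    · intro w hw
      obtain ⟨hwW, hw0⟩ := (hmemWf w).1 hw
      simp only [Finset.mem_filter, Finset.mem_univ, true_and]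
      rw [bszw05_mem_sc]
      exact ⟨w, hwW, by field_simp⟩
    · intro w hw w' hw' h
      obtain ⟨_, hw0⟩ := (hmemWf w).1 hw
      obtain ⟨_, hw0'⟩ := (hmemWf w').1 hw'
      field_simp at h
      exact h.symm
    · intro l hl
      simp only [Finset.mem_filter, Finset.mem_univ, true_and] at hl
      rw [bszw05_mem_sc] at hl
      obtain ⟨w, hwW, hlw⟩ := hl
      have hw0 : w ≠ 0 := by
        rintro rfl
        rw [mul_zero] at hlw
        exact hx0 hlw.symm
      refine ⟨w, (hmemWf w).2 ⟨hwW, hw0⟩, ?_⟩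
      rw [← hlw]
      field_simp
  rw [Finset.sum_congr rfl hinner, Finset.sum_const, smul_eq_mul, hWfc, sq]

end Cfsg.Agent.Lib.helper3.BSZ
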