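import Mathlib
import Cfsg.Agent.Lib.helper3.BSZ.Defs
import Cfsg.Agent.Lib.Helper16.BSZW05

/-!
# BSZ row W06: a large additive subgroup `W` of a finite field has `W + b W = F` for some `b ≠ 0`.
-/

set_option autoImplicit false

namespace Cfsg.Agent.Lib.helper3.BSZ

open Cfsg Cfsg.Agent.Lib.helper3

/-- own copy of the product formula (row W03). -/
theorem bszw06_card_sup_mul_card_inf {A : Type*} [AddCommGroup A] [Finite A] (W W' : AddSubgroup A) :
    Nat.card ↥(W ⊔ W') * Nat.card ↥(W ⊓ W') = Nat.card W * Nat.card W' := by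
  have key : ∀ (H K : AddSubgroup A), H ≤ K → Nat.card H * H.relIndex K = Nat.card K := by
    intro H K hHK
    rw [← AddSubgroup.relIndex_bot_left, ← AddSubgroup.relIndex_bot_left (H := K)]
    exact AddSubgroup.relIndex_mul_relIndex ⊥ H K bot_le hHK
  have h1 : Nat.card ↥(W ⊔ W') = Nat.card W' * W'.relIndex W := by
    rw [← key W' (W ⊔ W') le_sup_right, AddSubgroup.relIndex_sup_right]
  have h2 : Nat.card W = Nat.card ↥(W ⊓ W') * W'.relIndex W := by
    rw [← key (W ⊓ W') W inf_le_left, inf_comm, AddSubgroup.inf_relIndex_right]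
  rw [h1, h2]
  ring

/-- own copy of row W04. -/
theorem bszw06_card_sc {F : Type*} [Field F] (W : AddSubgroup F) {l : F} (hl : l ≠ 0) :
    Nat.card (sc l W) = Nat.card W := by
  have hinj : Function.Injective (AddMonoidHom.mulLeft l) := by
    intro x y h
    exact mul_left_cancel₀ hl h
  exact (Nat.card_congr (W.equivMapOfInjective _ hinj).toEquiv).symm

/-- W06 [M]. -/
theorem lemW_large_exists {F : Type*} [Field F] [Fintype F] (W : AddSubgroup F)
    (hW : Fintype.card F < (Nat.card W) ^ 2) : ∃ b : F, b ≠ 0 ∧ W ⊔ sc b W = ⊤ := by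
  classical
  by_contra hcon
  push Not at hcon
  set q := Fintype.card F with hq
  set N := Nat.card W with hN
  have hq2 : 2 ≤ q := Fintype.one_lt_card
  have hN2 : 2 ≤ N := by
    by_contra h
    have : N ≤ 1 := by omega
    have : N ^ 2 ≤ 1 := by nlinarith
    omega
  -- the two families of cardinalities
  set i : F → ℕ := fun b => Nat.card ↥(W ⊓ sc b W) with hi
  have hipos : ∀ b, 1 ≤ i b := fun b => Nat.card_pos
  have hi0 : i 0 = 1 := by
    have : sc (0 : F) W = ⊥ := by
      rw [AddSubgroup.eq_bot_iff_forall]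
      intro x hx
      rw [bszw05_mem_sc] at hx
      obtain ⟨w, _, hw⟩ := hx
      rw [← hw, zero_mul]
    rw [hi]
    simp only
    rw [this, inf_bot_eq, AddSubgroup.card_bot]
  have hle : ∀ b : F, b ≠ 0 → 2 * N ^ 2 ≤ q * i b := by
    intro b hb
    have h1 := bszw06_card_sup_mul_card_inf W (sc b W)
    rw [bszw06_card_sc W hb] at h1
    have hdvd : Nat.card ↥(W ⊔ sc b W) ∣ q := by
      rw [hq, ← Nat.card_eq_fintype_card]
      exact AddSubgroup.card_addSubgroup_dvd_card _
    have hne : Nat.card ↥(W ⊔ sc b W) ≠ q := by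
      intro h
      apply hcon b hb
      rw [← AddSubgroup.card_eq_iff_eq_top, h, hq, Nat.card_eq_fintype_card]
    have hpos : 1 ≤ Nat.card ↥(W ⊔ sc b W) := Nat.card_pos
    have h2s : 2 * Nat.card ↥(W ⊔ sc b W) ≤ q := by
      obtain ⟨k, hk⟩ := hdvd
      have hk2 : 2 ≤ k := by
        by_contra h
        have : k = 0 ∨ k = 1 := by omega
        rcases this with rfl | rfl
        · omega
        · apply hne
          rw [hk, mul_one]
      calc 2 * Nat.card ↥(W ⊔ sc b W) = Nat.card ↥(W ⊔ sc b W) * 2 := by ring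
        _ ≤ Nat.card ↥(W ⊔ sc b W) * k := Nat.mul_le_mul_left _ hk2
        _ = q := hk.symm
    calc 2 * N ^ 2 = 2 * (Nat.card ↥(W ⊔ sc b W) * i b) := by rw [hi]; simp only; rw [h1]; ring
      _ = (2 * Nat.card ↥(W ⊔ sc b W)) * i b := by ring
      _ ≤ q * i b := Nat.mul_le_mul_right _ h2s
  -- the sums over `b ≠ 0`
  have hW05 := sum_card_inter W
  have hsum1 : ∑ b ∈ Finset.univ.erase (0 : F), (i b - 1) = (N - 1) ^ 2 := by
    rw [← hW05, ← Finset.add_sum_erase Finset.univ _ (Finset.mem_univ (0 : F))]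
    have : Nat.card ↥(W ⊓ sc (0 : F) W) - 1 = 0 := by
      have := hi0
      rw [hi] at this
      simp only at this
      rw [this]
    rw [this, zero_add]
  have hcard : (Finset.univ.erase (0 : F)).card = q - 1 := by
    rw [Finset.card_erase_of_mem (Finset.mem_univ _), Finset.card_univ]
  have hsum2 : ∑ b ∈ Finset.univ.erase (0 : F), i b = (N - 1) ^ 2 + (q - 1) := by
    rw [← hsum1, ← hcard, Finset.card_eq_sum_ones, ← Finset.sum_add_distrib]
    refine Finset.sum_congr rfl fun b _ => ?_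
    have := hipos b
    omega
  have hmain : (q - 1) * (2 * N ^ 2) ≤ q * ((N - 1) ^ 2 + (q - 1)) := by
    rw [← hsum2, Finset.mul_sum, ← hcard, ← smul_eq_mul, ← Finset.sum_const]
    refine Finset.sum_le_sum fun b hb => ?_
    exact hle b (Finset.ne_of_mem_erase hb)
  -- arithmetic contradiction
  obtain ⟨Q, hQ⟩ : ∃ Q, q = Q + 2 := ⟨q - 2, by omega⟩
  obtain ⟨M, hM⟩ : ∃ M, N = M + 2 := ⟨N - 2, by omega⟩
  rw [hQ, hM] at hmain
  have hW' : Q + 2 < (M + 2) ^ 2 := by rw [← hQ, ← hM]; exact hW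
  have e1 : Q + 2 - 1 = Q + 1 := by omega
  have e2 : M + 2 - 1 = M + 1 := by omega
  rw [e1, e2] at hmain
  have hW'' : Q + 3 ≤ (M + 2) ^ 2 := hW'
  nlinarith [Nat.mul_le_mul_right Q hW'', Nat.zero_le (Q * M), Nat.zero_le Q, Nat.zero_le M]

end Cfsg.Agent.Lib.helper3.BSZ
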