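import Mathlib
import Cfsg.Agent.Lib.helper3.BSZ.Defs
import Cfsg.Agent.Lib.Helper16.BSZW06

/-!
# BSZ row W07: Lemma W for large additive subgroups.
-/

set_option autoImplicit false

namespace Cfsg.Agent.Lib.helper3.BSZ

open Cfsg Cfsg.Agent.Lib.helper3

/-- multiplication by `c ≠ 0` preserving a finite additive subgroup is onto it. -/
theorem bszw07_inv_mem {F : Type*} [Field F] [Fintype F] (W : AddSubgroup F) (c : F) (hc : c ≠ 0)
    (h : ∀ w ∈ W, c * w ∈ W) : ∀ w ∈ W, c⁻¹ * w ∈ W := by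
  classical
  set f : W → W := fun w => ⟨c * (w : F), h w w.2⟩ with hf
  have hinj : Function.Injective f := by
    intro x y hxy
    have := congrArg Subtype.val hxy
    simp only [hf] at this
    exact Subtype.ext (mul_left_cancel₀ hc this)
  have hsurj : Function.Surjective f := Finite.injective_iff_surjective.mp hinj
  intro w hw
  obtain ⟨w', hw'⟩ := hsurj ⟨w, hw⟩
  have := congrArg Subtype.val hw'
  simp only [hf] at this
  rw [← this, ← mul_assoc, inv_mul_cancel₀ hc, one_mul]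
  exact w'.2

/-- W07 [M-L] (cites W06). -/
theorem lemW_large {F : Type*} [Field F] [Fintype F] (h2 : (2 : F) = 0) (W : AddSubgroup F) (h1 : W ≠ ⊤)
    (hW : Fintype.card F < (Nat.card W) ^ 2) :
    ∃ l μ : F, l ≠ 0 ∧ μ ≠ 0 ∧ ∃ w₁ ∈ W, ∃ w₂ ∈ W, l * w₁ + μ * w₂ ∈ W ∧
      ∀ κ ∈ W, ∀ κ' ∈ W, (∃ w ∈ W, κ = μ * w) → (∃ w ∈ W, κ' = l * w) → l * w₁ + μ * w₂ ≠ κ + κ' := by
  obtain ⟨b, hb0, hb⟩ := lemW_large_exists W hW
  have hdouble : ∀ x : F, x + x = 0 := by
    intro x
    have : x + x = 2 * x := by ring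
    rw [this, h2, zero_mul]
  have hb1 : b ≠ 1 := by
    rintro rfl
    apply h1
    rw [← hb]
    have : sc (1 : F) W = W := by
      ext x
      rw [bszw05_mem_sc]
      constructor
      · rintro ⟨w, hw, rfl⟩
        rwa [one_mul]
      · intro hx
        exact ⟨x, hx, one_mul x⟩
    rw [this, sup_idem]
  have h1b : 1 + b ≠ 0 := by
    intro h
    apply hb1
    have h3 : b = -1 := by linear_combination h
    have h4 : (-1 : F) = 1 := neg_eq_of_add_eq_zero_left (hdouble 1)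
    rw [h3, h4]
  set a : F := b / (1 + b) with ha
  have ha0 : a ≠ 0 := div_ne_zero hb0 h1b
  have h1a : 1 + a = (1 + b)⁻¹ := by
    rw [ha]
    field_simp
    linear_combination hdouble b
  have h1a0 : 1 + a ≠ 0 := by
    rw [h1a]
    exact inv_ne_zero h1b
  have hba : b = a * (1 + a)⁻¹ := by
    rw [h1a, inv_inv, ha]
    field_simp
  have hinv : a⁻¹ + b⁻¹ = 1 := by
    rw [ha]
    field_simp
    linear_combination hdouble 1
  -- (i)
  have hinter : ∀ x : F, x ∈ sc a W → x ∈ sc b W → x ∈ W := by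
    intro x hxa hxb
    rw [bszw05_mem_sc] at hxa hxb
    obtain ⟨w₁, hw₁, h₁⟩ := hxa
    obtain ⟨w₂, hw₂, h₂⟩ := hxb
    have : x = w₁ + w₂ := by
      have e1 : w₁ = a⁻¹ * x := by rw [← h₁]; field_simp
      have e2 : w₂ = b⁻¹ * x := by rw [← h₂]; field_simp
      rw [e1, e2, ← add_mul, hinv, one_mul]
    rw [this]
    exact W.add_mem hw₁ hw₂
  -- (ii)
  obtain ⟨t', ht'W, hat'⟩ : ∃ t' : F, t' ∈ W ∧ a * t' ∉ W := by
    by_contra hcon
    push Not at hcon
    apply h1
    rw [← hb]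
    have h1aW : ∀ w ∈ W, (1 + a) * w ∈ W := by
      intro w hw
      have : (1 + a) * w = w + a * w := by ring
      rw [this]
      exact W.add_mem hw (hcon w hw)
    have hinvW := bszw07_inv_mem W (1 + a) h1a0 h1aW
    have hle : sc b W ≤ W := by
      intro x hx
      rw [bszw05_mem_sc] at hx
      obtain ⟨w, hw, rfl⟩ := hx
      rw [hba, mul_assoc]
      exact hcon _ (hinvW w hw)
    exact (sup_eq_left.mpr hle).symm
  -- (iii)
  have ht : a * t' ∈ W ⊔ sc b W := by
    rw [hb]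
    exact AddSubgroup.mem_top _
  rw [AddSubgroup.mem_sup] at ht
  obtain ⟨w, hw, z, hz, hwz⟩ := ht
  rw [bszw05_mem_sc] at hz
  obtain ⟨w', hw', rfl⟩ := hz
  have hval : a⁻¹ * w + b / a * w' = t' := by
    have : a⁻¹ * w + b / a * w' = a⁻¹ * (w + b * w') := by
      field_simp
    rw [this, hwz, ← mul_assoc, inv_mul_cancel₀ ha0, one_mul]
  refine ⟨a⁻¹, b / a, inv_ne_zero ha0, div_ne_zero hb0 ha0, w, hw, w', hw', ?_, ?_⟩
  · rw [hval]
    exact ht'W
  · rintro κ hκ κ' hκ' ⟨w'', hw'', rfl⟩ ⟨w''', hw''', rfl⟩ heq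
    rw [hval] at heq
    apply hat'
    have e1 : a * (b / a * w'') = b * w'' := by field_simp
    have e2 : a * (a⁻¹ * w''') = w''' := by field_simp
    have h3 : a * (b / a * w'') ∈ W := by
      apply hinter
      · rw [bszw05_mem_sc]
        exact ⟨_, hκ, rfl⟩
      · rw [bszw05_mem_sc, e1]
        exact ⟨w'', hw'', rfl⟩
    have : a * t' = a * (b / a * w'') + a * (a⁻¹ * w''') := by
      rw [heq, mul_add]
    rw [this, e2]
    exact W.add_mem h3 hw'''

end Cfsg.Agent.Lib.helper3.BSZ
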