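import Mathlib
import Cfsg.Agent.Lib.helper3.BSZ.Defs
import Cfsg.Agent.Lib.Helper16.BSZW02
import Cfsg.Agent.Lib.Helper16.BSZW07

/-!
# BSZ row W08: Lemma W.
-/

set_option autoImplicit false

namespace Cfsg.Agent.Lib.helper3.BSZ

open Cfsg Cfsg.Agent.Lib.helper3

/-- W08 [S-M] (cites W02, W07). -/
theorem lemma_W {F : Type*} [Field F] [Fintype F] {m : ℕ} (hF : Fintype.card F = 2 ^ (2 * m + 1))
    (W : AddSubgroup F) (h0 : W ≠ ⊥) (h1 : W ≠ ⊤) :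
    ∃ l μ : F, l ≠ 0 ∧ μ ≠ 0 ∧ ∃ w₁ ∈ W, ∃ w₂ ∈ W, l * w₁ + μ * w₂ ∈ W ∧
      ∀ κ ∈ W, ∀ κ' ∈ W, (∃ w ∈ W, κ = μ * w) → (∃ w ∈ W, κ' = l * w) → l * w₁ + μ * w₂ ≠ κ + κ' := by
  have h2 : (2 : F) = 0 := sz_two hF
  have hdvd : Nat.card W ∣ 2 ^ (2 * m + 1) := by
    rw [← hF, ← Nat.card_eq_fintype_card]
    exact AddSubgroup.card_addSubgroup_dvd_card W
  obtain ⟨d, _, hd⟩ := (Nat.dvd_prime_pow Nat.prime_two).1 hdvd
  have hne : (Nat.card W) ^ 2 ≠ Fintype.card F := by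
    rw [hd, hF, ← pow_mul]
    intro h
    have := Nat.pow_right_injective (le_refl 2) h
    omega
  rcases lt_or_gt_of_ne hne with h | h
  · exact lemW_small h2 W h0 h
  · exact lemW_large h2 W h1 h

end Cfsg.Agent.Lib.helper3.BSZ
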