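import Mathlib
import Cfsg.Agent.Lib.helper3.BSZ.Defs
import Cfsg.Agent.Lib.helper6.BSZA04
import Cfsg.Agent.Lib.helper3.SuzukiMultC
import Cfsg.Agent.Lib.Helper16.BSZW08

/-!
# BSZ row W09 (second copy, own names): a proper nontrivial subgroup of `Z(P)` is not binary.
-/

set_option autoImplicit false

namespace Cfsg.Agent.Lib.helper3.BSZ

open Cfsg Cfsg.Agent.Lib.helper3

/-- conjugation of a central translation by the inverse of a torus element. -/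
theorem bszw09_h16_conj {F : Type*} [Field F] [Fintype F] {m : ℕ}
    (hF : Fintype.card F = 2 ^ (2 * m + 1)) (k : Fˣ) (c : F)
    (hc : (k : F) ^ 2 * szθ m (k : F) ^ 2 = c) (hc0 : c ≠ 0) (x : F) :
    (gD hF k)⁻¹ * gT hF 0 x * gD hF k = gT hF 0 (c⁻¹ * x) := by
  have h := gD_conj_gT_zero hF k (c⁻¹ * x)
  rw [hc, ← mul_assoc, mul_inv_cancel₀ hc0, one_mul] at h
  rw [← h]
  group

/-- second copy of W09. -/
theorem bszw09_h16_lemW_case {F : Type*} [Field F] [Fintype F] {m : ℕ}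
    (hF : Fintype.card F = 2 ^ (2 * m + 1)) (hm : 1 ≤ m)
    (H : Subgroup (Sz F m)) (hH : H ≤ Zs hF) (h0 : H ≠ ⊥) (h1 : H ≠ Zs hF) : ¬ BinH H := by
  intro hB
  have h2 : (2 : F) = 0 := sz_two hF
  have hdouble : ∀ x : F, x + x = 0 := by
    intro x
    have : x + x = 2 * x := by ring
    rw [this, h2, zero_mul]
  have hneg : ∀ x : F, -x = x := fun x => neg_eq_of_add_eq_zero_left (hdouble x)
  -- the additive subgroup `W`
  let W : AddSubgroup F :=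
    { carrier := {b | gT hF 0 b ∈ H}
      zero_mem' := by
        change gT hF 0 0 ∈ H
        rw [gT_zero]
        exact H.one_mem
      add_mem' := by
        intro b b' hb hb'
        change gT hF 0 (b + b') ∈ H
        rw [← gT_zero_mul]
        exact H.mul_mem hb hb'
      neg_mem' := by
        intro b hb
        change gT hF 0 (-b) ∈ H
        rw [hneg]
        exact hb }
  have hmemW : ∀ b : F, b ∈ W ↔ gT hF 0 b ∈ H := fun b => Iff.rfl
  have hW0 : W ≠ ⊥ := by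
    intro hbot
    apply h0
    rw [Subgroup.eq_bot_iff_forall]
    intro h hh
    obtain ⟨b, rfl⟩ := (mem_Zs hF).1 (hH hh)
    have hb : b ∈ W := (hmemW b).2 hh
    rw [hbot, AddSubgroup.mem_bot] at hb
    rw [hb, gT_zero]
  have hW1 : W ≠ ⊤ := by
    intro htop
    apply h1
    apply le_antisymm hH
    intro g hg
    obtain ⟨b, rfl⟩ := (mem_Zs hF).1 hg
    have : b ∈ W := by rw [htop]; exact AddSubgroup.mem_top _
    exact (hmemW b).1 this
  obtain ⟨l, μ, hl0, hμ0, w₁, hw₁, w₂, hw₂, htW, hno⟩ := lemma_W hF W hW0 hW1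
  obtain ⟨k₁, hk₁⟩ := exists_nu_eq hF (m := m) hl0
  obtain ⟨k₂, hk₂⟩ := exists_nu_eq hF (m := m) hμ0
  set t : F := l * w₁ + μ * w₂ with ht
  have hc1 : ∀ x : F, (gD hF k₁)⁻¹ * gT hF 0 x * gD hF k₁ = gT hF 0 (l⁻¹ * x) :=
    bszw09_h16_conj hF k₁ l hk₁ hl0
  have hc2 : ∀ x : F, (gD hF k₂)⁻¹ * gT hF 0 x * gD hF k₂ = gT hF 0 (μ⁻¹ * x) :=
    bszw09_h16_conj hF k₂ μ hk₂ hμ0
  obtain ⟨k, hkH, hk2, hk1⟩ := three_point H hB (gD hF k₁) (gD hF k₂) (gT hF 0 t)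
    (gT hF 0 (l * w₁)) (gT hF 0 (μ * w₂)) ((hmemW t).1 htW)
    (by
      rw [hc1, ← mul_assoc, inv_mul_cancel₀ hl0, one_mul]
      exact (hmemW w₁).1 hw₁)
    (by
      rw [hc2, ← mul_assoc, inv_mul_cancel₀ hμ0, one_mul]
      exact (hmemW w₂).1 hw₂)
    (by
      rw [gT_zero_mul, gT_zero_mul, ht, add_assoc, hdouble, gT_zero])
  obtain ⟨κ, rfl⟩ := (mem_Zs hF).1 (hH hkH)
  have hκW : κ ∈ W := (hmemW κ).2 hkH
  -- `κ = μ * w`
  rw [hc2] at hk2
  have hκ1 : ∃ w ∈ W, κ = μ * w :=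
    ⟨μ⁻¹ * κ, (hmemW _).2 hk2, by rw [← mul_assoc, mul_inv_cancel₀ hμ0, one_mul]⟩
  -- `κ' = κ + t = l * w`
  have hkinv : (gT hF 0 κ)⁻¹ * gT hF 0 t = gT hF 0 (κ + t) := by
    rw [gT_inv, zero_mul, add_zero, gT_zero_mul]
  rw [hkinv, hc1] at hk1
  have hκ'W : κ + t ∈ W := W.add_mem hκW htW
  have hκ2 : ∃ w ∈ W, κ + t = l * w :=
    ⟨l⁻¹ * (κ + t), (hmemW _).2 hk1, by rw [← mul_assoc, mul_inv_cancel₀ hl0, one_mul]⟩
  apply hno κ hκW (κ + t) hκ'W hκ1 hκ2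
  rw [← add_assoc, hdouble, zero_add]

end Cfsg.Agent.Lib.helper3.BSZ
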