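import Mathlib
import Cfsg.Agent.Lib.Helper13.BT.Defs
import Cfsg.Agent.Lib.helper7.BD.Char
import Cfsg.Agent.Lib.helper2.PModular2
import Cfsg.Agent.Lib.helper2.CharInt
import Cfsg.Agent.Lib.helper23.BRPERF

/-!
# Project BT, piece TOPBOT: `no_top_bot`

If `e = |N_G(P) : C_G(P)|` is `1` or `p - 1`, S4441 (`helper7.BD.s4441_main`) shows that all the members of the
principal block have degree `≡ ± 1 (mod p)`; the relation at `1` read modulo `q` gives a non-principal member of
degree prime to `q`, which divides `g₀ < p - 1`, hence is `1`: impossible in a perfect group.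
-/

set_option autoImplicit false
set_option linter.unusedVariables false
set_option linter.unusedSectionVars false
set_option linter.style.haveILetI false

namespace Cfsg.Agent.Lib.Helper13.BT

open Classical
open scoped ComplexConjugate
open Cfsg.Agent.Lib.Helper25 Cfsg.Agent.Lib.Helper29
open Cfsg.Agent.Lib.helper7.BR

universe u

/-- pure arithmetic: a degree `d ∣ p q^b g₀` prime to `q`, `≡ ± 1 (mod p)`, with `g₀ < p - 1`, is `1` -/
theorem bttopbot_arith (p q b g₀ d : ℕ) (hp : p.Prime) (hq : q.Prime)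
    (hcard0 : 0 < p * q ^ b * g₀) (hg : g₀ < p - 1) (hd : d ∣ p * q ^ b * g₀) (hqd : ¬ q ∣ d)
    (s : ℤ) (hs : s = 1 ∨ s = -1) (hmod : (d : ℤ) ≡ s [ZMOD p]) : d = 1 := by
  have hd0 : 0 < d := Nat.pos_of_dvd_of_pos hd hcard0
  have hg0 : 0 < g₀ := by
    rcases Nat.eq_zero_or_pos g₀ with h | h
    · rw [h, Nat.mul_zero] at hcard0
      exact absurd hcard0 (lt_irrefl 0)
    · exact h
  have hp2 : 2 ≤ p := hp.two_le
  have hdvd : (p : ℤ) ∣ s - d := Int.modEq_iff_dvd.mp hmod
  have hpd : ¬ p ∣ d := by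
    intro h
    have h1 : (p : ℤ) ∣ (d : ℤ) := Int.natCast_dvd_natCast.mpr h
    have h2 : (p : ℤ) ∣ s := by
      have := dvd_add hdvd h1
      rwa [sub_add_cancel] at this
    have h3 : (p : ℤ) ∣ 1 := by
      rcases hs with h | h
      · rwa [h] at h2
      · rw [h] at h2
        exact (dvd_neg.mp h2)
    have h4 := Int.eq_one_of_dvd_one (by positivity) h3
    omega
  have hc1 : Nat.Coprime d p := ((Nat.Prime.coprime_iff_not_dvd hp).2 hpd).symm
  have hc2 : Nat.Coprime d (q ^ b) :=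
    Nat.Coprime.pow_right b ((Nat.Prime.coprime_iff_not_dvd hq).2 hqd).symm
  have hc3 : Nat.Coprime d (p * q ^ b) := Nat.Coprime.mul_right hc1 hc2
  have hdg : d ∣ g₀ := hc3.dvd_of_dvd_mul_left hd
  have hle : d ≤ g₀ := Nat.le_of_dvd hg0 hdg
  rcases hs with h | h
  · rw [h] at hdvd
    have h0 := Int.eq_zero_of_abs_lt_dvd hdvd (by
      rw [abs_lt]
      constructor <;> omega)
    omega
  · rw [h] at hdvd
    have h0 := Int.eq_zero_of_abs_lt_dvd hdvd (by
      rw [abs_lt]
      constructor <;> omega)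
    omega

variable {G : Type u} [Group G] [Fintype G] {p : ℕ} [Fact p.Prime]

/-- TOPBOT : the cases `e = 1` and `e = p - 1` do not occur (S4441 / `helper7.BD.s4441_main`: all the members of
the principal block have degree `≡ ± 1 (mod p)`; the relation at `1` read modulo `q` gives a non-principal
member `ψ` of degree prime to `q`; `ψ(1) ∣ g₀ < p - 1`, so `ψ(1) = 1`, against `G` perfect) -/
theorem no_top_bot (hperf : commutator G = ⊤) (hodd : p ≠ 2) (P : Sylow p G)
    (hP : Nat.card ↥(P : Subgroup G) = p) (e : ℕ) (he : (cen P).relIndex (nrm P) = e)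
    (hcase : e = 1 ∨ e + 1 = p) (q b g₀ : ℕ) (hq : q.Prime) (hpq : p ≠ q)
    (hcard : Nat.card G = p * q ^ b * g₀) (hg : g₀ < p - 1) : False := by
  have hpp := (Fact.out : p.Prime)
  have hp2 : 2 ≤ p := hpp.two_le
  obtain ⟨M, hM⟩ := Cfsg.Agent.Lib.helper2.exists_isPModular p hpp
  obtain ⟨X, Y, hB, hdisj, hcX, hcY, εX, ε, hX, hε, hYdeg, hYagree, hYrel⟩ :=
    Cfsg.Agent.Lib.helper7.BD.s4441_main p M hM hodd P hP e he
  haveI : Fintype (Cfsg.IrrCharacter G) := Fintype.ofFinite _
  -- the degrees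
  choose D hD0 hD1 hDdvd using fun χ : Cfsg.IrrCharacter G =>
    Cfsg.Agent.Lib.helper2.irr_degree_dvd_card χ
  have hcd : ∀ χ : Cfsg.IrrCharacter G, Cfsg.charDegree (χ : G → ℂ) = D χ := by
    intro χ
    unfold Cfsg.charDegree
    rw [hD1 χ]
    simp
  have hτ : trivIrr G ∈ Cfsg.principalBlock M G :=
    Cfsg.Agent.Lib.helper7.h7_sameBlock_refl hM.2.1.isPrime _
  have hDτ : D (trivIrr G) = 1 := by
    have h := hD1 (trivIrr G)
    rw [trivIrr_apply] at h
    exact_mod_cast h.symm
  have hcard0 : 0 < p * q ^ b * g₀ := by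
    rw [← hcard]
    exact Nat.card_pos
  -- all the degrees in the block are `≡ ± 1`
  have hpm : ∀ ψ ∈ Cfsg.principalBlock M G, ∃ s : ℤ, (s = 1 ∨ s = -1) ∧ (D ψ : ℤ) ≡ s [ZMOD p] := by
    intro ψ hψ
    rw [hB] at hψ
    rcases hψ with h | h
    · refine ⟨εX ψ, (hX ψ h).1, ?_⟩
      rw [← hcd]
      exact (hX ψ h).2.1
    · have h1 := hYdeg ψ h
      rw [hcd] at h1
      rcases hcase with rfl | hep
      · refine ⟨ε, hε, ?_⟩
        simpa using h1
      · refine ⟨-ε, ?_, ?_⟩
        · rcases hε with h | h <;> simp [h]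
        · have he' : (e : ℤ) = (p : ℤ) - 1 := by omega
          rw [he'] at h1
          refine h1.trans ?_
          rw [Int.modEq_iff_dvd]
          exact ⟨-ε, by ring⟩
  -- `Y` is not empty
  have hYne : Y.Nonempty := by
    by_contra h
    rw [Set.not_nonempty_iff_eq_empty] at h
    have h0 : Nat.card ↥Y = 0 := by
      rw [h]
      simp
    rw [hcY, Nat.div_eq_zero_iff] at h0
    rcases hcase with rfl | hep <;> omega
  -- the relation at `1`
  have hrelZ : ∀ θ ∈ Y, ε * (D θ : ℤ) =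
      ∑ χ ∈ (Set.toFinite X).toFinset, εX χ * (D χ : ℤ) := by
    intro θ hθ
    have h := hYrel θ hθ 1 (by
      rw [orderOf_one]
      intro h
      exact hpp.one_lt.ne' (Nat.dvd_one.mp h))
    rw [finsum_mem_eq_finite_toFinset_sum _ (Set.toFinite X), hD1 θ] at h
    have h2 : ∑ χ ∈ (Set.toFinite X).toFinset, (εX χ : ℂ) * (χ : G → ℂ) 1 =
        ((∑ χ ∈ (Set.toFinite X).toFinset, εX χ * (D χ : ℤ) : ℤ) : ℂ) := by
      push_cast
      exact Finset.sum_congr rfl (fun χ _ => by rw [hD1 χ])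
    rw [h2] at h
    exact_mod_cast h
  have hq1 : ¬ (q : ℤ) ∣ 1 := by
    intro h
    have h4 := Int.eq_one_of_dvd_one (by positivity) h
    have := hq.one_lt
    omega
  have hqpm : ∀ s : ℤ, (s = 1 ∨ s = -1) → ¬ (q : ℤ) ∣ s := by
    intro s hs h
    rcases hs with h' | h'
    · rw [h'] at h
      exact hq1 h
    · rw [h'] at h
      exact hq1 (dvd_neg.mp h)
  -- a non-principal member of degree prime to `q`
  have hex : ∃ ψ ∈ Cfsg.principalBlock M G, ψ ≠ trivIrr G ∧ ¬ q ∣ D ψ := by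
    by_contra hcon
    have hall : ∀ ψ ∈ Cfsg.principalBlock M G, ψ ≠ trivIrr G → q ∣ D ψ := by
      intro ψ hψ hne
      by_contra h
      exact hcon ⟨ψ, hψ, hne, h⟩
    have hτ' := hτ
    rw [hB] at hτ'
    rcases hτ' with hτX | hτY
    · obtain ⟨θ, hθ⟩ := hYne
      have hθne : θ ≠ trivIrr G := by
        intro h
        rw [h] at hθ
        exact Set.disjoint_left.mp hdisj hτX hθ
      have hθB : θ ∈ Cfsg.principalBlock M G := by
        rw [hB]
        exact Or.inr hθ
      have h := hrelZ θ hθ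
      have hmem : trivIrr G ∈ (Set.toFinite X).toFinset := (Set.Finite.mem_toFinset _).mpr hτX
      rw [← Finset.add_sum_erase _ _ hmem, hDτ, Nat.cast_one, mul_one] at h
      have h1 : (q : ℤ) ∣ ∑ χ ∈ ((Set.toFinite X).toFinset).erase (trivIrr G), εX χ * (D χ : ℤ) := by
        apply Finset.dvd_sum
        intro χ hχ
        rw [Finset.mem_erase, Set.Finite.mem_toFinset] at hχ
        apply Dvd.dvd.mul_left
        apply Int.natCast_dvd_natCast.mpr
        apply hall χ _ hχ.1
        rw [hB]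
        exact Or.inl hχ.2
      have h2 : (q : ℤ) ∣ ε * (D θ : ℤ) :=
        Dvd.dvd.mul_left (Int.natCast_dvd_natCast.mpr (hall θ hθB hθne)) _
      have h3 : (q : ℤ) ∣ εX (trivIrr G) := by
        have : εX (trivIrr G) = ε * (D θ : ℤ) -
            ∑ χ ∈ ((Set.toFinite X).toFinset).erase (trivIrr G), εX χ * (D χ : ℤ) := by
          rw [h]
          ring
        rw [this]
        exact dvd_sub h2 h1
      exact hqpm _ (hX _ hτX).1 h3
    · have h := hrelZ _ hτY
      rw [hDτ, Nat.cast_one, mul_one] at h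
      have h1 : (q : ℤ) ∣ ∑ χ ∈ (Set.toFinite X).toFinset, εX χ * (D χ : ℤ) := by
        apply Finset.dvd_sum
        intro χ hχ
        rw [Set.Finite.mem_toFinset] at hχ
        apply Dvd.dvd.mul_left
        apply Int.natCast_dvd_natCast.mpr
        apply hall χ
        · rw [hB]
          exact Or.inl hχ
        · intro h'
          rw [h'] at hχ
          exact Set.disjoint_left.mp hdisj hχ hτY
      rw [← h] at h1
      exact hqpm _ hε h1
  obtain ⟨ψ, hψB, hψne, hψq⟩ := hex
  obtain ⟨s, hs, hmod⟩ := hpm ψ hψB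
  have hd1 : D ψ = 1 :=
    bttopbot_arith p q b g₀ (D ψ) hpp hq hcard0 hg (hcard ▸ hDdvd ψ) hψq s hs hmod
  obtain ⟨d, hd2, hd⟩ := deg_ge_two hperf ψ hψne
  rw [hD1 ψ] at hd
  have : D ψ = d := by exact_mod_cast hd
  omega

end Cfsg.Agent.Lib.Helper13.BT
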