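import Mathlib
import Cfsg.Agent.Lib.Helper10.C3Q.Defs
import Cfsg.Agent.Lib.helper23.C3QNCOMM
import Cfsg.Agent.Lib.Helper20.C3QCLS
import Cfsg.Agent.Lib.Helper29.C3QSPOS
import Cfsg.Agent.Lib.Helper21.C3QSNEG
import Cfsg.Agent.Lib.Helper16.SpinAdjust2
import Cfsg.Agent.Lib.helper15.OTSSTDCTX

/-! Project C3Q (designer helper10), row SFIN second copy under an own name (helper16): the statement of `s_fin`. -/

set_option autoImplicit false
set_option linter.unusedVariables false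
set_option linter.unusedSectionVars false

namespace Cfsg.Agent.Lib.Helper10.C3Q

open Matrix Module Cfsg.Agent.Lib.Helper13.OTS Cfsg.Agent.Lib.Helper16

universe u

variable {F : Type u} [Field F] {ι : Type} [Fintype ι] [DecidableEq ι]

theorem c3qsfin_h16_ne (Q : QuadraticForm F (ι → F))
    (hQ : (QuadraticMap.polarBilin Q).Nondegenerate) (hcard : 0 < Fintype.card ι) : ∃ v, Q v ≠ 0 := by
  by_contra hcon
  push Not at hcon
  obtain ⟨j⟩ := Fintype.card_pos_iff.mp hcard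
  have hv : (Pi.single j (1 : F) : ι → F) ≠ 0 := by
    intro h
    have := congrFun h j
    simp at this
  apply hv
  apply hQ.1
  intro w
  rw [QuadraticMap.polarBilin_apply_apply, QuadraticMap.polar, hcon, hcon, hcon]
  simp

theorem c3qsfin_h16_transport (A A' : Matrix ι ι F) (h y : GL ι F)
    (hhA : (h : Matrix ι ι F) * A = A' * (h : Matrix ι ι F)) (hy : NrmA A' y) :
    NrmA A (h⁻¹ * y * h) := by
  have h1 : ((h⁻¹ : GL ι F) : Matrix ι ι F) * (h : Matrix ι ι F) = 1 := by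
    rw [← Units.val_mul, inv_mul_cancel, Units.val_one]
  have h1' : (h : Matrix ι ι F) * ((h⁻¹ : GL ι F) : Matrix ι ι F) = 1 := by
    rw [← Units.val_mul, mul_inv_cancel, Units.val_one]
  have hinv : ((h⁻¹ : GL ι F) : Matrix ι ι F) * A' = A * ((h⁻¹ : GL ι F) : Matrix ι ι F) := by
    calc ((h⁻¹ : GL ι F) : Matrix ι ι F) * A'
        = ((h⁻¹ : GL ι F) : Matrix ι ι F) * (A' * (h : Matrix ι ι F)) * ((h⁻¹ : GL ι F) : Matrix ι ι F) := by
          rw [Matrix.mul_assoc, Matrix.mul_assoc, h1', Matrix.mul_one]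
      _ = ((h⁻¹ : GL ι F) : Matrix ι ι F) * ((h : Matrix ι ι F) * A) * ((h⁻¹ : GL ι F) : Matrix ι ι F) := by rw [hhA]
      _ = A * ((h⁻¹ : GL ι F) : Matrix ι ι F) := by
          rw [← Matrix.mul_assoc, h1, Matrix.one_mul]
  unfold NrmA at hy ⊢
  rw [Units.val_mul, Units.val_mul]
  rcases hy with hy | hy
  · left
    calc ((h⁻¹ : GL ι F) : Matrix ι ι F) * (y : Matrix ι ι F) * (h : Matrix ι ι F) * A
        = ((h⁻¹ : GL ι F) : Matrix ι ι F) * ((y : Matrix ι ι F) * A') * (h : Matrix ι ι F) := by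
          rw [Matrix.mul_assoc, hhA]; simp only [Matrix.mul_assoc]
      _ = ((h⁻¹ : GL ι F) : Matrix ι ι F) * A' * (y : Matrix ι ι F) * (h : Matrix ι ι F) := by
          rw [hy]; simp only [Matrix.mul_assoc]
      _ = A * (((h⁻¹ : GL ι F) : Matrix ι ι F) * (y : Matrix ι ι F) * (h : Matrix ι ι F)) := by
          rw [hinv]; simp only [Matrix.mul_assoc]
  · right
    calc ((h⁻¹ : GL ι F) : Matrix ι ι F) * (y : Matrix ι ι F) * (h : Matrix ι ι F) * A
        = ((h⁻¹ : GL ι F) : Matrix ι ι F) * ((y : Matrix ι ι F) * A') * (h : Matrix ι ι F) := by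
          rw [Matrix.mul_assoc, hhA]; simp only [Matrix.mul_assoc]
      _ = -(((h⁻¹ : GL ι F) : Matrix ι ι F) * A' * (y : Matrix ι ι F) * (h : Matrix ι ι F)) := by
          rw [hy]; simp only [Matrix.mul_assoc, Matrix.mul_neg, Matrix.neg_mul]
      _ = -(A * (((h⁻¹ : GL ι F) : Matrix ι ι F) * (y : Matrix ι ι F) * (h : Matrix ι ι F))) := by
          rw [hinv]; simp only [Matrix.mul_assoc]

theorem c3qsfin_h16 [Fintype F] (h2 : (2 : F) ≠ 0) (Q : QuadraticForm F (ι → F))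
    (hQ : (QuadraticMap.polarBilin Q).Nondegenerate) (d : ℕ) (hcard : Fintype.card ι = 2 * d)
    (hd : 2 ≤ d) (δ : F) (A : Matrix ι ι F) (hA : Gen (⇑Q) δ A) : AllConjA (⇑Q) A 2 := by
  intro x hxΩ hz hnsx
  obtain ⟨z, hz⟩ := hz
  have hxiso : x ∈ Cfsg.isometryGroup F (⇑Q) := q_omega_le Q x hxΩ
  have hne : ∃ v, Q v ≠ 0 := c3qsfin_h16_ne Q hQ (by omega)
  have hz1 := s_scal Q hne x hxiso z hz
  have hloc : ∃ (A' : Matrix ι ι F) (a b : ι → F) (ha : Q a ≠ 0) (hb : Q b ≠ 0), Gen (⇑Q) δ A' ∧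
      IsSquare (Q a) ∧ ¬ IsSquare (Q b) ∧
      ∀ ρ : GL ι F, (ρ = 1 ∨ ρ = ((reflG Q a ha : ↥(Cfsg.isometryGroup F (⇑Q))) : GL ι F) ∨
          ρ = ((reflG Q b hb : ↥(Cfsg.isometryGroup F (⇑Q))) : GL ι F) ∨
          ρ = ((reflG Q a ha * reflG Q b hb : ↥(Cfsg.isometryGroup F (⇑Q))) : GL ι F)) →
        NrmA A' (ρ⁻¹ * x * ρ) := by
    rcases hz1 with hz1 | hz1
    · exact s_local_pos h2 Q hQ d hcard hd δ hA.ns x hxΩ (by rw [hz, hz1, one_smul])
    · exact s_local_neg h2 Q hQ d hcard (by omega) δ hA.ns x hxiso (by rw [hz, hz1])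
  obtain ⟨A', a, b, ha, hb, hA', hsa, hsb, hρ⟩ := hloc
  obtain ⟨h, hhiso, hhA⟩ := cls h2 Q hQ δ A A' hA hA' (d - 1) (by omega)
  obtain ⟨ρ, hρΩ, hρcase⟩ := spin_adjust2 h2 Q hQ ⟨h, hhiso⟩ a b ha hb hsa hsb
  refine ⟨(ρ : GL ι F) * h, ⟨ρ * ⟨h, hhiso⟩, hρΩ, rfl⟩, ?_⟩
  have hN : NrmA A' ((ρ : GL ι F)⁻¹ * x * (ρ : GL ι F)) := by
    apply hρ
    rcases hρcase with h | h | h | h
    · left; rw [h]; rfl
    · right; left; rw [h]
    · right; right; left; rw [h]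
    · right; right; right; rw [h]
  have hconj : ((ρ : GL ι F) * h)⁻¹ * x * ((ρ : GL ι F) * h) = h⁻¹ * ((ρ : GL ι F)⁻¹ * x * (ρ : GL ι F)) * h := by
    group
  rw [hconj]
  exact c3qsfin_h16_transport A A' h _ hhA hN

end Cfsg.Agent.Lib.Helper10.C3Q
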