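import Mathlib
import Cfsg.Agent.Lib.helper3.C6U.Defs
import Cfsg.Agent.Lib.Lead.C6PWNRM
import Cfsg.Agent.Lib.helper7.C6PWSMUL
import Cfsg.Agent.Lib.helper7.C6PWCZ
import Cfsg.Agent.Lib.Helper16.C6PE2Wcore

/-!
# Project C6U (designer helper3), row W2, second copy (helper16): `c6uw2_h16` has exactly the statement of `wit_two_u`.
`D2 F 2 = pD1`, `D2 F 3 = CZ`, `D2 F 1` by lead's `nrm_of_gens`.
-/

set_option autoImplicit false
set_option linter.unusedVariables false
set_option linter.unusedSectionVars false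

namespace Cfsg.Agent.Lib.helper3.C6U

open Polynomial Matrix
open Cfsg.Agent.Lib.Helper10.C6P
open scoped MatrixGroups

variable {F : Type*} [Field F]

section fin

variable [Fintype F] {p : ℕ} [Fact p.Prime] [CharP F p]

theorem c6uw2h16_isU (d : Fin 4 → F) (hd : ∀ k, d k * d k ^ p = 1) :
    IsU p (Matrix.diagonal d) := by
  have hp0 : p ≠ 0 := (Fact.out : p.Prime).ne_zero
  unfold IsU gram
  rw [Matrix.diagonal_transpose]
  have hmap : (Matrix.diagonal d).map (fun a => a ^ p) = Matrix.diagonal (fun k => d k ^ p) := by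
    ext a b
    by_cases hab : a = b
    · subst hab
      simp
    · rw [Matrix.map_apply, Matrix.diagonal_apply_ne _ hab, Matrix.diagonal_apply_ne _ hab,
        zero_pow hp0]
  rw [hmap, Matrix.diagonal_mul_diagonal, ← Matrix.diagonal_one]
  congr 1
  funext k
  exact hd k

theorem c6uw2h16_D2_isU (j : ℕ) : IsU p (D2 F j) := by
  have hneg : (-1 : F) ^ p = -1 := by
    rw [← frobenius_def, map_neg, map_one]
  unfold D2
  apply c6uw2h16_isU
  intro k
  by_cases hk : (k : ℕ) < j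
  · rw [if_pos hk, one_pow, mul_one]
  · rw [if_neg hk, hneg]
    ring

theorem c6uw2h16_D2_two : D2 F 2 = (pD1 : M4 F) := by
  unfold D2 pD1
  congr 1
  funext k
  fin_cases k <;> simp

theorem c6uw2h16_D2_three : D2 F 3 = CZ F := by
  rw [c6pe2w_CZ]
  unfold D2
  congr 1
  funext k
  fin_cases k <;> simp

theorem c6uw2h16_D2_one_nrm {i : F} {R : Subgroup (GL (Fin 4) F)} (h : IsStd i R) :
    Nrm R (D2 F 1) := by
  have hi2 : i ^ 2 = -1 := by
    rw [pow_two]
    exact h.1
  apply nrm_of_gens h (D2 F 1) (D2 F 1)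
  · ext a b
    fin_cases a <;> fin_cases b <;> simp [D2, Matrix.mul_apply, Fin.sum_univ_four]
  · refine ⟨0, 1, 0, 0, 0, ?_⟩
    ext a b
    fin_cases a <;> fin_cases b <;>
      simp [D2, pD1, pauliM, Matrix.mul_apply, Fin.sum_univ_four, Matrix.diagonal_apply]
  · refine ⟨2, 0, 1, 1, 0, ?_⟩
    ext a b
    fin_cases a <;> fin_cases b <;>
      simp [D2, pX1, pD2, pauliM, hi2, Matrix.mul_apply, Fin.sum_univ_four, Matrix.diagonal_apply,
        Matrix.vecMul, dotProduct]
  · refine ⟨0, 0, 0, 1, 0, ?_⟩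
    ext a b
    fin_cases a <;> fin_cases b <;>
      simp [D2, pD2, pauliM, Matrix.mul_apply, Fin.sum_univ_four, Matrix.diagonal_apply]
  · refine ⟨2, 1, 0, 0, 1, ?_⟩
    ext a b
    fin_cases a <;> fin_cases b <;>
      simp [D2, pX2, pD1, pauliM, hi2, Matrix.mul_apply, Fin.sum_univ_four, Matrix.diagonal_apply,
        Matrix.vecMul, dotProduct]

theorem c6uw2_h16 {i : F} {R : Subgroup (GL (Fin 4) F)} (h : IsStd i R) (h2 : (2 : F) ≠ 0) (j : ℕ) (hj1 : 1 ≤ j) (hj3 : j ≤ 3) :
    NrmU p R (D2 F j) := by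
  refine ⟨?_, c6uw2h16_D2_isU j⟩
  interval_cases j
  · exact c6uw2h16_D2_one_nrm h
  · rw [c6uw2h16_D2_two]
    exact nrm_Z1 h
  · rw [c6uw2h16_D2_three]
    exact nrm_CZ h

end fin

end Cfsg.Agent.Lib.helper3.C6U
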