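import Mathlib
import Cfsg.Agent.Lib.Helper13.S5955.Defs2

/-!
# S5955 row R2 (helper16): an isometry with `x * x = -1`, when `-1 = ι ^ 2` in `F`.

The eigenspaces `E = ker (x - ι)`, `E' = ker (x + ι)` are totally isotropic and complementary, so both have dimension `d`;
every subspace of `E` is invariant and totally isotropic.
-/

set_option autoImplicit false

namespace Cfsg.Agent.Lib.Helper13.S5955

open Polynomial Module

/-- a totally isotropic subspace of a non-degenerate space of dimension `2 d` has dimension at most `d` -/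
theorem s5955r2_ti_le {F : Type*} [Field F] {V : Type*} [AddCommGroup V] [Module F V]
    [FiniteDimensional F V] {B : LinearMap.BilinForm F V}
    (hnd : ∀ u, (∀ v, B u v = 0) → u = 0) (W : Submodule F V) (hW : STI B W)
    (d : ℕ) (hV : finrank F V = 2 * d) : finrank F W ≤ d := by
  have hker : LinearMap.ker B = ⊥ := by
    rw [LinearMap.ker_eq_bot']
    intro u hu
    apply hnd u
    intro v
    rw [hu]
    rfl
  have h1 := LinearMap.BilinForm.finrank_add_finrank_orthogonal' (B := B) W
  rw [hker, inf_bot_eq, finrank_bot, add_zero] at h1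
  have h2 : W ≤ B.orthogonal W := by
    intro w hw n hn
    exact hW n hn w hw
  have h3 := Submodule.finrank_mono h2
  omega

/-- a subspace of every dimension `m ≤ finrank E` inside `E` -/
theorem s5955r2_exists_sub {F : Type*} [Field F] {V : Type*} [AddCommGroup V] [Module F V]
    [FiniteDimensional F V] (E : Submodule F V) (m : ℕ) (hm : m ≤ finrank F E) :
    ∃ W : Submodule F V, W ≤ E ∧ finrank F W = m := by
  classical
  let b : Module.Basis (Fin (finrank F E)) F E := Module.finBasis F E
  let bV : Fin m → V := fun j => ((b (Fin.castLE hm j) : E) : V)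
  have hli : LinearIndependent F bV := by
    have h1 : LinearIndependent F (fun j : Fin m => b (Fin.castLE hm j)) :=
      b.linearIndependent.comp _ (Fin.castLE_injective hm)
    exact h1.map' E.subtype (Submodule.ker_subtype E)
  refine ⟨Submodule.span F (Set.range bV), ?_, ?_⟩
  · rw [Submodule.span_le]
    rintro _ ⟨j, rfl⟩
    exact (b (Fin.castLE hm j)).2
  · rw [finrank_span_eq_card hli, Fintype.card_fin]

theorem sqneg_suff_sq {F : Type*} [Field F] {V : Type*} [AddCommGroup V] [Module F V]
    [FiniteDimensional F V] (h2 : (2 : F) ≠ 0) {B : LinearMap.BilinForm F V}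
    {x : Module.End F V} (h : SCtx 4 B x) (hx : x * x = -1) (ι : F) (hι : ι ^ 2 = -1)
    (d m : ℕ) (hV : finrank F V = 2 * d) (hm : m ≤ d) : TId B x m := by
  classical
  have hιι : ι * ι = -1 := by rw [← pow_two]; exact hι
  have hι0 : ι ≠ 0 := by
    rintro rfl
    rw [zero_mul] at hιι
    have : (1 : F) = 0 := by
      have := congrArg (fun t : F => -t) hιι
      simpa using this.symm
    exact one_ne_zero this
  have hxx : ∀ v, x (x v) = -v := by
    intro v
    have := LinearMap.congr_fun hx v
    simpa using this
  -- the eigenspaces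
  set E : Submodule F V := LinearMap.ker (x - ι • (1 : Module.End F V)) with hEdef
  set E' : Submodule F V := LinearMap.ker (x + ι • (1 : Module.End F V)) with hE'def
  have hE : ∀ u, u ∈ E ↔ x u = ι • u := by
    intro u
    rw [hEdef, LinearMap.mem_ker, LinearMap.sub_apply, LinearMap.smul_apply, Module.End.one_apply,
      sub_eq_zero]
  have hE' : ∀ u, u ∈ E' ↔ x u = -(ι • u) := by
    intro u
    rw [hE'def, LinearMap.mem_ker, LinearMap.add_apply, LinearMap.smul_apply, Module.End.one_apply,
      add_eq_zero_iff_eq_neg]
  have hti : ∀ (c : F), c * c = -1 → ∀ u v, x u = c • u → x v = c • v → B u v = 0 := by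
    intro c hc u v hu hv
    have h1 := h.pres u v
    rw [hu, hv] at h1
    simp only [map_smul, LinearMap.smul_apply, smul_eq_mul] at h1
    rw [← mul_assoc, hc] at h1
    have h3 : (2 : F) * B u v = 0 := by
      have : B u v + B u v = 0 := by
        nth_rewrite 1 [← h1]
        ring
      rw [two_mul]; exact this
    rcases mul_eq_zero.mp h3 with h4 | h4
    · exact absurd h4 h2
    · exact h4
  have htiE : STI B E := fun u hu v hv => hti ι hιι u v ((hE u).mp hu) ((hE v).mp hv)
  have htiE' : STI B E' := by
    intro u hu v hv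
    apply hti (-ι) (by rw [neg_mul_neg]; exact hιι) u v
    · rw [(hE' u).mp hu, neg_smul]
    · rw [(hE' v).mp hv, neg_smul]
  have hcompl : IsCompl E E' := by
    constructor
    · rw [Submodule.disjoint_def]
      intro u hu hu'
      have h1 := (hE u).mp hu
      have h3 := (hE' u).mp hu'
      have h4 : (2 * ι) • u = 0 := by
        have : ι • u + ι • u = 0 := by
          nth_rewrite 1 [← h1]
          rw [h3]
          exact neg_add_cancel _
        rw [mul_smul, two_smul]
        exact this
      rcases smul_eq_zero.mp h4 with h5 | h5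
      · exact absurd h5 (mul_ne_zero h2 hι0)
      · exact h5
    · rw [codisjoint_iff, eq_top_iff]
      intro v _
      have hc0 : (2 * ι) ≠ 0 := mul_ne_zero h2 hι0
      have hmem1 : x v + ι • v ∈ E := by
        rw [hE, map_add, map_smul, hxx, smul_add, smul_smul, hιι, neg_smul, one_smul]
        abel
      have hmem2 : x v - ι • v ∈ E' := by
        rw [hE', map_sub, map_smul, hxx, smul_sub, smul_smul, hιι, neg_smul, one_smul]
        abel
      have hv : v = (2 * ι)⁻¹ • (x v + ι • v) + (-(2 * ι)⁻¹) • (x v - ι • v) := by
        have e1 : (2 * ι)⁻¹ • (x v + ι • v) + (-(2 * ι)⁻¹) • (x v - ι • v) =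
            (2 * ι)⁻¹ • ((2 * ι) • v) := by
          rw [neg_smul, ← sub_eq_add_neg, ← smul_sub, mul_smul, two_smul]
          congr 1
          abel
        rw [e1, smul_smul, inv_mul_cancel₀ hc0, one_smul]
      rw [hv]
      exact Submodule.add_mem_sup (E.smul_mem _ hmem1) (E'.smul_mem _ hmem2)
  have hsum := Submodule.finrank_add_eq_of_isCompl hcompl
  have hle1 := s5955r2_ti_le h.nd E htiE d hV
  have hle2 := s5955r2_ti_le h.nd E' htiE' d hV
  have hEd : finrank F E = d := by omega
  obtain ⟨W, hWE, hWm⟩ := s5955r2_exists_sub E m (by rw [hEd]; exact hm)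
  refine ⟨W, ?_, ?_, hWm⟩
  · intro w hw
    rw [(hE w).mp (hWE hw)]
    exact W.smul_mem _ hw
  · intro u hu v hv
    exact htiE u (hWE hu) v (hWE hv)

end Cfsg.Agent.Lib.Helper13.S5955
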