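import Mathlib
import Cfsg.Agent.Lib.helper3.S5953.Defs
import Cfsg.Agent.Lib.Helper20.S5953T1
import Cfsg.Agent.Lib.Helper11.S5953T9
import Cfsg.Agent.Lib.Helper16.S5955R2

/-!
# Project S5953, row R3 (SQNEG) core (helper16): `x ^ 2 = μ ^ 2`, `μ ^ (q + 1) = -1`: the two eigenspaces
`ker (x ∓ μ)` are totally isotropic and complementary, so both have dimension at least `n - n / 2`; every
subspace of `ker (x - μ)` is invariant and totally isotropic.
-/

set_option autoImplicit false

namespace Cfsg.Agent.Lib.helper3.S5953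

open Module

theorem s5953r3h16_even {F : Type*} [Field F] [Fintype F] {q : ℕ} (hF : Fintype.card F = q ^ 2)
    (h2 : (2 : F) ≠ 0) : Even (q + 1) := by
  obtain ⟨p, hchar⟩ := CharP.exists F
  haveI := hchar
  haveI : Fact p.Prime := ⟨CharP.char_is_prime F p⟩
  obtain ⟨k, hk⟩ := FiniteField.card F p
  by_contra hne
  have hqe : Even q := by
    by_contra hq
    exact hne (Nat.even_add_one.2 hq)
  have h2q : 2 ∣ q ^ 2 := dvd_pow (even_iff_two_dvd.1 hqe) (by norm_num)
  rw [← hF, hk.2] at h2q
  have h2p : 2 ∣ p := Nat.Prime.dvd_of_dvd_pow Nat.prime_two h2q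
  have hp2 : 2 = p := (Nat.prime_dvd_prime_iff_eq Nat.prime_two (Fact.out : p.Prime)).1 h2p
  subst hp2
  apply h2
  exact_mod_cast CharP.cast_eq_zero F 2

theorem s5953r3h16_core {F : Type*} [Field F] [Fintype F] {q n : ℕ} (hF : Fintype.card F = q ^ 2)
    (h2 : (2 : F) ≠ 0) {z : F} {x : Module.End F (Fin n → F)} (h : HCtx q 2 z x) (μ : F)
    (hμ : μ ^ (q + 1) = -1) (hμz : μ ^ 2 = z) (m : ℕ) (hm : 2 * m ≤ n) : HTId q x m := by
  classical
  have hq0 : q ≠ 0 := by
    rintro rfl
    rw [zero_pow (by norm_num)] at hF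
    exact Fintype.card_ne_zero hF
  have heven := s5953r3h16_even hF h2
  have hneg : (-μ) ^ (q + 1) = -1 := by rw [Even.neg_pow heven, hμ]
  have hμ0 : μ ≠ 0 := by
    rintro rfl
    apply h.ne
    rw [← hμz]
    exact zero_pow (by norm_num)
  have hxx : ∀ v, x (x v) = (μ * μ) • v := by
    intro v
    have h1 := LinearMap.congr_fun h.pow v
    rw [pow_two, ← hμz, pow_two] at h1
    simpa using h1
  set E : Submodule F (Fin n → F) := LinearMap.ker (x - μ • (1 : Module.End F (Fin n → F))) with hEdef
  set E' : Submodule F (Fin n → F) := LinearMap.ker (x + μ • (1 : Module.End F (Fin n → F))) with hE'def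
  have hE : ∀ u, u ∈ E ↔ x u = μ • u := by
    intro u
    rw [hEdef, LinearMap.mem_ker, LinearMap.sub_apply, LinearMap.smul_apply, Module.End.one_apply,
      sub_eq_zero]
  have hE' : ∀ u, u ∈ E' ↔ x u = -(μ • u) := by
    intro u
    rw [hE'def, LinearMap.mem_ker, LinearMap.add_apply, LinearMap.smul_apply, Module.End.one_apply,
      add_eq_zero_iff_eq_neg]
  have hti : ∀ (c : F), c ^ (q + 1) = -1 → ∀ u v, x u = c • u → x v = c • v →
      hermI (Fin n) F q u v = 0 := by
    intro c hc u v hu hv
    have h1 := h.pres u v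
    rw [hu, hv, hermI_smul_left, hermI_smul_right, ← mul_assoc, ← pow_succ', hc] at h1
    have h3 : (2 : F) * hermI (Fin n) F q u v = 0 := by linear_combination (-1 : F) * h1
    rcases mul_eq_zero.mp h3 with h4 | h4
    · exact absurd h4 h2
    · exact h4
  have htiE : HTI q E := fun u hu v hv => hti μ hμ u v ((hE u).mp hu) ((hE v).mp hv)
  have htiE' : HTI q E' := by
    intro u hu v hv
    apply hti (-μ) hneg u v
    · rw [(hE' u).mp hu, neg_smul]
    · rw [(hE' v).mp hv, neg_smul]
  have hcompl : IsCompl E E' := by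
    constructor
    · rw [Submodule.disjoint_def]
      intro u hu hu'
      have h1 := (hE u).mp hu
      have h3 := (hE' u).mp hu'
      have h4 : (2 * μ) • u = 0 := by
        have : μ • u + μ • u = 0 := by
          nth_rewrite 1 [← h1]
          rw [h3]
          exact neg_add_cancel _
        rw [mul_smul, two_smul]
        exact this
      rcases smul_eq_zero.mp h4 with h5 | h5
      · exact absurd h5 (mul_ne_zero h2 hμ0)
      · exact h5
    · rw [codisjoint_iff, eq_top_iff]
      intro v _
      have hc0 : (2 * μ) ≠ 0 := mul_ne_zero h2 hμ0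
      have hmem1 : x v + μ • v ∈ E := by
        rw [hE, map_add, map_smul, hxx, smul_add, smul_smul]
        abel
      have hmem2 : x v - μ • v ∈ E' := by
        rw [hE', map_sub, map_smul, hxx, smul_sub, smul_smul]
        abel
      have hv : v = (2 * μ)⁻¹ • (x v + μ • v) + (-(2 * μ)⁻¹) • (x v - μ • v) := by
        have e1 : (2 * μ)⁻¹ • (x v + μ • v) + (-(2 * μ)⁻¹) • (x v - μ • v) =
            (2 * μ)⁻¹ • ((2 * μ) • v) := by
          rw [neg_smul, ← sub_eq_add_neg, ← smul_sub, mul_smul, two_smul]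
          congr 1
          abel
        rw [e1, smul_smul, inv_mul_cancel₀ hc0, one_smul]
      rw [hv]
      exact Submodule.add_mem_sup (E.smul_mem _ hmem1) (E'.smul_mem _ hmem2)
  have hsum := Submodule.finrank_add_eq_of_isCompl hcompl
  rw [Module.finrank_fin_fun] at hsum
  have hTnd : HND q (⊤ : Submodule F (Fin n → F)) := by
    intro u _ hu
    exact hermI_nd hq0 u (fun v => hu v Submodule.mem_top)
  have hle2 := ti_le_half hF ⊤ E' hTnd le_top htiE'
  rw [finrank_top, Module.finrank_fin_fun] at hle2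
  obtain ⟨W, hWE, hWm⟩ := Cfsg.Agent.Lib.Helper13.S5955.s5955r2_exists_sub E m (by omega)
  refine ⟨W, ?_, ?_, hWm⟩
  · intro w hw
    rw [(hE w).mp (hWE hw)]
    exact W.smul_mem _ hw
  · intro u hu v hv
    exact htiE u (hWE hu) v (hWE hv)

end Cfsg.Agent.Lib.helper3.S5953
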