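import Mathlib
import Cfsg.Agent.Lib.helper3.S5953.Defs
import Cfsg.Agent.Lib.Helper24.ElH

/-!
# Project S5953, rows X1 (ZNORM), X3 (SCALE), X4 (STDCTX) (helper16)
-/

set_option autoImplicit false

namespace Cfsg.Agent.Lib.helper3.S5953

open Module

/-- powers of an isometry are isometries -/
theorem s5953x1_pres_pow {F : Type*} [Field F] {q : ℕ} {ι : Type*} [Fintype ι]
    {x : Module.End F (ι → F)}
    (h : ∀ u v, hermI ι F q (x u) (x v) = hermI ι F q u v) (k : ℕ) (u v : ι → F) :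
    hermI ι F q ((x ^ k) u) ((x ^ k) v) = hermI ι F q u v := by
  induction k generalizing u v with
  | zero => simp
  | succ k ih => rw [pow_succ, Module.End.mul_apply, Module.End.mul_apply, ih, h]

/-- X1 [S] ZNORM: the scalar `z` has norm one. -/
theorem z_norm {F : Type*} [Field F] {q : ℕ} {ι : Type*} [Fintype ι] [Nonempty ι] {r : ℕ} {z : F}
    {x : Module.End F (ι → F)} (h : HCtx q r z x) : z ^ (q + 1) = 1 := by
  classical
  obtain ⟨j⟩ := ‹Nonempty ι›
  set u : ι → F := Pi.single j 1 with hu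
  have huu : hermI ι F q u u = 1 := by
    unfold hermI
    rw [Finset.sum_eq_single j]
    · simp [hu]
    · intro i _ hij
      simp [hu, Pi.single_eq_of_ne hij]
    · intro hj
      exact absurd (Finset.mem_univ j) hj
  have h1 := s5953x1_pres_pow h.pres r u u
  rw [h.pow] at h1
  have h2 : (z • (1 : Module.End F (ι → F))) u = z • u := by simp
  rw [h2, hermI_smul_left, hermI_smul_right, huu, mul_one] at h1
  rw [pow_succ, mul_comm]
  exact h1

/-- X3 [S-M] SCALE: dividing by a norm-one `r`-th root `w` of `z`. -/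
theorem scale_ctx {F : Type*} [Field F] {q : ℕ} {ι : Type*} [Fintype ι] {r : ℕ} {z : F}
    {x : Module.End F (ι → F)} (h : HCtx q r z x) (w : F) (hw : w ^ (q + 1) = 1) (hwr : w ^ r = z) :
    HCtx q r 1 (w⁻¹ • x) ∧ (∀ W : Submodule F (ι → F), HInv (w⁻¹ • x) W ↔ HInv x W) ∧
      (w⁻¹ • x = 1 ↔ x = w • 1) := by
  have hw0 : w ≠ 0 := by
    rintro rfl
    rw [zero_pow (Nat.succ_ne_zero q)] at hw
    exact zero_ne_one hw
  have hwi0 : w⁻¹ ≠ 0 := inv_ne_zero hw0
  refine ⟨⟨?_, ?_, one_ne_zero⟩, ?_, ?_⟩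
  · intro u v
    show hermI ι F q (w⁻¹ • x u) (w⁻¹ • x v) = hermI ι F q u v
    rw [hermI_smul_left, hermI_smul_right, h.pres, ← mul_assoc]
    have : w⁻¹ * w⁻¹ ^ q = 1 := by
      rw [← pow_succ', inv_pow, hw, inv_one]
    rw [this, one_mul]
  · rw [smul_pow, h.pow, smul_smul, inv_pow, hwr, inv_mul_cancel₀ h.ne]
  · intro W
    constructor
    · intro hW u hu
      have := hW u hu
      have h1 : (w⁻¹ • x) u = w⁻¹ • x u := rfl
      rw [h1] at this
      exact (W.smul_mem_iff hwi0).1 this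
    · intro hW u hu
      show w⁻¹ • x u ∈ W
      exact W.smul_mem _ (hW u hu)
  · constructor
    · intro h1
      have : x = w • (w⁻¹ • x) := by rw [smul_smul, mul_inv_cancel₀ hw0, one_smul]
      rw [this, h1]
    · intro h1
      rw [h1, smul_smul, inv_mul_cancel₀ hw0, one_smul]

/-- X4 [S-M] STDCTX: an element of `SU n F q` with `x ^ r = z • 1` gives a context. -/
theorem std_ctx {F : Type*} [Field F] {n q r : ℕ} (hn : 0 < n)
    (x : Matrix.SpecialLinearGroup (Fin n) F) (hx : x ∈ Cfsg.SU n F q) (z : F)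
    (hz : ((x ^ r : Matrix.SpecialLinearGroup (Fin n) F) : Matrix (Fin n) (Fin n) F) =
      z • (1 : Matrix (Fin n) (Fin n) F)) :
    HCtx q r z (Matrix.toLin' (x : Matrix (Fin n) (Fin n) F)) ∧
      ∀ W : Submodule F (Fin n → F), HInv (Matrix.toLin' (x : Matrix (Fin n) (Fin n) F)) W ↔
        W.map (Matrix.toLin' (x : Matrix (Fin n) (Fin n) F)) ≤ W := by
  refine ⟨⟨fun u v => su_pres x hx u v, ?_, ?_⟩, ?_⟩
  · rw [← Matrix.toLin'_pow, ← Matrix.SpecialLinearGroup.coe_pow, hz]
    apply LinearMap.ext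
    intro u
    rw [Matrix.toLin'_apply, Matrix.smul_mulVec, Matrix.one_mulVec]
    rfl
  · rintro rfl
    have hdet := (x ^ r).det_coe
    haveI : Nonempty (Fin n) := ⟨⟨0, hn⟩⟩
    rw [hz, zero_smul, Matrix.det_zero] at hdet
    exact zero_ne_one hdet
  · intro W
    exact (Cfsg.Agent.Lib.Helper24.el_inv_iff _ W).symm

end Cfsg.Agent.Lib.helper3.S5953
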