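import Mathlib
import Cfsg.Agent.Lib.helper3.C6U.Defs
import Cfsg.Agent.Lib.Helper16.S5953R3half
import Cfsg.Agent.Lib.Helper16.S5953X134
import Cfsg.Agent.Lib.helper23.S5953NS1
import Cfsg.Agent.Lib.helper7.S5953R4
import Cfsg.Agent.Lib.Helper26.C6UE1
import Cfsg.Agent.Lib.helper15.C6UE0
import Cfsg.Agent.Lib.helper15.C6UW1
import Cfsg.Agent.Lib.Helper16.C6UW2h16

/-!
# Project C6U (designer helper3), row E2, second copy (helper16): `c6ue2_h16` has exactly the statement of `suff_two_u`.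
-/

set_option autoImplicit false
set_option linter.unusedVariables false
set_option linter.unusedSectionVars false
set_option maxHeartbeats 800000

namespace Cfsg.Agent.Lib.helper3.C6U

open Polynomial Matrix
open Cfsg.Agent.Lib.Helper10.C6P
open scoped MatrixGroups

variable {F : Type*} [Field F]

section fin

variable [Fintype F] {p : ℕ} [Fact p.Prime] [CharP F p]

/-- the diagonal matrix `diag(δ, 1, 1, 1)` as an element of `GL` -/
theorem c6ue2h16_C (j : ℕ) (δ : F) (hδ : δ ^ (p + 1) = 1) :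
    ∃ C : GL (Fin 4) F,
      (C : M4 F).transpose * (1 : M4 F) * (C : M4 F).map (fun a => a ^ p) = 1 ∧
      (C : M4 F) * D2 F j = D2 F j * (C : M4 F) ∧ (C : M4 F).det = δ := by
  have hδ0 : δ ≠ 0 := by
    rintro rfl
    rw [zero_pow (by omega)] at hδ
    exact zero_ne_one hδ
  have hval : Matrix.diagonal ![δ, 1, 1, 1] * Matrix.diagonal ![δ⁻¹, 1, 1, 1] = (1 : M4 F) := by
    rw [Matrix.diagonal_mul_diagonal, ← Matrix.diagonal_one]
    congr 1
    funext k
    fin_cases k <;> simp [hδ0]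
  have hinv : Matrix.diagonal ![δ⁻¹, 1, 1, 1] * Matrix.diagonal ![δ, 1, 1, 1] = (1 : M4 F) := by
    rw [Matrix.diagonal_mul_diagonal, ← Matrix.diagonal_one]
    congr 1
    funext k
    fin_cases k <;> simp [hδ0]
  refine ⟨⟨Matrix.diagonal ![δ, 1, 1, 1], Matrix.diagonal ![δ⁻¹, 1, 1, 1], hval, hinv⟩, ?_, ?_, ?_⟩
  · show (Matrix.diagonal ![δ, 1, 1, 1] : M4 F).transpose * 1 *
      (Matrix.diagonal ![δ, 1, 1, 1] : M4 F).map (fun a => a ^ p) = 1
    rw [Matrix.mul_one]
    have h := c6uw2h16_isU (p := p) (![δ, 1, 1, 1] : Fin 4 → F) (by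
      intro k
      fin_cases k
      · show δ * δ ^ p = 1
        rw [← pow_succ']
        exact hδ
      · show (1 : F) * 1 ^ p = 1
        rw [one_pow, mul_one]
      · show (1 : F) * 1 ^ p = 1
        rw [one_pow, mul_one]
      · show (1 : F) * 1 ^ p = 1
        rw [one_pow, mul_one])
    exact h
  · show (Matrix.diagonal ![δ, 1, 1, 1] : M4 F) * D2 F j = D2 F j * Matrix.diagonal ![δ, 1, 1, 1]
    unfold D2
    rw [Matrix.diagonal_mul_diagonal, Matrix.diagonal_mul_diagonal]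
    congr 1
    funext k
    exact mul_comm _ _
  · show (Matrix.diagonal ![δ, 1, 1, 1] : M4 F).det = δ
    rw [Matrix.det_diagonal, Fin.prod_univ_four]
    simp

theorem c6ue2_h16 (hF : Fintype.card F = p ^ 2) (hp4 : p % 4 = 3) {i : F} {R : Subgroup (GL (Fin 4) F)} (hctx : RCtx i R)
    (hstd : HasStdU p i R) : AllFixU p R 2 := by
  classical
  intro x hx hxz hns
  obtain ⟨z, hz⟩ := hxz
  obtain ⟨P, hPU, hPstd⟩ := hstd
  have h2 : (2 : F) ≠ 0 := hctx.two
  have hxU : x ∈ Cfsg.GU 4 F p := (Subgroup.mem_inf.mp hx).1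
  have hxS : x ∈ Cfsg.Geo.specialLinear (Fin 4) F := (Subgroup.mem_inf.mp hx).2
  have hdet : (x : M4 F).det = 1 := by
    have h1 : Matrix.GeneralLinearGroup.det x = 1 := hxS
    have h3 := congrArg (fun t : Fˣ => (t : F)) h1
    simpa using h3
  have hXX : (x : M4 F) * (x : M4 F) = z • (1 : M4 F) := by
    rw [← hz, pow_two]
    rfl
  have hz0 : z ≠ 0 := by
    rintro rfl
    rw [zero_smul] at hXX
    have h1 := congrArg Matrix.det hXX
    simp [Matrix.det_mul, hdet] at h1
  -- the context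
  have hH : Cfsg.Agent.Lib.helper3.S5953.HCtx p 2 z (Matrix.toLin' (x : M4 F)) := by
    refine ⟨?_, ?_, hz0⟩
    · intro u v
      rw [Matrix.toLin'_apply, Matrix.toLin'_apply]
      exact hxU u v
    · rw [← Matrix.toLin'_pow, pow_two, hXX, map_smul, Matrix.toLin'_one]
      rfl
  have hz1 : z ^ (p + 1) = 1 := Cfsg.Agent.Lib.helper3.S5953.z_norm hH
  -- a square root of norm one
  have hw : ∃ w : F, w ^ (p + 1) = 1 ∧ w ^ 2 = z := by
    rcases Cfsg.Agent.Lib.helper3.S5953.two_dich hF h2 z hz1 with h | ⟨μ, hμ, hμz⟩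
    · exact h
    · exfalso
      have hμ0 : μ ≠ 0 := by
        rintro rfl
        rw [zero_pow (by norm_num)] at hμz
        exact hz0 hμz.symm
      have hhalf := Cfsg.Agent.Lib.helper3.S5953.s5953r3h16_half hF h2 hH μ hμ hμz
      -- the involution `y = μ⁻¹ x`
      set y : Module.End F (Fin 4 → F) := μ⁻¹ • Matrix.toLin' (x : M4 F) with hy
      have hpow : Matrix.toLin' (x : M4 F) ^ 2 = z • 1 := hH.pow
      have hy2 : y ^ 2 = 1 := by
        rw [hy, _root_.smul_pow, hpow, smul_smul, ← hμz, inv_pow, inv_mul_cancel₀ (pow_ne_zero 2 hμ0),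
          one_smul]
      have hker : LinearMap.ker (y + 1) =
          LinearMap.ker (Matrix.toLin' (x : M4 F) + μ • (1 : Module.End F (Fin 4 → F))) := by
        ext v
        rw [LinearMap.mem_ker, LinearMap.mem_ker, hy, LinearMap.add_apply, LinearMap.add_apply,
          LinearMap.smul_apply, LinearMap.smul_apply, Module.End.one_apply]
        constructor
        · intro h
          have h3 := congrArg (fun t => μ • t) h
          simp only [smul_add, smul_smul, mul_inv_cancel₀ hμ0, one_smul, smul_zero] at h3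
          exact h3
        · intro h
          have h3 := congrArg (fun t => μ⁻¹ • t) h
          simp only [smul_add, smul_smul, inv_mul_cancel₀ hμ0, one_smul, smul_zero] at h3
          exact h3
      have hdety := Cfsg.Agent.Lib.helper3.S5953.invol_det h2 y hy2
      rw [hker] at hdety
      have hfr : Module.finrank F (LinearMap.ker (Matrix.toLin' (x : M4 F) +
          μ • (1 : Module.End F (Fin 4 → F)))) = 2 := by omega
      rw [hfr] at hdety
      have hdetx : LinearMap.det (Matrix.toLin' (x : M4 F)) = μ ^ 4 := by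
        have h3 : Matrix.toLin' (x : M4 F) = μ • y := by
          rw [hy, smul_smul, mul_inv_cancel₀ hμ0, one_smul]
        rw [h3, LinearMap.det_smul, Module.finrank_fin_fun, hdety]
        norm_num
      rw [LinearMap.det_toLin', hdet] at hdetx
      -- `4 ∣ p + 1`
      obtain ⟨t, ht⟩ : ∃ t, p + 1 = 4 * t := ⟨(p + 1) / 4, by omega⟩
      rw [ht, pow_mul, ← hdetx, one_pow] at hμ
      apply h2
      have : (2 : F) = 1 - (-1) := by ring
      rw [this, ← hμ, sub_self]
  obtain ⟨w, hw1, hwz⟩ := hw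
  have hw0 : w ≠ 0 := by
    rintro rfl
    rw [zero_pow (by norm_num)] at hwz
    exact hz0 hwz.symm
  -- the involution `u = w⁻¹ x`
  have hwinv : w⁻¹ * (w⁻¹) ^ p = 1 := by
    rw [← pow_succ', inv_pow, hw1, inv_one]
  have hU : IsU p (w⁻¹ • (x : M4 F)) := by
    have hxI : IsU p (x : M4 F) := c6uw1_isU_of_mem x hxU
    unfold IsU gram at hxI ⊢
    rw [Matrix.transpose_smul]
    have hmap : (w⁻¹ • (x : M4 F)).map (fun a => a ^ p) =
        (w⁻¹) ^ p • (x : M4 F).map (fun a => a ^ p) := by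
      ext a b
      simp [mul_pow]
    rw [hmap, Matrix.smul_mul, Matrix.mul_smul, smul_smul, hxI, hwinv, one_smul]
  have huu : (w⁻¹ • (x : M4 F)) * (w⁻¹ • (x : M4 F)) = 1 := by
    rw [Matrix.smul_mul, Matrix.mul_smul, smul_smul, hXX, smul_smul, ← hwz, ← pow_two, inv_pow,
      inv_mul_cancel₀ (pow_ne_zero 2 hw0), one_smul]
  obtain ⟨j, B, hj4, hBU, hBD⟩ := nf_two hF h2 (w⁻¹ • (x : M4 F)) hU huu
  have hBB : (B : M4 F) * ((B⁻¹ : GL (Fin 4) F) : M4 F) = 1 := Units.mul_inv B
  have hBB' : ((B⁻¹ : GL (Fin 4) F) : M4 F) * (B : M4 F) = 1 := Units.inv_mul B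
  -- `u = B D B⁻¹`
  have hu_eq : w⁻¹ • (x : M4 F) = (B : M4 F) * D2 F j * ((B⁻¹ : GL (Fin 4) F) : M4 F) := by
    rw [← hBD]
    calc w⁻¹ • (x : M4 F) = ((B : M4 F) * ((B⁻¹ : GL (Fin 4) F) : M4 F)) * (w⁻¹ • (x : M4 F)) *
          ((B : M4 F) * ((B⁻¹ : GL (Fin 4) F) : M4 F)) := by rw [hBB, Matrix.one_mul, Matrix.mul_one]
      _ = _ := by simp only [Matrix.mul_assoc]
  have hxw : ∀ c : F, D2 F j = c • (1 : M4 F) → False := by
    intro c hc
    apply hns (w * c)
    have h3 : (x : M4 F) = w • (w⁻¹ • (x : M4 F)) := by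
      rw [smul_smul, mul_inv_cancel₀ hw0, one_smul]
    rw [h3, hu_eq, hc, Matrix.mul_smul, Matrix.mul_one, Matrix.smul_mul, hBB, smul_smul]
  have hj1 : 1 ≤ j := by
    by_contra hj
    have hj0 : j = 0 := by omega
    apply hxw (-1)
    rw [hj0]
    unfold D2
    ext a b
    by_cases hab : a = b
    · subst hab
      simp
    · simp [Matrix.diagonal_apply_ne _ hab, Matrix.one_apply_ne hab]
  have hj3 : j ≤ 3 := by
    by_contra hj
    have hj4' : j = 4 := by omega
    apply hxw 1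
    rw [hj4', one_smul]
    unfold D2
    rw [← Matrix.diagonal_one]
    congr 1
    funext k
    have := k.2
    rw [if_pos (by omega)]
  -- the witness
  have hW := c6uw2_h16 (p := p) hPstd h2 j hj1 hj3
  have hWt := nrmu_transport hF R P hPU (D2 F j) hW
  have hPinvU : IsU p (((P⁻¹ : GL (Fin 4) F)) : M4 F) :=
    c6uw1_isU_of_mem P⁻¹ (Subgroup.inv_mem _ hPU)
  refine uconj hF R x hx w hw1 (((P⁻¹ : GL (Fin 4) F) : M4 F) * D2 F j * (P : M4 F)) hWt.1
    1 (D2 F j) B P⁻¹ hBU hPinvU hBD ?_ (fun δ hδ => c6ue2h16_C j δ hδ)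
  rw [inv_inv]
  have hPP : (P : M4 F) * ((P⁻¹ : GL (Fin 4) F) : M4 F) = 1 := Units.mul_inv P
  calc (P : M4 F) * (((P⁻¹ : GL (Fin 4) F) : M4 F) * D2 F j * (P : M4 F)) *
        ((P⁻¹ : GL (Fin 4) F) : M4 F)
      = ((P : M4 F) * ((P⁻¹ : GL (Fin 4) F) : M4 F)) * D2 F j *
          ((P : M4 F) * ((P⁻¹ : GL (Fin 4) F) : M4 F)) := by simp only [Matrix.mul_assoc]
    _ = D2 F j := by rw [hPP, Matrix.one_mul, Matrix.mul_one]

end fin

end Cfsg.Agent.Lib.helper3.C6U
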