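import Mathlib
import Cfsg.Agent.Lib.Helper28.CD3.Defs
import Cfsg.Agent.S0176

/-!
# Project CD3 (S4460), piece BTOP (core) : `F(G) ≠ G`

If `F = G` then `G` is a `q`-group, hence an M-group (S0176), and Taketa's theorem (piece TAK2, here a hypothesis)
gives `G''' = 1`.
-/

set_option autoImplicit false
open scoped commutatorElement

namespace Cfsg.Agent.Lib.Helper28.CD3

universe u

section partB
variable {G : Type u} [Group G] [Finite G]

/-- BTOP with the statement of TAK2 (for `G`, `k = 3`) as a hypothesis -/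
theorem cd3btop_core {m n q : ℕ} {F : Subgroup G} (h : BData G m n q F)
    (hTak : ∀ [Fintype G],
      (∀ χ : G → ℂ, Cfsg.IsIrrCharacter G χ →
        ∃ (H : Subgroup G) (lam : H →* ℂˣ), χ = Cfsg.indFun H (fun h => ((lam h : ℂˣ) : ℂ))) →
      (Cfsg.charDegrees G).ncard ≤ 3 → derivedSeries G 3 = ⊥) : F ≠ ⊤ := by
  classical
  intro hF
  letI : Fintype G := Fintype.ofFinite G
  haveI : Fact q.Prime := ⟨h.hq⟩
  -- `G` is a `q`-group, hence nilpotent
  have hGq : IsPGroup q G := by
    intro g
    obtain ⟨k, hk⟩ := h.hFq ⟨g, by rw [hF]; exact Subgroup.mem_top g⟩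
    refine ⟨k, ?_⟩
    have := congrArg Subtype.val hk
    simpa using this
  haveI : Group.IsNilpotent G := hGq.isNilpotent
  apply h.hce.hne
  apply hTak
  · intro χ hχ
    exact Cfsg.Agent.S0176.result χ hχ
  · rw [h.hce.hcd]
    have e : ({1, m, n} : Set ℕ) = ((({1, m, n} : Finset ℕ)) : Set ℕ) := by
      simp
    rw [e, Set.ncard_coe_finset]
    exact Finset.card_le_three

end partB

end Cfsg.Agent.Lib.Helper28.CD3
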