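import Mathlib
import Cfsg.Agent.Lib.Helper28.CD3.Defs
import Cfsg.Agent.Lib.Helper16.CD3BTOPcore
import Cfsg.Agent.Lib.helper2.CD3TAK2

/-!
# Project CD3 (S4460), piece BTOP : `F(G) ≠ G`
-/

set_option autoImplicit false
open scoped commutatorElement

namespace Cfsg.Agent.Lib.Helper28.CD3

universe u

section partB
variable {G : Type u} [Group G] [Finite G]

-- piece BTOP
theorem F_ne_top {m n q : ℕ} {F : Subgroup G} (h : BData G m n q F) : F ≠ ⊤ :=
  cd3btop_core h (fun hM hk => taketa_card hM 3 hk)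

end partB

end Cfsg.Agent.Lib.Helper28.CD3
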