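import Mathlib
import Cfsg.Agent.Lib.Helper28.CD3.Defs
import Cfsg.Agent.Lib.Helper25.Gagola
import Cfsg.Agent.Lib.Helper25.ExtraspecialUnique

/-!
# Project CD3 (S4460), piece KER : the kernel of an irreducible character
-/

set_option autoImplicit false
open scoped commutatorElement

namespace Cfsg.Agent.Lib.Helper28.CD3

universe u

section basics
variable {G : Type u} [Group G] [Finite G]

-- piece KER
theorem ker_normal (χ : Cfsg.IrrCharacter G) :
    ∃ K : Subgroup G, K.Normal ∧ ∀ g : G, g ∈ K ↔ (χ : G → ℂ) g = (χ : G → ℂ) 1 :=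
  ⟨Cfsg.Agent.Lib.Helper25.irrKer χ, inferInstance,
    fun g => Cfsg.Agent.Lib.Helper25.mem_irrKer χ g⟩

theorem linear_of_commutator_le_ker (χ : Cfsg.IrrCharacter G)
    (h : ∀ g ∈ commutator G, (χ : G → ℂ) g = (χ : G → ℂ) 1) :
    Cfsg.charDegree (χ : G → ℂ) = 1 := by
  have h1 : (χ : G → ℂ) 1 = 1 := Cfsg.Agent.Lib.Helper25.xs_linear_of_comm_le_ker χ h
  unfold Cfsg.charDegree
  rw [h1]
  simp

end basics

end Cfsg.Agent.Lib.Helper28.CD3
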