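import Mathlib
import Cfsg.Agent.Lib.Helper28.CD3.Defs
import Cfsg.Agent.Lib.Helper16.CD3KER

/-!
# Project CD3 (S4460), piece FAITH : in the case `G' ≤ G'''` every nonlinear irreducible character is faithful
-/

set_option autoImplicit false
open scoped commutatorElement

namespace Cfsg.Agent.Lib.Helper28.CD3

universe u

section partA
variable {G : Type u} [Group G] [Finite G]

-- piece FAITH
theorem faithful_of_commutator_le {m n : ℕ} (h : MinCE G m n)
    (hc : commutator G ≤ derivedSeries G 3) (χ : Cfsg.IrrCharacter G)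
    (hχ : Cfsg.charDegree (χ : G → ℂ) ≠ 1) :
    ∀ g : G, (χ : G → ℂ) g = (χ : G → ℂ) 1 → g = 1 := by
  obtain ⟨K, hKn, hK⟩ := ker_normal χ
  have hKbot : K = ⊥ := by
    by_contra hne
    have hle : derivedSeries G 3 ≤ K := h.hmin K hKn hne
    apply hχ
    apply linear_of_commutator_le_ker χ
    intro g hg
    exact (hK g).mp (hle (hc hg))
  intro g hg
  have : g ∈ K := (hK g).mpr hg
  rw [hKbot] at this
  exact Subgroup.mem_bot.mp this

end partA

end Cfsg.Agent.Lib.Helper28.CD3
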