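import Mathlib
import Cfsg.Agent.Lib.Helper28.CD3.Defs
import Cfsg.Agent.Lib.Helper1.CFitting

/-!
# Project CD3 (S4460), piece FIT : the Fitting subgroup of a solvable minimal counterexample
-/

set_option autoImplicit false
open scoped commutatorElement

namespace Cfsg.Agent.Lib.Helper28.CD3

universe u

section partB
variable {G : Type u} [Group G] [Finite G]

open Cfsg.Agent.Lib.Helper1 in
-- piece FIT
theorem fitting_facts {m n : ℕ} (h : MinCE G m n) (hs : Group.IsSolvable G) :
    ∃ (q : ℕ) (F : Subgroup G), BData G m n q F := by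
  classical
  haveI := hs
  -- the Fitting subgroup is nontrivial
  have hFne : Cfsg.fittingSubgroup G ≠ ⊥ := by
    intro h0
    have hc := centralizer_fittingSubgroup_le (G := G)
    rw [h0] at hc
    apply h.hne
    rw [Subgroup.eq_bot_iff_forall]
    intro g _
    have hg : g ∈ Subgroup.centralizer ((⊥ : Subgroup G) : Set G) := by
      rw [Subgroup.mem_centralizer_iff]
      intro x hx
      have hx1 : x = 1 := Subgroup.mem_bot.mp hx
      rw [hx1, one_mul, mul_one]
    exact Subgroup.mem_bot.mp (hc hg)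
  -- some `O_q(G)` is nontrivial
  have hex : ∃ q : Nat.Primes, Cfsg.pCore (q : ℕ) G ≠ ⊥ := by
    by_contra hall
    apply hFne
    rw [fittingSubgroup_eq_iSup_pCore]
    apply le_antisymm _ bot_le
    apply iSup_le
    intro q
    by_contra hq
    apply hall
    refine ⟨q, fun h0 => hq ?_⟩
    rw [h0]
  obtain ⟨q, hq⟩ := hex
  haveI : Fact (q : ℕ).Prime := ⟨q.2⟩
  have hM : derivedSeries G 3 ≤ Cfsg.pCore (q : ℕ) G :=
    h.hmin _ (pCore_normal (q : ℕ)) hq
  have hMq : IsPGroup (q : ℕ) (derivedSeries G 3) := (pCore_isPGroup (G := G) (q : ℕ)).to_le hM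
  have hq' : ∀ N : Subgroup G, N.Normal → (Nat.card N).Coprime (q : ℕ) → N = ⊥ := by
    intro N hN hcop
    by_contra hne
    have hMN : derivedSeries G 3 ≤ N := h.hmin N hN hne
    obtain ⟨k, hk⟩ := IsPGroup.iff_card.mp hMq
    have hdvd : Nat.card (derivedSeries G 3) ∣ Nat.card N := Subgroup.card_dvd_of_le hMN
    rcases Nat.eq_zero_or_pos k with hk0 | hkpos
    · apply h.hne
      rw [hk0, pow_zero] at hk
      exact Subgroup.card_eq_one.mp hk
    · have hqd : (q : ℕ) ∣ Nat.card N := by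
        refine dvd_trans ?_ hdvd
        rw [hk]
        exact dvd_pow_self _ (Nat.pos_iff_ne_zero.mp hkpos)
      have h1 : (q : ℕ) ∣ 1 := by
        have := Nat.dvd_gcd hqd (dvd_refl (q : ℕ))
        rwa [Nat.Coprime.gcd_eq_one hcop] at this
      exact q.2.one_lt.ne' (Nat.dvd_one.mp h1)
  have hpp : Cfsg.pPrimeCore (q : ℕ) G = ⊥ :=
    hq' _ (pPrimeCore_normal (q : ℕ)) (pPrimeCore_card_coprime (q : ℕ))
  have hFit : Cfsg.fittingSubgroup G = Cfsg.pCore (q : ℕ) G :=
    fittingSubgroup_eq_pCore_of_pPrimeCore_eq_bot (q : ℕ) hpp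
  exact ⟨(q : ℕ), Cfsg.pCore (q : ℕ) G,
    ⟨h, hs, q.2, pCore_normal (q : ℕ), pCore_isPGroup (q : ℕ), hFit.symm,
      centralizer_pCore_le (q : ℕ) hpp, fun N hN hNq => le_pCore hN hNq, hq'⟩⟩

end partB

end Cfsg.Agent.Lib.Helper28.CD3
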