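import Mathlib
import Cfsg.Agent.Lib.Helper28.CD3.Defs
import Cfsg.Agent.Lib.Helper25.CharBasic
import Cfsg.Agent.Lib.Helper25.CharLinear
import Cfsg.Agent.Lib.Helper25.CharAbelian
import Cfsg.Agent.Lib.Helper25.CharNormal
import Cfsg.Agent.Lib.Helper25.CharReal
import Cfsg.Agent.Lib.Helper25.ExtraspecialUnique
import Cfsg.Agent.Lib.Helper11.AbelianQuot
import Cfsg.Agent.Lib.helper2.CharNat
import Cfsg.Agent.Lib.helper7.CharMul

/-!
# Project CD3 (S4460), piece RHO2 (core): a faithful `ψ` of degree `n` kills `[χψ, χ']`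

`cd(G) = {1, m, n}`, `gcd(m, n) = 1`, `χ, χ'` of degree `m`, `ψ` faithful of degree `n`; with RHO1 as a hypothesis.
-/

set_option autoImplicit false
set_option linter.unusedVariables false
set_option linter.style.haveILetI false
open scoped commutatorElement ComplexConjugate

namespace Cfsg.Agent.Lib.Helper28.CD3

universe u

open Cfsg.Agent.Lib.Helper25

/-- the degree of an irreducible character as a complex number -/
theorem cd3rho2_deg {G : Type u} [Group G] (ξ : Cfsg.IrrCharacter G) :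
    (ξ : G → ℂ) 1 = (Cfsg.charDegree (ξ : G → ℂ) : ℂ) := (charDegree_irr ξ).1.symm

/-- `χψ` has no linear constituent when the degrees of `χ` and `ψ` differ -/
theorem cd3rho2_nolin {G : Type u} [Group G] [Fintype G] (χ ψ lam : Cfsg.IrrCharacter G)
    (hl : Cfsg.charDegree (lam : G → ℂ) = 1)
    (hne : Cfsg.charDegree (χ : G → ℂ) ≠ Cfsg.charDegree (ψ : G → ℂ)) :
    Cfsg.classInner ((χ : G → ℂ) * (ψ : G → ℂ)) (lam : G → ℂ) = 0 := by
  classical
  have hl1 : (lam : G → ℂ) 1 = 1 := by rw [cd3rho2_deg, hl]; simp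
  -- the irreducible character `lam * conj χ`
  have hirr : Cfsg.IsIrrCharacter G
      (fun g => ((irrLinearHom lam hl1 g : ℂˣ) : ℂ) * (irrConj χ : G → ℂ) g) :=
    Cfsg.Agent.Lib.Helper11.isIrr_linChar_mul (irrLinearHom lam hl1) _ (irrConj χ).2
  set ξ : Cfsg.IrrCharacter G := ⟨_, hirr⟩ with hξ
  have hval : ∀ g, (ξ : G → ℂ) g = (lam : G → ℂ) g * conj ((χ : G → ℂ) g) := by
    intro g
    show ((irrLinearHom lam hl1 g : ℂˣ) : ℂ) * (irrConj χ : G → ℂ) g = _
    rw [irrLinearHom_apply, irrConj_apply]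
  have hψξ : ψ ≠ ξ := by
    intro e
    apply hne
    have h1 : (ψ : G → ℂ) 1 = (ξ : G → ℂ) 1 := by rw [e]
    rw [hval, hl1, one_mul, cd3rho2_deg, cd3rho2_deg, Complex.conj_natCast] at h1
    exact_mod_cast h1.symm
  have h0 := irr_classInner ψ ξ
  rw [if_neg hψξ] at h0
  rw [← h0]
  unfold Cfsg.classInner
  congr 1
  apply Finset.sum_congr rfl
  intro g _
  rw [hval, Pi.mul_apply, map_mul, Complex.conj_conj]
  ring

/-- pure arithmetic: `m n = m A + n B`, `gcd(m,n) = 1`, `A ≥ 1` force `A = n`, `B = 0` -/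
theorem cd3rho2_arith {m n A B : ℕ} (hm : 1 < m) (hmn : m < n) (hcop : m.Coprime n)
    (h : m * n = m * A + n * B) (hA : 1 ≤ A) : A = n ∧ B = 0 := by
  have hn0 : 0 < n := by omega
  have hdvd : n ∣ m * A := by
    have : n ∣ m * A + n * B := by rw [← h]; exact dvd_mul_left n m
    exact (Nat.dvd_add_left (dvd_mul_right n B)).mp this
  have hdvdA : n ∣ A := (Nat.Coprime.dvd_mul_left hcop.symm).mp hdvd
  have hle : m * A ≤ m * n := by rw [h]; exact Nat.le_add_right _ _
  have hAle : A ≤ n := Nat.le_of_mul_le_mul_left hle (by omega)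
  have hAn : A = n := Nat.le_antisymm hAle (Nat.le_of_dvd (by omega) hdvdA)
  refine ⟨hAn, ?_⟩
  rw [hAn] at h
  have : n * B = 0 := by omega
  rcases Nat.mul_eq_zero.mp this with h1 | h1
  · omega
  · exact h1

/-- RHO2 with RHO1 as a hypothesis -/
theorem cd3rho2_core {G : Type u} [Group G] [Fintype G] {m n : ℕ} (hm : 1 < m) (hmn : m < n)
    (hcop : m.Coprime n) (hcd : Cfsg.charDegrees G = {1, m, n})
    (hR1 : ∀ χ χ' ψ : Cfsg.IrrCharacter G, Cfsg.charDegree (χ : G → ℂ) = m →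
      Cfsg.charDegree (χ' : G → ℂ) = m → Cfsg.charDegree (ψ : G → ℂ) = n →
      (∀ μ : Cfsg.IrrCharacter G, Cfsg.charDegree (μ : G → ℂ) = 1 →
        (χ' : G → ℂ) ≠ (μ : G → ℂ) * (χ : G → ℂ)) →
      Cfsg.classInner ((χ : G → ℂ) * (ψ : G → ℂ)) (χ' : G → ℂ) = 0)
    (χ χ' ψ : Cfsg.IrrCharacter G)
    (hχ : Cfsg.charDegree (χ : G → ℂ) = m) (hχ' : Cfsg.charDegree (χ' : G → ℂ) = m)
    (hψ : Cfsg.charDegree (ψ : G → ℂ) = n)
    (hfaith : ∀ g : G, (ψ : G → ℂ) g = (ψ : G → ℂ) 1 → g = 1) :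
    Cfsg.classInner ((χ : G → ℂ) * (ψ : G → ℂ)) (χ' : G → ℂ) = 0 := by
  classical
  by_contra hne
  haveI : Fintype (Cfsg.IrrCharacter G) := Fintype.ofFinite _
  have hφ : Cfsg.IsCharacter G ((χ : G → ℂ) * (ψ : G → ℂ)) :=
    Cfsg.Agent.Lib.helper7.h7_isCharacter_mul (Cfsg.Agent.Lib.helper2.isCharacter_of_irr χ)
      (Cfsg.Agent.Lib.helper2.isCharacter_of_irr ψ)
  obtain ⟨a, ha, hexp⟩ := Cfsg.Agent.Lib.helper2.isCharacter_expansion hφ
  -- the possible degrees
  have hdeg : ∀ ξ : Cfsg.IrrCharacter G, Cfsg.charDegree (ξ : G → ℂ) = 1 ∨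
      Cfsg.charDegree (ξ : G → ℂ) = m ∨ Cfsg.charDegree (ξ : G → ℂ) = n := by
    intro ξ
    have : Cfsg.charDegree (ξ : G → ℂ) ∈ Cfsg.charDegrees G := ⟨ξ, rfl⟩
    rw [hcd] at this
    simpa using this
  -- no linear constituents
  have hlin : ∀ ξ : Cfsg.IrrCharacter G, Cfsg.charDegree (ξ : G → ℂ) = 1 → a ξ = 0 := by
    intro ξ hξ
    have h0 := cd3rho2_nolin χ ψ ξ hξ (by rw [hχ, hψ]; omega)
    rw [ha ξ] at h0
    exact_mod_cast h0
  have haχ' : a χ' ≠ 0 := by
    intro h0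
    apply hne
    rw [ha χ', h0]
    simp
  -- the degree equation
  set A : ℕ := ∑ ξ : Cfsg.IrrCharacter G, if Cfsg.charDegree (ξ : G → ℂ) = m then a ξ else 0
    with hA
  set B : ℕ := ∑ ξ : Cfsg.IrrCharacter G, if Cfsg.charDegree (ξ : G → ℂ) = n then a ξ else 0
    with hB
  have hsum : m * n = m * A + n * B := by
    have h1 := congrFun hexp 1
    rw [Pi.mul_apply, cd3rho2_deg, cd3rho2_deg, hχ, hψ, Finset.sum_apply] at h1
    have h2 : ∀ ξ : Cfsg.IrrCharacter G, ((a ξ : ℂ) • (ξ : G → ℂ)) 1 =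
        ((m * (if Cfsg.charDegree (ξ : G → ℂ) = m then a ξ else 0) +
          n * (if Cfsg.charDegree (ξ : G → ℂ) = n then a ξ else 0) : ℕ) : ℂ) := by
      intro ξ
      rw [Pi.smul_apply, smul_eq_mul, cd3rho2_deg]
      rcases hdeg ξ with h | h | h
      · rw [hlin ξ h, h, if_neg (by omega), if_neg (by omega)]
        simp
      · rw [h, if_pos rfl, if_neg (by omega)]
        push_cast
        ring
      · rw [h, if_neg (by omega), if_pos rfl]
        push_cast
        ring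
    rw [Finset.sum_congr rfl (fun ξ _ => h2 ξ), ← Nat.cast_sum, ← Nat.cast_mul] at h1
    have h3 : m * n = ∑ ξ : Cfsg.IrrCharacter G,
        (m * (if Cfsg.charDegree (ξ : G → ℂ) = m then a ξ else 0) +
          n * (if Cfsg.charDegree (ξ : G → ℂ) = n then a ξ else 0)) := by exact_mod_cast h1
    rw [h3, Finset.sum_add_distrib, ← Finset.mul_sum, ← Finset.mul_sum]
  have hA1 : 1 ≤ A := by
    have : a χ' ≤ A := by
      rw [hA]
      have := Finset.single_le_sum (f := fun ξ : Cfsg.IrrCharacter G =>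
        if Cfsg.charDegree (ξ : G → ℂ) = m then a ξ else 0) (fun ξ _ => Nat.zero_le _)
        (Finset.mem_univ χ')
      simpa [hχ'] using this
    have : 0 < a χ' := Nat.pos_of_ne_zero haχ'
    omega
  obtain ⟨hAn, hB0⟩ := cd3rho2_arith hm hmn hcop hsum hA1
  -- no constituents of degree `n`
  have hn0 : ∀ ξ : Cfsg.IrrCharacter G, Cfsg.charDegree (ξ : G → ℂ) = n → a ξ = 0 := by
    intro ξ hξ
    have h1 := (Finset.sum_eq_zero_iff (s := Finset.univ) (f := fun ξ : Cfsg.IrrCharacter G =>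
      if Cfsg.charDegree (ξ : G → ℂ) = n then a ξ else 0)).mp (by rw [← hB]; exact hB0) ξ
      (Finset.mem_univ ξ)
    simpa [hξ] using h1
  -- the constituents of degree `m` are twists of `χ`
  have htw : ∀ ξ : Cfsg.IrrCharacter G, Cfsg.charDegree (ξ : G → ℂ) = m → a ξ ≠ 0 →
      ∃ μ : Cfsg.IrrCharacter G, Cfsg.charDegree (μ : G → ℂ) = 1 ∧
        (ξ : G → ℂ) = (μ : G → ℂ) * (χ : G → ℂ) := by
    intro ξ hξ haξ
    by_contra hno
    apply haξ
    have h0 := hR1 χ ξ ψ hχ hξ hψ (fun μ hμ e => hno ⟨μ, hμ, e⟩)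
    rw [ha ξ] at h0
    exact_mod_cast h0
  -- on the commutator subgroup `χψ = nχ`
  have hcomm : ∀ g ∈ commutator G, (χ : G → ℂ) g * (ψ : G → ℂ) g = (n : ℂ) * (χ : G → ℂ) g := by
    intro g hg
    have h1 := congrFun hexp g
    rw [Pi.mul_apply, Finset.sum_apply] at h1
    have h2 : ∀ ξ : Cfsg.IrrCharacter G, ((a ξ : ℂ) • (ξ : G → ℂ)) g =
        (((if Cfsg.charDegree (ξ : G → ℂ) = m then a ξ else 0 : ℕ)) : ℂ) * (χ : G → ℂ) g := by
      intro ξ
      rw [Pi.smul_apply, smul_eq_mul]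
      rcases hdeg ξ with h | h | h
      · rw [hlin ξ h, h, if_neg (by omega)]
        simp
      · rw [if_pos h]
        by_cases haξ : a ξ = 0
        · rw [haξ]; simp
        · obtain ⟨μ, hμ, e⟩ := htw ξ h haξ
          have hμ1 : (μ : G → ℂ) 1 = 1 := by rw [cd3rho2_deg, hμ]; simp
          rw [e, Pi.mul_apply, irr_linear_commutator μ hμ1 hg, one_mul]
      · rw [hn0 ξ h, h, if_neg (by omega)]
        simp
    rw [Finset.sum_congr rfl (fun ξ _ => h2 ξ), ← Finset.sum_mul, ← Nat.cast_sum, ← hA, hAn] at h1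
    exact h1
  -- `χ` vanishes on the nonidentity elements of the commutator subgroup
  have hvan : ∀ g ∈ commutator G, g ≠ 1 → (χ : G → ℂ) g = 0 := by
    intro g hg hg1
    by_contra h0
    apply hg1
    apply hfaith
    have h1 := hcomm g hg
    have h2 : (ψ : G → ℂ) g = (n : ℂ) := by
      have : (χ : G → ℂ) g * ((ψ : G → ℂ) g - (n : ℂ)) = 0 := by linear_combination h1
      rcases mul_eq_zero.mp this with h3 | h3
      · exact absurd h3 h0
      · linear_combination h3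
    rw [h2, cd3rho2_deg, hψ]
  -- hence the commutator subgroup lies in the kernel of `χ`, and `χ` is linear
  haveI : Fintype (commutator G) := Fintype.ofFinite _
  have hs : ∑ w : commutator G, (χ : G → ℂ) ((1 : G) * (w : G)) = (m : ℂ) := by
    rw [Finset.sum_eq_single (1 : commutator G)]
    · simp only [Subgroup.coe_one, mul_one]
      rw [cd3rho2_deg, hχ]
    · intro w _ hw
      rw [one_mul]
      exact hvan w w.2 (fun h => hw (Subtype.ext h))
    · intro h
      exact absurd (Finset.mem_univ _) h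
  have hker : ∀ w ∈ commutator G, (χ : G → ℂ) w = (χ : G → ℂ) 1 := by
    by_contra hno
    push Not at hno
    have h0 := irr_sum_normal χ (commutator G) hno 1
    rw [hs] at h0
    have : (m : ℂ) ≠ 0 := by
      have : m ≠ 0 := by omega
      exact_mod_cast this
    exact this h0
  have h1 : (χ : G → ℂ) 1 = 1 := xs_linear_of_comm_le_ker χ hker
  rw [cd3rho2_deg, hχ] at h1
  have : m = 1 := by exact_mod_cast h1
  omega

end Cfsg.Agent.Lib.Helper28.CD3
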