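import Mathlib
import Cfsg.Agent.Lib.Helper28.CD3.Defs
import Cfsg.Agent.Lib.Helper28.CD3RHO3
import Cfsg.Agent.Lib.Helper16.CD3RHO2core

/-!
# Project CD3 (S4460), piece RHO1 (backup copy under the name `cd3rho1b`): the regular character trick, step 1

`cd(G) = {1, m, n}`, `gcd(m, n) = 1`, `m < n`; `χ, χ'` of degree `m` with `χ'` not a linear twist of `χ`, `ψ` of degree
`n`: then `[χψ, χ'] = 0`.  Proof: `m² = [χρ, χ'] = ∑ ξ(1) [χξ, χ'] = m c + n e`, so `e = 0`.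
-/

set_option autoImplicit false
set_option linter.unusedVariables false
set_option linter.style.haveILetI false
open scoped commutatorElement ComplexConjugate

namespace Cfsg.Agent.Lib.Helper28.CD3

universe u

open Cfsg.Agent.Lib.Helper25

/-- pure arithmetic: `m c + n e = m m`, `gcd(m,n) = 1`, `m < n` force `e = 0` -/
theorem cd3rho1b_arith {m n c e : ℕ} (hm : 1 < m) (hmn : m < n) (hcop : m.Coprime n)
    (h : m * c + n * e = m * m) : e = 0 := by
  have hcle : m * c ≤ m * m := by rw [← h]; exact Nat.le_add_right _ _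
  have hc : c ≤ m := Nat.le_of_mul_le_mul_left hcle (by omega)
  obtain ⟨d, rfl⟩ : ∃ d, m = c + d := ⟨m - c, by omega⟩
  have h2 : n * e = (c + d) * d := by
    have : (c + d) * (c + d) = (c + d) * c + (c + d) * d := by ring
    omega
  have hdvd : n ∣ (c + d) * d := ⟨e, h2.symm⟩
  have hdvd' : n ∣ d := (Nat.Coprime.dvd_mul_left hcop.symm).mp hdvd
  have hd0 : d = 0 := by
    by_contra hd
    have := Nat.le_of_dvd (Nat.pos_of_ne_zero hd) hdvd'
    omega
  rw [hd0, mul_zero] at h2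
  rcases Nat.mul_eq_zero.mp h2 with h3 | h3
  · omega
  · exact h3

/-- RHO1 (backup copy) -/
theorem cd3rho1b {G : Type u} [Group G] [Fintype G] {m n : ℕ} (hm : 1 < m) (hmn : m < n)
    (hcop : m.Coprime n) (hcd : Cfsg.charDegrees G = {1, m, n}) (χ χ' ψ : Cfsg.IrrCharacter G)
    (hχ : Cfsg.charDegree (χ : G → ℂ) = m) (hχ' : Cfsg.charDegree (χ' : G → ℂ) = m)
    (hψ : Cfsg.charDegree (ψ : G → ℂ) = n)
    (hne : ∀ μ : Cfsg.IrrCharacter G, Cfsg.charDegree (μ : G → ℂ) = 1 →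
      (χ' : G → ℂ) ≠ (μ : G → ℂ) * (χ : G → ℂ)) :
    Cfsg.classInner ((χ : G → ℂ) * (ψ : G → ℂ)) (χ' : G → ℂ) = 0 := by
  classical
  haveI : Fintype (Cfsg.IrrCharacter G) := Fintype.ofFinite _
  have hχc := Cfsg.Agent.Lib.helper2.isCharacter_of_irr χ
  -- the multiplicities `k ξ = [χ ξ, χ']`
  have hk : ∀ ξ : Cfsg.IrrCharacter G, ∃ k : ℕ,
      Cfsg.classInner ((χ : G → ℂ) * (ξ : G → ℂ)) (χ' : G → ℂ) = (k : ℂ) := fun ξ =>
    Cfsg.Agent.Lib.helper2.classInner_character_nat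
      (Cfsg.Agent.Lib.helper7.h7_isCharacter_mul hχc (Cfsg.Agent.Lib.helper2.isCharacter_of_irr ξ))
      (Cfsg.Agent.Lib.helper2.isCharacter_of_irr χ')
  choose k hk using hk
  have hdeg : ∀ ξ : Cfsg.IrrCharacter G, Cfsg.charDegree (ξ : G → ℂ) = 1 ∨
      Cfsg.charDegree (ξ : G → ℂ) = m ∨ Cfsg.charDegree (ξ : G → ℂ) = n := by
    intro ξ
    have : Cfsg.charDegree (ξ : G → ℂ) ∈ Cfsg.charDegrees G := ⟨ξ, rfl⟩
    rw [hcd] at this
    simpa using this
  -- linear `ξ` contribute nothing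
  have hlin : ∀ ξ : Cfsg.IrrCharacter G, Cfsg.charDegree (ξ : G → ℂ) = 1 → k ξ = 0 := by
    intro ξ hξ
    have hξ1 : (ξ : G → ℂ) 1 = 1 := by rw [cd3rho2_deg, hξ]; simp
    have hirr : Cfsg.IsIrrCharacter G
        (fun g => ((irrLinearHom ξ hξ1 g : ℂˣ) : ℂ) * (χ : G → ℂ) g) :=
      Cfsg.Agent.Lib.Helper11.isIrr_linChar_mul (irrLinearHom ξ hξ1) _ χ.2
    have hfun : (fun g => ((irrLinearHom ξ hξ1 g : ℂˣ) : ℂ) * (χ : G → ℂ) g) =
        (χ : G → ℂ) * (ξ : G → ℂ) := by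
      funext g
      rw [irrLinearHom_apply, Pi.mul_apply, mul_comm]
    set ζ : Cfsg.IrrCharacter G := ⟨_, hirr⟩ with hζ
    have hζχ' : ζ ≠ χ' := by
      intro e
      apply hne ξ hξ
      have : (χ' : G → ℂ) = (ζ : G → ℂ) := by rw [e]
      rw [this]
      show (fun g => ((irrLinearHom ξ hξ1 g : ℂˣ) : ℂ) * (χ : G → ℂ) g) = _
      rw [hfun, mul_comm]
    have h0 := irr_classInner ζ χ'
    rw [if_neg hζχ'] at h0
    have h1 : (ζ : G → ℂ) = (χ : G → ℂ) * (ξ : G → ℂ) := hfun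
    rw [h1, hk ξ] at h0
    exact_mod_cast h0
  -- the regular character identity
  have hreg := cd3rho3_reg_sum (χ : G → ℂ) χ'
  rw [cd3rho2_deg χ, cd3rho2_deg χ', hχ, hχ', Complex.conj_natCast] at hreg
  set c : ℕ := ∑ ξ : Cfsg.IrrCharacter G, if Cfsg.charDegree (ξ : G → ℂ) = m then k ξ else 0
    with hc
  set e : ℕ := ∑ ξ : Cfsg.IrrCharacter G, if Cfsg.charDegree (ξ : G → ℂ) = n then k ξ else 0
    with he
  have hsum : m * c + n * e = m * m := by
    have h2 : ∀ ξ : Cfsg.IrrCharacter G,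
        (ξ : G → ℂ) 1 * Cfsg.classInner ((χ : G → ℂ) * (ξ : G → ℂ)) (χ' : G → ℂ) =
        ((m * (if Cfsg.charDegree (ξ : G → ℂ) = m then k ξ else 0) +
          n * (if Cfsg.charDegree (ξ : G → ℂ) = n then k ξ else 0) : ℕ) : ℂ) := by
      intro ξ
      rw [hk ξ, cd3rho2_deg]
      rcases hdeg ξ with h | h | h
      · rw [hlin ξ h, h, if_neg (by omega), if_neg (by omega)]
        simp
      · rw [h, if_pos rfl, if_neg (by omega)]
        push_cast
        ring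
      · rw [h, if_neg (by omega), if_pos rfl]
        push_cast
        ring
    rw [Finset.sum_congr rfl (fun ξ _ => h2 ξ), ← Nat.cast_sum, ← Nat.cast_mul] at hreg
    have h3 : ∑ ξ : Cfsg.IrrCharacter G,
        (m * (if Cfsg.charDegree (ξ : G → ℂ) = m then k ξ else 0) +
          n * (if Cfsg.charDegree (ξ : G → ℂ) = n then k ξ else 0)) = m * m := by
      exact_mod_cast hreg
    rw [← h3, Finset.sum_add_distrib, ← Finset.mul_sum, ← Finset.mul_sum]
  have he0 : e = 0 := cd3rho1b_arith hm hmn hcop hsum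
  have h1 := (Finset.sum_eq_zero_iff (s := Finset.univ) (f := fun ξ : Cfsg.IrrCharacter G =>
    if Cfsg.charDegree (ξ : G → ℂ) = n then k ξ else 0)).mp (by rw [← he]; exact he0) ψ
    (Finset.mem_univ ψ)
  have hkψ : k ψ = 0 := by simpa [hψ] using h1
  rw [hk ψ, hkψ]
  simp

end Cfsg.Agent.Lib.Helper28.CD3
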