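import Mathlib
import Cfsg.Agent.Lib.Helper28.CD3.Defs
import Cfsg.Agent.Lib.Helper16.CD3RHO2core
import Cfsg.Agent.Lib.Helper16.CD3RHO1b

/-!
# Project CD3 (S4460), piece RHO2
-/

set_option autoImplicit false
open scoped commutatorElement

namespace Cfsg.Agent.Lib.Helper28.CD3

universe u

section partA
variable {G : Type u} [Group G] [Finite G]

theorem rho2 {G : Type u} [Group G] [Fintype G] {m n : ℕ} (hm : 1 < m) (hmn : m < n)
    (hcop : m.Coprime n) (hcd : Cfsg.charDegrees G = {1, m, n}) (χ χ' ψ : Cfsg.IrrCharacter G)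
    (hχ : Cfsg.charDegree (χ : G → ℂ) = m) (hχ' : Cfsg.charDegree (χ' : G → ℂ) = m)
    (hψ : Cfsg.charDegree (ψ : G → ℂ) = n)
    (hfaith : ∀ g : G, (ψ : G → ℂ) g = (ψ : G → ℂ) 1 → g = 1) :
    Cfsg.classInner ((χ : G → ℂ) * (ψ : G → ℂ)) (χ' : G → ℂ) = 0 :=
  cd3rho2_core hm hmn hcop hcd
    (fun χ χ' ψ hχ hχ' hψ hne => cd3rho1b hm hmn hcop hcd χ χ' ψ hχ hχ' hψ hne)
    χ χ' ψ hχ hχ' hψ hfaith

end partA

end Cfsg.Agent.Lib.Helper28.CD3
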