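import Mathlib
import Cfsg.Agent.Lib.Lead.STB.Defs
import Cfsg.Agent.Lib.Lead.STB.Defs2
import Cfsg.Agent.Lib.Lead.STB.Defs3
import Cfsg.Agent.Lib.Lead.STB.Defs4
import Cfsg.Agent.Lib.Lead.STB.Sub
import Cfsg.Agent.Lib.Helper20.STBX3

/-!
# Project STB (designer lead), part 3, rows K3 (`SysB.Rep.injective`), K4 (`SysB.Rep.ker_le_spin`) (helper16), CORES.

* `stbk3_core`: K3 with the statement of K2 `ker_trivial_aux` as a hypothesis.
* `stbk4_core`: K4 with the statements of K3 `SysB.Rep.injective` (for groups in the universe of `G`) and R8 `phi_hs_neg_one` as hypotheses.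
On X3 `XQ_map`, X4 `hs_neg_one_eq_all`, `hs_neg_one_sq`, `hs_neg_one_comm` (`Helper20.STBX3`).
-/

set_option autoImplicit false

namespace Cfsg.Agent.Lib.Lead.STB

open Matrix Cfsg.Agent.Lib.helper15.St2 Cfsg.Agent.Lib.helper3.STC Cfsg.Agent.Lib.Lead.STD

universe v w

/-- an element of `zpowers z` with `z * z = 1` is `1` or `z` -/
theorem stbk4_zpowers {G : Type*} [Group G] {z g : G} (hz : z * z = 1) (hg : g ∈ Subgroup.zpowers z) : g = 1 ∨ g = z := by
  obtain ⟨k, hk⟩ := Subgroup.mem_zpowers_iff.mp hg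
  subst hk
  have h2 : z ^ (2 : ℤ) = 1 := by
    rw [zpow_ofNat, pow_two, hz]
  rcases Int.even_or_odd' k with ⟨m, rfl | rfl⟩
  · left
    rw [_root_.zpow_mul, h2, _root_.one_zpow]
  · right
    rw [_root_.zpow_add, _root_.zpow_mul, h2, _root_.one_zpow, one_mul, zpow_one]

/-- K3 from the statement of K2 `ker_trivial_aux` -/
theorem stbk3_core {K : Type*} [Field K] [Finite K] {l : Type*} [Fintype l] [DecidableEq l] {ι : Type v} [Finite ι]
    {G : Type w} [Group G] {S : SysB K ι G}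
    (hK2 : ∀ (m : ℕ) (ι : Type v) [Finite ι] (G : Type w) [Group G] (S : SysB K ι G) (R : S.Rep l),
      Nat.card ι = m → S.Spin → S.XQ (fun _ _ => True) (fun _ => True) = ⊤ → ∀ g, R.φ g = 1 → g = 1)
    (R : S.Rep l) (hS : S.Spin) (hgen : S.XQ (fun _ _ => True) (fun _ => True) = ⊤) :
    Function.Injective R.φ := by
  rw [injective_iff_map_eq_one]
  exact hK2 (Nat.card ι) ι G S R rfl hS hgen

/-- K4 from the statements of K3 `SysB.Rep.injective` and R8 `phi_hs_neg_one` -/
theorem stbk4_core {K : Type*} [Field K] [Finite K] {l : Type*} [Fintype l] [DecidableEq l] {ι : Type v} [Finite ι]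
    {G : Type w} [Group G] {S : SysB K ι G}
    (hK3 : ∀ {G' : Type w} [Group G'] {S' : SysB K ι G'} (R' : S'.Rep l), S'.Spin →
      S'.XQ (fun _ _ => True) (fun _ => True) = ⊤ → Function.Injective R'.φ)
    (R : S.Rep l) (hR8 : ∀ a : ι ⊕ ι, R.φ (S.hs a (-1)) = 1)
    (hgen : S.XQ (fun _ _ => True) (fun _ => True) = ⊤) (a : ι ⊕ ι)
    (g : G) (hg : R.φ g = 1) : g = 1 ∨ g = S.hs a (-1) := by
  classical
  set z : G := S.hs a (-1) with hz
  have hzc : ∀ x : G, x * z = z * x := fun x => S.hs_neg_one_comm hgen a x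
  have hzz : z * z = 1 := S.hs_neg_one_sq a
  have hRz : R.φ z = 1 := hR8 a
  let N : Subgroup G := Subgroup.zpowers z
  have hNc : ∀ n ∈ N, ∀ x : G, x * n = n * x := by
    rintro _ ⟨k, rfl⟩ x
    have : Commute x z := hzc x
    exact this.zpow_right k
  have hNn : N.Normal := ⟨fun n hn x => by rw [hNc n hn x, mul_inv_cancel_right]; exact hn⟩
  have hNR : N ≤ R.φ.ker := by
    intro n hn
    obtain ⟨k, hk⟩ := Subgroup.mem_zpowers_iff.mp hn
    subst hk
    rw [MonoidHom.mem_ker, map_zpow, hRz, _root_.one_zpow]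
  let f : G →* G ⧸ N := QuotientGroup.mk' N
  have hfz : f z = 1 := (QuotientGroup.eq_one_iff z).mpr (Subgroup.mem_zpowers z)
  let S' : SysB K ι (G ⧸ N) := S.map f
  have hSpin : S'.Spin := by
    intro c
    show S'.hs c (-1) = 1
    rw [SysB.map_hs, S.hs_neg_one_eq_all c a]
    exact hfz
  have hgen' : S'.XQ (fun _ _ => True) (fun _ => True) = ⊤ := by
    show (S.map f).XQ (fun _ _ => True) (fun _ => True) = ⊤
    rw [S.XQ_map f, hgen, ← MonoidHom.range_eq_map, MonoidHom.range_eq_top]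
    exact QuotientGroup.mk'_surjective N
  let R' : S'.Rep l :=
    { e := R.e
      φ := QuotientGroup.lift N R.φ hNR
      hφ := fun a b h1 h2 t => R.hφ a b h1 h2 t
      hφs := fun a t => R.hφs a t }
  have hinj := hK3 R' hSpin hgen'
  have hfg : f g = 1 := by
    apply hinj
    rw [map_one]
    show QuotientGroup.lift N R.φ hNR (QuotientGroup.mk g) = 1
    rw [QuotientGroup.lift_mk]
    exact hg
  have hgN : g ∈ N := (QuotientGroup.eq_one_iff g).mp hfg
  exact stbk4_zpowers hzz hgN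

end Cfsg.Agent.Lib.Lead.STB
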