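import Mathlib
import Cfsg.Agent.Lib.helper6.CEB.Defs
import Cfsg.Agent.Lib.Helper20.STBR5s
import Cfsg.Agent.Lib.Helper16.STBK3core

/-!
# Project CEB (designer helper6), row M5 (helper16): `ker_le_hs` VERBATIM: the kernel of a representation of a generated system of type `B`
is contained in `{1, z}`, `z = S.hs a (-1)` the spin element.  On `Helper16.STBK3core` (`stbk4_core`, the core of STB K4) and STB R8
`SysB.Rep.phi_hs_neg_one` (`Helper20.STBR5s`).
-/

set_option autoImplicit false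

namespace Cfsg.Agent.Lib.helper6.CEB

open Cfsg.Agent.Lib.helper15.St2 Cfsg.Agent.Lib.helper7.Ce Cfsg.Agent.Lib.helper3.STC Cfsg.Agent.Lib.Lead.STD
  Cfsg.Agent.Lib.helper7.CED Cfsg.Agent.Lib.Lead.STB
open Cfsg.Agent.Lib.helper7.CEC (I2 I3 I4 U3)

universe v w w'

section M'

variable {K : Type*} [Field K] [Finite K]

/-- M5 [M] -/
theorem ker_le_hs {ι : Type v} [Finite ι] [DecidableEq ι] {G : Type w} [Group G] (S : SysB K ι G) {l : Type*} [Fintype l] [DecidableEq l]
    (R : S.Rep l) (hgen : S.XQ (fun _ _ => True) (fun _ => True) = ⊤)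
    (hinj : ∀ (H : Type w) [Group H] (S' : SysB K ι H) (R' : S'.Rep l), S'.Spin → S'.XQ (fun _ _ => True) (fun _ => True) = ⊤ →
      Function.Injective R'.φ)
    (a : ι ⊕ ι) (g : G) (hg : R.φ g = 1) : g = 1 ∨ g = S.hs a (-1) :=
  stbk4_core (fun {G'} _ {S'} R' hS' hgen' => hinj G' S' R' hS' hgen') R (fun a => SysB.Rep.phi_hs_neg_one R a) hgen a g hg

end M'

end Cfsg.Agent.Lib.helper6.CEB
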