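import Mathlib
import Cfsg.Agent.Lib.helper6.CEB.Defs
import Cfsg.Agent.Lib.Helper1.STBX1
import Cfsg.Agent.Lib.Helper16.CEBM5

/-!
# Project CEB (designer helper6), row M6 (helper16): `split_of_sysB` VERBATIM (model CED M6 `Helper18.CEDM6core`): a central extension of a group generated by a
system of type `B` with a representation and a nontrivial spin element splits as soon as the system lifts.  On M5 `ker_le_hs` (`Helper16.CEBM5`), STB X1 (`Helper1.STBX1`);
own-name copies `cebm6_res_gen` (= M1 `XQ_restrict_top`), `cebm6_map_hs` of the facts on restrictions.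
-/

set_option autoImplicit false

namespace Cfsg.Agent.Lib.helper6.CEB

open Cfsg.Agent.Lib.helper15.St2 Cfsg.Agent.Lib.helper7.Ce Cfsg.Agent.Lib.helper3.STC Cfsg.Agent.Lib.Lead.STD
  Cfsg.Agent.Lib.helper7.CED Cfsg.Agent.Lib.Lead.STB
open Cfsg.Agent.Lib.helper7.CEC (I2 I3 I4 U3)

universe v w w'

section M6aux

variable {K : Type*} [Field K]

/-- the restriction of a system to the subgroup generated by its root elements is generated -/
theorem cebm6_res_gen {ι : Type*} {Γ : Type*} [Group Γ] (Q : SysB K ι Γ)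
    (hL : ∀ a b t, Q.x a b t ∈ Q.XQ (fun _ _ => True) (fun _ => True)) (hLs : ∀ a t, Q.xs a t ∈ Q.XQ (fun _ _ => True) (fun _ => True)) :
    (Q.restrict (Q.XQ (fun _ _ => True) (fun _ => True)) hL hLs).XQ (fun _ _ => True) (fun _ => True) = ⊤ := by
  have h : ({g : Q.XQ (fun _ _ => True) (fun _ => True) | ∃ (a b : ι ⊕ ι) (t : K),
        a ≠ b ∧ a ≠ ng b ∧ True ∧ g = (Q.restrict (Q.XQ (fun _ _ => True) (fun _ => True)) hL hLs).x a b t} ∪
      {g : Q.XQ (fun _ _ => True) (fun _ => True) | ∃ (a : ι ⊕ ι) (t : K),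
        True ∧ g = (Q.restrict (Q.XQ (fun _ _ => True) (fun _ => True)) hL hLs).xs a t}) =
      ((↑) : Q.XQ (fun _ _ => True) (fun _ => True) → Γ) ⁻¹'
        ({g | ∃ a b t, a ≠ b ∧ a ≠ ng b ∧ True ∧ g = Q.x a b t} ∪ {g | ∃ a t, True ∧ g = Q.xs a t}) := by
    ext ⟨g, hg⟩
    constructor
    · rintro (⟨a, b, t, hab, hab', -, h⟩ | ⟨a, t, -, h⟩)
      · exact Or.inl ⟨a, b, t, hab, hab', trivial, congrArg Subtype.val h⟩
      · exact Or.inr ⟨a, t, trivial, congrArg Subtype.val h⟩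
    · rintro (⟨a, b, t, hab, hab', -, h⟩ | ⟨a, t, -, h⟩)
      · exact Or.inl ⟨a, b, t, hab, hab', trivial, Subtype.ext h⟩
      · exact Or.inr ⟨a, t, trivial, Subtype.ext h⟩
  show Subgroup.closure ({g : Q.XQ (fun _ _ => True) (fun _ => True) | ∃ (a b : ι ⊕ ι) (t : K),
        a ≠ b ∧ a ≠ ng b ∧ True ∧ g = (Q.restrict (Q.XQ (fun _ _ => True) (fun _ => True)) hL hLs).x a b t} ∪
      {g : Q.XQ (fun _ _ => True) (fun _ => True) | ∃ (a : ι ⊕ ι) (t : K),
        True ∧ g = (Q.restrict (Q.XQ (fun _ _ => True) (fun _ => True)) hL hLs).xs a t}) = ⊤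
  rw [h]
  exact Subgroup.closure_closure_coe_preimage

/-- a homomorphism matching the short root elements matches the short torus elements -/
theorem cebm6_map_hs {ι : Type*} {Γ G : Type*} [Group Γ] [Group G] (S : SysB K ι G) (Q : SysB K ι Γ) (σ : Γ →* G)
    (hQs : ∀ a t, σ (Q.xs a t) = S.xs a t) (a : ι ⊕ ι) (t : K) : σ (Q.hs a t) = S.hs a t := by
  unfold SysB.hs SysB.ws
  simp only [map_mul, hQs]

end M6aux

section M'

variable {K : Type*} [Field K] [Finite K]

/-- M6 [M-L] -/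
theorem split_of_sysB {ι : Type v} [Finite ι] [DecidableEq ι] {Γ : Type w} {G : Type w'} [Group Γ] [Group G] {l : Type*} [Fintype l] [DecidableEq l]
    (S : SysB K ι G) (R : S.Rep l) (hgen : S.XQ (fun _ _ => True) (fun _ => True) = ⊤) (a : ι ⊕ ι) (hspin : S.hs a (-1) ≠ 1) {σ : Γ →* G}
    (Q : SysB K ι Γ) (hQ : ∀ a b t, σ (Q.x a b t) = S.x a b t) (hQs : ∀ a t, σ (Q.xs a t) = S.xs a t)
    (hinj : ∀ (H : Type w) [Group H] (S' : SysB K ι H) (R' : S'.Rep l), S'.Spin → S'.XQ (fun _ _ => True) (fun _ => True) = ⊤ →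
      Function.Injective R'.φ) :
    ∃ s : G →* Γ, ∀ g, σ (s g) = g := by
  have hL : ∀ a b t, Q.x a b t ∈ Q.XQ (fun _ _ => True) (fun _ => True) := fun a b t => Q.x_mem_XQ trivial t
  have hLs : ∀ a t, Q.xs a t ∈ Q.XQ (fun _ _ => True) (fun _ => True) := fun a t => Q.xs_mem_XQ trivial t
  set Γ₀ : Subgroup Γ := Q.XQ (fun _ _ => True) (fun _ => True) with hΓ₀
  let τ : Γ₀ →* G := σ.comp Γ₀.subtype
  let Q₀ : SysB K ι Γ₀ := Q.restrict Γ₀ hL hLs
  let R₀ : Q₀.Rep l :=
    { e := R.e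
      φ := R.φ.comp τ
      hφ := fun a b hab hab' t => by
        have h := R.hφ a b hab hab' t
        rw [← hQ a b t] at h
        exact h
      hφs := fun a t => by
        have h := R.hφs a t
        rw [← hQs a t] at h
        exact h }
  have hker : ∀ g : Γ₀, τ g = 1 → g = 1 := by
    intro g hg
    have h1 : R₀.φ g = 1 := by
      show R.φ (τ g) = 1
      rw [hg, map_one]
    rcases ker_le_hs Q₀ R₀ (cebm6_res_gen Q hL hLs) hinj a g h1 with h | h
    · exact h
    · have h2 : τ (Q₀.hs a (-1)) = S.hs a (-1) :=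
        cebm6_map_hs S Q₀ τ (fun a t => hQs a t) a (-1)
      rw [← h, hg] at h2
      exact absurd h2.symm hspin
  have hτinj : Function.Injective τ := (injective_iff_map_eq_one τ).mpr hker
  have hτsurj : Function.Surjective τ := by
    rw [← MonoidHom.range_eq_top, eq_top_iff, ← hgen]
    show Subgroup.closure ({g | ∃ a b t, a ≠ b ∧ a ≠ ng b ∧ True ∧ g = S.x a b t} ∪ {g | ∃ a t, True ∧ g = S.xs a t}) ≤ τ.range
    rw [Subgroup.closure_le]
    rintro _ (⟨a, b, t, -, -, -, rfl⟩ | ⟨a, t, -, rfl⟩)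
    · exact ⟨⟨Q.x a b t, hL a b t⟩, hQ a b t⟩
    · exact ⟨⟨Q.xs a t, hLs a t⟩, hQs a t⟩
  let e : Γ₀ ≃* G := MulEquiv.ofBijective τ ⟨hτinj, hτsurj⟩
  refine ⟨Γ₀.subtype.comp e.symm.toMonoidHom, ?_⟩
  intro g
  show τ (e.symm g) = g
  exact e.apply_symm_apply g

end M'

end Cfsg.Agent.Lib.helper6.CEB
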