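import Mathlib
import Cfsg.Agent.Lib.helper6.CEB.Defs

/-!
# Project CEB (designer helper6), row M7 (helper16): `card_ge_five` VERBATIM: a finite field with `2 ≠ 0` and not of order `3` has at least `5` elements.
-/

set_option autoImplicit false

namespace Cfsg.Agent.Lib.helper6.CEB

open Cfsg.Agent.Lib.helper15.St2 Cfsg.Agent.Lib.helper7.Ce Cfsg.Agent.Lib.helper3.STC Cfsg.Agent.Lib.Lead.STD
  Cfsg.Agent.Lib.helper7.CED Cfsg.Agent.Lib.Lead.STB
open Cfsg.Agent.Lib.helper7.CEC (I2 I3 I4 U3)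

universe v w w'

section M'

variable {K : Type*} [Field K] [Finite K]

/-- M7 [S-M] -/
theorem card_ge_five [Fintype K] (h2 : (2 : K) ≠ 0) (h3 : Fintype.card K ≠ 3) : 5 ≤ Fintype.card K := by
  obtain ⟨p, hp⟩ := CharP.exists K
  obtain ⟨n, hpp, hq⟩ := FiniteField.card K p
  have hp2 : p ≠ 2 := by
    intro e
    subst e
    apply h2
    have := CharP.cast_eq_zero K 2
    exact_mod_cast this
  have hn : 1 ≤ (n : ℕ) := n.pos
  have hp3 : 3 ≤ p := by
    have := hpp.two_le
    omega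
  have hp4 : p ≠ 4 := by
    intro e
    subst e
    exact absurd hpp (by norm_num)
  rw [hq]
  rcases Nat.lt_or_ge p 5 with h5 | h5
  · have hp3' : p = 3 := by omega
    subst hp3'
    have hn2 : 2 ≤ (n : ℕ) := by
      rcases Nat.lt_or_ge (n : ℕ) 2 with h | h
      · exfalso
        have hn1 : (n : ℕ) = 1 := by omega
        apply h3
        rw [hq, hn1, pow_one]
      · exact h
    calc 5 ≤ 3 ^ 2 := by norm_num
      _ ≤ 3 ^ (n : ℕ) := Nat.pow_le_pow_right (by norm_num) hn2
  · calc 5 ≤ p := h5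
      _ = p ^ 1 := (pow_one p).symm
      _ ≤ p ^ (n : ℕ) := Nat.pow_le_pow_right (by omega) hn

end M'

end Cfsg.Agent.Lib.helper6.CEB
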