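import Mathlib
import Cfsg.Agent.Lib.helper7.CEC.Defs
import Cfsg.Agent.Lib.Helper24.STCI1

/-!
Project CEC (designer helper7; S2092), row Y4 `Ys_milnor` (helper16): Milnor's argument for the commutators `Ys` of lifts of short root
elements (port of `Ce.Y_milnor`).  Verbatim against `helper7/CEC/Skel.lean.txt`.  The facts of row Y1 which are used (`Ys_map`, `Ys_eq`)
are proved here under own names (`cecy4_*`), so the module waits for nothing.
-/

set_option autoImplicit false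

namespace Cfsg.Agent.Lib.helper7.CEC

open Cfsg.Agent.Lib.helper15.St2 Cfsg.Agent.Lib.helper7.Ce Cfsg.Agent.Lib.helper3.STC

section Y

variable {K : Type*} [Field K] {ι : Type*} {Γ G : Type*} [Group Γ] [Group G] {S : SysC K ι G} {σ : Γ →* G}

theorem cecy4_ne {a b : ι ⊕ ι} (hab : ab a ≠ ab b) : a ≠ b := fun e => hab (by rw [e])

theorem cecy4_ne_ng {a b : ι ⊕ ι} (hab : ab a ≠ ab b) : a ≠ ng b := fun e => hab (by rw [e, ab_ng])

/-- `cm (x a c t) (x c b u) = x a b (t * u)` -/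
theorem cecy4_cm_x {a c b : ι ⊕ ι} (hac : ab a ≠ ab c) (hcb : ab c ≠ ab b) (hab : ab a ≠ ab b) (t u : K) :
    cm (S.x a c t) (S.x c b u) = S.x a b (t * u) :=
  S.comm3 a c b (cecy4_ne hac) (cecy4_ne_ng hac) (cecy4_ne hcb) (cecy4_ne_ng hcb) (cecy4_ne hab) (cecy4_ne_ng hab) t u

/-- own-name copy of Y1 `Ys_map` -/
theorem cecy4_Ys_map (h : IsCE σ) {a c b : ι ⊕ ι} (hac : ab a ≠ ab c) (hcb : ab c ≠ ab b) (hab : ab a ≠ ab b) (t u : K) :
    σ (Ys S h a c b t u) = S.x a b (t * u) := by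
  unfold Ys
  rw [map_cm, map_lf, map_lf, cecy4_cm_x hac hcb hab]

/-- own-name copy of Y1 `Ys_eq` -/
theorem cecy4_Ys_eq (h : IsCE σ) {a c b : ι ⊕ ι} {t u : K} {p q : Γ} (hp : σ p = S.x a c t) (hq : σ q = S.x c b u) :
    cm p q = Ys S h a c b t u := by
  unfold Ys
  exact h.cm_congr (by rw [hp, map_lf]) (by rw [hq, map_lf])

/-- Y4 [M] -/
theorem Ys_milnor (h : IsCE σ) (hC : HC S σ) {a c e b : ι ⊕ ι} (hac : ab a ≠ ab c) (hae : ab a ≠ ab e) (hab : ab a ≠ ab b)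
    (hce : ab c ≠ ab e) (hcb : ab c ≠ ab b) (heb : ab e ≠ ab b) (s t : K) :
    Ys S h a c b s t = Ys S h a e b (s * t) 1 := by
  set A := lf h (S.x a c s) with hA
  set v := lf h (S.x c e t) with hv
  set w := lf h (S.x e b 1) with hw
  have sa : σ A = S.x a c s := map_lf h _
  have sv : σ v = S.x c e t := map_lf h _
  have sw : σ w = S.x e b 1 := map_lf h _
  have sr : σ (cm v w) = S.x c b t := by
    rw [map_cm, sv, sw, cecy4_cm_x hce heb hcb, mul_one]
  have sp : σ (cm A v) = S.x a e (s * t) := by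
    rw [map_cm, sa, sv, cecy4_cm_x hac hce hae]
  rw [← cecy4_Ys_eq h sa sr, ← cecy4_Ys_eq h sp sw]
  have hec : ab e ≠ ab c := fun x => hce x.symm
  have e1 : A * w = w * A :=
    hC a c e b (cecy4_ne hac) (cecy4_ne heb) (cecy4_ne hce) (cecy4_ne hab) (cecy4_ne_ng hcb) (cecy4_ne_ng hae) s 1 A w sa sw
  have e2 : cm A v * cm v w = cm v w * cm A v :=
    hC a e c b (cecy4_ne hae) (cecy4_ne hcb) (cecy4_ne hec) (cecy4_ne hab) (cecy4_ne_ng heb) (cecy4_ne_ng hac) (s * t) t _ _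
      sp sr
  have e3 : cm (cm A v) w * cm v w = cm v w * cm (cm A v) w :=
    hC a b c b (cecy4_ne hab) (cecy4_ne hcb) (cecy4_ne hcb).symm (cecy4_ne hab) (ne_ng b) (cecy4_ne_ng hac) (s * t * 1) t _ _
      (by rw [map_cm, sp, sw, cecy4_cm_x hae heb hab]) sr
  have e4 : cm A (cm v w) = cm A v * cm v w * (cm A v)⁻¹ * cm (cm A v) w * (cm v w)⁻¹ := by
    have e5 : cm A (cm v w) = cm (cm A v * v) (A * w * A⁻¹) * (cm v w)⁻¹ := by
      unfold cm; group
    rw [e5, e1, mul_inv_cancel_right, cm_mul_left]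
  rw [e4, e2, mul_inv_cancel_right, ← e3, mul_inv_cancel_right]

end Y

end Cfsg.Agent.Lib.helper7.CEC
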