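import Mathlib
import Cfsg.Agent.Lib.helper7.CEC.Defs
import Cfsg.Agent.Lib.Helper11.CECY2
import Cfsg.Agent.Lib.Helper25.CECY9
import Cfsg.Agent.Lib.Helper16.CECY10core

/-!
Project CEC (designer helper7; S2092), row Y10 `shortLift_A2`, VERBATIM (helper16):
on `cecy10_core`, `Helper11.CECY2` (`Ys_add_left`) and `Helper25.CECY9` (`Xs_sym`).
-/

set_option autoImplicit false

namespace Cfsg.Agent.Lib.helper7.CEC

open Cfsg.Agent.Lib.helper15.St2 Cfsg.Agent.Lib.helper7.Ce Cfsg.Agent.Lib.helper3.STC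

section Y

variable {K : Type*} [Field K] {ι : Type*} {Γ G : Type*} [Group Γ] [Group G] {S : SysC K ι G} {σ : Γ →* G}

theorem shortLift_A2 (h : IsCE σ) (hC : HC S σ) (h3 : I3 ι) (hB : PB S h) (hI : PI S h) :
    ∃ L : ShortLift S h, ∀ a b t, L.X a b t = Xs S h h3 a b t :=
  cecy10_core h h3 hB hI (fun hac hcb hab s s' t => Ys_add_left h hC hac hcb hab s s' t)
    (fun hab t => Xs_sym h hC h3 hB hI hab t)

end Y

end Cfsg.Agent.Lib.helper7.CEC
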