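import Mathlib
import Cfsg.Agent.Lib.helper7.CED.Defs
import Cfsg.Agent.Lib.Lead.SPN.Defs
import Cfsg.Agent.Lib.Helper24.STCI1
import Cfsg.Agent.Lib.Helper28.STDK3
import Cfsg.Agent.Lib.Helper29.CEDM1
import Cfsg.Agent.Lib.Helper29.CEDM10
import Cfsg.Agent.Lib.helper23.CEDM2
import Cfsg.Agent.Lib.Helper26.CEDM4

/-!
# Project CED (designer helper7), row M5 (helper16): `ker_le_zz` (verbatim): the kernel of a representation of a generated
system is contained in `{1, z}`, `z` the spin element  (K3 `SysD.Rep.injective` on the quotient by `zpowers z`).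
-/

set_option autoImplicit false

namespace Cfsg.Agent.Lib.helper7.CED

open Cfsg.Agent.Lib.helper15.St2 Cfsg.Agent.Lib.helper7.Ce Cfsg.Agent.Lib.helper3.STC Cfsg.Agent.Lib.Lead.STD
  Cfsg.Agent.Lib.helper7.CEC

section M

universe v w

/-- an element of `zpowers z` with `z * z = 1` is `1` or `z` -/
theorem cedm5_zpowers {G : Type*} [Group G] {z g : G} (hz : z * z = 1) (hg : g ∈ Subgroup.zpowers z) : g = 1 ∨ g = z := by
  obtain ⟨k, hk⟩ := Subgroup.mem_zpowers_iff.mp hg
  subst hk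
  have h2 : z ^ (2 : ℤ) = 1 := by
    rw [zpow_ofNat, pow_two, hz]
  rcases Int.even_or_odd' k with ⟨m, rfl | rfl⟩
  · left
    rw [zpow_mul, h2, one_zpow]
  · right
    rw [zpow_add, zpow_mul, h2, one_zpow, one_mul, zpow_one]

variable {K : Type*} [Field K] [Finite K] {ι : Type*} {G : Type*} [Group G] (S : SysD K ι G)

/-- M5 [M] -/
theorem ker_le_zz {ι : Type v} [Finite ι] [DecidableEq ι] {G : Type w} [Group G] (S : SysD K ι G) {l : Type*} [Fintype l] [DecidableEq l]
    (R : S.Rep l) (hgen : S.XQ (fun _ _ => True) = ⊤) (h3 : I3 ι) {a b : ι ⊕ ι} (hab : ab a ≠ ab b)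
    (g : G) (hg : R.φ g = 1) : g = 1 ∨ g = zz S a b := by
  set z : G := zz S a b with hz
  have hzc : ∀ x : G, z * x = x * z := fun x => zz_central S hgen hab x
  have hzz : z * z = 1 := zz_sq S hab
  have hRz : R.φ z = 1 := rep_zz S R hab
  let N : Subgroup G := Subgroup.zpowers z
  have hNc : ∀ n ∈ N, ∀ x : G, x * n = n * x := by
    rintro _ ⟨k, rfl⟩ x
    have : Commute x z := (hzc x).symm
    exact this.zpow_right k
  have hNn : N.Normal := ⟨fun n hn x => by rw [hNc n hn x, mul_inv_cancel_right]; exact hn⟩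
  have hNR : N ≤ R.φ.ker := by
    intro n hn
    obtain ⟨k, hk⟩ := Subgroup.mem_zpowers_iff.mp hn
    subst hk
    rw [MonoidHom.mem_ker, map_zpow, hRz, one_zpow]
  let f : G →* G ⧸ N := QuotientGroup.mk' N
  have hfz : f z = 1 := (QuotientGroup.eq_one_iff z).mpr (Subgroup.mem_zpowers z)
  let S' : SysD K ι (G ⧸ N) := S.map f
  have hSpin : S'.Spin := by
    intro c d hcd hcd'
    have hcd2 : ab c ≠ ab d := fun e => by
      rcases ab_eq_iff.mp e with e | e
      · exact hcd e
      · exact hcd' e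
    have h1 : zz S' c d = f (zz S c d) := zz_map S f c d
    have h2 : zz S c d = z := zz_indep S h3 hcd2 hab
    show zz S' c d = 1
    rw [h1, h2, hfz]
  have hgen' : S'.XQ (fun _ _ => True) = ⊤ := by
    have hset : {y : G ⧸ N | ∃ a b t, a ≠ b ∧ a ≠ ng b ∧ True ∧ y = S'.x a b t} =
        f '' {y : G | ∃ a b t, a ≠ b ∧ a ≠ ng b ∧ True ∧ y = S.x a b t} := by
      ext y
      constructor
      · rintro ⟨a, b, t, h1, h2, -, rfl⟩
        exact ⟨S.x a b t, ⟨a, b, t, h1, h2, trivial, rfl⟩, rfl⟩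
      · rintro ⟨_, ⟨a, b, t, h1, h2, -, rfl⟩, rfl⟩
        exact ⟨a, b, t, h1, h2, trivial, rfl⟩
    unfold SysD.XQ at hgen ⊢
    rw [hset, ← MonoidHom.map_closure, hgen, ← MonoidHom.range_eq_map,
      MonoidHom.range_eq_top]
    exact QuotientGroup.mk'_surjective N
  let R' : S'.Rep l :=
    { e := R.e
      φ := QuotientGroup.lift N R.φ hNR
      hφ := fun a b h1 h2 t => R.hφ a b h1 h2 t }
  have hinj := SysD.Rep.injective R' hSpin hgen'
  have hfg : f g = 1 := by
    apply hinj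
    rw [map_one]
    show QuotientGroup.lift N R.φ hNR (QuotientGroup.mk g) = 1
    rw [QuotientGroup.lift_mk]
    exact hg
  have hgN : g ∈ N := (QuotientGroup.eq_one_iff g).mp hfg
  exact cedm5_zpowers hzz hgN

end M

end Cfsg.Agent.Lib.helper7.CED
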