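import Mathlib
import Cfsg.Agent.Lib.helper3.CEUO.Defs2
import Cfsg.Agent.Lib.Helper27.STU.Defs3
import Cfsg.Agent.Lib.Helper27.STU.Frob
import Cfsg.Agent.Lib.Helper27.STUH8
import Cfsg.Agent.Lib.Helper27.STUQ1
import Cfsg.Agent.Lib.Helper24.STCI1
import Cfsg.Agent.Lib.Helper24.STUM3
import Cfsg.Agent.Lib.Helper16.STUH4
import Cfsg.Agent.Lib.Helper5.STULA5
import Cfsg.Agent.Lib.Helper18.CEUOA2

/-!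
# Project CEUO (sub-designer helper3), rows R2 (`r1_of_lift`) and R3 (`r1_lift`) (helper16): CORES, with the statements of R1 `Hm_cj_Xp`, `Hm_cj_Xm` as hypotheses.
On A3 `lift_unique` (`Helper18.CEUOA2`), `stuh8_hl_eq` (`Helper27.STUH8`), `isMon_hl` (`Helper16.STUH4`), `hW_all` (`Helper24.STUM3`), `Lam.exists_of_c` (`Helper5.STULA5`).
-/

set_option autoImplicit false

namespace Cfsg.Agent.Lib.helper3.CEUO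

open Cfsg.Agent.Lib.helper15.St2 Cfsg.Agent.Lib.helper7.Ce Cfsg.Agent.Lib.helper3.STC Cfsg.Agent.Lib.Helper27.STU
  Cfsg.Agent.Lib.helper7.CEU

open Cfsg.Agent.Lib.helper7.CEC (I2 I3 I4 U2 U3)

section R

variable {F : Type*} [Field F] [StarRing F] {od : Prop}

theorem ceuor2_XpU_mul (ξ η : Lam F od) : XpU (ξ * η) = XpU ξ * XpU η := by
  apply Subtype.ext
  apply Subtype.ext
  show XpM (ξ * η) = XpM ξ * XpM η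
  exact (stuq1_XpM_mul ξ η).symm

theorem ceuor2_XmU_mul (ξ η : Lam F od) : XmU (ξ * η) = XmU ξ * XmU η := by
  apply Subtype.ext
  apply Subtype.ext
  show XmM (ξ * η) = XmM ξ * XmM η
  exact (stuq1_XmM_mul ξ η).symm

theorem ceuor2_map_cj {A B : Type*} [Group A] [Group B] (f : A →* B) (g x : A) : cj (f g) (f x) = f (cj g x) := by
  unfold cj
  rw [map_mul, map_mul, map_inv]

variable {ι : Type*} {Γ G : Type*} [Group Γ] [Group G] {S : SysU F od ι G} {σ : Γ →* G} {h : IsCE σ}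

/-- R2 core: `hR1p`, `hR1m` are the statements of R1 `Hm_cj_Xp`, `Hm_cj_Xm`. -/
theorem ceuor2_core [DecidableEq ι]
    (hR1p : ∀ {ξ₁ ξ₂ : Lam F od}, ξ₁.c ≠ 0 → ξ₂.c ≠ 0 → ∀ ξ : Lam F od,
      cj (stuh8_Wm ξ₁ * (stuh8_Wm ξ₂)⁻¹) (XpU ξ) = XpU (Lam.act ((ξ₁.c / ξ₂.c) * (ξ₁.c / ξ₂.c) / star (ξ₁.c / ξ₂.c)) ξ))
    (hR1m : ∀ {ξ₁ ξ₂ : Lam F od}, ξ₁.c ≠ 0 → ξ₂.c ≠ 0 → ∀ ξ : Lam F od,
      cj (stuh8_Wm ξ₁ * (stuh8_Wm ξ₂)⁻¹) (XmU ξ) = XmU (Lam.act ((ξ₁.c / ξ₂.c) / (star (ξ₁.c / ξ₂.c) * star (ξ₁.c / ξ₂.c))) ξ))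
    (hF : Hyp F) (hod : od) (Z : LongLift S h) (a : ι ⊕ ι) (ρ' : ↥(SUm F od) →* Γ)
    (hρ' : ∀ ξ, σ (ρ' (XpU ξ)) = S.xl a ξ ∧ σ (ρ' (XmU ξ)) = S.xl (ng a) ξ) {r : F} (hr0 : r ≠ 0) (hr1 : r * r ≠ star r)
    (hr2 : r ≠ star r * star r) : ∀ ξ, ρ' (XpU ξ) = Z.Z a ξ ∧ ρ' (XmU ξ) = Z.Z (ng a) ξ := by
  obtain ⟨ξ₁, hξ₁⟩ := Lam.exists_of_c hF hod r
  obtain ⟨ξ₂, hξ₂⟩ := Lam.exists_of_c hF hod (1 : F)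
  have h1 : ξ₁.c ≠ 0 := by rw [hξ₁]; exact hr0
  have h2 : ξ₂.c ≠ 0 := by rw [hξ₂]; exact one_ne_zero
  have hrr : ξ₁.c / ξ₂.c = r := by rw [hξ₁, hξ₂, div_one]
  have hsr0 : star r ≠ 0 := fun e => hr0 (by simpa using congrArg star e)
  have he : σ (ρ' (stuh8_Wm ξ₁ * (stuh8_Wm ξ₂)⁻¹)) = S.hl a ξ₁ ξ₂ := by
    have := S.stuh8_hl_eq (σ.comp ρ') (fun ξ => hρ' ξ) ξ₁ ξ₂
    rw [this]
    rfl
  have hmon := S.isMon_hl S.hW_all a h1 h2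
  rw [hrr] at hmon
  have hcjp : ∀ ξ, cj (ρ' (stuh8_Wm ξ₁ * (stuh8_Wm ξ₂)⁻¹)) (ρ' (XpU ξ)) = ρ' (XpU (Lam.act (r * r / star r) ξ)) := by
    intro ξ
    rw [ceuor2_map_cj, hR1p h1 h2 ξ, hrr]
  have hcjm : ∀ ξ, cj (ρ' (stuh8_Wm ξ₁ * (stuh8_Wm ξ₂)⁻¹)) (ρ' (XmU ξ)) = ρ' (XmU (Lam.act (r / (star r * star r)) ξ)) := by
    intro ξ
    rw [ceuor2_map_cj, hR1m h1 h2 ξ, hrr]
  have hda : Cfsg.Agent.Lib.Helper27.STU.dhl a r a * (Cfsg.Agent.Lib.Helper27.STU.d0h r)⁻¹ = r * r / star r := by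
    unfold Cfsg.Agent.Lib.Helper27.STU.dhl Cfsg.Agent.Lib.Helper27.STU.d0h
    rw [if_pos rfl]
    field_simp
  have hdna : Cfsg.Agent.Lib.Helper27.STU.dhl a r (ng a) * (Cfsg.Agent.Lib.Helper27.STU.d0h r)⁻¹ = r / (star r * star r) := by
    unfold Cfsg.Agent.Lib.Helper27.STU.dhl Cfsg.Agent.Lib.Helper27.STU.d0h
    rw [if_neg (ng_ne a), if_pos rfl]
    field_simp
  have hzp : ∀ ξ, cj (ρ' (stuh8_Wm ξ₁ * (stuh8_Wm ξ₂)⁻¹)) (Z.Z a ξ) = Z.Z a (Lam.act (r * r / star r) ξ) := by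
    intro ξ
    have := Z.eqv _ _ _ _ hmon _ he a ξ
    rw [Equiv.Perm.one_apply, hda] at this
    exact this
  have hzm : ∀ ξ, cj (ρ' (stuh8_Wm ξ₁ * (stuh8_Wm ξ₂)⁻¹)) (Z.Z (ng a) ξ) = Z.Z (ng a) (Lam.act (r / (star r * star r)) ξ) := by
    intro ξ
    have := Z.eqv _ _ _ _ hmon _ he (ng a) ξ
    rw [Equiv.Perm.one_apply, hdna] at this
    exact this
  have hs1 : r * r / star r ≠ 1 := by
    intro e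
    apply hr1
    rw [div_eq_one_iff_eq hsr0] at e
    exact e
  have hs2 : r / (star r * star r) ≠ 1 := by
    intro e
    apply hr2
    rw [div_eq_one_iff_eq (mul_ne_zero hsr0 hsr0)] at e
    exact e
  have hp := lift_unique h hF hod (fun ξ => ρ' (XpU ξ)) (Z.Z a)
    (fun ξ η => by show ρ' (XpU (ξ * η)) = ρ' (XpU ξ) * ρ' (XpU η); rw [ceuor2_XpU_mul, map_mul]) (Z.mul a)
    (fun ξ => by show σ (ρ' (XpU ξ)) = σ (Z.Z a ξ); rw [(hρ' ξ).1, Z.map])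
    (ρ' (stuh8_Wm ξ₁ * (stuh8_Wm ξ₂)⁻¹)) hs1 hcjp hzp
  have hm := lift_unique h hF hod (fun ξ => ρ' (XmU ξ)) (Z.Z (ng a))
    (fun ξ η => by show ρ' (XmU (ξ * η)) = ρ' (XmU ξ) * ρ' (XmU η); rw [ceuor2_XmU_mul, map_mul]) (Z.mul (ng a))
    (fun ξ => by show σ (ρ' (XmU ξ)) = σ (Z.Z (ng a) ξ); rw [(hρ' ξ).2, Z.map])
    (ρ' (stuh8_Wm ξ₁ * (stuh8_Wm ξ₂)⁻¹)) hs2 hcjm hzm
  exact fun ξ => ⟨hp ξ, hm ξ⟩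

/-- R3 core: from the statement of R2 `r1_of_lift`. -/
theorem ceuor3_core [DecidableEq ι] (Z : LongLift S h)
    (hR2 : ∀ (a : ι ⊕ ι) (ρ' : ↥(SUm F od) →* Γ), (∀ ξ, σ (ρ' (XpU ξ)) = S.xl a ξ ∧ σ (ρ' (XmU ξ)) = S.xl (ng a) ξ) →
      ∀ ξ, ρ' (XpU ξ) = Z.Z a ξ ∧ ρ' (XmU ξ) = Z.Z (ng a) ξ)
    (hlift : ∀ ρ : ↥(SUm F od) →* G, ∃ ρ' : ↥(SUm F od) →* Γ, ∀ x, σ (ρ' x) = ρ x) :
    ∀ a, ∃ ρ : ↥(SUm F od) →* Γ, ∀ ξ, ρ (XpU ξ) = Z.Z a ξ ∧ ρ (XmU ξ) = Z.Z (ng a) ξ := by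
  intro a
  obtain ⟨ρ, hρ⟩ := S.r1 a
  obtain ⟨ρ', hρ'⟩ := hlift ρ
  refine ⟨ρ', hR2 a ρ' (fun ξ => ?_)⟩
  rw [hρ', hρ', (hρ ξ).1, (hρ ξ).2]
  exact ⟨rfl, rfl⟩

end R

end Cfsg.Agent.Lib.helper3.CEUO
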