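import Mathlib
import Cfsg.Agent.Lib.helper3.CEUO.Defs2
import Cfsg.Agent.Lib.Helper27.STU.Defs3
import Cfsg.Agent.Lib.Helper27.STU.Frob
import Cfsg.Agent.Lib.Helper27.STUH8
import Cfsg.Agent.Lib.Helper16.CEUOR2core
import Cfsg.Agent.Lib.Helper25.CEUOR1

/-!
# Project CEUO (sub-designer helper3), rows R2 (`r1_of_lift`) and R3 (`r1_lift`) (helper16), VERBATIM.  On the cores `Helper16.CEUOR2core` and R1 `Hm_cj_Xp`, `Hm_cj_Xm` (`Helper25.CEUOR1`).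
-/

set_option autoImplicit false

namespace Cfsg.Agent.Lib.helper3.CEUO

open Cfsg.Agent.Lib.helper15.St2 Cfsg.Agent.Lib.helper7.Ce Cfsg.Agent.Lib.helper3.STC Cfsg.Agent.Lib.Helper27.STU
  Cfsg.Agent.Lib.helper7.CEU

open Cfsg.Agent.Lib.helper7.CEC (I2 I3 I4 U2 U3)

section R

variable {F : Type*} [Field F] [StarRing F] {od : Prop}

variable {ι : Type*} {Γ G : Type*} [Group Γ] [Group G] {S : SysU F od ι G} {σ : Γ →* G} {h : IsCE σ}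

/-- R2 [M] -/
theorem r1_of_lift [DecidableEq ι] (hF : Hyp F) (hod : od) (Z : LongLift S h) (a : ι ⊕ ι) (ρ' : ↥(SUm F od) →* Γ)
    (hρ' : ∀ ξ, σ (ρ' (XpU ξ)) = S.xl a ξ ∧ σ (ρ' (XmU ξ)) = S.xl (ng a) ξ) {r : F} (hr0 : r ≠ 0) (hr1 : r * r ≠ star r)
    (hr2 : r ≠ star r * star r) : ∀ ξ, ρ' (XpU ξ) = Z.Z a ξ ∧ ρ' (XmU ξ) = Z.Z (ng a) ξ :=
  ceuor2_core (fun h1 h2 ξ => Hm_cj_Xp h1 h2 ξ) (fun h1 h2 ξ => Hm_cj_Xm h1 h2 ξ) hF hod Z a ρ' hρ' hr0 hr1 hr2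

/-- R3 [S] -/
theorem r1_lift [DecidableEq ι] (hF : Hyp F) (hod : od) (Z : LongLift S h)
    (hlift : ∀ ρ : ↥(SUm F od) →* G, ∃ ρ' : ↥(SUm F od) →* Γ, ∀ x, σ (ρ' x) = ρ x) {r : F} (hr0 : r ≠ 0) (hr1 : r * r ≠ star r)
    (hr2 : r ≠ star r * star r) :
    ∀ a, ∃ ρ : ↥(SUm F od) →* Γ, ∀ ξ, ρ (XpU ξ) = Z.Z a ξ ∧ ρ (XmU ξ) = Z.Z (ng a) ξ :=
  ceuor3_core Z (fun a ρ' hρ' => r1_of_lift hF hod Z a ρ' hρ' hr0 hr1 hr2) hlift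

end R

end Cfsg.Agent.Lib.helper3.CEUO
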