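import Mathlib
import Cfsg.Prelude.Def_Classical
import Cfsg.Prelude.Def_LieClassical
import Cfsg.Agent.Lib.Helper16.OrthEmbed
import Cfsg.Agent.Lib.Helper16.MinusForm
import Cfsg.Agent.S2640

set_option autoImplicit false

namespace Cfsg.Agent.Lib.Helper16

open Module

section
variable {K F : Type*} [Field K] [Fintype K] [Field F] [Fintype F] [Algebra F K]

noncomputable def hermBeta (lam : K →ₗ[F] F) (m : ℕ) : LinearMap.BilinForm F (Fin m → K) :=
  LinearMap.mk₂ F
    (fun u v => lam (∑ i, u i * (FiniteField.frobeniusAlgHom F K) (v i)))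
    (by intro u u' v; simp only [Pi.add_apply, add_mul, Finset.sum_add_distrib, map_add])
    (by
      intro c u v
      simp only [Pi.smul_apply, smul_mul_assoc, ← Finset.smul_sum, map_smul])
    (by intro u v v'; simp only [Pi.add_apply, map_add, mul_add, Finset.sum_add_distrib])
    (by
      intro c u v
      simp only [Pi.smul_apply, map_smul, mul_smul_comm, ← Finset.smul_sum])

noncomputable def hermQ (lam : K →ₗ[F] F) (m : ℕ) : QuadraticForm F (Fin m → K) :=
  (hermBeta lam m).toQuadraticMap

theorem frob_apply' {q : ℕ} (hF : Fintype.card F = q) (x : K) :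
    FiniteField.frobeniusAlgHom F K x = x ^ q := by
  rw [FiniteField.coe_frobeniusAlgHom, hF]

theorem frob_frob {q : ℕ} (hK : Fintype.card K = q ^ 2) (hF : Fintype.card F = q) (x : K) :
    FiniteField.frobeniusAlgHom F K (FiniteField.frobeniusAlgHom F K x) = x := by
  rw [frob_apply' hF, frob_apply' hF, ← pow_mul, ← pow_two, ← hK, FiniteField.pow_card]

theorem hermBeta_apply {q : ℕ} (hF : Fintype.card F = q) (lam : K →ₗ[F] F) (m : ℕ) (u v : Fin m → K) :
    hermBeta lam m u v = lam (Cfsg.hermForm m K q u v) := by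
  unfold Cfsg.hermForm
  simp only [← frob_apply' hF]
  rfl

theorem hermQ_apply {q : ℕ} (hF : Fintype.card F = q) (lam : K →ₗ[F] F) (m : ℕ) (v : Fin m → K) :
    hermQ lam m v = lam (Cfsg.hermForm m K q v v) := by
  unfold hermQ
  rw [LinearMap.BilinMap.toQuadraticMap_apply, hermBeta_apply hF]

theorem frob_fixed (hfr : finrank F K = 2) (x : K) (hx : FiniteField.frobeniusAlgHom F K x = x) :
    ∃ t : F, algebraMap F K t = x := by
  set σ : K →ₐ[F] K := FiniteField.frobeniusAlgHom F K with hσ
  have hσne1 : σ ≠ 1 := by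
    intro h1
    have h2 := FiniteField.orderOf_frobeniusAlgHom F K
    rw [← hσ, h1, orderOf_one, hfr] at h2
    omega
  have : FiniteDimensional F K := Module.finite_of_finrank_pos (by omega)
  set L : K →ₗ[F] K := σ.toLinearMap - LinearMap.id with hL
  have hLx : ∀ y, L y = σ y - y := fun y => rfl
  have hker : finrank F (LinearMap.ker L) < 2 := by
    by_contra hcon
    push Not at hcon
    have hle : finrank F (LinearMap.ker L) ≤ finrank F K := Submodule.finrank_le _
    have htop : LinearMap.ker L = ⊤ := by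
      apply Submodule.eq_top_of_finrank_eq
      omega
    apply hσne1
    apply AlgHom.ext
    intro y
    have : y ∈ LinearMap.ker L := by rw [htop]; trivial
    rw [LinearMap.mem_ker, hLx, sub_eq_zero] at this
    rw [this]; rfl
  have hspan : Submodule.span F {(1 : K)} ≤ LinearMap.ker L := by
    rw [Submodule.span_le]
    intro y hy
    rw [Set.mem_singleton_iff] at hy
    rw [hy, SetLike.mem_coe, LinearMap.mem_ker, hLx, map_one, sub_self]
  have hspan1 : finrank F (Submodule.span F {(1 : K)}) = 1 := finrank_span_singleton one_ne_zero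
  have heq : Submodule.span F {(1 : K)} = LinearMap.ker L := by
    apply Submodule.eq_of_le_of_finrank_le hspan
    rw [hspan1]
    omega
  have hxk : x ∈ LinearMap.ker L := by
    rw [LinearMap.mem_ker, hLx, hx, sub_self]
  rw [← heq, Submodule.mem_span_singleton] at hxk
  obtain ⟨t, ht⟩ := hxk
  exact ⟨t, by rw [← ht, Algebra.smul_def, mul_one]⟩

theorem exists_lam_one : ∃ lam : K →ₗ[F] F, lam 1 = 1 := by
  obtain ⟨l0, hl0⟩ : ∃ l0 : K →ₗ[F] F, l0 1 ≠ 0 := by
    by_contra hcon
    push Not at hcon
    exact one_ne_zero ((Module.forall_dual_apply_eq_zero_iff F (1 : K)).mp hcon)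
  refine ⟨(l0 1)⁻¹ • l0, ?_⟩
  rw [LinearMap.smul_apply, smul_eq_mul, inv_mul_cancel₀ hl0]

theorem lam_algebraMap (lam : K →ₗ[F] F) (hlam : lam 1 = 1) (t : F) : lam (algebraMap F K t) = t := by
  rw [Algebra.algebraMap_eq_smul_one, map_smul, hlam, smul_eq_mul, mul_one]

theorem hermQ_nondeg {q : ℕ} (hK : Fintype.card K = q ^ 2) (hF : Fintype.card F = q)
    (hfr : finrank F K = 2) (lam : K →ₗ[F] F) (hlam1 : lam 1 = 1) (m : ℕ) :
    (QuadraticMap.polarBilin (hermQ lam m)).Nondegenerate := by
  set σ : K →ₐ[F] K := FiniteField.frobeniusAlgHom F K with hσ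
  have hσapp : ∀ x, σ x = x ^ q := fun x => frob_apply' hF x
  have hσσ : ∀ x, σ (σ x) = x := fun x => frob_frob hK hF x
  have hσne1 : σ ≠ 1 := by
    intro h1
    have h2 := FiniteField.orderOf_frobeniusAlgHom F K
    rw [← hσ, h1, orderOf_one, hfr] at h2
    omega
  have hσne : ∃ x₀, x₀ + σ x₀ ≠ 0 := by
    by_contra hcon
    push Not at hcon
    apply hσne1
    have h11 : (1 : K) + 1 = 0 := by
      have := hcon 1
      rwa [map_one] at this
    apply AlgHom.ext
    intro x
    rw [AlgHom.one_apply]
    have h3 := hcon x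
    have h4 : x + x = 0 := by
      have : x + x = x * (1 + 1) := by ring
      rw [this, h11, mul_zero]
    have : σ x = x := by
      have h5 : σ x = -x := by
        rw [eq_neg_iff_add_eq_zero, add_comm]; exact h3
      rw [h5]
      exact neg_eq_of_add_eq_zero_left h4
    exact this
  obtain ⟨x₀, hx₀⟩ := hσne
  have hlam : lam (x₀ + σ x₀) ≠ 0 := by
    obtain ⟨t, ht⟩ := frob_fixed hfr (x₀ + σ x₀) (by rw [← hσ, map_add, hσσ, add_comm])
    rw [← ht, lam_algebraMap lam hlam1]
    intro h0
    rw [h0, map_zero] at ht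
    exact hx₀ ht.symm
  have hh : ∀ u v : Fin m → K, Cfsg.hermForm m K q u v = ∑ i, u i * σ (v i) := by
    intro u v
    unfold Cfsg.hermForm
    simp only [hσapp]
  have hβ : ∀ u v, hermBeta lam m u v = lam (Cfsg.hermForm m K q u v) := hermBeta_apply hF lam m
  have hswap : ∀ u v, Cfsg.hermForm m K q v u = σ (Cfsg.hermForm m K q u v) := by
    intro u v
    rw [hh, hh, map_sum]
    apply Finset.sum_congr rfl
    intro i _
    rw [map_mul, hσσ, mul_comm]
  have hpolar : ∀ u v, QuadraticMap.polar ⇑(hermQ lam m) u v =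
      lam (Cfsg.hermForm m K q u v + σ (Cfsg.hermForm m K q u v)) := by
    intro u v
    unfold hermQ
    rw [LinearMap.BilinMap.polar_toQuadraticMap, hβ, hβ, hswap u v, map_add]
  have hleft : ∀ u, (∀ v, QuadraticMap.polar ⇑(hermQ lam m) u v = 0) → u = 0 := by
    intro u hu
    have h1 : ∀ v, Cfsg.hermForm m K q u v = 0 := by
      intro v
      by_contra hne
      apply hlam
      have h2 := hu ((σ (x₀ / Cfsg.hermForm m K q u v)) • v)
      rw [hpolar] at h2
      have h3 : Cfsg.hermForm m K q u (σ (x₀ / Cfsg.hermForm m K q u v) • v) = x₀ := by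
        rw [hh]
        simp only [Pi.smul_apply, smul_eq_mul, map_mul, hσσ]
        have : ∀ i, u i * (x₀ / Cfsg.hermForm m K q u v * σ (v i)) = (x₀ / Cfsg.hermForm m K q u v) * (u i * σ (v i)) := by
          intro i; ring
        simp only [this, ← Finset.mul_sum, ← hh]
        field_simp
      rw [h3] at h2
      exact h2
    funext i
    have h4 := h1 (Pi.single i 1)
    rw [hh] at h4
    rw [Finset.sum_eq_single i] at h4
    · simpa using h4
    · intro j _ hji
      simp [hji]
    · intro h; exact absurd (Finset.mem_univ i) h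
  refine ⟨?_, ?_⟩
  · intro u hu
    apply hleft
    intro v
    have := hu v
    rwa [QuadraticMap.polarBilin_apply_apply] at this
  · intro v hv
    apply hleft
    intro u
    have := hv u
    rwa [QuadraticMap.polarBilin_apply_apply, QuadraticMap.polar_comm] at this

theorem hermQ_inv {q : ℕ} (hF : Fintype.card F = q) (lam : K →ₗ[F] F) (m : ℕ)
    (A : Matrix (Fin m) (Fin m) K)
    (hA : ∀ u v, Cfsg.hermForm m K q (A.mulVec u) (A.mulVec v) = Cfsg.hermForm m K q u v) (v : Fin m → K) :
    hermQ lam m (A.mulVec v) = hermQ lam m v := by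
  rw [hermQ_apply hF, hermQ_apply hF, hA]

theorem herm_plus_iso {q : ℕ} (hK : Fintype.card K = q ^ 2) (hF : Fintype.card F = q)
    (hfr : finrank F K = 2) (lam : K →ₗ[F] F) (hlam1 : lam 1 = 1) (k : ℕ) :
    ∃ T : (Fin (k + k) → K) ≃ₗ[F] (Fin (k + k) ⊕ Fin (k + k) → F),
      ∀ v, Cfsg.quadFormPlus (k + k) F (T v) = hermQ lam (k + k) v := by
  have hq : 2 ≤ q := by rw [← hF]; exact Fintype.one_lt_card
  have hV : finrank F (Fin (k + k) → K) = 2 * (k + k) := by
    rw [Module.finrank_pi_fintype]
    simp only [hfr, Finset.sum_const, Finset.card_univ, Fintype.card_fin, smul_eq_mul]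
    ring
  have hQnd := hermQ_nondeg hK hF hfr lam hlam1 (k + k)
  obtain ⟨ε, hε⟩ := Cfsg.Agent.S2640.exists_norm_neg_one hq hK
  let ι : (Fin k → K) →ₗ[F] (Fin (k + k) → K) :=
    { toFun := fun x j => Sum.elim x (fun i => ε * x i) (finSumFinEquiv.symm j)
      map_add' := by
        intro x y
        funext j
        show Sum.elim (x + y) (fun i => ε * (x + y) i) (finSumFinEquiv.symm j) =
          Sum.elim x (fun i => ε * x i) (finSumFinEquiv.symm j) + Sum.elim y (fun i => ε * y i) (finSumFinEquiv.symm j)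
        generalize finSumFinEquiv.symm j = s
        rcases s with i | i <;> simp [mul_add]
      map_smul' := by
        intro c x
        funext j
        show Sum.elim (c • x) (fun i => ε * (c • x) i) (finSumFinEquiv.symm j) =
          c • Sum.elim x (fun i => ε * x i) (finSumFinEquiv.symm j)
        generalize finSumFinEquiv.symm j = s
        rcases s with i | i <;> simp }
  have hιapp : ∀ x s, ι x (finSumFinEquiv s) = Sum.elim x (fun i => ε * x i) s := by
    intro x s
    show Sum.elim x (fun i => ε * x i) (finSumFinEquiv.symm (finSumFinEquiv s)) = _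
    rw [Equiv.symm_apply_apply]
  have hιinj : Function.Injective ι := by
    intro x y hxy
    funext i
    have := congrFun hxy (finSumFinEquiv (Sum.inl i))
    rwa [hιapp, hιapp] at this
  have hιts : ∀ x, hermQ lam (k + k) (ι x) = 0 := by
    intro x
    rw [hermQ_apply hF]
    have : Cfsg.hermForm (k + k) K q (ι x) (ι x) = 0 := by
      unfold Cfsg.hermForm
      rw [← Equiv.sum_comp finSumFinEquiv, Fintype.sum_sum_type]
      simp only [hιapp, Sum.elim_inl, Sum.elim_inr]
      rw [← Finset.sum_add_distrib]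
      apply Finset.sum_eq_zero
      intro i _
      have : x i * x i ^ q + ε * x i * (ε * x i) ^ q = x i * x i ^ q * (1 + ε ^ (q + 1)) := by
        rw [mul_pow, pow_succ]; ring
      rw [this, hε]
      ring
    rw [this, map_zero]
  set U := LinearMap.range ι with hU
  have hUdim : k + k ≤ finrank F U := by
    rw [hU, LinearMap.finrank_range_of_inj hιinj, Module.finrank_pi_fintype]
    simp only [hfr, Finset.sum_const, Finset.card_univ, Fintype.card_fin, smul_eq_mul]
    omega
  have hUts : ∀ u ∈ U, hermQ lam (k + k) u = 0 := by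
    rintro u ⟨x, rfl⟩
    exact hιts x
  obtain ⟨e, f, hQef, hef, hee⟩ := hyp_of_ts (k + k) hV (hermQ lam (k + k)) hQnd U hUts hUdim
  exact exists_iso_plus hV (hermQ lam (k + k)) e f hQef hef hee

theorem norm_iso (hfr : finrank F K = 2) (lam : K →ₗ[F] F) (hlam1 : lam 1 = 1) (a b : F)
    (hab : ∀ z₁ z₂ : F, z₁ ^ 2 + a * z₁ * z₂ + b * z₂ ^ 2 = 0 → z₁ = 0 ∧ z₂ = 0) :
    ∃ T₂ : K ≃ₗ[F] (Fin 2 → F), ∀ x, (T₂ x 0) ^ 2 + a * T₂ x 0 * T₂ x 1 + b * (T₂ x 1) ^ 2 =
      lam (x * FiniteField.frobeniusAlgHom F K x) := by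
  set σ : K →ₐ[F] K := FiniteField.frobeniusAlgHom F K with hσ
  obtain ⟨r, hr⟩ := exists_root_of_aniso hfr a b hab
  have hrF : ∀ t : F, algebraMap F K t ≠ r := by
    intro t ht
    rw [← ht] at hr
    have h0 : algebraMap F K (t ^ 2 + a * t * 1 + b * 1 ^ 2) = 0 := by
      rw [← hr]
      simp only [map_add, map_mul, map_pow, map_one]
      ring
    have := hab t 1 ((algebraMap F K).injective (by rw [h0, map_zero]))
    exact one_ne_zero this.2
  set s := σ r with hs
  have hsroot : s ^ 2 + algebraMap F K a * s + algebraMap F K b = 0 := by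
    have := congrArg σ hr
    rwa [map_add, map_add, map_mul, map_pow, AlgHom.commutes, AlgHom.commutes, map_zero] at this
  have hsr : s ≠ r := by
    intro h
    obtain ⟨t, ht⟩ := frob_fixed hfr r h
    exact hrF t ht
  have hsum : r + s = -algebraMap F K a := by
    have h1 : (r - s) * (r + s + algebraMap F K a) = 0 := by linear_combination hr - hsroot
    rcases mul_eq_zero.mp h1 with h1 | h1
    · exact absurd (sub_eq_zero.mp h1).symm hsr
    · linear_combination h1
  have hprod : r * s = algebraMap F K b := by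
    have : s = -algebraMap F K a - r := by linear_combination hsum
    rw [this]
    linear_combination (-1 : K) * hr
  let S : (Fin 2 → F) →ₗ[F] K :=
    (LinearMap.proj 0 : (Fin 2 → F) →ₗ[F] F).smulRight (1 : K) - (LinearMap.proj 1 : (Fin 2 → F) →ₗ[F] F).smulRight r
  have hSapp : ∀ z, S z = algebraMap F K (z 0) - algebraMap F K (z 1) * r := by
    intro z
    show z 0 • (1 : K) - z 1 • r = _
    rw [Algebra.smul_def, Algebra.smul_def, mul_one]
  have hSinj : Function.Injective S := by
    rw [← LinearMap.ker_eq_bot, LinearMap.ker_eq_bot']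
    intro z hz
    rw [hSapp] at hz
    have h1 : z 1 = 0 := by
      by_contra hne
      apply hrF (z 0 / z 1)
      rw [map_div₀]
      have hne' : algebraMap F K (z 1) ≠ 0 := by
        rw [Ne, map_eq_zero]; exact hne
      field_simp
      linear_combination hz
    have h0 : z 0 = 0 := by
      rw [h1, map_zero, zero_mul, sub_zero, map_eq_zero] at hz
      exact hz
    funext j
    fin_cases j
    · exact h0
    · exact h1
  have hSsurj : Function.Surjective S := by
    rw [← LinearMap.injective_iff_surjective_of_finrank_eq_finrank]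
    · exact hSinj
    · rw [Module.finrank_fintype_fun_eq_card, hfr, Fintype.card_fin]
  let E : (Fin 2 → F) ≃ₗ[F] K := LinearEquiv.ofBijective S ⟨hSinj, hSsurj⟩
  refine ⟨E.symm, ?_⟩
  intro x
  obtain ⟨z, rfl⟩ := E.surjective x
  rw [LinearEquiv.symm_apply_apply]
  have hEz : E z = algebraMap F K (z 0) - algebraMap F K (z 1) * r := hSapp z
  have hσE : σ (E z) = algebraMap F K (z 0) - algebraMap F K (z 1) * s := by
    rw [hEz, map_sub, map_mul, AlgHom.commutes, AlgHom.commutes]
  have hprod2 : E z * σ (E z) = algebraMap F K (z 0 ^ 2 + a * z 0 * z 1 + b * z 1 ^ 2) := by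
    rw [hσE, hEz]
    simp only [map_add, map_mul, map_pow]
    rw [← hprod]
    have ha : algebraMap F K a = -(r + s) := by rw [hsum, neg_neg]
    rw [ha]
    ring
  rw [hprod2, lam_algebraMap lam hlam1]

end

end Cfsg.Agent.Lib.Helper16
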