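import Mathlib
import Cfsg.Prelude.Def_LieClassical
import Cfsg.Agent.Lib.Helper16.HermQuad

set_option autoImplicit false
set_option linter.unusedSectionVars false

namespace Cfsg.Agent.Lib.Helper16.Cent3

open Module

section
variable {K F : Type*} [Field K] [Fintype K] [Field F] [Fintype F] [Algebra F K]

/-- `hermBeta lam m` is alternating when `lam` kills the prime field copy. -/
theorem hermBeta_alt {q : ℕ} (hK : Fintype.card K = q ^ 2) (hF : Fintype.card F = q)
    (hfr : finrank F K = 2) (lam : K →ₗ[F] F) (hlam1 : lam 1 = 0) (m : ℕ) :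
    (hermBeta lam m).IsAlt := by
  intro u
  show lam (∑ i, u i * (FiniteField.frobeniusAlgHom F K) (u i)) = 0
  rw [map_sum]
  apply Finset.sum_eq_zero
  intro i _
  obtain ⟨t, ht⟩ := frob_fixed hfr (u i * (FiniteField.frobeniusAlgHom F K) (u i))
    (by rw [map_mul, frob_frob hK hF, mul_comm])
  rw [← ht, Algebra.algebraMap_eq_smul_one, map_smul, hlam1, smul_zero]

theorem hermBeta_nondeg {q : ℕ} (hK : Fintype.card K = q ^ 2) (hF : Fintype.card F = q)
    (hfr : finrank F K = 2) (lam : K →ₗ[F] F) (hlam1 : lam 1 = 0) (c₀ : K) (hc₀ : lam c₀ ≠ 0) (m : ℕ) :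
    (hermBeta lam m).Nondegenerate := by
  have halt := hermBeta_alt hK hF hfr lam hlam1 m
  have hleft : ∀ u, (∀ v, hermBeta lam m u v = 0) → u = 0 := by
    intro u hu
    funext i
    by_contra hne
    replace hne : u i ≠ 0 := hne
    apply hc₀
    have h2 := hu (Pi.single i ((FiniteField.frobeniusAlgHom F K) (c₀ / u i)))
    have h3 : ∑ j, u j * (FiniteField.frobeniusAlgHom F K)
        ((Pi.single i ((FiniteField.frobeniusAlgHom F K) (c₀ / u i)) : Fin m → K) j) = c₀ := by
      rw [Finset.sum_eq_single i]
      · rw [Pi.single_eq_same, frob_frob hK hF]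
        field_simp
      · intro j _ hji
        rw [Pi.single_eq_of_ne hji, map_zero, mul_zero]
      · intro h; exact absurd (Finset.mem_univ i) h
    have h4 : hermBeta lam m u (Pi.single i ((FiniteField.frobeniusAlgHom F K) (c₀ / u i))) =
        lam (∑ j, u j * (FiniteField.frobeniusAlgHom F K)
        ((Pi.single i ((FiniteField.frobeniusAlgHom F K) (c₀ / u i)) : Fin m → K) j)) := rfl
    rw [h3] at h4
    rw [← h4]; exact h2
  refine ⟨hleft, ?_⟩
  intro v hv
  apply hleft
  intro u
  rw [← halt.neg_eq, hv u, neg_zero]


theorem span_one_w (hfr : finrank F K = 2) (w : K) (hw : ∀ t : F, algebraMap F K t ≠ w) (c : K) :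
    ∃ a b : F, c = algebraMap F K a + algebraMap F K b * w := by
  have hli : LinearIndependent F ![(1 : K), w] := by
    rw [LinearIndependent.pair_iff]
    intro s t hst
    rw [Algebra.smul_def, Algebra.smul_def, mul_one] at hst
    by_cases ht : t = 0
    · subst ht
      rw [map_zero, zero_mul, add_zero] at hst
      exact ⟨(map_eq_zero _).mp hst, rfl⟩
    · exfalso
      apply hw (-s / t)
      have ht' : algebraMap F K t ≠ 0 := fun h => ht ((map_eq_zero _).mp h)
      rw [map_div₀, map_neg, div_eq_iff ht']
      linear_combination (-1 : K) * hst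
  let B : Basis (Fin 2) F K := basisOfLinearIndependentOfCardEqFinrank hli (by simp [hfr])
  have hB : ⇑B = ![(1 : K), w] := coe_basisOfLinearIndependentOfCardEqFinrank hli _
  refine ⟨B.repr c 0, B.repr c 1, ?_⟩
  have h1 := (B.sum_repr c).symm
  rw [Fin.sum_univ_two, hB] at h1
  simp only [Matrix.cons_val_zero, Matrix.cons_val_one] at h1
  rw [Algebra.smul_def, Algebra.smul_def, mul_one] at h1
  exact h1

theorem hermForm_smul_left (m q : ℕ) (c : K) (u v : Fin m → K) :
    Cfsg.hermForm m K q (c • u) v = c * Cfsg.hermForm m K q u v := by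
  unfold Cfsg.hermForm
  rw [Finset.mul_sum]
  apply Finset.sum_congr rfl
  intro i _
  rw [Pi.smul_apply, smul_eq_mul, mul_assoc]

theorem gu_card_eq {q : ℕ} (hF : Fintype.card F = q)
    (hfr : finrank F K = 2) (lam : K →ₗ[F] F) (c₀ : K) (hc₀ : lam c₀ ≠ 0) (m : ℕ)
    (w : K) (hw : ∀ t : F, algebraMap F K t ≠ w) :
    Nat.card {T : (Fin m → K) →ₗ[F] (Fin m → K) //
      (∀ u v, hermBeta lam m (T u) (T v) = hermBeta lam m u v) ∧ ∀ v, T (w • v) = w • T v}
      = Nat.card (Cfsg.GU m K q) := by
  have hq0 : 0 < q := by rw [← hF]; exact Fintype.card_pos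
  let f : ↥(Cfsg.GU m K q) → {T : (Fin m → K) →ₗ[F] (Fin m → K) //
      (∀ u v, hermBeta lam m (T u) (T v) = hermBeta lam m u v) ∧ ∀ v, T (w • v) = w • T v} :=
    fun g => ⟨(Matrix.toLin' ((g : GL (Fin m) K) : Matrix (Fin m) (Fin m) K)).restrictScalars F, by
      constructor
      · intro u v
        rw [hermBeta_apply hF, hermBeta_apply hF]
        have := g.2 u v
        rw [← this]
        rfl
      · intro v
        show Matrix.toLin' ((g : GL (Fin m) K) : Matrix (Fin m) (Fin m) K) (w • v) = w • Matrix.toLin' ((g : GL (Fin m) K) : Matrix (Fin m) (Fin m) K) v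
        rw [map_smul]⟩
  have hf : Function.Bijective f := by
    constructor
    · intro A B hAB
      apply Subtype.ext
      apply Units.ext
      apply Matrix.toLin'.injective
      apply LinearMap.ext
      intro v
      have := congrArg (fun l => l.1 v) hAB
      exact this
    · rintro ⟨T, hpres, hcomm⟩
      have hTK : ∀ (c : K) v, T (c • v) = c • T v := by
        intro c v
        obtain ⟨a, b, rfl⟩ := span_one_w hfr w hw c
        rw [add_smul, add_smul, map_add, mul_smul, mul_smul, algebraMap_smul, algebraMap_smul,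
          algebraMap_smul, algebraMap_smul, map_smul, map_smul, hcomm]
      let TK : (Fin m → K) →ₗ[K] (Fin m → K) :=
        { toFun := T
          map_add' := T.map_add
          map_smul' := hTK }
      set A : Matrix (Fin m) (Fin m) K := LinearMap.toMatrix' TK with hA
      have hAv : ∀ v, A.mulVec v = T v := by
        intro v
        rw [hA, LinearMap.toMatrix'_mulVec]
        rfl
      have hH : ∀ u v, Cfsg.hermForm m K q (A.mulVec u) (A.mulVec v) = Cfsg.hermForm m K q u v := by
        intro u v
        by_contra hne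
        have hd : Cfsg.hermForm m K q (A.mulVec u) (A.mulVec v) - Cfsg.hermForm m K q u v ≠ 0 :=
          sub_ne_zero.mpr hne
        apply hc₀
        set d := Cfsg.hermForm m K q (A.mulVec u) (A.mulVec v) - Cfsg.hermForm m K q u v with hd'
        have h1 := hpres ((c₀ / d) • u) v
        rw [hermBeta_apply hF, hermBeta_apply hF, hTK, ← hAv, ← hAv, hermForm_smul_left,
          hermForm_smul_left] at h1
        have h2 : c₀ = c₀ / d * Cfsg.hermForm m K q (A.mulVec u) (A.mulVec v)
            - c₀ / d * Cfsg.hermForm m K q u v := by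
          rw [← mul_sub, ← hd']
          field_simp
        rw [h2, map_sub, h1, sub_self]
      have hinj : Function.Injective A.mulVec := by
        intro v v' hvv
        have h0 : ∀ z, A.mulVec z = 0 → z = 0 := by
          intro z hz
          funext i
          have h1 := hH (Pi.single i 1) z
          rw [hz] at h1
          unfold Cfsg.hermForm at h1
          simp only [Pi.zero_apply, ne_eq, hq0.ne', not_false_eq_true, zero_pow, mul_zero,
            Finset.sum_const_zero] at h1
          rw [Finset.sum_eq_single i] at h1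
          · rw [Pi.single_eq_same, one_mul] at h1
            exact (pow_eq_zero_iff hq0.ne').mp h1.symm
          · intro j _ hji
            rw [Pi.single_eq_of_ne hji, zero_mul]
          · intro h; exact absurd (Finset.mem_univ i) h
        have := h0 (v - v') (by rw [Matrix.mulVec_sub, hvv, sub_self])
        exact sub_eq_zero.mp this
      have hunit : IsUnit A := Matrix.mulVec_injective_iff_isUnit.mp hinj
      obtain ⟨U, hU⟩ := hunit
      refine ⟨⟨U, ?_⟩, ?_⟩
      · intro u v
        show Cfsg.hermForm m K q ((U : Matrix (Fin m) (Fin m) K).mulVec u) ((U : Matrix (Fin m) (Fin m) K).mulVec v) = _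
        rw [hU]
        exact hH u v
      · apply Subtype.ext
        apply LinearMap.ext
        intro v
        show Matrix.toLin' (U : Matrix (Fin m) (Fin m) K) v = T v
        rw [hU, Matrix.toLin'_apply, hAv]
  exact (Nat.card_congr (Equiv.ofBijective f hf)).symm

end

end Cfsg.Agent.Lib.Helper16.Cent3
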