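import Mathlib
import Cfsg.Agent.Lib.Helper16.Symplectic

set_option autoImplicit false

namespace Cfsg.Agent.Lib.Helper16.Cent3

open Module

universe u v

theorem cent_card_eq {F : Type u} [Field F] {V : Type v} [AddCommGroup V] [Module F V] {m : ℕ}
    (b : Basis (Fin m ⊕ Fin m) F V) (ω : LinearMap.BilinForm F V)
    (hb : LinearMap.BilinForm.toMatrix b ω = Matrix.J (Fin m) F)
    (T₀ : V →ₗ[F] V) (x₁ : Matrix.symplecticGroup (Fin m) F)
    (hx₁ : (x₁ : Matrix (Fin m ⊕ Fin m) (Fin m ⊕ Fin m) F) = LinearMap.toMatrix b b T₀) :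
    Nat.card ↥(Subgroup.centralizer ({x₁} : Set (Matrix.symplecticGroup (Fin m) F))) =
      Nat.card {T : V →ₗ[F] V // (∀ u v, ω (T u) (T v) = ω u v) ∧ ∀ v, T (T₀ v) = T₀ (T v)} := by
  have hmem : ∀ T : V →ₗ[F] V, LinearMap.toMatrix b b T ∈ Matrix.symplecticGroup (Fin m) F ↔
      ∀ u v, ω (T u) (T v) = ω u v := by
    intro T
    rw [SymplecticGroup.mem_iff']
    have h2 := LinearMap.BilinForm.toMatrix_comp b b ω T T
    rw [hb] at h2
    constructor
    · intro h u v
      have h3 : LinearMap.BilinForm.toMatrix b (LinearMap.BilinForm.comp ω T T) =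
          LinearMap.BilinForm.toMatrix b ω := by
        rw [h2, hb]; exact h
      have h4 := (LinearMap.BilinForm.toMatrix b).injective h3
      have := congrArg (fun B : LinearMap.BilinForm F V => B u v) h4
      exact this
    · intro h
      have h1 : LinearMap.BilinForm.comp ω T T = ω := by
        apply LinearMap.ext
        intro u
        apply LinearMap.ext
        intro v
        exact h u v
      rw [h1, hb] at h2
      exact h2.symm
  have hcomm : ∀ T : V →ₗ[F] V,
      (LinearMap.toMatrix b b T * LinearMap.toMatrix b b T₀ = LinearMap.toMatrix b b T₀ * LinearMap.toMatrix b b T) ↔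
      ∀ v, T (T₀ v) = T₀ (T v) := by
    intro T
    rw [← LinearMap.toMatrix_mul, ← LinearMap.toMatrix_mul]
    constructor
    · intro h v
      have h1 := (LinearMap.toMatrix b b).injective h
      have := congrArg (fun l : V →ₗ[F] V => l v) h1
      exact this
    · intro h
      congr 1
      apply LinearMap.ext
      intro v
      exact h v
  apply Nat.card_congr
  refine
    { toFun := fun g => ⟨Matrix.toLin b b (g.1 : Matrix (Fin m ⊕ Fin m) (Fin m ⊕ Fin m) F), ?_, ?_⟩
      invFun := fun T => ⟨⟨LinearMap.toMatrix b b T.1, (hmem T.1).mpr T.2.1⟩, ?_⟩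
      left_inv := ?_
      right_inv := ?_ }
  · have h1 := g.1.2
    rw [← LinearMap.toMatrix_toLin b b (g.1 : Matrix (Fin m ⊕ Fin m) (Fin m ⊕ Fin m) F)] at h1
    exact (hmem _).mp h1
  · have h1 := g.2
    rw [Subgroup.mem_centralizer_iff] at h1
    have h2 := h1 x₁ (Set.mem_singleton _)
    have h3 : (x₁ : Matrix (Fin m ⊕ Fin m) (Fin m ⊕ Fin m) F) * (g.1 : Matrix (Fin m ⊕ Fin m) (Fin m ⊕ Fin m) F)
        = (g.1 : Matrix (Fin m ⊕ Fin m) (Fin m ⊕ Fin m) F) * (x₁ : Matrix (Fin m ⊕ Fin m) (Fin m ⊕ Fin m) F) :=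
      congrArg Subtype.val h2
    rw [hx₁, ← LinearMap.toMatrix_toLin b b (g.1 : Matrix (Fin m ⊕ Fin m) (Fin m ⊕ Fin m) F)] at h3
    exact (hcomm _).mp h3.symm
  · rw [Subgroup.mem_centralizer_iff]
    intro y hy
    rw [Set.mem_singleton_iff] at hy
    subst hy
    apply Subtype.ext
    show (y : Matrix (Fin m ⊕ Fin m) (Fin m ⊕ Fin m) F) * LinearMap.toMatrix b b T.1 =
      LinearMap.toMatrix b b T.1 * (y : Matrix (Fin m ⊕ Fin m) (Fin m ⊕ Fin m) F)
    rw [hx₁]
    exact ((hcomm T.1).mpr T.2.2).symm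
  · intro g
    apply Subtype.ext
    apply Subtype.ext
    show LinearMap.toMatrix b b (Matrix.toLin b b (g.1 : Matrix (Fin m ⊕ Fin m) (Fin m ⊕ Fin m) F)) = _
    rw [LinearMap.toMatrix_toLin]
  · intro T
    apply Subtype.ext
    show Matrix.toLin b b (LinearMap.toMatrix b b T.1) = T.1
    rw [Matrix.toLin_toMatrix]

theorem card_centralizer_of_isConj {G : Type*} [Group G] (x y : G) (h : IsConj x y) :
    Nat.card ↥(Subgroup.centralizer ({x} : Set G)) = Nat.card ↥(Subgroup.centralizer ({y} : Set G)) := by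
  obtain ⟨c, hc⟩ := isConj_iff.mp h
  apply Nat.card_congr
  refine
    { toFun := fun g => ⟨c * g.1 * c⁻¹, ?_⟩
      invFun := fun g => ⟨c⁻¹ * g.1 * c, ?_⟩
      left_inv := ?_
      right_inv := ?_ }
  · have h1 := g.2
    rw [Subgroup.mem_centralizer_iff] at h1 ⊢
    intro z hz
    rw [Set.mem_singleton_iff] at hz
    subst hz
    have h2 := h1 x (Set.mem_singleton _)
    rw [← hc]
    calc c * x * c⁻¹ * (c * g.1 * c⁻¹) = c * (x * g.1) * c⁻¹ := by group
      _ = c * (g.1 * x) * c⁻¹ := by rw [h2]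
      _ = c * g.1 * c⁻¹ * (c * x * c⁻¹) := by group
  · have h1 := g.2
    rw [Subgroup.mem_centralizer_iff] at h1 ⊢
    intro z hz
    rw [Set.mem_singleton_iff] at hz
    subst hz
    have h2 := h1 y (Set.mem_singleton _)
    have h2' : c * z * c⁻¹ * g.1 = g.1 * (c * z * c⁻¹) := by rw [hc]; exact h2
    have h3 : z * (c⁻¹ * g.1 * c) = c⁻¹ * (c * z * c⁻¹ * g.1) * c := by group
    rw [h3, h2']
    group
  · intro g
    apply Subtype.ext
    show c⁻¹ * (c * g.1 * c⁻¹) * c = g.1
    group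
  · intro g
    apply Subtype.ext
    show c * (c⁻¹ * g.1 * c) * c⁻¹ = g.1
    group

end Cfsg.Agent.Lib.Helper16.Cent3
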