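import Mathlib

set_option autoImplicit false
set_option linter.unusedSectionVars false
set_option linter.unusedSimpArgs false
set_option linter.unusedVariables false
set_option linter.unusedTactic false

namespace Cfsg.Agent.Lib.Helper16.ChP

open Matrix Module Polynomial

universe u

variable {F : Type u} [Field F]

/-- eigenvector evaluation. -/
theorem aeval_mulVec_eigen {E : Type*} [Field E] {n : Type*} [Fintype n] [DecidableEq n]
    (M : Matrix n n E) (ω : E) (v : n → E) (hv : M *ᵥ v = ω • v) (Q : E[X]) :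
    (aeval M Q) *ᵥ v = (eval ω Q) • v := by
  have hpow : ∀ k : ℕ, (M ^ k) *ᵥ v = ω ^ k • v := by
    intro k
    induction k with
    | zero => simp
    | succ k ih =>
      rw [pow_succ, ← Matrix.mulVec_mulVec, hv, Matrix.mulVec_smul, ih, smul_smul, pow_succ,
        mul_comm]
  induction Q using Polynomial.induction_on' with
  | add p q hp hq => rw [map_add, Matrix.add_mulVec, hp, hq, eval_add, add_smul]
  | monomial k c =>
    rw [aeval_monomial, eval_monomial, ← Matrix.mulVec_mulVec, hpow, Matrix.algebraMap_eq_diagonal]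
    ext i
    simp [Matrix.mulVec_diagonal, mul_comm, mul_assoc]
    ring

/-- an irreducible factor of the characteristic polynomial gives a singular evaluation. -/
theorem not_isUnit_aeval_of_dvd_charpoly {n : Type*} [Fintype n] [DecidableEq n]
    (M : Matrix n n F) (P : F[X]) (hP : Irreducible P) (hdvd : P ∣ M.charpoly) :
    ¬ IsUnit (aeval M P) := by
  intro hunit
  have : Fact (Irreducible P) := ⟨hP⟩
  obtain ⟨φ, hφ⟩ : ∃ φ : F →+* AdjoinRoot P, φ = algebraMap F (AdjoinRoot P) := ⟨_, rfl⟩
  obtain ⟨ω, hω⟩ : ∃ ω : AdjoinRoot P, ω = AdjoinRoot.root P := ⟨_, rfl⟩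
  have hroot : eval₂ φ ω P = 0 := by
    rw [hφ, hω, AdjoinRoot.algebraMap_eq]; exact AdjoinRoot.eval₂_root P
  have hchar0 : eval ω ((M.map φ).charpoly) = 0 := by
    rw [Matrix.charpoly_map, eval_map]
    obtain ⟨Q, hQ⟩ := hdvd
    rw [hQ, eval₂_mul, hroot, zero_mul]
  rw [Matrix.eval_charpoly] at hchar0
  obtain ⟨v, hv0, hv⟩ := Matrix.exists_mulVec_eq_zero_iff.mpr hchar0
  have hMv : (M.map φ) *ᵥ v = ω • v := by
    rw [Matrix.sub_mulVec] at hv
    have h1 : (Matrix.scalar n ω) *ᵥ v = ω • v := by
      ext i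
      simp [Matrix.scalar_apply, Matrix.mulVec_diagonal]
    rw [h1] at hv
    exact (sub_eq_zero.mp hv).symm
  have h2 := aeval_mulVec_eigen (M.map φ) ω v hMv (P.map φ)
  rw [eval_map, hroot, zero_smul] at h2
  have h3 : aeval (M.map φ) (P.map φ) = (aeval M P).map φ := by
    rw [hφ, Polynomial.aeval_map_algebraMap]
    have h4 := Polynomial.aeval_algHom_apply
      ((Algebra.ofId F (AdjoinRoot P)).mapMatrix : Matrix n n F →ₐ[F] Matrix n n (AdjoinRoot P)) M P
    exact h4
  rw [h3] at h2
  have hdet : ((aeval M P).map φ).det = 0 :=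
    Matrix.exists_mulVec_eq_zero_iff.mp ⟨v, hv0, h2⟩
  have h5 : ((aeval M P).map φ).det = φ ((aeval M P).det) := by
    rw [RingHom.map_det]
    rfl
  rw [h5] at hdet
  have h6 : (aeval M P).det = 0 := by
    rw [hφ] at hdet
    exact (map_eq_zero_iff _ (algebraMap F (AdjoinRoot P)).injective).mp hdet
  have h7 := (Matrix.isUnit_iff_isUnit_det _).mp hunit
  rw [h6] at h7
  exact not_isUnit_zero h7


section EndVersion
variable {V : Type*} [AddCommGroup V] [Module F V] [FiniteDimensional F V]

theorem not_isUnit_aeval_end (T : Module.End F V) (P : F[X]) (hP : Irreducible P)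
    (hdvd : P ∣ T.charpoly) : ¬ IsUnit (aeval T P) := by
  classical
  intro hunit
  obtain ⟨b⟩ : Nonempty (Basis (Fin (finrank F V)) F V) := ⟨Module.finBasis F V⟩
  have h1 : (LinearMap.toMatrix b b T).charpoly = T.charpoly := LinearMap.charpoly_toMatrix T b
  have h2 : aeval (LinearMap.toMatrix b b T) P = LinearMap.toMatrix b b (aeval T P) := by
    have := Polynomial.aeval_algHom_apply (LinearMap.toMatrixAlgEquiv b).toAlgHom T P
    exact this
  apply not_isUnit_aeval_of_dvd_charpoly (LinearMap.toMatrix b b T) P hP (by rw [h1]; exact hdvd)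
  rw [h2]
  exact hunit.map (LinearMap.toMatrixAlgEquiv b)

theorem isUnit_aeval_of_coprime (T : Module.End F V) (P H : F[X]) (hcop : IsCoprime P H)
    (hH : aeval T H = 0) : IsUnit (aeval T P) := by
  obtain ⟨a, b, hab⟩ := hcop
  have h1 := congrArg (aeval T) hab
  rw [map_add, map_mul, map_mul, hH, mul_zero, add_zero, map_one] at h1
  have h2 : aeval T P * aeval T a = 1 := by
    rw [← map_mul, mul_comm, map_mul]; exact h1
  exact ⟨⟨aeval T P, aeval T a, h2, h1⟩, rfl⟩

/-- the characteristic polynomial of an endomorphism killed by a monic irreducible polynomial. -/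
theorem charpoly_eq_pow (T : Module.End F V) (P : F[X]) (hP : Irreducible P) (hmonic : P.Monic)
    (hT : aeval T P = 0) : ∃ k : ℕ, T.charpoly = P ^ k := by
  have hc0 : T.charpoly ≠ 0 := (LinearMap.charpoly_monic T).ne_zero
  obtain ⟨k, B, hB, hcB⟩ := WfDvdMonoid.max_power_factor' hc0 hP.not_isUnit
  have hBunit : IsUnit B := by
    by_contra hnu
    have hB0 : B ≠ 0 := by
      rintro rfl
      rw [mul_zero] at hcB
      exact hc0 hcB
    obtain ⟨P', hP', hP'B⟩ := WfDvdMonoid.exists_irreducible_factor hnu hB0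
    have hP'c : P' ∣ T.charpoly := by rw [hcB]; exact Dvd.dvd.mul_left hP'B _
    have h1 := not_isUnit_aeval_end T P' hP' hP'c
    have h2 : ¬ IsCoprime P' P := fun hcop => h1 (isUnit_aeval_of_coprime T P' P hcop hT)
    have h3 : P ∣ P' := by
      by_contra hnd
      exact h2 ((hP.coprime_iff_not_dvd.mpr hnd).symm)
    exact hB (dvd_trans h3 hP'B)
  refine ⟨k, ?_⟩
  have hassoc : Associated T.charpoly (P ^ k) := by
    rw [hcB]
    exact (associated_mul_unit_left (P ^ k) B hBunit)
  exact eq_of_monic_of_associated (LinearMap.charpoly_monic T) (hmonic.pow k) hassoc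

theorem finrank_eq_of_charpoly_pow (T : Module.End F V) (P : F[X]) (k : ℕ)
    (h : T.charpoly = P ^ k) : finrank F V = k * P.natDegree := by
  rw [← LinearMap.charpoly_natDegree T, h, natDegree_pow]

end EndVersion

end Cfsg.Agent.Lib.Helper16.ChP
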