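import Mathlib
import Cfsg.Agent.Lib.Helper16.ChP1
import Cfsg.Agent.Lib.Helper16.PSemi2

set_option autoImplicit false
set_option linter.unusedSectionVars false
set_option linter.unusedSimpArgs false
set_option linter.unusedVariables false
set_option linter.unusedTactic false

namespace Cfsg.Agent.Lib.Helper16.ChP

open Matrix Module Polynomial Cfsg.Agent.Lib.Helper16.PSemi

universe u

variable {F : Type u} [Field F]

section
variable {V : Type*} [AddCommGroup V] [Module F V] [FiniteDimensional F V]

theorem charpoly_of_isCompl (T : Module.End F V) (W W' : Submodule F V) (hc : IsCompl W W')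
    (hW : ∀ w ∈ W, T w ∈ W) (hW' : ∀ w ∈ W', T w ∈ W') :
    T.charpoly = (T.restrict hW).charpoly * (T.restrict hW').charpoly := by
  rw [← LinearMap.charpoly_prodMap,
    ← LinearEquiv.charpoly_conj (Submodule.prodEquivOfIsCompl W W' hc)]
  congr 1
  apply LinearMap.ext
  intro v
  obtain ⟨x, rfl⟩ := (Submodule.prodEquivOfIsCompl W W' hc).surjective v
  rw [LinearEquiv.conj_apply_apply, LinearEquiv.symm_apply_apply,
    Submodule.coe_prodEquivOfIsCompl', Submodule.coe_prodEquivOfIsCompl', map_add]
  rfl

theorem charpoly_split (T : Module.End F V) (P H : F[X]) (hP : Irreducible P) (hmonic : P.Monic)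
    (hcop : IsCoprime P H) (hT : aeval T (P * H) = 0) :
    ∃ (k : ℕ) (C' : F[X]), T.charpoly = P ^ k * C' ∧ ¬ P ∣ C' ∧
      finrank F (LinearMap.ker (aeval T P)) = k * P.natDegree := by
  have hdisj := Polynomial.disjoint_ker_aeval_of_isCoprime T hcop
  have hsup := Polynomial.sup_ker_aeval_eq_ker_aeval_mul_of_coprime T hcop
  have htop : LinearMap.ker (aeval T (P * H)) = ⊤ := by rw [hT]; exact LinearMap.ker_zero
  have hc : IsCompl (LinearMap.ker (aeval T P)) (LinearMap.ker (aeval T H)) :=
    ⟨hdisj, by rw [codisjoint_iff, hsup, htop]⟩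
  have h1 := charpoly_of_isCompl T _ _ hc (ker_aeval_invariant T P) (ker_aeval_invariant T H)
  have hT1 : aeval (T.restrict (ker_aeval_invariant T P)) P = 0 := by
    apply LinearMap.ext
    intro w
    apply Subtype.ext
    rw [aeval_restrict]
    exact w.2
  have hT2 : aeval (T.restrict (ker_aeval_invariant T H)) H = 0 := by
    apply LinearMap.ext
    intro w
    apply Subtype.ext
    rw [aeval_restrict]
    exact w.2
  obtain ⟨k, hk⟩ := charpoly_eq_pow _ P hP hmonic hT1
  refine ⟨k, _, by rw [h1, hk], ?_, finrank_eq_of_charpoly_pow _ P k hk⟩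
  intro hdvd
  exact not_isUnit_aeval_end _ P hP hdvd (isUnit_aeval_of_coprime _ P H hcop hT2)

end

theorem finrank_ker_eq_of_charpoly_eq {V V' : Type*} [AddCommGroup V] [Module F V]
    [FiniteDimensional F V] [AddCommGroup V'] [Module F V'] [FiniteDimensional F V']
    (T : Module.End F V) (T' : Module.End F V') (P H : F[X]) (hP : Irreducible P)
    (hmonic : P.Monic) (hcop : IsCoprime P H) (hT : aeval T (P * H) = 0)
    (hT' : aeval T' (P * H) = 0) (hch : T.charpoly = T'.charpoly) :
    finrank F (LinearMap.ker (aeval T P)) = finrank F (LinearMap.ker (aeval T' P)) := by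
  obtain ⟨k, C, hk, hC, hfr⟩ := charpoly_split T P H hP hmonic hcop hT
  obtain ⟨k', C', hk', hC', hfr'⟩ := charpoly_split T' P H hP hmonic hcop hT'
  have hmult : ∀ (k : ℕ) (C c : F[X]), c = P ^ k * C → ¬ P ∣ C → emultiplicity P c = k := by
    intro k C c hc hC
    rw [emultiplicity_eq_coe]
    refine ⟨⟨C, hc⟩, ?_⟩
    rw [hc, pow_succ, mul_dvd_mul_iff_left (pow_ne_zero k hP.ne_zero)]
    exact hC
  have e1 := hmult k C _ hk hC
  have e2 := hmult k' C' _ hk' hC'
  rw [hch, e2] at e1
  have : k' = k := by exact_mod_cast e1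
  rw [hfr, hfr', this]

end Cfsg.Agent.Lib.Helper16.ChP
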