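import Mathlib
import Cfsg.Agent.Lib.Helper16.ChP2
import Cfsg.Agent.Lib.Helper16.SpSemi3

set_option autoImplicit false
set_option linter.unusedSectionVars false
set_option linter.unusedSimpArgs false
set_option linter.unusedVariables false
set_option linter.unusedTactic false

namespace Cfsg.Agent.Lib.Helper16.ChP

open Matrix Module Polynomial Cfsg.Agent.Lib.Helper16.PSemi

universe u

variable {F : Type u} [Field F]

/-- the monic irreducible factors of `X ^ N - 1` when `N` is invertible in `F`. -/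
theorem factor_data (N : ℕ) (hN : (N : F) ≠ 0) :
    ∃ (κ : Type u) (_ : Fintype κ) (_ : DecidableEq κ) (f : κ → F[X]),
      (∀ k, Irreducible (f k)) ∧ (∀ k, (f k).Monic) ∧
      Pairwise (Function.onFun IsCoprime f) ∧ ∏ k, f k = X ^ N - 1 := by
  classical
  have hN0 : N ≠ 0 := by
    rintro rfl
    exact hN Nat.cast_zero
  have hmon : (X ^ N - 1 : F[X]).Monic := monic_X_pow_sub_C 1 hN0
  have hΦ0 : (X ^ N - 1 : F[X]) ≠ 0 := hmon.ne_zero
  have hsq : Squarefree (X ^ N - 1 : F[X]) := by
    have := (separable_X_pow_sub_C (1 : F) hN one_ne_zero).squarefree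
    rwa [map_one] at this
  obtain ⟨s, hs⟩ : ∃ s : Finset F[X],
      s = (UniqueFactorizationMonoid.normalizedFactors (X ^ N - 1 : F[X])).toFinset := ⟨_, rfl⟩
  have hmem : ∀ P, P ∈ s ↔ P ∈ UniqueFactorizationMonoid.normalizedFactors (X ^ N - 1 : F[X]) := by
    intro P; rw [hs, Multiset.mem_toFinset]
  have hirr : ∀ P ∈ s, Irreducible P := fun P hP =>
    UniqueFactorizationMonoid.irreducible_of_normalized_factor P ((hmem P).mp hP)
  have hmonic : ∀ P ∈ s, P.Monic := by
    intro P hP
    have h1 := UniqueFactorizationMonoid.normalize_normalized_factor P ((hmem P).mp hP)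
    rw [← h1]
    exact Polynomial.monic_normalize (hirr P hP).ne_zero
  have hnodup : (UniqueFactorizationMonoid.normalizedFactors (X ^ N - 1 : F[X])).Nodup :=
    (UniqueFactorizationMonoid.squarefree_iff_nodup_normalizedFactors hΦ0).mp hsq
  have hprod : ∏ P ∈ s, P = X ^ N - 1 := by
    have h1 : ∏ P ∈ s, P = (UniqueFactorizationMonoid.normalizedFactors (X ^ N - 1 : F[X])).prod := by
      rw [hs, Finset.prod_eq_multiset_prod, Multiset.toFinset_val, Multiset.dedup_eq_self.mpr hnodup,
        Multiset.map_id']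
    have h2 := UniqueFactorizationMonoid.prod_normalizedFactors hΦ0
    rw [← h1] at h2
    exact eq_of_monic_of_associated (monic_prod_of_monic _ _ hmonic) hmon h2
  refine ⟨↥s, inferInstance, inferInstance, fun P => P.1, ?_, ?_, ?_, ?_⟩
  · intro k; exact hirr k.1 k.2
  · intro k; exact hmonic k.1 k.2
  · intro k k' hkk'
    show IsCoprime k.1 k'.1
    rw [(hirr k.1 k.2).coprime_iff_not_dvd]
    intro hd
    apply hkk'
    apply Subtype.ext
    have hassoc : Associated k.1 k'.1 := (hirr k.1 k.2).associated_of_dvd (hirr k'.1 k'.2) hd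
    exact eq_of_monic_of_associated (hmonic k.1 k.2) (hmonic k'.1 k'.2) hassoc
  · rw [← hprod]
    exact (Finset.prod_coe_sort s (fun P => P))

/-- matrices of order prime to the characteristic with equal characteristic polynomials are
similar. -/
theorem conj_of_charpoly_eq {n : Type} [Fintype n] [DecidableEq n] (N : ℕ) (hN : (N : F) ≠ 0)
    (A B : Matrix n n F) (hA : A ^ N = 1) (hB : B ^ N = 1) (hch : A.charpoly = B.charpoly) :
    ∃ U : (Matrix n n F)ˣ, U.1 * A = B * U.1 := by
  classical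
  obtain ⟨κ, hκF, hκD, f, hirr, hmonic, hcop, hprod⟩ := factor_data (F := F) N hN
  have hkill : ∀ g : Matrix n n F, g ^ N = 1 → aeval (Matrix.toLin' g) (∏ k, f k) = 0 := by
    intro g hg
    rw [hprod, map_sub, map_pow, aeval_X, map_one, ← Matrix.toLin'_pow, hg, Matrix.toLin'_one]
    exact sub_self _
  have hkeq : ∀ k, finrank F (LinearMap.ker (aeval (Matrix.toLin' A) (f k)))
      = finrank F (LinearMap.ker (aeval (Matrix.toLin' B) (f k))) := by
    intro k
    have hsplit : f k * ∏ j ∈ Finset.univ.erase k, f j = ∏ j, f j :=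
      Finset.mul_prod_erase Finset.univ f (Finset.mem_univ k)
    have hcopk : IsCoprime (f k) (∏ j ∈ Finset.univ.erase k, f j) := by
      apply IsCoprime.prod_right
      intro j hj
      exact hcop (Finset.ne_of_mem_erase hj).symm
    apply finrank_ker_eq_of_charpoly_eq _ _ (f k) _ (hirr k) (hmonic k) hcopk
    · rw [hsplit]; exact hkill A hA
    · rw [hsplit]; exact hkill B hB
    · rw [Matrix.charpoly_toLin', Matrix.charpoly_toLin', hch]
  obtain ⟨Ee, hEe⟩ := conj_of_finrank_ker f hirr hcop (Matrix.toLin' A)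
    (Matrix.toLin' B) (hkill _ hA) (hkill _ hB) hkeq
  have hQ1 : LinearMap.toMatrix' Ee.toLinearMap * LinearMap.toMatrix' Ee.symm.toLinearMap = 1 := by
    rw [← LinearMap.toMatrix'_comp, LinearEquiv.comp_coe, LinearEquiv.symm_trans_self,
      LinearEquiv.refl_toLinearMap, LinearMap.toMatrix'_id]
  have hQ2 : LinearMap.toMatrix' Ee.symm.toLinearMap * LinearMap.toMatrix' Ee.toLinearMap = 1 :=
    mul_eq_one_comm.mp hQ1
  have hQg : LinearMap.toMatrix' Ee.toLinearMap * A = B * LinearMap.toMatrix' Ee.toLinearMap := by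
    have h2 : A = LinearMap.toMatrix' (Matrix.toLin' A) := (LinearMap.toMatrix'_toLin' _).symm
    have h3 : B = LinearMap.toMatrix' (Matrix.toLin' B) := (LinearMap.toMatrix'_toLin' _).symm
    conv_lhs => rw [h2]
    conv_rhs => rw [h3]
    rw [← LinearMap.toMatrix'_comp, ← LinearMap.toMatrix'_comp]
    congr 1
    apply LinearMap.ext
    intro v
    simp only [LinearMap.comp_apply, LinearEquiv.coe_coe]
    exact hEe v
  exact ⟨⟨LinearMap.toMatrix' Ee.toLinearMap, LinearMap.toMatrix' Ee.symm.toLinearMap, hQ1, hQ2⟩, hQg⟩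

theorem sp_conj_of_charpoly_eq [Fintype F] (p : ℕ) [Fact p.Prime] [CharP F p] (n : ℕ)
    (g h : ↥(Matrix.symplecticGroup (Fin n) F)) (hg : (orderOf g).Coprime p)
    (hh : (orderOf h).Coprime p)
    (hc : (g : Matrix (Fin n ⊕ Fin n) (Fin n ⊕ Fin n) F).charpoly
      = (h : Matrix (Fin n ⊕ Fin n) (Fin n ⊕ Fin n) F).charpoly) : IsConj g h := by
  rw [SpSemi.sp_conj_iff g h hg]
  obtain ⟨N, hNdef⟩ : ∃ N, N = orderOf g * orderOf h := ⟨_, rfl⟩
  have hNp : N.Coprime p := by rw [hNdef]; exact Nat.Coprime.mul_left hg hh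
  have hNF : (N : F) ≠ 0 := by
    intro h0
    rw [CharP.cast_eq_zero_iff F p] at h0
    have h1 : p ∣ Nat.gcd N p := Nat.dvd_gcd h0 dvd_rfl
    rw [hNp] at h1
    exact (Fact.out : p.Prime).one_lt.ne' (Nat.dvd_one.mp h1)
  have hgN : g.1 ^ N = 1 := by
    have h1 : g ^ N = 1 := by rw [hNdef, pow_mul, pow_orderOf_eq_one, one_pow]
    have := congrArg Subtype.val h1
    exact this
  have hhN : h.1 ^ N = 1 := by
    have h1 : h ^ N = 1 := by rw [hNdef, mul_comm, pow_mul, pow_orderOf_eq_one, one_pow]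
    have := congrArg Subtype.val h1
    exact this
  obtain ⟨U, hU⟩ := conj_of_charpoly_eq N hNF g.1 h.1 hgN hhN hc
  exact ⟨U, hU⟩

end Cfsg.Agent.Lib.Helper16.ChP
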