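import Mathlib
import Cfsg.Prelude.Def_LieClassical
import Cfsg.Agent.Lib.Helper16.Cent3a
import Cfsg.Agent.Lib.Helper16.Cent3b
import Cfsg.Agent.Lib.Helper16.ChP3
import Cfsg.Agent.S0277

set_option autoImplicit false
set_option linter.unusedSectionVars false

namespace Cfsg.Agent.Lib.Helper16.Cent3

open Module Polynomial

universe u v

theorem toMatrix_mem_sp_iff {F : Type u} [Field F] {V : Type v} [AddCommGroup V] [Module F V] {m : ℕ}
    (b : Basis (Fin m ⊕ Fin m) F V) (ω : LinearMap.BilinForm F V)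
    (hb : LinearMap.BilinForm.toMatrix b ω = Matrix.J (Fin m) F) (T : V →ₗ[F] V) :
    LinearMap.toMatrix b b T ∈ Matrix.symplecticGroup (Fin m) F ↔ ∀ u v, ω (T u) (T v) = ω u v := by
  rw [SymplecticGroup.mem_iff']
  have h2 := LinearMap.BilinForm.toMatrix_comp b b ω T T
  rw [hb] at h2
  constructor
  · intro h u v
    have h3 : LinearMap.BilinForm.toMatrix b (LinearMap.BilinForm.comp ω T T) =
        LinearMap.BilinForm.toMatrix b ω := by
      rw [h2, hb]; exact h
    have h4 := (LinearMap.BilinForm.toMatrix b).injective h3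
    have := congrArg (fun B : LinearMap.BilinForm F V => B u v) h4
    exact this
  · intro h
    have h1 : LinearMap.BilinForm.comp ω T T = ω := by
      apply LinearMap.ext
      intro u
      apply LinearMap.ext
      intro v
      exact h u v
    rw [h1, hb] at h2
    exact h2.symm

section
variable {F : Type*} [Field F] [Fintype F]

theorem three_ne_zero_of_card {q : ℕ} (hF : Fintype.card F = q) (hq : q % 3 = 2) : (3 : F) ≠ 0 := by
  intro h3
  obtain ⟨p, hp⟩ := CharP.exists F
  have hprime : p.Prime := CharP.char_is_prime F p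
  have hd : p ∣ 3 := by
    have := (CharP.cast_eq_zero_iff F p 3).mp (by exact_mod_cast h3)
    exact this
  have hp3 : p = 3 := (Nat.prime_dvd_prime_iff_eq hprime Nat.prime_three).mp hd
  subst hp3
  obtain ⟨n, -, hn⟩ := FiniteField.card F 3
  rw [hF] at hn
  have : 3 ∣ q := by rw [hn]; exact dvd_pow_self 3 n.ne_zero
  omega

theorem no_root_cyc3 {q : ℕ} (hF : Fintype.card F = q) (hq : q % 3 = 2) (a : F) :
    a ^ 2 + a + 1 ≠ 0 := by
  classical
  intro ha
  have h3 := three_ne_zero_of_card hF hq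
  have ha3 : a ^ 3 = 1 := by linear_combination (a - 1) * ha
  have ha1 : a ≠ 1 := by
    rintro rfl
    apply h3
    linear_combination ha
  have ha0 : a ≠ 0 := by
    rintro rfl
    simp at ha3
  let u : Fˣ := Units.mk0 a ha0
  have hu3 : u ^ 3 = 1 := Units.ext (by simpa [u] using ha3)
  have hu1 : u ≠ 1 := fun h => ha1 (by simpa [u] using congrArg Units.val h)
  have : Fact (Nat.Prime 3) := ⟨Nat.prime_three⟩
  have hord : orderOf u = 3 := orderOf_eq_prime hu3 hu1
  have hdvd : 3 ∣ Fintype.card Fˣ := hord ▸ orderOf_dvd_card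
  rw [Fintype.card_units, hF] at hdvd
  have : 0 < q := hF ▸ Fintype.card_pos
  omega

theorem cyc3_natDegree : (X ^ 2 + X + 1 : F[X]).natDegree = 2 := by compute_degree!

theorem cyc3_monic : (X ^ 2 + X + 1 : F[X]).Monic := by monicity!

theorem cyc3_irreducible {q : ℕ} (hF : Fintype.card F = q) (hq : q % 3 = 2) :
    Irreducible (X ^ 2 + X + 1 : F[X]) := by
  rw [Polynomial.Monic.irreducible_iff_roots_eq_zero_of_degree_le_three cyc3_monic
    (by rw [cyc3_natDegree]) (by rw [cyc3_natDegree]; omega)]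
  rw [Multiset.eq_zero_iff_forall_notMem]
  intro a ha
  rw [mem_roots cyc3_monic.ne_zero, IsRoot.def] at ha
  simp only [eval_add, eval_pow, eval_X, eval_one] at ha
  exact no_root_cyc3 hF hq a ha

/-- a matrix killed by `X^2+X+1` (irreducible) has charpoly `(X^2+X+1)^m`. -/
theorem charpoly_of_cyc3 {q : ℕ} (hF : Fintype.card F = q) (hq : q % 3 = 2) {m : ℕ}
    (M : Matrix (Fin m ⊕ Fin m) (Fin m ⊕ Fin m) F) (hM : M ^ 2 + M + 1 = 0) :
    M.charpoly = (X ^ 2 + X + 1 : F[X]) ^ m := by
  have hT : aeval (Matrix.toLin' M) (X ^ 2 + X + 1 : F[X]) = 0 := by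
    have h1 := Polynomial.aeval_algHom_apply (Matrix.toLinAlgEquiv' (R := F) (n := Fin m ⊕ Fin m)).toAlgHom M
      (X ^ 2 + X + 1 : F[X])
    have h2 : aeval M (X ^ 2 + X + 1 : F[X]) = 0 := by
      simp only [map_add, map_pow, aeval_X, map_one]
      exact hM
    rw [h2, map_zero] at h1
    exact h1
  obtain ⟨k, hk⟩ := ChP.charpoly_eq_pow (Matrix.toLin' M) _ (cyc3_irreducible hF hq) cyc3_monic hT
  have h3 := ChP.finrank_eq_of_charpoly_pow (Matrix.toLin' M) _ k hk
  rw [cyc3_natDegree, Module.finrank_pi, Fintype.card_sum, Fintype.card_fin] at h3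
  have hkm : k = m := by omega
  rw [← Matrix.charpoly_toLin', hk, hkm]

end

end Cfsg.Agent.Lib.Helper16.Cent3
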