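import Mathlib
import Cfsg.Prelude.Def_LieClassical
import Cfsg.Agent.Lib.Helper16.Cent3c

set_option autoImplicit false
set_option linter.unusedSectionVars false

namespace Cfsg.Agent.Lib.Helper16.Cent3

open Module Polynomial

section
variable {K F : Type*} [Field K] [Fintype K] [Field F] [Fintype F] [Algebra F K]

theorem exists_lam (w : K) (hw : ∀ t : F, algebraMap F K t ≠ w) :
    ∃ lam : K →ₗ[F] F, lam 1 = 0 ∧ lam w ≠ 0 := by
  set S : Submodule F K := Submodule.span F {(1 : K)} with hS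
  have hwS : S.mkQ w ≠ 0 := by
    intro h0
    rw [Submodule.mkQ_apply, Submodule.Quotient.mk_eq_zero, hS, Submodule.mem_span_singleton] at h0
    obtain ⟨t, ht⟩ := h0
    apply hw t
    rw [← ht, Algebra.smul_def, mul_one]
  obtain ⟨g, hg⟩ : ∃ g : (K ⧸ S) →ₗ[F] F, g (S.mkQ w) ≠ 0 := by
    by_contra hcon
    push Not at hcon
    exact hwS ((Module.forall_dual_apply_eq_zero_iff F (S.mkQ w)).mp hcon)
  refine ⟨g.comp S.mkQ, ?_, hg⟩
  have h1 : S.mkQ (1 : K) = 0 := by
    rw [Submodule.mkQ_apply, Submodule.Quotient.mk_eq_zero, hS]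
    exact Submodule.mem_span_singleton_self 1
  rw [LinearMap.comp_apply, h1, map_zero]

theorem cent3_card_generic {q : ℕ} (hF : Fintype.card F = q) (hq : q % 3 = 2)
    (hfr : finrank F K = 2) (w : K) (hw : w ^ 2 + w + 1 = 0) {m : ℕ}
    (x : Matrix.symplecticGroup (Fin m) F) (hx3 : x ^ 3 = 1)
    (hfpf : IsUnit ((x : Matrix (Fin m ⊕ Fin m) (Fin m ⊕ Fin m) F) - 1)) :
    Nat.card ↥(Subgroup.centralizer ({x} : Set ↥(Matrix.symplecticGroup (Fin m) F))) =
      Nat.card (Cfsg.GU m K q) := by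
  have : FiniteDimensional F K := Module.finite_of_finrank_pos (by omega)
  have hK : Fintype.card K = q ^ 2 := by
    rw [Module.card_eq_pow_finrank (K := F) (V := K), hF, hfr]
  have hwF : ∀ t : F, algebraMap F K t ≠ w := by
    intro t ht
    apply no_root_cyc3 hF hq t
    apply (algebraMap F K).injective
    rw [map_add, map_add, map_pow, ht, map_one, map_zero]
    exact hw
  have hw3 : w ^ 3 = 1 := by linear_combination (w - 1) * hw
  have hwq : w * w ^ q = 1 := by
    have h1 : q = 3 * (q / 3) + 2 := by omega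
    rw [h1, pow_add, pow_mul, hw3, one_pow, one_mul]
    linear_combination hw3
  obtain ⟨lam, hlam1, hlamw⟩ := exists_lam (F := F) w hwF
  have halt := hermBeta_alt hK hF hfr lam hlam1 m
  have hnd := hermBeta_nondeg hK hF hfr lam hlam1 w hlamw m
  have hV : finrank F (Fin m → K) = 2 * m := by
    rw [Module.finrank_pi_fintype]
    simp only [hfr, Finset.sum_const, Finset.card_univ, Fintype.card_fin, smul_eq_mul]
    ring
  obtain ⟨b, hb⟩ := symplectic_basis hV (hermBeta lam m) halt hnd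
  let T₀ : (Fin m → K) →ₗ[F] (Fin m → K) :=
    { toFun := fun v => w • v
      map_add' := smul_add w
      map_smul' := fun c v => smul_comm w c v }
  have hT₀ : ∀ v, T₀ v = w • v := fun v => rfl
  have hT₀pres : ∀ u v, hermBeta lam m (T₀ u) (T₀ v) = hermBeta lam m u v := by
    intro u v
    rw [hermBeta_apply hF, hermBeta_apply hF, hT₀, hT₀, hermForm_smul_left]
    congr 1
    unfold Cfsg.hermForm
    rw [Finset.mul_sum]
    apply Finset.sum_congr rfl
    intro i _
    rw [Pi.smul_apply, smul_eq_mul, mul_pow]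
    linear_combination (u i * v i ^ q) * hwq
  let x₁ : Matrix.symplecticGroup (Fin m) F :=
    ⟨LinearMap.toMatrix b b T₀, (toMatrix_mem_sp_iff b _ hb T₀).mpr hT₀pres⟩
  have hx₁ : (x₁ : Matrix (Fin m ⊕ Fin m) (Fin m ⊕ Fin m) F) = LinearMap.toMatrix b b T₀ := rfl
  have hx₁P : (x₁ : Matrix (Fin m ⊕ Fin m) (Fin m ⊕ Fin m) F) ^ 2 + x₁ + 1 = 0 := by
    rw [hx₁, pow_two, ← LinearMap.toMatrix_mul, ← LinearMap.toMatrix_one b, ← map_add, ← map_add]
    have : T₀ * T₀ + T₀ + 1 = 0 := by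
      apply LinearMap.ext
      intro v
      show w • w • v + w • v + v = 0
      have h1 : w • w • v + w • v + v = (w * w + w + 1) • v := by
        rw [add_smul, add_smul, one_smul, smul_smul]
      have : w * w + w + 1 = 0 := by linear_combination hw
      rw [h1, this, zero_smul]
    rw [this, map_zero]
  have hxP : (x : Matrix (Fin m ⊕ Fin m) (Fin m ⊕ Fin m) F) ^ 2 + x + 1 = 0 := by
    obtain ⟨U, hU⟩ := hfpf
    have h3 : (x : Matrix (Fin m ⊕ Fin m) (Fin m ⊕ Fin m) F) ^ 3 = 1 := by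
      have := congrArg Subtype.val hx3
      exact this
    have h4 : (U : Matrix (Fin m ⊕ Fin m) (Fin m ⊕ Fin m) F) *
        ((x : Matrix (Fin m ⊕ Fin m) (Fin m ⊕ Fin m) F) ^ 2 + x + 1) = 0 := by
      rw [hU]
      have : ((x : Matrix (Fin m ⊕ Fin m) (Fin m ⊕ Fin m) F) - 1) *
          ((x : Matrix (Fin m ⊕ Fin m) (Fin m ⊕ Fin m) F) ^ 2 + x + 1) =
          (x : Matrix (Fin m ⊕ Fin m) (Fin m ⊕ Fin m) F) ^ 3 - 1 := by noncomm_ring
      rw [this, h3, sub_self]
    have h5 := congrArg (fun z => ((U⁻¹ : (Matrix (Fin m ⊕ Fin m) (Fin m ⊕ Fin m) F)ˣ) : Matrix _ _ F) * z) h4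
    simp only [← mul_assoc, Units.inv_mul, one_mul, mul_zero] at h5
    exact h5
  have hch : (x : Matrix (Fin m ⊕ Fin m) (Fin m ⊕ Fin m) F).charpoly =
      (x₁ : Matrix (Fin m ⊕ Fin m) (Fin m ⊕ Fin m) F).charpoly := by
    rw [charpoly_of_cyc3 hF hq _ hxP, charpoly_of_cyc3 hF hq _ hx₁P]
  obtain ⟨p, hp⟩ := CharP.exists F
  have hprime : p.Prime := CharP.char_is_prime F p
  have : Fact p.Prime := ⟨hprime⟩
  have hp3 : p ≠ 3 := by
    rintro rfl
    apply three_ne_zero_of_card hF hq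
    have := CharP.cast_eq_zero F 3
    exact_mod_cast this
  have hcop : Nat.Coprime 3 p := (Nat.coprime_primes Nat.prime_three hprime).mpr (Ne.symm hp3)
  have hx₁3 : x₁ ^ 3 = 1 := by
    apply Subtype.ext
    show (x₁ : Matrix (Fin m ⊕ Fin m) (Fin m ⊕ Fin m) F) ^ 3 = 1
    have : (x₁ : Matrix (Fin m ⊕ Fin m) (Fin m ⊕ Fin m) F) ^ 3 - 1 =
        ((x₁ : Matrix (Fin m ⊕ Fin m) (Fin m ⊕ Fin m) F) - 1) *
          ((x₁ : Matrix (Fin m ⊕ Fin m) (Fin m ⊕ Fin m) F) ^ 2 + x₁ + 1) := by noncomm_ring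
    rw [hx₁P, mul_zero] at this
    exact sub_eq_zero.mp this
  have hox : (orderOf x).Coprime p := Nat.Coprime.coprime_dvd_left (orderOf_dvd_of_pow_eq_one hx3) hcop
  have hox₁ : (orderOf x₁).Coprime p := Nat.Coprime.coprime_dvd_left (orderOf_dvd_of_pow_eq_one hx₁3) hcop
  have hconj : IsConj x x₁ := ChP.sp_conj_of_charpoly_eq p m x x₁ hox hox₁ hch
  rw [card_centralizer_of_isConj x x₁ hconj, cent_card_eq b (hermBeta lam m) hb T₀ x₁ hx₁]
  exact gu_card_eq hF hfr lam w hlamw m w hwF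

end

end Cfsg.Agent.Lib.Helper16.Cent3
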