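import Mathlib
import Cfsg.Prelude.Def_LieClassical
import Cfsg.Agent.Lib.Helper16.Cent3d
import Cfsg.Agent.S0277

set_option autoImplicit false
set_option linter.unusedSectionVars false

namespace Cfsg.Agent.Lib.Helper16.Cent3

open Module Polynomial

theorem gu_formula_int (q m : ℕ) (hq : 0 < q) :
    ((q ^ (m * (m - 1) / 2) * ∏ i ∈ Finset.range m,
      (if Even i then q ^ (i + 1) + 1 else q ^ (i + 1) - 1) : ℕ) : ℤ) =
    (q : ℤ) ^ (m * (m - 1) / 2) * ∏ i : Fin m, ((q : ℤ) ^ ((i : ℕ) + 1) - (-1) ^ ((i : ℕ) + 1)) := by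
  rw [Nat.cast_mul, Nat.cast_pow, Nat.cast_prod]
  congr 1
  rw [← Fin.prod_univ_eq_prod_range (fun i => (((if Even i then q ^ (i + 1) + 1 else q ^ (i + 1) - 1 : ℕ)) : ℤ)) m]
  apply Finset.prod_congr rfl
  intro i _
  have h1 : 1 ≤ q ^ ((i : ℕ) + 1) := Nat.one_le_pow _ _ hq
  split_ifs with he
  · rw [pow_succ (-1 : ℤ), Even.neg_one_pow he]
    push_cast
    ring
  · rw [Nat.not_even_iff_odd] at he
    rw [Nat.cast_sub h1, Nat.cast_pow, Nat.cast_one, pow_succ (-1 : ℤ), Odd.neg_one_pow he]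
    ring


theorem cent3_card {F : Type*} [Field F] [Fintype F] {q : ℕ} (hF : Fintype.card F = q) (hq : q % 3 = 2)
    {m : ℕ} (x : Matrix.symplecticGroup (Fin m) F) (hx3 : x ^ 3 = 1)
    (hfpf : IsUnit ((x : Matrix (Fin m ⊕ Fin m) (Fin m ⊕ Fin m) F) - 1)) :
    (Nat.card ↥(Subgroup.centralizer ({x} : Set ↥(Matrix.symplecticGroup (Fin m) F))) : ℤ) =
      (q : ℤ) ^ (m * (m - 1) / 2) * ∏ i : Fin m, ((q : ℤ) ^ ((i : ℕ) + 1) - (-1) ^ ((i : ℕ) + 1)) := by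
  have hirr := cyc3_irreducible hF hq
  have : Fact (Irreducible (X ^ 2 + X + 1 : F[X])) := ⟨hirr⟩
  have hP0 : (X ^ 2 + X + 1 : F[X]) ≠ 0 := hirr.ne_zero
  have hfin : Module.Finite F (AdjoinRoot (X ^ 2 + X + 1 : F[X])) := (AdjoinRoot.powerBasis hP0).finite
  have hfr : finrank F (AdjoinRoot (X ^ 2 + X + 1 : F[X])) = 2 := by
    rw [(AdjoinRoot.powerBasis hP0).finrank, AdjoinRoot.powerBasis_dim, cyc3_natDegree]
  have : Finite (AdjoinRoot (X ^ 2 + X + 1 : F[X])) := Module.finite_of_finite F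
  let _ : Fintype (AdjoinRoot (X ^ 2 + X + 1 : F[X])) := Fintype.ofFinite _
  have hw : (AdjoinRoot.root (X ^ 2 + X + 1 : F[X])) ^ 2 + AdjoinRoot.root (X ^ 2 + X + 1 : F[X]) + 1 = 0 := by
    have h1 := AdjoinRoot.eval₂_root (X ^ 2 + X + 1 : F[X])
    simpa using h1
  have hK : Fintype.card (AdjoinRoot (X ^ 2 + X + 1 : F[X])) = q ^ 2 := by
    rw [Module.card_eq_pow_finrank (K := F) (V := AdjoinRoot (X ^ 2 + X + 1 : F[X])), hF, hfr]
  have hq0 : 0 < q := hF ▸ Fintype.card_pos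
  rw [cent3_card_generic (K := AdjoinRoot (X ^ 2 + X + 1 : F[X])) hF hq hfr _ hw x hx3 hfpf,
    Cfsg.Agent.S0277.result hK m]
  exact gu_formula_int q m hq0

end Cfsg.Agent.Lib.Helper16.Cent3
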