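import Mathlib
import Cfsg.Prelude.Def_GeometricClasses
import Cfsg.Agent.Lib.Helper27.ASC.Defs
import Cfsg.Agent.Lib.helper23.ASCO.Defs
import Cfsg.Agent.Lib.Helper19.ASG.Defs
import Cfsg.Agent.Lib.Helper1.ASGCLIF3
import Cfsg.Agent.Lib.Helper25.ASO.Defs
import Cfsg.Agent.Lib.helper23.ASE.Defs
import Cfsg.Agent.Lib.Helper16.ASE10.Defs
import Cfsg.Agent.Lib.Helper13.ASEPLUSDECcore

set_option autoImplicit false
set_option linter.unusedVariables false
set_option linter.unusedSectionVars false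

/-!
# Project E10M (leader helper16), piece PLUS2 : `plus_of_dec_sq`

An orthogonal decomposition into an even number of isometric blocks over a field in which `-1` is a square makes the space of
plus type (via `Helper13.ASEPLUSDECcore` `aseplusdec_range`).
-/

namespace Cfsg.Agent.Lib.Helper16.E10M

open Cfsg Cfsg.Geo Cfsg.Agent.Lib.Helper27.ASC Cfsg.Agent.Lib.helper23.ASCO Cfsg.Agent.Lib.Helper19.ASG
  Cfsg.Agent.Lib.Helper25.ASO
open scoped MatrixGroups Matrix Kronecker

variable {n : ℕ} {F : Type*} [Field F] [Fintype F]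

/-- PLUS2 -/
theorem plus_of_dec_sq (hsq : IsSquare (-1 : F)) (Q : QuadraticForm F (Fin n → F))
    (hQ : (QuadraticMap.polarBilin Q).Nondegenerate) {t k : ℕ} (D : Fin t → Submodule F (Fin n → F))
    (hD : IsOrthogonalMDecomposition (⇑Q) k D) (ht : Even t) : IsPlusTypeOn (⇑Q) ⊤ := by
  classical
  obtain ⟨c, hc⟩ := hsq
  have hts : ∃ s, t = s * 2 := by
    obtain ⟨s, hs⟩ := ht
    exact ⟨s, by omega⟩
  obtain ⟨s, rfl⟩ := hts
  have ht2 : 2 ≤ s * 2 := hD.decomp.decomp.two_le
  have hn : s * 2 * k = n := Cfsg.Agent.Lib.Helper28.Ld.card_eq D hD.decomp.decomp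
  let i0 : Fin (s * 2) := ⟨0, by omega⟩
  have hfr : Module.finrank F (D i0) = k := hD.decomp.decomp.finrank_eq i0
  let e : Fin s × Fin 2 ≃ Fin (s * 2) := finProdFinEquiv
  let a : Fin 2 → F := ![1, c]
  let L : Fin (s * 2) → ((Fin s → D i0) →ₗ[F] D i0) := fun i =>
    a (e.symm i).2 • (LinearMap.proj (e.symm i).1 : (Fin s → D i0) →ₗ[F] D i0)
  have hL : ∀ i x, L i x = a (e.symm i).2 • x (e.symm i).1 := fun i x => rfl
  have hL0 : ∀ x : Fin s → D i0, ∑ i, Q ((L i x : D i0) : Fin n → F) = 0 := by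
    intro x
    have h1 : ∀ i, Q ((L i x : D i0) : Fin n → F) =
        (a (e.symm i).2 * a (e.symm i).2) * Q ((x (e.symm i).1 : D i0) : Fin n → F) := by
      intro i
      rw [hL, Submodule.coe_smul, QuadraticMap.map_smul, smul_eq_mul]
    simp_rw [h1]
    rw [← Equiv.sum_comp e, Fintype.sum_prod_type]
    apply Finset.sum_eq_zero
    intro j _
    rw [Fin.sum_univ_two]
    simp only [Equiv.symm_apply_apply]
    have ha0 : a 0 = 1 := rfl
    have ha1 : a 1 = c := rfl
    rw [ha0, ha1, ← hc]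
    ring
  have hLinj : ∀ x : Fin s → D i0, (∀ i, L i x = 0) → x = 0 := by
    intro x hx
    funext j
    have h1 := hx (e (j, 0))
    rw [hL, Equiv.symm_apply_apply] at h1
    have ha0 : a 0 = 1 := rfl
    simpa [ha0] using h1
  obtain ⟨U, hU, hUd⟩ := Cfsg.Agent.Lib.helper23.ASE.aseplusdec_range Q D hD i0 L hL0 hLinj
  refine ⟨U, le_top, hU, ?_⟩
  rw [hUd, Module.finrank_pi_fintype, finrank_top, Module.finrank_fintype_fun_eq_card, Fintype.card_fin]
  simp only [hfr, Finset.sum_const, Finset.card_univ, Fintype.card_fin, smul_eq_mul]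
  rw [← hn]
  ring

end Cfsg.Agent.Lib.Helper16.E10M
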