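import Mathlib
import Cfsg.Agent.Lib.Helper16.OM33

set_option autoImplicit false
set_option linter.unusedSectionVars false
set_option linter.unusedVariables false

/-! Field automorphisms of prime order of plus-type orthogonal groups, part 1: the centraliser of the
standard field automorphism in the inner-diagonal group. -/

namespace Cfsg.Agent.Lib.Helper16.FA

open Matrix Module Cfsg.Agent.Lib.Lead Cfsg.Agent.Lib.Lead.OA Cfsg.Agent.Lib.Helper16
  Cfsg.Agent.Lib.Helper16.OA Cfsg.Agent.Lib.Helper16.OL Cfsg.Agent.Lib.Helper16.PSC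
  Cfsg.Agent.Lib.Helper16.H9 Cfsg.Agent.Lib.Helper16.OM Cfsg.Agent.Lib.Lead.OAP

universe u v

section plus

variable {F : Type u} [Field F] [Fintype F] {F₀ : Type v} [Field F₀] [Fintype F₀] {m : ℕ}

theorem baseCompat_plus_gen (j : F₀ →+* F) (m : ℕ) :
    BaseCompat j (⇑(qfPlus m F₀)) (⇑(qfPlus m F)) := by
  intro v
  rw [qfPlus_coe, qfPlus_coe]
  unfold Cfsg.quadFormPlus
  simp only [map_sum, map_mul]

theorem inndiagPlus_le_range (hm : 4 ≤ m) :
    Cfsg.inndiagPOmegaPlus m F ≤ (cHom (Cfsg.quadFormPlus m F)).range := by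
  have hne := plus_exists_ne_zero (F := F) m (by omega)
  by_cases hch : ringChar F = 2
  · have hcp : CharP F 2 := by
      rw [← hch]; exact ringChar.charP F
    rw [inndiagPlus_eq_inn_char2 (by omega : 3 ≤ m)]
    have hinn : Cfsg.Inn (Cfsg.POmega F (Cfsg.quadFormPlus m F)) =
        (Cfsg.Omega F (⇑(qfPlus m F) : (Fin m ⊕ Fin m → F) → F)).map (c0 (qfPlus m F)) :=
      inn_eq' (qfPlus m F)
    rw [hinn]
    rintro _ ⟨s, hs, rfl⟩
    exact ⟨isoToGO (qfPlus m F) s, rfl⟩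
  · have hodd : Odd (Fintype.card F) := Nat.odd_iff.mpr (FiniteField.odd_card_of_char_ne_two hch)
    have h2 : (2 : F) ≠ 0 := two_ne_zero_of_odd hodd
    rw [inndiagPlus_eq h2 hne]
    rintro _ ⟨g, -, rfl⟩
    exact ⟨g, rfl⟩

set_option maxHeartbeats 1600000 in
theorem K1_plus (hm : 4 ≤ m) (j : F₀ →+* F) (g₀ : ↥(GOq (qfPlus m F₀))) :
    cHom (Cfsg.quadFormPlus m F₀) g₀ ∈ Cfsg.inndiagPOmegaPlus m F₀ ↔
      LamG j (qfPlus m F₀) (qfPlus m F) (baseCompat_plus_gen j m) g₀ ∈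
        Cfsg.inndiagPOmegaPlus m F := by
  have hQ₀ := qfPlus_nondeg m F₀
  have hQ := qfPlus_nondeg m F
  have hcard := card_plus_index m
  have hn : 7 ≤ Fintype.card (Fin m ⊕ Fin m) := by rw [hcard]; omega
  have hne₀ := plus_exists_ne_zero (F := F₀) m (by omega)
  have hne := plus_exists_ne_zero (F := F) m (by omega)
  by_cases hch : ringChar F = 2
  · have hcp : CharP F 2 := by
      rw [← hch]; exact ringChar.charP F
    have hcp₀ : CharP F₀ 2 := RingHom.charP j j.injective 2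
    rw [inndiagPlus_eq_inn_char2 (F := F₀) (by omega : 3 ≤ m),
      inndiagPlus_eq_inn_char2 (F := F) (by omega : 3 ≤ m)]
    have hinn₀ : Cfsg.Inn (Cfsg.POmega F₀ (Cfsg.quadFormPlus m F₀)) =
        (Cfsg.Omega F₀ (⇑(qfPlus m F₀) : (Fin m ⊕ Fin m → F₀) → F₀)).map (c0 (qfPlus m F₀)) :=
      inn_eq' (qfPlus m F₀)
    have hinn : Cfsg.Inn (Cfsg.POmega F (Cfsg.quadFormPlus m F)) =
        (Cfsg.Omega F (⇑(qfPlus m F) : (Fin m ⊕ Fin m → F) → F)).map (c0 (qfPlus m F)) :=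
      inn_eq' (qfPlus m F)
    rw [hinn₀, hinn]
    exact K1_char2 j (qfPlus m F₀) (qfPlus m F) (baseCompat_plus_gen j m) hQ₀ hQ hn hne₀ hne g₀
  · have hodd : Odd (Fintype.card F) := Nat.odd_iff.mpr (FiniteField.odd_card_of_char_ne_two hch)
    have h2 : (2 : F) ≠ 0 := two_ne_zero_of_odd hodd
    have h2₀ : (2 : F₀) ≠ 0 := two_ne_zero_base j h2
    rw [inndiagPlus_eq h2₀ hne₀, inndiagPlus_eq h2 hne]
    exact K1_odd j (qfPlus m F₀) (qfPlus m F) (baseCompat_plus_gen j m) hQ₀ hQ hn hne₀ hne m hcard g₀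

set_option maxHeartbeats 1600000 in
/-- the centraliser of the standard field automorphism in the inner-diagonal group. -/
theorem centIso_plus (hm : 4 ≤ m) (j : F₀ →+* F)
    (σ : RingAut F) (hσ : SigCompat (Cfsg.quadFormPlus m F) σ) (r : ℕ)
    (hord : orderOf σ = r) (hr0 : 0 < r) (hj : ∀ x, (∃ y, j y = x) ↔ σ x = x) :
    Nonempty (↥(Cfsg.inndiagPOmegaPlus m F ⊓
        Subgroup.centralizer {phiS (Cfsg.quadFormPlus m F) σ hσ}) ≃*
      ↥(Cfsg.inndiagPOmegaPlus m F₀)) := by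
  have hQ₀ := qfPlus_nondeg m F₀
  have hQ := qfPlus_nondeg m F
  have hcard := card_plus_index m
  have hn : 7 ≤ Fintype.card (Fin m ⊕ Fin m) := by rw [hcard]; omega
  have hne₀ := plus_exists_ne_zero (F := F₀) m (by omega)
  exact centIso_of_K1 j (qfPlus m F₀) (qfPlus m F) (baseCompat_plus_gen j m) hQ₀ hQ hn hne₀ σ hσ r
    hord hr0 hj (Cfsg.inndiagPOmegaPlus m F₀) (Cfsg.inndiagPOmegaPlus m F)
    (inndiagPlus_le_range hm) (inndiagPlus_le_range hm) (fun g₀ => K1_plus hm j g₀)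

end plus

end Cfsg.Agent.Lib.Helper16.FA
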