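import Mathlib
import Cfsg.Agent.Lib.Helper16.FA1

set_option autoImplicit false
set_option linter.unusedSectionVars false
set_option linter.unusedVariables false

/-! Field automorphisms of prime order of plus-type orthogonal groups, part 2: the inner-diagonal
group is generated by the inner automorphisms and the centraliser of a standard field automorphism
of odd order (generic version). -/

namespace Cfsg.Agent.Lib.Helper16.FA

open Matrix Module Cfsg.Agent.Lib.Lead Cfsg.Agent.Lib.Lead.OA Cfsg.Agent.Lib.Helper16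
  Cfsg.Agent.Lib.Helper16.OA Cfsg.Agent.Lib.Helper16.OL Cfsg.Agent.Lib.Helper16.PSC
  Cfsg.Agent.Lib.Helper16.H9 Cfsg.Agent.Lib.Helper16.OM Cfsg.Agent.Lib.Lead.OAP

universe u v

section gen

variable {ι : Type} [Fintype ι] [DecidableEq ι] {F : Type u} [Field F] [Fintype F]
  {F₀ : Type v} [Field F₀] [Fintype F₀]

/-- a similarity inducing an element of the image of `SO` has a square multiplier -/
theorem mult_isSquare_of_mem_pso (Q : QuadraticForm F (ι → F)) (h2 : (2 : F) ≠ 0)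
    (hQ : (QuadraticMap.polarBilin Q).Nondegenerate) (hn : 4 ≤ Fintype.card ι)
    (hne : ∃ v, Q v ≠ 0) (g : ↥(GOq Q))
    (hg : cHom (⇑Q : (ι → F) → F) g ∈ Cfsg.psoAut F (⇑Q : (ι → F) → F)) :
    IsSquare ((mult Q g : Fˣ) : F) := by
  obtain ⟨z, s, -, hgs⟩ := exists_of_mem_pso Q h2 hQ hn g hg
  rw [hgs, mult_scal_mul Q hne z s, Units.val_mul]
  exact ⟨_, rfl⟩

set_option maxHeartbeats 1600000 in
/-- the inner-diagonal group is generated by the inner automorphisms and the centraliser of a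
standard field automorphism of odd order -/
theorem split_odd_gen (j : F₀ →+* F) (Q₀ : QuadraticForm F₀ (ι → F₀))
    (Q : QuadraticForm F (ι → F)) (hc : BaseCompat j (⇑Q₀) (⇑Q)) (h2 : (2 : F) ≠ 0)
    (hQ₀ : (QuadraticMap.polarBilin Q₀).Nondegenerate)
    (hQ : (QuadraticMap.polarBilin Q).Nondegenerate) (hn : 7 ≤ Fintype.card ι) (m : ℕ)
    (hcard : Fintype.card ι = 2 * m) (hne₀ : ∃ v, Q₀ v ≠ 0) (hne : ∃ v, Q v ≠ 0)
    (r : ℕ) (hrodd : Odd r) (hcardF : Fintype.card F = Fintype.card F₀ ^ r)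
    (σ : RingAut F) (hσ : SigCompat (⇑Q : (ι → F) → F) σ) (hord : orderOf σ = r)
    (hj : ∀ x, (∃ y, j y = x) ↔ σ x = x)
    (gz : ↥(GOq Q₀)) (hgz : ¬ IsSquare ((mult Q₀ gz : F₀ˣ) : F₀))
    (hgze : eps Q₀ hne₀ m gz = 1) :
    (eps Q hne m).ker.map (cHom (⇑Q : (ι → F) → F)) ≤
      Cfsg.Inn (Cfsg.POmega F (⇑Q : (ι → F) → F)) ⊔
        ((eps Q hne m).ker.map (cHom (⇑Q : (ι → F) → F)) ⊓
          Subgroup.centralizer {phiS (⇑Q : (ι → F) → F) σ hσ}) := by
  have hn4 : 4 ≤ Fintype.card ι := by omega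
  have hr0 : 0 < r := hrodd.pos
  have h2₀ : (2 : F₀) ≠ 0 := two_ne_zero_base j h2
  have hrange := LamG_range j Q₀ Q hc hQ hn hne₀ σ hσ r hord hr0 hj
  have hmemC : ∀ g₀ : ↥(GOq Q₀), eps Q₀ hne₀ m g₀ = 1 → LamG j Q₀ Q hc g₀ ∈
      (eps Q hne m).ker.map (cHom (⇑Q : (ι → F) → F)) ⊓
      Subgroup.centralizer {phiS (⇑Q : (ι → F) → F) σ hσ} := by
    intro g₀ hg₀
    have h1 : LamG j Q₀ Q hc g₀ ∈ (LamG j Q₀ Q hc).range := ⟨g₀, rfl⟩
    rw [hrange] at h1
    refine ⟨?_, h1.2⟩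
    have h5 : cHom (⇑Q : (ι → F) → F) (inclGO j Q₀ Q hc g₀) ∈
        (eps Q hne m).ker.map (cHom (⇑Q : (ι → F) → F)) := by
      rw [cHom_mem_epsKer_iff Q hQ hn hne m hcard, eps_inclGO j Q₀ Q hc hne₀ hne, hg₀, map_one]
    exact h5
  have hInnD := inn_le_D Q hne m
  set P := Cfsg.Inn (Cfsg.POmega F (⇑Q : (ι → F) → F)) ⊔
        ((eps Q hne m).ker.map (cHom (⇑Q : (ι → F) → F)) ⊓
          Subgroup.centralizer {phiS (⇑Q : (ι → F) → F) σ hσ}) with hP
  have hPD : P ≤ (eps Q hne m).ker.map (cHom (⇑Q : (ι → F) → F)) := sup_le hInnD inf_le_left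
  -- the multiplier of `gz` stays a non-square
  have hgz0 : ((mult Q₀ gz : F₀ˣ) : F₀) ≠ 0 := Units.ne_zero _
  have hnsq : ¬ IsSquare (j ((mult Q₀ gz : F₀ˣ) : F₀)) :=
    not_isSquare_base_of_odd j h2 r hrodd hcardF _ hgz0 hgz
  -- step 1 : the image of `SO` lies in `P`
  have hpsoP : Cfsg.psoAut F (⇑Q : (ι → F) → F) ≤ P := by
    by_cases hneg : ∃ g : ↥(Cfsg.isometryGroup F (⇑Q : (ι → F) → F)),
        g ∈ Cfsg.Omega F (⇑Q : (ι → F) → F) ∧ ((g : GL ι F) : Matrix ι ι F) = -1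
    · have h1 := (relIndex_inn_pso Q h2 hQ hn4 m hcard).1 hneg
      obtain ⟨u, hu⟩ := exists_norm Q₀ h2₀ hQ₀ hn4 1 one_ne_zero
      obtain ⟨v, hv⟩ := exists_norm Q₀ h2₀ hQ₀ hn4 ((mult Q₀ gz : F₀ˣ) : F₀) hgz0
      have hvs : ∀ w ∈ [u, v], Q₀ w ≠ 0 := by
        intro w hw
        simp only [List.mem_cons, List.not_mem_nil, or_false] at hw
        rcases hw with rfl | rfl
        · rw [hu]; exact one_ne_zero
        · rw [hv]; exact hgz0
      set τ₀ : ↥(Cfsg.isometryGroup F₀ (⇑Q₀ : (ι → F₀) → F₀)) :=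
        ([u, v].map (reflG' Q₀)).prod with hτ₀
      have hdet₀ : isoDet (⇑Q₀ : (ι → F₀) → F₀) τ₀ = 1 := by
        rw [hτ₀, isoDet_prod Q₀ [u, v] hvs]
        simp
      have hdet : isoDet (⇑Q : (ι → F) → F) (inclIsoG j Q₀ Q hc τ₀) = 1 := by
        have := isoDet_inclIso j Q₀ Q hc h2 τ₀
        rw [hdet₀, map_one] at this
        exact this
      have hte : eps Q₀ hne₀ m (isoToGO Q₀ τ₀) = 1 := by
        rw [eps_iso]; exact hdet₀
      have htC := hmemC (isoToGO Q₀ τ₀) hte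
      have hteq : LamG j Q₀ Q hc (isoToGO Q₀ τ₀) = c0 Q (inclIsoG j Q₀ Q hc τ₀) := by
        rw [LamG_apply, inclGO_isoToGO, c0_apply]
      have htpso : LamG j Q₀ Q hc (isoToGO Q₀ τ₀) ∈ Cfsg.psoAut F (⇑Q : (ι → F) → F) := by
        rw [hteq, psoAut_eq']
        exact ⟨_, MonoidHom.mem_ker.mpr hdet, rfl⟩
      have htinn : LamG j Q₀ Q hc (isoToGO Q₀ τ₀) ∉
          Cfsg.Inn (Cfsg.POmega F (⇑Q : (ι → F) → F)) := by
        intro hin
        rw [hteq] at hin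
        have hΩ := mem_omega_of_inn Q h2 hQ hn4 hneg _ hin
        obtain ⟨χ, κ, hχ⟩ := spin_char_formula h2 Q
        have h3 := ((mem_omega_iff' Q h2 hQ χ κ hχ _).mp hΩ).2
        have h4 : χ (inclIso j Q₀ Q hc h2 τ₀) = 1 := h3
        rw [hτ₀, chi_incl_prod j Q₀ Q hc h2 χ κ hχ [u, v] hvs] at h4
        have hκ : κ ^ [u, v].length = 1 := by
          show κ ^ 2 = 1
          rw [pow_two, Int.units_mul_self]
        rw [hκ, one_mul, sqSign_eq_one_iff] at h4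
        apply hnsq
        have h5 : ([u, v].map (fun w => Q₀ w)).prod = ((mult Q₀ gz : F₀ˣ) : F₀) := by
          simp [hu, hv]
        rw [h5] at h4
        exact h4
      have hle := le_of_relIndex_two (Cfsg.Inn (Cfsg.POmega F (⇑Q : (ι → F) → F)))
        (P ⊓ Cfsg.psoAut F (⇑Q : (ι → F) → F)) (Cfsg.psoAut F (⇑Q : (ι → F) → F))
        (le_inf le_sup_left (inn_le_pso Q)) inf_le_right h1
        (LamG j Q₀ Q hc (isoToGO Q₀ τ₀)) ⟨Subgroup.mem_sup_right htC, htpso⟩ htinn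
      exact le_trans hle inf_le_left
    · rw [← inn_eq_pso_of_not Q h2 hQ hn4 m hcard hneg]
      exact le_sup_left
  -- step 2
  have hδP : LamG j Q₀ Q hc gz ∈ P := Subgroup.mem_sup_right (hmemC gz hgze)
  have hmultY : ((mult Q (inclGO j Q₀ Q hc gz) : Fˣ) : F) = j ((mult Q₀ gz : F₀ˣ) : F₀) := by
    rw [mult_inclGO j Q₀ Q hc hne]
    rfl
  have hδpso : LamG j Q₀ Q hc gz ∉ Cfsg.psoAut F (⇑Q : (ι → F) → F) := by
    intro hin
    rw [LamG_apply] at hin
    have := mult_isSquare_of_mem_pso Q h2 hQ hn4 hne _ hin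
    rw [hmultY] at this
    exact hnsq this
  have hg₁ : ¬ IsSquare ((mult Q (inclGO j Q₀ Q hc gz) : Fˣ) : F) := by
    rw [hmultY]; exact hnsq
  have hg₁e : eps Q hne m (inclGO j Q₀ Q hc gz) = 1 := by
    rw [eps_inclGO j Q₀ Q hc hne₀ hne, hgze, map_one]
  have hidx := relIndex_pso_D Q h2 hQ hn4 m hcard hne (inclGO j Q₀ Q hc gz) hg₁ hg₁e
  exact le_of_relIndex_two _ P _ hpsoP hPD hidx (LamG j Q₀ Q hc gz) hδP hδpso

end gen

section plus

variable {F : Type u} [Field F] [Fintype F] {F₀ : Type v} [Field F₀] [Fintype F₀] {m : ℕ}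

set_option maxHeartbeats 1600000 in
/-- the inner-diagonal group of the plus-type group is generated by the inner automorphisms and the
centraliser of a standard field automorphism of odd order. -/
theorem split_plus_odd (hm : 4 ≤ m) (j : F₀ →+* F)
    (σ : RingAut F) (hσ : SigCompat (Cfsg.quadFormPlus m F) σ) (r : ℕ)
    (hord : orderOf σ = r) (hrodd : Odd r) (hcardF : Fintype.card F = Fintype.card F₀ ^ r)
    (hj : ∀ x, (∃ y, j y = x) ↔ σ x = x) :
    Cfsg.inndiagPOmegaPlus m F ≤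
      Cfsg.Inn (Cfsg.POmega F (Cfsg.quadFormPlus m F)) ⊔
        (Cfsg.inndiagPOmegaPlus m F ⊓
          Subgroup.centralizer {phiS (Cfsg.quadFormPlus m F) σ hσ}) := by
  have hQ₀ := qfPlus_nondeg m F₀
  have hQ := qfPlus_nondeg m F
  have hcard := card_plus_index m
  have hn : 7 ≤ Fintype.card (Fin m ⊕ Fin m) := by rw [hcard]; omega
  have hne₀ := plus_exists_ne_zero (F := F₀) m (by omega)
  have hne := plus_exists_ne_zero (F := F) m (by omega)
  by_cases hch : ringChar F = 2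
  · have hcp : CharP F 2 := by
      rw [← hch]; exact ringChar.charP F
    rw [inndiagPlus_eq_inn_char2 (by omega : 3 ≤ m)]
    exact le_sup_left
  · have hodd : Odd (Fintype.card F) := Nat.odd_iff.mpr (FiniteField.odd_card_of_char_ne_two hch)
    have h2 : (2 : F) ≠ 0 := two_ne_zero_of_odd hodd
    have h2₀ : (2 : F₀) ≠ 0 := two_ne_zero_base j h2
    obtain ⟨δ, hδ0, hδ⟩ := Cfsg.Agent.Lib.Lead.OI.exists_nonsquare (F := F₀) h2₀
    set c : F₀ˣ := Units.mk0 δ hδ0 with hcdef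
    set gz : ↥(GOq (qfPlus m F₀)) := ⟨dPlus c, dPlus_mem c⟩ with hgzdef
    have hgz : ¬ IsSquare ((mult (qfPlus m F₀) gz : F₀ˣ) : F₀) := by
      rw [hgzdef, mult_dPlus hne₀]; exact hδ
    have hgze : eps (qfPlus m F₀) hne₀ m gz = 1 := eps_dPlus hne₀ c
    have hDeq : Cfsg.inndiagPOmegaPlus m F =
        (eps (qfPlus m F) hne m).ker.map (cHom (⇑(qfPlus m F) : (Fin m ⊕ Fin m → F) → F)) :=
      inndiagPlus_eq h2 hne
    rw [hDeq]
    exact split_odd_gen j (qfPlus m F₀) (qfPlus m F) (baseCompat_plus_gen j m) h2 hQ₀ hQ hn m hcard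
      hne₀ hne r hrodd hcardF σ hσ hord hj gz hgz hgze

end plus

end Cfsg.Agent.Lib.Helper16.FA
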