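import Mathlib
import Cfsg.Agent.Lib.Helper16.FA2

set_option autoImplicit false
set_option linter.unusedSectionVars false
set_option linter.unusedVariables false

/-! Field automorphisms of prime order of plus-type orthogonal groups, part 3: the number of
classes into which the class of the standard field automorphism of order two splits. -/

namespace Cfsg.Agent.Lib.Helper16.FA

open Matrix Module Cfsg.Agent.Lib.Lead Cfsg.Agent.Lib.Lead.OA Cfsg.Agent.Lib.Helper16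
  Cfsg.Agent.Lib.Helper16.OA Cfsg.Agent.Lib.Helper16.OL Cfsg.Agent.Lib.Helper16.PSC
  Cfsg.Agent.Lib.Helper16.H9 Cfsg.Agent.Lib.Helper16.OM Cfsg.Agent.Lib.Lead.OAP

universe u v

section plus

variable {F : Type u} [Field F] [Fintype F] {F₀ : Type v} [Field F₀] [Fintype F₀] {m : ℕ}

theorem inclGO_dPlus (j : F₀ →+* F) (c : F₀ˣ) :
    inclGO j (qfPlus m F₀) (qfPlus m F) (baseCompat_plus_gen j m) ⟨dPlus c, dPlus_mem c⟩ =
      ⟨dPlus (Units.map (j : F₀ →* F) c), dPlus_mem _⟩ := by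
  apply Subtype.ext
  apply Units.ext
  rw [inclGO_coe, inclI_val]
  show (Matrix.diagonal (Sum.elim (fun _ => (c : F₀)) (fun _ => 1))).map ⇑j =
    Matrix.diagonal (Sum.elim (fun _ => j (c : F₀)) (fun _ => 1))
  rw [Matrix.diagonal_map (map_zero j)]
  congr 1
  funext k
  rcases k with k | k
  · rfl
  · show j 1 = 1
    exact map_one j

theorem dPlus_mul (a b : Fˣ) :
    (⟨dPlus (a * b), dPlus_mem (a * b)⟩ : ↥(GOq (qfPlus m F))) =
      ⟨dPlus a, dPlus_mem a⟩ * ⟨dPlus b, dPlus_mem b⟩ := by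
  apply Subtype.ext
  apply Units.ext
  show Matrix.diagonal (Sum.elim (fun _ => ((a * b : Fˣ) : F)) (fun _ => 1)) =
    Matrix.diagonal (Sum.elim (fun _ => (a : F)) (fun _ => 1)) *
      Matrix.diagonal (Sum.elim (fun _ => (b : F)) (fun _ => 1))
  rw [Matrix.diagonal_mul_diagonal]
  congr 1
  funext k
  rcases k with k | k
  · show ((a * b : Fˣ) : F) = (a : F) * (b : F)
    exact Units.val_mul a b
  · show (1 : F) = 1 * 1
    rw [one_mul]

set_option maxHeartbeats 1600000 in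
/-- the base change of the standard similarity with non-square multiplier induces an inner
automorphism unless the half-dimension is odd and `q₀ ≡ 1 mod 4`. -/
theorem LamG_dPlus_mem_inn_iff (hm : 4 ≤ m) (j : F₀ →+* F) (h2 : (2 : F) ≠ 0)
    (hcardF : Fintype.card F = Fintype.card F₀ ^ 2) (σ : RingAut F) (hord : orderOf σ = 2)
    (hj : ∀ x, (∃ y, j y = x) ↔ σ x = x)
    (hneg : ∃ g : ↥(Cfsg.isometryGroup F (⇑(qfPlus m F) : (Fin m ⊕ Fin m → F) → F)),
      g ∈ Cfsg.Omega F (⇑(qfPlus m F) : (Fin m ⊕ Fin m → F) → F) ∧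
        ((g : GL (Fin m ⊕ Fin m) F) : Matrix (Fin m ⊕ Fin m) (Fin m ⊕ Fin m) F) = -1)
    (c : F₀ˣ) (hcns : ¬ IsSquare (c : F₀)) :
    LamG j (qfPlus m F₀) (qfPlus m F) (baseCompat_plus_gen j m) ⟨dPlus c, dPlus_mem c⟩ ∈
      Cfsg.Inn (Cfsg.POmega F (⇑(qfPlus m F) : (Fin m ⊕ Fin m → F) → F)) ↔
    ¬ (Odd m ∧ Fintype.card F₀ % 4 = 1) := by
  have h2₀ : (2 : F₀) ≠ 0 := two_ne_zero_base j h2
  have hch₀ : ringChar F₀ ≠ 2 := ringChar_ne_two_of h2₀
  have hq₀ : Fintype.card F₀ % 2 = 1 := FiniteField.odd_card_of_char_ne_two hch₀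
  have hQ := qfPlus_nondeg m F
  have hcard := card_plus_index m
  have hn4 : 4 ≤ Fintype.card (Fin m ⊕ Fin m) := by rw [hcard]; omega
  obtain ⟨z, hz⟩ := isSquare_base_of_sq j h2 hcardF (c : F₀) (Units.ne_zero c)
  have hz2 : z ^ 2 = j (c : F₀) := by rw [hz]; ring
  have hz0 : z ≠ 0 := by
    rintro rfl
    rw [mul_zero] at hz
    exact (map_ne_zero j).mpr (Units.ne_zero c) hz
  set zU : Fˣ := Units.mk0 z hz0 with hzU
  have hzz : Units.map (j : F₀ →* F) c = zU * zU := by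
    apply Units.ext
    rw [Units.val_mul]
    exact hz
  obtain ⟨χ, κ, hχ⟩ := spin_char_formula h2 (qfPlus m F)
  obtain ⟨τ, hτd, hτχ, hτg⟩ := exists_tPlus (m := m) h2 χ κ hχ zU
  have hzval : ((zU : Fˣ) : F) = z := rfl
  rw [hzval] at hτχ
  rw [LamG_apply, inclGO_dPlus j c, hzz, dPlus_mul, hτg, cHom_scal_mul _ h2 hQ hn4]
  have hiff : c0 (qfPlus m F) τ ∈
      Cfsg.Inn (Cfsg.POmega F (⇑(qfPlus m F) : (Fin m ⊕ Fin m → F) → F)) ↔ χ τ = 1 := by
    constructor
    · intro h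
      have := mem_omega_of_inn (qfPlus m F) h2 hQ hn4 hneg τ h
      exact ((mem_omega_iff' (qfPlus m F) h2 hQ χ κ hχ τ).mp this).2
    · intro h
      rw [inn_eq']
      exact ⟨τ, (mem_omega_iff' (qfPlus m F) h2 hQ χ κ hχ τ).mpr ⟨hτd, h⟩, rfl⟩
  rw [hiff, hτχ]
  have hzsq : IsSquare z ↔ Fintype.card F₀ % 4 = 3 := by
    rw [isSquare_sqrt_iff j h2 hcardF σ hord hj (c : F₀) hcns z hz2]
    have h1 : -(c : F₀) = (c : F₀) * (-1) := by ring
    rw [h1, isSquare_mul_of_nonsq hcns (neg_ne_zero.mpr one_ne_zero),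
      FiniteField.isSquare_neg_one_iff]
    push Not
    rfl
  by_cases hs : IsSquare z
  · have h3 := hzsq.mp hs
    rw [(sqSign_eq_one_iff z).mpr hs, one_pow]
    constructor
    · intro _ h
      omega
    · intro _
      rfl
  · have h3 : Fintype.card F₀ % 4 = 1 := by
      have : ¬ Fintype.card F₀ % 4 = 3 := fun h => hs (hzsq.mpr h)
      omega
    rw [sqSign_of_not hs]
    rcases Nat.even_or_odd m with he | ho
    · rw [he.neg_one_pow]
      constructor
      · intro _ h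
        exact (Nat.not_even_iff_odd.mpr h.1) he
      · intro _
        rfl
    · rw [ho.neg_one_pow]
      constructor
      · intro h
        exact absurd h (by decide)
      · intro h
        exact absurd ⟨ho, h3⟩ h

set_option maxHeartbeats 4000000 in
/-- the number of classes into which the class of the standard field automorphism of order two
splits. -/
theorem count_plus_two (hm : 4 ≤ m) (j : F₀ →+* F) (h2F : (2 : F) ≠ 0)
    (hcardF : Fintype.card F = Fintype.card F₀ ^ 2)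
    (σ : RingAut F) (hσ : SigCompat (Cfsg.quadFormPlus m F) σ)
    (hord : orderOf σ = 2) (hj : ∀ x, (∃ y, j y = x) ↔ σ x = x) :
    ((Odd m ∧ Fintype.card F₀ % 4 = 1) →
      (Cfsg.Inn (Cfsg.POmega F (Cfsg.quadFormPlus m F)) ⊔
        (Cfsg.inndiagPOmegaPlus m F ⊓ Subgroup.centralizer
          {phiS (Cfsg.quadFormPlus m F) σ hσ})).relIndex (Cfsg.inndiagPOmegaPlus m F) = 2) ∧
    (¬ (Odd m ∧ Fintype.card F₀ % 4 = 1) →
      (Cfsg.Inn (Cfsg.POmega F (Cfsg.quadFormPlus m F)) ⊔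
        (Cfsg.inndiagPOmegaPlus m F ⊓ Subgroup.centralizer
          {phiS (Cfsg.quadFormPlus m F) σ hσ})).relIndex (Cfsg.inndiagPOmegaPlus m F) = 4) := by
  have hQ₀ := qfPlus_nondeg m F₀
  have hQ := qfPlus_nondeg m F
  have hcard := card_plus_index m
  have hn : 7 ≤ Fintype.card (Fin m ⊕ Fin m) := by rw [hcard]; omega
  have hne₀ := plus_exists_ne_zero (F := F₀) m (by omega)
  have hne := plus_exists_ne_zero (F := F) m (by omega)
  have h2₀ : (2 : F₀) ≠ 0 := two_ne_zero_base j h2F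
  have hch₀ : ringChar F₀ ≠ 2 := ringChar_ne_two_of h2₀
  have hq₀ : Fintype.card F₀ % 2 = 1 := FiniteField.odd_card_of_char_ne_two hch₀
  have hq : Fintype.card F % 4 = 1 := by
    rw [hcardF]
    have h4 : Fintype.card F₀ % 4 = 1 ∨ Fintype.card F₀ % 4 = 3 := by omega
    rcases h4 with h | h <;> simp [Nat.pow_mod, h]
  have hodd : Odd (Fintype.card F) := Nat.odd_iff.mpr (by omega)
  -- `-1 ∈ Ω`
  have hiff := Cfsg.Agent.S0790.result (F := F) rfl hodd m (by omega)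
  have hq2 : Fintype.card F % 2 = 1 := by omega
  have har := pow_mod_four_iff (Fintype.card F) m hq2
  have hneg := hiff.mpr (har.mpr (fun h => by omega))
  -- the similarities with non-square multipliers
  obtain ⟨δ, hδ0, hδ⟩ := Cfsg.Agent.Lib.Lead.OI.exists_nonsquare (F := F) h2F
  set cF : Fˣ := Units.mk0 δ hδ0 with hcFdef
  set g₁ : ↥(GOq (qfPlus m F)) := ⟨dPlus cF, dPlus_mem cF⟩ with hg₁def
  have hg₁ : ¬ IsSquare ((mult (qfPlus m F) g₁ : Fˣ) : F) := by
    rw [hg₁def, mult_dPlus hne]; exact hδ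
  have hg₁e : eps (qfPlus m F) hne m g₁ = 1 := eps_dPlus hne cF
  obtain ⟨δ₀, hδ₀0, hδ₀⟩ := Cfsg.Agent.Lib.Lead.OI.exists_nonsquare (F := F₀) h2₀
  set c₀ : F₀ˣ := Units.mk0 δ₀ hδ₀0 with hc₀def
  set gz : ↥(GOq (qfPlus m F₀)) := ⟨dPlus c₀, dPlus_mem c₀⟩ with hgzdef
  have hgzm : ¬ IsSquare ((mult (qfPlus m F₀) gz : F₀ˣ) : F₀) := by
    rw [hgzdef, mult_dPlus hne₀]; exact hδ₀
  have hgze : eps (qfPlus m F₀) hne₀ m gz = 1 := eps_dPlus hne₀ c₀
  have hiff2 := LamG_dPlus_mem_inn_iff hm j h2F hcardF σ hord hj hneg c₀ hδ₀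
  obtain ⟨hA, hB⟩ := split_index_gen j (qfPlus m F₀) (qfPlus m F) (baseCompat_plus_gen j m) h2F
    hQ₀ hQ hn m hcard hne₀ hne hcardF σ hσ hord hj hneg g₁ hg₁ hg₁e gz hgzm hgze
  have hDeq : Cfsg.inndiagPOmegaPlus m F =
      (eps (qfPlus m F) hne m).ker.map (cHom (⇑(qfPlus m F) : (Fin m ⊕ Fin m → F) → F)) :=
    inndiagPlus_eq h2F hne
  rw [hDeq]
  exact ⟨fun h => hB (fun h' => (hiff2.mp h') h), fun h => hA (hiff2.mpr h)⟩

end plus

end Cfsg.Agent.Lib.Helper16.FA
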