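import Mathlib
import Cfsg.Agent.Lib.Helper16.FA3

set_option autoImplicit false
set_option linter.unusedSectionVars false
set_option linter.unusedVariables false

/-! Field automorphisms of prime order of plus-type orthogonal groups, part 4: the statement, given
the normality of the inner-diagonal group. -/

namespace Cfsg.Agent.Lib.Helper16.FA

open Matrix Module Cfsg.Agent.Lib.Lead Cfsg.Agent.Lib.Lead.OA Cfsg.Agent.Lib.Helper16
  Cfsg.Agent.Lib.Helper16.OA Cfsg.Agent.Lib.Helper16.OL Cfsg.Agent.Lib.Helper16.PSC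
  Cfsg.Agent.Lib.Helper16.H9 Cfsg.Agent.Lib.Helper16.OM Cfsg.Agent.Lib.Lead.OAP

universe u v

section main

variable {F : Type u} [Field F] [Fintype F] {m : ℕ}

theorem inn_le_inndiagPlus (hm : 4 ≤ m) :
    Cfsg.Inn (Cfsg.POmega F (Cfsg.quadFormPlus m F)) ≤ Cfsg.inndiagPOmegaPlus m F := by
  have hne := plus_exists_ne_zero (F := F) m (by omega)
  by_cases hch : ringChar F = 2
  · have hcp : CharP F 2 := by
      rw [← hch]; exact ringChar.charP F
    rw [inndiagPlus_eq_inn_char2 (by omega : 3 ≤ m)]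
  · have hodd : Odd (Fintype.card F) := Nat.odd_iff.mpr (FiniteField.odd_card_of_char_ne_two hch)
    have h2 : (2 : F) ≠ 0 := two_ne_zero_of_odd hodd
    rw [inndiagPlus_eq h2 hne]
    exact inn_le_D (qfPlus m F) hne m

set_option maxHeartbeats 4000000 in
theorem S2715_aux {p f : ℕ} [Fact p.Prime] (hF : Fintype.card F = p ^ f) (hm : 4 ≤ m)
    (hN : (Cfsg.inndiagPOmegaPlus m F).Normal)
    (x : MulAut (Cfsg.POmega F (Cfsg.quadFormPlus m F)))
    (hx : Cfsg.IsFieldAutClassPOmega (Cfsg.quadFormPlus m F) x) {r : ℕ} (hr : r.Prime)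
    (hxr : orderOf x = r) (F₀ : Type v) [Field F₀] [Fintype F₀]
    (hF₀ : Fintype.card F₀ = p ^ (f / r)) :
    r ∣ f ∧
    Nonempty (↥(Cfsg.inndiagPOmegaPlus m F ⊓ Subgroup.centralizer {x}) ≃*
      ↥(Cfsg.inndiagPOmegaPlus m F₀)) ∧
    ((Odd r ∨ p = 2) → Cfsg.splitClassCount (Cfsg.inndiagPOmegaPlus m F)
      (Cfsg.Inn (Cfsg.POmega F (Cfsg.quadFormPlus m F))) x = 1) ∧
    ((r = 2 ∧ p ≠ 2 ∧ Odd m ∧ p ^ (f / 2) % 4 = 1) →
      Cfsg.splitClassCount (Cfsg.inndiagPOmegaPlus m F)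
        (Cfsg.Inn (Cfsg.POmega F (Cfsg.quadFormPlus m F))) x = 2) ∧
    ((r = 2 ∧ p ≠ 2 ∧ ¬ (Odd m ∧ p ^ (f / 2) % 4 = 1)) →
      Cfsg.splitClassCount (Cfsg.inndiagPOmegaPlus m F)
        (Cfsg.Inn (Cfsg.POmega F (Cfsg.quadFormPlus m F))) x = 4) := by
  obtain ⟨α, φ, σ, hσ1, hfa, hα⟩ := hx
  have hσ : SigCompat (Cfsg.quadFormPlus m F) σ := sigCompat_plus σ m
  have hφ : φ = phiS (Cfsg.quadFormPlus m F) σ hσ :=
    (isFieldAut_iff_phiS (Cfsg.quadFormPlus m F) σ hσ φ).1 hfa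
  subst hφ
  have hQ := qfPlus_nondeg m F
  have hcard := card_plus_index m
  have hn : 7 ≤ Fintype.card (Fin m ⊕ Fin m) := by rw [hcard]; omega
  have hord : orderOf (σ : RingAut F) = r := by
    have h1 := orderOf_phiS (qfPlus m F) hQ hn σ hσ
    have h2 : orderOf (MulAut.conj α x) = orderOf x := (MulAut.conj α).orderOf_eq x
    rw [MulAut.conj_apply, hα] at h2
    rw [← hxr, ← h2]
    exact h1.symm
  -- r divides f
  obtain ⟨-, hcardG⟩ := Cfsg.Agent.Lib.Helper16.AP.galF_cyclic_card hF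
  have hrf : r ∣ f := by
    have := orderOf_dvd_natCard (σ : RingAut F)
    rwa [hord, hcardG] at this
  -- the fixed field
  set F₀' : Subfield F := FixedPoints.subfield (Subgroup.zpowers σ) F with hF₀'def
  have hmem : ∀ y, y ∈ F₀' ↔ σ y = y := fun y => Cfsg.Agent.Lib.Helper16.mem_fixed_iff σ y
  have hF' : Fintype.card F = (p ^ (f / r)) ^ r := by
    rw [hF, ← pow_mul, Nat.div_mul_cancel hrf]
  have hcard' : Nat.card F₀' = p ^ (f / r) := Cfsg.Agent.Lib.Helper16.fixed_card hr hF' σ hord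
  have : Fintype F₀' := Fintype.ofFinite _
  have hcc : Fintype.card F₀ = Fintype.card F₀' := by
    rw [← Nat.card_eq_fintype_card (α := F₀'), hcard', hF₀]
  have e₀ : F₀ ≃+* F₀' := FiniteField.ringEquivOfCardEq hcc
  set j : F₀ →+* F := F₀'.subtype.comp e₀.toRingHom with hjdef
  have hj : ∀ y, (∃ z, j z = y) ↔ (σ : RingAut F) y = y := by
    intro y
    constructor
    · rintro ⟨z, rfl⟩
      exact (hmem _).mp (e₀ z).2
    · intro hy
      refine ⟨e₀.symm ⟨y, (hmem y).mpr hy⟩, ?_⟩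
      show ((e₀ (e₀.symm ⟨y, (hmem y).mpr hy⟩) : F₀') : F) = y
      rw [RingEquiv.apply_symm_apply]
  have hcardFF : Fintype.card F = Fintype.card F₀ ^ r := by rw [hF₀]; exact hF'
  have hInnN : (Cfsg.Inn (Cfsg.POmega F (Cfsg.quadFormPlus m F))).Normal := inn_normal _
  have hInnD := inn_le_inndiagPlus (F := F) hm
  have hcnt : Cfsg.splitClassCount (Cfsg.inndiagPOmegaPlus m F)
      (Cfsg.Inn (Cfsg.POmega F (Cfsg.quadFormPlus m F))) (α * x * α⁻¹) =
      Cfsg.splitClassCount (Cfsg.inndiagPOmegaPlus m F)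
      (Cfsg.Inn (Cfsg.POmega F (Cfsg.quadFormPlus m F))) x :=
    SC.splitClassCount_conj (hH := hN) (hK := hInnN) _ _ hInnD α x
  rw [hα] at hcnt
  have hcnt2 : Cfsg.splitClassCount (Cfsg.inndiagPOmegaPlus m F)
      (Cfsg.Inn (Cfsg.POmega F (Cfsg.quadFormPlus m F)))
      (phiS (Cfsg.quadFormPlus m F) σ hσ) =
      (Cfsg.Inn (Cfsg.POmega F (Cfsg.quadFormPlus m F)) ⊔ (Cfsg.inndiagPOmegaPlus m F ⊓
        Subgroup.centralizer {phiS (Cfsg.quadFormPlus m F) σ hσ})).relIndex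
        (Cfsg.inndiagPOmegaPlus m F) :=
    SC.splitClassCount_eq_relIndex (hK := hInnN) _ _ hInnD _
  refine ⟨hrf, ?_, ?_, ?_, ?_⟩
  · obtain ⟨e2⟩ := centIso_plus (F₀ := F₀) hm j σ hσ r hord hr.pos hj
    have e1 : ↥(Cfsg.inndiagPOmegaPlus m F ⊓ Subgroup.centralizer {x}) ≃*
        ↥(Cfsg.inndiagPOmegaPlus m F ⊓ Subgroup.centralizer {α * x * α⁻¹}) :=
      SC.centralizerConjEquiv (hH := hN) (Cfsg.inndiagPOmegaPlus m F) α x
    have e1' : ↥(Cfsg.inndiagPOmegaPlus m F ⊓ Subgroup.centralizer {α * x * α⁻¹}) ≃*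
        ↥(Cfsg.inndiagPOmegaPlus m F ⊓
          Subgroup.centralizer {phiS (Cfsg.quadFormPlus m F) σ hσ}) :=
      MulEquiv.subgroupCongr (congrArg (fun y : MulAut (Cfsg.POmega F (Cfsg.quadFormPlus m F)) =>
        Cfsg.inndiagPOmegaPlus m F ⊓ Subgroup.centralizer {y}) hα)
    exact ⟨(e1.trans e1').trans e2⟩
  · intro hcase
    rw [← hcnt, hcnt2, Subgroup.relIndex_eq_one]
    rcases hcase with hodd | hp2
    · exact split_plus_odd hm j σ hσ r hord hodd hcardFF hj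
    · subst hp2
      have hcp : CharP F 2 := charP_of_card_eq_prime_pow hF
      rw [inndiagPlus_eq_inn_char2 (by omega : 3 ≤ m)]
      exact le_sup_left
  · rintro ⟨hr2, hp2, hodd, hmod⟩
    subst hr2
    have hoddF : Odd (Fintype.card F) := by
      rw [hF]
      exact Odd.pow ((Fact.out : p.Prime).eq_two_or_odd'.resolve_left hp2)
    have h2F : (2 : F) ≠ 0 := two_ne_zero_of_odd hoddF
    rw [← hcnt, hcnt2]
    exact (count_plus_two hm j h2F hcardFF σ hσ hord hj).1 ⟨hodd, by rw [hF₀]; exact hmod⟩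
  · rintro ⟨hr2, hp2, hnot⟩
    subst hr2
    have hoddF : Odd (Fintype.card F) := by
      rw [hF]
      exact Odd.pow ((Fact.out : p.Prime).eq_two_or_odd'.resolve_left hp2)
    have h2F : (2 : F) ≠ 0 := two_ne_zero_of_odd hoddF
    rw [← hcnt, hcnt2]
    exact (count_plus_two hm j h2F hcardFF σ hσ hord hj).2
      (fun hh => hnot ⟨hh.1, by rw [← hF₀]; exact hh.2⟩)

end main

end Cfsg.Agent.Lib.Helper16.FA
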