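import Mathlib
import Cfsg.Agent.Lib.helper7.Om.Fin
import Cfsg.Agent.Lib.helper8.ChevOD2

set_option autoImplicit false
set_option linter.unusedSectionVars false
set_option linter.unusedVariables false

/-! The inner-diagonal group of `PΩ⁺₈(q)` is normal in the automorphism group, part 1: an explicit
isomorphism `D₄(F) ≅ PΩ⁺₈(F)`. -/

namespace Cfsg.Agent.Lib.Helper16.FA

open Matrix Cfsg.Agent.Lib.Lead Cfsg.Agent.Lib.Helper26 Cfsg.Agent.Lib.helper7.Om
open Cfsg.Lie Cfsg.Lie.ChevalleyDatum Cfsg.Agent.Lib.helper8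

universe u

/-- the isomorphism of `iso_of_cover`, with its defining property -/
theorem iso_of_cover_spec {C G E : Type*} [Group C] [Group G] [Group E]
    (θ : C →* G) (hθ : Function.Surjective θ) (hker : θ.ker ≤ Subgroup.center C)
    (σ : C →* E) (hσ : Function.Surjective σ)
    (hG : IsSimpleGroup G) (hE : ∃ x y : E, x * y ≠ y * x) :
    ∃ e : G ≃* E ⧸ Subgroup.center E, ∀ c : C, e (θ c) = QuotientGroup.mk (σ c) := by
  let π : C →* E ⧸ Subgroup.center E := (QuotientGroup.mk' (Subgroup.center E)).comp σ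
  have hπ : Function.Surjective π :=
    (QuotientGroup.mk'_surjective (Subgroup.center E)).comp hσ
  have h1 : θ.ker ≤ π.ker := by
    intro x hx
    have hx' : x ∈ Subgroup.center C := hker hx
    rw [MonoidHom.mem_ker]
    show (QuotientGroup.mk' (Subgroup.center E)) (σ x) = 1
    rw [QuotientGroup.mk'_apply, QuotientGroup.eq_one_iff, Subgroup.mem_center_iff]
    intro y
    obtain ⟨c, rfl⟩ := hσ y
    rw [← map_mul, ← map_mul, Subgroup.mem_center_iff.mp hx' c]
  have h2 : π.ker ≤ θ.ker := by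
    have hn : (π.ker.map θ).Normal := Subgroup.Normal.map (MonoidHom.normal_ker π) θ hθ
    rcases hn.eq_bot_or_eq_top with hb | ht
    · intro x hx
      have : θ x ∈ π.ker.map θ := Subgroup.mem_map_of_mem θ hx
      rw [hb, Subgroup.mem_bot] at this
      exact this
    · exfalso
      obtain ⟨x, y, hxy⟩ := hE
      have hall : ∀ c : C, c ∈ π.ker := by
        intro c
        have : θ c ∈ π.ker.map θ := by rw [ht]; exact Subgroup.mem_top _
        obtain ⟨k, hk, hkc⟩ := Subgroup.mem_map.mp this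
        have : c * k⁻¹ ∈ θ.ker := by
          rw [MonoidHom.mem_ker, map_mul, map_inv, hkc, mul_inv_cancel]
        have h3 := Subgroup.mul_mem _ (h1 this) hk
        rwa [inv_mul_cancel_right] at h3
      obtain ⟨c, rfl⟩ := hσ x
      have hc := hall c
      rw [MonoidHom.mem_ker] at hc
      have hc' : σ c ∈ Subgroup.center E := by
        have : (QuotientGroup.mk' (Subgroup.center E)) (σ c) = 1 := hc
        rwa [QuotientGroup.mk'_apply, QuotientGroup.eq_one_iff] at this
      exact hxy (Subgroup.mem_center_iff.mp hc' y).symm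
  have hk : θ.ker = π.ker := le_antisymm h1 h2
  refine ⟨(QuotientGroup.quotientKerEquivOfSurjective θ hθ).symm.trans
    ((QuotientGroup.quotientMulEquivOfEq hk).trans
      (QuotientGroup.quotientKerEquivOfSurjective π hπ)), ?_⟩
  intro c
  have e1 : (QuotientGroup.quotientKerEquivOfSurjective θ hθ).symm (θ c) =
      (QuotientGroup.mk c : C ⧸ θ.ker) := by
    rw [MulEquiv.symm_apply_eq]
    rfl
  rw [MulEquiv.trans_apply, e1, MulEquiv.trans_apply]
  rfl

variable {F : Type u} [Field F]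

theorem Yr_mem_omega (r : ℕ) (t : F) :
    (Yr r t : ↥(ogG F 4)) ∈ Cfsg.Omega F (Cfsg.quadFormPlus 4 F) := by
  rw [omega_eq]
  exact Yr_mem r t

theorem W_mem_omega {k l : P8} (h : CValid k l) (c : F) :
    (W k l c : ↥(ogG F 4)) ∈ Cfsg.Omega F (Cfsg.quadFormPlus 4 F) := by
  rw [omega_eq]
  exact W_mem_EO h c

/-- an explicit isomorphism `D₄(F) ≅ PΩ⁺₈(F)` -/
theorem d4iso_exists :
    ∃ e : ↥(chevD4.group F) ≃* Cfsg.POmega F (Cfsg.quadFormPlus 4 F),
      ∀ (r : ℕ) (t : F), r < 24 →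
        e (h8xG chevD4 (h8base_all.{u} chevD4 h8oq_hD4) r t) =
          QuotientGroup.mk ⟨Yr r t, Yr_mem_omega r t⟩ := by
  obtain ⟨θ, hθ, hker, hx⟩ := Cfsg.Agent.S2396.result (K := F) chevD4 (by simp) (by
    intro h
    exfalso
    simp only [List.mem_cons, List.not_mem_nil, or_false] at h
    have hB2 : Cfsg.Lie.chevB2.rank = 2 := rfl
    have hG2 : Cfsg.Lie.chevG2.rank = 2 := rfl
    have hD4 : Cfsg.Lie.chevD4.rank = 4 := rfl
    rcases h with h | h
    · have := congrArg Cfsg.Lie.ChevalleyDatum.rank h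
      rw [hB2, hD4] at this
      omega
    · have := congrArg Cfsg.Lie.ChevalleyDatum.rank h
      rw [hG2, hD4] at this
      omega)
  have hs := (Cfsg.Agent.S1054.result (F := F) chevD4 (by simp)).1
  -- transport `sigmaE` to `Ω`
  let ι : ↥(EO F) ≃* ↥(Cfsg.Omega F (Cfsg.quadFormPlus 4 F)) :=
    MulEquiv.subgroupCongr (omega_eq (F := F)).symm
  let σ' : chevD4.SteinbergCover F →* ↥(Cfsg.Omega F (Cfsg.quadFormPlus 4 F)) :=
    ι.toMonoidHom.comp (sigmaE F)
  have hσ' : Function.Surjective σ' := ι.surjective.comp sigmaE_surj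
  have hnc : ∃ x y : ↥(Cfsg.Omega F (Cfsg.quadFormPlus 4 F)), x * y ≠ y * x := by
    obtain ⟨x, y, hxy⟩ := EO_noncomm (F := F)
    refine ⟨ι x, ι y, ?_⟩
    intro h
    apply hxy
    apply ι.injective
    rw [map_mul, map_mul, h]
  obtain ⟨e, he⟩ := iso_of_cover_spec θ hθ hker σ' hσ' hs hnc
  refine ⟨e, ?_⟩
  intro r t hr
  have h1 : θ (chevD4.scGen F r t) = h8xG chevD4 (h8base_all.{u} chevD4 h8oq_hD4) r t := by
    apply Subtype.ext
    apply Units.ext
    rw [hx r t hr, h8xG_val, h8xU_val]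
  rw [← h1, he]
  congr 1
  apply Subtype.ext
  show ((ι (sigmaE F (chevD4.scGen F r t)) : ↥(Cfsg.Omega F (Cfsg.quadFormPlus 4 F))) :
    ↥(ogG F 4)) = Yr r t
  rw [sigmaE, h8ucSigma_gen]
  rfl

end Cfsg.Agent.Lib.Helper16.FA
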