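import Mathlib
import Cfsg.Agent.Lib.Helper16.FB1
import Cfsg.Agent.Lib.Lead.OrthAut1

set_option autoImplicit false
set_option linter.unusedSectionVars false
set_option linter.unusedVariables false

/-! The inner-diagonal group of `PΩ⁺₈(q)` is normal in the automorphism group, part 2: diagonal
similarities and their action on the coordinate root elements. -/

namespace Cfsg.Agent.Lib.Helper16.FA

open Matrix Cfsg.Agent.Lib.Lead Cfsg.Agent.Lib.Lead.OA Cfsg.Agent.Lib.Helper26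
  Cfsg.Agent.Lib.helper7.Om
open Cfsg.Lie Cfsg.Lie.ChevalleyDatum Cfsg.Agent.Lib.helper8

universe u

variable {F : Type u} [Field F]

theorem quadPlus_diag_sim (d : P8 → Fˣ) (μ : Fˣ) (hd : ∀ k, d k * d k.swap = μ) (x : P8 → F) :
    Cfsg.quadFormPlus 4 F (fun c => (d c : F) * x c) = (μ : F) * Cfsg.quadFormPlus 4 F x := by
  unfold Cfsg.quadFormPlus
  rw [Finset.mul_sum]
  refine Finset.sum_congr rfl (fun i _ => ?_)
  have := congrArg Units.val (hd (Sum.inl i))
  simp only [Sum.swap_inl, Units.val_mul] at this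
  calc (d (Sum.inl i) : F) * x (Sum.inl i) * ((d (Sum.inr i) : F) * x (Sum.inr i))
      = ((d (Sum.inl i) : F) * (d (Sum.inr i) : F)) * (x (Sum.inl i) * x (Sum.inr i)) := by ring
    _ = (μ : F) * (x (Sum.inl i) * x (Sum.inr i)) := by rw [this]

/-- the diagonal matrix of a family of units -/
noncomputable def dGL (d : P8 → Fˣ) : GL P8 F :=
  ⟨Matrix.diagonal (fun k => (d k : F)), Matrix.diagonal (fun k => ((d k)⁻¹ : Fˣ)),
    by
      rw [Matrix.diagonal_mul_diagonal, ← Matrix.diagonal_one]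
      congr 1
      funext c
      simp,
    by
      rw [Matrix.diagonal_mul_diagonal, ← Matrix.diagonal_one]
      congr 1
      funext c
      simp⟩

theorem dGL_mulVec (d : P8 → Fˣ) (x : P8 → F) :
    ((dGL d : GL P8 F) : Matrix P8 P8 F) *ᵥ x = fun c => (d c : F) * x c := by
  funext c
  show ((Matrix.diagonal (fun k => (d k : F)) : Matrix P8 P8 F) *ᵥ x) c = _
  rw [Matrix.mulVec_diagonal]

theorem dGL_mem (d : P8 → Fˣ) (μ : Fˣ) (hd : ∀ k, d k * d k.swap = μ) :
    dGL d ∈ GO (Cfsg.quadFormPlus 4 F) := by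
  refine ⟨μ, fun v => ?_⟩
  rw [dGL_mulVec]
  exact quadPlus_diag_sim d μ hd v

/-- the diagonal similarity -/
noncomputable def dSim (d : P8 → Fˣ) (μ : Fˣ) (hd : ∀ k, d k * d k.swap = μ) :
    ↥(GO (Cfsg.quadFormPlus 4 F)) := ⟨dGL d, dGL_mem d μ hd⟩

/-- conjugation of a coordinate root element by a diagonal similarity -/
theorem dGL_conj_W (d : P8 → Fˣ) (μ : Fˣ) (hd : ∀ k, d k * d k.swap = μ) {k l : P8}
    (h : CValid k l) (c : F) :
    dGL d * ((W k l c : ↥(ogG F 4)) : GL P8 F) * (dGL d)⁻¹ =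
      ((W k l (c * (d k : F) * (d l : F) * ((μ⁻¹ : Fˣ) : F)) : ↥(ogG F 4)) : GL P8 F) := by
  rw [mul_inv_eq_iff_eq_mul]
  apply Units.ext
  apply Matrix.mulVec_injective
  funext x
  rw [Units.val_mul, Units.val_mul, ← Matrix.mulVec_mulVec, ← Matrix.mulVec_mulVec]
  have e1 : ((W k l c : ↥(ogG F 4)) : GL P8 F).1 *ᵥ x = (W k l c).1.1 *ᵥ x := rfl
  have e2 : ∀ y : P8 → F, ((W k l (c * (d k : F) * (d l : F) * ((μ⁻¹ : Fˣ) : F)) : ↥(ogG F 4)) :
      GL P8 F).1 *ᵥ y = (W k l (c * (d k : F) * (d l : F) * ((μ⁻¹ : Fˣ) : F))).1.1 *ᵥ y :=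
    fun y => rfl
  rw [e1, e2, W_mulVec h, W_mulVec h, dGL_mulVec, dGL_mulVec]
  have hk := congrArg Units.val (hd k)
  have hl := congrArg Units.val (hd l)
  rw [Units.val_mul] at hk hl
  have hμ : (μ : F) * ((μ⁻¹ : Fˣ) : F) = 1 := by
    rw [← Units.val_mul, mul_inv_cancel, Units.val_one]
  funext z
  simp only [Pi.add_apply, Pi.smul_apply, Pi.sub_apply, smul_eq_mul, Pi.single_apply]
  have a1 : c * (d k : F) * (d l : F) * ((μ⁻¹ : Fˣ) : F) * ((d k.swap : F) * x k.swap) =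
      c * (d l : F) * x k.swap := by
    calc c * (d k : F) * (d l : F) * ((μ⁻¹ : Fˣ) : F) * ((d k.swap : F) * x k.swap)
        = c * (d l : F) * x k.swap * (((d k : F) * (d k.swap : F)) * ((μ⁻¹ : Fˣ) : F)) := by ring
      _ = c * (d l : F) * x k.swap := by rw [hk, hμ, mul_one]
  have a2 : c * (d k : F) * (d l : F) * ((μ⁻¹ : Fˣ) : F) * ((d l.swap : F) * x l.swap) =
      c * (d k : F) * x l.swap := by
    calc c * (d k : F) * (d l : F) * ((μ⁻¹ : Fˣ) : F) * ((d l.swap : F) * x l.swap)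
        = c * (d k : F) * x l.swap * (((d l : F) * (d l.swap : F)) * ((μ⁻¹ : Fˣ) : F)) := by ring
      _ = c * (d k : F) * x l.swap := by rw [hl, hμ, mul_one]
  by_cases hzl : z = l
  · by_cases hzk : z = k
    · exact absurd (hzk.symm.trans hzl) h.1
    · subst hzl
      rw [if_pos rfl, if_neg hzk]
      linear_combination (-1 : F) * a1
  · by_cases hzk : z = k
    · subst hzk
      rw [if_neg hzl, if_pos rfl]
      linear_combination a2
    · rw [if_neg hzl, if_neg hzk]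
      ring

/-- the action of a diagonal similarity on the image of a coordinate root element in `PΩ` -/
theorem cHom_dSim_W (d : P8 → Fˣ) (μ : Fˣ) (hd : ∀ k, d k * d k.swap = μ) {k l : P8}
    (h : CValid k l) (c : F) :
    cHom (Cfsg.quadFormPlus 4 F) (dSim d μ hd)
        (QuotientGroup.mk ⟨W k l c, W_mem_omega h c⟩) =
      QuotientGroup.mk ⟨W k l (c * (d k : F) * (d l : F) * ((μ⁻¹ : Fˣ) : F)),
        W_mem_omega h _⟩ := by
  rw [cHom_mk]
  congr 1
  apply Subtype.ext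
  apply Subtype.ext
  rw [cHom_mk_coe]
  exact dGL_conj_W d μ hd h c

end Cfsg.Agent.Lib.Helper16.FA
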