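import Mathlib
import Cfsg.Agent.Lib.Helper16.FB2
import Cfsg.Agent.Lib.Helper16.OM9

set_option autoImplicit false
set_option linter.unusedSectionVars false
set_option linter.unusedVariables false

/-! The inner-diagonal group of `PΩ⁺₈(q)` is normal in the automorphism group, part 3: the
diagonal similarities induce the diagonal automorphisms of `D₄(F)`. -/

namespace Cfsg.Agent.Lib.Helper16.FA

open Matrix Cfsg.Agent.Lib.Lead Cfsg.Agent.Lib.Lead.OA Cfsg.Agent.Lib.Helper26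
  Cfsg.Agent.Lib.helper7.Om Cfsg.Agent.Lib.Helper16.OM
open Cfsg.Lie Cfsg.Lie.ChevalleyDatum Cfsg.Agent.Lib.helper8

universe u

variable {F : Type u} [Field F]

/-- the automorphism of `D₄(F)` induced by a diagonal similarity, through an isomorphism `e` -/
noncomputable def thetaD (e : ↥(chevD4.group F) ≃* Cfsg.POmega F (Cfsg.quadFormPlus 4 F))
    (d : P8 → Fˣ) (μ : Fˣ) (hd : ∀ k, d k * d k.swap = μ) : MulAut ↥(chevD4.group F) :=
  (autTr e).symm (cHom (Cfsg.quadFormPlus 4 F) (dSim d μ hd))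

theorem thetaD_apply (e : ↥(chevD4.group F) ≃* Cfsg.POmega F (Cfsg.quadFormPlus 4 F))
    (d : P8 → Fˣ) (μ : Fˣ) (hd : ∀ k, d k * d k.swap = μ) (g : ↥(chevD4.group F)) :
    thetaD e d μ hd g = e.symm (cHom (Cfsg.quadFormPlus 4 F) (dSim d μ hd) (e g)) := rfl

theorem autTr_thetaD (e : ↥(chevD4.group F) ≃* Cfsg.POmega F (Cfsg.quadFormPlus 4 F))
    (d : P8 → Fˣ) (μ : Fˣ) (hd : ∀ k, d k * d k.swap = μ) :
    autTr e (thetaD e d μ hd) = cHom (Cfsg.quadFormPlus 4 F) (dSim d μ hd) :=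
  (autTr e).apply_symm_apply _

/-- the action on the root elements -/
theorem thetaD_xG (e : ↥(chevD4.group F) ≃* Cfsg.POmega F (Cfsg.quadFormPlus 4 F))
    (he : ∀ (r : ℕ) (t : F), r < 24 →
        e (h8xG chevD4 (h8base_all.{u} chevD4 h8oq_hD4) r t) =
          QuotientGroup.mk ⟨Yr r t, Yr_mem_omega r t⟩)
    (d : P8 → Fˣ) (μ : Fˣ) (hd : ∀ k, d k * d k.swap = μ) (r : ℕ) (hr : r < 24) (t : F) :
    thetaD e d μ hd (h8xG chevD4 (h8base_all.{u} chevD4 h8oq_hD4) r t) =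
      h8xG chevD4 (h8base_all.{u} chevD4 h8oq_hD4) r
        (((d (kK r) * d (lL r) * μ⁻¹ : Fˣ) : F) * t) := by
  rw [thetaD_apply, MulEquiv.symm_apply_eq, he r t hr, he r _ hr]
  have hv : CValid (kK r) (lL r) := valid_kl hr
  have h1 : (⟨Yr r t, Yr_mem_omega r t⟩ : ↥(Cfsg.Omega F (Cfsg.quadFormPlus 4 F))) =
      ⟨W (kK r) (lL r) ((eta r : F) * t), W_mem_omega hv _⟩ := by
    apply Subtype.ext
    exact Yr_lt hr t
  have h2 : (⟨Yr r (((d (kK r) * d (lL r) * μ⁻¹ : Fˣ) : F) * t), Yr_mem_omega r _⟩ :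
      ↥(Cfsg.Omega F (Cfsg.quadFormPlus 4 F))) =
      ⟨W (kK r) (lL r) ((eta r : F) * t * (d (kK r) : F) * (d (lL r) : F) * ((μ⁻¹ : Fˣ) : F)),
        W_mem_omega hv _⟩ := by
    apply Subtype.ext
    show Yr r _ = W (kK r) (lL r) _
    rw [Yr_lt hr]
    congr 1
    rw [Units.val_mul, Units.val_mul]
    ring
  rw [h1, h2]
  exact cHom_dSim_W d μ hd hv _

theorem d4_simple_val (i : Fin chevD4.rank) :
    chevD4.simple i = (#[18, 14, 13, 12] : Array ℕ).getD i.val 0 := rfl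

/-- the induced automorphism is in standard form -/
theorem thetaD_std (e : ↥(chevD4.group F) ≃* Cfsg.POmega F (Cfsg.quadFormPlus 4 F))
    (he : ∀ (r : ℕ) (t : F), r < 24 →
        e (h8xG chevD4 (h8base_all.{u} chevD4 h8oq_hD4) r t) =
          QuotientGroup.mk ⟨Yr r t, Yr_mem_omega r t⟩)
    (d : P8 → Fˣ) (μ : Fˣ) (hd : ∀ k, d k * d k.swap = μ) :
    H8Std chevD4 (h8base_all.{u} chevD4 h8oq_hD4) (thetaD e d μ hd) 1
      (fun i => d (kK (chevD4.simple i)) * d (lL (chevD4.simple i)) * μ⁻¹)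
      (RingEquiv.refl F) := by
  have hpos : ∀ i : Fin chevD4.rank, chevD4.simple i < 24 := by decide
  have hneg : ∀ i : Fin chevD4.rank, chevD4.negIdx.getD (chevD4.simple i) 0 < 24 := by decide
  have hk : ∀ i : Fin chevD4.rank, kK (chevD4.negIdx.getD (chevD4.simple i) 0) =
      (lL (chevD4.simple i)).swap := by decide
  have hl : ∀ i : Fin chevD4.rank, lL (chevD4.negIdx.getD (chevD4.simple i) 0) =
      (kK (chevD4.simple i)).swap := by decide
  intro i t
  rw [Equiv.Perm.one_apply, h8graphExp_self, pow_one]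
  constructor
  · rw [thetaD_xG e he d μ hd _ (hpos i)]
    rfl
  · rw [thetaD_xG e he d μ hd _ (hneg i), hk, hl]
    congr 2
    have h1 := hd (kK (chevD4.simple i))
    have h2 := hd (lL (chevD4.simple i))
    congr 1
    show _ = (d (kK (chevD4.simple i)) * d (lL (chevD4.simple i)) * μ⁻¹)⁻¹
    rw [eq_inv_iff_mul_eq_one]
    calc d (lL (chevD4.simple i)).swap * d (kK (chevD4.simple i)).swap * μ⁻¹ *
          (d (kK (chevD4.simple i)) * d (lL (chevD4.simple i)) * μ⁻¹)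
        = (d (kK (chevD4.simple i)) * d (kK (chevD4.simple i)).swap) *
          (d (lL (chevD4.simple i)) * d (lL (chevD4.simple i)).swap) * μ⁻¹ * μ⁻¹ := by
          simp only [mul_comm, mul_left_comm, mul_assoc]
      _ = 1 := by rw [h1, h2]; simp

end Cfsg.Agent.Lib.Helper16.FA
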