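import Mathlib
import Cfsg.Agent.Lib.Helper16.FB3
import Cfsg.Agent.Lib.Helper16.OM32

set_option autoImplicit false
set_option linter.unusedSectionVars false
set_option linter.unusedVariables false

/-! The inner-diagonal group of `PΩ⁺₈(q)` is normal in the automorphism group, part 4. -/

namespace Cfsg.Agent.Lib.Helper16.FA

open Matrix Cfsg.Agent.Lib.Lead Cfsg.Agent.Lib.Lead.OA Cfsg.Agent.Lib.Helper26
  Cfsg.Agent.Lib.helper7.Om Cfsg.Agent.Lib.Helper16.OM Cfsg.Agent.Lib.Helper16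
  Cfsg.Agent.Lib.Helper16.PSC Cfsg.Agent.Lib.Lead.OAP
open Cfsg.Lie Cfsg.Lie.ChevalleyDatum Cfsg.Agent.Lib.helper8

universe u

variable {F : Type u} [Field F]

theorem cgA {G : Type*} [CommGroup G] (μ a b : G) : μ * a⁻¹ * b * μ⁻¹ = b * a⁻¹ := by
  calc μ * a⁻¹ * b * μ⁻¹ = (b * a⁻¹) * (μ * μ⁻¹) := by ac_rfl
    _ = b * a⁻¹ := by rw [mul_inv_cancel, mul_one]

/-- diagonal similarities with prescribed standard coefficients -/
theorem exists_dSim (c : Fin chevD4.rank → Fˣ) :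
    ∃ (d : P8 → Fˣ) (μ : Fˣ) (hd : ∀ k, d k * d k.swap = μ),
      (fun i : Fin chevD4.rank =>
        d (kK (chevD4.simple i)) * d (lL (chevD4.simple i)) * μ⁻¹) = c := by
  have h4 : chevD4.rank = 4 := rfl
  set c0 : Fˣ := c ⟨0, by decide⟩ with hc0
  set c1 : Fˣ := c ⟨1, by decide⟩ with hc1
  set c2 : Fˣ := c ⟨2, by decide⟩ with hc2
  set c3 : Fˣ := c ⟨3, by decide⟩ with hc3
  let a : Fin 4 → Fˣ := ![c0 * c1 * c2, c1 * c2, c2, 1]
  let μ : Fˣ := c2 * c3⁻¹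
  let d : P8 → Fˣ := Sum.elim a (fun i => μ * (a i)⁻¹)
  have hd : ∀ k, d k * d k.swap = μ := by
    intro k
    rcases k with i | i
    · show a i * (μ * (a i)⁻¹) = μ
      rw [mul_comm μ, mul_inv_cancel_left]
    · show μ * (a i)⁻¹ * a i = μ
      rw [inv_mul_cancel_right]
  refine ⟨d, μ, hd, ?_⟩
  funext i
  have hi : i = ⟨0, by decide⟩ ∨ i = ⟨1, by decide⟩ ∨ i = ⟨2, by decide⟩ ∨ i = ⟨3, by decide⟩ := by
    revert i; decide
  rcases hi with rfl | rfl | rfl | rfl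
  · show μ * (c1 * c2)⁻¹ * (c0 * c1 * c2) * μ⁻¹ = c0
    rw [cgA, mul_assoc c0, mul_inv_cancel_right]
  · show μ * (c2)⁻¹ * (c1 * c2) * μ⁻¹ = c1
    rw [cgA, mul_inv_cancel_right]
  · show μ * (1 : Fˣ)⁻¹ * c2 * μ⁻¹ = c2
    rw [cgA, inv_one, mul_one]
  · show (1 : Fˣ) * c2 * (c2 * c3⁻¹)⁻¹ = c3
    rw [one_mul, _root_.mul_inv_rev, inv_inv, mul_comm c3, mul_inv_cancel_left]

section fin

variable [Fintype F]

set_option quotPrecheck false in
local notation "Q8" => (qfPlus 4 F)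
set_option quotPrecheck false in
local notation "Q8f" => (⇑(qfPlus 4 F) : (Fin 4 ⊕ Fin 4 → F) → F)

/-- the diagonal similarity as an element of `GOq` -/
noncomputable def dSimQ (d : P8 → Fˣ) (μ : Fˣ) (hd : ∀ k, d k * d k.swap = μ) : ↥(GOq Q8) :=
  ⟨dGL d, dGL_mem d μ hd⟩

theorem mult_dSimQ (hne : ∃ v, qfPlus 4 F v ≠ 0) (d : P8 → Fˣ) (μ : Fˣ)
    (hd : ∀ k, d k * d k.swap = μ) : mult Q8 (dSimQ d μ hd) = μ := by
  apply mult_unique _ hne _ μ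
  intro v
  show Cfsg.quadFormPlus 4 F (((dGL d : GL P8 F) : Matrix P8 P8 F) *ᵥ v) = _
  rw [dGL_mulVec]
  exact quadPlus_diag_sim d μ hd v

theorem eps_dSimQ (hne : ∃ v, qfPlus 4 F v ≠ 0) (d : P8 → Fˣ) (μ : Fˣ)
    (hd : ∀ k, d k * d k.swap = μ) : eps Q8 hne 4 (dSimQ d μ hd) = 1 := by
  rw [eps_apply, mult_dSimQ hne]
  have h1 : detGO Q8 (dSimQ d μ hd) = μ ^ 4 := by
    apply Units.ext
    rw [detGO_coe]
    show (Matrix.diagonal (fun k => (d k : F))).det = _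
    rw [Matrix.det_diagonal, Fintype.prod_sum_type, ← Finset.prod_mul_distrib]
    have : ∀ i : Fin 4, (d (Sum.inl i) : F) * (d (Sum.inr i) : F) = (μ : F) := by
      intro i
      have := congrArg Units.val (hd (Sum.inl i))
      rwa [Units.val_mul] at this
    rw [Finset.prod_congr rfl (fun i _ => this i), Finset.prod_const, Finset.card_univ,
      Fintype.card_fin, Units.val_pow_eq_pow_val]
  rw [h1]
  exact mul_inv_cancel _

/-- the subgroup of the automorphisms of `D₄(F)` with trivial field and graph parts -/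
noncomputable def d4N (F : Type u) [Field F] [Fintype F] : Subgroup (MulAut ↥(chevD4.group F)) :=
  (h8odS (F := F) chevD4 h8oq_hD4 (h8oq_hexp4 F)).ker ⊓ (h8axR (F := F) chevD4 h8oq_hD4).ker

instance d4N_normal : (d4N F).Normal := by
  unfold d4N
  infer_instance

theorem mem_d4N_of_std (θ : MulAut ↥(chevD4.group F)) (c : Fin chevD4.rank → Fˣ)
    (h1 : θ ∈ h8A0 chevD4 F)
    (h2 : H8Std chevD4 (h8base_all.{u} chevD4 h8oq_hD4) θ 1 c (RingEquiv.refl F)) :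
    θ ∈ d4N F := by
  refine Subgroup.mem_inf.mpr ⟨?_, ?_⟩
  · rw [MonoidHom.mem_ker, h8odS_eq' chevD4 h8oq_hD4 (h8oq_hexp4 F) θ 1 c _ h1 h2]
    rfl
  · rw [MonoidHom.mem_ker]
    exact h8axR_eq' chevD4 h8oq_hD4 θ 1 c _ h1 h2

theorem thetaD_mem_d4N (e : ↥(chevD4.group F) ≃* Cfsg.POmega F (Cfsg.quadFormPlus 4 F))
    (he : ∀ (r : ℕ) (t : F), r < 24 →
        e (h8xG chevD4 (h8base_all.{u} chevD4 h8oq_hD4) r t) =
          QuotientGroup.mk ⟨Yr r t, Yr_mem_omega r t⟩)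
    (d : P8 → Fˣ) (μ : Fˣ) (hd : ∀ k, d k * d k.swap = μ) : thetaD e d μ hd ∈ d4N F := by
  obtain ⟨δ, hδ, hstd⟩ := h8oq_diag_exists F
    (fun i => d (kK (chevD4.simple i)) * d (lL (chevD4.simple i)) * μ⁻¹)
  have := h8av_std_ext chevD4 h8oq_hD4 δ (thetaD e d μ hd) 1 _ (RingEquiv.refl F) hstd
    (thetaD_std e he d μ hd)
  rw [← this]
  exact mem_d4N_of_std δ _ hδ hstd

theorem d4N_rep (e : ↥(chevD4.group F) ≃* Cfsg.POmega F (Cfsg.quadFormPlus 4 F))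
    (he : ∀ (r : ℕ) (t : F), r < 24 →
        e (h8xG chevD4 (h8base_all.{u} chevD4 h8oq_hD4) r t) =
          QuotientGroup.mk ⟨Yr r t, Yr_mem_omega r t⟩)
    (θ : MulAut ↥(chevD4.group F)) (hθ : θ ∈ d4N F) :
    ∃ (x : ↥(chevD4.group F)) (d : P8 → Fˣ) (μ : Fˣ) (hd : ∀ k, d k * d k.swap = μ),
      MulAut.conj x * θ = thetaD e d μ hd := by
  obtain ⟨ρ, x, c, σ, h1, h2⟩ := h8ax_exists chevD4 h8oq_hD4 θ
  have hσ : σ = RingEquiv.refl F := by
    have h3 := h8odS_eq chevD4 h8oq_hD4 (h8oq_hexp4 F) θ x ρ c σ h1 h2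
    have h4 : h8odS chevD4 h8oq_hD4 (h8oq_hexp4 F) θ = 1 := MonoidHom.mem_ker.mp hθ.1
    rw [← h3, h4]
    rfl
  have hρ : ρ = 1 := by
    have h3 := h8axR_eq chevD4 h8oq_hD4 θ x ρ c σ h1 h2
    have h4 : h8axR chevD4 h8oq_hD4 θ = 1 := MonoidHom.mem_ker.mp hθ.2
    rw [← h3, h4]
  subst hσ
  subst hρ
  obtain ⟨d, μ, hd, hc⟩ := exists_dSim c
  refine ⟨x, d, μ, hd, ?_⟩
  have h5 := thetaD_std e he d μ hd
  rw [hc] at h5
  exact h8av_std_ext chevD4 h8oq_hD4 _ _ 1 c (RingEquiv.refl F) h2 h5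

end fin

end Cfsg.Agent.Lib.Helper16.FA
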