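import Mathlib
import Cfsg.Agent.Lib.Helper16.FB4

set_option autoImplicit false
set_option linter.unusedSectionVars false
set_option linter.unusedVariables false

/-! The inner-diagonal group of `PΩ⁺₈(q)`, `q` odd, is normal in the automorphism group. -/

namespace Cfsg.Agent.Lib.Helper16.FA

open Matrix Cfsg.Agent.Lib.Lead Cfsg.Agent.Lib.Lead.OA Cfsg.Agent.Lib.Helper26
  Cfsg.Agent.Lib.helper7.Om Cfsg.Agent.Lib.Helper16.OM Cfsg.Agent.Lib.Helper16
  Cfsg.Agent.Lib.Helper16.PSC Cfsg.Agent.Lib.Lead.OAP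
open Cfsg.Lie Cfsg.Lie.ChevalleyDatum Cfsg.Agent.Lib.helper8

universe u

variable {F : Type u} [Field F] [Fintype F]

set_option quotPrecheck false in
local notation "Q8" => (qfPlus 4 F)
set_option quotPrecheck false in
local notation "Q8f" => (⇑(qfPlus 4 F) : (Fin 4 ⊕ Fin 4 → F) → F)

theorem d4N_map_mk :
    (d4N F).map (QuotientGroup.mk' (Cfsg.Inn ↥(chevD4.group F))) =
      (h8oqV F).map (h8oqA F).subtype := by
  ext a
  constructor
  · rintro ⟨θ, hθ, rfl⟩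
    have hθ' := Subgroup.mem_inf.mp hθ
    have haA : QuotientGroup.mk' (Cfsg.Inn ↥(chevD4.group F)) θ ∈ h8oqA F := by
      unfold h8oqA
      rw [MonoidHom.mem_ker, h8odSbar_mk]
      exact MonoidHom.mem_ker.mp hθ'.1
    refine ⟨⟨_, haA⟩, ?_, rfl⟩
    show (⟨_, haA⟩ : ↥(h8oqA F)) ∈ (h8oqRA F).ker
    rw [MonoidHom.mem_ker]
    show h8axRbar chevD4 h8oq_hD4 (QuotientGroup.mk' _ θ) = 1
    rw [h8axRbar_mk]
    exact MonoidHom.mem_ker.mp hθ'.2
  · rintro ⟨v, hv, rfl⟩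
    obtain ⟨θ, hθ⟩ := QuotientGroup.mk'_surjective (Cfsg.Inn ↥(chevD4.group F)) v.val
    refine ⟨θ, Subgroup.mem_inf.mpr ⟨?_, ?_⟩, hθ⟩
    · rw [MonoidHom.mem_ker, ← h8odSbar_mk, hθ]
      have := v.2
      unfold h8oqA at this
      exact MonoidHom.mem_ker.mp this
    · rw [MonoidHom.mem_ker, ← h8axRbar_mk, hθ]
      have h1 : v ∈ (h8oqRA F).ker := hv
      exact MonoidHom.mem_ker.mp h1

theorem relIndex_inn_d4N {p f : ℕ} [Fact p.Prime] (hF : Fintype.card F = p ^ f) (hp : p ≠ 2) :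
    (Cfsg.Inn ↥(chevD4.group F)).relIndex (d4N F) = 4 := by
  have hcp : CharP F p := charP_of_card_eq_prime_pow hF
  have h1 : Cfsg.Inn ↥(chevD4.group F) =
      (⊥ : Subgroup (Cfsg.Out ↥(chevD4.group F))).comap
        (QuotientGroup.mk' (Cfsg.Inn ↥(chevD4.group F))) := by
    rw [MonoidHom.comap_bot, QuotientGroup.ker_mk']
  rw [h1, Subgroup.relIndex_comap, Subgroup.relIndex_bot_left, d4N_map_mk,
    Subgroup.card_map_of_injective (Subgroup.subtype_injective _), h8oq_V_card F p f hF]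
  have hodd : Odd p := (Fact.out : p.Prime).eq_two_or_odd'.resolve_left hp
  have hpf : Odd (p ^ f) := hodd.pow
  have h2 : 2 ∣ p ^ f - 1 := by
    obtain ⟨k, hk⟩ := hpf
    rw [hk]
    exact ⟨k, by omega⟩
  rw [Nat.gcd_eq_left h2]
  norm_num

theorem inn_le_d4N : Cfsg.Inn ↥(chevD4.group F) ≤ d4N F :=
  le_inf (h8odS_inn chevD4 h8oq_hD4 (h8oq_hexp4 F)) (h8axR_inn chevD4 h8oq_hD4)

set_option maxHeartbeats 1600000 in
theorem inndiagPlus4_normal {p f : ℕ} [Fact p.Prime] (hF : Fintype.card F = p ^ f) (hp : p ≠ 2) :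
    (Cfsg.inndiagPOmegaPlus 4 F).Normal := by
  obtain ⟨e, he⟩ := d4iso_exists (F := F)
  have hoddp : Odd p := (Fact.out : p.Prime).eq_two_or_odd'.resolve_left hp
  have hodd : Odd (Fintype.card F) := by rw [hF]; exact hoddp.pow
  have h2 : (2 : F) ≠ 0 := two_ne_zero_of_odd hodd
  have hne := plus_exists_ne_zero (F := F) 4 (by omega)
  have hQ := qfPlus_nondeg 4 F
  have hcard := card_plus_index 4
  have hn4 : 4 ≤ Fintype.card (Fin 4 ⊕ Fin 4) := by rw [hcard]; omega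
  set D' : Subgroup (MulAut (Cfsg.POmega F (Cfsg.quadFormPlus 4 F))) :=
    (eps Q8 hne 4).ker.map (cHom Q8f) with hD'
  have hDeq : Cfsg.inndiagPOmegaPlus 4 F = D' := inndiagPlus_eq h2 hne
  have hInnD : Cfsg.Inn (Cfsg.POmega F (Cfsg.quadFormPlus 4 F)) ≤ D' := inn_le_D Q8 hne 4
  -- the image of `d4N` lies in the inner-diagonal group
  have hle : (d4N F).map (autTr e).toMonoidHom ≤ D' := by
    rintro _ ⟨θ, hθ, rfl⟩
    obtain ⟨x, d, μ, hd, hx⟩ := d4N_rep e he θ hθ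
    have h3 : θ = (MulAut.conj x)⁻¹ * thetaD e d μ hd := by
      rw [← hx, inv_mul_cancel_left]
    have h4 : (autTr e).toMonoidHom θ =
        (MulAut.conj (e x))⁻¹ * cHom (Cfsg.quadFormPlus 4 F) (dSim d μ hd) := by
      show autTr e θ = _
      rw [h3, map_mul, map_inv, autTr_conj, autTr_thetaD]
    rw [h4]
    apply Subgroup.mul_mem
    · exact Subgroup.inv_mem _ (hInnD ⟨e x, rfl⟩)
    · exact ⟨dSimQ d μ hd, MonoidHom.mem_ker.mpr (eps_dSimQ hne d μ hd), rfl⟩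
  -- the indices
  have hK : ∀ β, β ∈ Cfsg.Inn ↥(chevD4.group F) ↔
      autTr e β ∈ Cfsg.Inn (Cfsg.POmega F (Cfsg.quadFormPlus 4 F)) :=
    fun β => autTr_inn_iff e β
  have hmapInn : (Cfsg.Inn ↥(chevD4.group F)).map (autTr e).toMonoidHom =
      Cfsg.Inn (Cfsg.POmega F (Cfsg.quadFormPlus 4 F)) := map_eq_of_iff (autTr e) _ _ hK
  have hidx1 : (Cfsg.Inn (Cfsg.POmega F (Cfsg.quadFormPlus 4 F))).relIndex
      ((d4N F).map (autTr e).toMonoidHom) = 4 := by
    have h5 := Subgroup.relIndex_map_map_of_injective (f := (autTr e).toMonoidHom)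
      (Cfsg.Inn ↥(chevD4.group F)) (d4N F) (autTr e).injective
    rw [hmapInn] at h5
    rw [h5]
    exact relIndex_inn_d4N hF hp
  have hidx2 : (Cfsg.Inn (Cfsg.POmega F (Cfsg.quadFormPlus 4 F))).relIndex D' = 4 := by
    obtain ⟨δ, hδ0, hδ⟩ := Cfsg.Agent.Lib.Lead.OI.exists_nonsquare (F := F) h2
    set c : Fˣ := Units.mk0 δ hδ0 with hc
    set g₁ : ↥(GOq (qfPlus 4 F)) := ⟨dPlus c, dPlus_mem c⟩ with hg₁def
    have hg₁ : ¬ IsSquare ((mult (qfPlus 4 F) g₁ : Fˣ) : F) := by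
      rw [hg₁def, mult_dPlus hne]; exact hδ
    have hg₁e : eps (qfPlus 4 F) hne 4 g₁ = 1 := eps_dPlus hne c
    have hiff := Cfsg.Agent.S0790.result (F := F) rfl hodd 4 (by omega)
    have hq2 : Fintype.card F % 2 = 1 := Nat.odd_iff.mp hodd
    have har := pow_mod_four_iff (Fintype.card F) 4 hq2
    have hneg := hiff.mpr (har.mpr (fun h => absurd h.1 (by decide)))
    exact relIndex_inn_D (qfPlus 4 F) h2 hQ hn4 4 hcard hne g₁ hg₁ hg₁e hneg
  have hInnle : Cfsg.Inn (Cfsg.POmega F (Cfsg.quadFormPlus 4 F)) ≤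
      (d4N F).map (autTr e).toMonoidHom := by
    have : (Cfsg.Inn ↥(chevD4.group F)).map (autTr e).toMonoidHom ≤
        (d4N F).map (autTr e).toMonoidHom := Subgroup.map_mono inn_le_d4N
    rwa [hmapInn] at this
  have h6 := Subgroup.relIndex_mul_relIndex _ _ _ hInnle hle
  rw [hidx1, hidx2] at h6
  have h7 : ((d4N F).map (autTr e).toMonoidHom).relIndex D' = 1 := by
    omega
  have h8 : D' = (d4N F).map (autTr e).toMonoidHom :=
    le_antisymm (Subgroup.relIndex_eq_one.mp h7) hle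
  rw [hDeq, h8]
  exact Subgroup.Normal.map d4N_normal _ (autTr e).surjective

end Cfsg.Agent.Lib.Helper16.FA
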