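import Mathlib
import Cfsg.Prelude.Def_KGroupFacts

set_option autoImplicit false

/-! Groups `G` with a self-centralising normal subgroup `N ≃* L`, `Z(L) = 1`, `Out L ≃* S₄` and
`|G : N| = 6` are determined up to isomorphism (used for `S5515`: `PΩ⁺₈(3) : S₃`). -/

namespace Cfsg.Agent.Lib.Helper16.FS

set_option maxRecDepth 100000 in
/-- elements of order 3 of `S₄` have a fixed point, preserved by everything normalising `⟨c⟩`. -/
theorem perm4_three_fix : ∀ c : Equiv.Perm (Fin 4), c ^ 3 = 1 → c ≠ 1 →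
    ∃ i : Fin 4, ∀ g : Equiv.Perm (Fin 4), (g * c * g⁻¹ = c ∨ g * c * g⁻¹ = c⁻¹) → g i = i := by
  decide +kernel

theorem perm4_card_stabilizer (i : Fin 4) :
    Nat.card (MulAction.stabilizer (Equiv.Perm (Fin 4)) i) = 6 := by
  classical
  have h := Subgroup.card_mul_index (MulAction.stabilizer (Equiv.Perm (Fin 4)) i)
  rw [MulAction.index_stabilizer, MulAction.orbit_eq_univ] at h
  have h2 : (Set.univ : Set (Fin 4)).ncard = 4 := by
    rw [Set.ncard_univ]; simp
  have h3 : Nat.card (Equiv.Perm (Fin 4)) = 24 := by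
    rw [Nat.card_eq_fintype_card, Fintype.card_perm]; rfl
  rw [h2, h3] at h
  omega

/-- a subgroup of order 6 of `S₄` is a point stabiliser. -/
theorem perm4_card6_eq_stabilizer (H : Subgroup (Equiv.Perm (Fin 4))) (h : Nat.card H = 6) :
    ∃ i : Fin 4, H = MulAction.stabilizer (Equiv.Perm (Fin 4)) i := by
  classical
  have : Fact (Nat.Prime 3) := ⟨by norm_num⟩
  obtain ⟨c, hc⟩ := exists_prime_orderOf_dvd_card' (G := H) 3 (by rw [h]; norm_num)
  have hc3 : (c : Equiv.Perm (Fin 4)) ^ 3 = 1 := by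
    have := pow_orderOf_eq_one c
    rw [hc] at this
    exact_mod_cast congrArg Subtype.val this
  have hc1 : (c : Equiv.Perm (Fin 4)) ≠ 1 := by
    intro h1
    have : c = 1 := Subtype.ext h1
    rw [this, orderOf_one] at hc
    omega
  obtain ⟨i, hi⟩ := perm4_three_fix c hc3 hc1
  -- `⟨c⟩` is normal in `H`
  have hP : Nat.card (Subgroup.zpowers c) = 3 := by rw [Nat.card_zpowers, hc]
  have hidx : (Subgroup.zpowers c).index = 2 := by
    have := Subgroup.card_mul_index (Subgroup.zpowers c)
    rw [hP, h] at this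
    omega
  have hnor := Subgroup.normal_of_index_eq_two hidx
  have hle : H ≤ MulAction.stabilizer (Equiv.Perm (Fin 4)) i := by
    intro g hg
    rw [MulAction.mem_stabilizer_iff]
    apply hi
    have hmem : (⟨g, hg⟩ : H) * c * (⟨g, hg⟩ : H)⁻¹ ∈ Subgroup.zpowers c :=
      hnor.conj_mem c (Subgroup.mem_zpowers c) _
    rw [Subgroup.mem_zpowers_iff] at hmem
    obtain ⟨k, hk⟩ := hmem
    -- reduce k mod 3
    have hk' : c ^ (k % 3) = (⟨g, hg⟩ : H) * c * (⟨g, hg⟩ : H)⁻¹ := by
      rw [← hk]
      have := zpow_mod_orderOf c k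
      rw [hc] at this
      exact_mod_cast this
    have hk3 : 0 ≤ k % 3 ∧ k % 3 < 3 := ⟨Int.emod_nonneg _ (by norm_num), Int.emod_lt_of_pos _ (by norm_num)⟩
    have hcases : k % 3 = 0 ∨ k % 3 = 1 ∨ k % 3 = 2 := by omega
    have hval : g * (c : Equiv.Perm (Fin 4)) * g⁻¹ = ((c ^ (k % 3) : H) : Equiv.Perm (Fin 4)) := by
      rw [hk']; rfl
    rcases hcases with h0 | h1 | h2
    · exfalso
      rw [h0, zpow_zero] at hval
      apply hc1
      have : g * (c : Equiv.Perm (Fin 4)) * g⁻¹ = 1 := by rw [hval]; rfl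
      calc (c : Equiv.Perm (Fin 4)) = g⁻¹ * (g * c * g⁻¹) * g := by group
        _ = 1 := by rw [this]; group
    · left
      rw [hval, h1, zpow_one]
    · right
      rw [hval, h2]
      have : (c : H) ^ (2 : ℤ) = c⁻¹ := by
        have h3 : (c : H) ^ 3 = 1 := by rw [← hc]; exact pow_orderOf_eq_one c
        have : (c : H) ^ (2 : ℤ) * c = 1 := by
          rw [zpow_ofNat, ← pow_succ]; exact h3
        exact eq_inv_of_mul_eq_one_left this
      rw [this]; rfl
  refine ⟨i, ?_⟩
  apply Subgroup.eq_of_le_of_card_ge hle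
  rw [perm4_card_stabilizer, h]

/-- two subgroups of order 6 of `S₄` are conjugate. -/
theorem perm4_card6_conj (H H' : Subgroup (Equiv.Perm (Fin 4))) (h : Nat.card H = 6)
    (h' : Nat.card H' = 6) :
    ∃ σ : Equiv.Perm (Fin 4), H.map (MulAut.conj σ).toMonoidHom = H' := by
  obtain ⟨i, rfl⟩ := perm4_card6_eq_stabilizer H h
  obtain ⟨j, rfl⟩ := perm4_card6_eq_stabilizer H' h'
  refine ⟨Equiv.swap i j, ?_⟩
  rw [← MulAction.stabilizer_smul_eq_stabilizer_map_conj]
  congr 1
  simp

universe u v w

section act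

variable {L : Type u} [Group L] {G : Type v} [Group G] (N : Subgroup G) [N.Normal] (e : N ≃* L)

/-- the action of `G` on a normal subgroup `N ≃* L`, as automorphisms of `L`. -/
noncomputable def actL : G →* MulAut L :=
  (MulAut.congr e).toMonoidHom.comp MulAut.conjNormal

theorem actL_apply (g : G) (l : L) :
    actL N e g l = e (MulAut.conjNormal g (e.symm l)) := by
  simp [actL, MulAut.congr]

theorem actL_of_mem (n : N) : actL N e (n : G) = MulAut.conj (e n) := by
  apply MulEquiv.ext
  intro l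
  rw [actL_apply, MulAut.conj_apply]
  have : MulAut.conjNormal (n : G) (e.symm l) = n * e.symm l * n⁻¹ := by
    apply Subtype.ext
    simp [MulAut.conjNormal_apply]
  rw [this, map_mul, map_mul, map_inv, MulEquiv.apply_symm_apply]

theorem actL_injective (hL : Function.Injective (MulAut.conj : L →* MulAut L))
    (hC : Subgroup.centralizer (N : Set G) ≤ N) : Function.Injective (actL N e) := by
  rw [injective_iff_map_eq_one]
  intro g hg
  have hcent : g ∈ Subgroup.centralizer (N : Set G) := by
    rw [Subgroup.mem_centralizer_iff]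
    intro n hn
    have h1 := actL_apply N e g (e ⟨n, hn⟩)
    rw [hg, MulAut.one_apply, MulEquiv.symm_apply_apply] at h1
    have h2 := e.injective h1
    have h3 := congrArg Subtype.val h2
    rw [MulAut.conjNormal_apply] at h3
    -- h3 : n = g * n * g⁻¹
    simp only at h3
    calc n * g = (g * n * g⁻¹) * g := by rw [← h3]
      _ = g * n := by group
  have hgN : g ∈ N := hC hcent
  have h1 := actL_of_mem N e ⟨g, hgN⟩
  simp only at h1
  rw [hg] at h1
  have h2 : e ⟨g, hgN⟩ = 1 := hL (by rw [← h1, map_one])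
  have h3 : (⟨g, hgN⟩ : N) = 1 := e.injective (by rw [h2, map_one])
  exact congrArg Subtype.val h3

theorem actL_mem_inn_iff (hL : Function.Injective (MulAut.conj : L →* MulAut L))
    (hC : Subgroup.centralizer (N : Set G) ≤ N) (g : G) :
    actL N e g ∈ Cfsg.Inn L ↔ g ∈ N := by
  constructor
  · rintro ⟨l, hl⟩
    have h1 := actL_of_mem N e (e.symm l)
    rw [MulEquiv.apply_symm_apply] at h1
    have h2 : actL N e g = actL N e ((e.symm l : N) : G) := by rw [h1]; exact hl.symm
    rw [actL_injective N e hL hC h2]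
    exact (e.symm l).2
  · intro hg
    exact ⟨e ⟨g, hg⟩, (actL_of_mem N e ⟨g, hg⟩).symm⟩

end act

section main

variable {L : Type u} [Group L] {G : Type v} [Group G] (N : Subgroup G) [N.Normal] (e : N ≃* L)

/-- the image of `G` in `Out L`, read in `P`. -/
noncomputable def outHom {P : Type*} [Group P] (eo : Cfsg.Out L ≃* P) : G →* P :=
  (eo.toMonoidHom.comp (QuotientGroup.mk' (Cfsg.Inn L))).comp (actL N e)

theorem outHom_apply {P : Type*} [Group P] (eo : Cfsg.Out L ≃* P) (g : G) :
    outHom N e eo g = eo (QuotientGroup.mk (actL N e g)) := rfl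

theorem outHom_ker {P : Type*} [Group P] (eo : Cfsg.Out L ≃* P)
    (hL : Function.Injective (MulAut.conj : L →* MulAut L))
    (hC : Subgroup.centralizer (N : Set G) ≤ N) : (outHom N e eo).ker = N := by
  ext g
  rw [MonoidHom.mem_ker, outHom_apply, MulEquiv.map_eq_one_iff, QuotientGroup.eq_one_iff,
    actL_mem_inn_iff N e hL hC]

theorem card_outHom_range {P : Type*} [Group P] (eo : Cfsg.Out L ≃* P)
    (hL : Function.Injective (MulAut.conj : L →* MulAut L))
    (hC : Subgroup.centralizer (N : Set G) ≤ N) :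
    Nat.card (outHom N e eo).range = N.index := by
  rw [← Nat.card_congr (QuotientGroup.quotientKerEquivRange (outHom N e eo)).toEquiv,
    ← Subgroup.index, outHom_ker N e eo hL hC]

end main

section conj

variable {L : Type u} [Group L] {G : Type v} [Group G] (N : Subgroup G) [N.Normal] (e : N ≃* L)
  {G' : Type w} [Group G'] (N' : Subgroup G') [N'.Normal] (e' : N' ≃* L)

theorem range_conj_le {P : Type*} [Group P] (eo : Cfsg.Out L ≃* P) (α : MulAut L)
    (h : (outHom N e eo).range.map (MulAut.conj (eo (QuotientGroup.mk α))).toMonoidHom ≤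
      (outHom N' e' eo).range) :
    (actL N e).range.map (MulAut.conj α).toMonoidHom ≤ (actL N' e').range := by
  rintro _ ⟨_, ⟨g, rfl⟩, rfl⟩
  have h1 : (MulAut.conj (eo (QuotientGroup.mk α))).toMonoidHom (outHom N e eo g) ∈
      (outHom N' e' eo).range := h ⟨_, ⟨g, rfl⟩, rfl⟩
  obtain ⟨g', hg'⟩ := h1
  have h2 : eo (QuotientGroup.mk (actL N' e' g')) =
      eo (QuotientGroup.mk (α * actL N e g * α⁻¹)) := by
    rw [← outHom_apply, hg']
    show eo (QuotientGroup.mk α) * outHom N e eo g * (eo (QuotientGroup.mk α))⁻¹ = _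
    rw [outHom_apply, ← map_inv, ← map_mul, ← map_mul]
    rfl
  have h3 := eo.injective h2
  rw [QuotientGroup.eq] at h3
  obtain ⟨l, hl⟩ := h3
  have h4 := actL_of_mem N' e' (e'.symm l)
  rw [MulEquiv.apply_symm_apply, hl] at h4
  refine ⟨g' * ((e'.symm l : N') : G'), ?_⟩
  rw [map_mul, h4]
  show _ = α * actL N e g * α⁻¹
  group

theorem iso_of_out_perm4 [Finite G] [Finite G'] (e : N ≃* L) (e' : N' ≃* L)
    (hL : Function.Injective (MulAut.conj : L →* MulAut L))
    (eo : Cfsg.Out L ≃* Equiv.Perm (Fin 4))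
    (hC : Subgroup.centralizer (N : Set G) ≤ N) (hq : N.index = 6)
    (hC' : Subgroup.centralizer (N' : Set G') ≤ N') (hq' : N'.index = 6) :
    Nonempty (G ≃* G') := by
  obtain ⟨σ, hσ⟩ := perm4_card6_conj (outHom N e eo).range (outHom N' e' eo).range
    (by rw [card_outHom_range N e eo hL hC, hq]) (by rw [card_outHom_range N' e' eo hL hC', hq'])
  obtain ⟨ο, rfl⟩ := eo.surjective σ
  obtain ⟨α, rfl⟩ := QuotientGroup.mk_surjective ο
  have hle := range_conj_le N e N' e' eo α hσ.le
  have hσ' : (outHom N' e' eo).range.map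
      (MulAut.conj (eo (QuotientGroup.mk α⁻¹))).toMonoidHom = (outHom N e eo).range := by
    rw [← hσ, Subgroup.map_map]
    have : (MulAut.conj (eo (QuotientGroup.mk α⁻¹ : Cfsg.Out L))).toMonoidHom.comp
        (MulAut.conj (eo (QuotientGroup.mk α : Cfsg.Out L))).toMonoidHom = MonoidHom.id _ := by
      ext x : 1
      show eo (QuotientGroup.mk α⁻¹) * (eo (QuotientGroup.mk α) * x * (eo (QuotientGroup.mk α))⁻¹) *
        (eo (QuotientGroup.mk α⁻¹))⁻¹ = x
      rw [QuotientGroup.mk_inv, map_inv]
      group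
    rw [this, Subgroup.map_id]
  have hge := range_conj_le N' e' N e eo α⁻¹ hσ'.le
  have heq : (actL N e).range.map (MulAut.conj α).toMonoidHom = (actL N' e').range := by
    apply le_antisymm hle
    intro x hx
    refine ⟨α⁻¹ * x * α, ?_, ?_⟩
    · have := hge ⟨x, hx, rfl⟩
      simpa [MulAut.conj_apply] using this
    · show α * (α⁻¹ * x * α) * α⁻¹ = x
      group
  have e1 : G ≃* (actL N e).range := MonoidHom.ofInjective (actL_injective N e hL hC)
  have e2 : G' ≃* (actL N' e').range := MonoidHom.ofInjective (actL_injective N' e' hL hC')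
  have e3 : (actL N e).range ≃* (actL N e).range.map (MulAut.conj α).toMonoidHom :=
    (MulAut.conj α).subgroupMap (actL N e).range
  exact ⟨(e1.trans e3).trans ((MulEquiv.subgroupCongr heq).trans e2.symm)⟩

end conj

end Cfsg.Agent.Lib.Helper16.FS
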