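import Mathlib
import Cfsg.Agent.Lib.helper14.G2T.Defs

/-!
# G2T row C1: the Moore matrix diagonalises multiplication by `x`.
-/

set_option autoImplicit false

namespace Cfsg.Agent.Lib.helper14.G2T

open Matrix

universe u v

section C

variable {F : Type u} [Field F] [Fintype F] {E : Type v} [Field E] [Fintype E] [Algebra F E]

/-- the `k`-th power of the Frobenius is `x ↦ x ^ q ^ k`. -/
theorem g2tc1_frob_pow (k : ℕ) (x : E) :
    (FiniteField.frobeniusAlgHom F E ^ k) x = x ^ Fintype.card F ^ k := by
  rw [AlgHom.coe_pow, FiniteField.coe_frobeniusAlgHom, pow_iterate]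

/-- C1 [S-M]. Multiplication by `x` is diagonalised by the Moore matrix of a basis. -/
theorem moore_mul (b : Module.Basis (Fin 3) F E) (x : E) :
    moore b (Fintype.card F) * (Algebra.leftMulMatrix b x).map (algebraMap F E) =
      Matrix.diagonal (lamD x (Fintype.card F)) * moore b (Fintype.card F) := by
  ext k j
  rw [Matrix.diagonal_mul, Matrix.mul_apply]
  simp only [moore, lamD, Matrix.of_apply, Matrix.map_apply]
  have h1 : x * b j = ∑ i, (Algebra.leftMulMatrix b x) i j • b i := by
    conv_lhs => rw [← b.sum_repr (x * b j)]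
    refine Finset.sum_congr rfl fun i _ => ?_
    rw [Algebra.leftMulMatrix_eq_repr_mul]
  have h2 := congrArg (fun y => (FiniteField.frobeniusAlgHom F E ^ (k : ℕ)) y) h1
  simp only [map_mul, map_sum, map_smul, g2tc1_frob_pow] at h2
  rw [h2]
  refine Finset.sum_congr rfl fun i _ => ?_
  rw [Algebra.smul_def, mul_comm]

end C

end Cfsg.Agent.Lib.helper14.G2T
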