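import Mathlib
import Cfsg.Agent.Lib.helper14.G2T.Defs

/-!
# G2T row C2: the Moore matrix of a basis is invertible.
-/

set_option autoImplicit false

namespace Cfsg.Agent.Lib.helper14.G2T

open Matrix

universe u v

section C

variable {F : Type u} [Field F] [Fintype F] {E : Type v} [Field E] [Fintype E] [Algebra F E]

/-- the `k`-th power of the Frobenius is `x ↦ x ^ q ^ k`. -/
theorem g2tc2_frob_pow (k : ℕ) (x : E) :
    (FiniteField.frobeniusAlgHom F E ^ k) x = x ^ Fintype.card F ^ k := by
  rw [AlgHom.coe_pow, FiniteField.coe_frobeniusAlgHom, pow_iterate]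

/-- C2 [M]. The Moore matrix of a basis is invertible. -/
theorem moore_det (hE : Fintype.card E = Fintype.card F ^ 3) (b : Module.Basis (Fin 3) F E) :
    (moore b (Fintype.card F)).det ≠ 0 := by
  classical
  intro h0
  obtain ⟨d, hd0, hd⟩ := Matrix.exists_vecMul_eq_zero_iff.mpr h0
  have hfr : Module.finrank F E = 3 := by
    rw [Module.finrank_eq_card_basis b, Fintype.card_fin]
  set φ := FiniteField.frobeniusAlgHom F E with hφ
  -- the linear map `x ↦ ∑ k, d k * x ^ q ^ k`
  set L : E →ₗ[F] E :=
    ∑ k : Fin 3, (LinearMap.mulLeft F (d k)).comp ((φ ^ (k : ℕ)).toLinearMap) with hL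
  have hLx : ∀ x, L x = ∑ k : Fin 3, d k * x ^ Fintype.card F ^ (k : ℕ) := by
    intro x
    rw [hL, LinearMap.sum_apply]
    refine Finset.sum_congr rfl fun k _ => ?_
    rw [LinearMap.comp_apply, LinearMap.mulLeft_apply, AlgHom.toLinearMap_apply, hφ,
      g2tc2_frob_pow]
  have hLb : ∀ j, L (b j) = 0 := by
    intro j
    rw [hLx]
    have := congrFun hd j
    simpa only [Matrix.vecMul, dotProduct, moore, Matrix.of_apply, Pi.zero_apply] using this
  have hL0 : L = 0 := b.ext (fun j => by rw [hLb, LinearMap.zero_apply])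
  -- the three powers of the Frobenius as monoid homs
  set ψ : Fin 3 → (E →* E) := fun k => ((φ ^ (k : ℕ) : E →ₐ[F] E) : E →* E) with hψ
  have hψinj : Function.Injective ψ := by
    intro k l hkl
    have hinj := (FiniteField.bijective_frobeniusAlgHom_pow F E).1
    have h1 : φ ^ (k : ℕ) = φ ^ (l : ℕ) := by
      apply AlgHom.ext
      intro x
      exact congrArg (fun f : E →* E => f x) hkl
    have hk : (k : ℕ) < Module.finrank F E := by rw [hfr]; exact k.2
    have hl : (l : ℕ) < Module.finrank F E := by rw [hfr]; exact l.2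
    have := @hinj ⟨k, hk⟩ ⟨l, hl⟩ h1
    exact Fin.ext (by simpa using congrArg Fin.val this)
  have hli := (linearIndependent_monoidHom E E).comp ψ hψinj
  have hsum : ∑ k : Fin 3, d k • ((fun f : E →* E => (f : E → E)) ∘ ψ) k = 0 := by
    funext x
    rw [Finset.sum_apply, Pi.zero_apply]
    have := congrArg (fun f : E →ₗ[F] E => f x) hL0
    simp only [LinearMap.zero_apply] at this
    rw [hLx] at this
    rw [← this]
    refine Finset.sum_congr rfl fun k _ => ?_
    rw [Pi.smul_apply, smul_eq_mul, Function.comp_apply, hψ]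
    congr 1
    exact g2tc2_frob_pow (k : ℕ) x
  have hd' := Fintype.linearIndependent_iff.mp hli d hsum
  exact hd0 (funext hd')

end C

end Cfsg.Agent.Lib.helper14.G2T
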