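import Mathlib
import Cfsg.Agent.Lib.helper14.G2T.Defs

/-!
# G2T row C3: a matrix over `F` diagonalised by the Moore matrix has conjugate eigenvalues.
-/

set_option autoImplicit false

namespace Cfsg.Agent.Lib.helper14.G2T

open Matrix

universe u v

section C

variable {F : Type u} [Field F] [Fintype F] {E : Type v} [Field E] [Fintype E] [Algebra F E]

/-- one step: the eigenvalue of row `k + 1` is the `q`-th power of that of row `k`. -/
theorem g2tc3_step (b : Module.Basis (Fin 3) F E) (M : Matrix (Fin 3) (Fin 3) F) (μ : Fin 3 → E)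
    (h : moore b (Fintype.card F) * M.map (algebraMap F E) =
      Matrix.diagonal μ * moore b (Fintype.card F)) (k k' : Fin 3) (hk : (k' : ℕ) = (k : ℕ) + 1) :
    μ k' = μ k ^ Fintype.card F := by
  have hrow : ∀ (l : Fin 3) (j : Fin 3),
      ∑ i, b i ^ Fintype.card F ^ (l : ℕ) * algebraMap F E (M i j) =
        μ l * b j ^ Fintype.card F ^ (l : ℕ) := by
    intro l j
    have := congrFun (congrFun h l) j
    rw [Matrix.diagonal_mul, Matrix.mul_apply] at this
    simpa only [moore, Matrix.of_apply, Matrix.map_apply] using this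
  have h1 := hrow k 0
  have h2 := congrArg (fun y => (FiniteField.frobeniusAlgHom F E) y) h1
  simp only [map_mul, map_sum, FiniteField.coe_frobeniusAlgHom, AlgHom.commutes] at h2
  have h3 : ∀ i : Fin 3, (b i ^ Fintype.card F ^ (k : ℕ)) ^ Fintype.card F =
      b i ^ Fintype.card F ^ (k' : ℕ) := by
    intro i
    rw [← pow_mul, hk, pow_succ]
  have h2' : ∑ i, b i ^ Fintype.card F ^ (k' : ℕ) * algebraMap F E (M i 0) =
      μ k ^ Fintype.card F * b 0 ^ Fintype.card F ^ (k' : ℕ) := by
    rw [← h3 0, ← h2]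
    refine Finset.sum_congr rfl fun i _ => ?_
    rw [h3]
  have h4 := hrow k' 0
  rw [h2'] at h4
  have hb0 : b 0 ^ Fintype.card F ^ (k' : ℕ) ≠ 0 := pow_ne_zero _ (b.ne_zero 0)
  exact (mul_right_cancel₀ hb0 h4).symm

/-- C3 [S-M]. A matrix over `F` diagonalised by the Moore matrix has conjugate eigenvalues. -/
theorem moore_shift (b : Module.Basis (Fin 3) F E) (M : Matrix (Fin 3) (Fin 3) F) (μ : Fin 3 → E)
    (h : moore b (Fintype.card F) * M.map (algebraMap F E) =
      Matrix.diagonal μ * moore b (Fintype.card F)) :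
    μ 1 = μ 0 ^ Fintype.card F ∧ μ 2 = μ 0 ^ Fintype.card F ^ 2 := by
  have h01 := g2tc3_step b M μ h 0 1 rfl
  have h12 := g2tc3_step b M μ h 1 2 rfl
  refine ⟨h01, ?_⟩
  rw [h12, h01, ← pow_mul, sq]

end C

end Cfsg.Agent.Lib.helper14.G2T
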