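import Mathlib
import Cfsg.Agent.Lib.helper14.G2T.Defs

/-!
# G2T row C4: an element of order `q² + q + 1` in `GF(q³)`.
-/

set_option autoImplicit false

namespace Cfsg.Agent.Lib.helper14.G2T

open Matrix

universe u v

section C

variable {F : Type u} [Field F] [Fintype F] {E : Type v} [Field E] [Fintype E] [Algebra F E]

/-- C4 [S]. `Eˣ` is cyclic of order `q³ - 1 = (q - 1) (q² + q + 1)`. -/
theorem exists_lam (hE : Fintype.card E = Fintype.card F ^ 3) :
    ∃ lam : E, orderOf lam = Fintype.card F ^ 2 + Fintype.card F + 1 := by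
  classical
  obtain ⟨m, hm⟩ : ∃ m, Fintype.card F = m + 2 :=
    ⟨Fintype.card F - 2, by have := Fintype.one_lt_card (α := F); omega⟩
  obtain ⟨ζ, hζ⟩ := IsCyclic.exists_ofOrder_eq_natCard (α := Eˣ)
  have hcard : Nat.card Eˣ = (m + 1) * ((m + 2) ^ 2 + (m + 2) + 1) := by
    rw [Nat.card_eq_fintype_card, Fintype.card_units, hE, hm]
    have : (m + 2) ^ 3 = (m + 1) * ((m + 2) ^ 2 + (m + 2) + 1) + 1 := by ring
    omega
  refine ⟨((ζ ^ (m + 1) : Eˣ) : E), ?_⟩
  rw [orderOf_units, orderOf_pow_of_dvd (by omega) (by rw [hζ, hcard]; exact dvd_mul_right _ _),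
    hζ, hcard, hm, Nat.mul_div_cancel_left _ (by omega)]

end C

end Cfsg.Agent.Lib.helper14.G2T
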