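import Mathlib
import Cfsg.Agent.Lib.helper14.G2T.Defs
import Cfsg.Agent.Lib.Helper16.G2TC1
import Cfsg.Agent.Lib.Helper16.G2TC2
import Cfsg.Agent.Lib.Helper16.G2TC5

/-!
# G2T row D2: the Singer element and its diagonalisation by the Moore matrix.
-/

set_option autoImplicit false

namespace Cfsg.Agent.Lib.helper14.G2T

open Matrix

universe u v

section D

variable {F : Type u} [Field F] [Fintype F] {E : Type v} [Field E] [Fintype E] [Algebra F E]

/-- D2 [M]. The Singer element and its diagonalisation. -/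
theorem singer (hE : Fintype.card E = Fintype.card F ^ 3) (b : Module.Basis (Fin 3) F E) (lam : E)
    (hlam : orderOf lam = Fintype.card F ^ 2 + Fintype.card F + 1) :
    ∃ (s : Matrix.SpecialLinearGroup (Fin 3) F) (P : Matrix.SpecialLinearGroup (Fin 3) E) (d : E),
      (s : Matrix (Fin 3) (Fin 3) F) = Algebra.leftMulMatrix b lam ∧ d ≠ 0 ∧
      (P : Matrix (Fin 3) (Fin 3) E) = Matrix.diagonal ![d, 1, 1] * moore b (Fintype.card F) ∧
      (P : Matrix (Fin 3) (Fin 3) E) * (s : Matrix (Fin 3) (Fin 3) F).map (algebraMap F E) =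
        Matrix.diagonal (lamD lam (Fintype.card F)) * (P : Matrix (Fin 3) (Fin 3) E) := by
  classical
  have hM := moore_mul b lam
  have hdetM := moore_det hE b
  obtain ⟨_, hnorm, _⟩ := lam_basic (F := F) lam hlam
  set M := moore (⇑b) (Fintype.card F) with hMdef
  set S := Algebra.leftMulMatrix b lam with hSdef
  have hdetS' : (S.map (algebraMap F E)).det = 1 := by
    have h1 := congrArg Matrix.det hM
    rw [Matrix.det_mul, Matrix.det_mul, Matrix.det_diagonal, Fin.prod_univ_three] at h1
    have h2 : lamD lam (Fintype.card F) 0 * lamD lam (Fintype.card F) 1 *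
        lamD lam (Fintype.card F) 2 = 1 := by
      simp only [lamD, Fin.val_zero, Fin.val_one, Fin.val_two, pow_zero, pow_one]
      exact hnorm
    rw [h2, one_mul, mul_comm] at h1
    exact mul_right_cancel₀ hdetM (by rw [h1, one_mul])
  have hdetS : S.det = 1 := by
    have h1 : algebraMap F E S.det = (S.map (algebraMap F E)).det := by
      rw [RingHom.map_det, RingHom.mapMatrix_apply]
    rw [hdetS', ← map_one (algebraMap F E)] at h1
    exact (algebraMap F E).injective h1
  set d : E := (M.det)⁻¹ with hd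
  have hd0 : d ≠ 0 := inv_ne_zero hdetM
  have hdetP : (Matrix.diagonal ![d, 1, 1] * M).det = 1 := by
    rw [Matrix.det_mul, Matrix.det_diagonal, Fin.prod_univ_three]
    simp only [Matrix.cons_val_zero, Matrix.cons_val_one, Matrix.cons_val_two, Matrix.head_cons,
      Matrix.tail_cons, mul_one]
    rw [hd]
    exact inv_mul_cancel₀ hdetM
  refine ⟨⟨S, hdetS⟩, ⟨Matrix.diagonal ![d, 1, 1] * M, hdetP⟩, d, rfl, hd0, rfl, ?_⟩
  change Matrix.diagonal ![d, 1, 1] * M * S.map (algebraMap F E) =
    Matrix.diagonal (lamD lam (Fintype.card F)) * (Matrix.diagonal ![d, 1, 1] * M)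
  rw [Matrix.mul_assoc, hM, ← Matrix.mul_assoc, ← Matrix.mul_assoc, Matrix.diagonal_mul_diagonal,
    Matrix.diagonal_mul_diagonal]
  congr 2
  funext i
  exact mul_comm _ _

end D

end Cfsg.Agent.Lib.helper14.G2T
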