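import Mathlib
import Cfsg.Prelude.Def_LieTypeDatum
import Cfsg.Prelude.Def_KGroupFacts
import Cfsg.Agent.Lib.Helper16.GF3

set_option autoImplicit false
set_option linter.unusedSectionVars false
set_option linter.unusedVariables false

namespace Cfsg.Agent.Lib.Helper16.GF

open Matrix Cfsg.Agent.Lib.Helper16.PG Cfsg.Agent.Lib.Helper16.AP Cfsg.Agent.Lib.Helper16.PU

universe u

section
variable {n : ℕ} {F : Type u} [Field F] [Fintype F] {p f : ℕ} [Fact p.Prime]

theorem S2704_aux (hF : Fintype.card F = p ^ f) (hf : 1 ≤ f) (hn : 3 ≤ n)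
    (x : MulAut (Matrix.ProjectiveSpecialLinearGroup (Fin n) F)) (hx : Cfsg.IsGraphFieldAutClassPSL x)
    (hx2 : orderOf x = 2) :
    Even f ∧ (∀ y : MulAut (Matrix.ProjectiveSpecialLinearGroup (Fin n) F), Cfsg.IsGraphFieldAutClassPSL y →
      orderOf y = 2 → Cfsg.IsConjUnder (Cfsg.inndiagPSL n F) x y) ∧
      Nonempty (↥(Cfsg.inndiagPSL n F ⊓ Subgroup.centralizer {x}) ≃* Cfsg.PGU n F (p ^ (f / 2))) ∧
      Cfsg.splitClassCount (Cfsg.inndiagPSL n F) (Cfsg.Inn (Matrix.ProjectiveSpecialLinearGroup (Fin n) F)) x =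
        Nat.gcd n (p ^ (f / 2) - 1) := by
  obtain ⟨hev, σ, g, hσ, hxg⟩ := graph_field_normal_form hF hn x hx hx2
  have h2f : 2 ∣ f := even_iff_two_dvd.mp hev
  have hF' : Fintype.card F = (p ^ (f / 2)) ^ 2 := by
    rw [hF, ← pow_mul, Nat.div_mul_cancel h2f]
  have hN : ((Phi n F).range).Normal := Phi_range_normal (by omega)
  refine ⟨hev, ?_, ?_, ?_⟩
  · intro y hy hy2
    obtain ⟨-, σ₂, g₂, hσ₂, hyg⟩ := graph_field_normal_form hF hn y hy hy2
    have hσσ : σ₂ = σ := by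
      apply RingEquiv.ext
      intro a
      rw [hσ, hσ₂]
    subst hσσ
    refine ⟨Phi n F (g₂ * g⁻¹), ?_, ?_⟩
    · rw [inndiag_eq_range]
      exact ⟨_, rfl⟩
    · rw [hyg, hxg, map_mul, map_inv]
      group
  · rw [inndiag_eq_range, hxg]
    have e₁ := SC.centralizerConjEquiv (Phi n F).range (Phi n F g) (theta n σ)
    exact ⟨e₁.symm.trans (centThetaEquiv hF' (by omega) σ hσ)⟩
  · rw [inndiag_eq_range, hxg, SC.splitClassCount_conj _ _ AF.Inn_le_range_Phi,
      splitClassCount_theta hF' (by omega) σ hσ]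

end

end Cfsg.Agent.Lib.Helper16.GF
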