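import Mathlib
import Cfsg.Agent.Lib.Lead.SLn

set_option autoImplicit false
set_option linter.unusedSectionVars false
set_option linter.unusedSimpArgs false

namespace Cfsg.Agent.Lib.Helper16

open Matrix
open scoped commutatorElement

variable {F : Type*} [Field F] {ι : Type*} [Fintype ι] [DecidableEq ι]

def diagUnit (w : ι → F) (hw : ∀ k, w k ≠ 0) : GL ι F :=
  ⟨diagonal w, diagonal (fun k => (w k)⁻¹),
    by rw [diagonal_mul_diagonal]; simp [hw],
    by rw [diagonal_mul_diagonal]; simp [hw]⟩

theorem diagUnit_coe (w : ι → F) (hw : ∀ k, w k ≠ 0) :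
    ((diagUnit w hw : GL ι F) : Matrix ι ι F) = diagonal w := rfl

theorem diag_conj_transvection {i j : ι} (hij : i ≠ j) (a : F) (ha0 : a ≠ 0) (y : F) :
    diagUnit (fun k => if k = i then a else 1) (by intro k; split_ifs <;> simp [ha0]) *
      SpecialLinearGroup.toGL (SpecialLinearGroup.transvection hij y)
    = SpecialLinearGroup.toGL (SpecialLinearGroup.transvection hij (a * y)) *
      diagUnit (fun k => if k = i then a else 1) (by intro k; split_ifs <;> simp [ha0]) := by
  apply Units.ext
  rw [Units.val_mul, Units.val_mul, diagUnit_coe]
  show diagonal _ * (1 + single i j y) = (1 + single i j (a * y)) * diagonal _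
  ext p q
  simp only [Matrix.diagonal_mul, Matrix.mul_diagonal, Matrix.add_apply, Matrix.one_apply,
    Matrix.single_apply]
  by_cases hpi : p = i
  · subst hpi
    by_cases hqj : q = j
    · subst hqj
      simp [hij, hij.symm]
    · by_cases hqp : p = q
      · subst hqp; simp [hqj, Ne.symm hqj]
      · simp [hqp, hqj, Ne.symm hqj]
  · by_cases hpq : p = q
    · subst hpq; simp [hpi, Ne.symm hpi]
    · simp [hpi, hpq, Ne.symm hpi]

theorem transvection_mem_GL_commutator {i j : ι} (hij : i ≠ j) (a : F) (ha0 : a ≠ 0)
    (ha1 : a ≠ 1) (c : F) :
    SpecialLinearGroup.toGL (SpecialLinearGroup.transvection hij c) ∈ commutator (GL ι F) := by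
  have ha1' : a - 1 ≠ 0 := sub_ne_zero.mpr ha1
  set y := c / (a - 1) with hy
  have hc : c = a * y + (-y) := by rw [hy]; field_simp; ring
  have key := diag_conj_transvection hij a ha0 y
  have h2 : SpecialLinearGroup.toGL (SpecialLinearGroup.transvection hij c)
      = ⁅diagUnit (fun k => if k = i then a else 1) (by intro k; split_ifs <;> simp [ha0]),
        SpecialLinearGroup.toGL (SpecialLinearGroup.transvection hij y)⁆ := by
    rw [commutatorElement_def, key, mul_inv_cancel_right, ← map_inv, ← map_mul,
      SpecialLinearGroup.transvection_inv, ← SpecialLinearGroup.transvection_add, ← hc]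
  rw [h2]
  exact Subgroup.commutator_mem_commutator (Subgroup.mem_top _) (Subgroup.mem_top _)

theorem SL_le_GL_commutator [Fintype F] (h : Fintype.card F ≠ 2 ∨ Fintype.card ι ≠ 2)
    (A : SpecialLinearGroup ι F) :
    SpecialLinearGroup.toGL A ∈ commutator (GL ι F) := by
  by_cases h3 : 3 ≤ Fintype.card ι
  · have h1 : (commutator (SpecialLinearGroup ι F)).map SpecialLinearGroup.toGL
        ≤ commutator (GL ι F) := by
      rw [commutator_def, Subgroup.map_commutator]
      exact Subgroup.commutator_mono le_top le_top
    apply h1
    apply Subgroup.mem_map_of_mem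
    rw [Cfsg.Agent.Lib.Lead.SL_commutator_eq_top h3]
    exact Subgroup.mem_top _
  · by_cases h1 : Fintype.card ι ≤ 1
    · have hss : Subsingleton ι := Fintype.card_le_one_iff_subsingleton.mp h1
      have : A = 1 := by
        apply Subtype.ext
        ext p q
        have hpq : p = q := Subsingleton.elim p q
        subst hpq
        show (A : Matrix ι ι F) p p = (1 : Matrix ι ι F) p p
        rw [one_apply_eq, ← Matrix.det_eq_elem_of_subsingleton (A : Matrix ι ι F) p]
        exact A.2
      rw [this, map_one]
      exact one_mem _
    · have h2 : Fintype.card ι = 2 := by omega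
      have hF : Fintype.card F ≠ 2 := by
        rcases h with h | h
        · exact h
        · exact absurd h2 h
      have : Nontrivial ι := Fintype.one_lt_card_iff_nontrivial.mp (by omega)
      obtain ⟨a, ha0, ha1⟩ : ∃ a : F, a ≠ 0 ∧ a ≠ 1 := by
        classical
        by_contra hcon
        push Not at hcon
        have hsub : (Finset.univ : Finset F) ⊆ {0, 1} := by
          intro x _
          by_cases hx : x = 0
          · simp [hx]
          · simp [hcon x hx]
        have h5 := Finset.card_le_card hsub
        have h6 : ({0, 1} : Finset F).card = 2 := Finset.card_pair zero_ne_one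
        rw [Finset.card_univ] at h5
        have h7 : 2 ≤ Fintype.card F := by
          have := Fintype.one_lt_card (α := F)
          omega
        omega
      refine Cfsg.Agent.Lib.Lead.SL_transvection_induction
        (fun A => SpecialLinearGroup.toGL A ∈ commutator (GL ι F)) ?_ ?_ A
      · intro i j hij c
        exact transvection_mem_GL_commutator hij a ha0 ha1 c
      · intro A B hA hB
        show SpecialLinearGroup.toGL (A * B) ∈ commutator (GL ι F)
        rw [map_mul]
        exact mul_mem hA hB

end Cfsg.Agent.Lib.Helper16
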