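import Mathlib
import Cfsg.Agent.Lib.Helper20.GLO.Defs
import Cfsg.Agent.Lib.Helper20.GLO.DefsP
import Cfsg.Agent.Lib.Helper20.GLOP1
import Cfsg.Agent.Lib.helper23.SPMP01

/-!
# Project GLO (designer helper20), block P, row P10 (helper16), CORE: `glop10_core` = the EXACT conclusion of `pres_target` with the statement
of P4 `words_of_glue` (at the target group `M`) as hypothesis.  Port of Helper22's GLE P10.
-/

set_option autoImplicit false
set_option linter.unusedSectionVars false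
set_option linter.unusedVariables false

namespace Cfsg.Agent.Lib.Helper20.GLO

open Cfsg.Agent.Lib.helper3.STC (ng ab)
open Cfsg.Agent.Lib.helper3.SPM (Pts pe sgm sn sig2 ptsFin pe2 evN)
open Cfsg.Agent.Lib.Helper20.GLE (lamC lamP)
open Cfsg.Agent.Lib.Helper27.STU
open Cfsg.Agent.Lib.helper17.SLP (cm)

universe u v w x v' y

section P

variable {F : Type u} [Field F] [StarRing F] {L : Type x} [Group L] {ι : Type w} [Fintype ι] [DecidableEq ι] {k l : ℕ}
  (S₂ : SysU F True (Fin 2) L) (swL : L)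

/-- P10 core: `hP4` is the statement of P4 `words_of_glue` for the data at hand, at the group `M`. -/
theorem glop10_core {M : Type v'} [Group M] (p : Pts ι) (gL : Fin l → L) (relsN : Set (FreeGroup (Fin k)))
    (eN : PresentedGroup relsN ≃* Equiv.Perm ι)
    (wN : Equiv.Perm ι → FreeGroup (Fin k)) (hwN : ∀ σ, eN (PresentedGroup.mk relsN (wN σ)) = σ)
    (L6 : Finset (FreeGroup (Fin l))) (hLM : ∀ r ∈ L6, evN gL r = 1)
    (wL : L → FreeGroup (Fin l)) (hwL : ∀ m, evN gL (wL m) = m)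
    (c d c' d' : Equiv.Perm ι) {nb : ℕ} (b : Fin nb → L)
    (hP4 : ∀ (s : Fin k → M) (g : Fin l → M) (ν : Equiv.Perm ι →* M) (lam : L →* M),
      (∀ σ, ν σ = evN s (wN σ)) → (∀ m, lam m = evN g (wL m)) → Glue S₂ swL p ν lam →
      ∀ r ∈ wordsGlue S₂ swL p wN wL c d c' d' b, evG s g r = 1)
    (ν₀ : Equiv.Perm ι →* M) (lam₀ : L →* M) (hglue : Glue S₂ swL p ν₀ lam₀) :
    (∀ r ∈ relsN, evG (fun i => ν₀ (eN (PresentedGroup.of i))) (fun i => lam₀ (gL i)) (inN r) = 1) ∧
      (∀ r ∈ L6, evG (fun i => ν₀ (eN (PresentedGroup.of i))) (fun i => lam₀ (gL i)) (inL r) = 1) ∧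
      (∀ r ∈ wordsGlue S₂ swL p wN wL c d c' d' b,
        evG (fun i => ν₀ (eN (PresentedGroup.of i))) (fun i => lam₀ (gL i)) r = 1) ∧
      (∀ σ, ν₀ σ = evN (fun i => ν₀ (eN (PresentedGroup.of i))) (wN σ)) ∧
      ∀ m, lam₀ m = evN (fun i => lam₀ (gL i)) (wL m) := by
  have hevN : ∀ z : FreeGroup (Fin k),
      evN (fun i => ν₀ (eN (PresentedGroup.of i))) z = ν₀ (eN (PresentedGroup.mk relsN z)) := by
    have hh : evN (fun i => ν₀ (eN (PresentedGroup.of i)))
        = (ν₀.comp eN.toMonoidHom).comp (PresentedGroup.mk relsN) := by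
      apply FreeGroup.ext_hom
      intro i
      simp [evN]
      rfl
    exact fun z => DFunLike.congr_fun hh z
  have hevL : ∀ z : FreeGroup (Fin l), evN (fun i => lam₀ (gL i)) z = lam₀ (evN gL z) :=
    fun z => (Cfsg.Agent.Lib.helper3.SPM.evN_map lam₀ gL z).symm
  have h4 : ∀ σ, ν₀ σ = evN (fun i => ν₀ (eN (PresentedGroup.of i))) (wN σ) := by
    intro σ
    rw [hevN, hwN]
  have h5 : ∀ m, lam₀ m = evN (fun i => lam₀ (gL i)) (wL m) := by
    intro m
    rw [hevL, hwL]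
  refine ⟨?_, ?_, ?_, h4, h5⟩
  · intro r hr
    rw [evG_inN, hevN, PresentedGroup.one_of_mem hr, map_one, map_one]
  · intro r hr
    rw [evG_inL, hevL, hLM r hr, map_one]
  · exact hP4 _ _ ν₀ lam₀ h4 h5 hglue

end P

end Cfsg.Agent.Lib.Helper20.GLO
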