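import Mathlib
import Cfsg.Agent.Lib.Helper16.GLOP10core
import Cfsg.Agent.Lib.helper15.GLOP4

/-!
# Project GLO (designer helper20), block P, row P10 (helper16), VERBATIM: `pres_target` (wrapper of `glop10_core` on P4 `words_of_glue`).
-/

set_option autoImplicit false
set_option linter.unusedSectionVars false
set_option linter.unusedVariables false

namespace Cfsg.Agent.Lib.Helper20.GLO

open Cfsg.Agent.Lib.helper3.STC (ng ab)
open Cfsg.Agent.Lib.helper3.SPM (Pts pe sgm sn sig2 ptsFin pe2 evN)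
open Cfsg.Agent.Lib.Helper20.GLE (lamC lamP)
open Cfsg.Agent.Lib.Helper27.STU
open Cfsg.Agent.Lib.helper17.SLP (cm)

universe u v w x v' y

section P

variable {F : Type u} [Field F] [StarRing F] {L : Type x} [Group L] {ι : Type w} [Fintype ι] [DecidableEq ι] {k l : ℕ}
  (S₂ : SysU F True (Fin 2) L) (swL : L)

/-- P10 [M], verbatim. -/
theorem pres_target {M : Type v'} [Group M] (p : Pts ι) (gL : Fin l → L) (relsN : Set (FreeGroup (Fin k)))
    (eN : PresentedGroup relsN ≃* Equiv.Perm ι)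
    (wN : Equiv.Perm ι → FreeGroup (Fin k)) (hwN : ∀ σ, eN (PresentedGroup.mk relsN (wN σ)) = σ)
    (L6 : Finset (FreeGroup (Fin l))) (hLM : ∀ r ∈ L6, evN gL r = 1)
    (wL : L → FreeGroup (Fin l)) (hwL : ∀ m, evN gL (wL m) = m)
    (c d c' d' : Equiv.Perm ι) {nb : ℕ} (b : Fin nb → L)
    (hc : c p.o1 = p.o1) (hd : d p.o1 = p.o1) (hc' : c' p.o0 = p.o0 ∧ c' p.o1 = p.o1) (hd' : d' p.o0 = p.o0 ∧ d' p.o1 = p.o1)
    (hb : ∀ i, b i ∈ B1 S₂)
    (ν₀ : Equiv.Perm ι →* M) (lam₀ : L →* M) (hglue : Glue S₂ swL p ν₀ lam₀) :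
    (∀ r ∈ relsN, evG (fun i => ν₀ (eN (PresentedGroup.of i))) (fun i => lam₀ (gL i)) (inN r) = 1) ∧
      (∀ r ∈ L6, evG (fun i => ν₀ (eN (PresentedGroup.of i))) (fun i => lam₀ (gL i)) (inL r) = 1) ∧
      (∀ r ∈ wordsGlue S₂ swL p wN wL c d c' d' b,
        evG (fun i => ν₀ (eN (PresentedGroup.of i))) (fun i => lam₀ (gL i)) r = 1) ∧
      (∀ σ, ν₀ σ = evN (fun i => ν₀ (eN (PresentedGroup.of i))) (wN σ)) ∧
      ∀ m, lam₀ m = evN (fun i => lam₀ (gL i)) (wL m) :=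
  glop10_core S₂ swL p gL relsN eN wN hwN L6 hLM wL hwL c d c' d' b
    (fun s g ν lam hν hlam H => words_of_glue S₂ swL p wN wL c d c' d' b hc hd hc' hd' hb s g ν lam hν hlam H)
    ν₀ lam₀ hglue

end P

end Cfsg.Agent.Lib.Helper20.GLO
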