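import Mathlib
import Cfsg.Agent.Lib.Helper20.GLO.Defs
import Cfsg.Agent.Lib.Helper24.STCI1
import Cfsg.Agent.Lib.Helper25.GLOI2
import Cfsg.Agent.Lib.Helper25.GLOI3

/-!
# Project GLO (designer helper20), row Y5 (helper16), CORE: `gloy5_core` = the EXACT conclusion of `sysU_of_glue` with the statements of
Y1 `xrs_comm`, Y2 `xr_comm_ls`, C5 `p1_gen`, Y4 `xrl_r1` as hypotheses (I2 I3 I4 I8 of `Helper25.GLOI2 / GLOI3` are cited).
Port of helper6's `gley5_core`.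
-/

set_option autoImplicit false
set_option linter.unusedSectionVars false
set_option linter.unusedVariables false

namespace Cfsg.Agent.Lib.Helper20.GLO

open Cfsg.Agent.Lib.helper3.STC (ng ab)
open Cfsg.Agent.Lib.helper3.SPM (Pts pe sgm sn sig2 ptsFin pe2)
open Cfsg.Agent.Lib.Helper27.STU
open Cfsg.Agent.Lib.helper17.SLP (cm)
open Cfsg.Agent.Lib.Helper20.GLE (lamC lamP)

universe u v w x v' y

section main
variable {F : Type u} [Field F] [StarRing F] {L : Type x} [Group L] {ι : Type w} [Fintype ι] [DecidableEq ι] {G : Type v} [Group G]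
  (S₂ : SysU F True (Fin 2) L) (swL : L) (p : Pts ι) (ν : Equiv.Perm ι →* G) (lam : L →* G)

theorem gloy5_ab_of_ne {a b : ι ⊕ ι} (h : a ≠ b) (h' : a ≠ ng b) : ab a ≠ ab b := by
  intro e
  rcases Cfsg.Agent.Lib.helper3.STC.ab_eq_iff.1 e with e | e
  · exact h e
  · exact h' e

/-- Y5 core: the hypotheses are the conclusions of Y1, Y2, C5, Y4 for the given data. -/
theorem gloy5_core (H : Glue S₂ swL p ν lam) (hU : UFacts S₂ swL)
    (hcomm : ∀ {a b c d : ι ⊕ ι} (_ : ab a ≠ ab b) (_ : ab c ≠ ab d) (_ : b ≠ c) (_ : a ≠ d) (_ : b ≠ ng d) (_ : a ≠ ng c) (t u : F),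
      xrs S₂ p ν lam a b t * xrs S₂ p ν lam c d u = xrs S₂ p ν lam c d u * xrs S₂ p ν lam a b t)
    (hcommls : ∀ {a c d : ι ⊕ ι} (_ : ab c ≠ ab d) (_ : c ≠ ng a) (_ : d ≠ a) (ξ : Lam F True) (u : F),
      xrl S₂ p ν lam a ξ * xrs S₂ p ν lam c d u = xrs S₂ p ν lam c d u * xrl S₂ p ν lam a ξ)
    (hp1 : ∀ {a b c : ι ⊕ ι}, ab a ≠ ab b → ab b ≠ ab c → ab a ≠ ab c → P1 S₂ p ν lam a b c)
    (hr1 : ∀ a : ι ⊕ ι, ∃ ρ : ↥(SUm F True) →* G,
      ∀ ξ, ρ (XpU ξ) = xrl S₂ p ν lam a ξ ∧ ρ (XmU ξ) = xrl S₂ p ν lam (ng a) ξ) :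
    ∃ S : SysU F True ι G, (∀ a b t, S.xs a b t = xrs S₂ p ν lam a b t) ∧ ∀ a ξ, S.xl a ξ = xrl S₂ p ν lam a ξ :=
  ⟨{ xs := xrs S₂ p ν lam
     xl := xrl S₂ p ν lam
     sym := fun a b hab hab' t => xrs_sym S₂ swL p ν lam H hU (gloy5_ab_of_ne hab hab') t
     adds := fun a b _ _ t u => xrs_add S₂ p ν lam a b t u
     addl := fun a ξ η => xrl_mul S₂ p ν lam a ξ η
     comm_ss := fun a b c d hab hab' hcd hcd' hbc had hbd hac t u =>
       hcomm (gloy5_ab_of_ne hab hab') (gloy5_ab_of_ne hcd hcd') hbc had hbd hac t u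
     comm_ls := fun a c d hcd hcd' hca hda ξ u => hcommls (gloy5_ab_of_ne hcd hcd') hca hda ξ u
     comm3 := fun a b c hab hab' hbc hbc' hac hac' t u =>
       hp1 (gloy5_ab_of_ne hab hab') (gloy5_ab_of_ne hbc hbc') (gloy5_ab_of_ne hac hac') t u
     ssl := fun a b hab hab' t u => xrs_ssl S₂ swL p ν lam H hU (gloy5_ab_of_ne hab hab') t u
     ls := fun a b hab hab' ξ u => xr_ls S₂ swL p ν lam H hU (gloy5_ab_of_ne hab hab') ξ u
     hh := fun a b hab hab' ξ η => xrl_hh S₂ swL p ν lam H hU (gloy5_ab_of_ne hab hab') ξ η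
     rel := fun a b hab hab' t u ht => xrs_rel S₂ swL p ν lam H hU (gloy5_ab_of_ne hab hab') t u ht
     r1 := hr1 },
   fun _ _ _ => rfl, fun _ _ => rfl⟩

end main

end Cfsg.Agent.Lib.Helper20.GLO
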