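import Mathlib
import Cfsg.Agent.Lib.Helper16.GLOY5core
import Cfsg.Agent.Lib.Helper21.GLOY1
import Cfsg.Agent.Lib.helper6.GLOY2
import Cfsg.Agent.Lib.Helper11.GLOC2
import Cfsg.Agent.Lib.helper6.GLOY4

/-!
# Project GLO (designer helper20), row Y5 (helper16), VERBATIM: `sysU_of_glue` (wrapper of `gloy5_core` on Y1 Y2 C5 Y4).
-/

set_option autoImplicit false
set_option linter.unusedSectionVars false
set_option linter.unusedVariables false

namespace Cfsg.Agent.Lib.Helper20.GLO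

open Cfsg.Agent.Lib.helper3.STC (ng ab)
open Cfsg.Agent.Lib.helper3.SPM (Pts pe sgm sn sig2 ptsFin pe2)
open Cfsg.Agent.Lib.Helper27.STU
open Cfsg.Agent.Lib.helper17.SLP (cm)
open Cfsg.Agent.Lib.Helper20.GLE (lamC lamP)

universe u v w x v' y

section main
variable {F : Type u} [Field F] [StarRing F] {L : Type x} [Group L] {ι : Type w} [Fintype ι] [DecidableEq ι] {G : Type v} [Group G]
  (S₂ : SysU F True (Fin 2) L) (swL : L) (p : Pts ι) (ν : Equiv.Perm ι →* G) (lam : L →* G)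

/-- Y5 [M], verbatim. -/
theorem sysU_of_glue (hF : Hyp F) (H : Glue S₂ swL p ν lam) (hU : UFacts S₂ swL) :
    ∃ S : SysU F True ι G, (∀ a b t, S.xs a b t = xrs S₂ p ν lam a b t) ∧ ∀ a ξ, S.xl a ξ = xrl S₂ p ν lam a ξ :=
  gloy5_core S₂ swL p ν lam H hU
    (fun hab hcd hbc had hbd hac t u => xrs_comm S₂ swL p ν lam hF H hU hab hcd hbc had hbd hac t u)
    (fun hcd hca hda ξ u => xr_comm_ls S₂ swL p ν lam hF H hU hcd hca hda ξ u)
    (fun hab hbc hac => p1_gen S₂ swL p ν lam hF H hU hab hbc hac)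
    (fun a => xrl_r1 S₂ p ν lam a)

end main

end Cfsg.Agent.Lib.Helper20.GLO
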