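import Mathlib
import Cfsg.Prelude.Def_LieTypeDatum
import Cfsg.Agent.Lib.Helper16.PG15

set_option autoImplicit false
set_option linter.unusedSectionVars false

namespace Cfsg.Agent.Lib.Helper16.PG

open Matrix Module Cfsg.Agent.Lib.Helper16.SpSemi

universe u

section
variable {F : Type u} [Field F]

/-- Lemma I: matching a subgroup of the symplectic group with a subgroup of `GL` by a change of basis. -/
theorem subgroup_equiv_of_conj {a : Type} [Fintype a] [DecidableEq a] {m : ℕ}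
    (P : Matrix (Fin m ⊕ Fin m) a F) (Pi : Matrix a (Fin m ⊕ Fin m) F) (h1 : P * Pi = 1) (h2 : Pi * P = 1)
    (X : Subgroup ↥(Matrix.symplecticGroup (Fin m) F)) (S : Subgroup (GL a F))
    (hXS : ∀ A : ↥(Matrix.symplecticGroup (Fin m) F), A ∈ X →
      ∃ s ∈ S, (s : Matrix a a F) = Pi * (A : Matrix (Fin m ⊕ Fin m) (Fin m ⊕ Fin m) F) * P)
    (hSX : ∀ s ∈ S, ∃ A ∈ X, (A : Matrix (Fin m ⊕ Fin m) (Fin m ⊕ Fin m) F) = P * (s : Matrix a a F) * Pi) :
    Nonempty (↥S ≃* ↥X) := by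
  choose f hfX hf using hSX
  let φ : ↥S →* ↥X :=
    { toFun := fun s => ⟨f s.1 s.2, hfX s.1 s.2⟩
      map_one' := by
        apply Subtype.ext
        apply Subtype.ext
        show (f (1 : ↥S).1 (1 : ↥S).2 : Matrix (Fin m ⊕ Fin m) (Fin m ⊕ Fin m) F) = 1
        rw [hf]
        show P * ((1 : GL a F) : Matrix a a F) * Pi = 1
        rw [Units.val_one, Matrix.mul_one, h1]
      map_mul' := by
        intro s s'
        apply Subtype.ext
        apply Subtype.ext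
        show (f (s * s').1 (s * s').2 : Matrix (Fin m ⊕ Fin m) (Fin m ⊕ Fin m) F) =
          (f s.1 s.2 : Matrix (Fin m ⊕ Fin m) (Fin m ⊕ Fin m) F) * (f s'.1 s'.2 : Matrix (Fin m ⊕ Fin m) (Fin m ⊕ Fin m) F)
        rw [hf, hf, hf]
        show P * (((s : GL a F) * (s' : GL a F) : GL a F) : Matrix a a F) * Pi = _
        rw [Units.val_mul]
        calc P * (((s : GL a F) : Matrix a a F) * ((s' : GL a F) : Matrix a a F)) * Pi
            = P * (((s : GL a F) : Matrix a a F) * (Pi * P) * ((s' : GL a F) : Matrix a a F)) * Pi := by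
              rw [h2, Matrix.mul_one]
          _ = _ := by simp only [Matrix.mul_assoc] }
  have hφ : ∀ s : ↥S, ((φ s : ↥(Matrix.symplecticGroup (Fin m) F)) : Matrix (Fin m ⊕ Fin m) (Fin m ⊕ Fin m) F) =
      P * ((s : GL a F) : Matrix a a F) * Pi := fun s => hf s.1 s.2
  have hback : ∀ s : GL a F, Pi * (P * (s : Matrix a a F) * Pi) * P = (s : Matrix a a F) := by
    intro s
    calc Pi * (P * (s : Matrix a a F) * Pi) * P = (Pi * P) * (s : Matrix a a F) * (Pi * P) := by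
          simp only [Matrix.mul_assoc]
      _ = s := by rw [h2, Matrix.one_mul, Matrix.mul_one]
  refine ⟨MulEquiv.ofBijective φ ⟨?_, ?_⟩⟩
  · intro s s' hss
    apply Subtype.ext
    apply Units.ext
    have h3 : ((φ s : ↥(Matrix.symplecticGroup (Fin m) F)) : Matrix (Fin m ⊕ Fin m) (Fin m ⊕ Fin m) F) =
        ((φ s' : ↥(Matrix.symplecticGroup (Fin m) F)) : Matrix (Fin m ⊕ Fin m) (Fin m ⊕ Fin m) F) := by rw [hss]
    rw [hφ, hφ] at h3
    rw [← hback s.1, ← hback s'.1, h3]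
  · intro A
    obtain ⟨s, hs, hsA⟩ := hXS A.1 A.2
    refine ⟨⟨s, hs⟩, ?_⟩
    apply Subtype.ext
    apply Subtype.ext
    rw [hφ]
    show P * (s : Matrix a a F) * Pi = _
    rw [hsA]
    calc P * (Pi * (A.1 : Matrix (Fin m ⊕ Fin m) (Fin m ⊕ Fin m) F) * P) * Pi
        = (P * Pi) * (A.1 : Matrix (Fin m ⊕ Fin m) (Fin m ⊕ Fin m) F) * (P * Pi) := by
          simp only [Matrix.mul_assoc]
      _ = _ := by rw [h1, Matrix.one_mul, Matrix.mul_one]

/-- Mathlib's symplectic group is the isometry group of `sympForm`. -/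
theorem sp_equiv_isoG (m : ℕ) :
    Nonempty (↥(isoG (Cfsg.sympForm m F)) ≃* ↥(Matrix.symplecticGroup (Fin m) F)) := by
  obtain ⟨e⟩ := subgroup_equiv_of_conj (1 : Matrix (Fin m ⊕ Fin m) (Fin m ⊕ Fin m) F) 1 (Matrix.one_mul 1)
    (Matrix.one_mul 1) (⊤ : Subgroup ↥(Matrix.symplecticGroup (Fin m) F)) (isoG (Cfsg.sympForm m F))
    (by
      intro A _
      have hA : (A : Matrix (Fin m ⊕ Fin m) (Fin m ⊕ Fin m) F)ᵀ * Matrix.J (Fin m) F *
          (A : Matrix (Fin m ⊕ Fin m) (Fin m ⊕ Fin m) F) = Matrix.J (Fin m) F := SymplecticGroup.mem_iff'.mp A.2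
      have hAi : (A : Matrix (Fin m ⊕ Fin m) (Fin m ⊕ Fin m) F) * ((A⁻¹ : ↥(Matrix.symplecticGroup (Fin m) F)) :
          Matrix (Fin m ⊕ Fin m) (Fin m ⊕ Fin m) F) = 1 := by
        have := congrArg Subtype.val (mul_inv_cancel A)
        exact this
      have hiA : ((A⁻¹ : ↥(Matrix.symplecticGroup (Fin m) F)) :
          Matrix (Fin m ⊕ Fin m) (Fin m ⊕ Fin m) F) * (A : Matrix (Fin m ⊕ Fin m) (Fin m ⊕ Fin m) F) = 1 := by
        have := congrArg Subtype.val (inv_mul_cancel A)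
        exact this
      refine ⟨⟨A.1, (A⁻¹).1, hAi, hiA⟩, ?_, ?_⟩
      · rw [mem_isoG_iff]
        intro u v
        show Cfsg.sympForm m F ((A : Matrix (Fin m ⊕ Fin m) (Fin m ⊕ Fin m) F) *ᵥ u)
          ((A : Matrix (Fin m ⊕ Fin m) (Fin m ⊕ Fin m) F) *ᵥ v) = Cfsg.sympForm m F u v
        unfold Cfsg.sympForm
        rw [← bilin_congr, hA]
      · show (A : Matrix (Fin m ⊕ Fin m) (Fin m ⊕ Fin m) F) = 1 * (A : Matrix (Fin m ⊕ Fin m) (Fin m ⊕ Fin m) F) * 1
        rw [Matrix.one_mul, Matrix.mul_one])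
    (by
      intro s hs
      have hmem : (s : Matrix (Fin m ⊕ Fin m) (Fin m ⊕ Fin m) F) ∈ Matrix.symplecticGroup (Fin m) F := by
        rw [SymplecticGroup.mem_iff']
        apply mat_ext_bilin
        intro x y
        rw [bilin_congr]
        exact hs x y
      refine ⟨⟨s.1, hmem⟩, Subgroup.mem_top _, ?_⟩
      show (s : Matrix (Fin m ⊕ Fin m) (Fin m ⊕ Fin m) F) = 1 * (s : Matrix (Fin m ⊕ Fin m) (Fin m ⊕ Fin m) F) * 1
      rw [Matrix.one_mul, Matrix.mul_one])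
  exact ⟨e.trans Subgroup.topEquiv⟩

end

end Cfsg.Agent.Lib.Helper16.PG
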