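import Mathlib
import Cfsg.Prelude.Def_LieTypeDatum
import Cfsg.Agent.Lib.Helper16.PG16
import Cfsg.Agent.Lib.Helper16.Symplectic

set_option autoImplicit false
set_option linter.unusedSectionVars false

namespace Cfsg.Agent.Lib.Helper16.PG

open Matrix Module Cfsg.Agent.Lib.Helper16.SpSemi

universe u

section
variable {F : Type u} [Field F] {n : ℕ}

/-- the all-ones vector. -/
def onesV (n : ℕ) (F : Type u) [Field F] : Fin n → F := fun _ => 1

/-- `1 + J` with `J` the all-ones matrix. -/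
def Emat (n : ℕ) (F : Type u) [Field F] : Matrix (Fin n) (Fin n) F := 1 + Matrix.of (fun _ _ => (1 : F))

theorem Emat_mulVec (v : Fin n → F) : Emat n F *ᵥ v = v + (∑ i, v i) • onesV n F := by
  unfold Emat
  rw [Matrix.add_mulVec, Matrix.one_mulVec]
  congr 1
  funext i
  simp [Matrix.mulVec, dotProduct, onesV]

theorem bilM_one (u v : Fin n → F) : bilM (1 : Matrix (Fin n) (Fin n) F) u v = u ⬝ᵥ v := by
  unfold bilM; rw [Matrix.one_mulVec]

theorem dot_ones (u : Fin n → F) : u ⬝ᵥ onesV n F = ∑ i, u i := by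
  simp [dotProduct, onesV]

theorem ones_dot (u : Fin n → F) : onesV n F ⬝ᵥ u = ∑ i, u i := by
  simp [dotProduct, onesV]

theorem bilM_Emat (u v : Fin n → F) :
    bilM (Emat n F) u v = u ⬝ᵥ v + (∑ i, u i) * (∑ i, v i) := by
  unfold bilM
  rw [Emat_mulVec, dotProduct_add, dotProduct_smul, dot_ones, smul_eq_mul, mul_comm]

theorem dot_self_char2 [CharP F 2] (v : Fin n → F) : v ⬝ᵥ v = (∑ i, v i) * (∑ i, v i) := by
  rw [CharTwo.sum_mul_self]
  rfl

theorem bilM_Emat_alt [CharP F 2] (v : Fin n → F) : bilM (Emat n F) v v = 0 := by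
  rw [bilM_Emat, dot_self_char2]
  exact CharTwo.add_self_eq_zero _

theorem sum_ones : ∑ i, onesV n F i = (n : F) := by
  simp [onesV]

theorem Emat_Emat_mulVec [CharP F 2] (heven : Even n) (v : Fin n → F) :
    Emat n F *ᵥ (Emat n F *ᵥ v) = v := by
  have hn0 : (n : F) = 0 := by
    obtain ⟨k, rfl⟩ := heven
    rw [Nat.cast_add]
    exact CharTwo.add_self_eq_zero _
  rw [Emat_mulVec (Emat n F *ᵥ v), Emat_mulVec v]
  have h1 : ∑ i, (v + (∑ i, v i) • onesV n F) i = ∑ i, v i := by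
    simp only [Pi.add_apply, Pi.smul_apply, Finset.sum_add_distrib, smul_eq_mul, ← Finset.mul_sum, sum_ones, hn0,
      mul_zero, add_zero]
  rw [h1, add_assoc, ← add_smul, CharTwo.add_self_eq_zero, zero_smul, add_zero]

theorem Emat_sq [CharP F 2] (heven : Even n) : Emat n F * Emat n F = 1 := by
  apply Matrix.toLin'.injective
  apply LinearMap.ext
  intro v
  rw [Matrix.toLin'_mul, LinearMap.comp_apply, Matrix.toLin'_apply, Matrix.toLin'_apply, Emat_Emat_mulVec heven,
    Matrix.toLin'_one, LinearMap.id_apply]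

theorem Emat_transpose : (Emat n F)ᵀ = Emat n F := by
  unfold Emat
  rw [Matrix.transpose_add, Matrix.transpose_one]
  congr 1

theorem sq_inj_char2 [CharP F 2] (a b : F) (h : a * a = b * b) : a = b := by
  have h1 : (a + b) * (a + b) = 0 := by
    have : (a + b) * (a + b) = a * a + b * b + 2 * (a * b) := by ring
    rw [this, h, CharTwo.two_eq_zero, zero_mul, add_zero]
    exact CharTwo.add_self_eq_zero _
  have h2 : a + b = 0 := mul_self_eq_zero.mp h1
  have h3 : a = -b := eq_neg_of_add_eq_zero_left h2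
  rw [h3, CharTwo.neg_eq]

/-- an isometry of the dot product preserves the coordinate sum. -/
theorem sum_mulVec_of_dot_iso [CharP F 2] (s : Matrix (Fin n) (Fin n) F)
    (hs : ∀ u v, (s *ᵥ u) ⬝ᵥ (s *ᵥ v) = u ⬝ᵥ v) (v : Fin n → F) : ∑ i, (s *ᵥ v) i = ∑ i, v i := by
  apply sq_inj_char2
  rw [← dot_self_char2, ← dot_self_char2, hs]

/-- an invertible isometry of the dot product fixes the all-ones vector. -/
theorem mulVec_ones_of_dot_iso [CharP F 2] (s si : Matrix (Fin n) (Fin n) F) (h1 : s * si = 1) (h2 : si * s = 1)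
    (hs : ∀ u v, (s *ᵥ u) ⬝ᵥ (s *ᵥ v) = u ⬝ᵥ v) : s *ᵥ onesV n F = onesV n F := by
  have hsi : ∀ u v, (si *ᵥ u) ⬝ᵥ (si *ᵥ v) = u ⬝ᵥ v := by
    intro u v
    have := hs (si *ᵥ u) (si *ᵥ v)
    rw [Matrix.mulVec_mulVec, Matrix.mulVec_mulVec, h1, Matrix.one_mulVec, Matrix.one_mulVec] at this
    exact this.symm
  have h3 : ∀ v, (si *ᵥ onesV n F) ⬝ᵥ v = onesV n F ⬝ᵥ v := by
    intro v
    have := hs (si *ᵥ onesV n F) v
    rw [Matrix.mulVec_mulVec, h1, Matrix.one_mulVec, ones_dot, sum_mulVec_of_dot_iso s hs, ← ones_dot] at this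
    exact this.symm
  have h4 : si *ᵥ onesV n F = onesV n F := by
    funext j
    have := h3 (Pi.single j 1)
    simpa using this
  have h5 := congrArg (fun w => s *ᵥ w) h4
  simp only [Matrix.mulVec_mulVec, h1, Matrix.one_mulVec] at h5
  exact h5.symm

/-- dot-product isometries are the `E`-isometries commuting with `E`. -/
theorem dot_iso_iff [CharP F 2] (heven : Even n) (s si : Matrix (Fin n) (Fin n) F) (h1 : s * si = 1) (h2 : si * s = 1) :
    (∀ u v, (s *ᵥ u) ⬝ᵥ (s *ᵥ v) = u ⬝ᵥ v) ↔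
      (∀ u v, bilM (Emat n F) (s *ᵥ u) (s *ᵥ v) = bilM (Emat n F) u v) ∧ s * Emat n F = Emat n F * s := by
  constructor
  · intro hs
    have hsum := sum_mulVec_of_dot_iso s hs
    have hones := mulVec_ones_of_dot_iso s si h1 h2 hs
    refine ⟨?_, ?_⟩
    · intro u v
      rw [bilM_Emat, bilM_Emat, hs, hsum, hsum]
    · apply Matrix.toLin'.injective
      apply LinearMap.ext
      intro v
      rw [Matrix.toLin'_mul, Matrix.toLin'_mul, LinearMap.comp_apply, LinearMap.comp_apply, Matrix.toLin'_apply,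
        Matrix.toLin'_apply, Matrix.toLin'_apply, Matrix.toLin'_apply, Emat_mulVec, Emat_mulVec, Matrix.mulVec_add,
        Matrix.mulVec_smul, hones, hsum]
  · rintro ⟨hE, hcomm⟩ u v
    have h3 : ∀ x y : Fin n → F, x ⬝ᵥ y = bilM (Emat n F) x (Emat n F *ᵥ y) := by
      intro x y
      unfold bilM
      rw [Emat_Emat_mulVec heven]
    rw [h3, h3 u v]
    have h4 : Emat n F *ᵥ (s *ᵥ v) = s *ᵥ (Emat n F *ᵥ v) := by
      rw [Matrix.mulVec_mulVec, Matrix.mulVec_mulVec, hcomm]
    rw [h4, hE]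

end

end Cfsg.Agent.Lib.Helper16.PG
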