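import Mathlib
import Cfsg.Prelude.Def_LieTypeDatum
import Cfsg.Agent.Lib.Helper16.PG17

set_option autoImplicit false
set_option linter.unusedSectionVars false
set_option linter.unusedVariables false

namespace Cfsg.Agent.Lib.Helper16.PG

open Matrix Module Cfsg.Agent.Lib.Helper16.SpSemi

universe u

section
variable {F : Type u} [Field F] {n : ℕ}

theorem sp_pres {m : ℕ} (A : Matrix (Fin m ⊕ Fin m) (Fin m ⊕ Fin m) F)
    (hA : A ∈ Matrix.symplecticGroup (Fin m) F) (x y : Fin m ⊕ Fin m → F) :
    bilM (Matrix.J (Fin m) F) (A *ᵥ x) (A *ᵥ y) = bilM (Matrix.J (Fin m) F) x y := by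
  unfold bilM
  rw [← bilin_congr, SymplecticGroup.mem_iff'.mp hA]

theorem sp_of_pres {m : ℕ} (A : Matrix (Fin m ⊕ Fin m) (Fin m ⊕ Fin m) F)
    (h : ∀ x y, bilM (Matrix.J (Fin m) F) (A *ᵥ x) (A *ᵥ y) = bilM (Matrix.J (Fin m) F) x y) :
    A ∈ Matrix.symplecticGroup (Fin m) F := by
  rw [SymplecticGroup.mem_iff']
  apply mat_ext_bilin
  intro x y
  rw [bilin_congr]
  exact h x y

theorem add_self_matrix [CharP F 2] {ι : Type} (M : Matrix ι ι F) : M + M = 0 := by
  ext i j
  exact CharTwo.add_self_eq_zero _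

/-- the orthogonal group of the dot product in even dimension and characteristic two is the
centraliser of a transvection in the symplectic group. -/
theorem dot_iso_equiv_cent [CharP F 2] {m : ℕ} (hm : 1 ≤ m) (hnm : n = 2 * m) :
    ∃ t : ↥(Matrix.symplecticGroup (Fin m) F),
      Cfsg.IsTransvection (t : Matrix (Fin m ⊕ Fin m) (Fin m ⊕ Fin m) F) ∧
      Nonempty (↥(isoG (bilM (1 : Matrix (Fin n) (Fin n) F))) ≃*
        ↥(Subgroup.centralizer ({t} : Set ↥(Matrix.symplecticGroup (Fin m) F)))) := by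
  have heven : Even n := ⟨m, by omega⟩
  have hEE := Emat_sq (F := F) heven
  set E := Emat n F with hE
  set ω : LinearMap.BilinForm F (Fin n → F) := Matrix.toBilin' E with hω
  have hωapp : ∀ u v, ω u v = bilM E u v := by
    intro u v
    rw [hω, Matrix.toBilin'_apply']
    rfl
  have hωalt : ω.IsAlt := by
    intro v
    rw [hωapp]; exact bilM_Emat_alt v
  have hleft : ∀ u, (∀ v, ω u v = 0) → u = 0 := by
    intro u hu
    have h3 : Matrix.vecMul u E = 0 := by
      funext j
      have := hu (Pi.single j 1)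
      rw [hωapp] at this
      unfold bilM at this
      rw [Matrix.dotProduct_mulVec] at this
      simpa using this
    have h4 : Matrix.vecMul (Matrix.vecMul u E) E = 0 := by
      rw [h3, Matrix.zero_vecMul]
    rw [Matrix.vecMul_vecMul, hEE, Matrix.vecMul_one] at h4
    exact h4
  have hωnd : ω.Nondegenerate := by
    refine ⟨hleft, ?_⟩
    intro v hv
    apply hleft
    intro u
    rw [← hωalt.neg_eq, hv u, neg_zero]
  have hV : finrank F (Fin n → F) = 2 * m := by
    rw [Module.finrank_pi, Fintype.card_fin, hnm]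
  obtain ⟨b, hb⟩ := symplectic_basis hV ω hωalt hωnd
  set L : (Fin n → F) ≃ₗ[F] (Fin m ⊕ Fin m → F) := b.equivFun with hL
  have hform : ∀ u v, bilM E u v = bilM (Matrix.J (Fin m) F) (L u) (L v) := by
    intro u v
    rw [← hωapp, LinearMap.BilinForm.apply_eq_dotProduct_toMatrix_mulVec b ω u v, hb]
    rfl
  set P : Matrix (Fin m ⊕ Fin m) (Fin n) F := LinearMap.toMatrix' L.toLinearMap with hP
  set Pinv : Matrix (Fin n) (Fin m ⊕ Fin m) F := LinearMap.toMatrix' L.symm.toLinearMap with hPinv
  have h1 : P * Pinv = 1 := by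
    rw [hP, hPinv, ← LinearMap.toMatrix'_comp, LinearEquiv.comp_coe, LinearEquiv.symm_trans_self,
      LinearEquiv.refl_toLinearMap, LinearMap.toMatrix'_id]
  have h2 : Pinv * P = 1 := by
    rw [hP, hPinv, ← LinearMap.toMatrix'_comp, LinearEquiv.comp_coe, LinearEquiv.self_trans_symm,
      LinearEquiv.refl_toLinearMap, LinearMap.toMatrix'_id]
  have hPv : ∀ v, P *ᵥ v = L v := by
    intro v
    rw [hP, LinearMap.toMatrix'_mulVec]
    rfl
  have hPvinv : ∀ v, Pinv *ᵥ v = L.symm v := by
    intro v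
    rw [hPinv, LinearMap.toMatrix'_mulVec]
    rfl
  -- conjugates act through `L`
  have hconj : ∀ (s : Matrix (Fin n) (Fin n) F) (x : Fin m ⊕ Fin m → F),
      (P * s * Pinv) *ᵥ x = L (s *ᵥ (L.symm x)) := by
    intro s x
    rw [← Matrix.mulVec_mulVec, ← Matrix.mulVec_mulVec, hPvinv, hPv]
  have hformJ : ∀ x y, bilM (Matrix.J (Fin m) F) x y = bilM E (L.symm x) (L.symm y) := by
    intro x y
    rw [hform, LinearEquiv.apply_symm_apply, LinearEquiv.apply_symm_apply]
  -- `E` is an isometry of the dot product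
  have hEdot : ∀ u v : Fin n → F, (E *ᵥ u) ⬝ᵥ (E *ᵥ v) = u ⬝ᵥ v := by
    intro u v
    have := bilin_congr E (1 : Matrix (Fin n) (Fin n) F) u v
    rw [Emat_transpose, Matrix.mul_one, hEE, Matrix.one_mulVec, Matrix.one_mulVec] at this
    exact this.symm
  have hEiso := (dot_iso_iff heven E E hEE hEE).mp hEdot
  -- the transvection
  set tM : Matrix (Fin m ⊕ Fin m) (Fin m ⊕ Fin m) F := P * E * Pinv with htM
  have htmem : tM ∈ Matrix.symplecticGroup (Fin m) F := by
    apply sp_of_pres
    intro x y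
    rw [htM, hconj, hconj, ← hform, hEiso.1, ← hformJ]
  have htt : tM * tM = 1 := by
    rw [htM]
    calc P * E * Pinv * (P * E * Pinv) = P * (E * (Pinv * P) * E) * Pinv := by simp only [Matrix.mul_assoc]
      _ = 1 := by rw [h2, Matrix.mul_one, hEE, Matrix.mul_one, h1]
  refine ⟨⟨tM, htmem⟩, ⟨?_, ?_⟩, ?_⟩
  · -- rank one
    show (tM - 1).rank = 1
    set w : Fin m ⊕ Fin m → F := L (onesV n F) with hw
    have hw0 : w ≠ 0 := by
      intro h0
      have h3 : onesV n F = 0 := by
        have := congrArg L.symm h0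
        rw [hw, LinearEquiv.symm_apply_apply, map_zero] at this
        exact this
      have h4 := congrFun h3 ⟨0, by omega⟩
      simp [onesV] at h4
    have hact : ∀ x, (tM - 1) *ᵥ x = (∑ i, (L.symm x) i) • w := by
      intro x
      rw [Matrix.sub_mulVec, Matrix.one_mulVec, htM, hconj, Emat_mulVec, map_add, LinearEquiv.apply_symm_apply,
        map_smul, add_sub_cancel_left]
    have hrange : LinearMap.range (tM - 1).mulVecLin = Submodule.span F {w} := by
      ext y
      rw [LinearMap.mem_range, Submodule.mem_span_singleton]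
      constructor
      · rintro ⟨x, rfl⟩
        exact ⟨∑ i, (L.symm x) i, by rw [Matrix.mulVecLin_apply, hact]⟩
      · rintro ⟨c, rfl⟩
        refine ⟨c • L (Pi.single ⟨0, by omega⟩ 1), ?_⟩
        rw [Matrix.mulVecLin_apply, Matrix.mulVec_smul, hact, LinearEquiv.symm_apply_apply]
        congr 1
        rw [Finset.sum_eq_single (⟨0, by omega⟩ : Fin n)]
        · simp
        · intro j _ hj
          simp [Pi.single_apply, hj]
        · intro h; exact absurd (Finset.mem_univ _) h
    rw [Matrix.rank, hrange, finrank_span_singleton hw0]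
  · show (tM - 1) * (tM - 1) = 0
    have : (tM - 1) * (tM - 1) = (tM * tM + 1) - (tM + tM) := by noncomm_ring
    rw [this, htt, add_self_matrix, add_self_matrix, sub_zero]
  · -- the isomorphism
    apply subgroup_equiv_of_conj P Pinv h1 h2
    · intro A hA
      have hAi : (A : Matrix (Fin m ⊕ Fin m) (Fin m ⊕ Fin m) F) * ((A⁻¹ : ↥(Matrix.symplecticGroup (Fin m) F)) :
          Matrix (Fin m ⊕ Fin m) (Fin m ⊕ Fin m) F) = 1 := by
        have := congrArg Subtype.val (mul_inv_cancel A)
        exact this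
      have hiA : ((A⁻¹ : ↥(Matrix.symplecticGroup (Fin m) F)) :
          Matrix (Fin m ⊕ Fin m) (Fin m ⊕ Fin m) F) * (A : Matrix (Fin m ⊕ Fin m) (Fin m ⊕ Fin m) F) = 1 := by
        have := congrArg Subtype.val (inv_mul_cancel A)
        exact this
      have hs1 : Pinv * A.1 * P * (Pinv * (A⁻¹).1 * P) = 1 := by
        calc Pinv * A.1 * P * (Pinv * (A⁻¹).1 * P) = Pinv * (A.1 * (P * Pinv) * (A⁻¹).1) * P := by
              simp only [Matrix.mul_assoc]
          _ = 1 := by rw [h1, Matrix.mul_one, hAi, Matrix.mul_one, h2]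
      have hs2 : Pinv * (A⁻¹).1 * P * (Pinv * A.1 * P) = 1 := by
        calc Pinv * (A⁻¹).1 * P * (Pinv * A.1 * P) = Pinv * ((A⁻¹).1 * (P * Pinv) * A.1) * P := by
              simp only [Matrix.mul_assoc]
          _ = 1 := by rw [h1, Matrix.mul_one, hiA, Matrix.mul_one, h2]
      refine ⟨⟨Pinv * A.1 * P, Pinv * (A⁻¹).1 * P, hs1, hs2⟩, ?_, rfl⟩
      rw [mem_isoG_iff]
      intro u v
      show bilM 1 ((Pinv * A.1 * P) *ᵥ u) ((Pinv * A.1 * P) *ᵥ v) = bilM 1 u v
      rw [bilM_one, bilM_one]
      revert u v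
      rw [dot_iso_iff heven _ _ hs1 hs2]
      have hLs : ∀ u, L ((Pinv * A.1 * P) *ᵥ u) = A.1 *ᵥ (L u) := by
        intro u
        rw [← hPv, Matrix.mulVec_mulVec, ← Matrix.mul_assoc, ← Matrix.mul_assoc, h1, Matrix.one_mul,
          ← Matrix.mulVec_mulVec, hPv]
      refine ⟨?_, ?_⟩
      · intro u v
        rw [hform, hLs, hLs, sp_pres A.1 A.2, ← hform]
      · have hcomm : tM * A.1 = A.1 * tM := by
          have := Subgroup.mem_centralizer_iff.mp hA ⟨tM, htmem⟩ (Set.mem_singleton _)
          exact congrArg Subtype.val this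
        calc Pinv * A.1 * P * E = Pinv * A.1 * P * E * (Pinv * P) := by rw [h2, Matrix.mul_one]
          _ = Pinv * (A.1 * (P * E * Pinv)) * P := by simp only [Matrix.mul_assoc]
          _ = Pinv * ((P * E * Pinv) * A.1) * P := by rw [← htM, hcomm]
          _ = (Pinv * P) * E * (Pinv * A.1 * P) := by simp only [Matrix.mul_assoc]
          _ = E * (Pinv * A.1 * P) := by rw [h2, Matrix.one_mul]
    · intro s hs
      have hsdot : ∀ u v, ((s : Matrix (Fin n) (Fin n) F) *ᵥ u) ⬝ᵥ ((s : Matrix (Fin n) (Fin n) F) *ᵥ v) = u ⬝ᵥ v := by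
        intro u v
        have := (mem_isoG_iff _ s).mp hs u v
        rw [bilM_one, bilM_one] at this
        exact this
      obtain ⟨hsE, hscomm⟩ := (dot_iso_iff heven _ _ (gl_mul_inv s) (gl_inv_mul s)).mp hsdot
      have hmemA : P * (s : Matrix (Fin n) (Fin n) F) * Pinv ∈ Matrix.symplecticGroup (Fin m) F := by
        apply sp_of_pres
        intro x y
        rw [hconj, hconj, ← hform, hsE, ← hformJ]
      refine ⟨⟨P * (s : Matrix (Fin n) (Fin n) F) * Pinv, hmemA⟩, ?_, rfl⟩
      rw [Subgroup.mem_centralizer_iff]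
      intro y hy
      rw [Set.mem_singleton_iff] at hy
      subst hy
      apply Subtype.ext
      show tM * (P * (s : Matrix (Fin n) (Fin n) F) * Pinv) = P * (s : Matrix (Fin n) (Fin n) F) * Pinv * tM
      rw [htM]
      calc P * E * Pinv * (P * (s : Matrix (Fin n) (Fin n) F) * Pinv)
          = P * (E * (Pinv * P) * (s : Matrix (Fin n) (Fin n) F)) * Pinv := by simp only [Matrix.mul_assoc]
        _ = P * ((s : Matrix (Fin n) (Fin n) F) * (Pinv * P) * E) * Pinv := by
            rw [h2, Matrix.mul_one, Matrix.mul_one, hscomm]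
        _ = _ := by simp only [Matrix.mul_assoc]

end

end Cfsg.Agent.Lib.Helper16.PG
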