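import Mathlib
set_option autoImplicit false

namespace Cfsg.Agent.Lib.Helper16

open Module

section
variable {K V : Type*} [Field K] [AddCommGroup V] [Module K V]

theorem finrank_orthogonal_singleton [FiniteDimensional K V] {B : LinearMap.BilinForm K V} {x : V} (hx : B x x ≠ 0) {d : ℕ}
    (hd : finrank K V = d + 1) : finrank K (B.orthogonal (K ∙ x)) = d := by
  have h := Submodule.finrank_add_eq_of_isCompl (LinearMap.BilinForm.isCompl_span_singleton_orthogonal hx)
  rw [finrank_span_singleton (ne_zero_of_map hx)] at h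
  omega

noncomputable def consBasis {B : LinearMap.BilinForm K V} {x : V} (hx : B x x ≠ 0) {d : ℕ}
    (v' : Basis (Fin d) K (B.orthogonal (K ∙ x))) : Basis (Fin (d + 1)) K V :=
  Basis.mkFinCons x v'
    (by
      rintro c y hy hc
      rw [add_eq_zero_iff_neg_eq] at hc
      rw [← hc, Submodule.neg_mem_iff] at hy
      have := (LinearMap.BilinForm.isCompl_span_singleton_orthogonal hx).disjoint
      rw [Submodule.disjoint_def] at this
      have := this (c • x) (Submodule.smul_mem _ _ <| Submodule.mem_span_singleton_self _) hy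
      exact (smul_eq_zero.1 this).resolve_right fun h => hx <| h.symm ▸ map_zero _)
    (by
      intro y
      refine ⟨-B x y / B x x, fun z hz => ?_⟩
      obtain ⟨c, rfl⟩ := Submodule.mem_span_singleton.1 hz
      rw [map_smul, LinearMap.smul_apply, map_add, map_smul, smul_eq_mul, smul_eq_mul,
        div_mul_cancel₀ _ hx, add_neg_cancel, mul_zero])

theorem consBasis_zero {B : LinearMap.BilinForm K V} {x : V} (hx : B x x ≠ 0) {d : ℕ}
    (v' : Basis (Fin d) K (B.orthogonal (K ∙ x))) : consBasis hx v' 0 = x := by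
  unfold consBasis
  rw [Basis.coe_mkFinCons]
  rfl

theorem consBasis_succ {B : LinearMap.BilinForm K V} {x : V} (hx : B x x ≠ 0) {d : ℕ}
    (v' : Basis (Fin d) K (B.orthogonal (K ∙ x))) (i : Fin d) : consBasis hx v' i.succ = (v' i : V) := by
  unfold consBasis
  rw [Basis.coe_mkFinCons]
  rfl

theorem consBasis_zero_succ {B : LinearMap.BilinForm K V} {x : V} (hx : B x x ≠ 0) {d : ℕ}
    (v' : Basis (Fin d) K (B.orthogonal (K ∙ x))) (i : Fin d) :
    B (consBasis hx v' 0) (consBasis hx v' i.succ) = 0 := by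
  rw [consBasis_zero, consBasis_succ]
  exact (v' i).2 x (Submodule.mem_span_singleton_self x)

theorem consBasis_succ_zero {B : LinearMap.BilinForm K V} (hB : B.IsRefl) {x : V} (hx : B x x ≠ 0) {d : ℕ}
    (v' : Basis (Fin d) K (B.orthogonal (K ∙ x))) (i : Fin d) :
    B (consBasis hx v' i.succ) (consBasis hx v' 0) = 0 :=
  hB _ _ (consBasis_zero_succ hx v' i)

theorem consBasis_succ_succ {B : LinearMap.BilinForm K V} {x : V} (hx : B x x ≠ 0) {d : ℕ}
    (v' : Basis (Fin d) K (B.orthogonal (K ∙ x))) (i j : Fin d) :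
    B (consBasis hx v' i.succ) (consBasis hx v' j.succ) = (B.restrict (B.orthogonal (K ∙ x))) (v' i) (v' j) := by
  rw [consBasis_succ, consBasis_succ]
  rfl

end

end Cfsg.Agent.Lib.Helper16
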