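import Mathlib
import Cfsg.Prelude.Def_LieTypeDatum
import Cfsg.Agent.Lib.Helper16.PG18
import Cfsg.Agent.Lib.Helper16.PG13
import Cfsg.Agent.S2622

set_option autoImplicit false
set_option linter.unusedSectionVars false
set_option linter.unusedVariables false

namespace Cfsg.Agent.Lib.Helper16.PG

open Matrix Module Cfsg.Agent.Lib.Helper16.SpSemi

universe u

section
variable {F : Type u} [Field F] {n : ℕ}

theorem sympForm_homog {m : ℕ} (d : F) (u v : Fin m ⊕ Fin m → F) :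
    Cfsg.sympForm m F (d • u) (d • v) = d ^ 2 * Cfsg.sympForm m F u v := by
  unfold Cfsg.sympForm
  rw [Matrix.mulVec_smul, smul_dotProduct, dotProduct_smul, smul_eq_mul, smul_eq_mul]
  ring

theorem bilM_homog {ι : Type} [Fintype ι] (M : Matrix ι ι F) (d : F) (u v : ι → F) :
    bilM M (d • u) (d • v) = d ^ 2 * bilM M u v := by
  unfold bilM
  rw [Matrix.mulVec_smul, smul_dotProduct, dotProduct_smul, smul_eq_mul, smul_eq_mul]
  ring

/-- a symmetric non-alternating Gram matrix in characteristic two is similar to the identity. -/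
theorem conj_nonalt_char2 [Fintype F] [CharP F 2] (U : GL (Fin n) F)
    (hsymm : (U : Matrix (Fin n) (Fin n) F)ᵀ = U) (hna : ∃ v, bilM (U : Matrix (Fin n) (Fin n) F) v v ≠ 0) :
    Cfsg.IsConjUnder (Cfsg.inndiagPSL n F) (Phi n F (1 : GL (Fin n) F)⁻¹ * iota n F) (Phi n F U⁻¹ * iota n F) := by
  set B : LinearMap.BilinForm F (Fin n → F) := Matrix.toBilin' (U : Matrix (Fin n) (Fin n) F) with hB
  have hBapp : ∀ u v, B u v = bilM (U : Matrix (Fin n) (Fin n) F) u v := by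
    intro u v
    rw [hB, Matrix.toBilin'_apply']
    rfl
  have hBsymm : B.IsSymm := ⟨fun x y => by
    rw [hBapp, hBapp, bilM_symm _ hsymm]⟩
  have hleft : ∀ u, (∀ v, B u v = 0) → u = 0 := by
    intro u hu
    have h3 : Matrix.vecMul u (U : Matrix (Fin n) (Fin n) F) = 0 := by
      funext j
      have := hu (Pi.single j 1)
      rw [hBapp] at this
      unfold bilM at this
      rw [Matrix.dotProduct_mulVec] at this
      simpa using this
    have h4 : Matrix.vecMul (Matrix.vecMul u (U : Matrix (Fin n) (Fin n) F))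
        ((U⁻¹ : GL (Fin n) F) : Matrix (Fin n) (Fin n) F) = 0 := by
      rw [h3, Matrix.zero_vecMul]
    rw [Matrix.vecMul_vecMul, gl_mul_inv, Matrix.vecMul_one] at h4
    exact h4
  have hBnd : B.Nondegenerate := by
    refine ⟨hleft, ?_⟩
    intro v hv
    apply hleft
    intro u
    rw [hBapp, bilM_symm _ hsymm, ← hBapp]
    exact hv u
  have hV : finrank F (Fin n → F) = n := by
    rw [Module.finrank_pi, Fintype.card_fin]
  obtain ⟨v₀, hv₀⟩ := hna
  obtain ⟨b, hb⟩ := Cfsg.Agent.S2622.result hV B hBsymm hBnd ⟨v₀, by rw [hBapp]; exact hv₀⟩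
  refine conj_of_bil_equiv 1 U b.equivFun 1 ?_
  intro u v
  rw [Units.val_one, one_mul, Units.val_one, ← hBapp,
    LinearMap.BilinForm.apply_eq_dotProduct_toMatrix_mulVec b B u v]
  have h1 : LinearMap.BilinForm.toMatrix b B = 1 := by
    ext i j
    rw [LinearMap.BilinForm.toMatrix_apply, hb, Matrix.one_apply]
  rw [h1]
  rfl

theorem graph_classes_even [Fintype F] [CharP F 2] {m : ℕ} (hm : 2 ≤ m) (hnm : n = 2 * m) :
    ∃ (γ₁ γ₃ : MulAut (Matrix.ProjectiveSpecialLinearGroup (Fin n) F))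
      (t : ↥(Matrix.symplecticGroup (Fin m) F)),
      Cfsg.IsTransvection (t : Matrix (Fin m ⊕ Fin m) (Fin m ⊕ Fin m) F) ∧
      Cfsg.IsGraphAutClassPSL γ₁ ∧ orderOf γ₁ = 2 ∧ Cfsg.IsGraphAutClassPSL γ₃ ∧ orderOf γ₃ = 2 ∧
      ¬ Cfsg.IsConjUnder (Cfsg.inndiagPSL n F) γ₁ γ₃ ∧
      (∀ γ : MulAut (Matrix.ProjectiveSpecialLinearGroup (Fin n) F), Cfsg.IsGraphAutClassPSL γ → orderOf γ = 2 →
        Cfsg.IsConjUnder (Cfsg.inndiagPSL n F) γ₁ γ ∨ Cfsg.IsConjUnder (Cfsg.inndiagPSL n F) γ₃ γ) ∧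
      Nonempty (↥(Cfsg.inndiagPSL n F ⊓ Subgroup.centralizer {γ₁}) ≃* ↥(Matrix.symplecticGroup (Fin m) F)) ∧
      Nonempty (↥(Cfsg.inndiagPSL n F ⊓ Subgroup.centralizer {γ₃}) ≃*
        ↥(Subgroup.centralizer ({t} : Set ↥(Matrix.symplecticGroup (Fin m) F)))) := by
  have hn3 : 3 ≤ n := by omega
  have hn1 : 1 ≤ n := by omega
  have hm1 : 1 ≤ m := by omega
  have hfr₂ : finrank F (Fin n → F) = finrank F (Fin m ⊕ Fin m → F) := by
    rw [Module.finrank_pi, Module.finrank_pi, Fintype.card_fin, Fintype.card_sum, Fintype.card_fin, hnm]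
    ring
  obtain ⟨T₂⟩ : Nonempty ((Fin n → F) ≃ₗ[F] (Fin m ⊕ Fin m → F)) := ⟨LinearEquiv.ofFinrankEq _ _ hfr₂⟩
  obtain ⟨U₁, hU₁, hU₁t⟩ := sympl_data T₂
  have halt₁ : ∀ v, bilM (U₁ : Matrix (Fin n) (Fin n) F) v v = 0 := by
    intro v
    rw [hU₁]
    exact J_alt (T₂ v)
  obtain ⟨t, ht, ⟨et⟩⟩ := dot_iso_equiv_cent (F := F) (n := n) hm1 hnm
  have h1t : ((1 : GL (Fin n) F) : Matrix (Fin n) (Fin n) F)ᵀ = ((1 : Fˣ) : F) • ((1 : GL (Fin n) F) : Matrix (Fin n) (Fin n) F) := by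
    rw [Units.val_one, Units.val_one, Matrix.transpose_one, one_smul]
  refine ⟨Phi n F U₁⁻¹ * iota n F, Phi n F (1 : GL (Fin n) F)⁻¹ * iota n F, t, ht,
    graph_isGraphAut hn3 _, graph_order_two hn3 U₁ (-1) hU₁t,
    graph_isGraphAut hn3 _, graph_order_two hn3 1 1 h1t, ?_, ?_, ?_, ?_⟩
  · -- not conjugate
    intro h
    obtain ⟨k, c, hk⟩ := bil_equiv_of_conj U₁ 1 h
    have h3 := hk (Pi.single ⟨0, by omega⟩ 1) (Pi.single ⟨0, by omega⟩ 1)
    rw [halt₁, mul_zero, Units.val_one, bilM_one] at h3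
    simp at h3
  · -- exhaustive
    intro γ hγ hγ2
    obtain ⟨U, rfl⟩ := graph_of_isGraphAut γ hγ
    have hsq : (Phi n F U⁻¹ * iota n F) * (Phi n F U⁻¹ * iota n F) = 1 := by
      rw [← pow_two, ← hγ2]
      exact pow_orderOf_eq_one _
    rw [graph_sq_eq_one_iff, inv_inv] at hsq
    obtain ⟨c, hc⟩ := hsq
    have hsymm : (U : Matrix (Fin n) (Fin n) F)ᵀ = U := by
      rcases transpose_scalar_cases U hn1 c hc with h1 | h1
      · rw [hc, h1, one_smul]
      · rw [hc, h1, CharTwo.neg_eq, one_smul]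
    by_cases halt : ∀ v, bilM (U : Matrix (Fin n) (Fin n) F) v v = 0
    · left
      exact conj_alt hnm T₂ U₁ hU₁ U halt
    · right
      push Not at halt
      exact conj_nonalt_char2 U hsymm halt
  · -- centraliser of γ₁
    obtain ⟨e0⟩ := cent_sympl T₂ U₁ hU₁
    obtain ⟨e1⟩ := char2_projQuot_iso (Cfsg.sympForm m F) sympForm_homog (by
      by_contra hcon
      push Not at hcon
      have h3 : (Pi.single (Sum.inl ⟨0, by omega⟩) 1 : Fin m ⊕ Fin m → F) = 0 := by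
        apply J_nondeg
        intro y
        exact hcon _ y
      have h4 := congrFun h3 (Sum.inl ⟨0, by omega⟩)
      simp at h4)
    obtain ⟨e2⟩ := sp_equiv_isoG (F := F) m
    exact ⟨e0.trans (e1.symm.trans e2)⟩
  · -- centraliser of γ₃
    obtain ⟨e0⟩ := cent_graph_equiv ((1 : GL (Fin n) F)⁻¹)
    rw [inv_inv, Units.val_one] at e0
    obtain ⟨e1⟩ := char2_projQuot_iso (bilM (1 : Matrix (Fin n) (Fin n) F)) (bilM_homog 1) (by
      refine ⟨Pi.single ⟨0, by omega⟩ 1, Pi.single ⟨0, by omega⟩ 1, ?_⟩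
      rw [bilM_one]
      simp)
    exact ⟨e0.trans (e1.symm.trans et)⟩

end

end Cfsg.Agent.Lib.Helper16.PG
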