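import Mathlib
import Cfsg.Prelude.Def_LieTypeDatum
import Cfsg.Agent.Lib.Helper16.PG20

set_option autoImplicit false
set_option linter.unusedSectionVars false
set_option linter.unusedVariables false

namespace Cfsg.Agent.Lib.Helper16.PG

open Matrix Module Cfsg.Agent.Lib.Helper16.SpSemi

universe u v

section
variable {F : Type u} [Field F] {n : ℕ}

/-- odd characteristic: a symmetric Gram matrix in odd dimension is similar to the standard one. -/
theorem odd_normal_form [Fintype F] (h2 : (2 : F) ≠ 0) {m : ℕ} (hnm : n = 2 * m + 1) (U : GL (Fin n) F)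
    (hsymm : (U : Matrix (Fin n) (Fin n) F)ᵀ = U) :
    ∃ (T : (Fin n → F) ≃ₗ[F] (Unit ⊕ (Fin m ⊕ Fin m) → F)) (a : F), a ≠ 0 ∧
      ∀ u v, bilM (U : Matrix (Fin n) (Fin n) F) u v =
        a * QuadraticMap.polar (Cfsg.quadFormOdd m F) (T u) (T v) := by
  have hnd := gramQ_nondeg h2 (U : Matrix (Fin n) (Fin n) F) hsymm ⟨U, rfl⟩
  have hV : finrank F (Fin n → F) = 2 * m + 1 := by
    rw [Module.finrank_pi, Fintype.card_fin, hnm]
  obtain ⟨b, hb0, hb0x, hbQ, hbxy, hbxx⟩ :=
    Cfsg.Agent.S2618.result hV (gramQ (U : Matrix (Fin n) (Fin n) F)) hnd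
  set Q := gramQ (U : Matrix (Fin n) (Fin n) F) with hQ
  set a₀ : F := Q (b (Sum.inl ())) with ha₀
  set w : Unit ⊕ (Fin m ⊕ Fin m) → Fˣ := fun i =>
    match i with
    | Sum.inl _ => 1
    | Sum.inr (Sum.inl _) => Units.mk0 a₀ hb0
    | Sum.inr (Sum.inr _) => 1 with hw
  set b' := b.unitsSMul w with hb'
  set T : (Fin n → F) ≃ₗ[F] (Unit ⊕ (Fin m ⊕ Fin m) → F) := b'.equivFun with hT
  have hTb : ∀ i, T (b' i) = Pi.single i 1 := by
    intro i
    funext j
    rw [hT, b'.equivFun_self i j, Pi.single_apply]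
    by_cases h : i = j
    · rw [if_pos h, if_pos h.symm]
    · rw [if_neg h, if_neg (fun h' => h h'.symm)]
  have hkey : QuadraticMap.polarBilin Q =
      a₀ • LinearMap.BilinForm.comp (QuadraticMap.polarBilin (Cfsg.Agent.Lib.Helper16.qfOdd m F))
        T.toLinearMap T.toLinearMap := by
    apply LinearMap.BilinForm.ext_basis b'
    intro i j
    rw [LinearMap.smul_apply, LinearMap.smul_apply, LinearMap.BilinForm.comp_apply,
      QuadraticMap.polarBilin_apply_apply, QuadraticMap.polarBilin_apply_apply]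
    show _ = a₀ • QuadraticMap.polar (Cfsg.quadFormOdd m F) (T (b' i)) (T (b' j))
    rw [hTb, hTb, Cfsg.Agent.Lib.Helper16.polar_odd, hb', Module.Basis.unitsSMul_apply,
      Module.Basis.unitsSMul_apply, Units.smul_def, Units.smul_def, QuadraticMap.polar_smul_left,
      QuadraticMap.polar_smul_right]
    rcases i with ⟨⟩ | i | i <;> rcases j with ⟨⟩ | j | j
    · simp only [hw, Units.val_one, one_smul, Pi.single_eq_same]
      rw [QuadraticMap.polar_self]
      simp
      ring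
    · simp [hw, (hb0x j).1]
    · simp [hw, (hb0x j).2]
    · rw [QuadraticMap.polar_comm]
      simp [hw, (hb0x i).1]
    · simp [hw, (hbxx i j).1]
    · simp [hw, hbxy i j, Pi.single_apply]
      by_cases h : i = j
      · rw [if_pos h, if_pos h.symm]
      · rw [if_neg h, if_neg (fun h' => h h'.symm)]
    · rw [QuadraticMap.polar_comm]
      simp [hw, (hb0x i).2]
    · rw [QuadraticMap.polar_comm]
      simp [hw, hbxy j i, Pi.single_apply]
      try (by_cases h : i = j
           · rw [if_pos h, if_pos h.symm]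
           · rw [if_neg h, if_neg (fun h' => h h'.symm)])
    · simp [hw, (hbxx i j).2]
  refine ⟨T, a₀ / 2, div_ne_zero hb0 h2, ?_⟩
  intro u v
  have h3 := LinearMap.congr_fun (LinearMap.congr_fun hkey u) v
  rw [LinearMap.smul_apply, LinearMap.smul_apply, LinearMap.BilinForm.comp_apply,
    QuadraticMap.polarBilin_apply_apply, QuadraticMap.polarBilin_apply_apply, hQ, gramQ_polar _ hsymm] at h3
  have h4 : QuadraticMap.polar (⇑(Cfsg.Agent.Lib.Helper16.qfOdd m F)) (T u) (T v) =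
      QuadraticMap.polar (Cfsg.quadFormOdd m F) (T u) (T v) := rfl
  have h5 : 2 * bilM (U : Matrix (Fin n) (Fin n) F) u v =
      a₀ * QuadraticMap.polar (Cfsg.quadFormOdd m F) (T u) (T v) := by
    rw [← h4]
    exact h3
  field_simp
  linear_combination h5

theorem conj_odd_dim_oddq [Fintype F] (h2 : (2 : F) ≠ 0) {m : ℕ} (hnm : n = 2 * m + 1) (U U' : GL (Fin n) F)
    (hsymm : (U : Matrix (Fin n) (Fin n) F)ᵀ = U) (hsymm' : (U' : Matrix (Fin n) (Fin n) F)ᵀ = U') :
    Cfsg.IsConjUnder (Cfsg.inndiagPSL n F) (Phi n F U⁻¹ * iota n F) (Phi n F U'⁻¹ * iota n F) := by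
  obtain ⟨T, a, ha, hT⟩ := odd_normal_form h2 hnm U hsymm
  obtain ⟨T', a', ha', hT'⟩ := odd_normal_form h2 hnm U' hsymm'
  refine conj_of_bil_equiv U U' (T'.trans T.symm) (Units.mk0 (a' / a) (div_ne_zero ha' ha)) ?_
  intro u v
  rw [hT', hT, Units.val_mk0]
  show _ = a' / a * (a * QuadraticMap.polar (Cfsg.quadFormOdd m F) (T (T.symm (T' u))) (T (T.symm (T' v))))
  rw [LinearEquiv.apply_symm_apply, LinearEquiv.apply_symm_apply]
  field_simp

theorem cent_odd_dim_oddq [Fintype F] (h2 : (2 : F) ≠ 0) {m : ℕ} (hnm : n = 2 * m + 1) (U : GL (Fin n) F)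
    (hsymm : (U : Matrix (Fin n) (Fin n) F)ᵀ = U) :
    Nonempty (↥(Cfsg.inndiagPSL n F ⊓ Subgroup.centralizer {Phi n F U⁻¹ * iota n F}) ≃*
      Cfsg.PGO F (Cfsg.quadFormOdd m F)) := by
  obtain ⟨T, a, ha, hT⟩ := odd_normal_form h2 hnm U hsymm
  obtain ⟨e0⟩ := cent_graph_equiv (U⁻¹ : GL (Fin n) F)
  rw [inv_inv, bilSim_eq_quadSim h2 _ hsymm] at e0
  obtain ⟨e1⟩ := pgo_congr (fun v => gramQ (U : Matrix (Fin n) (Fin n) F) v) (Cfsg.quadFormOdd m F) T.symm
    (2 * a) (mul_ne_zero h2 ha) (by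
    intro w
    show gramQ (U : Matrix (Fin n) (Fin n) F) (T.symm w) = 2 * a * Cfsg.quadFormOdd m F w
    rw [gramQ_apply, hT, LinearEquiv.apply_symm_apply]
    have h3 : QuadraticMap.polar (⇑(Cfsg.Agent.Lib.Helper16.qfOdd m F)) w w =
      QuadraticMap.polar (Cfsg.quadFormOdd m F) w w := rfl
    rw [← h3, QuadraticMap.polar_self, nsmul_eq_mul, Cfsg.Agent.Lib.Helper16.qfOdd_coe]
    push_cast
    ring)
  exact ⟨e0.trans e1⟩

end

end Cfsg.Agent.Lib.Helper16.PG
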