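import Mathlib
import Cfsg.Prelude.Def_LieTypeDatum
import Cfsg.Agent.Lib.Helper16.PG19
import Cfsg.Agent.Lib.Helper16.PG21

set_option autoImplicit false
set_option linter.unusedSectionVars false
set_option linter.unusedVariables false

namespace Cfsg.Agent.Lib.Helper16.PG

open Matrix Module Cfsg.Agent.Lib.Helper16.SpSemi

universe u v

section
variable {F : Type u} [Field F] {m : ℕ}

/-- the radical vector of `quadFormOdd` in characteristic two. -/
def e0v (m : ℕ) (F : Type u) [Field F] : Unit ⊕ (Fin m ⊕ Fin m) → F := Pi.single (Sum.inl ()) 1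

/-- the standard symmetric non-alternating form in odd dimension (characteristic two). -/
def stdB (m : ℕ) (F : Type u) [Field F] (u v : Unit ⊕ (Fin m ⊕ Fin m) → F) : F :=
  u (Sum.inl ()) * v (Sum.inl ()) + QuadraticMap.polar (Cfsg.quadFormOdd m F) u v

theorem e0v_zero : e0v m F (Sum.inl ()) = 1 := by
  unfold e0v; rw [Pi.single_eq_same]

theorem e0v_inr (k : Fin m ⊕ Fin m) : e0v m F (Sum.inr k) = 0 := by
  unfold e0v; rw [Pi.single_apply, if_neg (by simp)]

theorem qodd_add_e0 [CharP F 2] (u : Unit ⊕ (Fin m ⊕ Fin m) → F) (c : F) :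
    Cfsg.quadFormOdd m F (u + c • e0v m F) = Cfsg.quadFormOdd m F u + c ^ 2 := by
  unfold Cfsg.quadFormOdd
  simp only [Pi.add_apply, Pi.smul_apply, e0v_zero, e0v_inr, smul_eq_mul, mul_one, mul_zero, add_zero]
  have h2 : (2 : F) = 0 := CharTwo.two_eq_zero
  linear_combination (u (Sum.inl ()) * c) * h2

theorem polar_e0_right [CharP F 2] (u : Unit ⊕ (Fin m ⊕ Fin m) → F) :
    QuadraticMap.polar (Cfsg.quadFormOdd m F) u (e0v m F) = 0 := by
  rw [Cfsg.Agent.Lib.Helper16.polar_odd]
  simp only [e0v_zero, e0v_inr, mul_zero, zero_mul, add_zero, Finset.sum_const_zero, mul_one]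
  have h2 : (2 : F) = 0 := CharTwo.two_eq_zero
  rw [h2, zero_mul]

theorem polar_e0_left [CharP F 2] (u : Unit ⊕ (Fin m ⊕ Fin m) → F) :
    QuadraticMap.polar (Cfsg.quadFormOdd m F) (e0v m F) u = 0 := by
  rw [QuadraticMap.polar_comm]; exact polar_e0_right u

theorem polar_add_e0 [CharP F 2] (u v : Unit ⊕ (Fin m ⊕ Fin m) → F) (c d : F) :
    QuadraticMap.polar (Cfsg.quadFormOdd m F) (u + c • e0v m F) (v + d • e0v m F) =
      QuadraticMap.polar (Cfsg.quadFormOdd m F) u v := by
  have h1 : ∀ x y, QuadraticMap.polar (Cfsg.quadFormOdd m F) x y =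
      QuadraticMap.polar (⇑(Cfsg.Agent.Lib.Helper16.qfOdd m F)) x y := fun x y => rfl
  rw [h1, QuadraticMap.polar_add_left, QuadraticMap.polar_add_right, QuadraticMap.polar_add_right,
    QuadraticMap.polar_smul_right, QuadraticMap.polar_smul_left, QuadraticMap.polar_smul_left,
    QuadraticMap.polar_smul_right, ← h1, ← h1, ← h1, ← h1, polar_e0_right, polar_e0_left, polar_e0_left]
  simp

theorem polar_self_char2 [CharP F 2] (u : Unit ⊕ (Fin m ⊕ Fin m) → F) :
    QuadraticMap.polar (Cfsg.quadFormOdd m F) u u = 0 := by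
  have h1 : QuadraticMap.polar (Cfsg.quadFormOdd m F) u u =
      QuadraticMap.polar (⇑(Cfsg.Agent.Lib.Helper16.qfOdd m F)) u u := rfl
  rw [h1, QuadraticMap.polar_self, two_nsmul]
  exact CharTwo.add_self_eq_zero _

theorem rad_eq [CharP F 2] (u : Unit ⊕ (Fin m ⊕ Fin m) → F)
    (h : ∀ v, QuadraticMap.polar (Cfsg.quadFormOdd m F) u v = 0) : u = u (Sum.inl ()) • e0v m F := by
  funext k
  rcases k with ⟨⟩ | k | k
  · rw [Pi.smul_apply, e0v_zero, smul_eq_mul, mul_one]
  · have h1 := h (Pi.single (Sum.inr (Sum.inr k)) 1)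
    rw [Cfsg.Agent.Lib.Helper16.polar_odd] at h1
    simp [Pi.single_apply] at h1
    rw [Pi.smul_apply, e0v_inr, smul_zero]
    exact h1
  · have h1 := h (Pi.single (Sum.inr (Sum.inl k)) 1)
    rw [Cfsg.Agent.Lib.Helper16.polar_odd] at h1
    simp [Pi.single_apply] at h1
    rw [Pi.smul_apply, e0v_inr, smul_zero]
    exact h1

end

end Cfsg.Agent.Lib.Helper16.PG
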