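import Mathlib
import Cfsg.Prelude.Def_LieTypeDatum
import Cfsg.Agent.Lib.Helper16.PG22

set_option autoImplicit false
set_option linter.unusedSectionVars false
set_option linter.unusedVariables false

namespace Cfsg.Agent.Lib.Helper16.PG

open Matrix Module Cfsg.Agent.Lib.Helper16.SpSemi

universe u v

section
variable {F : Type u} [Field F] {m : ℕ}

/-- the matrix unit at the radical coordinate. -/
def Nmat (m : ℕ) (F : Type u) [Field F] : Matrix (Unit ⊕ (Fin m ⊕ Fin m)) (Unit ⊕ (Fin m ⊕ Fin m)) F :=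
  Matrix.single (Sum.inl ()) (Sum.inl ()) 1

theorem Nmat_mulVec (u : Unit ⊕ (Fin m ⊕ Fin m) → F) : Nmat m F *ᵥ u = u (Sum.inl ()) • e0v m F := by
  unfold Nmat e0v
  rw [Matrix.single_mulVec_eq, one_mul]

/-- the correction making an isometry of the quadratic form an isometry of `stdB`. -/
def psiM (g : Matrix (Unit ⊕ (Fin m ⊕ Fin m)) (Unit ⊕ (Fin m ⊕ Fin m)) F) :
    Matrix (Unit ⊕ (Fin m ⊕ Fin m)) (Unit ⊕ (Fin m ⊕ Fin m)) F :=
  g + Nmat m F - Nmat m F * g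

theorem psiM_mulVec (g : Matrix (Unit ⊕ (Fin m ⊕ Fin m)) (Unit ⊕ (Fin m ⊕ Fin m)) F)
    (u : Unit ⊕ (Fin m ⊕ Fin m) → F) :
    psiM g *ᵥ u = g *ᵥ u + (u (Sum.inl ()) - (g *ᵥ u) (Sum.inl ())) • e0v m F := by
  unfold psiM
  rw [Matrix.sub_mulVec, Matrix.add_mulVec, ← Matrix.mulVec_mulVec, Nmat_mulVec, Nmat_mulVec]
  module

theorem psiM_mulVec_zero (g : Matrix (Unit ⊕ (Fin m ⊕ Fin m)) (Unit ⊕ (Fin m ⊕ Fin m)) F)
    (u : Unit ⊕ (Fin m ⊕ Fin m) → F) : (psiM g *ᵥ u) (Sum.inl ()) = u (Sum.inl ()) := by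
  rw [psiM_mulVec, Pi.add_apply, Pi.smul_apply, e0v_zero, smul_eq_mul, mul_one]
  ring

theorem psiM_one : psiM (1 : Matrix (Unit ⊕ (Fin m ⊕ Fin m)) (Unit ⊕ (Fin m ⊕ Fin m)) F) = 1 := by
  unfold psiM
  rw [Matrix.mul_one, add_sub_cancel_right]

theorem psiM_mul (g₁ g₂ : Matrix (Unit ⊕ (Fin m ⊕ Fin m)) (Unit ⊕ (Fin m ⊕ Fin m)) F)
    (h : g₁ *ᵥ e0v m F = e0v m F) : psiM g₁ * psiM g₂ = psiM (g₁ * g₂) := by
  apply Matrix.mulVec_injective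
  funext u
  show (psiM g₁ * psiM g₂) *ᵥ u = psiM (g₁ * g₂) *ᵥ u
  rw [← Matrix.mulVec_mulVec, psiM_mulVec g₁, psiM_mulVec_zero, psiM_mulVec g₂, psiM_mulVec (g₁ * g₂),
    Matrix.mulVec_add, Matrix.mulVec_smul, h, Matrix.mulVec_mulVec]
  simp only [Pi.add_apply, Pi.smul_apply, e0v_zero, smul_eq_mul, mul_one]
  module

theorem qodd_zero : Cfsg.quadFormOdd m F 0 = 0 := by
  unfold Cfsg.quadFormOdd
  simp

theorem qodd_smul_e0 [CharP F 2] (c : F) : Cfsg.quadFormOdd m F (c • e0v m F) = c ^ 2 := by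
  have := qodd_add_e0 (m := m) (0 : Unit ⊕ (Fin m ⊕ Fin m) → F) c
  rw [zero_add, qodd_zero, zero_add] at this
  exact this

/-- isometries of the quadratic form preserve its polar form. -/
theorem isoQ_polar (g : Matrix (Unit ⊕ (Fin m ⊕ Fin m)) (Unit ⊕ (Fin m ⊕ Fin m)) F)
    (hQ : ∀ u, Cfsg.quadFormOdd m F (g *ᵥ u) = Cfsg.quadFormOdd m F u) (u v : Unit ⊕ (Fin m ⊕ Fin m) → F) :
    QuadraticMap.polar (Cfsg.quadFormOdd m F) (g *ᵥ u) (g *ᵥ v) =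
      QuadraticMap.polar (Cfsg.quadFormOdd m F) u v := by
  unfold QuadraticMap.polar
  rw [← Matrix.mulVec_add, hQ, hQ, hQ]

/-- isometries of the quadratic form fix the radical vector. -/
theorem isoQ_e0 [CharP F 2] (g : GL (Unit ⊕ (Fin m ⊕ Fin m)) F)
    (hQ : ∀ u, Cfsg.quadFormOdd m F (g.1 *ᵥ u) = Cfsg.quadFormOdd m F u) :
    g.1 *ᵥ e0v m F = e0v m F := by
  have h1 : ∀ w, QuadraticMap.polar (Cfsg.quadFormOdd m F) (g.1 *ᵥ e0v m F) w = 0 := by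
    intro w
    have h2 : w = g.1 *ᵥ ((g⁻¹).1 *ᵥ w) := by
      rw [Matrix.mulVec_mulVec, ← Units.val_mul, mul_inv_cancel, Units.val_one, Matrix.one_mulVec]
    rw [h2, isoQ_polar _ hQ, polar_e0_left]
  have h3 := rad_eq _ h1
  set c := (g.1 *ᵥ e0v m F) (Sum.inl ()) with hc
  have h4 : Cfsg.quadFormOdd m F (g.1 *ᵥ e0v m F) = c ^ 2 := by
    rw [h3, qodd_smul_e0]
  rw [hQ] at h4
  have h5 : Cfsg.quadFormOdd m F (e0v m F) = 1 := by
    have := qodd_smul_e0 (m := m) (1 : F)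
    rw [one_smul, one_pow] at this
    exact this
  rw [h5] at h4
  have h6 : c = 1 := char2_sq_eq_one c h4.symm
  rw [h3, h6, one_smul]

/-- isometries of `stdB` fix the radical coordinate. -/
theorem isoB_zero [CharP F 2] (h : Matrix (Unit ⊕ (Fin m ⊕ Fin m)) (Unit ⊕ (Fin m ⊕ Fin m)) F)
    (hB : ∀ u v, stdB m F (h *ᵥ u) (h *ᵥ v) = stdB m F u v) (u : Unit ⊕ (Fin m ⊕ Fin m) → F) :
    (h *ᵥ u) (Sum.inl ()) = u (Sum.inl ()) := by
  have h1 := hB u u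
  unfold stdB at h1
  rw [polar_self_char2, polar_self_char2, add_zero, add_zero] at h1
  exact sq_inj_char2 _ _ h1

theorem isoB_polar [CharP F 2] (h : Matrix (Unit ⊕ (Fin m ⊕ Fin m)) (Unit ⊕ (Fin m ⊕ Fin m)) F)
    (hB : ∀ u v, stdB m F (h *ᵥ u) (h *ᵥ v) = stdB m F u v) (u v : Unit ⊕ (Fin m ⊕ Fin m) → F) :
    QuadraticMap.polar (Cfsg.quadFormOdd m F) (h *ᵥ u) (h *ᵥ v) =
      QuadraticMap.polar (Cfsg.quadFormOdd m F) u v := by
  have h1 := hB u v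
  unfold stdB at h1
  rw [isoB_zero h hB, isoB_zero h hB] at h1
  exact add_left_cancel h1

theorem isoB_e0 [CharP F 2] (h : GL (Unit ⊕ (Fin m ⊕ Fin m)) F)
    (hB : ∀ u v, stdB m F (h.1 *ᵥ u) (h.1 *ᵥ v) = stdB m F u v) :
    h.1 *ᵥ e0v m F = e0v m F := by
  have h1 : ∀ w, QuadraticMap.polar (Cfsg.quadFormOdd m F) (h.1 *ᵥ e0v m F) w = 0 := by
    intro w
    have h2 : w = h.1 *ᵥ ((h⁻¹).1 *ᵥ w) := by
      rw [Matrix.mulVec_mulVec, ← Units.val_mul, mul_inv_cancel, Units.val_one, Matrix.one_mulVec]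
    rw [h2, isoB_polar _ hB, polar_e0_left]
  have h3 := rad_eq _ h1
  rw [isoB_zero _ hB, e0v_zero, one_smul] at h3
  exact h3

end

end Cfsg.Agent.Lib.Helper16.PG
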