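import Mathlib
import Cfsg.Prelude.Def_LieTypeDatum
import Cfsg.Agent.Lib.Helper16.PG23

set_option autoImplicit false
set_option linter.unusedSectionVars false
set_option linter.unusedVariables false

namespace Cfsg.Agent.Lib.Helper16.PG

open Matrix Module Cfsg.Agent.Lib.Helper16.SpSemi

universe u v

section
variable {F : Type u} [Field F] [Fintype F] [CharP F 2] {m : ℕ}

/-- the square root of the defect `Q(hu) + Q(u)`. -/
noncomputable def phiFun (h : Matrix (Unit ⊕ (Fin m ⊕ Fin m)) (Unit ⊕ (Fin m ⊕ Fin m)) F)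
    (u : Unit ⊕ (Fin m ⊕ Fin m) → F) : F :=
  (frobeniusEquiv F 2).symm (Cfsg.quadFormOdd m F (h *ᵥ u) + Cfsg.quadFormOdd m F u)

theorem phiFun_sq (h : Matrix (Unit ⊕ (Fin m ⊕ Fin m)) (Unit ⊕ (Fin m ⊕ Fin m)) F)
    (u : Unit ⊕ (Fin m ⊕ Fin m) → F) :
    phiFun h u ^ 2 = Cfsg.quadFormOdd m F (h *ᵥ u) + Cfsg.quadFormOdd m F u :=
  frobeniusEquiv_symm_pow_p F 2 _

theorem qodd_add (x y : Unit ⊕ (Fin m ⊕ Fin m) → F) :
    Cfsg.quadFormOdd m F (x + y) = Cfsg.quadFormOdd m F x + Cfsg.quadFormOdd m F y +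
      QuadraticMap.polar (Cfsg.quadFormOdd m F) x y := by
  unfold QuadraticMap.polar
  ring

theorem qodd_smul (c : F) (x : Unit ⊕ (Fin m ⊕ Fin m) → F) :
    Cfsg.quadFormOdd m F (c • x) = c ^ 2 * Cfsg.quadFormOdd m F x := by
  have := QuadraticMap.map_smul (Cfsg.Agent.Lib.Helper16.qfOdd m F) c x
  rw [Cfsg.Agent.Lib.Helper16.qfOdd_coe] at this
  rw [this, smul_eq_mul, pow_two]

theorem phiFun_add (h : Matrix (Unit ⊕ (Fin m ⊕ Fin m)) (Unit ⊕ (Fin m ⊕ Fin m)) F)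
    (hP : ∀ u v, QuadraticMap.polar (Cfsg.quadFormOdd m F) (h *ᵥ u) (h *ᵥ v) =
      QuadraticMap.polar (Cfsg.quadFormOdd m F) u v) (u v : Unit ⊕ (Fin m ⊕ Fin m) → F) :
    phiFun h (u + v) = phiFun h u + phiFun h v := by
  unfold phiFun
  rw [← map_add]
  congr 1
  rw [Matrix.mulVec_add, qodd_add, qodd_add u v, hP]
  have h2 : QuadraticMap.polar (Cfsg.quadFormOdd m F) u v + QuadraticMap.polar (Cfsg.quadFormOdd m F) u v = 0 :=
    CharTwo.add_self_eq_zero _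
  linear_combination h2

theorem phiFun_smul (h : Matrix (Unit ⊕ (Fin m ⊕ Fin m)) (Unit ⊕ (Fin m ⊕ Fin m)) F)
    (c : F) (u : Unit ⊕ (Fin m ⊕ Fin m) → F) :
    phiFun h (c • u) = c * phiFun h u := by
  unfold phiFun
  rw [Matrix.mulVec_smul, qodd_smul, qodd_smul, ← mul_add, map_mul, frobeniusEquiv_symm_pow]

/-- the square-root functional as a linear map. -/
noncomputable def phiLin (h : Matrix (Unit ⊕ (Fin m ⊕ Fin m)) (Unit ⊕ (Fin m ⊕ Fin m)) F)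
    (hP : ∀ u v, QuadraticMap.polar (Cfsg.quadFormOdd m F) (h *ᵥ u) (h *ᵥ v) =
      QuadraticMap.polar (Cfsg.quadFormOdd m F) u v) : (Unit ⊕ (Fin m ⊕ Fin m) → F) →ₗ[F] F :=
  IsLinearMap.mk' (phiFun h) ⟨phiFun_add h hP, fun c u => by rw [phiFun_smul, smul_eq_mul]⟩

/-- the lift of an isometry of `stdB` to an isometry of the quadratic form. -/
noncomputable def thetaM (h : Matrix (Unit ⊕ (Fin m ⊕ Fin m)) (Unit ⊕ (Fin m ⊕ Fin m)) F)
    (hP : ∀ u v, QuadraticMap.polar (Cfsg.quadFormOdd m F) (h *ᵥ u) (h *ᵥ v) =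
      QuadraticMap.polar (Cfsg.quadFormOdd m F) u v) :
    Matrix (Unit ⊕ (Fin m ⊕ Fin m)) (Unit ⊕ (Fin m ⊕ Fin m)) F :=
  LinearMap.toMatrix' (Matrix.toLin' h + (phiLin h hP).smulRight (e0v m F))

theorem thetaM_mulVec (h : Matrix (Unit ⊕ (Fin m ⊕ Fin m)) (Unit ⊕ (Fin m ⊕ Fin m)) F)
    (hP : ∀ u v, QuadraticMap.polar (Cfsg.quadFormOdd m F) (h *ᵥ u) (h *ᵥ v) =
      QuadraticMap.polar (Cfsg.quadFormOdd m F) u v) (u : Unit ⊕ (Fin m ⊕ Fin m) → F) :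
    thetaM h hP *ᵥ u = h *ᵥ u + phiFun h u • e0v m F := by
  unfold thetaM
  rw [LinearMap.toMatrix'_mulVec, LinearMap.add_apply, Matrix.toLin'_apply, LinearMap.smulRight_apply]
  rfl

theorem thetaM_qodd (h : Matrix (Unit ⊕ (Fin m ⊕ Fin m)) (Unit ⊕ (Fin m ⊕ Fin m)) F)
    (hP : ∀ u v, QuadraticMap.polar (Cfsg.quadFormOdd m F) (h *ᵥ u) (h *ᵥ v) =
      QuadraticMap.polar (Cfsg.quadFormOdd m F) u v) (u : Unit ⊕ (Fin m ⊕ Fin m) → F) :
    Cfsg.quadFormOdd m F (thetaM h hP *ᵥ u) = Cfsg.quadFormOdd m F u := by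
  rw [thetaM_mulVec, qodd_add_e0, phiFun_sq]
  have h2 : Cfsg.quadFormOdd m F (h *ᵥ u) + Cfsg.quadFormOdd m F (h *ᵥ u) = 0 := CharTwo.add_self_eq_zero _
  linear_combination h2

theorem thetaM_isUnit (h : GL (Unit ⊕ (Fin m ⊕ Fin m)) F)
    (hP : ∀ u v, QuadraticMap.polar (Cfsg.quadFormOdd m F) (h.1 *ᵥ u) (h.1 *ᵥ v) =
      QuadraticMap.polar (Cfsg.quadFormOdd m F) u v) (he : h.1 *ᵥ e0v m F = e0v m F) :
    IsUnit (thetaM h.1 hP) := by
  rw [← Matrix.mulVec_injective_iff_isUnit]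
  have hlin : (thetaM h.1 hP).mulVec = ⇑(thetaM h.1 hP).mulVecLin := rfl
  rw [hlin, injective_iff_map_eq_zero]
  intro u hu
  have hu' : thetaM h.1 hP *ᵥ u = 0 := hu
  have h1 : ∀ v, QuadraticMap.polar (Cfsg.quadFormOdd m F) u v = 0 := by
    intro v
    have h2 := polar_add_e0 (h.1 *ᵥ u) (h.1 *ᵥ v) (phiFun h.1 u) (phiFun h.1 v)
    rw [← thetaM_mulVec h.1 hP, ← thetaM_mulVec h.1 hP, hu', hP] at h2
    rw [← h2]
    unfold QuadraticMap.polar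
    rw [zero_add, qodd_zero]
    ring
  have h3 := rad_eq u h1
  have h4 : phiFun h.1 (e0v m F) = 0 := by
    have h5 := phiFun_sq h.1 (e0v m F)
    rw [he, CharTwo.add_self_eq_zero] at h5
    exact pow_eq_zero_iff (two_ne_zero) |>.mp h5
  have h6 : thetaM h.1 hP *ᵥ e0v m F = e0v m F := by
    rw [thetaM_mulVec, he, h4, zero_smul, add_zero]
  rw [h3, Matrix.mulVec_smul, h6] at hu'
  rw [h3]
  exact hu'

end

end Cfsg.Agent.Lib.Helper16.PG
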