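import Mathlib
import Cfsg.Prelude.Def_LieTypeDatum
import Cfsg.Agent.Lib.Helper16.PG24

set_option autoImplicit false
set_option linter.unusedSectionVars false
set_option linter.unusedVariables false

namespace Cfsg.Agent.Lib.Helper16.PG

open Matrix Module Cfsg.Agent.Lib.Helper16.SpSemi

universe u v

section
variable {F : Type u} [Field F] [Fintype F] [CharP F 2] {m : ℕ}

theorem mem_isoQ (g : GL (Unit ⊕ (Fin m ⊕ Fin m)) F) :
    g ∈ isoG (fun (u _ : Unit ⊕ (Fin m ⊕ Fin m) → F) => Cfsg.quadFormOdd m F u) ↔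
      ∀ u, Cfsg.quadFormOdd m F (g.1 *ᵥ u) = Cfsg.quadFormOdd m F u := by
  rw [mem_isoG_iff]
  constructor
  · intro h u; exact h u 0
  · intro h u _; exact h u

/-- in characteristic two, the isometry group of `quadFormOdd` is isomorphic to that of `stdB`. -/
theorem isoQ_equiv_isoB :
    Nonempty (↥(isoG (fun (u _ : Unit ⊕ (Fin m ⊕ Fin m) → F) => Cfsg.quadFormOdd m F u)) ≃*
      ↥(isoG (stdB m F))) := by
  set A := isoG (stdB m F) with hA
  set B := isoG (fun (u _ : Unit ⊕ (Fin m ⊕ Fin m) → F) => Cfsg.quadFormOdd m F u) with hB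
  have hBe : ∀ g : ↥B, g.1.1 *ᵥ e0v m F = e0v m F := fun g => isoQ_e0 g.1 ((mem_isoQ g.1).mp g.2)
  have hmem : ∀ (g : ↥B) (k : GL (Unit ⊕ (Fin m ⊕ Fin m)) F), k.1 = psiM g.1.1 → k ∈ A := by
    intro g k hk
    rw [hA, mem_isoG_iff]
    intro u v
    have hQ := (mem_isoQ g.1).mp g.2
    unfold stdB
    rw [hk, psiM_mulVec_zero, psiM_mulVec_zero, psiM_mulVec, psiM_mulVec, polar_add_e0, isoQ_polar _ hQ]
  let Ψ : ↥B → ↥A := fun g =>
    ⟨⟨psiM g.1.1, psiM (g⁻¹).1.1,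
      by rw [psiM_mul _ _ (hBe g), ← Units.val_mul, ← Subgroup.coe_mul, mul_inv_cancel, Subgroup.coe_one,
          Units.val_one, psiM_one],
      by rw [psiM_mul _ _ (hBe g⁻¹), ← Units.val_mul, ← Subgroup.coe_mul, inv_mul_cancel, Subgroup.coe_one,
          Units.val_one, psiM_one]⟩, hmem g _ rfl⟩
  have hΨval : ∀ g : ↥B, (Ψ g).1.1 = psiM g.1.1 := fun g => rfl
  have hmul : ∀ g₁ g₂ : ↥B, Ψ (g₁ * g₂) = Ψ g₁ * Ψ g₂ := by
    intro g₁ g₂
    apply Subtype.ext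
    apply Units.ext
    rw [Subgroup.coe_mul, Units.val_mul, hΨval, hΨval, hΨval, psiM_mul _ _ (hBe g₁), Subgroup.coe_mul,
      Units.val_mul]
  let ψ : ↥B →* ↥A := MonoidHom.mk' Ψ hmul
  have hinj : Function.Injective ψ := by
    intro g g' hgg
    have h1 : psiM g.1.1 = psiM g'.1.1 := by
      rw [← hΨval, ← hΨval]
      exact congrArg (fun x : ↥A => x.1.1) hgg
    apply Subtype.ext
    apply Units.ext
    apply Matrix.mulVec_injective
    funext u
    have h2 := congrArg (fun M => M *ᵥ u) h1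
    simp only [psiM_mulVec] at h2
    have hQ := (mem_isoQ g.1).mp g.2
    have hQ' := (mem_isoQ g'.1).mp g'.2
    obtain ⟨a, ha⟩ : ∃ a, a = (g.1.1 *ᵥ u) (Sum.inl ()) := ⟨_, rfl⟩
    obtain ⟨a', ha'⟩ : ∃ a', a' = (g'.1.1 *ᵥ u) (Sum.inl ()) := ⟨_, rfl⟩
    rw [← ha, ← ha'] at h2
    set c := a - a' with hc
    have h3 : g.1.1 *ᵥ u = g'.1.1 *ᵥ u + c • e0v m F := by
      rw [hc, eq_sub_of_add_eq h2]
      module
    have h5 : Cfsg.quadFormOdd m F (g.1.1 *ᵥ u) = Cfsg.quadFormOdd m F (g'.1.1 *ᵥ u) + c ^ 2 := by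
      rw [h3, qodd_add_e0]
    rw [hQ, hQ'] at h5
    have h6 : c = 0 := by
      have : c ^ 2 = 0 := by linear_combination -h5
      exact pow_eq_zero_iff (two_ne_zero) |>.mp this
    show g.1.1 *ᵥ u = g'.1.1 *ᵥ u
    rw [h3, h6, zero_smul, add_zero]
  have hsurj : Function.Surjective ψ := by
    intro h
    have hh : ∀ u v, stdB m F (h.1.1 *ᵥ u) (h.1.1 *ᵥ v) = stdB m F u v := (mem_isoG_iff _ _).mp h.2
    have hP := isoB_polar h.1.1 hh
    have he := isoB_e0 h.1 hh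
    have hunit := thetaM_isUnit h.1 hP he
    set g : GL (Unit ⊕ (Fin m ⊕ Fin m)) F := hunit.unit with hg
    have hgval : g.1 = thetaM h.1.1 hP := IsUnit.unit_spec hunit
    have hgmem : g ∈ B := by
      rw [hB, mem_isoQ]
      intro u
      rw [hgval, thetaM_qodd]
    refine ⟨⟨g, hgmem⟩, ?_⟩
    apply Subtype.ext
    apply Units.ext
    show psiM g.1 = h.1.1
    apply Matrix.mulVec_injective
    funext u
    show psiM g.1 *ᵥ u = h.1.1 *ᵥ u
    rw [psiM_mulVec, hgval, thetaM_mulVec, Pi.add_apply, Pi.smul_apply, e0v_zero, smul_eq_mul, mul_one,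
      isoB_zero h.1.1 hh]
    module
  exact ⟨MulEquiv.ofBijective ψ ⟨hinj, hsurj⟩⟩

end

end Cfsg.Agent.Lib.Helper16.PG
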