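import Mathlib
import Cfsg.Prelude.Def_LieTypeDatum
import Cfsg.Agent.Lib.Helper16.PG25

set_option autoImplicit false
set_option linter.unusedSectionVars false
set_option linter.unusedVariables false

namespace Cfsg.Agent.Lib.Helper16.PG

open Matrix Module Cfsg.Agent.Lib.Helper16.SpSemi

universe u v

section
variable {F : Type u} [Field F] [Fintype F] [CharP F 2]

/-- a symmetric non-alternating non-degenerate form in characteristic two is the dot product in suitable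
coordinates. -/
theorem char2_dot_form {V : Type v} [AddCommGroup V] [Module F V] [FiniteDimensional F V] {n : ℕ}
    (hV : finrank F V = n) (B : LinearMap.BilinForm F V) (hS : B.IsSymm) (hB : B.Nondegenerate)
    (hna : ∃ v : V, B v v ≠ 0) : ∃ L : V ≃ₗ[F] (Fin n → F), ∀ u v, B u v = L u ⬝ᵥ L v := by
  obtain ⟨b, hb⟩ := Cfsg.Agent.S2622.result hV B hS hB hna
  refine ⟨b.equivFun, ?_⟩
  intro u v
  rw [LinearMap.BilinForm.apply_eq_dotProduct_toMatrix_mulVec b B u v]
  have h1 : LinearMap.BilinForm.toMatrix b B = 1 := by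
    ext i j
    rw [LinearMap.BilinForm.toMatrix_apply, hb, Matrix.one_apply]
  rw [h1, Matrix.one_mulVec]
  rfl

/-- `stdB` as a bilinear form. -/
noncomputable def stdBF (m : ℕ) (F : Type u) [Field F] : LinearMap.BilinForm F (Unit ⊕ (Fin m ⊕ Fin m) → F) :=
  LinearMap.BilinForm.linMulLin (LinearMap.proj (Sum.inl ())) (LinearMap.proj (Sum.inl ())) +
    QuadraticMap.polarBilin (Cfsg.Agent.Lib.Helper16.qfOdd m F)

theorem stdBF_apply {m : ℕ} (u v : Unit ⊕ (Fin m ⊕ Fin m) → F) : stdBF m F u v = stdB m F u v := rfl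

theorem stdB_dot_form {m n : ℕ} (hnm : n = 2 * m + 1) :
    ∃ L : (Unit ⊕ (Fin m ⊕ Fin m) → F) ≃ₗ[F] (Fin n → F), ∀ u v, stdB m F u v = L u ⬝ᵥ L v := by
  have hV : finrank F (Unit ⊕ (Fin m ⊕ Fin m) → F) = n := by
    rw [Module.finrank_pi, Fintype.card_sum, Fintype.card_sum, Fintype.card_fin, Fintype.card_unit, hnm]
    ring
  have hsymm : ∀ u v, stdB m F u v = stdB m F v u := by
    intro u v
    unfold stdB
    rw [mul_comm, QuadraticMap.polar_comm]
  have hleft : ∀ u, (∀ v, stdB m F u v = 0) → u = 0 := by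
    intro u hu
    have h0 : u (Sum.inl ()) = 0 := by
      have := hu (e0v m F)
      unfold stdB at this
      rw [polar_e0_right, e0v_zero, mul_one, add_zero] at this
      exact this
    have h1 : ∀ v, QuadraticMap.polar (Cfsg.quadFormOdd m F) u v = 0 := by
      intro v
      have := hu v
      unfold stdB at this
      rw [h0, zero_mul, zero_add] at this
      exact this
    rw [rad_eq u h1, h0, zero_smul]
  obtain ⟨L, hL⟩ := char2_dot_form hV (stdBF m F) ⟨fun u v => by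
      rw [stdBF_apply, stdBF_apply, hsymm]⟩
    ⟨fun u hu => hleft u hu, fun v hv => hleft v (fun u => by rw [hsymm, ← stdBF_apply]; exact hv u)⟩
    ⟨e0v m F, by
      rw [stdBF_apply]
      unfold stdB
      rw [polar_self_char2, e0v_zero, mul_one, add_zero]
      exact one_ne_zero⟩
  exact ⟨L, fun u v => by rw [← stdBF_apply, hL]⟩

theorem quadSim_eq {ι : Type} [Fintype ι] [DecidableEq ι] (Q : (ι → F) → F) :
    Cfsg.Geo.quadSimilarityGroup Q = Cfsg.Geo.similarityGroup (fun u _ => Q u) := by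
  ext g
  constructor
  · rintro ⟨c, hc⟩
    exact ⟨c, fun u _ => hc u⟩
  · rintro ⟨c, hc⟩
    exact ⟨c, fun u => hc u 0⟩

theorem symm_dot_form {n : ℕ} (U : GL (Fin n) F) (hsymm : (U : Matrix (Fin n) (Fin n) F)ᵀ = U)
    (hna : ∃ v, bilM (U : Matrix (Fin n) (Fin n) F) v v ≠ 0) :
    ∃ L : (Fin n → F) ≃ₗ[F] (Fin n → F), ∀ u v, bilM (U : Matrix (Fin n) (Fin n) F) u v = L u ⬝ᵥ L v := by
  set B : LinearMap.BilinForm F (Fin n → F) := Matrix.toBilin' (U : Matrix (Fin n) (Fin n) F) with hB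
  have hBapp : ∀ u v, B u v = bilM (U : Matrix (Fin n) (Fin n) F) u v := by
    intro u v
    rw [hB, Matrix.toBilin'_apply']
    rfl
  have hV : finrank F (Fin n → F) = n := by
    rw [Module.finrank_pi, Fintype.card_fin]
  obtain ⟨v₀, hv₀⟩ := hna
  obtain ⟨L, hL⟩ := char2_dot_form hV B ⟨fun x y => by rw [hBapp, hBapp, bilM_symm _ hsymm]⟩
    ⟨fun u hu => bilM_left_nondeg U u (fun v => by rw [← hBapp]; exact hu v),
     fun v hv => bilM_right_nondeg U v (fun u => by rw [← hBapp]; exact hv u)⟩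
    ⟨v₀, by rw [hBapp]; exact hv₀⟩
  exact ⟨L, fun u v => by rw [← hBapp, hL]⟩

theorem conj_odd_dim_char2 {n : ℕ} (U U' : GL (Fin n) F)
    (hsymm : (U : Matrix (Fin n) (Fin n) F)ᵀ = U) (hsymm' : (U' : Matrix (Fin n) (Fin n) F)ᵀ = U')
    (hna : ∃ v, bilM (U : Matrix (Fin n) (Fin n) F) v v ≠ 0)
    (hna' : ∃ v, bilM (U' : Matrix (Fin n) (Fin n) F) v v ≠ 0) :
    Cfsg.IsConjUnder (Cfsg.inndiagPSL n F) (Phi n F U⁻¹ * iota n F) (Phi n F U'⁻¹ * iota n F) := by
  obtain ⟨L, hL⟩ := symm_dot_form U hsymm hna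
  obtain ⟨L', hL'⟩ := symm_dot_form U' hsymm' hna'
  refine conj_of_bil_equiv U U' (L'.trans L.symm) 1 ?_
  intro u v
  rw [hL', hL, Units.val_one, one_mul]
  show _ = L (L.symm (L' u)) ⬝ᵥ L (L.symm (L' v))
  rw [LinearEquiv.apply_symm_apply, LinearEquiv.apply_symm_apply]

theorem cent_odd_dim_char2 {n m : ℕ} (hnm : n = 2 * m + 1) (U : GL (Fin n) F)
    (hsymm : (U : Matrix (Fin n) (Fin n) F)ᵀ = U)
    (hna : ∃ v, bilM (U : Matrix (Fin n) (Fin n) F) v v ≠ 0) :
    Nonempty (↥(Cfsg.inndiagPSL n F ⊓ Subgroup.centralizer {Phi n F U⁻¹ * iota n F}) ≃*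
      Cfsg.PGO F (Cfsg.quadFormOdd m F)) := by
  obtain ⟨L, hL⟩ := symm_dot_form U hsymm hna
  obtain ⟨L₀, hL₀⟩ := stdB_dot_form (F := F) hnm
  obtain ⟨e0⟩ := cent_graph_equiv (U⁻¹ : GL (Fin n) F)
  rw [inv_inv] at e0
  obtain ⟨e1⟩ := bilSim_congr (bilM (U : Matrix (Fin n) (Fin n) F)) (stdB m F) (L₀.trans L.symm) 1 one_ne_zero (by
    intro u v
    rw [hL, hL₀, one_mul]
    show L (L.symm (L₀ u)) ⬝ᵥ L (L.symm (L₀ v)) = _
    rw [LinearEquiv.apply_symm_apply, LinearEquiv.apply_symm_apply])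
  obtain ⟨e2⟩ := char2_projQuot_iso (stdB m F) (by
      intro d u v
      unfold stdB
      have h1 : ∀ x y, QuadraticMap.polar (Cfsg.quadFormOdd m F) x y =
        QuadraticMap.polar (⇑(Cfsg.Agent.Lib.Helper16.qfOdd m F)) x y := fun x y => rfl
      rw [h1, QuadraticMap.polar_smul_left, QuadraticMap.polar_smul_right, ← h1]
      simp only [Pi.smul_apply, smul_eq_mul]
      ring) (by
      refine ⟨e0v m F, e0v m F, ?_⟩
      unfold stdB
      rw [polar_self_char2, e0v_zero, mul_one, add_zero]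
      exact one_ne_zero)
  obtain ⟨e3⟩ := isoQ_equiv_isoB (F := F) (m := m)
  obtain ⟨e4⟩ := char2_projQuot_iso (fun (u _ : Unit ⊕ (Fin m ⊕ Fin m) → F) => Cfsg.quadFormOdd m F u) (by
      intro d u v
      show Cfsg.quadFormOdd m F (d • u) = d ^ 2 * Cfsg.quadFormOdd m F u
      exact qodd_smul d u) (by
      refine ⟨e0v m F, 0, ?_⟩
      show Cfsg.quadFormOdd m F (e0v m F) ≠ 0
      have := qodd_smul_e0 (m := m) (1 : F)
      rw [one_smul, one_pow] at this
      rw [this]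
      exact one_ne_zero)
  have e5 : Cfsg.projQuot (Cfsg.Geo.similarityGroup (fun (u _ : Unit ⊕ (Fin m ⊕ Fin m) → F) => Cfsg.quadFormOdd m F u))
      ≃* Cfsg.PGO F (Cfsg.quadFormOdd m F) := by
    unfold Cfsg.PGO
    rw [quadSim_eq]
  exact ⟨e0.trans (e1.trans (e2.symm.trans (e3.symm.trans (e4.trans e5))))⟩

end

end Cfsg.Agent.Lib.Helper16.PG
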