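import Mathlib
import Cfsg.Prelude.Def_LieTypeDatum
import Cfsg.Agent.Lib.Helper16.PG26

set_option autoImplicit false
set_option linter.unusedSectionVars false
set_option linter.unusedVariables false

namespace Cfsg.Agent.Lib.Helper16.PG

open Matrix Module Cfsg.Agent.Lib.Helper16.SpSemi

universe u v

section
variable {F : Type u} [Field F] [Fintype F]

theorem graph_odd_dim {n : ℕ} (hn : 3 ≤ n) {m : ℕ} (hnm : n = 2 * m + 1)
    (γ γ' : MulAut (Matrix.ProjectiveSpecialLinearGroup (Fin n) F))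
    (hγ : Cfsg.IsGraphAutClassPSL γ) (hγ2 : orderOf γ = 2) (hγ' : Cfsg.IsGraphAutClassPSL γ')
    (hγ'2 : orderOf γ' = 2) :
    Nonempty (↥(Cfsg.inndiagPSL n F ⊓ Subgroup.centralizer {γ}) ≃* Cfsg.PGO F (Cfsg.quadFormOdd m F)) ∧
      Cfsg.IsConjUnder (Cfsg.inndiagPSL n F) γ γ' := by
  have hodd : Odd n := ⟨m, hnm⟩
  obtain ⟨U, rfl⟩ := graph_of_isGraphAut γ hγ
  obtain ⟨U', rfl⟩ := graph_of_isGraphAut γ' hγ'
  have hsq : (Phi n F U⁻¹ * iota n F) * (Phi n F U⁻¹ * iota n F) = 1 := by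
    rw [← pow_two, ← hγ2]
    exact pow_orderOf_eq_one _
  have hsq' : (Phi n F U'⁻¹ * iota n F) * (Phi n F U'⁻¹ * iota n F) = 1 := by
    rw [← pow_two, ← hγ'2]
    exact pow_orderOf_eq_one _
  have hsymm := graph_symm_of_odd hodd U hsq
  have hsymm' := graph_symm_of_odd hodd U' hsq'
  by_cases h2 : (2 : F) = 0
  · have : CharP F 2 := CharTwo.of_one_ne_zero_of_two_eq_zero one_ne_zero h2
    exact ⟨cent_odd_dim_char2 hnm U hsymm (nonalt_of_odd_dim hodd U),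
      conj_odd_dim_char2 U U' hsymm hsymm' (nonalt_of_odd_dim hodd U) (nonalt_of_odd_dim hodd U')⟩
  · exact ⟨cent_odd_dim_oddq h2 hnm U hsymm, conj_odd_dim_oddq h2 hnm U U' hsymm hsymm'⟩

end

end Cfsg.Agent.Lib.Helper16.PG
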