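import Mathlib
import Cfsg.Prelude.Def_LieTypeDatum
import Cfsg.Prelude.Def_KGroupFacts
import Cfsg.Agent.Lib.Helper16.GF3
import Cfsg.Agent.Lib.Helper16.PG27

set_option autoImplicit false
set_option linter.unusedSectionVars false
set_option linter.unusedVariables false

namespace Cfsg.Agent.Lib.Helper16.GS

open Matrix Cfsg.Agent.Lib.Helper16.PG Cfsg.Agent.Lib.Helper16.AP

universe u

section
variable {n : ℕ} {F : Type u} [Field F] [Fintype F]

/-- the matrices commuting with a graph automorphism modulo scalars are the similitudes of its Gram matrix. -/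
theorem comap_centralizer_graph (U : GL (Fin n) F) :
    (Subgroup.centralizer {Phi n F U⁻¹ * iota n F}).comap (Phi n F) =
      Cfsg.Geo.similarityGroup (bilM (U : Matrix (Fin n) (Fin n) F)) := by
  ext h
  rw [Subgroup.mem_comap, Subgroup.mem_centralizer_iff]
  have key := comm_graph_iff (U⁻¹ : GL (Fin n) F) h
  rw [inv_inv] at key
  constructor
  · intro hc
    exact key.mp (hc _ (Set.mem_singleton _)).symm
  · intro hh y hy
    rw [Set.mem_singleton_iff] at hy
    subst hy
    exact (key.mpr hh).symm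

/-- the split class count of a graph automorphism. -/
theorem splitClassCount_graph (hn1 : 1 ≤ n) (U : GL (Fin n) F) :
    Cfsg.splitClassCount (Phi n F).range (Cfsg.Inn (ProjectiveSpecialLinearGroup (Fin n) F))
      (Phi n F U⁻¹ * iota n F) =
      ((powMonoidHom n : Fˣ →* Fˣ).range ⊔
        (Cfsg.Geo.similarityGroup (bilM (U : Matrix (Fin n) (Fin n) F))).map
          (Matrix.GeneralLinearGroup.det : GL (Fin n) F →* Fˣ)).index := by
  have : Nonempty (Fin n) := ⟨⟨0, by omega⟩⟩
  rw [SC.splitClassCount_via_hom (Phi n F) (Matrix.GeneralLinearGroup.det : GL (Fin n) F →* Fˣ)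
    Matrix.GeneralLinearGroup.det_surjective ((powMonoidHom n : Fˣ →* Fˣ).range) _ AF.Inn_le_range_Phi
    AF.comap_Inn_eq, comap_centralizer_graph]

/-- the determinant of a similitude squares to the `n`-th power of the multiplier. -/
theorem det_sq_of_sim (U h : GL (Fin n) F) (c : Fˣ)
    (hc : (h : Matrix (Fin n) (Fin n) F)ᵀ * (U : Matrix (Fin n) (Fin n) F) * (h : Matrix (Fin n) (Fin n) F) =
      (c : F) • (U : Matrix (Fin n) (Fin n) F)) :
    (Matrix.GeneralLinearGroup.det h) ^ 2 = c ^ n := by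
  apply Units.ext
  rw [Units.val_pow_eq_pow_val, Units.val_pow_eq_pow_val, Matrix.GeneralLinearGroup.val_det_apply]
  have h1 := congrArg Matrix.det hc
  rw [Matrix.det_mul, Matrix.det_mul, Matrix.det_transpose, Matrix.det_smul, Fintype.card_fin] at h1
  have hU : (U : Matrix (Fin n) (Fin n) F).det ≠ 0 :=
    ((Matrix.isUnit_iff_isUnit_det _).mp U.isUnit).ne_zero
  have h2 : ((h : Matrix (Fin n) (Fin n) F).det ^ 2 - (c : F) ^ n) * (U : Matrix (Fin n) (Fin n) F).det = 0 := by
    linear_combination h1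
  rcases mul_eq_zero.mp h2 with h3 | h3
  · exact sub_eq_zero.mp h3
  · exact absurd h3 hU

theorem index_pow_range (k : ℕ) :
    ((powMonoidHom k : Fˣ →* Fˣ).range).index = Nat.gcd k (Fintype.card F - 1) := by
  rw [IsCyclic.index_powMonoidHom_range, Nat.card_units, Nat.card_eq_fintype_card, Nat.gcd_comm]

/-- when all determinants of similitudes are `n`-th powers, the class splits as much as possible. -/
theorem splitClassCount_graph_of_le (hn1 : 1 ≤ n) (U : GL (Fin n) F)
    (hle : (Cfsg.Geo.similarityGroup (bilM (U : Matrix (Fin n) (Fin n) F))).map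
      (Matrix.GeneralLinearGroup.det : GL (Fin n) F →* Fˣ) ≤ (powMonoidHom n : Fˣ →* Fˣ).range) :
    Cfsg.splitClassCount (Phi n F).range (Cfsg.Inn (ProjectiveSpecialLinearGroup (Fin n) F))
      (Phi n F U⁻¹ * iota n F) = Nat.gcd n (Fintype.card F - 1) := by
  rw [splitClassCount_graph hn1, sup_of_le_left hle, index_pow_range]

/-- odd dimension: determinants of similitudes are `n`-th powers. -/
theorem det_sim_odd (hn : Odd n) (U : GL (Fin n) F) :
    (Cfsg.Geo.similarityGroup (bilM (U : Matrix (Fin n) (Fin n) F))).map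
      (Matrix.GeneralLinearGroup.det : GL (Fin n) F →* Fˣ) ≤ (powMonoidHom n : Fˣ →* Fˣ).range := by
  rintro _ ⟨h, hh, rfl⟩
  obtain ⟨c, hc⟩ := (mem_simM_iff _ h).mp hh
  have hd := det_sq_of_sim U h c hc
  obtain ⟨k, hk⟩ := hn
  set d := Matrix.GeneralLinearGroup.det h with hd_def
  set ν : Fˣ := d * (c ^ k)⁻¹ with hν
  have h1 : ν ^ 2 = c := by
    rw [hν, mul_pow, hd, hk, inv_pow, ← pow_mul, pow_succ, mul_comm k 2]
    rw [mul_comm, ← mul_assoc, inv_mul_cancel, one_mul]
  have h2 : (d * (ν ^ n)⁻¹) ^ 2 = 1 := by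
    rw [mul_pow, hd, inv_pow, ← pow_mul, mul_comm n 2, pow_mul, h1, mul_inv_cancel]
  have h3 : ((d * (ν ^ n)⁻¹ : Fˣ) : F) = 1 ∨ ((d * (ν ^ n)⁻¹ : Fˣ) : F) = -1 := by
    have h4 : ((d * (ν ^ n)⁻¹ : Fˣ) : F) ^ 2 = 1 := by
      rw [← Units.val_pow_eq_pow_val, h2, Units.val_one]
    have h5 : (((d * (ν ^ n)⁻¹ : Fˣ) : F) - 1) * (((d * (ν ^ n)⁻¹ : Fˣ) : F) + 1) = 0 := by
      linear_combination h4
    rcases mul_eq_zero.mp h5 with h6 | h6
    · left; exact sub_eq_zero.mp h6
    · right; exact eq_neg_of_add_eq_zero_left h6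
  rcases h3 with h3 | h3
  · refine ⟨ν, ?_⟩
    rw [powMonoidHom_apply]
    have : d * (ν ^ n)⁻¹ = 1 := Units.ext (by rw [h3, Units.val_one])
    exact (mul_inv_eq_one.mp this).symm
  · refine ⟨-ν, ?_⟩
    rw [powMonoidHom_apply]
    have hodd : Odd n := ⟨k, hk⟩
    rw [hodd.neg_pow]
    have : d * (ν ^ n)⁻¹ = -1 := Units.ext (by rw [h3, Units.val_neg, Units.val_one])
    rw [mul_inv_eq_iff_eq_mul] at this
    rw [this, neg_one_mul]

/-- characteristic two: determinants of similitudes are `n`-th powers in even dimension. -/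
theorem det_sim_char2 [CharP F 2] (hn : Even n) (U : GL (Fin n) F) :
    (Cfsg.Geo.similarityGroup (bilM (U : Matrix (Fin n) (Fin n) F))).map
      (Matrix.GeneralLinearGroup.det : GL (Fin n) F →* Fˣ) ≤ (powMonoidHom n : Fˣ →* Fˣ).range := by
  rintro _ ⟨h, hh, rfl⟩
  obtain ⟨c, hc⟩ := (mem_simM_iff _ h).mp hh
  have hd := det_sq_of_sim U h c hc
  obtain ⟨k, hk⟩ := hn
  set d := Matrix.GeneralLinearGroup.det h with hd_def
  have hsq : IsSquare (c : F) := FiniteField.isSquare_of_char_two (CharP.ringChar_of_prime_eq_zero Nat.prime_two (CharP.cast_eq_zero F 2)) _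
  obtain ⟨e, he⟩ := hsq
  have he0 : e ≠ 0 := by
    intro h0
    rw [h0, mul_zero] at he
    exact c.ne_zero he
  refine ⟨Units.mk0 e he0, ?_⟩
  rw [powMonoidHom_apply]
  apply Units.ext
  rw [Units.val_pow_eq_pow_val, Units.val_mk0]
  have h1 : (d : F) * (d : F) = (e ^ n) * (e ^ n) := by
    have := congrArg Units.val hd
    rw [Units.val_pow_eq_pow_val, Units.val_pow_eq_pow_val, he] at this
    rw [← pow_two, this, hk]
    ring
  exact (sq_inj_char2 _ _ h1).symm

end

end Cfsg.Agent.Lib.Helper16.GS
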