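import Mathlib
import Cfsg.Prelude.Def_LieTypeDatum
import Cfsg.Prelude.Def_KGroupFacts
import Cfsg.Agent.Lib.Helper16.GS1
import Cfsg.Agent.Lib.Helper16.PG13

set_option autoImplicit false
set_option linter.unusedSectionVars false
set_option linter.unusedVariables false

namespace Cfsg.Agent.Lib.Helper16.GS

open Matrix Cfsg.Agent.Lib.Helper16.PG Cfsg.Agent.Lib.Helper16.AP

universe u

section
variable {F : Type u} [Field F]
variable {a b : Type} [Fintype a] [DecidableEq a] [Fintype b] [DecidableEq b]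

theorem det_conjGL (P : Matrix a b F) (Pi : Matrix b a F) (h1 : P * Pi = 1) (h2 : Pi * P = 1) (h : GL a F) :
    Matrix.GeneralLinearGroup.det (conjGL P Pi h1 h2 h) = Matrix.GeneralLinearGroup.det h := by
  apply Units.ext
  rw [Matrix.GeneralLinearGroup.val_det_apply, Matrix.GeneralLinearGroup.val_det_apply, conjGL_val]
  exact Matrix.det_conj_of_mul_eq_one h2 h1

/-- determinants of similitudes are transported along an equivalence of forms. -/
theorem map_det_sim_le (f : (a → F) → (a → F) → F) (f' : (b → F) → (b → F) → F) (T : (b → F) ≃ₗ[F] (a → F))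
    (c₀ : F) (hc₀ : c₀ ≠ 0) (hT : ∀ u v, f (T u) (T v) = c₀ * f' u v) :
    (Cfsg.Geo.similarityGroup f).map (Matrix.GeneralLinearGroup.det : GL a F →* Fˣ) ≤
      (Cfsg.Geo.similarityGroup f').map (Matrix.GeneralLinearGroup.det : GL b F →* Fˣ) := by
  set P : Matrix a b F := LinearMap.toMatrix' T.toLinearMap with hP
  set Pi : Matrix b a F := LinearMap.toMatrix' T.symm.toLinearMap with hPi
  have h1 : P * Pi = 1 := by
    rw [hP, hPi, ← LinearMap.toMatrix'_comp, LinearEquiv.comp_coe, LinearEquiv.symm_trans_self,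
      LinearEquiv.refl_toLinearMap, LinearMap.toMatrix'_id]
  have h2 : Pi * P = 1 := by
    rw [hP, hPi, ← LinearMap.toMatrix'_comp, LinearEquiv.comp_coe, LinearEquiv.self_trans_symm,
      LinearEquiv.refl_toLinearMap, LinearMap.toMatrix'_id]
  have hPv : ∀ v, P *ᵥ v = T v := by
    intro v
    rw [hP, LinearMap.toMatrix'_mulVec]
    rfl
  have key : ∀ (h : GL a F) (v : b → F), T ((Pi * (h : Matrix a a F) * P) *ᵥ v) = (h : Matrix a a F) *ᵥ (T v) := by
    intro h v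
    rw [← hPv, Matrix.mulVec_mulVec, ← Matrix.mul_assoc, ← Matrix.mul_assoc, h1, Matrix.one_mul,
      ← Matrix.mulVec_mulVec, hPv]
  rintro _ ⟨h, ⟨c, hc⟩, rfl⟩
  refine ⟨conjGL P Pi h1 h2 h, ⟨c, fun u v => ?_⟩, det_conjGL P Pi h1 h2 h⟩
  rw [conjGL_val]
  have h3 := hT ((Pi * (h : Matrix a a F) * P) *ᵥ u) ((Pi * (h : Matrix a a F) * P) *ᵥ v)
  rw [key, key, hc, hT] at h3
  have h5 : c₀ * f' ((Pi * (h : Matrix a a F) * P) *ᵥ u) ((Pi * (h : Matrix a a F) * P) *ᵥ v) =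
      c₀ * ((c : F) * f' u v) := by
    rw [← h3]; ring
  exact mul_left_cancel₀ hc₀ h5

theorem map_det_sim_congr (f : (a → F) → (a → F) → F) (f' : (b → F) → (b → F) → F) (T : (b → F) ≃ₗ[F] (a → F))
    (c₀ : F) (hc₀ : c₀ ≠ 0) (hT : ∀ u v, f (T u) (T v) = c₀ * f' u v) :
    (Cfsg.Geo.similarityGroup f).map (Matrix.GeneralLinearGroup.det : GL a F →* Fˣ) =
      (Cfsg.Geo.similarityGroup f').map (Matrix.GeneralLinearGroup.det : GL b F →* Fˣ) := by
  apply le_antisymm (map_det_sim_le f f' T c₀ hc₀ hT)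
  apply map_det_sim_le f' f T.symm c₀⁻¹ (inv_ne_zero hc₀)
  intro u v
  have := hT (T.symm u) (T.symm v)
  rw [LinearEquiv.apply_symm_apply, LinearEquiv.apply_symm_apply] at this
  rw [this, ← mul_assoc, inv_mul_cancel₀ hc₀, one_mul]

end

section
variable {F : Type u} [Field F]

theorem sympForm_eq_bilM (m : ℕ) : Cfsg.sympForm m F = bilM (Matrix.J (Fin m) F) := rfl

theorem Dc_sim (m : ℕ) (c : F) :
    (fromBlocks (c • (1 : Matrix (Fin m) (Fin m) F)) 0 0 1)ᵀ * Matrix.J (Fin m) F *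
      fromBlocks (c • (1 : Matrix (Fin m) (Fin m) F)) 0 0 1 = c • Matrix.J (Fin m) F := by
  simp [Matrix.J, Matrix.fromBlocks_transpose, Matrix.fromBlocks_multiply, Matrix.fromBlocks_smul]

theorem Dc_mul (m : ℕ) (c d : F) (hcd : c * d = 1) :
    fromBlocks (c • (1 : Matrix (Fin m) (Fin m) F)) 0 0 (1 : Matrix (Fin m) (Fin m) F) *
      fromBlocks (d • (1 : Matrix (Fin m) (Fin m) F)) 0 0 (1 : Matrix (Fin m) (Fin m) F) = 1 := by
  have hdc : d * c = 1 := by rw [mul_comm]; exact hcd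
  simp [Matrix.fromBlocks_multiply, smul_smul, hdc, Matrix.fromBlocks_one]

theorem Dc_det (m : ℕ) (c : F) :
    (fromBlocks (c • (1 : Matrix (Fin m) (Fin m) F)) 0 0 (1 : Matrix (Fin m) (Fin m) F)).det = c ^ m := by
  rw [Matrix.det_fromBlocks_zero₂₁, Matrix.det_smul, Matrix.det_one, Fintype.card_fin, mul_one, mul_one]

noncomputable def DcG (m : ℕ) (c : Fˣ) : GL (Fin m ⊕ Fin m) F :=
  ⟨fromBlocks ((c : F) • (1 : Matrix (Fin m) (Fin m) F)) 0 0 1,
    fromBlocks (((c⁻¹ : Fˣ) : F) • (1 : Matrix (Fin m) (Fin m) F)) 0 0 1,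
    Dc_mul m _ _ (by rw [← Units.val_mul, mul_inv_cancel, Units.val_one]),
    Dc_mul m _ _ (by rw [← Units.val_mul, inv_mul_cancel, Units.val_one])⟩

theorem DcG_val (m : ℕ) (c : Fˣ) :
    ((DcG m c : GL (Fin m ⊕ Fin m) F) : Matrix (Fin m ⊕ Fin m) (Fin m ⊕ Fin m) F) =
      fromBlocks ((c : F) • (1 : Matrix (Fin m) (Fin m) F)) 0 0 1 := rfl

theorem DcG_mem (m : ℕ) (c : Fˣ) : DcG m c ∈ Cfsg.Geo.similarityGroup (Cfsg.sympForm m F) := by
  rw [sympForm_eq_bilM, mem_simM_iff]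
  exact ⟨c, by rw [DcG_val, Dc_sim]⟩

theorem DcG_det (m : ℕ) (c : Fˣ) : Matrix.GeneralLinearGroup.det (DcG m c) = c ^ m := by
  apply Units.ext
  rw [Matrix.GeneralLinearGroup.val_det_apply, DcG_val, Dc_det, Units.val_pow_eq_pow_val]

/-- the determinant of a symplectic similitude is the `m`-th power of its multiplier. -/
theorem det_of_sympl_sim (m : ℕ) (h : GL (Fin m ⊕ Fin m) F) (c : Fˣ)
    (hc : (h : Matrix (Fin m ⊕ Fin m) (Fin m ⊕ Fin m) F)ᵀ * Matrix.J (Fin m) F * (h : Matrix _ _ F) =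
      (c : F) • Matrix.J (Fin m) F) :
    Matrix.GeneralLinearGroup.det h = c ^ m := by
  set D : Matrix (Fin m ⊕ Fin m) (Fin m ⊕ Fin m) F :=
    fromBlocks (((c⁻¹ : Fˣ) : F) • (1 : Matrix (Fin m) (Fin m) F)) 0 0 1 with hD
  have hA : ((h : Matrix _ _ F) * D) ∈ Matrix.symplecticGroup (Fin m) F := by
    rw [SymplecticGroup.mem_iff']
    rw [Matrix.transpose_mul]
    calc Dᵀ * (h : Matrix (Fin m ⊕ Fin m) (Fin m ⊕ Fin m) F)ᵀ * Matrix.J (Fin m) F * ((h : Matrix _ _ F) * D)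
        = Dᵀ * ((h : Matrix (Fin m ⊕ Fin m) (Fin m ⊕ Fin m) F)ᵀ * Matrix.J (Fin m) F * (h : Matrix _ _ F)) * D := by
          simp only [Matrix.mul_assoc]
      _ = (c : F) • (Dᵀ * Matrix.J (Fin m) F * D) := by
          rw [hc, Matrix.mul_smul, Matrix.smul_mul]
      _ = Matrix.J (Fin m) F := by
          rw [hD, Dc_sim, smul_smul, ← Units.val_mul, mul_inv_cancel, Units.val_one, one_smul]
  have hdet := SymplecticGroup.det_eq_one hA
  rw [Matrix.det_mul, hD, Dc_det] at hdet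
  apply Units.ext
  rw [Matrix.GeneralLinearGroup.val_det_apply, Units.val_pow_eq_pow_val]
  have h1 : ((c⁻¹ : Fˣ) : F) ^ m * (c : F) ^ m = 1 := by
    rw [← mul_pow, ← Units.val_mul, inv_mul_cancel, Units.val_one, one_pow]
  calc (h : Matrix (Fin m ⊕ Fin m) (Fin m ⊕ Fin m) F).det
      = (h : Matrix (Fin m ⊕ Fin m) (Fin m ⊕ Fin m) F).det * (((c⁻¹ : Fˣ) : F) ^ m * (c : F) ^ m) := by
        rw [h1, mul_one]
    _ = (c : F) ^ m := by rw [← mul_assoc, hdet, one_mul]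

theorem map_det_GSp (m : ℕ) :
    (Cfsg.Geo.similarityGroup (Cfsg.sympForm m F)).map
      (Matrix.GeneralLinearGroup.det : GL (Fin m ⊕ Fin m) F →* Fˣ) = (powMonoidHom m : Fˣ →* Fˣ).range := by
  apply le_antisymm
  · rintro _ ⟨h, hh, rfl⟩
    rw [SetLike.mem_coe, sympForm_eq_bilM, mem_simM_iff] at hh
    obtain ⟨c, hc⟩ := hh
    exact ⟨c, (det_of_sympl_sim m h c hc).symm⟩
  · rintro _ ⟨c, rfl⟩
    exact ⟨DcG m c, DcG_mem m c, DcG_det m c⟩

theorem pow_range_le_of_dvd (k l : ℕ) (h : k ∣ l) :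
    (powMonoidHom l : Fˣ →* Fˣ).range ≤ (powMonoidHom k : Fˣ →* Fˣ).range := by
  rintro _ ⟨x, rfl⟩
  obtain ⟨d, rfl⟩ := h
  exact ⟨x ^ d, by rw [powMonoidHom_apply, powMonoidHom_apply, ← pow_mul, mul_comm]⟩

/-- symplectic type: the class splits into `gcd(n/2, q-1)` classes. -/
theorem splitClassCount_graph_sympl [Fintype F] {n : ℕ} (hn1 : 1 ≤ n) {m : ℕ} (hnm : n = 2 * m)
    (T : (Fin n → F) ≃ₗ[F] (Fin m ⊕ Fin m → F)) (U : GL (Fin n) F)
    (hU : ∀ u v, bilM (U : Matrix (Fin n) (Fin n) F) u v = Cfsg.sympForm m F (T u) (T v)) :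
    Cfsg.splitClassCount (Phi n F).range (Cfsg.Inn (ProjectiveSpecialLinearGroup (Fin n) F))
      (Phi n F U⁻¹ * iota n F) = Nat.gcd m (Fintype.card F - 1) := by
  rw [splitClassCount_graph hn1,
    map_det_sim_congr (bilM (U : Matrix (Fin n) (Fin n) F)) (Cfsg.sympForm m F) T.symm 1 one_ne_zero (by
      intro u v
      rw [hU, LinearEquiv.apply_symm_apply, LinearEquiv.apply_symm_apply, one_mul]),
    map_det_GSp, sup_of_le_right (pow_range_le_of_dvd m n ⟨2, by omega⟩), index_pow_range]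

end

end Cfsg.Agent.Lib.Helper16.GS
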