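import Mathlib
import Cfsg.Prelude.Def_LieTypeDatum
import Cfsg.Prelude.Def_KGroupFacts
import Cfsg.Agent.Lib.Helper16.GS2
import Cfsg.Agent.Lib.Helper16.SpinA
import Cfsg.Agent.Lib.Helper16.SC2

set_option autoImplicit false
set_option linter.unusedSectionVars false
set_option linter.unusedVariables false

namespace Cfsg.Agent.Lib.Helper16.GS

open Matrix Module Cfsg.Agent.Lib.Helper16.PG Cfsg.Agent.Lib.Helper16.AP Cfsg.Agent.Lib.Helper16.OSemi
  Cfsg.Agent.Lib.Helper16.SpSemi

universe u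

section
variable {F : Type u} [Field F]

theorem isType_smul [Fintype F] {W : Type*} (f : W → F) (c : F) (hc : c ≠ 0) (m : ℕ) (s : ℤ) :
    IsType (fun w => c * f w) m s ↔ IsType f m s := by
  unfold IsType
  have : cnt (fun w => c * f w) 0 = cnt f 0 := by
    unfold cnt
    apply Nat.card_congr
    apply Equiv.subtypeEquivRight
    intro w
    simp [hc]
  rw [this]

/-- a non-degenerate quadratic form of even dimension over a finite field has similitudes with
every multiplier. -/
theorem exists_similitude [Fintype F] {ι : Type} [Fintype ι] [DecidableEq ι]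
    (Q : QuadraticForm F (ι → F)) (hnd : (QuadraticMap.polarBilin Q).Nondegenerate) (m : ℕ) (hm : 1 ≤ m)
    (hcard : Fintype.card ι = 2 * m) (c : F) (hc : c ≠ 0) :
    ∃ Ψ : (ι → F) ≃ₗ[F] (ι → F), ∀ v, Q (Ψ v) = c * Q v := by
  set Q' : QuadraticForm F (ι → F) := c • Q with hQ'
  have hQ'app : ∀ v, Q' v = c * Q v := fun v => rfl
  have hpol : ∀ u v, QuadraticMap.polar (⇑Q') u v = c * QuadraticMap.polar (⇑Q) u v := by
    intro u v
    unfold QuadraticMap.polar
    rw [hQ'app, hQ'app, hQ'app]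
    ring
  have hnd' : (QuadraticMap.polarBilin Q').Nondegenerate := by
    refine ⟨?_, ?_⟩
    · intro u hu
      apply hnd.1 u
      intro v
      have := hu v
      rw [QuadraticMap.polarBilin_apply_apply, hpol] at this
      rw [QuadraticMap.polarBilin_apply_apply]
      exact (mul_eq_zero.mp this).resolve_left hc
    · intro v hv
      apply hnd.2 v
      intro u
      have := hv u
      rw [QuadraticMap.polarBilin_apply_apply, hpol] at this
      rw [QuadraticMap.polarBilin_apply_apply]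
      exact (mul_eq_zero.mp this).resolve_left hc
  have hfun : (⇑Q' : (ι → F) → F) = fun w => c * Q w := by
    funext w; exact hQ'app w
  rcases classify hm hcard Q hnd with ⟨Φ, hΦ⟩ | ⟨ζ, hζ, Φ, hΦ⟩
  · have h1 : IsType (⇑Q) m 1 := (isType_of_equiv (⇑Q) _ Φ hΦ m 1).mpr (isType_plus m)
    have h2 : IsType (⇑Q') m 1 := by
      rw [hfun]
      exact (isType_smul (⇑Q) c hc m 1).mpr h1
    obtain ⟨Φ', hΦ'⟩ := to_std_plus Q' hnd' m hm hcard h2
    refine ⟨Φ'.symm.trans Φ, fun v => ?_⟩
    rw [LinearEquiv.trans_apply, hΦ, ← hΦ', hQ'app, LinearEquiv.apply_symm_apply]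
  · have h0 := isType_minus (m - 1) 1 ζ (aniso_of_irred ζ hζ)
    rw [show m - 1 + 1 = m by omega] at h0
    have h1 : IsType (⇑Q) m (-1) := (isType_of_equiv (⇑Q) _ Φ hΦ m (-1)).mpr h0
    have h2 : IsType (⇑Q') m (-1) := by
      rw [hfun]
      exact (isType_smul (⇑Q) c hc m (-1)).mpr h1
    obtain ⟨Φ', hΦ'⟩ := to_std_minus Q' hnd' m hm hcard h2 1 ζ (aniso_of_irred ζ hζ)
    refine ⟨Φ'.symm.trans Φ, fun v => ?_⟩
    rw [LinearEquiv.trans_apply, hΦ, ← hΦ', hQ'app, LinearEquiv.apply_symm_apply]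

/-- a matrix scaling the quadratic form of a symmetric Gram matrix scales the bilinear form. -/
theorem sim_of_quad {ι : Type} [Fintype ι] [DecidableEq ι] (h2 : (2 : F) ≠ 0) (M : Matrix ι ι F)
    (hM : Mᵀ = M) (k : Matrix ι ι F) (c : F)
    (hq : ∀ v, bilM M (k *ᵥ v) (k *ᵥ v) = c * bilM M v v) : kᵀ * M * k = c • M := by
  apply mat_ext_bilin
  intro u v
  rw [bilin_congr]
  show bilM M (k *ᵥ u) (k *ᵥ v) = u ⬝ᵥ (c • M) *ᵥ v
  rw [Matrix.smul_mulVec, dotProduct_smul, smul_eq_mul]
  show _ = c * bilM M u v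
  have h3 := hq (u + v)
  rw [Matrix.mulVec_add, bilM_add_left, bilM_add_right, bilM_add_right, hq u, hq v,
    bilM_symm M hM (k *ᵥ v) (k *ᵥ u),
    bilM_add_left, bilM_add_right, bilM_add_right, bilM_symm M hM v u] at h3
  have h4 : 2 * bilM M (k *ᵥ u) (k *ᵥ v) = 2 * (c * bilM M u v) := by
    linear_combination h3
  exact mul_left_cancel₀ h2 h4

theorem sq_eq_one_units (x : Fˣ) (h : x ^ 2 = 1) : x = 1 ∨ x = -1 := by
  have h4 : (x : F) ^ 2 = 1 := by
    rw [← Units.val_pow_eq_pow_val, h, Units.val_one]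
  have h5 : ((x : F) - 1) * ((x : F) + 1) = 0 := by
    linear_combination h4
  rcases mul_eq_zero.mp h5 with h6 | h6
  · left; exact Units.ext (by rw [Units.val_one]; exact sub_eq_zero.mp h6)
  · right; exact Units.ext (by rw [Units.val_neg, Units.val_one]; exact eq_neg_of_add_eq_zero_left h6)

/-- symmetric Gram matrix, even dimension, odd characteristic: the determinants of similitudes. -/
theorem map_det_sim_symm [Fintype F] (h2 : (2 : F) ≠ 0) {n m : ℕ} (hm : 1 ≤ m) (hnm : n = 2 * m)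
    (U : GL (Fin n) F) (hsymm : (U : Matrix (Fin n) (Fin n) F)ᵀ = U) :
    (powMonoidHom n : Fˣ →* Fˣ).range ⊔
      (Cfsg.Geo.similarityGroup (bilM (U : Matrix (Fin n) (Fin n) F))).map
        (Matrix.GeneralLinearGroup.det : GL (Fin n) F →* Fˣ) =
    (powMonoidHom m : Fˣ →* Fˣ).range ⊔ Subgroup.zpowers (-1 : Fˣ) := by
  have hn1 : 1 ≤ n := by omega
  set D := (Cfsg.Geo.similarityGroup (bilM (U : Matrix (Fin n) (Fin n) F))).map
        (Matrix.GeneralLinearGroup.det : GL (Fin n) F →* Fˣ) with hD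
  -- the form of determinants
  have hform : ∀ (h : GL (Fin n) F) (c : Fˣ),
      (h : Matrix (Fin n) (Fin n) F)ᵀ * (U : Matrix (Fin n) (Fin n) F) * (h : Matrix (Fin n) (Fin n) F) =
        (c : F) • (U : Matrix (Fin n) (Fin n) F) →
      Matrix.GeneralLinearGroup.det h = c ^ m ∨ Matrix.GeneralLinearGroup.det h = -(c ^ m) := by
    intro h c hc
    have hd := det_sq_of_sim U h c hc
    have h1 : (Matrix.GeneralLinearGroup.det h * (c ^ m)⁻¹) ^ 2 = 1 := by
      rw [mul_pow, hd, hnm, inv_pow, ← pow_mul, mul_comm m 2, mul_inv_cancel]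
    rcases sq_eq_one_units _ h1 with h3 | h3
    · left; exact mul_inv_eq_one.mp h3
    · right
      rw [mul_inv_eq_iff_eq_mul] at h3
      rw [h3, neg_one_mul]
  -- `-1` is the determinant of a reflection
  have hneg : (-1 : Fˣ) ∈ D := by
    have hU0 : (U : Matrix (Fin n) (Fin n) F) ≠ 0 := by
      intro h0
      have h3 := gl_mul_inv U
      rw [h0, Matrix.zero_mul] at h3
      have : Nonempty (Fin n) := ⟨⟨0, by omega⟩⟩
      exact zero_ne_one h3
    obtain ⟨v₀, hv₀⟩ : ∃ v₀, gramQ (U : Matrix (Fin n) (Fin n) F) v₀ ≠ 0 := by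
      by_contra hcon
      push Not at hcon
      apply hU0
      apply symm_alt_zero h2 _ hsymm
      intro v
      rw [← gramQ_apply]
      exact hcon v
    set r := reflG (gramQ (U : Matrix (Fin n) (Fin n) F)) v₀ hv₀ with hr
    refine ⟨(r : GL (Fin n) F), ?_, ?_⟩
    · rw [SetLike.mem_coe, bilSim_eq_quadSim h2 _ hsymm]
      refine ⟨1, fun v => ?_⟩
      rw [Units.val_one, one_mul]
      exact iso_pres _ r v
    · apply Units.ext
      rw [Matrix.GeneralLinearGroup.val_det_apply, Units.val_neg, Units.val_one, hr, reflG_coe, refl_det _ _ hv₀]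
  -- every `c ^ m` is, up to sign, a determinant
  have hpow : ∀ c : Fˣ, c ^ m ∈ D := by
    intro c
    have hnd := gramQ_nondeg h2 (U : Matrix (Fin n) (Fin n) F) hsymm ⟨U, rfl⟩
    have hcard : Fintype.card (Fin n) = 2 * m := by rw [Fintype.card_fin, hnm]
    obtain ⟨Ψ, hΨ⟩ := exists_similitude (gramQ (U : Matrix (Fin n) (Fin n) F)) hnd m hm hcard (c : F) c.ne_zero
    obtain ⟨k, hk⟩ := exists_gl_of_equiv Ψ
    have hsim : (k : Matrix (Fin n) (Fin n) F)ᵀ * (U : Matrix (Fin n) (Fin n) F) * (k : Matrix (Fin n) (Fin n) F) =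
        (c : F) • (U : Matrix (Fin n) (Fin n) F) := by
      apply sim_of_quad h2 _ hsymm
      intro v
      rw [hk, ← gramQ_apply, ← gramQ_apply, hΨ]
    have hkmem : Matrix.GeneralLinearGroup.det k ∈ D :=
      ⟨k, (mem_simM_iff _ k).mpr ⟨c, hsim⟩, rfl⟩
    rcases hform k c hsim with h3 | h3
    · rw [← h3]; exact hkmem
    · have : c ^ m = (-1 : Fˣ) * Matrix.GeneralLinearGroup.det k := by
        rw [h3, neg_one_mul, neg_neg]
      rw [this]
      exact D.mul_mem hneg hkmem
  apply le_antisymm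
  · apply sup_le
    · exact le_trans (pow_range_le_of_dvd m n ⟨2, by omega⟩) le_sup_left
    · rintro _ ⟨h, hh, rfl⟩
      obtain ⟨c, hc⟩ := (mem_simM_iff _ h).mp hh
      rcases hform h c hc with h3 | h3
      · rw [h3]
        exact Subgroup.mem_sup_left ⟨c, rfl⟩
      · have h4 : Matrix.GeneralLinearGroup.det h = c ^ m * (-1 : Fˣ) := by rw [h3, mul_neg_one]
        rw [h4]
        exact Subgroup.mul_mem_sup (show c ^ m ∈ (powMonoidHom m : Fˣ →* Fˣ).range from ⟨c, rfl⟩)
          (Subgroup.mem_zpowers _)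
  · apply sup_le
    · rintro _ ⟨c, rfl⟩
      exact Subgroup.mem_sup_right (hpow c)
    · rw [Subgroup.zpowers_le]
      exact Subgroup.mem_sup_right hneg

theorem index_zpowers_neg_one [Fintype F] (h2 : (2 : F) ≠ 0) :
    (Subgroup.zpowers (-1 : Fˣ)).index = (Fintype.card F - 1) / 2 := by
  have h1 : Nat.card (Subgroup.zpowers (-1 : Fˣ)) = 2 := by
    rw [Nat.card_zpowers, ← orderOf_units, Units.val_neg, Units.val_one, orderOf_neg_one, if_neg]
    intro h
    apply h2
    have := CharP.cast_eq_zero F (ringChar F)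
    rw [h] at this
    exact_mod_cast this
  have h3 := Subgroup.index_mul_card (Subgroup.zpowers (-1 : Fˣ))
  rw [h1, Nat.card_units, Nat.card_eq_fintype_card] at h3
  omega

/-- orthogonal type: the class splits into `gcd(n, q-1)/2` classes. -/
theorem splitClassCount_graph_symm [Fintype F] (h2 : (2 : F) ≠ 0) {n m : ℕ} (hm : 1 ≤ m) (hnm : n = 2 * m)
    (U : GL (Fin n) F) (hsymm : (U : Matrix (Fin n) (Fin n) F)ᵀ = U) :
    Cfsg.splitClassCount (Phi n F).range (Cfsg.Inn (ProjectiveSpecialLinearGroup (Fin n) F))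
      (Phi n F U⁻¹ * iota n F) = Nat.gcd n (Fintype.card F - 1) / 2 := by
  have hn1 : 1 ≤ n := by omega
  rw [splitClassCount_graph hn1, map_det_sim_symm h2 hm hnm U hsymm, SC.index_pow_sup,
    index_zpowers_neg_one h2]
  have heven : Even (Fintype.card F - 1) := by
    have hodd : Odd (Fintype.card F) := by
      by_contra hne
      rw [Nat.not_odd_iff_even] at hne
      have := FiniteField.even_card_iff_char_two.mpr (Nat.even_iff.mp hne)
      apply h2
      have h5 := CharP.cast_eq_zero F (ringChar F)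
      rw [this] at h5
      exact_mod_cast h5
    obtain ⟨k, hk⟩ := hodd
    exact ⟨k, by omega⟩
  obtain ⟨N, hN⟩ := heven
  have hN2 : Fintype.card F - 1 = 2 * N := by omega
  rw [hN2, hnm, Nat.gcd_mul_left, Nat.mul_div_cancel_left _ (by norm_num : 0 < 2),
    Nat.mul_div_cancel_left _ (by norm_num : 0 < 2)]

end

end Cfsg.Agent.Lib.Helper16.GS
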