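import Mathlib
import Cfsg.Prelude.Def_LieTypeDatum
import Cfsg.Prelude.Def_KGroupFacts
import Cfsg.Agent.Lib.Helper16.GS3
import Cfsg.Agent.Lib.Helper16.PG16
import Cfsg.Agent.Lib.Helper16.OHelp
import Cfsg.Agent.S0245
import Cfsg.Agent.S0287
import Cfsg.Agent.S0288

set_option autoImplicit false
set_option linter.unusedSectionVars false
set_option linter.unusedVariables false

namespace Cfsg.Agent.Lib.Helper16.GS

open Matrix Module Cfsg.Agent.Lib.Helper16.PG Cfsg.Agent.Lib.Helper16.AP Cfsg.Agent.Lib.Helper16.OSemi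
  Cfsg.Agent.Lib.Helper16.SpSemi

universe u

section
variable {F : Type u} [Field F] {ι : Type} [Fintype ι] [DecidableEq ι]

/-- the multiplier of a similitude of a quadratic form, as a function. -/
noncomputable def multFun (Q : (ι → F) → F) (g : ↥(Cfsg.Geo.quadSimilarityGroup Q)) : Fˣ :=
  Classical.choose (g.2 : ∃ c : Fˣ, ∀ v, Q (((g : GL ι F) : Matrix ι ι F) *ᵥ v) = (c : F) * Q v)

theorem multFun_spec (Q : (ι → F) → F) (g : ↥(Cfsg.Geo.quadSimilarityGroup Q)) (v : ι → F) :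
    Q (((g : GL ι F) : Matrix ι ι F) *ᵥ v) = ((multFun Q g : Fˣ) : F) * Q v :=
  Classical.choose_spec (g.2 : ∃ c : Fˣ, ∀ v, Q (((g : GL ι F) : Matrix ι ι F) *ᵥ v) = (c : F) * Q v) v

theorem multFun_unique (Q : (ι → F) → F) (v₀ : ι → F) (hv₀ : Q v₀ ≠ 0)
    (g : ↥(Cfsg.Geo.quadSimilarityGroup Q)) (c : Fˣ)
    (h : Q (((g : GL ι F) : Matrix ι ι F) *ᵥ v₀) = (c : F) * Q v₀) : multFun Q g = c := by
  apply Units.ext
  have := multFun_spec Q g v₀
  rw [h] at this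
  exact (mul_right_cancel₀ hv₀ this).symm

/-- the multiplier homomorphism. -/
noncomputable def multQ (Q : (ι → F) → F) (v₀ : ι → F) (hv₀ : Q v₀ ≠ 0) :
    ↥(Cfsg.Geo.quadSimilarityGroup Q) →* Fˣ :=
  MonoidHom.mk' (multFun Q) (by
    intro g h
    apply multFun_unique Q v₀ hv₀
    show Q ((((g : GL ι F) * (h : GL ι F) : GL ι F) : Matrix ι ι F) *ᵥ v₀) = _
    rw [Units.val_mul, ← Matrix.mulVec_mulVec, multFun_spec Q g, multFun_spec Q h, Units.val_mul, mul_assoc])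

theorem multQ_ker (Q : (ι → F) → F) (v₀ : ι → F) (hv₀ : Q v₀ ≠ 0) :
    (multQ Q v₀ hv₀).ker = (Cfsg.isometryGroup F Q).subgroupOf (Cfsg.Geo.quadSimilarityGroup Q) := by
  ext g
  rw [MonoidHom.mem_ker, Subgroup.mem_subgroupOf, mem_iso_iff]
  constructor
  · intro h v
    have h1 := multFun_spec Q g v
    have h2 : multFun Q g = 1 := h
    rw [h2, Units.val_one, one_mul] at h1
    exact h1
  · intro h
    show multFun Q g = 1
    apply multFun_unique Q v₀ hv₀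
    rw [h v₀, Units.val_one, one_mul]

theorem card_quadSim_le [Fintype F] (Q : (ι → F) → F) (v₀ : ι → F) (hv₀ : Q v₀ ≠ 0) :
    Nat.card ↥(Cfsg.Geo.quadSimilarityGroup Q) ≤
      (Fintype.card F - 1) * Nat.card ↥(Cfsg.isometryGroup F Q) := by
  set μ := multQ Q v₀ hv₀ with hμ
  have h1 := Subgroup.card_eq_card_quotient_mul_card_subgroup μ.ker
  have h2 : Nat.card (↥(Cfsg.Geo.quadSimilarityGroup Q) ⧸ μ.ker) ≤ Fintype.card F - 1 := by
    rw [← Subgroup.index_eq_card, Subgroup.index_ker]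
    calc Nat.card μ.range ≤ Nat.card Fˣ := Subgroup.card_le_card_group _
      _ = Fintype.card F - 1 := by rw [Nat.card_units, Nat.card_eq_fintype_card]
  have h3 : Nat.card μ.ker ≤ Nat.card ↥(Cfsg.isometryGroup F Q) := by
    rw [hμ, multQ_ker]
    apply Nat.card_le_card_of_injective
      (fun x : ↥((Cfsg.isometryGroup F Q).subgroupOf (Cfsg.Geo.quadSimilarityGroup Q)) =>
        (⟨x.1.1, Subgroup.mem_subgroupOf.mp x.2⟩ : ↥(Cfsg.isometryGroup F Q)))
    intro x y hxy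
    apply Subtype.ext
    apply Subtype.ext
    have h5 := congrArg Subtype.val hxy
    exact h5
  rw [h1]
  exact Nat.mul_le_mul h2 h3

theorem card_scalars_subgroupOf [Fintype F] [Nonempty ι] (H : Subgroup (GL ι F))
    (hH : Cfsg.Geo.scalars ι F ≤ H) :
    Nat.card ↥((Cfsg.Geo.scalars ι F).subgroupOf H) = Fintype.card F - 1 := by
  have e1 : ↥((Cfsg.Geo.scalars ι F).subgroupOf H) ≃* ↥(Cfsg.Geo.scalars ι F) :=
    Subgroup.subgroupOfEquivOfLe hH
  have hinj : Function.Injective (Units.map (Matrix.scalar ι : F →+* Matrix ι ι F).toMonoidHom) :=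
    Units.map_injective (f := (Matrix.scalar ι : F →+* Matrix ι ι F).toMonoidHom)
      (fun r s hrs => Matrix.scalar_inj.mp hrs)
  have e2 : Fˣ ≃* ↥(Cfsg.Geo.scalars ι F) := MonoidHom.ofInjective hinj
  rw [Nat.card_congr e1.toEquiv, ← Nat.card_congr e2.toEquiv, Nat.card_units, Nat.card_eq_fintype_card]

/-- the projective similarity group of a quadratic form is no larger than its isometry group. -/
theorem card_PGO_le [Fintype F] [Nonempty ι] (Q : QuadraticForm F (ι → F)) (v₀ : ι → F) (hv₀ : Q v₀ ≠ 0) :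
    Nat.card (Cfsg.PGO F (⇑Q)) ≤ Nat.card ↥(Cfsg.isometryGroup F (⇑Q)) := by
  have hsc : Cfsg.Geo.scalars ι F ≤ Cfsg.Geo.quadSimilarityGroup (⇑Q) := by
    intro g hg
    obtain ⟨c, hc⟩ := (Cfsg.Geo.mem_scalars_iff g).mp hg
    refine ⟨c * c, fun v => ?_⟩
    rw [hc, Matrix.smul_mulVec, Matrix.one_mulVec, QuadraticMap.map_smul, Units.val_mul, smul_eq_mul]
  have h1 := Subgroup.card_eq_card_quotient_mul_card_subgroup
    ((Cfsg.Geo.scalars ι F).subgroupOf (Cfsg.Geo.quadSimilarityGroup (⇑Q)))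
  rw [card_scalars_subgroupOf _ hsc] at h1
  have h2 := card_quadSim_le (⇑Q) v₀ hv₀
  rw [h1, mul_comm] at h2
  have hq : 0 < Fintype.card F - 1 := by
    have := Fintype.one_lt_card (α := F)
    omega
  exact Nat.le_of_mul_le_mul_left h2 hq

theorem exists_ne_zero_of_nondeg [Nonempty ι] (Q : QuadraticForm F (ι → F))
    (hnd : (QuadraticMap.polarBilin Q).Nondegenerate) : ∃ v₀, Q v₀ ≠ 0 := by
  by_contra hcon
  push Not at hcon
  obtain ⟨i⟩ := (inferInstance : Nonempty ι)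
  have h1 : (Pi.single i 1 : ι → F) = 0 := by
    apply hnd.1
    intro v
    rw [QuadraticMap.polarBilin_apply_apply]
    unfold QuadraticMap.polar
    rw [hcon, hcon, hcon]
    ring
  have h2 := congrFun h1 i
  rw [Pi.single_eq_same, Pi.zero_apply] at h2
  exact one_ne_zero h2

end

section
variable {F : Type u} [Field F]

theorem isoG_le_GSp (m : ℕ) : isoG (Cfsg.sympForm m F) ≤ Cfsg.GSp m F := by
  intro g hg
  exact ⟨1, fun u v => by rw [Units.val_one, one_mul]; exact hg u v⟩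

/-- a scalar symplectic isometry is `± 1`. -/
theorem scalar_isoG_cases (m : ℕ) (hm : 1 ≤ m) (g : GL (Fin m ⊕ Fin m) F)
    (hg : g ∈ isoG (Cfsg.sympForm m F)) (hs : g ∈ Cfsg.Geo.scalars (Fin m ⊕ Fin m) F) :
    (g : Matrix (Fin m ⊕ Fin m) (Fin m ⊕ Fin m) F) = 1 ∨ (g : Matrix (Fin m ⊕ Fin m) (Fin m ⊕ Fin m) F) = -1 := by
  obtain ⟨c, hc⟩ := (Cfsg.Geo.mem_scalars_iff g).mp hs
  have h1 : (g : Matrix (Fin m ⊕ Fin m) (Fin m ⊕ Fin m) F)ᵀ * Matrix.J (Fin m) F *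
      (g : Matrix (Fin m ⊕ Fin m) (Fin m ⊕ Fin m) F) = Matrix.J (Fin m) F := by
    apply mat_ext_bilin
    intro u v
    rw [bilin_congr]
    exact hg u v
  rw [hc, Matrix.transpose_smul, Matrix.transpose_one, Matrix.smul_mul, Matrix.one_mul, Matrix.mul_smul,
    Matrix.mul_one, smul_smul] at h1
  have h2 := congrFun (congrFun h1 (Sum.inl ⟨0, hm⟩)) (Sum.inr ⟨0, hm⟩)
  rw [Matrix.smul_apply, Matrix.J, Matrix.fromBlocks_apply₁₂, Matrix.neg_apply, Matrix.one_apply_eq,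
    smul_eq_mul] at h2
  have h3 : ((c : F) - 1) * ((c : F) + 1) = 0 := by linear_combination -h2
  rcases mul_eq_zero.mp h3 with h4 | h4
  · left
    rw [hc, sub_eq_zero.mp h4, one_smul]
  · right
    rw [hc, eq_neg_of_add_eq_zero_left h4, neg_smul, one_smul]

theorem card_Sp_le [Fintype F] (m : ℕ) (hm : 1 ≤ m) :
    Nat.card ↥(Matrix.symplecticGroup (Fin m) F) ≤ 2 * Nat.card (Cfsg.PGSp m F) := by
  classical
  obtain ⟨e⟩ := sp_equiv_isoG (F := F) m
  rw [← Nat.card_congr e.toEquiv]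
  set φ : ↥(isoG (Cfsg.sympForm m F)) →* Cfsg.PGSp m F :=
    (QuotientGroup.mk' ((Cfsg.Geo.scalars (Fin m ⊕ Fin m) F).subgroupOf (Cfsg.GSp m F))).comp
      (Subgroup.inclusion (isoG_le_GSp m)) with hφ
  have h1 := Subgroup.card_eq_card_quotient_mul_card_subgroup φ.ker
  have h2 : Nat.card (↥(isoG (Cfsg.sympForm m F)) ⧸ φ.ker) ≤ Nat.card (Cfsg.PGSp m F) := by
    rw [← Subgroup.index_eq_card, Subgroup.index_ker]
    exact Subgroup.card_le_card_group _
  have hker : ∀ x : ↥φ.ker, ((x.1.1 : GL (Fin m ⊕ Fin m) F) : Matrix (Fin m ⊕ Fin m) (Fin m ⊕ Fin m) F) = 1 ∨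
      ((x.1.1 : GL (Fin m ⊕ Fin m) F) : Matrix (Fin m ⊕ Fin m) (Fin m ⊕ Fin m) F) = -1 := by
    intro x
    apply scalar_isoG_cases m hm _ x.1.2
    have hx : φ x.1 = 1 := x.2
    change (QuotientGroup.mk' ((Cfsg.Geo.scalars (Fin m ⊕ Fin m) F).subgroupOf (Cfsg.GSp m F)))
      (Subgroup.inclusion (isoG_le_GSp m) x.1) = 1 at hx
    rw [QuotientGroup.mk'_apply, QuotientGroup.eq_one_iff, Subgroup.mem_subgroupOf] at hx
    exact hx
  have h3 : Nat.card φ.ker ≤ 2 := by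
    have hinj : Function.Injective (fun x : ↥φ.ker =>
        if ((x.1.1 : GL (Fin m ⊕ Fin m) F) : Matrix (Fin m ⊕ Fin m) (Fin m ⊕ Fin m) F) = 1 then (0 : Fin 2) else 1) := by
      intro x y hxy
      apply Subtype.ext
      apply Subtype.ext
      apply Units.ext
      by_cases hx1 : ((x.1.1 : GL (Fin m ⊕ Fin m) F) : Matrix (Fin m ⊕ Fin m) (Fin m ⊕ Fin m) F) = 1
      · by_cases hy1 : ((y.1.1 : GL (Fin m ⊕ Fin m) F) : Matrix (Fin m ⊕ Fin m) (Fin m ⊕ Fin m) F) = 1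
        · rw [hx1, hy1]
        · simp only [hx1, hy1, if_true, if_false] at hxy
          exact absurd hxy (by decide)
      · by_cases hy1 : ((y.1.1 : GL (Fin m ⊕ Fin m) F) : Matrix (Fin m ⊕ Fin m) (Fin m ⊕ Fin m) F) = 1
        · simp only [hx1, hy1, if_true, if_false] at hxy
          exact absurd hxy (by decide)
        · rw [(hker x).resolve_left hx1, (hker y).resolve_left hy1]
    have := Nat.card_le_card_of_injective _ hinj
    have h9 : Nat.card (Fin 2) = 2 := by simp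
    rw [h9] at this
    exact this
  rw [h1, mul_comm]
  exact Nat.mul_le_mul h3 h2

theorem order_ineq (q m : ℕ) (hq : 3 ≤ q) (hm : 2 ≤ m) (s : ℕ) (hs : s ≤ q ^ m + 1) :
    2 * (2 * q ^ (m * (m - 1)) * s * ∏ i ∈ Finset.range (m - 1), (q ^ (2 * (i + 1)) - 1)) <
      q ^ (m ^ 2) * ∏ i ∈ Finset.range m, (q ^ (2 * (i + 1)) - 1) := by
  set P := ∏ i ∈ Finset.range (m - 1), (q ^ (2 * (i + 1)) - 1) with hP
  have hPpos : 0 < P := by
    apply Finset.prod_pos
    intro i _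
    have : 1 < q ^ (2 * (i + 1)) := Nat.one_lt_pow (by omega) (by omega)
    omega
  have h1 : ∏ i ∈ Finset.range m, (q ^ (2 * (i + 1)) - 1) = P * (q ^ (2 * m) - 1) := by
    obtain ⟨k, rfl⟩ : ∃ k, m = k + 1 := ⟨m - 1, by omega⟩
    rw [Finset.prod_range_succ]
    rfl
  have h2 : q ^ (m ^ 2) = q ^ (m * (m - 1)) * q ^ m := by
    rw [← pow_add]
    congr 1
    obtain ⟨k, rfl⟩ : ∃ k, m = k + 1 := ⟨m - 1, by omega⟩
    simp only [Nat.add_sub_cancel]
    ring
  set A := q ^ (m * (m - 1)) with hA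
  have hApos : 0 < A := by positivity
  set X := q ^ m with hX
  have hX9 : 9 ≤ X := by
    calc 9 = 3 ^ 2 := by norm_num
      _ ≤ q ^ 2 := Nat.pow_le_pow_left hq 2
      _ ≤ q ^ m := Nat.pow_le_pow_right (by omega) hm
  have h3 : q ^ (2 * m) = X * X := by
    rw [hX, ← pow_add]
    congr 1
    ring
  have hY : 80 ≤ q ^ (2 * m) - 1 := by
    rw [h3]
    have : 81 ≤ X * X := by nlinarith
    omega
  set Y := q ^ (2 * m) - 1 with hYdef
  have h4 : 4 * s < X * Y := by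
    have : X * 80 ≤ X * Y := Nat.mul_le_mul_left X hY
    omega
  rw [h1, h2]
  calc 2 * (2 * A * s * P) = (A * P) * (4 * s) := by ring
    _ < (A * P) * (X * Y) := Nat.mul_lt_mul_of_pos_left h4 (Nat.mul_pos hApos hPpos)
    _ = A * X * (P * Y) := by ring

theorem not_PGO_plus_equiv_PGSp [Fintype F] (hq : 3 ≤ Fintype.card F) (m : ℕ) (hm : 2 ≤ m) :
    ¬ Nonempty (Cfsg.PGO F (Cfsg.quadFormPlus m F) ≃* Cfsg.PGSp m F) := by
  rintro ⟨e⟩
  have hm1 : 1 ≤ m := by omega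
  have : Nonempty (Fin m ⊕ Fin m) := ⟨Sum.inl ⟨0, hm1⟩⟩
  obtain ⟨v₀, hv₀⟩ := exists_ne_zero_of_nondeg (qfPlus m F) (qfPlus_nondeg m F)
  have h1 := card_PGO_le (qfPlus m F) v₀ hv₀
  rw [qfPlus_coe, Nat.card_congr e.toEquiv, Cfsg.Agent.S0287.result rfl m hm1] at h1
  have h2 := card_Sp_le (F := F) m hm1
  rw [Cfsg.Agent.S0245.result rfl m] at h2
  have h3 := order_ineq (Fintype.card F) m hq hm (Fintype.card F ^ m - 1) (by omega)
  omega

theorem not_PGO_minus_equiv_PGSp [Fintype F] (hq : 3 ≤ Fintype.card F) (m : ℕ) (hm : 2 ≤ m) (a b : F)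
    (hab : ∀ z₁ z₂ : F, z₁ ^ 2 + a * z₁ * z₂ + b * z₂ ^ 2 = 0 → z₁ = 0 ∧ z₂ = 0) :
    ¬ Nonempty (Cfsg.PGO F (Cfsg.quadFormMinus (m - 1) F a b) ≃* Cfsg.PGSp m F) := by
  rintro ⟨e⟩
  have hm1 : 1 ≤ m := by omega
  have : Nonempty ((Fin (m - 1) ⊕ Fin (m - 1)) ⊕ Fin 2) := ⟨Sum.inr 0⟩
  obtain ⟨v₀, hv₀⟩ := exists_ne_zero_of_nondeg (qfMinus (m - 1) F a b) (qfMinus_nondeg (m - 1) a b hab)
  have h1 := card_PGO_le (qfMinus (m - 1) F a b) v₀ hv₀
  rw [qfMinus_coe, Nat.card_congr e.toEquiv, Cfsg.Agent.S0288.result rfl m hm1 a b hab] at h1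
  have h2 := card_Sp_le (F := F) m hm1
  rw [Cfsg.Agent.S0245.result rfl m] at h2
  have h3 := order_ineq (Fintype.card F) m hq hm (Fintype.card F ^ m + 1) le_rfl
  omega

end

end Cfsg.Agent.Lib.Helper16.GS
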