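import Mathlib
import Cfsg.Prelude.Def_LieTypeDatum
import Cfsg.Agent.Lib.Helper16.PG13
import Cfsg.Agent.Lib.Helper16.OHelp

set_option autoImplicit false
set_option linter.unusedSectionVars false

namespace Cfsg.Agent.Lib.Helper16.PG

open Matrix Module Cfsg.Agent.Lib.Helper16.SpSemi Cfsg.Agent.Lib.Helper16.OSemi

universe u

section
variable {F : Type u} [Field F] {n : ℕ}

theorem graph_classes_odd [Fintype F] (hodd : Odd (Fintype.card F)) {m : ℕ} (hm : 2 ≤ m) (hnm : n = 2 * m) :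
    ∃ (γ₁ γ₂ γ₃ : MulAut (Matrix.ProjectiveSpecialLinearGroup (Fin n) F)) (a b : F),
      (∀ z₁ z₂ : F, z₁ ^ 2 + a * z₁ * z₂ + b * z₂ ^ 2 = 0 → z₁ = 0 ∧ z₂ = 0) ∧
      Cfsg.IsGraphAutClassPSL γ₁ ∧ orderOf γ₁ = 2 ∧ Cfsg.IsGraphAutClassPSL γ₂ ∧ orderOf γ₂ = 2 ∧
      Cfsg.IsGraphAutClassPSL γ₃ ∧ orderOf γ₃ = 2 ∧
      ¬ Cfsg.IsConjUnder (Cfsg.inndiagPSL n F) γ₁ γ₂ ∧ ¬ Cfsg.IsConjUnder (Cfsg.inndiagPSL n F) γ₁ γ₃ ∧
      ¬ Cfsg.IsConjUnder (Cfsg.inndiagPSL n F) γ₂ γ₃ ∧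
      (∀ γ : MulAut (Matrix.ProjectiveSpecialLinearGroup (Fin n) F), Cfsg.IsGraphAutClassPSL γ → orderOf γ = 2 →
        Cfsg.IsConjUnder (Cfsg.inndiagPSL n F) γ₁ γ ∨ Cfsg.IsConjUnder (Cfsg.inndiagPSL n F) γ₂ γ ∨
          Cfsg.IsConjUnder (Cfsg.inndiagPSL n F) γ₃ γ) ∧
      Nonempty (↥(Cfsg.inndiagPSL n F ⊓ Subgroup.centralizer {γ₁}) ≃* Cfsg.PGSp m F) ∧
      Nonempty (↥(Cfsg.inndiagPSL n F ⊓ Subgroup.centralizer {γ₂}) ≃* Cfsg.PGO F (Cfsg.quadFormPlus m F)) ∧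
      Nonempty (↥(Cfsg.inndiagPSL n F ⊓ Subgroup.centralizer {γ₃}) ≃*
        Cfsg.PGO F (Cfsg.quadFormMinus (m - 1) F a b)) := by
  have h2 : (2 : F) ≠ 0 := two_ne_zero_of_odd_card hodd
  have hn3 : 3 ≤ n := by omega
  have hn1 : 1 ≤ n := by omega
  have hm1 : 1 ≤ m := by omega
  obtain ⟨ζ, hζ⟩ := exists_zeta (F := F)
  have hab := aniso_of_irred ζ hζ
  have hfr₂ : finrank F (Fin n → F) = finrank F (Fin m ⊕ Fin m → F) := by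
    rw [Module.finrank_pi, Module.finrank_pi, Fintype.card_fin, Fintype.card_sum, Fintype.card_fin, hnm]
    ring
  have hfr₃ : finrank F (Fin n → F) = finrank F ((Fin (m - 1) ⊕ Fin (m - 1)) ⊕ Fin 2 → F) := by
    rw [Module.finrank_pi, Module.finrank_pi, Fintype.card_fin, Fintype.card_sum, Fintype.card_sum,
      Fintype.card_fin, Fintype.card_fin, hnm]
    omega
  obtain ⟨T₂⟩ : Nonempty ((Fin n → F) ≃ₗ[F] (Fin m ⊕ Fin m → F)) := ⟨LinearEquiv.ofFinrankEq _ _ hfr₂⟩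
  obtain ⟨T₃⟩ : Nonempty ((Fin n → F) ≃ₗ[F] ((Fin (m - 1) ⊕ Fin (m - 1)) ⊕ Fin 2 → F)) :=
    ⟨LinearEquiv.ofFinrankEq _ _ hfr₃⟩
  obtain ⟨U₁, hU₁, hU₁t⟩ := sympl_data T₂
  obtain ⟨U₂, hU₂s, hU₂⟩ := quad_data (qfPlus m F) (qfPlus_nondeg m F) T₂
  obtain ⟨U₃, hU₃s, hU₃⟩ := quad_data (qfMinus (m - 1) F 1 ζ) (qfMinus_nondeg (m - 1) 1 ζ hab) T₃
  have halt₁ : ∀ v, bilM (U₁ : Matrix (Fin n) (Fin n) F) v v = 0 := by
    intro v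
    rw [hU₁]
    exact J_alt (T₂ v)
  have hone : ∀ U : GL (Fin n) F, (U : Matrix (Fin n) (Fin n) F)ᵀ = U →
      (U : Matrix (Fin n) (Fin n) F)ᵀ = ((1 : Fˣ) : F) • (U : Matrix (Fin n) (Fin n) F) := by
    intro U hU
    rw [Units.val_one, one_smul]; exact hU
  refine ⟨Phi n F U₁⁻¹ * iota n F, Phi n F U₂⁻¹ * iota n F, Phi n F U₃⁻¹ * iota n F, 1, ζ, hab,
    graph_isGraphAut hn3 _, graph_order_two hn3 U₁ (-1) hU₁t,
    graph_isGraphAut hn3 _, graph_order_two hn3 U₂ 1 (hone U₂ hU₂s),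
    graph_isGraphAut hn3 _, graph_order_two hn3 U₃ 1 (hone U₃ hU₃s),
    not_conj_alt_symm h2 hn1 U₁ U₂ halt₁ hU₂s, not_conj_alt_symm h2 hn1 U₁ U₃ halt₁ hU₃s,
    not_conj_plus_minus h2 hm1 1 ζ hab T₂ T₃ U₂ U₃ hU₂ hU₃, ?_,
    cent_sympl T₂ U₁ hU₁, cent_quad h2 (qfPlus m F) T₂ U₂ hU₂s hU₂,
    cent_quad h2 (qfMinus (m - 1) F 1 ζ) T₃ U₃ hU₃s hU₃⟩
  intro γ hγ hγ2
  obtain ⟨U, rfl⟩ := graph_of_isGraphAut γ hγ
  have hsq : (Phi n F U⁻¹ * iota n F) * (Phi n F U⁻¹ * iota n F) = 1 := by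
    rw [← pow_two, ← hγ2]
    exact pow_orderOf_eq_one _
  rw [graph_sq_eq_one_iff, inv_inv] at hsq
  obtain ⟨c, hc⟩ := hsq
  rcases transpose_scalar_cases U hn1 c hc with h1 | h1
  · have hsymm : (U : Matrix (Fin n) (Fin n) F)ᵀ = U := by rw [hc, h1, one_smul]
    right
    exact conj_symm_cases h2 hm1 hnm 1 ζ hab T₂ T₃ U₂ U₃ hU₂ hU₃ U hsymm
  · left
    have hskew : (U : Matrix (Fin n) (Fin n) F)ᵀ = -(U : Matrix (Fin n) (Fin n) F) := by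
      rw [hc, h1, neg_smul, one_smul]
    apply conj_alt hnm T₂ U₁ hU₁ U
    intro v
    have h3 : bilM (U : Matrix (Fin n) (Fin n) F) v v = -bilM (U : Matrix (Fin n) (Fin n) F) v v := by
      unfold bilM
      nth_rewrite 1 [Matrix.dotProduct_mulVec, dotProduct_comm, ← Matrix.mulVec_transpose, hskew]
      rw [Matrix.neg_mulVec, dotProduct_neg]
    have h4 : 2 * bilM (U : Matrix (Fin n) (Fin n) F) v v = 0 := by linear_combination h3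
    exact (mul_eq_zero.mp h4).resolve_left h2

end

end Cfsg.Agent.Lib.Helper16.PG
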