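import Mathlib
import Cfsg.Prelude.Def_LieTypeDatum
import Cfsg.Prelude.Def_KGroupFacts
import Cfsg.Agent.Lib.Helper16.GS4
import Cfsg.Agent.Lib.Helper16.PG14

set_option autoImplicit false
set_option linter.unusedSectionVars false
set_option linter.unusedVariables false

namespace Cfsg.Agent.Lib.Helper16.GS

open Matrix Module Cfsg.Agent.Lib.Helper16.PG Cfsg.Agent.Lib.Helper16.AP Cfsg.Agent.Lib.Helper16.OSemi
  Cfsg.Agent.Lib.Helper16.SpSemi

universe u

section
variable {F : Type u} [Field F]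

/-- an alternating invertible Gram matrix is the pull-back of the standard symplectic form. -/
theorem exists_sympl_equiv {n m : ℕ} (hnm : n = 2 * m) (U : GL (Fin n) F)
    (halt : ∀ v, bilM (U : Matrix (Fin n) (Fin n) F) v v = 0) :
    ∃ T : (Fin n → F) ≃ₗ[F] (Fin m ⊕ Fin m → F),
      ∀ u v, bilM (U : Matrix (Fin n) (Fin n) F) u v = Cfsg.sympForm m F (T u) (T v) := by
  set ω : LinearMap.BilinForm F (Fin n → F) := Matrix.toBilin' (U : Matrix (Fin n) (Fin n) F) with hω
  have hωapp : ∀ u v, ω u v = bilM (U : Matrix (Fin n) (Fin n) F) u v := by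
    intro u v
    rw [hω, Matrix.toBilin'_apply']
    rfl
  have hωalt : ω.IsAlt := by
    intro v
    rw [hωapp]; exact halt v
  have hleft : ∀ u, (∀ v, ω u v = 0) → u = 0 := by
    intro u hu
    have h3 : Matrix.vecMul u (U : Matrix (Fin n) (Fin n) F) = 0 := by
      funext j
      have := hu (Pi.single j 1)
      rw [hωapp] at this
      unfold bilM at this
      rw [Matrix.dotProduct_mulVec] at this
      simpa using this
    have h4 : Matrix.vecMul (Matrix.vecMul u (U : Matrix (Fin n) (Fin n) F))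
        ((U⁻¹ : GL (Fin n) F) : Matrix (Fin n) (Fin n) F) = 0 := by
      rw [h3, Matrix.zero_vecMul]
    rw [Matrix.vecMul_vecMul, gl_mul_inv, Matrix.vecMul_one] at h4
    exact h4
  have hωnd : ω.Nondegenerate := by
    refine ⟨hleft, ?_⟩
    intro v hv
    apply hleft
    intro u
    rw [← hωalt.neg_eq, hv u, neg_zero]
  have hV : finrank F (Fin n → F) = 2 * m := by
    rw [Module.finrank_pi, Fintype.card_fin, hnm]
  obtain ⟨b, hb⟩ := symplectic_basis hV ω hωalt hωnd
  refine ⟨b.equivFun, ?_⟩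
  intro u v
  rw [← hωapp, LinearMap.BilinForm.apply_eq_dotProduct_toMatrix_mulVec b ω u v, hb]
  rfl

theorem S2702_aux [Fintype F] {p f : ℕ} [Fact p.Prime] (hF : Fintype.card F = p ^ f) (hf : 1 ≤ f) {n : ℕ}
    (hn : 3 ≤ n) (γ : MulAut (Matrix.ProjectiveSpecialLinearGroup (Fin n) F))
    (hγ : Cfsg.IsGraphAutClassPSL γ) (hγ2 : orderOf γ = 2) :
    ((Even n ∧ Odd p ∧ Nonempty (↥(Cfsg.inndiagPSL n F ⊓ Subgroup.centralizer {γ}) ≃* Cfsg.PGSp (n / 2) F)) →
      Cfsg.splitClassCount (Cfsg.inndiagPSL n F) (Cfsg.Inn (Matrix.ProjectiveSpecialLinearGroup (Fin n) F)) γ =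
        Nat.gcd (n / 2) (p ^ f - 1)) ∧
    ((Even n ∧ Odd p ∧ ¬ Nonempty (↥(Cfsg.inndiagPSL n F ⊓ Subgroup.centralizer {γ}) ≃* Cfsg.PGSp (n / 2) F)) →
      Cfsg.splitClassCount (Cfsg.inndiagPSL n F) (Cfsg.Inn (Matrix.ProjectiveSpecialLinearGroup (Fin n) F)) γ =
        Nat.gcd n (p ^ f - 1) / 2) ∧
    (¬ (Even n ∧ Odd p) →
      Cfsg.splitClassCount (Cfsg.inndiagPSL n F) (Cfsg.Inn (Matrix.ProjectiveSpecialLinearGroup (Fin n) F)) γ =
        Nat.gcd n (p ^ f - 1)) := by
  have hn1 : 1 ≤ n := by omega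
  have hp : p.Prime := Fact.out
  obtain ⟨U, rfl⟩ := graph_of_isGraphAut γ hγ
  have hsq : (Phi n F U⁻¹ * iota n F) * (Phi n F U⁻¹ * iota n F) = 1 := by
    rw [← pow_two, ← hγ2]
    exact pow_orderOf_eq_one _
  rw [graph_sq_eq_one_iff, inv_inv] at hsq
  obtain ⟨c, hc⟩ := hsq
  have hID := inndiag_eq_range (n := n) (F := F)
  -- facts in the even / odd characteristic case
  have hcase : Even n → Odd p → ∃ m : ℕ, 2 ≤ m ∧ n = 2 * m ∧ n / 2 = m ∧ (2 : F) ≠ 0 ∧ 3 ≤ Fintype.card F := by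
    intro heven hpodd
    obtain ⟨m, hm⟩ := heven
    have hoddq : Odd (Fintype.card F) := by rw [hF]; exact hpodd.pow
    have hp3 : 3 ≤ p := by
      have := hp.two_le
      rcases hpodd with ⟨k, hk⟩
      omega
    have hq3 : 3 ≤ Fintype.card F := by
      rw [hF]
      calc 3 ≤ p := hp3
        _ = p ^ 1 := (pow_one p).symm
        _ ≤ p ^ f := Nat.pow_le_pow_right (by omega) hf
    exact ⟨m, by omega, by omega, by omega, PG.two_ne_zero_of_odd_card hoddq, hq3⟩
  have halt_of_skew : (2 : F) ≠ 0 → (c : F) = -1 → ∀ v, bilM (U : Matrix (Fin n) (Fin n) F) v v = 0 := by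
    intro h2 h1 v
    have hskew : (U : Matrix (Fin n) (Fin n) F)ᵀ = -(U : Matrix (Fin n) (Fin n) F) := by
      rw [hc, h1, neg_smul, one_smul]
    have h3 : bilM (U : Matrix (Fin n) (Fin n) F) v v = -bilM (U : Matrix (Fin n) (Fin n) F) v v := by
      unfold bilM
      nth_rewrite 1 [Matrix.dotProduct_mulVec, dotProduct_comm, ← Matrix.mulVec_transpose, hskew]
      rw [Matrix.neg_mulVec, dotProduct_neg]
    have h4 : 2 * bilM (U : Matrix (Fin n) (Fin n) F) v v = 0 := by linear_combination h3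
    exact (mul_eq_zero.mp h4).resolve_left h2
  refine ⟨?_, ?_, ?_⟩
  · rintro ⟨heven, hpodd, hiso⟩
    obtain ⟨m, hm2, hnm, hn2, h2, hq3⟩ := hcase heven hpodd
    have hm1 : 1 ≤ m := by omega
    rw [hn2] at hiso ⊢
    rcases transpose_scalar_cases U hn1 c hc with h1 | h1
    · exfalso
      have hsymm : (U : Matrix (Fin n) (Fin n) F)ᵀ = U := by rw [hc, h1, one_smul]
      have hnd := gramQ_nondeg h2 (U : Matrix (Fin n) (Fin n) F) hsymm ⟨U, rfl⟩
      have hcard : Fintype.card (Fin n) = 2 * m := by rw [Fintype.card_fin, hnm]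
      obtain ⟨e0⟩ := cent_graph_equiv (U⁻¹ : GL (Fin n) F)
      rw [inv_inv, bilSim_eq_quadSim h2 _ hsymm] at e0
      obtain ⟨e2⟩ := hiso
      rcases classify hm1 hcard (gramQ (U : Matrix (Fin n) (Fin n) F)) hnd with ⟨Φ, hΦ⟩ | ⟨ζ, hζ, Φ, hΦ⟩
      · obtain ⟨e1⟩ := pgo_congr (fun v => gramQ (U : Matrix (Fin n) (Fin n) F) v) (Cfsg.quadFormPlus m F) Φ 1
          one_ne_zero (fun v => by rw [one_mul]; exact hΦ v)
        exact not_PGO_plus_equiv_PGSp hq3 m hm2 ⟨e1.symm.trans (e0.symm.trans e2)⟩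
      · obtain ⟨e1⟩ := pgo_congr (fun v => gramQ (U : Matrix (Fin n) (Fin n) F) v)
          (Cfsg.quadFormMinus (m - 1) F 1 ζ) Φ 1 one_ne_zero (fun v => by rw [one_mul]; exact hΦ v)
        exact not_PGO_minus_equiv_PGSp hq3 m hm2 1 ζ (aniso_of_irred ζ hζ) ⟨e1.symm.trans (e0.symm.trans e2)⟩
    · obtain ⟨T, hT⟩ := exists_sympl_equiv hnm U (halt_of_skew h2 h1)
      rw [hID, ← hF]
      exact splitClassCount_graph_sympl hn1 hnm T U hT
  · rintro ⟨heven, hpodd, hniso⟩
    obtain ⟨m, hm2, hnm, hn2, h2, hq3⟩ := hcase heven hpodd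
    have hm1 : 1 ≤ m := by omega
    rcases transpose_scalar_cases U hn1 c hc with h1 | h1
    · have hsymm : (U : Matrix (Fin n) (Fin n) F)ᵀ = U := by rw [hc, h1, one_smul]
      rw [hID, ← hF]
      exact splitClassCount_graph_symm h2 hm1 hnm U hsymm
    · exfalso
      apply hniso
      obtain ⟨T, hT⟩ := exists_sympl_equiv hnm U (halt_of_skew h2 h1)
      rw [hn2]
      exact cent_sympl T U hT
  · intro hne
    rw [hID, ← hF]
    by_cases hodd : Odd n
    · exact splitClassCount_graph_of_le hn1 U (det_sim_odd hodd U)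
    · have heven : Even n := Nat.not_odd_iff_even.mp hodd
      have hp2 : p = 2 := by
        rcases hp.eq_two_or_odd' with h | h
        · exact h
        · exact absurd ⟨heven, h⟩ hne
      have hchar : ringChar F = 2 := by
        apply FiniteField.even_card_iff_char_two.mpr
        rw [hF, hp2]
        exact Nat.even_iff.mp (Nat.even_pow.mpr ⟨even_two, by omega⟩)
      have : CharP F 2 := ringChar.eq_iff.mp hchar
      exact splitClassCount_graph_of_le hn1 U (det_sim_char2 heven U)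

end

end Cfsg.Agent.Lib.Helper16.GS
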