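import Mathlib
import Cfsg.Prelude.Def_LieTypeDatum
import Cfsg.Prelude.Def_KGroupFacts
import Cfsg.Agent.Lib.Helper16.GS5

set_option autoImplicit false
set_option linter.unusedSectionVars false
set_option linter.unusedVariables false

namespace Cfsg.Agent.Lib.Helper16.GS

open Matrix Module Cfsg.Agent.Lib.Helper16.PG Cfsg.Agent.Lib.Helper16.AP Cfsg.Agent.Lib.Helper16.OSemi
  Cfsg.Agent.Lib.Helper16.SpSemi

universe u

section
variable {F : Type u} [Field F]
variable {a b : Type} [Fintype a] [DecidableEq a] [Fintype b] [DecidableEq b]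

theorem simM_iff_explicit (M : Matrix a a F) (h : Matrix a a F) (c : F) :
    (∀ u v, bilM M (h *ᵥ u) (h *ᵥ v) = c * bilM M u v) ↔ hᵀ * M * h = c • M := by
  constructor
  · intro hc
    apply mat_ext_bilin
    intro x y
    rw [bilin_congr]
    have := hc x y
    unfold bilM at this
    rw [this, Matrix.smul_mulVec, dotProduct_smul, smul_eq_mul]
  · intro hc u v
    unfold bilM
    rw [← bilin_congr, hc, Matrix.smul_mulVec, dotProduct_smul, smul_eq_mul]

/-- transport of a similitude along an equivalence of forms, keeping multiplier and determinant. -/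
theorem exists_conj_sim (f : (a → F) → (a → F) → F) (f' : (b → F) → (b → F) → F) (T : (b → F) ≃ₗ[F] (a → F))
    (c₀ : F) (hc₀ : c₀ ≠ 0) (hT : ∀ u v, f (T u) (T v) = c₀ * f' u v) (h : GL a F) (c : F)
    (hc : ∀ u v, f ((h : Matrix a a F) *ᵥ u) ((h : Matrix a a F) *ᵥ v) = c * f u v) :
    ∃ h' : GL b F, (∀ u v, f' ((h' : Matrix b b F) *ᵥ u) ((h' : Matrix b b F) *ᵥ v) = c * f' u v) ∧
      Matrix.GeneralLinearGroup.det h' = Matrix.GeneralLinearGroup.det h := by
  set P : Matrix a b F := LinearMap.toMatrix' T.toLinearMap with hP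
  set Pi : Matrix b a F := LinearMap.toMatrix' T.symm.toLinearMap with hPi
  have h1 : P * Pi = 1 := by
    rw [hP, hPi, ← LinearMap.toMatrix'_comp, LinearEquiv.comp_coe, LinearEquiv.symm_trans_self,
      LinearEquiv.refl_toLinearMap, LinearMap.toMatrix'_id]
  have h2 : Pi * P = 1 := by
    rw [hP, hPi, ← LinearMap.toMatrix'_comp, LinearEquiv.comp_coe, LinearEquiv.self_trans_symm,
      LinearEquiv.refl_toLinearMap, LinearMap.toMatrix'_id]
  have hPv : ∀ v, P *ᵥ v = T v := by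
    intro v
    rw [hP, LinearMap.toMatrix'_mulVec]
    rfl
  have key : ∀ (v : b → F), T ((Pi * (h : Matrix a a F) * P) *ᵥ v) = (h : Matrix a a F) *ᵥ (T v) := by
    intro v
    rw [← hPv, Matrix.mulVec_mulVec, ← Matrix.mul_assoc, ← Matrix.mul_assoc, h1, Matrix.one_mul,
      ← Matrix.mulVec_mulVec, hPv]
  refine ⟨conjGL P Pi h1 h2 h, fun u v => ?_, det_conjGL P Pi h1 h2 h⟩
  rw [conjGL_val]
  have h3 := hT ((Pi * (h : Matrix a a F) * P) *ᵥ u) ((Pi * (h : Matrix a a F) * P) *ᵥ v)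
  rw [key, key, hc, hT] at h3
  have h5 : c₀ * f' ((Pi * (h : Matrix a a F) * P) *ᵥ u) ((Pi * (h : Matrix a a F) * P) *ᵥ v) =
      c₀ * (c * f' u v) := by
    rw [← h3]; ring
  exact mul_left_cancel₀ hc₀ h5

end

section
variable {F : Type u} [Field F] {n : ℕ}

/-- even dimension: the determinant of a similitude is `± c ^ (n/2)`. -/
theorem det_sim_even_form [Fintype F] {m : ℕ} (hnm : n = 2 * m) (U h : GL (Fin n) F) (c : Fˣ)
    (hc : (h : Matrix (Fin n) (Fin n) F)ᵀ * (U : Matrix (Fin n) (Fin n) F) * (h : Matrix (Fin n) (Fin n) F) =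
      (c : F) • (U : Matrix (Fin n) (Fin n) F)) :
    Matrix.GeneralLinearGroup.det h = c ^ m ∨ Matrix.GeneralLinearGroup.det h = -(c ^ m) := by
  have hd := det_sq_of_sim U h c hc
  have h1 : (Matrix.GeneralLinearGroup.det h * (c ^ m)⁻¹) ^ 2 = 1 := by
    rw [mul_pow, hd, hnm, inv_pow, ← pow_mul, mul_comm m 2, mul_inv_cancel]
  rcases sq_eq_one_units _ h1 with h3 | h3
  · left; exact mul_inv_eq_one.mp h3
  · right
    rw [mul_inv_eq_iff_eq_mul] at h3
    rw [h3, neg_one_mul]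

/-- odd dimension: the multiplier is a square `s ^ 2` and the determinant is `± s ^ n`. -/
theorem det_sim_odd_form [Fintype F] (hn : Odd n) (U h : GL (Fin n) F) (c : Fˣ)
    (hc : (h : Matrix (Fin n) (Fin n) F)ᵀ * (U : Matrix (Fin n) (Fin n) F) * (h : Matrix (Fin n) (Fin n) F) =
      (c : F) • (U : Matrix (Fin n) (Fin n) F)) :
    ∃ s : Fˣ, s ^ 2 = c ∧
      (Matrix.GeneralLinearGroup.det h = s ^ n ∨ Matrix.GeneralLinearGroup.det h = -(s ^ n)) := by
  have hd := det_sq_of_sim U h c hc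
  obtain ⟨k, hk⟩ := hn
  set d := Matrix.GeneralLinearGroup.det h with hd_def
  set ν : Fˣ := d * (c ^ k)⁻¹ with hν
  have h1 : ν ^ 2 = c := by
    rw [hν, mul_pow, hd, hk, inv_pow, ← pow_mul, pow_succ, mul_comm k 2]
    rw [mul_comm, ← mul_assoc, inv_mul_cancel, one_mul]
  have h2 : (d * (ν ^ n)⁻¹) ^ 2 = 1 := by
    rw [mul_pow, hd, inv_pow, ← pow_mul, mul_comm n 2, pow_mul, h1, mul_inv_cancel]
  refine ⟨ν, h1, ?_⟩
  rcases sq_eq_one_units _ h2 with h3 | h3
  · left; exact mul_inv_eq_one.mp h3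
  · right
    rw [mul_inv_eq_iff_eq_mul] at h3
    rw [h3, neg_one_mul]

/-- characteristic two, even dimension: the multiplier is a square `s ^ 2` and the determinant is `s ^ n`. -/
theorem det_sim_char2_form [Fintype F] [CharP F 2] (hn : Even n) (U h : GL (Fin n) F) (c : Fˣ)
    (hc : (h : Matrix (Fin n) (Fin n) F)ᵀ * (U : Matrix (Fin n) (Fin n) F) * (h : Matrix (Fin n) (Fin n) F) =
      (c : F) • (U : Matrix (Fin n) (Fin n) F)) :
    ∃ s : Fˣ, s ^ 2 = c ∧ Matrix.GeneralLinearGroup.det h = s ^ n := by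
  have hd := det_sq_of_sim U h c hc
  obtain ⟨k, hk⟩ := hn
  set d := Matrix.GeneralLinearGroup.det h with hd_def
  have hsq : IsSquare (c : F) := FiniteField.isSquare_of_char_two
    (CharP.ringChar_of_prime_eq_zero Nat.prime_two (CharP.cast_eq_zero F 2)) _
  obtain ⟨e, he⟩ := hsq
  have he0 : e ≠ 0 := by
    intro h0
    rw [h0, mul_zero] at he
    exact c.ne_zero he
  refine ⟨Units.mk0 e he0, ?_, ?_⟩
  · apply Units.ext
    rw [Units.val_pow_eq_pow_val, Units.val_mk0, he, pow_two]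
  · apply Units.ext
    rw [Units.val_pow_eq_pow_val, Units.val_mk0]
    have h1 : (d : F) * (d : F) = (e ^ n) * (e ^ n) := by
      have := congrArg Units.val hd
      rw [Units.val_pow_eq_pow_val, Units.val_pow_eq_pow_val, he] at this
      rw [← pow_two, this, hk]
      ring
    exact sq_inj_char2 _ _ h1

/-- alternating type: the determinant of a similitude is `c ^ (n/2)`. -/
theorem det_sim_alt_form {m : ℕ} (T : (Fin n → F) ≃ₗ[F] (Fin m ⊕ Fin m → F)) (U : GL (Fin n) F)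
    (hU : ∀ u v, bilM (U : Matrix (Fin n) (Fin n) F) u v = Cfsg.sympForm m F (T u) (T v))
    (h : GL (Fin n) F) (c : Fˣ)
    (hc : (h : Matrix (Fin n) (Fin n) F)ᵀ * (U : Matrix (Fin n) (Fin n) F) * (h : Matrix (Fin n) (Fin n) F) =
      (c : F) • (U : Matrix (Fin n) (Fin n) F)) :
    Matrix.GeneralLinearGroup.det h = c ^ m := by
  obtain ⟨h', hh', hdet⟩ := exists_conj_sim (bilM (U : Matrix (Fin n) (Fin n) F)) (Cfsg.sympForm m F) T.symm 1
    one_ne_zero (by
      intro u v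
      rw [hU, LinearEquiv.apply_symm_apply, LinearEquiv.apply_symm_apply, one_mul]) h (c : F)
    ((simM_iff_explicit _ _ _).mpr hc)
  rw [← hdet]
  apply det_of_sympl_sim m h' c
  rw [sympForm_eq_bilM] at hh'
  exact (simM_iff_explicit _ _ _).mp hh'

/-- alternating type: similitudes with every multiplier. -/
theorem exists_sim_alt {m : ℕ} (T : (Fin n → F) ≃ₗ[F] (Fin m ⊕ Fin m → F)) (U : GL (Fin n) F)
    (hU : ∀ u v, bilM (U : Matrix (Fin n) (Fin n) F) u v = Cfsg.sympForm m F (T u) (T v)) (c : Fˣ) :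
    ∃ h : GL (Fin n) F,
      (h : Matrix (Fin n) (Fin n) F)ᵀ * (U : Matrix (Fin n) (Fin n) F) * (h : Matrix (Fin n) (Fin n) F) =
        (c : F) • (U : Matrix (Fin n) (Fin n) F) := by
  obtain ⟨h', hh', -⟩ := exists_conj_sim (Cfsg.sympForm m F) (bilM (U : Matrix (Fin n) (Fin n) F)) T 1
    one_ne_zero (by
      intro u v
      rw [hU, one_mul]) (DcG m c) (c : F) (by
      rw [sympForm_eq_bilM]
      exact (simM_iff_explicit _ _ _).mpr (by rw [DcG_val, Dc_sim]))
  exact ⟨h', (simM_iff_explicit _ _ _).mp hh'⟩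

/-- symmetric type: a reflection. -/
theorem exists_refl_sim (h2 : (2 : F) ≠ 0) (hn1 : 1 ≤ n) (U : GL (Fin n) F)
    (hsymm : (U : Matrix (Fin n) (Fin n) F)ᵀ = U) :
    ∃ r : GL (Fin n) F,
      (r : Matrix (Fin n) (Fin n) F)ᵀ * (U : Matrix (Fin n) (Fin n) F) * (r : Matrix (Fin n) (Fin n) F) =
        (U : Matrix (Fin n) (Fin n) F) ∧ Matrix.GeneralLinearGroup.det r = -1 := by
  have hU0 : (U : Matrix (Fin n) (Fin n) F) ≠ 0 := by
    intro h0
    have h3 := gl_mul_inv U
    rw [h0, Matrix.zero_mul] at h3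
    have : Nonempty (Fin n) := ⟨⟨0, by omega⟩⟩
    exact zero_ne_one h3
  obtain ⟨v₀, hv₀⟩ : ∃ v₀, gramQ (U : Matrix (Fin n) (Fin n) F) v₀ ≠ 0 := by
    by_contra hcon
    push Not at hcon
    apply hU0
    apply symm_alt_zero h2 _ hsymm
    intro v
    rw [← gramQ_apply]
    exact hcon v
  set r := reflG (gramQ (U : Matrix (Fin n) (Fin n) F)) v₀ hv₀ with hr
  refine ⟨(r : GL (Fin n) F), ?_, ?_⟩
  · have h1 := sim_of_quad h2 (U : Matrix (Fin n) (Fin n) F) hsymm ((r : GL (Fin n) F) : Matrix (Fin n) (Fin n) F) 1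
      (by
        intro v
        rw [one_mul, ← gramQ_apply, ← gramQ_apply]
        exact iso_pres _ r v)
    rw [one_smul] at h1
    exact h1
  · apply Units.ext
    rw [Matrix.GeneralLinearGroup.val_det_apply, Units.val_neg, Units.val_one, hr, reflG_coe, refl_det _ _ hv₀]

/-- symmetric type, even dimension: similitudes with every multiplier. -/
theorem exists_sim_symm [Fintype F] (h2 : (2 : F) ≠ 0) {m : ℕ} (hm : 1 ≤ m) (hnm : n = 2 * m) (U : GL (Fin n) F)
    (hsymm : (U : Matrix (Fin n) (Fin n) F)ᵀ = U) (c : Fˣ) :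
    ∃ k : GL (Fin n) F,
      (k : Matrix (Fin n) (Fin n) F)ᵀ * (U : Matrix (Fin n) (Fin n) F) * (k : Matrix (Fin n) (Fin n) F) =
        (c : F) • (U : Matrix (Fin n) (Fin n) F) := by
  have hnd := gramQ_nondeg h2 (U : Matrix (Fin n) (Fin n) F) hsymm ⟨U, rfl⟩
  have hcard : Fintype.card (Fin n) = 2 * m := by rw [Fintype.card_fin, hnm]
  obtain ⟨Ψ, hΨ⟩ := exists_similitude (gramQ (U : Matrix (Fin n) (Fin n) F)) hnd m hm hcard (c : F) c.ne_zero
  obtain ⟨k, hk⟩ := exists_gl_of_equiv Ψ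
  refine ⟨k, ?_⟩
  apply sim_of_quad h2 _ hsymm
  intro v
  rw [hk, ← gramQ_apply, ← gramQ_apply, hΨ]

end

end Cfsg.Agent.Lib.Helper16.GS
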