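import Mathlib
import Cfsg.Agent.Lib.Helper16.GUSemi1

set_option autoImplicit false
set_option linter.unusedSectionVars false
set_option linter.unusedSimpArgs false
set_option linter.unusedVariables false
set_option linter.unusedTactic false

namespace Cfsg.Agent.Lib.Helper16.GUSemi

open Matrix Module Polynomial Cfsg.Agent.Lib.Helper16.PSemi

universe u

theorem gl_order_r_param_all {F : Type u} [Field F] [Fintype F] {p q : ℕ} [Fact p.Prime] [CharP F p]
    (hF : Fintype.card F = q) (r i t : ℕ) (hr : r.Prime) (hrp : r ≠ p)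
    (hi : i = orderOf (q : ZMod r)) (ht : t * i = r - 1) :
    ∃ (κ : Type u) (_ : Fintype κ) (_ : DecidableEq κ) (f : κ → F[X])
      (E : Type u) (_ : Field E) (_ : Algebra F E) (_ : Fintype E) (ω : κ → E),
      Fintype.card κ = t ∧ (∀ k, Irreducible (f k)) ∧ (∀ k, (f k).natDegree = i) ∧
      Pairwise (Function.onFun IsCoprime f) ∧ (X - 1) * ∏ k, f k = X ^ r - 1 ∧
      (∀ k, aeval (1 : F) (f k) ≠ 0) ∧
      (∀ k, aeval (ω k) (f k) = 0) ∧ (∀ k k', k ≠ k' → aeval (ω k') (f k) ≠ 0) ∧
      (∀ k, ω k ^ r = 1) ∧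
      (∀ (n : ℕ) (a : κ → ℕ), i * ∑ k, a k ≤ n → ∃ g : GL (Fin n) F, g.1 ^ r = 1 ∧
        ∀ k, kd g.1 (f k) = i * a k) ∧
      (∀ (n : ℕ) (g g' : GL (Fin n) F), g.1 ^ r = 1 → g'.1 ^ r = 1 →
        (∀ k, kd g.1 (f k) = kd g'.1 (f k)) → IsConj g g') ∧
      (∀ (n : ℕ) (g : Matrix (Fin n) (Fin n) F), g ^ r = 1 →
        (∀ k, i ∣ kd g (f k)) ∧ kd g (X - 1) + ∑ k, kd g (f k) = n) := by
  classical
  have hr2 : 2 ≤ r := hr.two_le
  have hi0 : 0 < i := by
    rcases Nat.eq_zero_or_pos i with h | h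
    · rw [h, mul_zero] at ht; omega
    · exact h
  have ht0 : 0 < t := by
    rcases Nat.eq_zero_or_pos t with h | h
    · rw [h, zero_mul] at ht; omega
    · exact h
  have hq2 : 2 ≤ q := by rw [← hF]; exact Fintype.one_lt_card
  have hrF : (r : F) ≠ 0 := by
    intro h
    rw [CharP.cast_eq_zero_iff F p] at h
    exact hrp ((Nat.prime_dvd_prime_iff_eq Fact.out hr).mp h).symm
  obtain ⟨κ, hκF, hκD, f, hκcard, hirr, hdeg, hcop, hdvd, hprod, hf1⟩ :=
    cyclo_data hF r i t hr hrp hi ht
  have hκne : Nonempty κ := by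
    rw [← Fintype.card_pos_iff, hκcard]; exact ht0
  obtain ⟨k₀⟩ := hκne
  obtain ⟨E, hEF, hEA, hEfin, ω, hEdim, hω0, hωne, hωr⟩ :=
    exists_root_field r hr hrF f hirr hcop hdvd k₀
  rw [hdeg] at hEdim
  have hEcard : Fintype.card E = q ^ i := by
    rw [Module.card_eq_pow_finrank (K := F) (V := E), hF, hEdim]
  obtain ⟨f', hf'⟩ : ∃ f' : Option κ → F[X], f' = fun o => Option.elim o (X - 1) f := ⟨_, rfl⟩
  have hf'none : f' none = X - 1 := by rw [hf']; rfl
  have hf'some : ∀ k, f' (some k) = f k := by intro k; rw [hf']; rfl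
  have hcop1 : ∀ k, IsCoprime (X - 1 : F[X]) (f k) := by
    intro k
    have hirr1 : Irreducible (X - C (1 : F)) := irreducible_X_sub_C 1
    rw [← C_1, hirr1.coprime_iff_not_dvd, dvd_iff_isRoot, IsRoot.def, ← coe_aeval_eq_eval]
    exact hf1 k
  have hcop' : Pairwise (Function.onFun IsCoprime f') := by
    intro o o' hoo'
    show IsCoprime (f' o) (f' o')
    cases o with
    | none =>
      cases o' with
      | none => exact absurd rfl hoo'
      | some k' => rw [hf'none, hf'some]; exact hcop1 k'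
    | some k =>
      cases o' with
      | none => rw [hf'none, hf'some]; exact (hcop1 k).symm
      | some k' =>
        rw [hf'some, hf'some]
        exact hcop (fun h => hoo' (by rw [h]))
  have hprod' : ∏ o, f' o = X ^ r - 1 := by
    rw [Fintype.prod_option, hf'none]
    simp only [hf'some]
    exact hprod
  have hkill : ∀ (n : ℕ) (g : Matrix (Fin n) (Fin n) F), g ^ r = 1 →
      aeval (Matrix.toLin' g) (∏ o, f' o) = 0 := by
    intro n g hg
    rw [hprod', map_sub, map_pow, aeval_X, map_one, ← Matrix.toLin'_pow, hg, Matrix.toLin'_one]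
    exact sub_self _
  have hsum : ∀ (n : ℕ) (g : Matrix (Fin n) (Fin n) F), g ^ r = 1 →
      kd g (X - 1) + ∑ k, kd g (f k) = n := by
    intro n g hg
    have h1 := sum_finrank_ker f' hcop' (Matrix.toLin' g) (hkill n g hg)
    rw [Fintype.sum_option, hf'none, Module.finrank_fintype_fun_eq_card, Fintype.card_fin] at h1
    have h2 : ∀ k, finrank F ↥(LinearMap.ker ((aeval (Matrix.toLin' g)) (f' (some k)))) = kd g (f k) :=
      fun k => congrArg (fun P => kd g P) (hf'some k)
    rw [Finset.sum_congr rfl (fun k _ => h2 k)] at h1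
    exact h1
  have hdiv : ∀ (n : ℕ) (g : Matrix (Fin n) (Fin n) F) (k : κ), i ∣ kd g (f k) := by
    intro n g k
    have := natDegree_dvd_finrank_ker (f k) (hirr k) (Matrix.toLin' g)
    rw [hdeg] at this
    exact this
  refine ⟨κ, hκF, hκD, f, E, hEF, hEA, hEfin, ω, hκcard, hirr, hdeg, hcop, hprod, hf1, hω0, hωne, hωr,
    ?_, ?_, ?_⟩
  · intro n a ha
    obtain ⟨g, hgr, hgk⟩ := exists_realization f ω hω0 hωne hf1 r hωr a (n - i * ∑ k, a k) n
      (by rw [hEdim, mul_comm (∑ k, a k) i]; omega)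
    obtain ⟨s, hs⟩ : ∃ s, r = s + 1 := ⟨r - 1, by omega⟩
    refine ⟨⟨g, g ^ s, ?_, ?_⟩, hgr, ?_⟩
    · rw [← pow_succ', ← hs, hgr]
    · rw [← pow_succ, ← hs, hgr]
    · intro k
      have h1 := hgk k
      rw [card_ker_eq, hF, hEcard, ← pow_mul] at h1
      exact Nat.pow_right_injective hq2 h1
  · intro n g g' hgr hgr' hk
    have hirr' : ∀ o, Irreducible (f' o) := by
      intro o
      cases o with
      | none => rw [hf'none, ← C_1]; exact irreducible_X_sub_C 1
      | some k => rw [hf'some]; exact hirr k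
    have hsumg := hsum n g.1 hgr
    have hsumr := hsum n g'.1 hgr'
    have hkeq : ∀ o, finrank F (LinearMap.ker (aeval (Matrix.toLin' g.1) (f' o)))
        = finrank F (LinearMap.ker (aeval (Matrix.toLin' g'.1) (f' o))) := by
      intro o
      cases o with
      | none =>
        show kd g.1 (f' none) = kd g'.1 (f' none)
        rw [hf'none]
        have h5 : ∑ k, kd g.1 (f k) = ∑ k, kd g'.1 (f k) :=
          Finset.sum_congr rfl (fun k _ => hk k)
        omega
      | some k =>
        show kd g.1 (f' (some k)) = kd g'.1 (f' (some k))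
        rw [hf'some]
        exact hk k
    obtain ⟨Ee, hEe⟩ := conj_of_finrank_ker f' hirr' hcop' (Matrix.toLin' g.1)
      (Matrix.toLin' g'.1) (hkill n _ hgr) (hkill n _ hgr') hkeq
    have hQ1 : LinearMap.toMatrix' Ee.toLinearMap * LinearMap.toMatrix' Ee.symm.toLinearMap = 1 := by
      rw [← LinearMap.toMatrix'_comp, LinearEquiv.comp_coe, LinearEquiv.symm_trans_self,
        LinearEquiv.refl_toLinearMap, LinearMap.toMatrix'_id]
    have hQ2 : LinearMap.toMatrix' Ee.symm.toLinearMap * LinearMap.toMatrix' Ee.toLinearMap = 1 :=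
      mul_eq_one_comm.mp hQ1
    have hQg : LinearMap.toMatrix' Ee.toLinearMap * g.1
        = g'.1 * LinearMap.toMatrix' Ee.toLinearMap := by
      have h2 : g.1 = LinearMap.toMatrix' (Matrix.toLin' g.1) := (LinearMap.toMatrix'_toLin' _).symm
      have h3 : g'.1 = LinearMap.toMatrix' (Matrix.toLin' g'.1) :=
        (LinearMap.toMatrix'_toLin' _).symm
      rw [h2, h3, ← LinearMap.toMatrix'_comp, ← LinearMap.toMatrix'_comp]
      congr 1
      apply LinearMap.ext
      intro v
      simp only [LinearMap.comp_apply, LinearEquiv.coe_coe]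
      exact hEe v
    apply isConj_iff.mpr
    refine ⟨⟨LinearMap.toMatrix' Ee.toLinearMap, LinearMap.toMatrix' Ee.symm.toLinearMap, hQ1, hQ2⟩, ?_⟩
    apply mul_inv_eq_of_eq_mul
    apply Units.ext
    exact hQg
  · intro n g hg
    exact ⟨fun k => hdiv n g k, hsum n g hg⟩

end Cfsg.Agent.Lib.Helper16.GUSemi
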