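import Mathlib
import Cfsg.Agent.Lib.Helper16.SAdj

set_option autoImplicit false
set_option linter.unusedSectionVars false
set_option linter.unusedSimpArgs false
set_option linter.unusedVariables false

namespace Cfsg.Agent.Lib.Helper16.HJ

open Matrix Cfsg.Agent.Lib.Helper16.RN

variable {K : Type*} [Field K]

/-- the conjugate-transpose adjoint for an involutive field endomorphism, general index type. -/
def cAdj (ι : Type*) [Fintype ι] [DecidableEq ι] (σ : K →+* K) (hσσ : ∀ x, σ (σ x) = x) :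
    AdjData ι K where
  σ := σ
  adj a := (a.map σ)ᵀ
  add' a b := by
    rw [Matrix.map_add σ (fun x y => map_add σ x y), Matrix.transpose_add]
  smul' c a := by
    rw [Matrix.map_smul' σ c a (fun x y => map_mul σ x y), Matrix.transpose_smul]
  mul' a b := by
    rw [Matrix.map_mul, Matrix.transpose_mul]
  one' := by
    rw [Matrix.map_one σ (map_zero σ) (map_one σ), Matrix.transpose_one]
  inv' a := by
    ext i j
    simp [hσσ]
  σσ := hσσ

theorem cAdj_apply {ι : Type*} [Fintype ι] [DecidableEq ι] (σ : K →+* K) (hσσ : ∀ x, σ (σ x) = x)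
    (a : Matrix ι ι K) : (cAdj ι σ hσσ).adj a = (a.map σ)ᵀ := rfl

theorem cAdj_sigma {ι : Type*} [Fintype ι] [DecidableEq ι] (σ : K →+* K) (hσσ : ∀ x, σ (σ x) = x) :
    (cAdj ι σ hσσ).σ = σ := rfl

theorem exists_half (σ : K →+* K) (hσσ : ∀ x, σ (σ x) = x) (θ : K) (hθ : σ θ ≠ θ) :
    ∃ c : K, c + σ c = 1 := by
  have h1 : θ - σ θ ≠ 0 := sub_ne_zero.mpr (Ne.symm hθ)
  have h2 : σ θ - θ ≠ 0 := sub_ne_zero.mpr hθ
  refine ⟨θ / (θ - σ θ), ?_⟩
  rw [map_div₀, map_sub, hσσ]
  field_simp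
  ring

theorem star_zero' {W : Type*} [AddCommGroup W] (star : W → W)
    (hadd : ∀ a b, star (a + b) = star a + star b) : star 0 = 0 := by
  have := hadd 0 0
  rw [add_zero] at this
  exact left_eq_add.mp this

theorem star_neg' {W : Type*} [AddCommGroup W] (star : W → W)
    (hadd : ∀ a b, star (a + b) = star a + star b) (a : W) : star (-a) = -star a := by
  have := hadd a (-a)
  rw [add_neg_cancel, star_zero' star hadd] at this
  exact eq_neg_of_add_eq_zero_right this.symm

theorem star_sub' {W : Type*} [AddCommGroup W] (star : W → W)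
    (hadd : ∀ a b, star (a + b) = star a + star b) (a b : W) : star (a - b) = star a - star b := by
  rw [sub_eq_add_neg, hadd, star_neg' star hadd, ← sub_eq_add_neg]

/-- Descent: a semilinear involution on a finite vector space has `√|W|` fixed points. -/
theorem card_fix_sq {W : Type*} [AddCommGroup W] [Module K W] [Finite W]
    (σ : K →+* K) (hσσ : ∀ x, σ (σ x) = x) (θ : K) (hθ : σ θ ≠ θ)
    (star : W → W) (hadd : ∀ a b, star (a + b) = star a + star b)
    (hsmul : ∀ (c : K) a, star (c • a) = σ c • star a) (hinv : ∀ a, star (star a) = a)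
    (S : W → Prop) (hS0 : S 0) (hSadd : ∀ a b, S a → S b → S (a + b))
    (hSsmul : ∀ (c : K) a, S a → S (c • a)) (hSstar : ∀ a, S a → S (star a)) :
    Nat.card {w : W // S w} = Nat.card {w : W // S w ∧ star w = w} ^ 2 := by
  have h1 : θ - σ θ ≠ 0 := sub_ne_zero.mpr (Ne.symm hθ)
  have hSsub : ∀ a b, S a → S b → S (a - b) := by
    intro a b ha hb
    have := hSadd a ((-1 : K) • b) ha (hSsmul _ _ hb)
    rwa [neg_one_smul, ← sub_eq_add_neg] at this
  rw [sq, ← Nat.card_prod]
  apply Nat.card_congr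
  refine {
    toFun := fun w => (⟨w.1 + star w.1, hSadd _ _ w.2 (hSstar _ w.2), by
        rw [hadd, hinv, add_comm]⟩,
      ⟨θ • w.1 + σ θ • star w.1, hSadd _ _ (hSsmul _ _ w.2) (hSsmul _ _ (hSstar _ w.2)), by
        rw [hadd, hsmul, hsmul, hinv, hσσ, add_comm]⟩)
    invFun := fun p => ⟨(θ - σ θ)⁻¹ • (p.2.1 - σ θ • p.1.1),
      hSsmul _ _ (hSsub _ _ p.2.2.1 (hSsmul _ _ p.1.2.1))⟩
    left_inv := ?_
    right_inv := ?_ }
  · intro w
    apply Subtype.ext
    simp only
    have : θ • w.1 + σ θ • star w.1 - σ θ • (w.1 + star w.1) = (θ - σ θ) • w.1 := by module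
    rw [this, smul_smul, inv_mul_cancel₀ h1, one_smul]
  · rintro ⟨⟨a, ha, ha'⟩, ⟨b, hb, hb'⟩⟩
    have hst : star ((θ - σ θ)⁻¹ • (b - σ θ • a)) = -((θ - σ θ)⁻¹ • (b - θ • a)) := by
      rw [hsmul, star_sub' star hadd, hsmul, ha', hb', hσσ, map_inv₀, map_sub, hσσ]
      have : σ θ - θ = -(θ - σ θ) := by ring
      rw [this, inv_neg, neg_smul]
    apply Prod.ext
    · apply Subtype.ext
      simp only
      rw [hst]
      have : (θ - σ θ)⁻¹ • (b - σ θ • a) + -((θ - σ θ)⁻¹ • (b - θ • a))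
          = (θ - σ θ)⁻¹ • ((θ - σ θ) • a) := by module
      rw [this, smul_smul, inv_mul_cancel₀ h1, one_smul]
    · apply Subtype.ext
      simp only
      rw [hst]
      have : θ • (θ - σ θ)⁻¹ • (b - σ θ • a) + σ θ • -((θ - σ θ)⁻¹ • (b - θ • a))
          = (θ - σ θ)⁻¹ • ((θ - σ θ) • b) := by module
      rw [this, smul_smul, inv_mul_cancel₀ h1, one_smul]

/-- Fibration of fixed points over fixed points. -/
theorem card_fix_fiber {W V : Type*} [AddCommGroup W] [Module K W] [AddCommGroup V] [Module K V]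
    (σ : K →+* K) (hσσ : ∀ x, σ (σ x) = x) (c : K) (hc : c + σ c = 1)
    (star : W → W) (hadd : ∀ a b, star (a + b) = star a + star b)
    (hsmul : ∀ (c : K) a, star (c • a) = σ c • star a) (hinv : ∀ a, star (star a) = a)
    (S : W → Prop) (hSadd : ∀ a b, S a → S b → S (a + b))
    (hSsmul : ∀ (c : K) a, S a → S (c • a)) (hSstar : ∀ a, S a → S (star a))
    (π : W →ₗ[K] V) (τ : V → V) (hπτ : ∀ w, S w → π (star w) = τ (π w))
    (hsurj : ∀ v, ∃ w, S w ∧ π w = v) (P : V → Prop) :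
    Nat.card {w : W // S w ∧ star w = w ∧ P (π w)} =
      Nat.card {v : V // τ v = v ∧ P v} * Nat.card {w : W // S w ∧ star w = w ∧ π w = 0} := by
  have hSsub : ∀ a b, S a → S b → S (a - b) := by
    intro a b ha hb
    have := hSadd a ((-1 : K) • b) ha (hSsmul _ _ hb)
    rwa [neg_one_smul, ← sub_eq_add_neg] at this
  choose s₀ hs₀S hs₀π using hsurj
  obtain ⟨s, hs⟩ : ∃ s : V → W, ∀ v, s v = c • s₀ v + σ c • star (s₀ v) := ⟨_, fun v => rfl⟩
  have hsS : ∀ v, S (s v) := by
    intro v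
    rw [hs]
    exact hSadd _ _ (hSsmul _ _ (hs₀S v)) (hSsmul _ _ (hSstar _ (hs₀S v)))
  have hsπ : ∀ v, τ v = v → π (s v) = v := by
    intro v hv
    rw [hs, map_add, map_smul, map_smul, hπτ _ (hs₀S v), hs₀π, hv, ← add_smul, hc, one_smul]
  have hsstar : ∀ v, star (s v) = s v := by
    intro v
    rw [hs, hadd, hsmul, hsmul, hinv, hσσ, add_comm]
  rw [← Nat.card_prod]
  apply Nat.card_congr
  have hτ : ∀ w, S w → star w = w → τ (π w) = π w := by
    intro w hw hw'
    rw [← hπτ w hw, hw']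
  refine {
    toFun := fun w => (⟨π w.1, hτ w.1 w.2.1 w.2.2.1, w.2.2.2⟩,
      ⟨w.1 - s (π w.1), hSsub _ _ w.2.1 (hsS _), by
        rw [star_sub' star hadd, w.2.2.1, hsstar], by
        rw [map_sub, hsπ _ (hτ w.1 w.2.1 w.2.2.1), sub_self]⟩)
    invFun := fun p => ⟨s p.1.1 + p.2.1, hSadd _ _ (hsS _) p.2.2.1, by
        rw [hadd, hsstar, p.2.2.2.1], by
        rw [map_add, hsπ _ p.1.2.1, p.2.2.2.2, add_zero]
        exact p.1.2.2⟩
    left_inv := ?_
    right_inv := ?_ }
  · intro w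
    apply Subtype.ext
    simp only
    abel
  · rintro ⟨⟨v, hv, hvP⟩, ⟨k, hk, hk', hk''⟩⟩
    have h1 : π (s v + k) = v := by
      rw [map_add, hsπ _ hv, hk'', add_zero]
    apply Prod.ext
    · apply Subtype.ext
      exact h1
    · apply Subtype.ext
      simp only
      rw [h1]
      abel

end Cfsg.Agent.Lib.Helper16.HJ
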