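import Cfsg.Agent.Lib.Helper16.JO3

set_option autoImplicit false

namespace Cfsg.Agent.Lib.Helper16.JO

open Matrix Module Cfsg.Agent.Lib.Helper16.JC Cfsg.Agent.Lib.Helper16.JS

universe u

variable {F : Type u} [Field F] {t : ℕ}

/-- The pairing involution on the blocks, for a general predicate on block sizes. -/
theorem exists_pairing' (d : Fin t → ℕ) (P : ℕ → Prop) (hpar : ∀ j : ℕ, ¬ P j → Even (mult d j)) :
    ∃ π : Fin t → Fin t, (∀ k, π (π k) = k) ∧ (∀ k, d (π k) = d k) ∧ ∀ k, π k = k ↔ P (d k) := by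
  classical
  have hex : ∀ j : ℕ, ∃ σ : {k : Fin t // d k = j} → {k : Fin t // d k = j},
      ¬ P j → (∀ x, σ (σ x) = x) ∧ ∀ x, σ x ≠ x := by
    intro j
    by_cases hj : P j
    · exact ⟨id, fun h => absurd hj h⟩
    · have hc : Even (Fintype.card {k : Fin t // d k = j}) := by
        rw [Fintype.card_subtype]
        exact hpar j hj
      obtain ⟨σ, h1, h2⟩ := exists_fpf_involution _ hc
      exact ⟨σ, fun _ => ⟨h1, h2⟩⟩
  choose σ hσ using hex
  have hval : ∀ (j : ℕ) (x : {k : Fin t // d k = j}), (σ (d x.val) ⟨x.val, rfl⟩).val = (σ j x).val := by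
    intro j x
    obtain ⟨k, rfl⟩ := x
    rfl
  let π : Fin t → Fin t := fun k => if P (d k) then k else (σ (d k) ⟨k, rfl⟩).val
  have hπe : ∀ k, P (d k) → π k = k := fun k h => if_pos h
  have hπo : ∀ k, ¬ P (d k) → π k = (σ (d k) ⟨k, rfl⟩).val := fun k h => if_neg h
  refine ⟨π, ?_, ?_, ?_⟩
  · intro k
    by_cases he : P (d k)
    · rw [hπe k he, hπe k he]
    · have hd' : d (σ (d k) ⟨k, rfl⟩).val = d k := (σ (d k) ⟨k, rfl⟩).property
      have he' : ¬ P (d (σ (d k) ⟨k, rfl⟩).val) := by rw [hd']; exact he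
      rw [hπo k he, hπo _ he', hval (d k) (σ (d k) ⟨k, rfl⟩), (hσ (d k) he).1]
  · intro k
    by_cases he : P (d k)
    · rw [hπe k he]
    · rw [hπo k he]
      exact (σ (d k) ⟨k, rfl⟩).property
  · intro k
    constructor
    · intro h
      by_contra he
      rw [hπo k he] at h
      apply (hσ (d k) he).2 ⟨k, rfl⟩
      exact Subtype.ext h
    · intro he
      exact hπe k he

theorem IsInvForm.T {n : ℕ} {f : ℕ → ℕ → F} (h : IsInvForm n f) :
    IsInvForm n (fun a b => f b a) := by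
  refine ⟨?_, ?_, ?_, ?_⟩
  · intro a b hab
    exact h.supp b a (by omega)
  · intro a b
    have := h.recur b a
    linear_combination this
  · intro x hx b hb
    apply h.nondegR x _ b hb
    intro a ha
    have := hx a ha
    rw [← this]
    apply Finset.sum_congr rfl
    intro c _
    ring
  · intro x hx a ha
    apply h.nondegL x _ a ha
    intro b hb
    have := hx b hb
    rw [← this]
    apply Finset.sum_congr rfl
    intro c _
    ring

/-- A generic global form built from block functions. -/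
def OmG (d : Fin t → ℕ) (π : Fin t → Fin t) (g : Fin t → ℕ → ℕ → F) : Matrix (Idx d) (Idx d) F :=
  Matrix.of fun x y => if y.1 = π x.1 then g x.1 x.2.val y.2.val else 0

theorem OmG_apply (d : Fin t → ℕ) (π : Fin t → Fin t) (g : Fin t → ℕ → ℕ → F) (x y : Idx d) :
    OmG d π g x y = if y.1 = π x.1 then g x.1 x.2.val y.2.val else 0 := rfl

theorem OmG_invariant (d : Fin t → ℕ) (π : Fin t → Fin t) (g : Fin t → ℕ → ℕ → F)
    (hπd : ∀ k, d (π k) = d k) (hg : ∀ k, IsInvForm (d k) (g k)) :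
    (Cfsg.jordanTypeMatrix d F)ᵀ * OmG d π g * Cfsg.jordanTypeMatrix d F = OmG d π g := by
  rw [jordan_eq, Matrix.transpose_add, Matrix.transpose_one]
  have hrel : (Nm d F)ᵀ * OmG d π g + OmG d π g * Nm d F + (Nm d F)ᵀ * (OmG d π g * Nm d F) = 0 := by
    ext ⟨k, i⟩ ⟨l, j⟩
    rw [Matrix.add_apply, Matrix.add_apply, NmT_mul, NmT_mul, mul_Nm, Matrix.zero_apply]
    by_cases hl : l = π k
    · subst hl
      have hgk := hg k
      have hdl : d (π k) = d k := hπd k
      have e1 : (if h : i.val + 1 < d k then OmG d π g ⟨k, ⟨i.val + 1, h⟩⟩ ⟨π k, j⟩ else 0) =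
          g k (i.val + 1) j.val := by
        by_cases h : i.val + 1 < d k
        · rw [dif_pos h, OmG_apply, if_pos rfl]
        · rw [dif_neg h, hgk.supp _ _ (by omega)]
      have e2 : (if h : j.val + 1 < d (π k) then OmG d π g ⟨k, i⟩ ⟨π k, ⟨j.val + 1, h⟩⟩ else 0) =
          g k i.val (j.val + 1) := by
        by_cases h : j.val + 1 < d (π k)
        · rw [dif_pos h, OmG_apply, if_pos rfl]
        · rw [dif_neg h, hgk.supp _ _ (by omega)]
      have e3 : (if h : i.val + 1 < d k then (OmG d π g * Nm d F) ⟨k, ⟨i.val + 1, h⟩⟩ ⟨π k, j⟩ else 0) =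
          g k (i.val + 1) (j.val + 1) := by
        by_cases h : i.val + 1 < d k
        · rw [dif_pos h, mul_Nm]
          by_cases h' : j.val + 1 < d (π k)
          · rw [dif_pos h', OmG_apply, if_pos rfl]
          · rw [dif_neg h', hgk.supp _ _ (by omega)]
        · rw [dif_neg h, hgk.supp _ _ (by omega)]
      rw [e1, e2, e3]
      exact hgk.recur i.val j.val
    · have z1 : ∀ (a : Fin (d k)) (b : Fin (d l)), OmG d π g ⟨k, a⟩ ⟨l, b⟩ = 0 := by
        intro a b
        rw [OmG_apply, if_neg hl]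
      have e1 : (if h : i.val + 1 < d k then OmG d π g ⟨k, ⟨i.val + 1, h⟩⟩ ⟨l, j⟩ else 0) = 0 := by
        split_ifs
        · exact z1 _ _
        · rfl
      have e2 : (if h : j.val + 1 < d l then OmG d π g ⟨k, i⟩ ⟨l, ⟨j.val + 1, h⟩⟩ else 0) = 0 := by
        split_ifs
        · exact z1 _ _
        · rfl
      have e3 : (if h : i.val + 1 < d k then (OmG d π g * Nm d F) ⟨k, ⟨i.val + 1, h⟩⟩ ⟨l, j⟩ else 0) = 0 := by
        split_ifs with h
        · rw [mul_Nm]
          split_ifs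
          · exact z1 _ _
          · rfl
        · rfl
      rw [e1, e2, e3]
      simp
  have : (1 + (Nm d F)ᵀ) * OmG d π g * (1 + Nm d F) =
      OmG d π g + ((Nm d F)ᵀ * OmG d π g + OmG d π g * Nm d F + (Nm d F)ᵀ * (OmG d π g * Nm d F)) := by
    simp only [add_mul, mul_add, one_mul, mul_one, mul_assoc]
    abel
  rw [this, hrel, add_zero]

theorem OmG_mulVec (d : Fin t → ℕ) (π : Fin t → Fin t) (g : Fin t → ℕ → ℕ → F) (v : Idx d → F)
    (k : Fin t) (a : Fin (d k)) :
    (OmG d π g *ᵥ v) ⟨k, a⟩ = ∑ b ∈ Finset.range (d (π k)), g k a.val b * vN d v (π k) b := by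
  rw [Matrix.mulVec, dotProduct, Fintype.sum_sigma, Finset.sum_eq_single (π k)]
  · rw [← Fin.sum_univ_eq_sum_range (fun b => g k a.val b * vN d v (π k) b)]
    apply Finset.sum_congr rfl
    intro b _
    rw [OmG_apply, if_pos rfl, vN_val]
  · intro l _ hl
    apply Finset.sum_eq_zero
    intro b _
    rw [OmG_apply, if_neg hl, zero_mul]
  · intro hh
    exact absurd (Finset.mem_univ _) hh

theorem OmG_det (d : Fin t → ℕ) (π : Fin t → Fin t) (g : Fin t → ℕ → ℕ → F)
    (hπ2 : ∀ k, π (π k) = k) (hπd : ∀ k, d (π k) = d k) (hg : ∀ k, IsInvForm (d k) (g k)) :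
    (OmG d π g).det ≠ 0 := by
  intro h0
  obtain ⟨v, hv0, hv⟩ := Matrix.exists_mulVec_eq_zero_iff.mpr h0
  apply hv0
  have key : ∀ k : Fin t, ∀ b, b < d k → vN d v (π k) b = 0 := by
    intro k
    apply (hg k).nondegL
    intro a ha
    have := congrFun hv ⟨k, ⟨a, ha⟩⟩
    rw [OmG_mulVec, hπd] at this
    exact this
  ext ⟨l, b⟩
  have h1 := key (π l) b.val (by rw [hπd]; exact b.isLt)
  rw [hπ2] at h1
  rw [vN_val] at h1
  exact h1

end Cfsg.Agent.Lib.Helper16.JO
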