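import Mathlib
import Cfsg.Agent.Lib.Helper16.HJ1
import Cfsg.Agent.Lib.Helper16.JO4
import Cfsg.Agent.Lib.Helper16.GUUnip

set_option autoImplicit false
set_option linter.unusedSectionVars false
set_option linter.unusedSimpArgs false
set_option linter.unusedVariables false

namespace Cfsg.Agent.Lib.Helper16.HJ

open Matrix Cfsg.Agent.Lib.Helper16.RN Cfsg.Agent.Lib.Helper16.JS Cfsg.Agent.Lib.Helper16.JC
  Cfsg.Agent.Lib.Helper16.FCR

universe u

variable {K : Type u} [Field K]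

theorem inv_antitri {n : ℕ} {f : ℕ → ℕ → K} (h : IsInvForm n f) :
    ∀ (m a b : ℕ), n ≤ a + b → 2 * n ≤ a + b + m → f a b = 0 := by
  intro m
  induction m with
  | zero =>
    intro a b _ h2
    apply h.supp
    omega
  | succ m ih =>
    intro a b
    induction b generalizing a with
    | zero =>
      intro h1 _
      apply h.supp
      omega
    | succ b ihb =>
      intro h1 h2
      have hr := h.recur a b
      rw [ihb (a + 1) (by omega) (by omega), ih (a + 1) (b + 1) (by omega) (by omega)] at hr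
      simpa using hr

theorem inv_antitri' {n : ℕ} {f : ℕ → ℕ → K} (h : IsInvForm n f) (a b : ℕ) (hab : n ≤ a + b) :
    f a b = 0 := inv_antitri h (2 * n) a b hab (by omega)

theorem inv_corner {n : ℕ} {f : ℕ → ℕ → K} (h : IsInvForm n f) (hn : 1 ≤ n) : f (n - 1) 0 ≠ 0 := by
  intro h0
  have h1 := h.nondegR (fun a => if a = n - 1 then 1 else 0) (by
    intro b hb
    rw [Finset.sum_eq_single (n - 1)]
    · rw [if_pos rfl, one_mul]
      by_cases hb0 : b = 0
      · rw [hb0]; exact h0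
      · exact inv_antitri' h _ _ (by omega)
    · intro a _ ha
      rw [if_neg ha, zero_mul]
    · intro hh
      exfalso
      apply hh
      rw [Finset.mem_range]
      omega) (n - 1) (by omega)
  simp at h1

theorem jordanBlock_map (σ : K →+* K) (m : ℕ) : (Cfsg.jordanBlock m K).map σ = Cfsg.jordanBlock m K := by
  ext i j
  unfold Cfsg.jordanBlock
  simp only [Matrix.map_apply, Matrix.of_apply]
  split_ifs <;> simp

theorem exists_herm_block [Fintype K] {q : ℕ} (hK : Fintype.card K = q ^ 2) (σ : K →+* K)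
    (hσ : ∀ x, σ x = x ^ q) (m : ℕ) :
    ∃ S : Matrix (Fin m) (Fin m) K, (S.map σ)ᵀ = S ∧ S.det ≠ 0 ∧
      (Cfsg.jordanBlock m K)ᵀ * S * Cfsg.jordanBlock m K = S := by
  classical
  obtain ⟨σ', Ad, θ₀, hσ', hσσ, hθ₀, hAσ, hAdj, hmem⟩ := gu_data m hK
  have hσeq : σ' = σ := by
    apply RingHom.ext
    intro x
    rw [hσ, hσ']
  subst hσeq
  obtain ⟨A, hA⟩ : ∃ A : GL (Fin m) K, A.1 = Cfsg.jordanBlock m K :=
    ⟨Matrix.GeneralLinearGroup.mkOfDetNeZero (Cfsg.jordanBlock m K) (by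
      rw [jordanBlock_det]; exact one_ne_zero), rfl⟩
  have hA0 : (A.1 - 1) ^ m = 0 := by
    rw [hA, jordanBlock_eq, add_sub_cancel_left]
    exact Lm_pow_eq_zero m m le_rfl
  obtain ⟨B, hB⟩ := unip_conj_into_GU hK A m hA0
  obtain ⟨c, hc⟩ := isConj_iff.mp hB
  have hB1 := (hmem B.1).mp B.2
  rw [← hc] at hB1
  have h2 : Ad.adjU A * (Ad.adjU c * c) * A = Ad.adjU c * c := by
    rw [Ad.adjU_mul, Ad.adjU_mul, Ad.adjU_inv] at hB1
    have h3 : (Ad.adjU c)⁻¹ * (Ad.adjU A * Ad.adjU c) * (c * A * c⁻¹) =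
        (Ad.adjU c)⁻¹ * (Ad.adjU A * (Ad.adjU c * c) * A) * c⁻¹ := by group
    rw [h3] at hB1
    have h4 : Ad.adjU A * (Ad.adjU c * c) * A = Ad.adjU c * 1 * c := by
      rw [← hB1]; group
    rw [h4, mul_one]
  refine ⟨(Ad.adjU c * c).1, ?_, ?_, ?_⟩
  · rw [← hAdj, ← Ad.adjU_val, Ad.adjU_gram]
  · exact ((Matrix.isUnit_iff_isUnit_det _).mp (Ad.adjU c * c).isUnit).ne_zero
  · have h5 := congrArg Units.val h2
    rw [Units.val_mul, Units.val_mul, Ad.adjU_val, hAdj, hA, jordanBlock_map] at h5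
    exact h5

theorem exists_herm_forms [Fintype K] {q : ℕ} (hK : Fintype.card K = q ^ 2) (σ : K →+* K)
    (hσ : ∀ x, σ x = x ^ q) :
    ∃ g : ℕ → ℕ → ℕ → K, (∀ m, IsInvForm m (g m)) ∧ (∀ m a b, σ (g m a b) = g m b a) := by
  choose S hS1 hS2 hS3 using exists_herm_block hK σ hσ
  refine ⟨fun m => fN m (S m), ?_, ?_⟩
  · intro m
    exact isInvForm_of_matrix m (S m) (hS2 m) (hS3 m)
  · intro m a b
    show σ (fN m (S m) a b) = fN m (S m) b a
    by_cases h : a < m ∧ b < m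
    · rw [fN_of_lt m _ a b h.1 h.2, fN_of_lt m _ b a h.2 h.1]
      have := congrFun (congrFun (hS1 m) ⟨b, h.2⟩) ⟨a, h.1⟩
      rw [Matrix.transpose_apply, Matrix.map_apply] at this
      exact this
    · rw [fN_of_not m _ a b h, fN_of_not m _ b a (by tauto), map_zero]

end Cfsg.Agent.Lib.Helper16.HJ
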