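import Mathlib
import Cfsg.Agent.Lib.Helper16.HJ2

set_option autoImplicit false
set_option linter.unusedSectionVars false
set_option linter.unusedSimpArgs false
set_option linter.unusedVariables false

namespace Cfsg.Agent.Lib.Helper16.HJ

open Matrix Cfsg.Agent.Lib.Helper16.RN Cfsg.Agent.Lib.Helper16.JS Cfsg.Agent.Lib.Helper16.JC
  Cfsg.Agent.Lib.Helper16.JO

universe u

variable {K : Type u} [Field K] {t : ℕ}

/-- the reference hermitian form on the Jordan type space -/
def Gref (d : Fin t → ℕ) (g : ℕ → ℕ → ℕ → K) : Matrix (Idx d) (Idx d) K :=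
  OmG d id (fun k => g (d k))

theorem Gref_apply (d : Fin t → ℕ) (g : ℕ → ℕ → ℕ → K) (x y : Idx d) :
    Gref d g x y = if y.1 = x.1 then g (d x.1) x.2.val y.2.val else 0 := rfl

theorem Gref_herm (d : Fin t → ℕ) (g : ℕ → ℕ → ℕ → K) (σ : K →+* K)
    (hgh : ∀ m a b, σ (g m a b) = g m b a) : ((Gref d g).map σ)ᵀ = Gref d g := by
  ext x y
  rw [Matrix.transpose_apply, Matrix.map_apply, Gref_apply, Gref_apply]
  by_cases h : x.1 = y.1
  · rw [if_pos h, if_pos h.symm, hgh]
    have : d y.1 = d x.1 := by rw [h]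
    exact congrArg (fun m => g m x.2.val y.2.val) this
  · rw [if_neg h, if_neg (fun hh => h hh.symm), map_zero]

theorem Gref_det (d : Fin t → ℕ) (g : ℕ → ℕ → ℕ → K) (hg : ∀ m, IsInvForm m (g m)) :
    (Gref d g).det ≠ 0 :=
  OmG_det d id _ (fun _ => rfl) (fun _ => rfl) (fun k => hg (d k))

theorem Gref_inv (d : Fin t → ℕ) (g : ℕ → ℕ → ℕ → K) (hg : ∀ m, IsInvForm m (g m)) :
    (Cfsg.jordanTypeMatrix d K)ᵀ * Gref d g * Cfsg.jordanTypeMatrix d K = Gref d g :=
  OmG_invariant d id _ (fun _ => rfl) (fun k => hg (d k))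

theorem Gref_last_row (d : Fin t → ℕ) (hd : ∀ k, 1 ≤ d k) (g : ℕ → ℕ → ℕ → K)
    (hg : ∀ m, IsInvForm m (g m)) (k : Fin t) (y : Idx d) :
    Gref d g ⟨k, ⟨d k - 1, by have := hd k; omega⟩⟩ y =
      if y = ⟨k, ⟨0, hd k⟩⟩ then g (d k) (d k - 1) 0 else 0 := by
  rw [Gref_apply]
  obtain ⟨l, j⟩ := y
  simp only
  by_cases h : l = k
  · subst h
    rw [if_pos rfl]
    by_cases hj : j.val = 0
    · have : j = ⟨0, hd l⟩ := Fin.ext hj
      rw [this, if_pos rfl]
    · rw [if_neg, inv_antitri' (hg (d l))]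
      · omega
      · intro hh
        apply hj
        have := congrArg (fun z : Idx d => z.2.val) hh
        simpa using this
  · rw [if_neg h, if_neg]
    intro hh
    exact h (congrArg Sigma.fst hh)

/-- the main computation: the adjoint with respect to the reference form acts on the top matrix
by conjugate transposition, on blocks of equal size. -/
theorem topM_adjoint (d : Fin t → ℕ) (hd : ∀ k, 1 ≤ d k) (g : ℕ → ℕ → ℕ → K)
    (hg : ∀ m, IsInvForm m (g m)) (σ : K →+* K) (X Y : Matrix (Idx d) (Idx d) K)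
    (hX : X * Nm d K = Nm d K * X) (hY : Gref d g * Y = (X.map σ)ᵀ * Gref d g)
    (k l : Fin t) (hkl : d k = d l) :
    topM d hd Y k l = σ (topM d hd X l k) := by
  rw [topM_apply, topM_apply]
  have h1 := congrFun (congrFun hY ⟨k, ⟨d k - 1, by have := hd k; omega⟩⟩) ⟨l, ⟨0, hd l⟩⟩
  rw [Matrix.mul_apply, Matrix.mul_apply] at h1
  rw [Finset.sum_eq_single (⟨k, ⟨0, hd k⟩⟩ : Idx d)] at h1
  rotate_left
  · intro b _ hb
    rw [Gref_last_row d hd g hg, if_neg hb, zero_mul]
  · intro hh
    exact absurd (Finset.mem_univ _) hh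
  rw [Gref_last_row d hd g hg, if_pos rfl] at h1
  rw [Fintype.sum_sigma, Finset.sum_eq_single l] at h1
  rotate_left
  · intro m _ hm
    apply Finset.sum_eq_zero
    intro i _
    rw [Gref_apply, if_neg (fun hh => hm hh.symm), mul_zero]
  · intro hh
    exact absurd (Finset.mem_univ _) hh
  rw [Finset.sum_eq_single (⟨d l - 1, by have := hd l; omega⟩ : Fin (d l))] at h1
  rotate_left
  · intro i _ hi
    rw [Matrix.transpose_apply, Matrix.map_apply,
      comm_formula d hd X hX l k (d k - 1) (by have := hd k; omega) i, dif_neg, map_zero, zero_mul]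
    intro hh
    apply hi
    apply Fin.ext
    simp only
    have := i.isLt
    omega
  · intro hh
    exact absurd (Finset.mem_univ _) hh
  rw [Matrix.transpose_apply, Matrix.map_apply,
    comm_formula d hd X hX l k (d k - 1) (by have := hd k; omega) ⟨d l - 1, by have := hd l; omega⟩,
    dif_pos (by simp only; omega), Gref_apply, if_pos rfl] at h1
  simp only at h1
  have h2 : (⟨d l - 1 - (d k - 1), by have := hd l; omega⟩ : Fin (d l)) = ⟨0, hd l⟩ := by
    apply Fin.ext
    simp only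
    omega
  have h4 : g (d l) (d l - 1) 0 = g (d k) (d k - 1) 0 := by rw [hkl]
  rw [h2, h4] at h1
  have h3 : g (d k) (d k - 1) 0 ≠ 0 := inv_corner (hg (d k)) (hd k)
  rw [mul_comm] at h1
  exact mul_right_cancel₀ h3 h1

end Cfsg.Agent.Lib.Helper16.HJ
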