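import Cfsg.Agent.Lib.Helper16.JC5

set_option autoImplicit false

namespace Cfsg.Agent.Lib.Helper16.JC

open Matrix

variable {F : Type*} [Field F] [Fintype F] {t : ℕ}

theorem card_det_ne_zero' (m : Type*) [Fintype m] [DecidableEq m] (n : ℕ) (h : Fintype.card m = n) :
    Nat.card {B : Matrix m m F // B.det ≠ 0} =
      ∏ j : Fin n, (Fintype.card F ^ n - Fintype.card F ^ (j : ℕ)) := by
  subst h
  exact card_det_ne_zero m

theorem card_fib (d : Fin t → ℕ) (i : Fin (Finset.univ.sup d + 1)) :
    Fintype.card {k // bD d k = i} = mult d i.val := by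
  rw [Fintype.card_subtype]
  unfold mult
  congr 1
  apply Finset.filter_congr
  intro k _
  rw [Fin.ext_iff]
  rfl

theorem card_BTset (d : Fin t → ℕ) :
    Nat.card (BTset d F) = Fintype.card F ^ Nat.card (Strict d) *
      ∏ i ∈ Finset.range (Finset.univ.sup d + 1), ∏ j : Fin (mult d i),
        (Fintype.card F ^ mult d i - Fintype.card F ^ (j : ℕ)) := by
  classical
  have : Finite (Strict d) := by unfold Strict; infer_instance
  rw [Nat.card_congr (btEquiv d), Nat.card_prod, Nat.card_fun, Nat.card_pi, Nat.card_eq_fintype_card (α := F)]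
  congr 1
  rw [← Fin.prod_univ_eq_prod_range (fun i => ∏ j : Fin (mult d i),
        (Fintype.card F ^ mult d i - Fintype.card F ^ (j : ℕ)))]
  apply Finset.prod_congr rfl
  intro i _
  exact card_det_ne_zero' _ _ (card_fib d i)

theorem card_Cset (d : Fin t → ℕ) (hd : ∀ k, 1 ≤ d k) :
    Nat.card (Cset d F) = Fintype.card F ^ (Nat.card (FreeP d) + Nat.card (Strict d)) *
      ∏ i ∈ Finset.range (Finset.univ.sup d + 1), ∏ j : Fin (mult d i),
        (Fintype.card F ^ mult d i - Fintype.card F ^ (j : ℕ)) := by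
  have : Finite (FreeP d) := by unfold FreeP; infer_instance
  rw [Nat.card_congr (csetEquiv d hd), Nat.card_prod, Nat.card_fun, card_BTset,
    Nat.card_eq_fintype_card (α := F), pow_add]
  ring

/-- The centraliser as a subtype of GL is in bijection with `Cset`. -/
noncomputable def centEquiv (d : Fin t → ℕ) :
    {g : GL (Idx d) F // (g : Matrix (Idx d) (Idx d) F) * Cfsg.jordanTypeMatrix d F =
      Cfsg.jordanTypeMatrix d F * (g : Matrix (Idx d) (Idx d) F)} ≃ Cset d F where
  toFun g := ⟨(g.1 : Matrix (Idx d) (Idx d) F), by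
    obtain ⟨g, h⟩ := g
    simp only
    rw [jordan_eq, mul_add, add_mul, mul_one, one_mul] at h
    exact add_left_cancel h, ((Matrix.isUnit_iff_isUnit_det _).mp g.1.isUnit).ne_zero⟩
  invFun X := ⟨Matrix.GeneralLinearGroup.mkOfDetNeZero X.1 X.2.2, by
    rw [jordan_eq, mul_add, add_mul, mul_one, one_mul]
    congr 1
    exact X.2.1⟩
  left_inv g := by
    apply Subtype.ext
    apply Units.ext
    rfl
  right_inv X := by
    apply Subtype.ext
    rfl

theorem S2581_aux {q : ℕ} (hF : Fintype.card F = q) (d : Fin t → ℕ) (hd : ∀ k, 1 ≤ d k) :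
    Nat.card {g : GL ((k : Fin t) × Fin (d k)) F // (g : Matrix ((k : Fin t) × Fin (d k)) ((k : Fin t) × Fin (d k)) F) * Cfsg.jordanTypeMatrix d F = Cfsg.jordanTypeMatrix d F * (g : Matrix ((k : Fin t) × Fin (d k)) ((k : Fin t) × Fin (d k)) F)} = q ^ (2 * (∑ i ∈ Finset.range (Finset.univ.sup d + 1), ∑ j ∈ Finset.range (Finset.univ.sup d + 1), if i < j then i * (Finset.univ.filter (fun k : Fin t => d k = i)).card * (Finset.univ.filter (fun k : Fin t => d k = j)).card else 0) + ∑ i ∈ Finset.range (Finset.univ.sup d + 1), (i - 1) * (Finset.univ.filter (fun k : Fin t => d k = i)).card ^ 2) * ∏ i ∈ Finset.range (Finset.univ.sup d + 1), ∏ j : Fin ((Finset.univ.filter (fun k : Fin t => d k = i)).card), (q ^ (Finset.univ.filter (fun k : Fin t => d k = i)).card - q ^ (j : ℕ)) := by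
  subst hF
  rw [Nat.card_congr (centEquiv d), card_Cset d hd, card_exponent d hd, exponent_identity d hd]
  rfl

end Cfsg.Agent.Lib.Helper16.JC
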