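import Mathlib
import Cfsg.Agent.Lib.Helper16.HJ3
import Cfsg.Agent.Lib.Helper16.JC6

set_option autoImplicit false
set_option linter.unusedSectionVars false
set_option linter.unusedSimpArgs false
set_option linter.unusedVariables false

namespace Cfsg.Agent.Lib.Helper16.HJ

open Matrix Cfsg.Agent.Lib.Helper16.RN Cfsg.Agent.Lib.Helper16.JS Cfsg.Agent.Lib.Helper16.JC
  Cfsg.Agent.Lib.Helper16.JO

universe u

variable {K : Type u} [Field K] {t : ℕ}

section general

variable {ι : Type*} [Fintype ι] [DecidableEq ι]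

/-- the adjoint with respect to a form `G` -/
noncomputable def starG (G : Matrix ι ι K) (σ : K →+* K) (X : Matrix ι ι K) : Matrix ι ι K :=
  G⁻¹ * (X.map σ)ᵀ * G

theorem starG_add (G : Matrix ι ι K) (σ : K →+* K) (X Y : Matrix ι ι K) :
    starG G σ (X + Y) = starG G σ X + starG G σ Y := by
  unfold starG
  rw [Matrix.map_add σ (fun x y => map_add σ x y), Matrix.transpose_add, mul_add, add_mul]

theorem starG_smul (G : Matrix ι ι K) (σ : K →+* K) (c : K) (X : Matrix ι ι K) :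
    starG G σ (c • X) = σ c • starG G σ X := by
  unfold starG
  rw [Matrix.map_smul' σ c X (fun x y => map_mul σ x y), Matrix.transpose_smul, Matrix.mul_smul,
    Matrix.smul_mul]

theorem mul_starG (G : Matrix ι ι K) (hG : G.det ≠ 0) (σ : K →+* K) (X : Matrix ι ι K) :
    G * starG G σ X = (X.map σ)ᵀ * G := by
  unfold starG
  rw [← Matrix.mul_assoc, ← Matrix.mul_assoc, Matrix.mul_nonsing_inv _ (Ne.isUnit hG), one_mul]

theorem eq_of_mul_eq (G : Matrix ι ι K) (hG : G.det ≠ 0) (X Y : Matrix ι ι K) (h : G * X = G * Y) :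
    X = Y := by
  have : G⁻¹ * (G * X) = G⁻¹ * (G * Y) := by rw [h]
  rwa [← Matrix.mul_assoc, ← Matrix.mul_assoc, Matrix.nonsing_inv_mul _ (Ne.isUnit hG), one_mul,
    one_mul] at this

theorem starG_starG (G : Matrix ι ι K) (hG : G.det ≠ 0) (σ : K →+* K) (hσσ : ∀ x, σ (σ x) = x)
    (hGh : (G.map σ)ᵀ = G) (X : Matrix ι ι K) : starG G σ (starG G σ X) = X := by
  apply eq_of_mul_eq G hG
  rw [mul_starG G hG]
  have h1 : ((G * starG G σ X).map σ)ᵀ = (((X.map σ)ᵀ * G).map σ)ᵀ := by rw [mul_starG G hG σ X]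
  rw [Matrix.map_mul, Matrix.transpose_mul, Matrix.map_mul, Matrix.transpose_mul, hGh] at h1
  rw [h1]
  congr 1
  ext i j
  simp [hσσ]

theorem det_ne_zero_of_inv (G J : Matrix ι ι K) (hG : G.det ≠ 0) (σ : K →+* K)
    (hJ : (J.map σ)ᵀ * G * J = G) : ((J.map σ)ᵀ * G).det ≠ 0 := by
  intro h0
  apply hG
  rw [← hJ, Matrix.det_mul, h0, zero_mul]

theorem starG_comm (G J : Matrix ι ι K) (hG : G.det ≠ 0) (σ : K →+* K)
    (hJ : (J.map σ)ᵀ * G * J = G) (X : Matrix ι ι K) (hX : X * J = J * X) :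
    starG G σ X * J = J * starG G σ X := by
  apply eq_of_mul_eq _ (det_ne_zero_of_inv G J hG σ hJ)
  have h1 : (J.map σ)ᵀ * (X.map σ)ᵀ = (X.map σ)ᵀ * (J.map σ)ᵀ := by
    rw [← Matrix.transpose_mul, ← Matrix.transpose_mul, ← Matrix.map_mul, ← Matrix.map_mul, hX]
  calc (J.map σ)ᵀ * G * (starG G σ X * J)
      = (J.map σ)ᵀ * (G * starG G σ X) * J := by simp only [Matrix.mul_assoc]
    _ = (J.map σ)ᵀ * ((X.map σ)ᵀ * G) * J := by rw [mul_starG G hG]
    _ = ((J.map σ)ᵀ * (X.map σ)ᵀ) * G * J := by simp only [Matrix.mul_assoc]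
    _ = (X.map σ)ᵀ * ((J.map σ)ᵀ * G * J) := by rw [h1]; simp only [Matrix.mul_assoc]
    _ = (X.map σ)ᵀ * G := by rw [hJ]
    _ = G * starG G σ X := by rw [mul_starG G hG]
    _ = (J.map σ)ᵀ * G * J * starG G σ X := by rw [hJ]
    _ = (J.map σ)ᵀ * G * (J * starG G σ X) := by simp only [Matrix.mul_assoc]

end general

theorem jordan_map (d : Fin t → ℕ) (σ : K →+* K) :
    (Cfsg.jordanTypeMatrix d K).map σ = Cfsg.jordanTypeMatrix d K := by
  rw [jordan_eq]
  ext a b
  rw [Matrix.map_apply, Matrix.add_apply, Nm_apply, map_add]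
  congr 1
  · by_cases h : a = b
    · rw [h, Matrix.one_apply_eq, map_one]
    · rw [Matrix.one_apply_ne h, map_zero]
  · split_ifs <;> simp

theorem comm_J_iff (d : Fin t → ℕ) (X : Matrix (Idx d) (Idx d) K) :
    X * Cfsg.jordanTypeMatrix d K = Cfsg.jordanTypeMatrix d K * X ↔ X * Nm d K = Nm d K * X := by
  rw [jordan_eq, mul_add, add_mul, mul_one, one_mul]
  exact add_right_inj X

/-- the diagonal blocks of the top matrix, as a linear map -/
def piJ (d : Fin t → ℕ) (hd : ∀ k, 1 ≤ d k) : Matrix (Idx d) (Idx d) K →ₗ[K]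
    ((i : Fin (Finset.univ.sup d + 1)) → Matrix {k // bD d k = i} {k // bD d k = i} K) where
  toFun X := fun i => (topM d hd X).toSquareBlock (bD d) i
  map_add' X Y := by
    funext i
    ext a b
    simp [Matrix.toSquareBlock_def, topM_apply]
  map_smul' c X := by
    funext i
    ext a b
    simp [Matrix.toSquareBlock_def, topM_apply]

theorem piJ_apply (d : Fin t → ℕ) (hd : ∀ k, 1 ≤ d k) (X : Matrix (Idx d) (Idx d) K)
    (i : Fin (Finset.univ.sup d + 1)) : piJ d hd X i = (topM d hd X).toSquareBlock (bD d) i := rfl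

theorem topM_bt (d : Fin t → ℕ) (hd : ∀ k, 1 ≤ d k) (X : Matrix (Idx d) (Idx d) K)
    (hX : X * Nm d K = Nm d K * X) : (topM d hd X).BlockTriangular d := by
  intro k l hkl
  rw [topM_apply]
  exact comm_constraint d hd X hX l k ⟨0, hd k⟩ (by simpa using hkl)

theorem Xof_cOf_self (d : Fin t → ℕ) (hd : ∀ k, 1 ≤ d k) (X : Matrix (Idx d) (Idx d) K)
    (hX : X * Nm d K = Nm d K * X) :
    Xof d (cOf d (topM d hd X) (fun x => X x.1.1 ⟨x.1.2, ⟨0, hd _⟩⟩)) = X := by
  apply Xof_eq d hd X hX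
  intro l a
  unfold cOf
  simp only
  by_cases h0 : a.2.val = 0
  · rw [dif_pos h0, topM_apply]
    congr 1
    obtain ⟨k, s⟩ := a
    simp only at h0 ⊢
    have hs : s = ⟨0, hd k⟩ := Fin.ext h0
    rw [hs]
  · rw [dif_neg h0]
    by_cases h : d a.1 ≤ a.2.val + d l
    · rw [dif_pos h]
    · rw [dif_neg h]
      symm
      obtain ⟨k, s⟩ := a
      exact comm_constraint d hd X hX l k s (by simpa using h)

theorem piJ_surj (d : Fin t → ℕ) (hd : ∀ k, 1 ≤ d k)
    (v : (i : Fin (Finset.univ.sup d + 1)) → Matrix {k // bD d k = i} {k // bD d k = i} K) :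
    ∃ X : Matrix (Idx d) (Idx d) K, X * Nm d K = Nm d K * X ∧ piJ d hd X = v := by
  refine ⟨Xof d (cOf d (ofParts d (fun _ => 0) v) (fun _ => 0)),
    Xof_comm d _ (cOf_constraint d _ ((bt_iff d _).mpr (ofParts_bt d _ _)) _), ?_⟩
  funext i
  rw [piJ_apply, topM_Xof, ofParts_block]

/-- parametrization of the radical of the commutant -/
noncomputable def kerEquiv (d : Fin t → ℕ) (hd : ∀ k, 1 ≤ d k) :
    {X : Matrix (Idx d) (Idx d) K // X * Nm d K = Nm d K * X ∧ piJ d hd X = 0} ≃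
      (Strict d → K) × (FreeP d → K) where
  toFun X := (fun x => topM d hd X.1 x.1.1 x.1.2, fun x => X.1 x.1.1 ⟨x.1.2, ⟨0, hd _⟩⟩)
  invFun p := ⟨Xof d (cOf d (ofParts d p.1 (fun _ => 0)) p.2),
    Xof_comm d _ (cOf_constraint d _ ((bt_iff d _).mpr (ofParts_bt d _ _)) _), by
      funext i
      rw [piJ_apply, topM_Xof, ofParts_block]
      rfl⟩
  left_inv X := by
    apply Subtype.ext
    simp only
    have h1 : ofParts d (fun x => topM d hd X.1 x.1.1 x.1.2) (fun _ => 0) = topM d hd X.1 := by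
      have h2 := ofParts_eq d (topM d hd X.1) (topM_bt d hd X.1 X.2.1)
      have h3 : (fun i => (topM d hd X.1).toSquareBlock (bD d) i) = fun _ => 0 := by
        funext i
        have := congrFun X.2.2 i
        rw [piJ_apply] at this
        exact this
      rw [h3] at h2
      exact h2
    rw [h1]
    exact Xof_cOf_self d hd X.1 X.2.1
  right_inv p := by
    obtain ⟨u, r⟩ := p
    apply Prod.ext
    · funext x
      obtain ⟨⟨k, l⟩, hx⟩ := x
      simp only
      rw [topM_Xof]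
      unfold ofParts
      rw [Matrix.of_apply, dif_pos hx]
    · funext x
      obtain ⟨⟨a, l⟩, hx1, hx2⟩ := x
      simp only
      rw [Xof_zero]
      unfold cOf
      simp only at hx1 hx2
      rw [dif_neg (by omega), dif_pos hx2]

theorem card_ker [Fintype K] (d : Fin t → ℕ) (hd : ∀ k, 1 ≤ d k) :
    Nat.card {X : Matrix (Idx d) (Idx d) K // X * Nm d K = Nm d K * X ∧ piJ d hd X = 0} =
      Fintype.card K ^ (Nat.card (FreeP d) + Nat.card (Strict d)) := by
  have : Finite (FreeP d) := by unfold FreeP; infer_instance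
  have : Finite (Strict d) := by unfold Strict; infer_instance
  rw [Nat.card_congr (kerEquiv d hd), Nat.card_prod, Nat.card_fun, Nat.card_fun,
    Nat.card_eq_fintype_card (α := K), pow_add, mul_comm]

theorem piJ_starG (d : Fin t → ℕ) (hd : ∀ k, 1 ≤ d k) (g : ℕ → ℕ → ℕ → K)
    (hg : ∀ m, IsInvForm m (g m)) (σ : K →+* K) (X : Matrix (Idx d) (Idx d) K)
    (hX : X * Nm d K = Nm d K * X) :
    piJ d hd (starG (Gref d g) σ X) = fun i => ((piJ d hd X i).map σ)ᵀ := by
  funext i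
  ext ⟨k, hk⟩ ⟨l, hl⟩
  rw [piJ_apply, Matrix.toSquareBlock_def, Matrix.of_apply, Matrix.transpose_apply, Matrix.map_apply,
    piJ_apply, Matrix.toSquareBlock_def, Matrix.of_apply]
  simp only
  apply topM_adjoint d hd g hg σ X _ hX (mul_starG _ (Gref_det d g hg) σ X)
  have h1 := (bD_eq_iff d k l).mp (hk.trans hl.symm)
  exact h1

end Cfsg.Agent.Lib.Helper16.HJ
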