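import Mathlib
import Cfsg.Agent.Lib.Helper16.HJ4

set_option autoImplicit false
set_option linter.unusedSectionVars false
set_option linter.unusedSimpArgs false
set_option linter.unusedVariables false

namespace Cfsg.Agent.Lib.Helper16.HJ

open Matrix Cfsg.Agent.Lib.Helper16.RN Cfsg.Agent.Lib.Helper16.JS Cfsg.Agent.Lib.Helper16.JC
  Cfsg.Agent.Lib.Helper16.JO

universe u

variable {K : Type u} [Field K] {t : ℕ}

/-- invertible hermitian forms preserved by `M` -/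
abbrev Hmat {ι : Type*} [Fintype ι] [DecidableEq ι] (σ : K →+* K) (M : Matrix ι ι K) : Type _ :=
  {h : Matrix ι ι K // (h.map σ)ᵀ = h ∧ h.det ≠ 0 ∧ (M.map σ)ᵀ * h * M = h}

/-- invertible hermitian matrices -/
abbrev Hinv (ι : Type*) [Fintype ι] [DecidableEq ι] (σ : K →+* K) : Type _ :=
  {h : Matrix ι ι K // (h.map σ)ᵀ = h ∧ h.det ≠ 0}

/-- forms preserved by the Jordan matrix versus self-adjoint units of the commutant -/
theorem card_hmat_eq (d : Fin t → ℕ) (hd : ∀ k, 1 ≤ d k) (g : ℕ → ℕ → ℕ → K)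
    (hg : ∀ m, IsInvForm m (g m)) (σ : K →+* K) (hσσ : ∀ x, σ (σ x) = x)
    (hgh : ∀ m a b, σ (g m a b) = g m b a) :
    Nat.card (Hmat σ (Cfsg.jordanTypeMatrix d K)) =
      Nat.card {X : Matrix (Idx d) (Idx d) K // X * Nm d K = Nm d K * X ∧
        starG (Gref d g) σ X = X ∧ ∀ i, (piJ d hd X i).det ≠ 0} := by
  obtain ⟨G, hGdef⟩ : ∃ G, G = Gref d g := ⟨_, rfl⟩
  have hGdet : G.det ≠ 0 := by rw [hGdef]; exact Gref_det d g hg
  have hGh : (G.map σ)ᵀ = G := by rw [hGdef]; exact Gref_herm d g σ hgh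
  have hJ : ((Cfsg.jordanTypeMatrix d K).map σ)ᵀ * G * Cfsg.jordanTypeMatrix d K = G := by
    rw [jordan_map, hGdef]; exact Gref_inv d g hg
  rw [← hGdef]
  have hGG : G * G⁻¹ = 1 := Matrix.mul_nonsing_inv _ (Ne.isUnit hGdet)
  have hGG' : G⁻¹ * G = 1 := Matrix.nonsing_inv_mul _ (Ne.isUnit hGdet)
  have hdetiff : ∀ X : Matrix (Idx d) (Idx d) K, X * Nm d K = Nm d K * X →
      (X.det ≠ 0 ↔ ∀ i, (piJ d hd X i).det ≠ 0) := by
    intro X hX
    rw [det_ne_zero_iff d hd X hX,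
      det_ne_zero_iff_blocks d _ ((bt_iff d _).mp (topM_bt d hd X hX))]
    rfl
  have hGinvdet : (G⁻¹).det ≠ 0 := by
    intro h0
    have := congrArg Matrix.det hGG
    rw [Matrix.det_mul, h0, mul_zero, Matrix.det_one] at this
    exact zero_ne_one this
  apply Nat.card_congr
  refine {
    toFun := fun h => ⟨G⁻¹ * h.1, ?_, ?_, ?_⟩
    invFun := fun X => ⟨G * X.1, ?_, ?_, ?_⟩
    left_inv := ?_
    right_inv := ?_ }
  · -- commutes
    rw [← comm_J_iff]
    apply eq_of_mul_eq _ (det_ne_zero_of_inv G _ hGdet σ hJ)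
    have h1 : G * (G⁻¹ * h.1) = h.1 := by rw [← Matrix.mul_assoc, hGG, one_mul]
    calc ((Cfsg.jordanTypeMatrix d K).map σ)ᵀ * G * (G⁻¹ * h.1 * Cfsg.jordanTypeMatrix d K)
        = ((Cfsg.jordanTypeMatrix d K).map σ)ᵀ * (G * (G⁻¹ * h.1)) * Cfsg.jordanTypeMatrix d K := by
          simp only [Matrix.mul_assoc]
      _ = G * (G⁻¹ * h.1) := by rw [h1, h.2.2.2]
      _ = ((Cfsg.jordanTypeMatrix d K).map σ)ᵀ * G * Cfsg.jordanTypeMatrix d K * (G⁻¹ * h.1) := by
          rw [hJ]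
      _ = _ := by simp only [Matrix.mul_assoc]
  · -- self-adjoint
    apply eq_of_mul_eq G hGdet
    rw [mul_starG G hGdet, Matrix.map_mul, Matrix.transpose_mul, h.2.1, ← Matrix.mul_assoc, hGG,
      one_mul, Matrix.mul_assoc]
    have h2 : ((G⁻¹).map σ)ᵀ * G = 1 := by
      nth_rewrite 2 [← hGh]
      rw [← Matrix.transpose_mul, ← Matrix.map_mul, hGG,
        Matrix.map_one σ (map_zero σ) (map_one σ), Matrix.transpose_one]
    rw [h2, mul_one]
  · -- blocks invertible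
    have hX : G⁻¹ * h.1 * Nm d K = Nm d K * (G⁻¹ * h.1) := by
      rw [← comm_J_iff]
      apply eq_of_mul_eq _ (det_ne_zero_of_inv G _ hGdet σ hJ)
      have h1 : G * (G⁻¹ * h.1) = h.1 := by rw [← Matrix.mul_assoc, hGG, one_mul]
      calc ((Cfsg.jordanTypeMatrix d K).map σ)ᵀ * G * (G⁻¹ * h.1 * Cfsg.jordanTypeMatrix d K)
          = ((Cfsg.jordanTypeMatrix d K).map σ)ᵀ * (G * (G⁻¹ * h.1)) * Cfsg.jordanTypeMatrix d K := by
            simp only [Matrix.mul_assoc]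
        _ = G * (G⁻¹ * h.1) := by rw [h1, h.2.2.2]
        _ = ((Cfsg.jordanTypeMatrix d K).map σ)ᵀ * G * Cfsg.jordanTypeMatrix d K * (G⁻¹ * h.1) := by
            rw [hJ]
        _ = _ := by simp only [Matrix.mul_assoc]
    rw [← hdetiff _ hX, Matrix.det_mul]
    exact mul_ne_zero hGinvdet h.2.2.1
  · -- hermitian
    rw [Matrix.map_mul, Matrix.transpose_mul, hGh, ← mul_starG G hGdet, X.2.2.1]
  · -- det
    rw [Matrix.det_mul]
    exact mul_ne_zero hGdet ((hdetiff X.1 X.2.1).mpr X.2.2.2)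
  · -- invariant
    have hX := (comm_J_iff d X.1).mpr X.2.1
    calc ((Cfsg.jordanTypeMatrix d K).map σ)ᵀ * (G * X.1) * Cfsg.jordanTypeMatrix d K
        = ((Cfsg.jordanTypeMatrix d K).map σ)ᵀ * G * (X.1 * Cfsg.jordanTypeMatrix d K) := by
          simp only [Matrix.mul_assoc]
      _ = ((Cfsg.jordanTypeMatrix d K).map σ)ᵀ * G * Cfsg.jordanTypeMatrix d K * X.1 := by
          rw [hX]; simp only [Matrix.mul_assoc]
      _ = G * X.1 := by rw [hJ]
  · intro h
    apply Subtype.ext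
    show G * (G⁻¹ * h.1) = h.1
    rw [← Matrix.mul_assoc, hGG, one_mul]
  · intro X
    apply Subtype.ext
    show G⁻¹ * (G * X.1) = X.1
    rw [← Matrix.mul_assoc, hGG', one_mul]

end Cfsg.Agent.Lib.Helper16.HJ

namespace Cfsg.Agent.Lib.Helper16.HJ

open Matrix Cfsg.Agent.Lib.Helper16.RN Cfsg.Agent.Lib.Helper16.JS Cfsg.Agent.Lib.Helper16.JC
  Cfsg.Agent.Lib.Helper16.JO

universe u

variable {K : Type u} [Field K] {t : ℕ}

theorem card_Hmat_J [Fintype K] {q : ℕ} (hK : Fintype.card K = q ^ 2)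
    (d : Fin t → ℕ) (hd : ∀ k, 1 ≤ d k) (g : ℕ → ℕ → ℕ → K)
    (hg : ∀ m, IsInvForm m (g m)) (σ : K →+* K) (hσσ : ∀ x, σ (σ x) = x)
    (θ : K) (hθ : σ θ ≠ θ) (hgh : ∀ m a b, σ (g m a b) = g m b a) :
    Nat.card (Hmat σ (Cfsg.jordanTypeMatrix d K)) =
      q ^ (Nat.card (FreeP d) + Nat.card (Strict d)) *
        ∏ i : Fin (Finset.univ.sup d + 1), Nat.card (Hinv {k // bD d k = i} σ) := by
  classical
  rw [card_hmat_eq d hd g hg σ hσσ hgh]
  obtain ⟨c, hc⟩ := exists_half σ hσσ θ hθ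
  obtain ⟨G, hGdef⟩ : ∃ G, G = Gref d g := ⟨_, rfl⟩
  have hGdet : G.det ≠ 0 := by rw [hGdef]; exact Gref_det d g hg
  have hGh : (G.map σ)ᵀ = G := by rw [hGdef]; exact Gref_herm d g σ hgh
  have hJ : ((Cfsg.jordanTypeMatrix d K).map σ)ᵀ * G * Cfsg.jordanTypeMatrix d K = G := by
    rw [jordan_map, hGdef]; exact Gref_inv d g hg
  have hSadd : ∀ a b : Matrix (Idx d) (Idx d) K, a * Nm d K = Nm d K * a →
      b * Nm d K = Nm d K * b → (a + b) * Nm d K = Nm d K * (a + b) := by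
    intro a b ha hb
    rw [add_mul, mul_add, ha, hb]
  have hSsmul : ∀ (c : K) (a : Matrix (Idx d) (Idx d) K), a * Nm d K = Nm d K * a →
      (c • a) * Nm d K = Nm d K * (c • a) := by
    intro c a ha
    rw [Matrix.smul_mul, Matrix.mul_smul, ha]
  have hSstar : ∀ a : Matrix (Idx d) (Idx d) K, a * Nm d K = Nm d K * a →
      starG G σ a * Nm d K = Nm d K * starG G σ a := by
    intro a ha
    rw [← comm_J_iff] at ha ⊢
    exact starG_comm G _ hGdet σ hJ a ha
  have hπτ : ∀ X : Matrix (Idx d) (Idx d) K, X * Nm d K = Nm d K * X →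
      piJ d hd (starG G σ X) = (fun v i => ((v i).map σ)ᵀ) (piJ d hd X) := by
    intro X hX
    rw [hGdef]
    exact piJ_starG d hd g hg σ X hX
  have h1 := card_fix_fiber σ hσσ c hc (starG G σ) (starG_add G σ) (starG_smul G σ)
    (starG_starG G hGdet σ hσσ hGh) (fun X => X * Nm d K = Nm d K * X) hSadd hSsmul hSstar
    (piJ d hd) (fun v i => ((v i).map σ)ᵀ) hπτ (piJ_surj d hd) (fun v => ∀ i, (v i).det ≠ 0)
  rw [← hGdef, h1, mul_comm]
  congr 1
  · -- the radical part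
    have h2 := card_fix_sq σ hσσ θ hθ (starG G σ) (starG_add G σ) (starG_smul G σ)
      (starG_starG G hGdet σ hσσ hGh) (fun X => X * Nm d K = Nm d K * X ∧ piJ d hd X = 0)
      ⟨by rw [zero_mul, mul_zero], map_zero _⟩
      (fun a b ha hb => ⟨hSadd a b ha.1 hb.1, by rw [map_add, ha.2, hb.2, add_zero]⟩)
      (fun c a ha => ⟨hSsmul c a ha.1, by rw [map_smul, ha.2, smul_zero]⟩)
      (fun a ha => ⟨hSstar a ha.1, by
        rw [hπτ a ha.1, ha.2]
        funext i
        ext x y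
        simp⟩)
    rw [card_ker d hd, hK, ← pow_mul, mul_comm 2, pow_mul] at h2
    have h3 := Nat.pow_left_injective (n := 2) (by norm_num) h2
    rw [h3]
    apply Nat.card_congr
    exact Equiv.subtypeEquivRight (fun X => by tauto)
  · rw [← Nat.card_pi]
    apply Nat.card_congr
    exact {
      toFun := fun v i => ⟨v.1 i, congrFun v.2.1 i, v.2.2 i⟩
      invFun := fun f => ⟨fun i => (f i).1, funext fun i => (f i).2.1, fun i => (f i).2.2⟩
      left_inv := fun v => rfl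
      right_inv := fun f => rfl }

end Cfsg.Agent.Lib.Helper16.HJ
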