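import Mathlib
import Cfsg.Agent.Lib.Helper16.HJ5

set_option autoImplicit false
set_option linter.unusedSectionVars false
set_option linter.unusedSimpArgs false
set_option linter.unusedVariables false

namespace Cfsg.Agent.Lib.Helper16.HJ

open Polynomial Matrix Cfsg.Agent.Lib.Helper16.RN Cfsg.Agent.Lib.Helper16.FCR

universe u

variable {K : Type u} [Field K]

/-- a hermitian form preserved by a unitary `u` is `YᴴY` with `Y` commuting with `u`. -/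
theorem exists_sqrt_comm [Fintype K] {q n : ℕ} (hK : Fintype.card K = q ^ 2) (σ : K →+* K)
    (hσ : ∀ x, σ x = x ^ q) (u : ↥(Cfsg.GU n K q)) (h : Hmat σ (u.1.1 : Matrix (Fin n) (Fin n) K)) :
    ∃ Y : GL (Fin n) K, Y * u.1 = u.1 * Y ∧ ((Y.1.map σ)ᵀ * Y.1 = h.1) := by
  classical
  obtain ⟨σ', Ad, θ₀, hσ', hσσ, hθ₀, hAσ, hAdj, hmem⟩ := gu_data n hK
  have hσeq : σ' = σ := by
    apply RingHom.ext
    intro x
    rw [hσ, hσ']
  subst hσeq
  obtain ⟨h, hh1, hh2, hh3⟩ := h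
  simp only
  obtain ⟨T, hT⟩ : ∃ T : GL (Fin n) K, T.1 = h :=
    ⟨Matrix.GeneralLinearGroup.mkOfDetNeZero h hh2, rfl⟩
  have hTadj : Ad.adj T.1 = T.1 := by rw [hAdj, hT, hh1]
  have hu1 : Ad.adjU u.1 * u.1 = 1 := (hmem u.1).mp u.2
  have hu2 : u.1 * Ad.adjU u.1 = 1 := mul_eq_one_comm.mp hu1
  have hTu : T * u.1 = u.1 * T := by
    have h1 : Ad.adjU u.1 * T * u.1 = T := by
      apply Units.ext
      rw [Units.val_mul, Units.val_mul, Ad.adjU_val, hAdj, hT]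
      exact hh3
    calc T * u.1 = u.1 * (Ad.adjU u.1 * T * u.1) := by
          rw [← mul_assoc, ← mul_assoc, hu2, one_mul]
      _ = u.1 * T := by rw [h1]
  have hkey := (key (E := Matrix (Fin n) (Fin n) K) σ' hσσ θ₀ hθ₀ Ad.adj Ad.add' Ad.mul'
    (fun c a => by rw [Ad.smul', hAσ]) Ad.one' T.1 X (by rw [hTadj, aeval_X])
    (by rw [hTadj, hTadj])).1 T.isUnit hTadj
  obtain ⟨c, hc⟩ := hkey
  obtain ⟨cm, hcm⟩ : ∃ cm, cm = aeval T.1 c := ⟨_, rfl⟩
  rw [← hcm] at hc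
  have hcomm : Commute u.1.1 cm := by
    rw [hcm]
    apply commute_aeval'
    have := congrArg Units.val hTu
    rw [Units.val_mul, Units.val_mul] at this
    exact this.symm
  have hcu : IsUnit cm := by
    rw [Matrix.isUnit_iff_isUnit_det]
    have h1 : IsUnit (Ad.adj cm * cm).det := by
      rw [hc]
      exact (Matrix.isUnit_iff_isUnit_det _).mp T.isUnit
    rw [Matrix.det_mul] at h1
    exact isUnit_of_mul_isUnit_right h1
  obtain ⟨C, hC⟩ := hcu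
  refine ⟨C, ?_, ?_⟩
  · apply Units.ext
    rw [Units.val_mul, Units.val_mul, hC]
    exact hcomm.eq.symm
  · rw [← hAdj, hC, hc, hT]

theorem fiber_lemma [Fintype K] {q n : ℕ} (hK : Fintype.card K = q ^ 2) (σ : K →+* K)
    (hσ : ∀ x, σ x = x ^ q) (u : ↥(Cfsg.GU n K q)) :
    Nat.card {g : GL (Fin n) K // g * u.1 = u.1 * g} =
      Nat.card (Hmat σ (u.1.1 : Matrix (Fin n) (Fin n) K)) *
        Nat.card ↥(Subgroup.centralizer ({u} : Set ↥(Cfsg.GU n K q))) := by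
  classical
  choose s hs1 hs2 using exists_sqrt_comm hK σ hσ u
  obtain ⟨σ', Ad, θ₀, hσ', hσσ, hθ₀, hAσ, hAdj, hmem⟩ := gu_data n hK
  have hσeq : σ' = σ := by
    apply RingHom.ext
    intro x
    rw [hσ, hσ']
  subst hσeq
  have hu1 : Ad.adjU u.1 * u.1 = 1 := (hmem u.1).mp u.2
  have hu2 : u.1 * Ad.adjU u.1 = 1 := mul_eq_one_comm.mp hu1
  have hs2' : ∀ h, Ad.adjU (s h) * s h = Matrix.GeneralLinearGroup.mkOfDetNeZero h.1 h.2.2.1 := by
    intro h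
    apply Units.ext
    rw [Units.val_mul, Ad.adjU_val, hAdj]
    exact hs2 h
  -- the gram map
  have hφ : ∀ g : GL (Fin n) K, g * u.1 = u.1 * g →
      (((Ad.adjU g * g).1.map σ')ᵀ = (Ad.adjU g * g).1 ∧ (Ad.adjU g * g).1.det ≠ 0 ∧
        (u.1.1.map σ')ᵀ * (Ad.adjU g * g).1 * u.1.1 = (Ad.adjU g * g).1) := by
    intro g hg
    refine ⟨?_, ?_, ?_⟩
    · rw [← hAdj, ← Ad.adjU_val, Ad.adjU_gram]
    · exact ((Matrix.isUnit_iff_isUnit_det _).mp (Ad.adjU g * g).isUnit).ne_zero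
    · rw [← hAdj, ← Ad.adjU_val, ← Units.val_mul, ← Units.val_mul]
      congr 1
      calc Ad.adjU u.1 * (Ad.adjU g * g) * u.1 = Ad.adjU (g * u.1) * (g * u.1) := by
            rw [Ad.adjU_mul]; group
        _ = Ad.adjU (u.1 * g) * (u.1 * g) := by rw [hg]
        _ = Ad.adjU g * (Ad.adjU u.1 * u.1) * g := by rw [Ad.adjU_mul]; group
        _ = Ad.adjU g * g := by rw [hu1, mul_one]
  rw [← Nat.card_prod]
  apply Nat.card_congr
  refine {
    toFun := fun g => (⟨(Ad.adjU g.1 * g.1).1, hφ g.1 g.2⟩,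
      ⟨⟨g.1 * (s ⟨(Ad.adjU g.1 * g.1).1, hφ g.1 g.2⟩)⁻¹, ?_⟩, ?_⟩)
    invFun := fun p => ⟨p.2.1.1 * s p.1, ?_⟩
    left_inv := ?_
    right_inv := ?_ }
  · rw [hmem, Ad.adjU_mul, Ad.adjU_inv]
    have h1 := hs2' ⟨(Ad.adjU g.1 * g.1).1, hφ g.1 g.2⟩
    have h2 : Ad.adjU g.1 * g.1 = Ad.adjU (s ⟨(Ad.adjU g.1 * g.1).1, hφ g.1 g.2⟩) *
        s ⟨(Ad.adjU g.1 * g.1).1, hφ g.1 g.2⟩ := by
      rw [h1]
      apply Units.ext
      rfl
    generalize s ⟨(Ad.adjU g.1 * g.1).1, hφ g.1 g.2⟩ = Y at h2 ⊢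
    calc (Ad.adjU Y)⁻¹ * Ad.adjU g.1 * (g.1 * Y⁻¹) = (Ad.adjU Y)⁻¹ * (Ad.adjU g.1 * g.1) * Y⁻¹ := by
          group
      _ = 1 := by rw [h2]; group
  · rw [Subgroup.mem_centralizer_iff]
    intro w hw
    rw [Set.mem_singleton_iff] at hw
    subst hw
    apply Subtype.ext
    show w.1 * (g.1 * (s ⟨(Ad.adjU g.1 * g.1).1, hφ g.1 g.2⟩)⁻¹) =
      g.1 * (s ⟨(Ad.adjU g.1 * g.1).1, hφ g.1 g.2⟩)⁻¹ * w.1
    have h1 := hs1 ⟨(Ad.adjU g.1 * g.1).1, hφ g.1 g.2⟩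
    generalize s ⟨(Ad.adjU g.1 * g.1).1, hφ g.1 g.2⟩ = Y at h1 ⊢
    have h2 : Y⁻¹ * w.1 = w.1 * Y⁻¹ := by
      rw [inv_mul_eq_iff_eq_mul, ← mul_assoc, h1, mul_assoc, mul_inv_cancel, mul_one]
    rw [← mul_assoc, ← g.2, mul_assoc, mul_assoc, h2]
  · have h1 := hs1 p.1
    have h2 : p.2.1.1 * u.1 = u.1 * p.2.1.1 := by
      have := Subgroup.mem_centralizer_iff.mp p.2.2 u (Set.mem_singleton u)
      exact (congrArg Subtype.val this).symm
    rw [mul_assoc, h1, ← mul_assoc, h2, mul_assoc]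
  · intro g
    apply Subtype.ext
    simp only
    rw [inv_mul_cancel_right]
  · rintro ⟨h, w⟩
    have hw : Ad.adjU w.1.1 * w.1.1 = 1 := (hmem w.1.1).mp w.1.2
    have h1 : Ad.adjU (w.1.1 * s h) * (w.1.1 * s h) =
        Matrix.GeneralLinearGroup.mkOfDetNeZero h.1 h.2.2.1 := by
      rw [← hs2' h, Ad.adjU_mul]
      calc Ad.adjU (s h) * Ad.adjU w.1.1 * (w.1.1 * s h)
          = Ad.adjU (s h) * (Ad.adjU w.1.1 * w.1.1) * s h := by group
        _ = Ad.adjU (s h) * s h := by rw [hw, mul_one]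
    have h2 : (⟨(Ad.adjU (w.1.1 * s h) * (w.1.1 * s h)).1, hφ _ (by
        have h1 := hs1 h
        have h2 : w.1.1 * u.1 = u.1 * w.1.1 := by
          have := Subgroup.mem_centralizer_iff.mp w.2 u (Set.mem_singleton u)
          exact (congrArg Subtype.val this).symm
        rw [mul_assoc, h1, ← mul_assoc, h2, mul_assoc])⟩ :
        Hmat σ' (u.1.1 : Matrix (Fin n) (Fin n) K)) = h := by
      apply Subtype.ext
      simp only
      rw [h1]
      rfl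
    apply Prod.ext
    · exact h2
    · apply Subtype.ext
      apply Subtype.ext
      simp only
      rw [h2, mul_inv_cancel_right]

end Cfsg.Agent.Lib.Helper16.HJ
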