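import Mathlib
import Cfsg.Agent.Lib.Helper16.HJ6

set_option autoImplicit false
set_option linter.unusedSectionVars false
set_option linter.unusedSimpArgs false
set_option linter.unusedVariables false

namespace Cfsg.Agent.Lib.Helper16.HJ

open Matrix Cfsg.Agent.Lib.Helper16.RN

universe u

variable {K : Type u} [Field K]

section transport

variable {ι ι' : Type*} [Fintype ι] [DecidableEq ι] [Fintype ι'] [DecidableEq ι']

theorem herm_submatrix (σ : K →+* K) (e : ι' ≃ ι) (h : Matrix ι ι K) :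
    ((h.submatrix e e).map σ)ᵀ = ((h.map σ)ᵀ).submatrix e e := by
  ext i j
  rfl

theorem inv_submatrix (σ : K →+* K) (e : ι ≃ ι') (M : Matrix ι ι K) (h : Matrix ι' ι' K)
    (hh : ((M.submatrix e.symm e.symm).map σ)ᵀ * h * M.submatrix e.symm e.symm = h) :
    (M.map σ)ᵀ * h.submatrix e e * M = h.submatrix e e := by
  have h1 : (((M.submatrix e.symm e.symm).map σ)ᵀ * h * M.submatrix e.symm e.symm).submatrix e e
      = h.submatrix e e := by rw [hh]
  rw [← Matrix.submatrix_mul_equiv _ _ e e e, ← Matrix.submatrix_mul_equiv _ _ e e e,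
    herm_submatrix] at h1
  simpa using h1

theorem comm_submatrix (e : ι ≃ ι') (M : Matrix ι ι K) (h : Matrix ι' ι' K)
    (hh : h * M.submatrix e.symm e.symm = M.submatrix e.symm e.symm * h) :
    h.submatrix e e * M = M * h.submatrix e e := by
  have h1 : (h * M.submatrix e.symm e.symm).submatrix e e
      = (M.submatrix e.symm e.symm * h).submatrix e e := by rw [hh]
  rw [← Matrix.submatrix_mul_equiv _ _ e e e, ← Matrix.submatrix_mul_equiv _ _ e e e] at h1
  simpa using h1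

theorem card_Hinv_congr (σ : K →+* K) (e : ι ≃ ι') :
    Nat.card (Hinv ι σ) = Nat.card (Hinv ι' σ) := by
  apply Nat.card_congr
  exact {
    toFun := fun h => ⟨h.1.submatrix e.symm e.symm, by
      rw [herm_submatrix, h.2.1], by
      rw [Matrix.det_submatrix_equiv_self]; exact h.2.2⟩
    invFun := fun h => ⟨h.1.submatrix e e, by
      rw [herm_submatrix, h.2.1], by
      rw [Matrix.det_submatrix_equiv_self]; exact h.2.2⟩
    left_inv := fun h => by
      apply Subtype.ext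
      ext i j
      simp
    right_inv := fun h => by
      apply Subtype.ext
      ext i j
      simp }

theorem card_Hmat_reindex (σ : K →+* K) (e : ι ≃ ι') (M : Matrix ι ι K) :
    Nat.card (Hmat σ (Matrix.reindex e e M)) = Nat.card (Hmat σ M) := by
  apply Nat.card_congr
  rw [Matrix.reindex_apply]
  exact {
    toFun := fun h => ⟨h.1.submatrix e e, by
      rw [herm_submatrix, h.2.1], by
      rw [Matrix.det_submatrix_equiv_self]; exact h.2.2.1, by
      exact inv_submatrix σ e M h.1 h.2.2.2⟩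
    invFun := fun h => ⟨h.1.submatrix e.symm e.symm, by
      rw [herm_submatrix, h.2.1], by
      rw [Matrix.det_submatrix_equiv_self]; exact h.2.2.1, by
      rw [herm_submatrix, Matrix.submatrix_mul_equiv, Matrix.submatrix_mul_equiv, h.2.2.2]⟩
    left_inv := fun h => by
      apply Subtype.ext
      ext i j
      simp
    right_inv := fun h => by
      apply Subtype.ext
      ext i j
      simp }

theorem card_Cmat_reindex (e : ι ≃ ι') (M : Matrix ι ι K) :
    Nat.card {X : Matrix ι' ι' K // X.det ≠ 0 ∧ X * Matrix.reindex e e M = Matrix.reindex e e M * X} =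
      Nat.card {X : Matrix ι ι K // X.det ≠ 0 ∧ X * M = M * X} := by
  apply Nat.card_congr
  rw [Matrix.reindex_apply]
  exact {
    toFun := fun h => ⟨h.1.submatrix e e, by
      rw [Matrix.det_submatrix_equiv_self]; exact h.2.1, by
      exact comm_submatrix e M h.1 h.2.2⟩
    invFun := fun h => ⟨h.1.submatrix e.symm e.symm, by
      rw [Matrix.det_submatrix_equiv_self]; exact h.2.1, by
      rw [Matrix.submatrix_mul_equiv, Matrix.submatrix_mul_equiv, h.2.2]⟩
    left_inv := fun h => by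
      apply Subtype.ext
      ext i j
      simp
    right_inv := fun h => by
      apply Subtype.ext
      ext i j
      simp }

theorem card_Cmat_conj (c : (Matrix ι ι K)ˣ) (M M' : Matrix ι ι K) (hc : c.1 * M = M' * c.1) :
    Nat.card {X : Matrix ι ι K // X.det ≠ 0 ∧ X * M' = M' * X} =
      Nat.card {X : Matrix ι ι K // X.det ≠ 0 ∧ X * M = M * X} := by
  have hcdet : c.1.det ≠ 0 := ((Matrix.isUnit_iff_isUnit_det _).mp c.isUnit).ne_zero
  have hcdet' : c⁻¹.1.det ≠ 0 := ((Matrix.isUnit_iff_isUnit_det _).mp c⁻¹.isUnit).ne_zero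
  have h1 : c⁻¹.1 * c.1 = 1 := by rw [← Units.val_mul, inv_mul_cancel, Units.val_one]
  have h2 : c.1 * c⁻¹.1 = 1 := by rw [← Units.val_mul, mul_inv_cancel, Units.val_one]
  have hc' : M * c⁻¹.1 = c⁻¹.1 * M' := by
    calc M * c⁻¹.1 = c⁻¹.1 * (c.1 * M) * c⁻¹.1 := by
          rw [← Matrix.mul_assoc, h1, one_mul]
      _ = c⁻¹.1 * M' := by rw [hc, Matrix.mul_assoc, Matrix.mul_assoc, h2, mul_one]
  apply Nat.card_congr
  exact {
    toFun := fun X => ⟨c⁻¹.1 * X.1 * c.1, by
      rw [Matrix.det_mul, Matrix.det_mul]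
      exact mul_ne_zero (mul_ne_zero hcdet' X.2.1) hcdet, by
      calc c⁻¹.1 * X.1 * c.1 * M = c⁻¹.1 * (X.1 * M') * c.1 := by
            rw [Matrix.mul_assoc, hc]; simp only [Matrix.mul_assoc]
        _ = (c⁻¹.1 * M') * X.1 * c.1 := by rw [X.2.2]; simp only [Matrix.mul_assoc]
        _ = M * (c⁻¹.1 * X.1 * c.1) := by rw [← hc']; simp only [Matrix.mul_assoc]⟩
    invFun := fun X => ⟨c.1 * X.1 * c⁻¹.1, by
      rw [Matrix.det_mul, Matrix.det_mul]
      exact mul_ne_zero (mul_ne_zero hcdet X.2.1) hcdet', by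
      calc c.1 * X.1 * c⁻¹.1 * M' = c.1 * (X.1 * M) * c⁻¹.1 := by
            rw [Matrix.mul_assoc, ← hc']; simp only [Matrix.mul_assoc]
        _ = (c.1 * M) * X.1 * c⁻¹.1 := by rw [X.2.2]; simp only [Matrix.mul_assoc]
        _ = M' * (c.1 * X.1 * c⁻¹.1) := by rw [hc]; simp only [Matrix.mul_assoc]⟩
    left_inv := fun X => by
      apply Subtype.ext
      show c.1 * (c⁻¹.1 * X.1 * c.1) * c⁻¹.1 = X.1
      calc c.1 * (c⁻¹.1 * X.1 * c.1) * c⁻¹.1 = (c.1 * c⁻¹.1) * X.1 * (c.1 * c⁻¹.1) := by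
            simp only [Matrix.mul_assoc]
        _ = X.1 := by rw [h2, one_mul, mul_one]
    right_inv := fun X => by
      apply Subtype.ext
      show c⁻¹.1 * (c.1 * X.1 * c⁻¹.1) * c.1 = X.1
      calc c⁻¹.1 * (c.1 * X.1 * c⁻¹.1) * c.1 = (c⁻¹.1 * c.1) * X.1 * (c⁻¹.1 * c.1) := by
            simp only [Matrix.mul_assoc]
        _ = X.1 := by rw [h1, one_mul, mul_one] }

theorem card_Hmat_conj (σ : K →+* K) (hσσ : ∀ x, σ (σ x) = x) (c : (Matrix ι ι K)ˣ)
    (M M' : Matrix ι ι K) (hc : c.1 * M = M' * c.1) :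
    Nat.card (Hmat σ M') = Nat.card (Hmat σ M) := by
  obtain ⟨A, hA⟩ : ∃ A : AdjData ι K, A = cAdj ι σ hσσ := ⟨_, rfl⟩
  have hadj : ∀ X : Matrix ι ι K, (X.map σ)ᵀ = A.adj X := by
    intro X; rw [hA]; rfl
  have hcdet : c.1.det ≠ 0 := ((Matrix.isUnit_iff_isUnit_det _).mp c.isUnit).ne_zero
  have hcdet' : c⁻¹.1.det ≠ 0 := ((Matrix.isUnit_iff_isUnit_det _).mp c⁻¹.isUnit).ne_zero
  have hacdet : (A.adj c.1).det ≠ 0 :=
    ((Matrix.isUnit_iff_isUnit_det _).mp (A.adjU c).isUnit).ne_zero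
  have hacdet' : (A.adj c⁻¹.1).det ≠ 0 :=
    ((Matrix.isUnit_iff_isUnit_det _).mp (A.adjU c⁻¹).isUnit).ne_zero
  have h1 : c⁻¹.1 * c.1 = 1 := by rw [← Units.val_mul, inv_mul_cancel, Units.val_one]
  have h2 : c.1 * c⁻¹.1 = 1 := by rw [← Units.val_mul, mul_inv_cancel, Units.val_one]
  have h3 : A.adj c.1 * A.adj c⁻¹.1 = 1 := by rw [← A.mul', h1, A.one']
  have h4 : A.adj c⁻¹.1 * A.adj c.1 = 1 := by rw [← A.mul', h2, A.one']
  have hc' : M * c⁻¹.1 = c⁻¹.1 * M' := by
    calc M * c⁻¹.1 = c⁻¹.1 * (c.1 * M) * c⁻¹.1 := by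
          rw [← Matrix.mul_assoc, h1, one_mul]
      _ = c⁻¹.1 * M' := by rw [hc, Matrix.mul_assoc, Matrix.mul_assoc, h2, mul_one]
  apply Nat.card_congr
  unfold Hmat
  simp only [hadj]
  exact {
    toFun := fun h => ⟨A.adj c.1 * h.1 * c.1, by
      rw [A.mul', A.mul', A.inv', h.2.1, Matrix.mul_assoc], by
      rw [Matrix.det_mul, Matrix.det_mul]
      exact mul_ne_zero (mul_ne_zero hacdet h.2.2.1) hcdet, by
      calc A.adj M * (A.adj c.1 * h.1 * c.1) * M = A.adj (c.1 * M) * h.1 * (c.1 * M) := by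
            rw [A.mul']; simp only [Matrix.mul_assoc]
        _ = A.adj c.1 * (A.adj M' * h.1 * M') * c.1 := by
            rw [hc, A.mul']; simp only [Matrix.mul_assoc]
        _ = A.adj c.1 * h.1 * c.1 := by rw [h.2.2.2]⟩
    invFun := fun h => ⟨A.adj c⁻¹.1 * h.1 * c⁻¹.1, by
      rw [A.mul', A.mul', A.inv', h.2.1, Matrix.mul_assoc], by
      rw [Matrix.det_mul, Matrix.det_mul]
      exact mul_ne_zero (mul_ne_zero hacdet' h.2.2.1) hcdet', by
      calc A.adj M' * (A.adj c⁻¹.1 * h.1 * c⁻¹.1) * M'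
          = A.adj (c⁻¹.1 * M') * h.1 * (c⁻¹.1 * M') := by
            rw [A.mul']; simp only [Matrix.mul_assoc]
        _ = A.adj c⁻¹.1 * (A.adj M * h.1 * M) * c⁻¹.1 := by
            rw [← hc', A.mul']; simp only [Matrix.mul_assoc]
        _ = A.adj c⁻¹.1 * h.1 * c⁻¹.1 := by rw [h.2.2.2]⟩
    left_inv := fun h => by
      apply Subtype.ext
      show A.adj c⁻¹.1 * (A.adj c.1 * h.1 * c.1) * c⁻¹.1 = h.1
      calc A.adj c⁻¹.1 * (A.adj c.1 * h.1 * c.1) * c⁻¹.1
          = (A.adj c⁻¹.1 * A.adj c.1) * h.1 * (c.1 * c⁻¹.1) := by simp only [Matrix.mul_assoc]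
        _ = h.1 := by rw [h4, h2, one_mul, mul_one]
    right_inv := fun h => by
      apply Subtype.ext
      show A.adj c.1 * (A.adj c⁻¹.1 * h.1 * c⁻¹.1) * c.1 = h.1
      calc A.adj c.1 * (A.adj c⁻¹.1 * h.1 * c⁻¹.1) * c.1
          = (A.adj c.1 * A.adj c⁻¹.1) * h.1 * (c⁻¹.1 * c.1) := by simp only [Matrix.mul_assoc]
        _ = h.1 := by rw [h3, h1, one_mul, mul_one] }

end transport

end Cfsg.Agent.Lib.Helper16.HJ
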