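import Mathlib
import Cfsg.Agent.Lib.Helper16.HJ7
import Cfsg.Agent.S0277

set_option autoImplicit false
set_option linter.unusedSectionVars false
set_option linter.unusedSimpArgs false
set_option linter.unusedVariables false

namespace Cfsg.Agent.Lib.Helper16.HJ

open Matrix Cfsg.Agent.Lib.Helper16.RN Cfsg.Agent.Lib.Helper16.JS Cfsg.Agent.Lib.Helper16.JC

universe u

variable {K : Type u} [Field K]

theorem card_Hinv_pos [Fintype K] (ι : Type*) [Fintype ι] [DecidableEq ι] (σ : K →+* K) :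
    0 < Nat.card (Hinv ι σ) := by
  have : Nonempty (Hinv ι σ) := ⟨⟨1, by
    rw [Matrix.map_one σ (map_zero σ) (map_one σ), Matrix.transpose_one], by
    rw [Matrix.det_one]; exact one_ne_zero⟩⟩
  exact Nat.card_pos

/-- the number of invertible hermitian matrices times the order of the unitary group is the order
of the general linear group. -/
theorem card_Hinv_mul [Fintype K] {q : ℕ} (hK : Fintype.card K = q ^ 2) (σ : K →+* K)
    (hσ : ∀ x, σ x = x ^ q) (ι : Type*) [Fintype ι] [DecidableEq ι] (a : ℕ)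
    (ha : Fintype.card ι = a) :
    Nat.card (Hinv ι σ) * Nat.card ↥(Cfsg.GU a K q) =
      ∏ j : Fin a, (Fintype.card K ^ a - Fintype.card K ^ (j : ℕ)) := by
  classical
  rw [card_Hinv_congr σ (Fintype.equivFinOfCardEq ha)]
  have h1 := fiber_lemma hK σ hσ (1 : ↥(Cfsg.GU a K q))
  have h2 : Nat.card {g : GL (Fin a) K // g * (1 : ↥(Cfsg.GU a K q)).1 =
      (1 : ↥(Cfsg.GU a K q)).1 * g} = Nat.card (GL (Fin a) K) := by
    apply Nat.card_congr
    apply Equiv.subtypeUnivEquiv
    intro g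
    rw [Subgroup.coe_one, mul_one, one_mul]
  have h3 : Nat.card (Hmat σ ((1 : ↥(Cfsg.GU a K q)).1.1 : Matrix (Fin a) (Fin a) K)) =
      Nat.card (Hinv (Fin a) σ) := by
    apply Nat.card_congr
    apply Equiv.subtypeEquivRight
    intro h
    rw [Subgroup.coe_one, Units.val_one, Matrix.map_one σ (map_zero σ) (map_one σ),
      Matrix.transpose_one, one_mul, mul_one]
    tauto
  have h4 : Nat.card ↥(Subgroup.centralizer ({1} : Set ↥(Cfsg.GU a K q))) =
      Nat.card ↥(Cfsg.GU a K q) := by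
    have : Subgroup.centralizer ({1} : Set ↥(Cfsg.GU a K q)) = ⊤ := by
      rw [Subgroup.centralizer_eq_top_iff_subset]
      intro x hx
      rw [Set.mem_singleton_iff] at hx
      rw [hx]
      exact Subgroup.one_mem _
    rw [this, Subgroup.card_top]
  rw [h2, h3, h4, Matrix.card_GL_field] at h1
  exact h1.symm

theorem cast_GU_order (q a : ℕ) (hq : 1 ≤ q) :
    ((q ^ (a * (a - 1) / 2) * ∏ i ∈ Finset.range a,
      (if Even i then q ^ (i + 1) + 1 else q ^ (i + 1) - 1) : ℕ) : ℤ) =
      (q : ℤ) ^ (a * (a - 1) / 2) * ∏ j : Fin a, ((q : ℤ) ^ ((j : ℕ) + 1) - (-1) ^ ((j : ℕ) + 1)) := by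
  rw [Nat.cast_mul, Nat.cast_pow, Nat.cast_prod,
    Fin.prod_univ_eq_prod_range (fun j => (q : ℤ) ^ (j + 1) - (-1) ^ (j + 1)) a]
  congr 1
  apply Finset.prod_congr rfl
  intro i _
  have h1 : 1 ≤ q ^ (i + 1) := Nat.one_le_pow _ _ hq
  by_cases he : Even i
  · rw [if_pos he, Odd.neg_one_pow (Even.add_one he)]
    push_cast
    ring
  · rw [if_neg he, Even.neg_one_pow (by
      rw [Nat.not_even_iff_odd] at he
      exact Odd.add_one he)]
    rw [Nat.cast_sub h1]
    push_cast
    ring

end Cfsg.Agent.Lib.Helper16.HJ
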