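import Mathlib
import Cfsg.Agent.Lib.Helper16.HJ8

set_option autoImplicit false
set_option linter.unusedSectionVars false
set_option linter.unusedSimpArgs false
set_option linter.unusedVariables false

namespace Cfsg.Agent.Lib.Helper16.HJ

open Matrix Cfsg.Agent.Lib.Helper16.RN Cfsg.Agent.Lib.Helper16.JS Cfsg.Agent.Lib.Helper16.JC

universe u

variable {K : Type u} [Field K]

/-- the centraliser in GL, as matrices -/
theorem card_cent_GL [Fintype K] {n t : ℕ} (d : Fin t → ℕ) (hd : ∀ k, 1 ≤ d k)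
    (e : Idx d ≃ Fin n) (u : GL (Fin n) K)
    (hu : IsConj (Matrix.reindex e e (Cfsg.jordanTypeMatrix d K)) (u : Matrix (Fin n) (Fin n) K)) :
    Nat.card {g : GL (Fin n) K // g * u = u * g} = Nat.card (Cset d K) := by
  classical
  obtain ⟨c, hc⟩ := hu
  have h1 : Nat.card {g : GL (Fin n) K // g * u = u * g} =
      Nat.card {X : Matrix (Fin n) (Fin n) K // X.det ≠ 0 ∧ X * u.1 = u.1 * X} := by
    apply Nat.card_congr
    exact {
      toFun := fun g => ⟨g.1.1, ((Matrix.isUnit_iff_isUnit_det _).mp g.1.isUnit).ne_zero, by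
        have := congrArg Units.val g.2
        rwa [Units.val_mul, Units.val_mul] at this⟩
      invFun := fun X => ⟨Matrix.GeneralLinearGroup.mkOfDetNeZero X.1 X.2.1, by
        apply Units.ext
        rw [Units.val_mul, Units.val_mul]
        exact X.2.2⟩
      left_inv := fun g => by
        apply Subtype.ext
        apply Units.ext
        rfl
      right_inv := fun X => by
        apply Subtype.ext
        rfl }
  rw [h1, card_Cmat_conj c _ _ hc, card_Cmat_reindex e]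
  apply Nat.card_congr
  unfold Cset
  apply Equiv.subtypeEquivRight
  intro X
  rw [comm_J_iff]
  tauto

theorem card_Hmat_u [Fintype K] {n t : ℕ} (σ : K →+* K) (hσσ : ∀ x, σ (σ x) = x)
    (d : Fin t → ℕ) (e : Idx d ≃ Fin n) (u : Matrix (Fin n) (Fin n) K)
    (hu : IsConj (Matrix.reindex e e (Cfsg.jordanTypeMatrix d K)) u) :
    Nat.card (Hmat σ u) = Nat.card (Hmat σ (Cfsg.jordanTypeMatrix d K)) := by
  classical
  obtain ⟨c, hc⟩ := hu
  rw [card_Hmat_conj σ hσσ c _ _ hc, card_Hmat_reindex σ e]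

theorem S2646_aux [Fintype K] {q n t : ℕ} (hK : Fintype.card K = q ^ 2) (d : Fin t → ℕ) (hd : ∀ k, 1 ≤ d k) (e : ((k : Fin t) × Fin (d k)) ≃ Fin n) (u : ↥(Cfsg.GU n K q)) (hu : IsConj (Matrix.reindex e e (Cfsg.jordanTypeMatrix d K)) ((u : GL (Fin n) K) : Matrix (Fin n) (Fin n) K)) : (Nat.card ↥(Subgroup.centralizer ({u} : Set ↥(Cfsg.GU n K q))) : ℤ) = (q : ℤ) ^ (2 * (∑ i ∈ Finset.range (Finset.univ.sup d + 1), ∑ j ∈ Finset.range (Finset.univ.sup d + 1), if i < j then i * (Finset.univ.filter (fun k : Fin t => d k = i)).card * (Finset.univ.filter (fun k : Fin t => d k = j)).card else 0) + ∑ i ∈ Finset.range (Finset.univ.sup d + 1), (i - 1) * (Finset.univ.filter (fun k : Fin t => d k = i)).card ^ 2) * ∏ i ∈ Finset.range (Finset.univ.sup d + 1), ((q : ℤ) ^ ((Finset.univ.filter (fun k : Fin t => d k = i)).card * ((Finset.univ.filter (fun k : Fin t => d k = i)).card - 1) / 2) * ∏ j : Fin (Finset.univ.filter (fun k : Fin t => d k = i)).card,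 ((q : ℤ) ^ ((j : ℕ) + 1) - (-1) ^ ((j : ℕ) + 1))) := by
  classical
  obtain ⟨σ, hσ⟩ := Cfsg.Agent.Lib.Lead.exists_frob hK
  have hσσ := Cfsg.Agent.Lib.Lead.frob_frob hK σ hσ
  obtain ⟨θ₀, hθ₀'⟩ := Cfsg.Agent.Lib.Lead.HI.exists_not_fixed hK
  have hθ₀ : σ θ₀ ≠ θ₀ := by rw [hσ]; exact hθ₀'
  obtain ⟨g, hg, hgh⟩ := exists_herm_forms hK σ hσ
  have hq : 1 ≤ q := by
    rcases Nat.eq_zero_or_pos q with h0 | h0
    · exfalso
      rw [h0] at hK
      have := Fintype.card_pos (α := K)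
      omega
    · exact h0
  have hFL := fiber_lemma hK σ hσ u
  rw [card_cent_GL d hd e u.1 hu, card_Cset d hd, card_Hmat_u σ hσσ d e _ hu,
    card_Hmat_J hK d hd g hg σ hσσ θ₀ hθ₀ hgh] at hFL
  -- block counts
  have hB : ∀ i : Fin (Finset.univ.sup d + 1),
      Nat.card (Hinv {k // bD d k = i} σ) * Nat.card ↥(Cfsg.GU (mult d i.val) K q) =
        ∏ j : Fin (mult d i.val), (Fintype.card K ^ mult d i.val - Fintype.card K ^ (j : ℕ)) :=
    fun i => card_Hinv_mul hK σ hσ _ _ (card_fib d i)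
  rw [← Fin.prod_univ_eq_prod_range (fun i => ∏ j : Fin (mult d i),
        (Fintype.card K ^ mult d i - Fintype.card K ^ (j : ℕ)))] at hFL
  simp only [← hB] at hFL
  rw [Finset.prod_mul_distrib, hK, ← pow_mul, mul_comm 2, pow_mul, sq] at hFL
  set γ := Nat.card (FreeP d) + Nat.card (Strict d) with hγ
  set PN := ∏ i : Fin (Finset.univ.sup d + 1), Nat.card (Hinv {k // bD d k = i} σ) with hPN
  have hPNpos : 0 < PN := Finset.prod_pos (fun i _ => card_Hinv_pos _ σ)
  have hqγ : 0 < q ^ γ := Nat.pow_pos hq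
  have hC : Nat.card ↥(Subgroup.centralizer ({u} : Set ↥(Cfsg.GU n K q))) =
      q ^ γ * ∏ i : Fin (Finset.univ.sup d + 1), Nat.card ↥(Cfsg.GU (mult d i.val) K q) := by
    have h1 : q ^ γ * PN * (q ^ γ * ∏ i : Fin (Finset.univ.sup d + 1),
        Nat.card ↥(Cfsg.GU (mult d i.val) K q)) = q ^ γ * PN *
          Nat.card ↥(Subgroup.centralizer ({u} : Set ↥(Cfsg.GU n K q))) := by
      rw [← hFL]; ring
    exact (Nat.eq_of_mul_eq_mul_left (Nat.mul_pos hqγ hPNpos) h1).symm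
  rw [hC, hγ, card_exponent d hd, exponent_identity d hd]
  rw [Nat.cast_mul, Nat.cast_pow, Nat.cast_prod]
  congr 1
  change _ = ∏ i ∈ Finset.range (Finset.univ.sup d + 1), ((q : ℤ) ^ (mult d i * (mult d i - 1) / 2) *
    ∏ j : Fin (mult d i), ((q : ℤ) ^ ((j : ℕ) + 1) - (-1) ^ ((j : ℕ) + 1)))
  rw [← Fin.prod_univ_eq_prod_range (fun i => (q : ℤ) ^ (mult d i * (mult d i - 1) / 2) *
    ∏ j : Fin (mult d i), ((q : ℤ) ^ ((j : ℕ) + 1) - (-1) ^ ((j : ℕ) + 1)))]
  apply Finset.prod_congr rfl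
  intro i _
  rw [Cfsg.Agent.S0277.result hK, cast_GU_order q _ hq]

end Cfsg.Agent.Lib.Helper16.HJ
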