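import Mathlib
import Cfsg.Agent.Lib.Helper16.SpinF1

set_option autoImplicit false
set_option linter.unusedSectionVars false
set_option linter.unusedSimpArgs false

namespace Cfsg.Agent.Lib.Helper16

open Matrix Cfsg.Agent.Lib.helper6

variable {ι : Type} [Fintype ι] [DecidableEq ι] {F : Type*} [Field F]

theorem hypPair_two_refl (Q : QuadraticForm F (ι → F)) (a b : ι) (hab : a ≠ b)
    (hpa : ∀ x, QuadraticMap.polar (⇑Q) (Pi.single a 1) x = x b)
    (hpb : ∀ x, QuadraticMap.polar (⇑Q) (Pi.single b 1) x = x a)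
    (hQa : Q (Pi.single a 1) = 0) (hQb : Q (Pi.single b 1) = 0) (lam : F) (hlam : lam ≠ 0) :
    Q (Pi.single a 1 - Pi.single b 1) = -1 ∧ Q (Pi.single a 1 - lam • Pi.single b 1) = -lam ∧
      Cfsg.reflectionMatrix ⇑Q (Pi.single a 1 - Pi.single b 1) *
        Cfsg.reflectionMatrix ⇑Q (Pi.single a 1 - lam • Pi.single b 1)
        = Matrix.diagonal (fun k => if k = a then lam else if k = b then lam⁻¹ else 1) := by
  have hba : b ≠ a := fun h => hab h.symm
  have hab1 : QuadraticMap.polar (⇑Q) (Pi.single a 1) (Pi.single b (1 : F)) = 1 := by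
    rw [hpa]; simp
  have h1 : Q (Pi.single a 1 - Pi.single b 1) = -1 := by
    rw [Q_sub', hQa, hQb, hab1]; ring
  have h2 : Q (Pi.single a 1 - lam • Pi.single b 1) = -lam := by
    rw [Q_sub', QuadraticMap.map_smul, hQa, hQb, QuadraticMap.polar_smul_right, hab1]
    simp
  refine ⟨h1, h2, ?_⟩
  rw [Matrix.ext_iff_mulVec]
  intro x
  rw [← Matrix.mulVec_mulVec, reflectionMatrix_mulVec, reflectionMatrix_mulVec, h1, h2,
    QuadraticMap.polar_sub_left, QuadraticMap.polar_smul_left, hpa, hpb,
    QuadraticMap.polar_sub_left, hpa, hpb]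
  funext k
  rw [Matrix.mulVec_diagonal]
  simp only [Pi.sub_apply, Pi.smul_apply, Pi.add_apply, Pi.single_apply, smul_eq_mul]
  by_cases hka : k = a
  · subst hka
    simp [hab, hba]
    field_simp
    ring
  · by_cases hkb : k = b
    · subst hkb
      simp [hba, hab]
      field_simp
      ring
    · simp [hka, hkb]

end Cfsg.Agent.Lib.Helper16
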