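import Mathlib
import Cfsg.Prelude.Def_JordanBlocks

set_option autoImplicit false

namespace Cfsg.Agent.Lib.Helper16.JC

open Matrix

variable {F : Type*} [Field F] {t : ℕ}

/-- Index type of the Jordan type matrix. -/
abbrev Idx (d : Fin t → ℕ) := (k : Fin t) × Fin (d k)

/-- The nilpotent part of the Jordan type matrix. -/
def Nm (d : Fin t → ℕ) (F : Type*) [Field F] : Matrix (Idx d) (Idx d) F :=
  Matrix.of fun a b => if a.1 = b.1 ∧ a.2.val = b.2.val + 1 then 1 else 0

theorem Nm_apply (d : Fin t → ℕ) (a b : Idx d) :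
    Nm d F a b = if a.1 = b.1 ∧ a.2.val = b.2.val + 1 then 1 else 0 := rfl

theorem jordan_eq (d : Fin t → ℕ) : Cfsg.jordanTypeMatrix d F = 1 + Nm d F := by
  ext ⟨k, i⟩ ⟨l, j⟩
  rw [Matrix.add_apply, Nm_apply]
  unfold Cfsg.jordanTypeMatrix
  rw [Matrix.blockDiagonal'_apply]
  by_cases hkl : k = l
  · subst hkl
    rw [dif_pos rfl]
    simp only [cast_eq, Cfsg.jordanBlock, Matrix.of_apply, true_and]
    by_cases hij : i = j
    · subst hij
      simp
    · have h1 : (i : ℕ) ≠ j := fun h => hij (Fin.ext h)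
      have h2 : (⟨k, i⟩ : Idx d) ≠ ⟨k, j⟩ := by
        intro h
        apply hij
        simpa using h
      rw [if_neg h1, Matrix.one_apply_ne h2, zero_add]
  · rw [dif_neg hkl]
    have h2 : (⟨k, i⟩ : Idx d) ≠ ⟨l, j⟩ := by
      intro h
      exact hkl (congrArg Sigma.fst h)
    rw [Matrix.one_apply_ne h2, zero_add, if_neg]
    rintro ⟨h, -⟩
    exact hkl h

theorem idx_eq_iff (d : Fin t → ℕ) (b : Idx d) (l : Fin t) (j : ℕ) (h : j < d l) :
    (b.1 = l ∧ b.2.val = j) ↔ b = ⟨l, ⟨j, h⟩⟩ := by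
  constructor
  · rintro ⟨h1, h2⟩
    obtain ⟨k, i⟩ := b
    simp only at h1 h2
    subst h1
    congr
    exact Fin.ext h2
  · rintro rfl
    exact ⟨rfl, rfl⟩

theorem mul_Nm (d : Fin t → ℕ) (X : Matrix (Idx d) (Idx d) F) (a : Idx d) (l : Fin t) (j : Fin (d l)) :
    (X * Nm d F) a ⟨l, j⟩ = if h : j.val + 1 < d l then X a ⟨l, ⟨j.val + 1, h⟩⟩ else 0 := by
  rw [Matrix.mul_apply]
  by_cases h : j.val + 1 < d l
  · rw [dif_pos h, Finset.sum_eq_single (⟨l, ⟨j.val + 1, h⟩⟩ : Idx d)]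
    · rw [Nm_apply, if_pos ⟨rfl, rfl⟩, mul_one]
    · intro b _ hb
      rw [Nm_apply, if_neg, mul_zero]
      intro hh
      exact hb ((idx_eq_iff d b l _ h).mp hh)
    · intro hh
      exact absurd (Finset.mem_univ _) hh
  · rw [dif_neg h]
    apply Finset.sum_eq_zero
    intro b _
    rw [Nm_apply, if_neg, mul_zero]
    rintro ⟨h1, h2⟩
    apply h
    have := b.2.isLt
    simp only at h1 h2
    rw [← h2, ← h1]
    exact this

theorem Nm_mul (d : Fin t → ℕ) (X : Matrix (Idx d) (Idx d) F) (k : Fin t) (i : Fin (d k)) (b : Idx d) :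
    (Nm d F * X) ⟨k, i⟩ b = if h : 0 < i.val then X ⟨k, ⟨i.val - 1, by omega⟩⟩ b else 0 := by
  rw [Matrix.mul_apply]
  by_cases h : 0 < i.val
  · rw [dif_pos h, Finset.sum_eq_single (⟨k, ⟨i.val - 1, by omega⟩⟩ : Idx d)]
    · rw [Nm_apply, if_pos ⟨rfl, by simp only; omega⟩, one_mul]
    · intro c _ hc
      rw [Nm_apply, if_neg, zero_mul]
      rintro ⟨h1, h2⟩
      apply hc
      apply (idx_eq_iff d c k _ _).mp
      simp only at h1 h2
      exact ⟨h1.symm, by omega⟩
    · intro hh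
      exact absurd (Finset.mem_univ _) hh
  · rw [dif_neg h]
    apply Finset.sum_eq_zero
    intro c _
    rw [Nm_apply, if_neg, zero_mul]
    rintro ⟨-, h2⟩
    simp only at h2
    omega

/-- Commuting with `Nm` entrywise. -/
theorem comm_iff (d : Fin t → ℕ) (X : Matrix (Idx d) (Idx d) F) :
    X * Nm d F = Nm d F * X ↔ ∀ (k : Fin t) (i : Fin (d k)) (l : Fin t) (j : Fin (d l)),
      (if h : j.val + 1 < d l then X ⟨k, i⟩ ⟨l, ⟨j.val + 1, h⟩⟩ else 0) =
        (if h : 0 < i.val then X ⟨k, ⟨i.val - 1, by omega⟩⟩ ⟨l, j⟩ else 0) := by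
  constructor
  · intro h k i l j
    rw [← mul_Nm, ← Nm_mul, h]
  · intro h
    ext ⟨k, i⟩ ⟨l, j⟩
    rw [mul_Nm, Nm_mul]
    exact h k i l j

/-- The matrix with prescribed first columns. -/
def Xof (d : Fin t → ℕ) (c : Fin t → Idx d → F) : Matrix (Idx d) (Idx d) F :=
  Matrix.of fun a b => if h : b.2.val ≤ a.2.val then c b.1 ⟨a.1, ⟨a.2.val - b.2.val, by have := a.2.isLt; omega⟩⟩ else 0

theorem Xof_apply (d : Fin t → ℕ) (c : Fin t → Idx d → F) (a b : Idx d) :
    Xof d c a b = if h : b.2.val ≤ a.2.val then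
      c b.1 ⟨a.1, ⟨a.2.val - b.2.val, by have := a.2.isLt; omega⟩⟩ else 0 := rfl

theorem Xof_comm (d : Fin t → ℕ) (c : Fin t → Idx d → F)
    (hc : ∀ (l k : Fin t) (s : Fin (d k)), s.val + d l < d k → c l ⟨k, s⟩ = 0) :
    Xof d c * Nm d F = Nm d F * Xof d c := by
  rw [comm_iff]
  intro k i l j
  by_cases h1 : j.val + 1 < d l
  · rw [dif_pos h1]
    by_cases h2 : 0 < i.val
    · rw [dif_pos h2, Xof_apply, Xof_apply]
      simp only
      by_cases h3 : j.val + 1 ≤ i.val
      · rw [dif_pos h3, dif_pos (by omega)]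
        congr 3
        omega
      · rw [dif_neg h3, dif_neg (by omega)]
    · rw [dif_neg h2, Xof_apply, dif_neg]
      simp only
      omega
  · rw [dif_neg h1]
    by_cases h2 : 0 < i.val
    · rw [dif_pos h2, Xof_apply]
      simp only
      by_cases h3 : j.val ≤ i.val - 1
      · rw [dif_pos h3]
        symm
        apply hc
        simp only
        have := j.isLt
        have := i.isLt
        omega
      · rw [dif_neg h3]
    · rw [dif_neg h2]

/-- general formula for commuting matrices -/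
theorem comm_formula (d : Fin t → ℕ) (hd : ∀ k, 1 ≤ d k) (X : Matrix (Idx d) (Idx d) F)
    (hX : X * Nm d F = Nm d F * X) (k : Fin t) (l : Fin t) :
    ∀ (j : ℕ) (hj : j < d l) (i : Fin (d k)), X ⟨k, i⟩ ⟨l, ⟨j, hj⟩⟩ =
      if h : j ≤ i.val then X ⟨k, ⟨i.val - j, by have := i.isLt; omega⟩⟩ ⟨l, ⟨0, hd l⟩⟩ else 0 := by
  rw [comm_iff] at hX
  intro j
  induction j with
  | zero =>
    intro hj i
    rw [dif_pos (Nat.zero_le _)]
    rfl
  | succ j ih =>
    intro hj i
    have h := hX k i l ⟨j, by omega⟩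
    simp only at h
    rw [dif_pos hj] at h
    rw [h]
    by_cases h2 : 0 < i.val
    · rw [dif_pos h2, ih (by omega)]
      simp only
      by_cases h3 : j ≤ i.val - 1
      · rw [dif_pos h3, dif_pos (by omega)]
        congr 3
        omega
      · rw [dif_neg h3, dif_neg (by omega)]
    · rw [dif_neg h2, dif_neg (by omega)]

theorem comm_constraint (d : Fin t → ℕ) (hd : ∀ k, 1 ≤ d k) (X : Matrix (Idx d) (Idx d) F)
    (hX : X * Nm d F = Nm d F * X) (l k : Fin t) (s : Fin (d k)) (hs : s.val + d l < d k) :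
    X ⟨k, s⟩ ⟨l, ⟨0, hd l⟩⟩ = 0 := by
  have h := (comm_iff d X).mp hX k ⟨s.val + d l, hs⟩ l ⟨d l - 1, by have := hd l; omega⟩
  simp only at h
  rw [dif_neg (by have := hd l; omega), dif_pos (by have := hd l; omega)] at h
  rw [comm_formula d hd X hX k l (d l - 1) (by have := hd l; omega), dif_pos (by simp only; omega)] at h
  rw [h]
  have h2 : (⟨s.val + d l - 1 - (d l - 1), by have := hd l; have := s.isLt; omega⟩ : Fin (d k)) = s := by
    apply Fin.ext
    simp only
    have := hd l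
    omega
  rw [h2]

end Cfsg.Agent.Lib.Helper16.JC
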