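import Cfsg.Agent.Lib.Helper16.JC1

set_option autoImplicit false

namespace Cfsg.Agent.Lib.Helper16.JC

open Matrix

variable {F : Type*} [Field F] {t : ℕ}

/-- The top matrix of a matrix: entries at the block generators. -/
def topM (d : Fin t → ℕ) (hd : ∀ k, 1 ≤ d k) (X : Matrix (Idx d) (Idx d) F) :
    Matrix (Fin t) (Fin t) F :=
  Matrix.of fun k l => X ⟨k, ⟨0, hd k⟩⟩ ⟨l, ⟨0, hd l⟩⟩

theorem topM_apply (d : Fin t → ℕ) (hd : ∀ k, 1 ≤ d k) (X : Matrix (Idx d) (Idx d) F) (k l : Fin t) :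
    topM d hd X k l = X ⟨k, ⟨0, hd k⟩⟩ ⟨l, ⟨0, hd l⟩⟩ := rfl

theorem vecMul_Nm (d : Fin t → ℕ) (w : Idx d → F) (l : Fin t) (j : Fin (d l)) :
    (w ᵥ* Nm d F) ⟨l, j⟩ = if h : j.val + 1 < d l then w ⟨l, ⟨j.val + 1, h⟩⟩ else 0 := by
  have h := mul_Nm d (Matrix.of fun (_ : Idx d) => w) ⟨l, j⟩ l j
  rw [Matrix.mul_apply] at h
  exact h

theorem vecMul_Nm_pow (d : Fin t → ℕ) (w : Idx d → F) (a : ℕ) (l : Fin t) (j : Fin (d l)) :
    (w ᵥ* (Nm d F) ^ a) ⟨l, j⟩ = if h : j.val + a < d l then w ⟨l, ⟨j.val + a, h⟩⟩ else 0 := by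
  induction a generalizing j with
  | zero =>
    rw [pow_zero, Matrix.vecMul_one, dif_pos (by simp)]
    rfl
  | succ a ih =>
    rw [pow_succ, ← Matrix.vecMul_vecMul, vecMul_Nm]
    by_cases h : j.val + 1 < d l
    · rw [dif_pos h, ih]
      simp only
      by_cases h2 : j.val + 1 + a < d l
      · rw [dif_pos h2, dif_pos (by omega)]
        congr 3
        omega
      · rw [dif_neg h2, dif_neg (by omega)]
    · rw [dif_neg h, dif_neg (by omega)]

theorem sum_idx (d : Fin t → ℕ) (hd : ∀ k, 1 ≤ d k) (f : Idx d → F)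
    (hf : ∀ (k : Fin t) (s : Fin (d k)), 0 < s.val → f ⟨k, s⟩ = 0) :
    ∑ x, f x = ∑ k, f ⟨k, ⟨0, hd k⟩⟩ := by
  rw [Fintype.sum_sigma]
  apply Finset.sum_congr rfl
  intro k _
  apply Fintype.sum_eq_single
  intro s hs
  apply hf
  by_contra h
  apply hs
  apply Fin.ext
  simp only
  omega

theorem topM_mul (d : Fin t → ℕ) (hd : ∀ k, 1 ≤ d k) (X Y : Matrix (Idx d) (Idx d) F)
    (hX : X * Nm d F = Nm d F * X) : topM d hd (X * Y) = topM d hd X * topM d hd Y := by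
  ext k l
  rw [topM_apply, Matrix.mul_apply, Matrix.mul_apply, sum_idx d hd]
  · rfl
  · intro j s hs
    rw [comm_formula d hd X hX k j s.val s.isLt ⟨0, hd k⟩, dif_neg (by simp only; omega), zero_mul]

theorem topM_one (d : Fin t → ℕ) (hd : ∀ k, 1 ≤ d k) :
    topM d hd (1 : Matrix (Idx d) (Idx d) F) = 1 := by
  ext k l
  rw [topM_apply]
  by_cases h : k = l
  · subst h
    rw [Matrix.one_apply_eq, Matrix.one_apply_eq]
  · rw [Matrix.one_apply_ne h, Matrix.one_apply_ne]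
    intro hh
    exact h (congrArg Sigma.fst hh)

theorem det_topM_ne_zero (d : Fin t → ℕ) (hd : ∀ k, 1 ≤ d k) (X : Matrix (Idx d) (Idx d) F)
    (hX : X * Nm d F = Nm d F * X) (hdet : X.det ≠ 0) : (topM d hd X).det ≠ 0 := by
  have h1 : X * X⁻¹ = 1 := Matrix.mul_nonsing_inv X (Ne.isUnit hdet)
  have h2 : topM d hd X * topM d hd X⁻¹ = 1 := by
    rw [← topM_mul d hd X X⁻¹ hX, h1, topM_one]
  have h3 := congrArg Matrix.det h2
  rw [Matrix.det_mul, Matrix.det_one] at h3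
  intro h0
  rw [h0, zero_mul] at h3
  exact zero_ne_one h3

/-- Nakayama, in row-vector form. -/
theorem rowker_trivial (d : Fin t → ℕ) (hd : ∀ k, 1 ≤ d k) (X : Matrix (Idx d) (Idx d) F)
    (hX : X * Nm d F = Nm d F * X) (hdet : (topM d hd X).det ≠ 0) :
    ∀ (a : ℕ) (w : Idx d → F), w ᵥ* X = 0 → w ᵥ* (Nm d F) ^ a = 0 → w = 0 := by
  intro a
  induction a with
  | zero =>
    intro w _ h
    rwa [pow_zero, Matrix.vecMul_one] at h
  | succ a ih =>
    intro w hw h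
    apply ih w hw
    set w' := w ᵥ* (Nm d F) ^ a with hw'
    have hcomm : (Nm d F) ^ a * X = X * (Nm d F) ^ a := by
      have : Commute (Nm d F) X := hX.symm
      exact (this.pow_left a).eq
    have h1 : w' ᵥ* X = 0 := by
      rw [hw', Matrix.vecMul_vecMul, hcomm, ← Matrix.vecMul_vecMul, hw, Matrix.zero_vecMul]
    have h2 : w' ᵥ* Nm d F = 0 := by
      rw [hw', Matrix.vecMul_vecMul, ← pow_succ]
      exact h
    have h3 : ∀ (k : Fin t) (s : Fin (d k)), 0 < s.val → w' ⟨k, s⟩ = 0 := by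
      intro k s hs
      have h4 := congrFun h2 ⟨k, ⟨s.val - 1, by have := s.isLt; omega⟩⟩
      rw [vecMul_Nm, dif_pos (by simp only; have := s.isLt; omega)] at h4
      simp only [Pi.zero_apply] at h4
      rw [← h4]
      congr 2
      apply Fin.ext
      simp only
      omega
    -- the restriction to tops
    have h5 : (fun k => w' ⟨k, ⟨0, hd k⟩⟩) ᵥ* topM d hd X = 0 := by
      ext l
      have h6 := congrFun h1 ⟨l, ⟨0, hd l⟩⟩
      simp only [Pi.zero_apply] at h6 ⊢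
      rw [← h6]
      unfold Matrix.vecMul dotProduct
      rw [sum_idx d hd]
      · rfl
      · intro k s hs
        rw [h3 k s hs, zero_mul]
    have h7 : (fun k => w' ⟨k, ⟨0, hd k⟩⟩) = 0 := by
      by_contra hne
      exact hdet (Matrix.exists_vecMul_eq_zero_iff.mp ⟨_, hne, h5⟩)
    ext ⟨k, s⟩
    by_cases hs : 0 < s.val
    · exact h3 k s hs
    · have : s = ⟨0, hd k⟩ := by
        apply Fin.ext
        simp only
        omega
      rw [this]
      exact congrFun h7 k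

theorem det_ne_zero_of_topM (d : Fin t → ℕ) (hd : ∀ k, 1 ≤ d k) (X : Matrix (Idx d) (Idx d) F)
    (hX : X * Nm d F = Nm d F * X) (hdet : (topM d hd X).det ≠ 0) : X.det ≠ 0 := by
  intro h0
  obtain ⟨w, hw0, hw⟩ := Matrix.exists_vecMul_eq_zero_iff.mpr h0
  apply hw0
  apply rowker_trivial d hd X hX hdet (∑ k, d k) w hw
  ext ⟨l, j⟩
  rw [vecMul_Nm_pow, dif_neg]
  · rfl
  · have : d l ≤ ∑ k, d k := Finset.single_le_sum (f := d) (fun _ _ => Nat.zero_le _) (Finset.mem_univ l)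
    omega

theorem det_ne_zero_iff (d : Fin t → ℕ) (hd : ∀ k, 1 ≤ d k) (X : Matrix (Idx d) (Idx d) F)
    (hX : X * Nm d F = Nm d F * X) : X.det ≠ 0 ↔ (topM d hd X).det ≠ 0 :=
  ⟨det_topM_ne_zero d hd X hX, det_ne_zero_of_topM d hd X hX⟩

end Cfsg.Agent.Lib.Helper16.JC
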