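import Cfsg.Agent.Lib.Helper16.JC2

set_option autoImplicit false

namespace Cfsg.Agent.Lib.Helper16.JC

open Matrix

variable {F : Type*} [Field F] {t : ℕ}

/-- The commutant units, as matrices. -/
def Cset (d : Fin t → ℕ) (F : Type*) [Field F] : Type _ :=
  {X : Matrix (Idx d) (Idx d) F // X * Nm d F = Nm d F * X ∧ X.det ≠ 0}

/-- free coordinates below the top -/
def FreeP (d : Fin t → ℕ) : Type :=
  {x : Idx d × Fin t // 0 < x.1.2.val ∧ d x.1.1 ≤ x.1.2.val + d x.2}

/-- invertible block triangular matrices -/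
def BTset (d : Fin t → ℕ) (F : Type*) [Field F] : Type _ :=
  {M : Matrix (Fin t) (Fin t) F // M.BlockTriangular d ∧ M.det ≠ 0}

/-- first columns from top matrix and the rest -/
def cOf (d : Fin t → ℕ) (M : Matrix (Fin t) (Fin t) F) (r : FreeP d → F) : Fin t → Idx d → F :=
  fun l a => if hs : a.2.val = 0 then M a.1 l else
    if h : d a.1 ≤ a.2.val + d l then r ⟨(a, l), ⟨Nat.pos_of_ne_zero hs, h⟩⟩ else 0

theorem cOf_constraint (d : Fin t → ℕ) (M : Matrix (Fin t) (Fin t) F) (hM : M.BlockTriangular d)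
    (r : FreeP d → F) (l k : Fin t) (s : Fin (d k)) (hs : s.val + d l < d k) :
    cOf d M r l ⟨k, s⟩ = 0 := by
  unfold cOf
  by_cases h0 : s.val = 0
  · rw [dif_pos h0]
    apply hM
    simp only
    omega
  · rw [dif_neg h0, dif_neg]
    simp only
    omega

theorem Xof_zero (d : Fin t → ℕ) (hd : ∀ k, 1 ≤ d k) (c : Fin t → Idx d → F) (a : Idx d) (l : Fin t) :
    Xof d c a ⟨l, ⟨0, hd l⟩⟩ = c l a := by
  rw [Xof_apply, dif_pos (Nat.zero_le _)]
  obtain ⟨k, s⟩ := a
  simp only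
  congr

theorem topM_Xof (d : Fin t → ℕ) (hd : ∀ k, 1 ≤ d k) (M : Matrix (Fin t) (Fin t) F) (r : FreeP d → F) :
    topM d hd (Xof d (cOf d M r)) = M := by
  ext k l
  rw [topM_apply, Xof_zero]
  unfold cOf
  rw [dif_pos rfl]

theorem Xof_eq (d : Fin t → ℕ) (hd : ∀ k, 1 ≤ d k) (X : Matrix (Idx d) (Idx d) F)
    (hX : X * Nm d F = Nm d F * X) (c : Fin t → Idx d → F)
    (hc : ∀ (l : Fin t) (a : Idx d), c l a = X a ⟨l, ⟨0, hd l⟩⟩) : Xof d c = X := by
  ext ⟨k, i⟩ ⟨l, j⟩
  rw [Xof_apply, comm_formula d hd X hX k l j.val j.isLt i]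
  simp only
  by_cases h : j.val ≤ i.val
  · rw [dif_pos h, dif_pos h, hc]
  · rw [dif_neg h, dif_neg h]

/-- The main parametrization. -/
noncomputable def csetEquiv (d : Fin t → ℕ) (hd : ∀ k, 1 ≤ d k) :
    Cset d F ≃ BTset d F × (FreeP d → F) where
  toFun X := (⟨topM d hd X.1, by
      intro k l hkl
      rw [topM_apply]
      exact comm_constraint d hd X.1 X.2.1 l k ⟨0, hd k⟩ (by simpa using hkl),
      det_topM_ne_zero d hd X.1 X.2.1 X.2.2⟩,
    fun x => X.1 x.1.1 ⟨x.1.2, ⟨0, hd _⟩⟩)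
  invFun p := ⟨Xof d (cOf d p.1.1 p.2), Xof_comm d _ (cOf_constraint d p.1.1 p.1.2.1 p.2),
    det_ne_zero_of_topM d hd _ (Xof_comm d _ (cOf_constraint d p.1.1 p.1.2.1 p.2)) (by
      rw [topM_Xof]
      exact p.1.2.2)⟩
  left_inv X := by
    apply Subtype.ext
    apply Xof_eq d hd X.1 X.2.1
    intro l a
    unfold cOf
    simp only
    by_cases h0 : a.2.val = 0
    · rw [dif_pos h0, topM_apply]
      congr 1
      obtain ⟨k, s⟩ := a
      simp only at h0 ⊢
      have hs : s = ⟨0, hd k⟩ := Fin.ext h0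
      rw [hs]
    · rw [dif_neg h0]
      by_cases h : d a.1 ≤ a.2.val + d l
      · rw [dif_pos h]
      · rw [dif_neg h]
        symm
        obtain ⟨k, s⟩ := a
        exact comm_constraint d hd X.1 X.2.1 l k s (by simpa using h)
  right_inv p := by
    obtain ⟨⟨M, hM⟩, r⟩ := p
    apply Prod.ext
    · apply Subtype.ext
      exact topM_Xof d hd M r
    · funext x
      obtain ⟨⟨a, l⟩, hx1, hx2⟩ := x
      simp only
      rw [Xof_zero]
      unfold cOf
      simp only at hx1 hx2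
      rw [dif_neg (by omega), dif_pos hx2]

end Cfsg.Agent.Lib.Helper16.JC
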