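import Cfsg.Agent.Lib.Helper16.JC3

set_option autoImplicit false

namespace Cfsg.Agent.Lib.Helper16.JC

open Matrix

variable {F : Type*} [Field F] {t : ℕ}

/-- block index function with finite codomain -/
def bD (d : Fin t → ℕ) : Fin t → Fin (Finset.univ.sup d + 1) :=
  fun k => ⟨d k, Nat.lt_succ_of_le (Finset.le_sup (Finset.mem_univ k))⟩

theorem bD_val (d : Fin t → ℕ) (k : Fin t) : (bD d k).val = d k := rfl

theorem bD_lt_iff (d : Fin t → ℕ) (k l : Fin t) : bD d k < bD d l ↔ d k < d l := by
  rw [Fin.lt_def]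
  rfl

theorem bD_eq_iff (d : Fin t → ℕ) (k l : Fin t) : bD d k = bD d l ↔ d k = d l := by
  rw [Fin.ext_iff]
  rfl

def Strict (d : Fin t → ℕ) : Type := {x : Fin t × Fin t // d x.1 < d x.2}

/-- Assemble a block triangular matrix from its parts. -/
def ofParts (d : Fin t → ℕ) (u : Strict d → F)
    (B : ∀ i : Fin (Finset.univ.sup d + 1), Matrix {k // bD d k = i} {k // bD d k = i} F) :
    Matrix (Fin t) (Fin t) F :=
  Matrix.of fun k l => if h : d k < d l then u ⟨(k, l), h⟩ else
    if h' : bD d l = bD d k then B (bD d k) ⟨k, rfl⟩ ⟨l, h'⟩ else 0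

theorem ofParts_bt (d : Fin t → ℕ) (u : Strict d → F)
    (B : ∀ i : Fin (Finset.univ.sup d + 1), Matrix {k // bD d k = i} {k // bD d k = i} F) :
    (ofParts d u B).BlockTriangular (bD d) := by
  intro k l hkl
  rw [bD_lt_iff] at hkl
  unfold ofParts
  rw [Matrix.of_apply, dif_neg (by omega), dif_neg]
  rw [bD_eq_iff]
  omega

theorem ofParts_block (d : Fin t → ℕ) (u : Strict d → F)
    (B : ∀ i : Fin (Finset.univ.sup d + 1), Matrix {k // bD d k = i} {k // bD d k = i} F)
    (i : Fin (Finset.univ.sup d + 1)) : (ofParts d u B).toSquareBlock (bD d) i = B i := by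
  ext ⟨k, hk⟩ ⟨l, hl⟩
  subst hk
  rw [Matrix.toSquareBlock_def]
  unfold ofParts
  simp only [Matrix.of_apply]
  have h1 : d l = d k := (bD_eq_iff d l k).mp hl
  rw [dif_neg (by omega), dif_pos hl]

theorem bt_iff (d : Fin t → ℕ) (M : Matrix (Fin t) (Fin t) F) :
    M.BlockTriangular d ↔ M.BlockTriangular (bD d) := by
  constructor
  · intro h k l hkl
    exact h ((bD_lt_iff d l k).mp hkl)
  · intro h k l hkl
    exact h ((bD_lt_iff d l k).mpr hkl)

theorem det_ne_zero_iff_blocks (d : Fin t → ℕ) (M : Matrix (Fin t) (Fin t) F)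
    (hM : M.BlockTriangular (bD d)) :
    M.det ≠ 0 ↔ ∀ i, (M.toSquareBlock (bD d) i).det ≠ 0 := by
  rw [hM.det_fintype, Finset.prod_ne_zero_iff]
  simp

theorem ofParts_eq (d : Fin t → ℕ) (M : Matrix (Fin t) (Fin t) F) (hM : M.BlockTriangular d) :
    ofParts d (fun x => M x.1.1 x.1.2) (fun i => M.toSquareBlock (bD d) i) = M := by
  ext k l
  unfold ofParts
  simp only [Matrix.of_apply]
  by_cases h : d k < d l
  · rw [dif_pos h]
  · rw [dif_neg h]
    by_cases h' : bD d l = bD d k
    · rw [dif_pos h', Matrix.toSquareBlock_def]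
      rfl
    · rw [dif_neg h']
      symm
      apply hM
      rw [bD_eq_iff] at h'
      omega

/-- Decomposition of invertible block triangular matrices. -/
noncomputable def btEquiv (d : Fin t → ℕ) :
    BTset d F ≃ (Strict d → F) × (∀ i : Fin (Finset.univ.sup d + 1),
      {B : Matrix {k // bD d k = i} {k // bD d k = i} F // B.det ≠ 0}) where
  toFun M := (fun x => M.1 x.1.1 x.1.2, fun i => ⟨M.1.toSquareBlock (bD d) i,
    (det_ne_zero_iff_blocks d M.1 ((bt_iff d M.1).mp M.2.1)).mp M.2.2 i⟩)
  invFun p := ⟨ofParts d p.1 (fun i => (p.2 i).1), (bt_iff d _).mpr (ofParts_bt d _ _), by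
    rw [det_ne_zero_iff_blocks d _ (ofParts_bt d _ _)]
    intro i
    rw [ofParts_block]
    exact (p.2 i).2⟩
  left_inv M := by
    apply Subtype.ext
    exact ofParts_eq d M.1 M.2.1
  right_inv p := by
    obtain ⟨u, B⟩ := p
    apply Prod.ext
    · funext x
      obtain ⟨⟨k, l⟩, hx⟩ := x
      simp only
      unfold ofParts
      rw [Matrix.of_apply, dif_pos hx]
    · funext i
      apply Subtype.ext
      simp only
      rw [ofParts_block]

theorem card_det_ne_zero [Fintype F] (m : Type*) [Fintype m] [DecidableEq m] :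
    Nat.card {B : Matrix m m F // B.det ≠ 0} =
      ∏ j : Fin (Fintype.card m), (Fintype.card F ^ Fintype.card m - Fintype.card F ^ (j : ℕ)) := by
  rw [← Matrix.card_GL_field]
  let e := Fintype.equivFin m
  apply Nat.card_congr
  exact {
    toFun := fun B => Matrix.GeneralLinearGroup.mkOfDetNeZero (Matrix.reindex e e B.1) (by
      rw [Matrix.det_reindex_self]
      exact B.2)
    invFun := fun g => ⟨Matrix.reindex e.symm e.symm g.1, by
      rw [Matrix.det_reindex_self]
      exact ((Matrix.isUnit_iff_isUnit_det _).mp g.isUnit).ne_zero⟩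
    left_inv := fun B => by
      apply Subtype.ext
      simp [Matrix.GeneralLinearGroup.mkOfDetNeZero]
    right_inv := fun g => by
      apply Units.ext
      simp [Matrix.GeneralLinearGroup.mkOfDetNeZero] }

end Cfsg.Agent.Lib.Helper16.JC
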