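import Cfsg.Agent.Lib.Helper16.JC4

set_option autoImplicit false

namespace Cfsg.Agent.Lib.Helper16.JC

open Matrix

variable {F : Type*} [Field F] {t : ℕ}

/-- multiplicity of the block size `i` -/
def mult (d : Fin t → ℕ) (i : ℕ) : ℕ := (Finset.univ.filter (fun k : Fin t => d k = i)).card

theorem sum_fiber (d : Fin t → ℕ) (h : ℕ → ℕ) :
    ∑ k, h (d k) = ∑ i ∈ Finset.range (Finset.univ.sup d + 1), mult d i * h i := by
  rw [← Finset.sum_fiberwise_of_maps_to (s := Finset.univ) (t := Finset.range (Finset.univ.sup d + 1))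
    (g := d) (fun k _ => Finset.mem_range.mpr (Nat.lt_succ_of_le (Finset.le_sup (Finset.mem_univ k))))]
  apply Finset.sum_congr rfl
  intro i _
  rw [Finset.sum_congr rfl (g := fun _ => h i)]
  · rw [Finset.sum_const, smul_eq_mul]
    rfl
  · intro k hk
    rw [(Finset.mem_filter.mp hk).2]

theorem mult_zero (d : Fin t → ℕ) (hd : ∀ k, 1 ≤ d k) : mult d 0 = 0 := by
  unfold mult
  rw [Finset.card_eq_zero, Finset.filter_eq_empty_iff]
  intro k _ h
  have := hd k
  omega

/-- pointwise exponent function -/
def phiE (i j : ℕ) : ℕ := min (i - 1) j + if i < j then 1 else 0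

theorem phiE_term (a b i j : ℕ) (ha : i = 0 → a = 0) :
    a * (b * phiE i j) = (if i < j then i * a * b else 0) + (if j < i then j * b * a else 0) +
      (if i = j then (i - 1) * a * b else 0) := by
  unfold phiE
  rcases Nat.eq_zero_or_pos i with h0 | hpos
  · subst h0
    rw [ha rfl]
    simp
  · rcases lt_trichotomy i j with h | h | h
    · rw [if_pos h, if_pos h, if_neg (by omega), if_neg (by omega), Nat.min_eq_left (by omega)]
      have : i - 1 + 1 = i := by omega
      rw [this]
      ring
    · subst h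
      rw [if_neg (by omega), if_neg (by omega), if_neg (by omega), if_pos rfl, Nat.min_eq_left (by omega)]
      ring
    · rw [if_neg (by omega), if_neg (by omega), if_pos h, if_neg (by omega), Nat.min_eq_right (by omega)]
      ring

theorem exponent_identity (d : Fin t → ℕ) (hd : ∀ k, 1 ≤ d k) :
    ∑ k, ∑ l, phiE (d k) (d l) =
      2 * (∑ i ∈ Finset.range (Finset.univ.sup d + 1), ∑ j ∈ Finset.range (Finset.univ.sup d + 1),
        if i < j then i * mult d i * mult d j else 0) +
      ∑ i ∈ Finset.range (Finset.univ.sup d + 1), (i - 1) * mult d i ^ 2 := by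
  set R := Finset.range (Finset.univ.sup d + 1) with hR
  have h1 : ∀ k, ∑ l, phiE (d k) (d l) = ∑ j ∈ R, mult d j * phiE (d k) j := by
    intro k
    exact sum_fiber d (fun j => phiE (d k) j)
  rw [Finset.sum_congr rfl (fun k _ => h1 k)]
  rw [sum_fiber d (fun i => ∑ j ∈ R, mult d j * phiE i j)]
  have h2 : ∀ i ∈ R, mult d i * ∑ j ∈ R, mult d j * phiE i j =
      ∑ j ∈ R, ((if i < j then i * mult d i * mult d j else 0) +
        (if j < i then j * mult d j * mult d i else 0) +
        (if i = j then (i - 1) * mult d i * mult d j else 0)) := by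
    intro i _
    rw [Finset.mul_sum]
    apply Finset.sum_congr rfl
    intro j _
    apply phiE_term
    intro h0
    rw [h0]
    exact mult_zero d hd
  rw [Finset.sum_congr rfl h2]
  simp only [Finset.sum_add_distrib]
  have h3 : ∑ i ∈ R, ∑ j ∈ R, (if j < i then j * mult d j * mult d i else 0) =
      ∑ i ∈ R, ∑ j ∈ R, (if i < j then i * mult d i * mult d j else 0) := by
    rw [Finset.sum_comm]
  have h4 : ∑ i ∈ R, ∑ j ∈ R, (if i = j then (i - 1) * mult d i * mult d j else 0) =
      ∑ i ∈ R, (i - 1) * mult d i ^ 2 := by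
    apply Finset.sum_congr rfl
    intro i hi
    rw [Finset.sum_ite_eq R i, if_pos hi]
    ring
  rw [h3, h4]
  ring

theorem count_range (n m : ℕ) (hn : 1 ≤ n) :
    ((Finset.range n).filter (fun s => 0 < s ∧ n ≤ s + m)).card = min (n - 1) m := by
  have : (Finset.range n).filter (fun s => 0 < s ∧ n ≤ s + m) = Finset.Ico (max 1 (n - m)) n := by
    ext s
    simp only [Finset.mem_filter, Finset.mem_range, Finset.mem_Ico]
    omega
  rw [this, Nat.card_Ico]
  omega

theorem card_FreeP (d : Fin t → ℕ) (hd : ∀ k, 1 ≤ d k) :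
    Nat.card (FreeP d) = ∑ k, ∑ l, min (d k - 1) (d l) := by
  classical
  unfold FreeP
  rw [Nat.card_eq_fintype_card, Fintype.card_subtype, Finset.card_filter, Fintype.sum_prod_type,
    Fintype.sum_sigma]
  apply Finset.sum_congr rfl
  intro k _
  rw [Finset.sum_comm]
  apply Finset.sum_congr rfl
  intro l _
  simp only
  rw [← count_range (d k) (d l) (hd k), Finset.card_filter, ← Fin.sum_univ_eq_sum_range (fun s => if 0 < s ∧ d k ≤ s + d l then 1 else 0)]

theorem card_Strict (d : Fin t → ℕ) :
    Nat.card (Strict d) = ∑ k, ∑ l, if d k < d l then 1 else 0 := by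
  classical
  unfold Strict
  rw [Nat.card_eq_fintype_card, Fintype.card_subtype, Finset.card_filter, Fintype.sum_prod_type]

theorem card_exponent (d : Fin t → ℕ) (hd : ∀ k, 1 ≤ d k) :
    Nat.card (FreeP d) + Nat.card (Strict d) = ∑ k, ∑ l, phiE (d k) (d l) := by
  rw [card_FreeP d hd, card_Strict, ← Finset.sum_add_distrib]
  apply Finset.sum_congr rfl
  intro k _
  rw [← Finset.sum_add_distrib]
  rfl

end Cfsg.Agent.Lib.Helper16.JC
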