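import Cfsg.Agent.Lib.Helper16.JS14

set_option autoImplicit false

namespace Cfsg.Agent.Lib.Helper16.JO

open Matrix Module Cfsg.Agent.Lib.Helper16.JC Cfsg.Agent.Lib.Helper16.JS

universe u

variable {F : Type u} [Field F]

/-- If `A` preserves the symmetric invertible Gram matrix `G` and `A + 1` is invertible, then
`(A - 1)^(2i+1)` has even rank. -/
theorem even_rank_odd_pow_of_preserves_symm {n : Type} [Fintype n] [DecidableEq n] (G A : Matrix n n F)
    (hsymm : Gᵀ = G) (hG : G.det ≠ 0) (hA : Aᵀ * G * A = G) (hA1 : (A + 1).det ≠ 0) (i : ℕ) :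
    Even ((A - 1) ^ (2 * i + 1)).rank := by
  have hAdet : A.det ≠ 0 := by
    intro h0
    have := congrArg Matrix.det hA
    rw [Matrix.det_mul, Matrix.det_mul, h0, mul_zero] at this
    exact hG this.symm
  have hAu : IsUnit A.det := Ne.isUnit hAdet
  have h1 : A⁻¹ * A = 1 := Matrix.nonsing_inv_mul A hAu
  have h2 : A * A⁻¹ = 1 := Matrix.mul_nonsing_inv A hAu
  set N := A - 1 with hN
  have h3 : Aᵀ * G = G * A⁻¹ := by
    calc Aᵀ * G = Aᵀ * G * (A * A⁻¹) := by rw [h2, mul_one]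
      _ = (Aᵀ * G * A) * A⁻¹ := by simp only [mul_assoc]
      _ = G * A⁻¹ := by rw [hA]
  have h4' : (-A⁻¹) * (A - 1) = A⁻¹ - 1 := by
    rw [mul_sub, neg_mul, h1, mul_one]
    abel
  have h4 : Nᵀ * G = G * ((-A⁻¹) * N) := by
    rw [hN, h4', Matrix.transpose_sub, Matrix.transpose_one, sub_mul, one_mul, h3, mul_sub, mul_one]
  have hcomm : Commute (-A⁻¹) N := by
    rw [hN]
    apply Commute.neg_left
    unfold Commute SemiconjBy
    rw [mul_sub, sub_mul, h1, h2, mul_one, one_mul]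
  have h5 : ∀ r : ℕ, (Nᵀ) ^ r * G = G * ((-A⁻¹) ^ r * N ^ r) := by
    intro r
    induction r with
    | zero => simp
    | succ r ih =>
      rw [pow_succ, mul_assoc, h4, ← mul_assoc, ih, mul_assoc, ← hcomm.mul_pow, ← pow_succ,
        hcomm.mul_pow]
  set Y := (N ^ i)ᵀ * G * N ^ (i + 1) with hY
  have hYT : Yᵀ = (N ^ (i + 1))ᵀ * G * N ^ i := by
    rw [hY, Matrix.transpose_mul, Matrix.transpose_mul, Matrix.transpose_transpose, hsymm, mul_assoc]
  have hKalt : ∀ v : n → F, v ⬝ᵥ (Y - Yᵀ) *ᵥ v = 0 := by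
    intro v
    rw [Matrix.sub_mulVec, dotProduct_sub, sub_eq_zero]
    nth_rewrite 2 [Matrix.dotProduct_mulVec]
    rw [Matrix.vecMul_transpose, dotProduct_comm]
  -- Y - Yᵀ = G (-A⁻¹)^i (1 + A⁻¹) N^(2i+1)
  have hcomm2 : Commute (-A⁻¹) (N ^ i) := hcomm.pow_right i
  have hK : Y - Yᵀ = (G * ((-A⁻¹) ^ i * (A⁻¹ * (A + 1)))) * N ^ (2 * i + 1) := by
    rw [hYT, hY, Matrix.transpose_pow, Matrix.transpose_pow, h5, h5]
    have e1 : G * ((-A⁻¹) ^ i * N ^ i) * N ^ (i + 1) = G * ((-A⁻¹) ^ i * N ^ (2 * i + 1)) := by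
      rw [mul_assoc, mul_assoc]
      congr 2
      rw [← pow_add]
      congr 1
      omega
    have e2 : G * ((-A⁻¹) ^ (i + 1) * N ^ (i + 1)) * N ^ i =
        G * ((-A⁻¹) ^ i * ((-A⁻¹) * N ^ (2 * i + 1))) := by
      rw [mul_assoc, mul_assoc, pow_succ, mul_assoc]
      congr 3
      rw [← pow_add]
      congr 1
      omega
    rw [e1, e2, ← mul_sub, ← mul_sub]
    rw [mul_assoc, mul_assoc]
    congr 2
    have e3 : A⁻¹ * (A + 1) = 1 + A⁻¹ := by rw [mul_add, h1, mul_one]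
    rw [e3, add_mul, one_mul, neg_mul, sub_neg_eq_add]
  have hU : IsUnit (G * ((-A⁻¹) ^ i * (A⁻¹ * (A + 1)))).det := by
    rw [Matrix.det_mul, Matrix.det_mul, Matrix.det_mul, Matrix.det_pow, Matrix.det_neg,
      Matrix.det_nonsing_inv]
    have hinv : IsUnit (Ring.inverse A.det) :=
      (Ring.inverse_unit hAu.unit ▸ hAu.unit⁻¹.isUnit : IsUnit (Ring.inverse A.det))
    apply IsUnit.mul (Ne.isUnit hG)
    apply IsUnit.mul
    · apply IsUnit.pow
      exact IsUnit.mul ((isUnit_neg_one).pow _) hinv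
    · exact IsUnit.mul hinv (Ne.isUnit hA1)
  have h6 := even_rank_of_alt (Y - Yᵀ) hKalt
  rw [hK, Matrix.rank_mul_eq_right_of_isUnit_det _ _ hU] at h6
  exact h6

/-- parity conclusion for even parts -/
theorem even_mult_of_even_ranks_odd {t : ℕ} (d : Fin t → ℕ)
    (hev : ∀ i : ℕ, Even (∑ k, (d k - (2 * i + 1))))
    (j : ℕ) (hj : Even j) (hj0 : 0 < j) : Even (mult d j) := by
  obtain ⟨r, hr⟩ := hj
  obtain ⟨i, rfl⟩ : ∃ i, r = i + 1 := ⟨r - 1, by omega⟩
  subst hr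
  have h1 : mult d (i + 1 + (i + 1)) + 2 * ∑ k, (d k - (i + 1 + (i + 1))) =
      ∑ k, (d k - (2 * i + 1)) + ∑ k, (d k - (2 * (i + 1) + 1)) := by
    rw [mult_eq_sum, Finset.mul_sum, ← Finset.sum_add_distrib, ← Finset.sum_add_distrib]
    apply Finset.sum_congr rfl
    intro k _
    split_ifs <;> omega
  have h2 := (hev i).add (hev (i + 1))
  rw [← h1] at h2
  have h3 : Even (2 * ∑ k, (d k - (i + 1 + (i + 1)))) := even_two_mul _
  exact (Nat.even_add.mp h2).mpr h3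

end Cfsg.Agent.Lib.Helper16.JO
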