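import Cfsg.Agent.Lib.Helper16.JO1
import Cfsg.Prelude.Def_Classical

set_option autoImplicit false

namespace Cfsg.Agent.Lib.Helper16.JO

open Matrix Module Cfsg.Agent.Lib.Helper16.JC Cfsg.Agent.Lib.Helper16.JS

universe u

variable {F : Type u} [Field F] {t : ℕ}

theorem Nm_pow_eq_zero (d : Fin t → ℕ) (a : ℕ) (ha : ∀ k, d k ≤ a) : (Nm d F) ^ a = 0 := by
  ext x ⟨l, j⟩
  have h := vecMul_Nm_pow d (Pi.single x (1 : F)) a l j
  rw [Matrix.single_one_vecMul, dif_neg (by have := ha l; omega)] at h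
  exact h

/-- unipotent conjugates: `A + 1` is invertible when `2 ≠ 0` -/
theorem det_add_one_ne_zero (h2 : (2 : F) ≠ 0) {n : ℕ} (d : Fin t → ℕ) (e : Idx d ≃ Fin n)
    (A : Matrix (Fin n) (Fin n) F)
    (h : IsConj (Matrix.reindex e e (Cfsg.jordanTypeMatrix d F)) A) : (A + 1).det ≠ 0 := by
  -- nilpotency of A - 1
  have hnil : (A - 1) ^ (∑ k, d k) = 0 := by
    obtain ⟨c, hc⟩ := h
    have h1 : SemiconjBy (c : Matrix (Fin n) (Fin n) F)
        (Matrix.reindex e e (Cfsg.jordanTypeMatrix d F) - 1) (A - 1) := by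
      unfold SemiconjBy at hc ⊢
      rw [mul_sub, sub_mul, hc, mul_one, one_mul]
    have h3 := h1.pow_right (∑ k, d k)
    unfold SemiconjBy at h3
    rw [reindex_sub_one_pow, jordan_eq, add_sub_cancel_left,
      Nm_pow_eq_zero d _ (fun k => Finset.single_le_sum (f := d) (fun _ _ => Nat.zero_le _)
        (Finset.mem_univ k))] at h3
    have h4 : (Matrix.reindex e e) (0 : Matrix (Idx d) (Idx d) F) = 0 := by simp
    rw [h4, mul_zero] at h3
    have hcu : IsUnit (c : Matrix (Fin n) (Fin n) F).det := (Matrix.isUnit_iff_isUnit_det _).mp c.isUnit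
    have h5 : (A - 1) ^ (∑ k, d k) * (c : Matrix (Fin n) (Fin n) F) * (c : Matrix (Fin n) (Fin n) F)⁻¹ = 0 := by
      rw [← h3, zero_mul]
    rwa [mul_assoc, Matrix.mul_nonsing_inv _ hcu, mul_one] at h5
  intro h0
  obtain ⟨v, hv0, hv⟩ := Matrix.exists_mulVec_eq_zero_iff.mpr h0
  apply hv0
  have h1 : (A - 1) *ᵥ v = (-2 : F) • v := by
    have : A *ᵥ v = -v := by
      rw [Matrix.add_mulVec, Matrix.one_mulVec] at hv
      exact eq_neg_of_add_eq_zero_left hv
    rw [Matrix.sub_mulVec, Matrix.one_mulVec, this]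
    ext i
    simp only [Pi.sub_apply, Pi.neg_apply, Pi.smul_apply, smul_eq_mul]
    ring
  have h3 : ∀ r : ℕ, (A - 1) ^ r *ᵥ v = ((-2 : F) ^ r) • v := by
    intro r
    induction r with
    | zero => simp
    | succ r ih =>
      rw [pow_succ, ← Matrix.mulVec_mulVec, h1, Matrix.mulVec_smul, ih, smul_smul, pow_succ, mul_comm]
  have h4 := h3 (∑ k, d k)
  rw [hnil, Matrix.zero_mulVec] at h4
  have h5 : ((-2 : F) ^ (∑ k, d k)) ≠ 0 := pow_ne_zero _ (neg_ne_zero.mpr h2)
  exact (smul_eq_zero.mp h4.symm).resolve_left h5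

/-- Necessity for orthogonal groups in odd characteristic. -/
theorem orth_necessary (h2 : (2 : F) ≠ 0) {n : ℕ} (d : Fin t → ℕ)
    (Q : QuadraticForm F (Fin n → F)) (hQ : (QuadraticMap.polarBilin Q).Nondegenerate)
    (e : Idx d ≃ Fin n) (A : ↥(Cfsg.isometryGroup F ⇑Q))
    (h : IsConj (Matrix.reindex e e (Cfsg.jordanTypeMatrix d F))
      ((A : Matrix.GeneralLinearGroup (Fin n) F) : Matrix (Fin n) (Fin n) F)) :
    ∀ j : ℕ, Even j → 0 < j → Even (mult d j) := by
  apply even_mult_of_even_ranks_odd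
  intro i
  set B : LinearMap.BilinForm F (Fin n → F) := QuadraticMap.polarBilin Q with hB
  set G := LinearMap.BilinForm.toMatrix' B with hG
  set Am : Matrix (Fin n) (Fin n) F := ((A : Matrix.GeneralLinearGroup (Fin n) F) : Matrix (Fin n) (Fin n) F)
    with hAm
  have hsymm : Gᵀ = G := by
    ext a b
    rw [Matrix.transpose_apply, hG, LinearMap.BilinForm.toMatrix'_apply,
      LinearMap.BilinForm.toMatrix'_apply, hB, QuadraticMap.polarBilin_apply_apply,
      QuadraticMap.polarBilin_apply_apply, QuadraticMap.polar_comm]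
  have hGdet : G.det ≠ 0 := by
    have h1 : G.Nondegenerate := LinearMap.BilinForm.Nondegenerate.toMatrix' hQ
    exact Matrix.nondegenerate_iff_det_ne_zero.mp h1
  have hpres : ∀ x : Fin n → F, Q (Am *ᵥ x) = Q x := by
    intro x
    exact A.2 x x
  have hcomp : B.comp (Matrix.toLin' Am) (Matrix.toLin' Am) = B := by
    apply LinearMap.ext
    intro x
    apply LinearMap.ext
    intro y
    rw [LinearMap.BilinForm.comp_apply, hB, QuadraticMap.polarBilin_apply_apply,
      QuadraticMap.polarBilin_apply_apply, Matrix.toLin'_apply, Matrix.toLin'_apply]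
    unfold QuadraticMap.polar
    rw [← Matrix.mulVec_add, hpres, hpres, hpres]
  have hA : Amᵀ * G * Am = G := by
    have := LinearMap.BilinForm.toMatrix'_comp B (Matrix.toLin' Am) (Matrix.toLin' Am)
    rw [hcomp, LinearMap.toMatrix'_toLin'] at this
    exact this.symm
  have h1 := even_rank_odd_pow_of_preserves_symm G Am hsymm hGdet hA (det_add_one_ne_zero h2 d e Am h) i
  rw [rank_pow_of_isConj _ _ h, reindex_sub_one_pow, Matrix.rank_reindex, jordan_eq,
    add_sub_cancel_left, rank_Nm_pow] at h1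
  exact h1

end Cfsg.Agent.Lib.Helper16.JO
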