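import Cfsg.Agent.Lib.Helper16.JO2

set_option autoImplicit false

namespace Cfsg.Agent.Lib.Helper16.JO

open Matrix Module Cfsg.Agent.Lib.Helper16.JC Cfsg.Agent.Lib.Helper16.JS

universe u

variable {F : Type u} [Field F]

/-- signed reversal matrix -/
def Bs (n : ℕ) (F : Type u) [Field F] : Matrix (Fin n) (Fin n) F :=
  Matrix.of fun i j => if i.val + j.val + 1 = n then (-1) ^ i.val else 0

theorem Bs_apply (n : ℕ) (i j : Fin n) :
    Bs n F i j = if i.val + j.val + 1 = n then (-1) ^ i.val else 0 := rfl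

theorem neg_one_pow_eq_of_even_add (i j : ℕ) (h : Even (i + j)) : ((-1 : F)) ^ i = (-1) ^ j := by
  have h1 : ((-1 : F)) ^ (i + j) = 1 := h.neg_one_pow
  have h2 : ((-1 : F)) ^ j * (-1) ^ j = 1 := by
    rw [← pow_add]
    exact (Even.add_self j).neg_one_pow
  calc ((-1 : F)) ^ i = (-1) ^ i * ((-1) ^ j * (-1) ^ j) := by rw [h2, mul_one]
    _ = (-1) ^ (i + j) * (-1) ^ j := by rw [pow_add]; ring
    _ = (-1) ^ j := by rw [h1, one_mul]

theorem Bs_transpose (n : ℕ) (hn : Odd n) : (Bs n F)ᵀ = Bs n F := by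
  ext i j
  rw [Matrix.transpose_apply, Bs_apply, Bs_apply]
  by_cases h : i.val + j.val + 1 = n
  · rw [if_pos h, if_pos (by omega)]
    apply neg_one_pow_eq_of_even_add
    obtain ⟨r, hr⟩ := hn
    exact ⟨r, by omega⟩
  · rw [if_neg h, if_neg (by omega)]

theorem Bs_mul_self (n : ℕ) (hn : Odd n) : Bs n F * Bs n F = 1 := by
  ext i l
  rw [Matrix.mul_apply, Finset.sum_eq_single (⟨n - 1 - i.val, by have := i.isLt; omega⟩ : Fin n)]
  · rw [Bs_apply, Bs_apply, if_pos (by simp only; have := i.isLt; omega)]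
    by_cases hil : i = l
    · subst hil
      rw [if_pos (by simp only; have := i.isLt; omega), Matrix.one_apply_eq, ← pow_add]
      apply Even.neg_one_pow
      obtain ⟨r, hr⟩ := hn
      have := i.isLt
      exact ⟨r, by simp only; omega⟩
    · rw [Matrix.one_apply_ne hil, if_neg, mul_zero]
      simp only
      intro h
      apply hil
      apply Fin.ext
      have := i.isLt
      omega
  · intro j _ hj
    rw [Bs_apply, if_neg, zero_mul]
    intro h
    apply hj
    apply Fin.ext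
    simp only
    omega
  · intro hh
    exact absurd (Finset.mem_univ _) hh

theorem LmT_mul_Bs (n : ℕ) : (Lm n F)ᵀ * Bs n F = -(Bs n F * Lm n F) := by
  ext i j
  rw [Matrix.neg_apply, LmT_mul, mul_Lm]
  by_cases h : i.val + j.val + 2 = n
  · rw [dif_pos (by omega), dif_pos (by omega), Bs_apply, Bs_apply, if_pos (by simp only; omega),
      if_pos (by simp only; omega)]
    simp only
    rw [pow_succ]
    ring
  · by_cases h1 : i.val + 1 < n
    · rw [dif_pos h1, Bs_apply, if_neg (by simp only; omega)]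
      by_cases h3 : j.val + 1 < n
      · rw [dif_pos h3, Bs_apply, if_neg (by simp only; omega), neg_zero]
      · rw [dif_neg h3, neg_zero]
    · rw [dif_neg h1]
      by_cases h3 : j.val + 1 < n
      · rw [dif_pos h3, Bs_apply, if_neg (by simp only; omega), neg_zero]
      · rw [dif_neg h3, neg_zero]

theorem one_sub_Lm_det (n : ℕ) : (1 - Lm n F).det = 1 := by
  rw [Matrix.det_of_isLowerTriangular]
  · apply Finset.prod_eq_one
    intro i _
    rw [Matrix.sub_apply, Matrix.one_apply_eq, Lm_apply, if_neg (by omega), sub_zero]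
  · intro i j hij
    have hlt : i.val < j.val := hij
    have hne : i ≠ j := fun h => by rw [h] at hlt; exact lt_irrefl _ hlt
    rw [Matrix.sub_apply, Matrix.one_apply_ne hne, Lm_apply, if_neg (by omega), sub_zero]

/-- symmetric invariant form for odd Jordan blocks in odd characteristic -/
theorem exists_symm_form (h2 : (2 : F) ≠ 0) (n : ℕ) (hn : Odd n) :
    ∃ U : Matrix (Fin n) (Fin n) F, Uᵀ = U ∧ U.det ≠ 0 ∧
      (Cfsg.jordanBlock n F)ᵀ * U * Cfsg.jordanBlock n F = U := by
  have hn1 : 1 ≤ n := by obtain ⟨r, hr⟩ := hn; omega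
  set L := Lm n F with hL
  set P := 1 - L with hP
  set Q := 1 + L with hQ
  have hPdet : P.det = 1 := one_sub_Lm_det n
  have hPu : IsUnit P.det := by rw [hPdet]; exact isUnit_one
  have hPi1 : P⁻¹ * P = 1 := Matrix.nonsing_inv_mul P hPu
  have hPi2 : P * P⁻¹ = 1 := Matrix.mul_nonsing_inv P hPu
  have hLP : Commute L P := by
    rw [hP]
    exact (Commute.one_right _).sub_right (Commute.refl _)
  have hLPi : Commute L P⁻¹ := by
    unfold Commute SemiconjBy
    calc L * P⁻¹ = (P⁻¹ * P) * L * P⁻¹ := by rw [hPi1, one_mul]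
      _ = P⁻¹ * (P * L) * P⁻¹ := by simp only [mul_assoc]
      _ = P⁻¹ * (L * P) * P⁻¹ := by rw [hLP.eq]
      _ = P⁻¹ * L * (P * P⁻¹) := by simp only [mul_assoc]
      _ = P⁻¹ * L := by rw [hPi2, mul_one]
  have hQP : Commute Q P := by
    rw [hQ]
    exact (Commute.one_left _).add_left hLP
  set B := Bs n F with hB
  have hBT : Bᵀ = B := Bs_transpose n hn
  have hBB : B * B = 1 := Bs_mul_self n hn
  have hBdet : B.det ≠ 0 := by
    intro h0
    have := congrArg Matrix.det hBB
    rw [Matrix.det_mul, h0, zero_mul, Matrix.det_one] at this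
    exact zero_ne_one this
  have hLB : Lᵀ * B = -(B * L) := LmT_mul_Bs n
  have hQB : Qᵀ * B = B * P := by
    rw [hQ, hP, Matrix.transpose_add, Matrix.transpose_one, add_mul, one_mul, hLB, mul_sub, mul_one]
    abel
  have hPB : Pᵀ * B = B * Q := by
    rw [hQ, hP, Matrix.transpose_sub, Matrix.transpose_one, sub_mul, one_mul, hLB, mul_add, mul_one]
    abel
  set M := Q * P⁻¹ with hM
  have hMpres : Mᵀ * B * M = B := by
    have e1 : P * Q * P⁻¹ = Q := by
      rw [← hQP.eq, mul_assoc, hPi2, mul_one]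
    calc Mᵀ * B * M = (P⁻¹)ᵀ * (Qᵀ * B) * (Q * P⁻¹) := by
          rw [hM, Matrix.transpose_mul]
          simp only [mul_assoc]
      _ = (P⁻¹)ᵀ * B * (P * Q * P⁻¹) := by
          rw [hQB]
          simp only [mul_assoc]
      _ = (P⁻¹)ᵀ * (Pᵀ * B) := by rw [e1, hPB, mul_assoc]
      _ = (P * P⁻¹)ᵀ * B := by rw [Matrix.transpose_mul, mul_assoc]
      _ = B := by rw [hPi2, Matrix.transpose_one, one_mul]
  have hM1 : M - 1 = ((2 : F) • P⁻¹) * L := by
    have : M - 1 = (Q - P) * P⁻¹ := by rw [sub_mul, hPi2]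
    rw [this, hQ, hP]
    have : (1 + L - (1 - L)) = (2 : F) • L := by
      rw [two_smul]
      abel
    rw [this, Matrix.smul_mul, Matrix.smul_mul, hLPi.eq]
  have hUdet : ((2 : F) • P⁻¹).det ≠ 0 := by
    rw [Matrix.det_smul, Matrix.det_nonsing_inv, hPdet]
    simp only [Ring.inverse_one, mul_one]
    exact pow_ne_zero _ h2
  have hUcomm : Commute ((2 : F) • P⁻¹) L := by
    apply Commute.smul_left
    exact hLPi.symm
  have h0 : (M - 1) ^ n = 0 := by
    rw [hM1]
    exact (unit_mul_pow_eq_zero_iff _ _ hUdet hUcomm n).mpr (Lm_pow_eq_zero n n le_rfl)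
  have h1 : (M - 1) ^ (n - 1) ≠ 0 := by
    rw [hM1]
    intro h
    exact Lm_pow_ne_zero n hn1 ((unit_mul_pow_eq_zero_iff _ _ hUdet hUcomm (n - 1)).mp h)
  obtain ⟨C, hC, hMC⟩ := exists_conj_jordanBlock n hn1 M h0 h1
  refine ⟨Cᵀ * B * C, ?_, ?_, ?_⟩
  · rw [Matrix.transpose_mul, Matrix.transpose_mul, Matrix.transpose_transpose, hBT, mul_assoc]
  · rw [Matrix.det_mul, Matrix.det_mul, Matrix.det_transpose]
    exact mul_ne_zero (mul_ne_zero hC hBdet) hC
  · calc (Cfsg.jordanBlock n F)ᵀ * (Cᵀ * B * C) * Cfsg.jordanBlock n F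
        = (C * Cfsg.jordanBlock n F)ᵀ * B * (C * Cfsg.jordanBlock n F) := by
          rw [Matrix.transpose_mul]
          simp only [mul_assoc]
      _ = (M * C)ᵀ * B * (M * C) := by rw [hMC]
      _ = Cᵀ * (Mᵀ * B * M) * C := by
          rw [Matrix.transpose_mul]
          simp only [mul_assoc]
      _ = Cᵀ * B * C := by rw [hMpres]

end Cfsg.Agent.Lib.Helper16.JO
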