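import Cfsg.Agent.Lib.Helper16.JO4

set_option autoImplicit false

namespace Cfsg.Agent.Lib.Helper16.JO

open Matrix Module Cfsg.Agent.Lib.Helper16.JC Cfsg.Agent.Lib.Helper16.JS

universe u

variable {F : Type u} [Field F] {t : ℕ}

/-- chosen symmetric forms on odd blocks -/
noncomputable def uN (F : Type u) [Field F] (n : ℕ) : ℕ → ℕ → F :=
  haveI : Decidable ((2 : F) ≠ 0 ∧ Odd n) := Classical.propDecidable _
  if h : (2 : F) ≠ 0 ∧ Odd n then fN n (Classical.choose (exists_symm_form h.1 n h.2))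
  else fun _ _ => 0

theorem uN_spec (h2 : (2 : F) ≠ 0) (n : ℕ) (hn : Odd n) :
    IsInvForm n (uN F n) ∧ ∀ a b, uN F n a b = uN F n b a := by
  unfold uN
  rw [dif_pos ⟨h2, hn⟩]
  have h := Classical.choose_spec (exists_symm_form h2 n hn)
  refine ⟨isInvForm_of_matrix n _ h.2.1 h.2.2, ?_⟩
  intro a b
  by_cases hab : a < n ∧ b < n
  · rw [fN_of_lt n _ a b hab.1 hab.2, fN_of_lt n _ b a hab.2 hab.1]
    have := congrFun (congrFun h.1 ⟨a, hab.1⟩) ⟨b, hab.2⟩
    rw [Matrix.transpose_apply] at this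
    exact this.symm
  · rw [fN_of_not n _ a b hab, fN_of_not n _ b a (by omega)]

/-- block functions of the symmetric global form -/
noncomputable def gS (F : Type u) [Field F] (d : Fin t → ℕ) (π : Fin t → Fin t) (k : Fin t) :
    ℕ → ℕ → F :=
  if π k = k then uN F (d k) else if k < π k then sN F (d k) else fun a b => sN F (d k) b a

theorem gS_inv (h2 : (2 : F) ≠ 0) (d : Fin t → ℕ) (hd : ∀ k, 1 ≤ d k) (π : Fin t → Fin t)
    (hfix : ∀ k, π k = k → Odd (d k)) (k : Fin t) : IsInvForm (d k) (gS F d π k) := by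
  unfold gS
  by_cases h : π k = k
  · rw [if_pos h]
    exact (uN_spec h2 (d k) (hfix k h)).1
  · rw [if_neg h]
    by_cases h' : k < π k
    · rw [if_pos h']
      exact sN_spec (d k) (hd k)
    · rw [if_neg h']
      exact IsInvForm.T (sN_spec (d k) (hd k))

theorem OmS_symm (h2 : (2 : F) ≠ 0) (d : Fin t → ℕ) (π : Fin t → Fin t)
    (hπ2 : ∀ k, π (π k) = k) (hπd : ∀ k, d (π k) = d k) (hfix : ∀ k, π k = k → Odd (d k)) :
    (OmG d π (gS F d π))ᵀ = OmG d π (gS F d π) := by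
  ext ⟨k, a⟩ ⟨l, b⟩
  rw [Matrix.transpose_apply, OmG_apply, OmG_apply]
  simp only
  by_cases hl : l = π k
  · subst hl
    rw [if_pos (hπ2 k).symm, if_pos rfl]
    generalize a.val = a'
    generalize b.val = b'
    unfold gS
    rw [hπ2]
    rcases lt_trichotomy k (π k) with h | h | h
    · rw [if_neg (ne_of_lt h), if_neg (not_lt_of_gt h), if_neg (ne_of_gt h), if_pos h, hπd]
    · rw [if_pos h.symm, if_pos (by rw [← h]), ← h]
      exact (uN_spec h2 (d k) (hfix k h.symm)).2 _ _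
    · rw [if_neg (ne_of_gt h), if_pos h, if_neg (ne_of_lt h), if_neg (not_lt_of_gt h), hπd]
  · rw [if_neg hl, if_neg]
    intro h
    apply hl
    rw [h, hπ2]

/-- Sufficiency for orthogonal groups in odd characteristic. -/
theorem orth_sufficient (h2 : (2 : F) ≠ 0) {n : ℕ} (d : Fin t → ℕ) (hd : ∀ k, 1 ≤ d k)
    (hsum : ∑ k, d k = n) (hpar : ∀ j : ℕ, Even j → 0 < j → Even (mult d j)) :
    ∃ Q : QuadraticForm F (Fin n → F), (QuadraticMap.polarBilin Q).Nondegenerate ∧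
      ∃ e : Idx d ≃ Fin n, ∃ A : ↥(Cfsg.isometryGroup F ⇑Q),
        IsConj (Matrix.reindex e e (Cfsg.jordanTypeMatrix d F))
          ((A : Matrix.GeneralLinearGroup (Fin n) F) : Matrix (Fin n) (Fin n) F) := by
  have hpar' : ∀ j : ℕ, ¬ Odd j → Even (mult d j) := by
    intro j hj
    have hje : Even j := Nat.not_odd_iff_even.mp hj
    rcases Nat.eq_zero_or_pos j with h0 | hpos
    · rw [h0, mult_zero d hd]
      exact Even.zero
    · exact hpar j hje hpos
  obtain ⟨π, hπ2, hπd, hπfix⟩ := exists_pairing' d (fun j => Odd j) hpar'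
  have hfix : ∀ k, π k = k → Odd (d k) := fun k h => (hπfix k).mp h
  have hg : ∀ k, IsInvForm (d k) (gS F d π k) := gS_inv h2 d hd π hfix
  set Ω := OmG d π (gS F d π) with hΩ
  have hΩsymm : Ωᵀ = Ω := OmS_symm h2 d π hπ2 hπd hfix
  have hΩdet : Ω.det ≠ 0 := OmG_det d π _ hπ2 hπd hg
  have hΩinv : (Cfsg.jordanTypeMatrix d F)ᵀ * Ω * Cfsg.jordanTypeMatrix d F = Ω :=
    OmG_invariant d π _ hπd hg
  have hcard : Fintype.card (Idx d) = Fintype.card (Fin n) := by
    rw [card_Idx, hsum, Fintype.card_fin]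
  let e : Idx d ≃ Fin n := Fintype.equivOfCardEq hcard
  set Ω' := Matrix.reindex e e Ω with hΩ'
  set J' := Matrix.reindex e e (Cfsg.jordanTypeMatrix d F) with hJ'
  have hΩ'symm : Ω'ᵀ = Ω' := by
    rw [hΩ', Matrix.transpose_reindex, hΩsymm]
  have hΩ'det : Ω'.det ≠ 0 := by
    rw [hΩ', Matrix.det_reindex_self]
    exact hΩdet
  have hpres : J'ᵀ * Ω' * J' = Ω' := by
    rw [hJ', hΩ', Matrix.transpose_reindex]
    simp only [Matrix.reindex_apply, Matrix.submatrix_mul_equiv]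
    rw [hΩinv]
  have hJ'det : J'.det ≠ 0 := by
    intro h0
    have := congrArg Matrix.det hpres
    rw [Matrix.det_mul, Matrix.det_mul, h0, mul_zero] at this
    exact hΩ'det this.symm
  set Bq : LinearMap.BilinForm F (Fin n → F) := Matrix.toBilin' ((2 : F)⁻¹ • Ω') with hBq
  have hBqapp : ∀ x y, Bq x y = (2 : F)⁻¹ * (x ⬝ᵥ Ω' *ᵥ y) := by
    intro x y
    rw [hBq, Matrix.toBilin'_apply', Matrix.smul_mulVec, dotProduct_smul, smul_eq_mul]
  have hswap : ∀ x y : Fin n → F, y ⬝ᵥ Ω' *ᵥ x = x ⬝ᵥ Ω' *ᵥ y := by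
    intro x y
    rw [Matrix.dotProduct_mulVec, dotProduct_comm, ← Matrix.mulVec_transpose, hΩ'symm]
  set Q : QuadraticForm F (Fin n → F) := LinearMap.BilinMap.toQuadraticMap Bq with hQ
  have hQapp : ∀ x, Q x = (2 : F)⁻¹ * (x ⬝ᵥ Ω' *ᵥ x) := by
    intro x
    rw [hQ, LinearMap.BilinMap.toQuadraticMap_apply, hBqapp]
  have hpolar : QuadraticMap.polarBilin Q = Matrix.toBilin' Ω' := by
    rw [hQ, LinearMap.BilinMap.polarBilin_toQuadraticMap]
    apply LinearMap.ext
    intro x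
    apply LinearMap.ext
    intro y
    rw [LinearMap.add_apply, LinearMap.add_apply, LinearMap.flip_apply, hBqapp, hBqapp,
      Matrix.toBilin'_apply', hswap x y]
    field_simp
    ring
  refine ⟨Q, ?_, e, ?_⟩
  · rw [hpolar]
    exact LinearMap.BilinForm.nondegenerate_toBilin'_of_det_ne_zero' Ω' hΩ'det
  · have hmem : Matrix.GeneralLinearGroup.mkOfDetNeZero J' hJ'det ∈ Cfsg.isometryGroup F ⇑Q := by
      intro x _
      show Q (J' *ᵥ x) = Q x
      rw [hQapp, hQapp, Matrix.mulVec_mulVec, ← Matrix.vecMul_transpose, ← Matrix.dotProduct_mulVec,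
        Matrix.mulVec_mulVec, ← mul_assoc, hpres]
    refine ⟨⟨Matrix.GeneralLinearGroup.mkOfDetNeZero J' hJ'det, hmem⟩, ?_⟩
    exact IsConj.refl _

end Cfsg.Agent.Lib.Helper16.JO
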