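import Cfsg.Agent.Lib.Helper16.JO6

set_option autoImplicit false

namespace Cfsg.Agent.Lib.Helper16.JQ

open Matrix Module Cfsg.Agent.Lib.Helper16.JC Cfsg.Agent.Lib.Helper16.JS Cfsg.Agent.Lib.Helper16.JO

universe u

variable {F : Type u} [Field F] {t : ℕ}

/-- Necessity for orthogonal groups in characteristic two. -/
theorem orth2_necessary [CharP F 2] {n : ℕ} (d : Fin t → ℕ)
    (Q : QuadraticForm F (Fin n → F)) (hQ : (QuadraticMap.polarBilin Q).Nondegenerate)
    (e : Idx d ≃ Fin n) (A : ↥(Cfsg.isometryGroup F ⇑Q))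
    (h : IsConj (Matrix.reindex e e (Cfsg.jordanTypeMatrix d F))
      ((A : Matrix.GeneralLinearGroup (Fin n) F) : Matrix (Fin n) (Fin n) F)) :
    ∀ j : ℕ, Odd j → Even (mult d j) := by
  apply even_mult_of_even_ranks
  intro i
  set B : LinearMap.BilinForm F (Fin n → F) := QuadraticMap.polarBilin Q with hB
  set G := LinearMap.BilinForm.toMatrix' B with hG
  set Am : Matrix (Fin n) (Fin n) F := ((A : Matrix.GeneralLinearGroup (Fin n) F) : Matrix (Fin n) (Fin n) F)
    with hAm
  have halt : ∀ v : Fin n → F, v ⬝ᵥ G *ᵥ v = 0 := by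
    intro v
    have h1 : v ⬝ᵥ G *ᵥ v = B v v := by
      rw [hG, ← Matrix.toBilin'_apply', Matrix.toBilin'_toMatrix']
    rw [h1, hB, QuadraticMap.polarBilin_apply_apply]
    unfold QuadraticMap.polar
    have hvv : v + v = 0 := by
      ext i
      exact CharTwo.add_self_eq_zero (v i)
    rw [hvv, map_zero, zero_sub, sub_eq_add_neg, ← neg_add,
      CharTwo.add_self_eq_zero, neg_zero]
  have hGdet : G.det ≠ 0 := by
    have h1 : G.Nondegenerate := LinearMap.BilinForm.Nondegenerate.toMatrix' hQ
    exact Matrix.nondegenerate_iff_det_ne_zero.mp h1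
  have hpres : ∀ x : Fin n → F, Q (Am *ᵥ x) = Q x := by
    intro x
    exact A.2 x x
  have hcomp : B.comp (Matrix.toLin' Am) (Matrix.toLin' Am) = B := by
    apply LinearMap.ext
    intro x
    apply LinearMap.ext
    intro y
    rw [LinearMap.BilinForm.comp_apply, hB, QuadraticMap.polarBilin_apply_apply,
      QuadraticMap.polarBilin_apply_apply, Matrix.toLin'_apply, Matrix.toLin'_apply]
    unfold QuadraticMap.polar
    rw [← Matrix.mulVec_add, hpres, hpres, hpres]
  have hA : Amᵀ * G * Am = G := by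
    have := LinearMap.BilinForm.toMatrix'_comp B (Matrix.toLin' Am) (Matrix.toLin' Am)
    rw [hcomp, LinearMap.toMatrix'_toLin'] at this
    exact this.symm
  have h1 : Even ((Am - 1) ^ (2 * i)).rank :=
    even_rank_pow_of_preserves (n := Fin n) G Am halt hGdet hA i
  rw [rank_pow_of_isConj _ _ h, reindex_sub_one_pow, Matrix.rank_reindex, jordan_eq,
    add_sub_cancel_left, rank_Nm_pow] at h1
  exact h1

end Cfsg.Agent.Lib.Helper16.JQ
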