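import Cfsg.Agent.Lib.Helper16.JQ1

set_option autoImplicit false

namespace Cfsg.Agent.Lib.Helper16.JQ

open Matrix Module Cfsg.Agent.Lib.Helper16.JC Cfsg.Agent.Lib.Helper16.JS Cfsg.Agent.Lib.Helper16.JO

universe u

variable {F : Type u} [Field F] {t : ℕ}

/-- entrywise consequences of the alternating property -/
theorem IsAltForm.diag {n : ℕ} {f : ℕ → ℕ → F} (h : IsAltForm n f) (a : ℕ) (ha : a < n) : f a a = 0 := by
  have h1 := h (fun c => if c = a then 1 else 0)
  rw [Finset.sum_eq_single a] at h1
  · rw [Finset.sum_eq_single a] at h1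
    · simpa using h1
    · intro b _ hb
      rw [if_neg hb, mul_zero]
    · intro hh
      exact absurd (Finset.mem_range.mpr ha) hh
  · intro c _ hc
    apply Finset.sum_eq_zero
    intro b _
    rw [if_neg hc, zero_mul, zero_mul]
  · intro hh
    exact absurd (Finset.mem_range.mpr ha) hh

theorem IsAltForm.skew {n : ℕ} {f : ℕ → ℕ → F} (h : IsAltForm n f) (a b : ℕ) (ha : a < n) (hb : b < n)
    (hab : a ≠ b) : f a b + f b a = 0 := by
  have h1 := h (fun c => if c = a ∨ c = b then 1 else 0)
  have hsub : ({a, b} : Finset ℕ) ⊆ Finset.range n := by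
    intro c hc
    rw [Finset.mem_insert, Finset.mem_singleton] at hc
    rw [Finset.mem_range]
    rcases hc with rfl | rfl <;> assumption
  have e1 : ∀ c ∈ Finset.range n, c ∉ ({a, b} : Finset ℕ) →
      ∑ b' ∈ Finset.range n, (if c = a ∨ c = b then (1 : F) else 0) * f c b' *
        (if b' = a ∨ b' = b then 1 else 0) = 0 := by
    intro c _ hc
    rw [Finset.mem_insert, Finset.mem_singleton] at hc
    apply Finset.sum_eq_zero
    intro b' _
    rw [if_neg hc, zero_mul, zero_mul]
  rw [← Finset.sum_subset hsub e1] at h1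
  have e2 : ∀ c : ℕ, ∑ b' ∈ Finset.range n, (if c = a ∨ c = b then (1 : F) else 0) * f c b' *
        (if b' = a ∨ b' = b then 1 else 0) =
      ∑ b' ∈ ({a, b} : Finset ℕ), (if c = a ∨ c = b then (1 : F) else 0) * f c b' *
        (if b' = a ∨ b' = b then 1 else 0) := by
    intro c
    symm
    apply Finset.sum_subset hsub
    intro b' _ hb'
    rw [Finset.mem_insert, Finset.mem_singleton] at hb'
    rw [if_neg hb', mul_zero]
  simp only [e2] at h1
  rw [Finset.sum_pair hab, Finset.sum_pair hab, Finset.sum_pair hab] at h1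
  simp only [true_or, or_true, if_true, one_mul, mul_one] at h1
  have d1 := IsAltForm.diag h a ha
  have d2 := IsAltForm.diag h b hb
  linear_combination h1 - d1 - d2

/-- diagonal coefficients of the quadratic form on an even block -/
noncomputable def qN (F : Type u) [Field F] (n : ℕ) (a : ℕ) : F :=
  if a = 0 then 0 else wN F n (a - 1) a

/-- upper triangular part of the quadratic form on an even block -/
noncomputable def zN (F : Type u) [Field F] (n : ℕ) (a b : ℕ) : F :=
  if a < b then wN F n a b else if a = b then qN F n a else 0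

/-- block functions of the polar form -/
noncomputable def g2 (F : Type u) [Field F] (d : Fin t → ℕ) (π : Fin t → Fin t) (k : Fin t) :
    ℕ → ℕ → F :=
  if π k = k then wN F (d k) else if k < π k then sN F (d k) else fun a b => sN F (d k) b a

theorem g2_inv (d : Fin t → ℕ) (hd : ∀ k, 1 ≤ d k) (π : Fin t → Fin t)
    (hfix : ∀ k, π k = k → Even (d k)) (k : Fin t) : IsInvForm (d k) (g2 F d π k) := by
  unfold g2
  by_cases h : π k = k
  · rw [if_pos h]
    exact (wN_spec (d k) (hd k) (hfix k h)).1
  · rw [if_neg h]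
    by_cases h' : k < π k
    · rw [if_pos h']
      exact sN_spec (d k) (hd k)
    · rw [if_neg h']
      exact IsInvForm.T (sN_spec (d k) (hd k))

/-- the (non-symmetric) Gram matrix of the quadratic form -/
noncomputable def Zm (F : Type u) [Field F] (d : Fin t → ℕ) (π : Fin t → Fin t) :
    Matrix (Idx d) (Idx d) F :=
  Matrix.of fun x y => if y.1 = π x.1 then
    (if x.1 = y.1 then zN F (d x.1) x.2.val y.2.val
      else if x.1 < y.1 then sN F (d x.1) x.2.val y.2.val else 0) else 0

theorem Zm_apply (d : Fin t → ℕ) (π : Fin t → Fin t) (x y : Idx d) :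
    Zm F d π x y = if y.1 = π x.1 then
    (if x.1 = y.1 then zN F (d x.1) x.2.val y.2.val
      else if x.1 < y.1 then sN F (d x.1) x.2.val y.2.val else 0) else 0 := rfl

theorem Zm_add_transpose [CharP F 2] (d : Fin t → ℕ) (hd : ∀ k, 1 ≤ d k) (π : Fin t → Fin t)
    (hπ2 : ∀ k, π (π k) = k) (hπd : ∀ k, d (π k) = d k) (hfix : ∀ k, π k = k → Even (d k)) :
    Zm F d π + (Zm F d π)ᵀ = OmG d π (g2 F d π) := by
  ext ⟨k, a⟩ ⟨l, b⟩
  rw [Matrix.add_apply, Matrix.transpose_apply, Zm_apply, Zm_apply, OmG_apply]
  simp only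
  have ha := a.isLt
  by_cases hl : l = π k
  · subst hl
    rw [if_pos rfl, if_pos (hπ2 k).symm, if_pos rfl]
    have hdl : d (π k) = d k := hπd k
    have hb : b.val < d k := lt_of_lt_of_eq b.isLt hdl
    generalize a.val = a' at ha ⊢
    generalize b.val = b' at hb ⊢
    unfold g2
    rcases lt_trichotomy k (π k) with h | h | h
    · rw [if_neg (ne_of_lt h), if_pos h, if_neg (ne_of_gt h), if_neg (not_lt_of_gt h), add_zero,
        if_neg (ne_of_gt h), if_pos h]
    · have hk : π k = k := h.symm
      have hw := wN_spec (F := F) (d k) (hd k) (hfix k hk)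
      rw [if_pos h, if_pos h.symm, if_pos hk, ← h]
      unfold zN
      rcases lt_trichotomy a' b' with hab | hab | hab
      · rw [if_pos hab, if_neg (not_lt_of_gt hab), if_neg (ne_of_gt hab), add_zero]
      · subst hab
        rw [if_neg (lt_irrefl _), if_pos rfl, CharTwo.add_self_eq_zero, IsAltForm.diag hw.2 a' ha]
      · rw [if_neg (not_lt_of_gt hab), if_neg (ne_of_gt hab), if_pos hab, zero_add]
        have := IsAltForm.skew hw.2 a' b' ha hb (ne_of_gt hab)
        have h3 : wN F (d k) a' b' = - wN F (d k) b' a' := eq_neg_of_add_eq_zero_left this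
        rw [h3, CharTwo.neg_eq]
    · rw [if_neg (ne_of_gt h), if_neg (not_lt_of_gt h), zero_add, if_neg (ne_of_lt h), if_pos h,
        if_neg (ne_of_lt h), if_neg (not_lt_of_gt h), hπd]
  · rw [if_neg hl, if_neg, if_neg hl, add_zero]
    intro h
    apply hl
    rw [h, hπ2]

end Cfsg.Agent.Lib.Helper16.JQ
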