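import Cfsg.Agent.Lib.Helper16.JQ2

set_option autoImplicit false

namespace Cfsg.Agent.Lib.Helper16.JQ

open Matrix Module Cfsg.Agent.Lib.Helper16.JC Cfsg.Agent.Lib.Helper16.JS Cfsg.Agent.Lib.Helper16.JO

universe u

variable {F : Type u} [Field F] {t : ℕ}

/-- the quadratic form on the index space -/
noncomputable def Q0 (F : Type u) [Field F] (d : Fin t → ℕ) (π : Fin t → Fin t) :
    QuadraticForm F (Idx d → F) :=
  LinearMap.BilinMap.toQuadraticMap (Matrix.toBilin' (Zm F d π))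

theorem Q0_apply (d : Fin t → ℕ) (π : Fin t → Fin t) (v : Idx d → F) :
    Q0 F d π v = v ⬝ᵥ Zm F d π *ᵥ v := by
  unfold Q0
  rw [LinearMap.BilinMap.toQuadraticMap_apply, Matrix.toBilin'_apply']

theorem Q0_polar (d : Fin t → ℕ) (π : Fin t → Fin t) (x y : Idx d → F) :
    QuadraticMap.polar (Q0 F d π) x y = x ⬝ᵥ (Zm F d π + (Zm F d π)ᵀ) *ᵥ y := by
  unfold QuadraticMap.polar
  rw [Q0_apply, Q0_apply, Q0_apply, Matrix.add_mulVec, Matrix.mulVec_add, dotProduct_add,
    add_dotProduct, add_dotProduct, dotProduct_add]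
  have h1 : x ⬝ᵥ (Zm F d π)ᵀ *ᵥ y = y ⬝ᵥ Zm F d π *ᵥ x := by
    rw [Matrix.mulVec_transpose, dotProduct_comm, ← Matrix.dotProduct_mulVec]
  rw [h1]
  ring

theorem Nm_mulVec_single (d : Fin t → ℕ) (k : Fin t) (a : Fin (d k)) :
    Nm d F *ᵥ Pi.single (⟨k, a⟩ : Idx d) 1 =
      if h : a.val + 1 < d k then Pi.single (⟨k, ⟨a.val + 1, h⟩⟩ : Idx d) 1 else 0 := by
  rw [Matrix.mulVec_single_one]
  ext y
  rw [Matrix.col_apply, Nm_apply]
  by_cases h : a.val + 1 < d k
  · rw [dif_pos h]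
    by_cases hy : y = ⟨k, ⟨a.val + 1, h⟩⟩
    · rw [hy, Pi.single_eq_same, if_pos ⟨rfl, rfl⟩]
    · rw [Pi.single_eq_of_ne hy, if_neg]
      intro hh
      exact hy ((idx_eq_iff d y k _ h).mp hh)
  · rw [dif_neg h, if_neg]
    · rfl
    · rintro ⟨h1, h2⟩
      apply h
      have := y.2.isLt
      simp only at h1 h2
      rw [← h2, ← h1]
      exact this

theorem Q0_single (d : Fin t → ℕ) (π : Fin t → Fin t) (x : Idx d) :
    Q0 F d π (Pi.single x 1) = Zm F d π x x := by
  rw [Q0_apply, single_one_dotProduct, Matrix.mulVec_single_one]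
  rfl

theorem Q0_invariant [CharP F 2] (d : Fin t → ℕ) (hd : ∀ k, 1 ≤ d k) (π : Fin t → Fin t)
    (hπ2 : ∀ k, π (π k) = k) (hπd : ∀ k, d (π k) = d k) (hfix : ∀ k, π k = k → Even (d k))
    (v : Idx d → F) : Q0 F d π (Cfsg.jordanTypeMatrix d F *ᵥ v) = Q0 F d π v := by
  set J := Cfsg.jordanTypeMatrix d F with hJ
  set Ω := OmG d π (g2 F d π) with hΩ
  have hZ : Zm F d π + (Zm F d π)ᵀ = Ω := Zm_add_transpose d hd π hπ2 hπd hfix
  have hΩinv : Jᵀ * Ω * J = Ω := OmG_invariant d π _ hπd (g2_inv d hd π hfix)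
  have hpol : ∀ x y, QuadraticMap.polar (Q0 F d π) x y = x ⬝ᵥ Ω *ᵥ y := by
    intro x y
    rw [Q0_polar, hZ]
  have hpolJ : ∀ x y, QuadraticMap.polar (Q0 F d π) (J *ᵥ x) (J *ᵥ y) =
      QuadraticMap.polar (Q0 F d π) x y := by
    intro x y
    rw [hpol, hpol, Matrix.mulVec_mulVec, ← Matrix.vecMul_transpose, ← Matrix.dotProduct_mulVec,
      Matrix.mulVec_mulVec, ← mul_assoc, hΩinv]
  set δ : (Idx d → F) → F := fun w => Q0 F d π (J *ᵥ w) - Q0 F d π w with hδ
  have hadd : ∀ x y, δ (x + y) = δ x + δ y := by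
    intro x y
    simp only [hδ]
    rw [Matrix.mulVec_add, QuadraticMap.map_add (Q0 F d π) (J *ᵥ x) (J *ᵥ y),
      QuadraticMap.map_add (Q0 F d π) x y, hpolJ]
    ring
  have hsmul : ∀ (c : F) (x : Idx d → F), δ (c • x) = c * c * δ x := by
    intro c x
    simp only [hδ]
    rw [Matrix.mulVec_smul, QuadraticMap.map_smul, QuadraticMap.map_smul, smul_eq_mul, smul_eq_mul]
    ring
  have hbasis : ∀ x : Idx d, δ (Pi.single x 1) = 0 := by
    rintro ⟨k, a⟩
    simp only [hδ]
    rw [hJ, jordan_eq, Matrix.add_mulVec, Matrix.one_mulVec, Nm_mulVec_single]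
    by_cases h : a.val + 1 < d k
    · rw [dif_pos h, QuadraticMap.map_add (Q0 F d π), hpol]
      have hre : ∀ p q r : F, p + q + r - p = q + r := by intro p q r; ring
      rw [hre, Q0_single,
        Matrix.mulVec_single_one, single_one_dotProduct, Matrix.col_apply, Zm_apply, hΩ, OmG_apply]
      simp only
      by_cases hk : k = π k
      · rw [if_pos hk, if_pos trivial, if_pos hk]
        unfold zN g2
        rw [if_neg (lt_irrefl _), if_pos rfl, if_pos hk.symm]
        unfold qN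
        rw [if_neg (by omega)]
        have : a.val + 1 - 1 = a.val := by omega
        rw [this]
        exact CharTwo.add_self_eq_zero _
      · rw [if_neg hk, if_neg hk, add_zero]
    · rw [dif_neg h, add_zero, sub_self]
  let δhom : (Idx d → F) →+ F := AddMonoidHom.mk' δ hadd
  have hδv : δ v = 0 := by
    have h1 : v = ∑ x, Pi.single x (v x) := (Finset.univ_sum_single v).symm
    have h2 : δ v = δhom v := rfl
    rw [h2, h1, map_sum]
    apply Finset.sum_eq_zero
    intro x _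
    have h3 : (Pi.single x (v x) : Idx d → F) = v x • Pi.single x 1 := by
      ext y
      by_cases hy : y = x
      · rw [hy, Pi.single_eq_same, Pi.smul_apply, Pi.single_eq_same, smul_eq_mul, mul_one]
      · rw [Pi.single_eq_of_ne hy, Pi.smul_apply, Pi.single_eq_of_ne hy, smul_zero]
    show δ (Pi.single x (v x)) = 0
    rw [h3, hsmul, hbasis, mul_zero]
  exact sub_eq_zero.mp hδv

end Cfsg.Agent.Lib.Helper16.JQ
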