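import Cfsg.Agent.Lib.Helper16.JQ3

set_option autoImplicit false

namespace Cfsg.Agent.Lib.Helper16.JQ

open Matrix Module Cfsg.Agent.Lib.Helper16.JC Cfsg.Agent.Lib.Helper16.JS Cfsg.Agent.Lib.Helper16.JO

universe u

variable {F : Type u} [Field F] {t : ℕ}

/-- Sufficiency for orthogonal groups in characteristic two. -/
theorem orth2_sufficient [CharP F 2] {n : ℕ} (d : Fin t → ℕ) (hd : ∀ k, 1 ≤ d k)
    (hsum : ∑ k, d k = n) (hpar : ∀ j : ℕ, Odd j → Even (mult d j)) :
    ∃ Q : QuadraticForm F (Fin n → F), (QuadraticMap.polarBilin Q).Nondegenerate ∧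
      ∃ e : Idx d ≃ Fin n, ∃ A : ↥(Cfsg.isometryGroup F ⇑Q),
        IsConj (Matrix.reindex e e (Cfsg.jordanTypeMatrix d F))
          ((A : Matrix.GeneralLinearGroup (Fin n) F) : Matrix (Fin n) (Fin n) F) := by
  obtain ⟨π, hπ2, hπd, hπfix⟩ := exists_pairing d hpar
  have hfix : ∀ k, π k = k → Even (d k) := fun k h => (hπfix k).mp h
  have hg : ∀ k, IsInvForm (d k) (g2 F d π k) := g2_inv d hd π hfix
  set Ω := OmG d π (g2 F d π) with hΩ
  have hZ : Zm F d π + (Zm F d π)ᵀ = Ω := Zm_add_transpose d hd π hπ2 hπd hfix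
  have hΩdet : Ω.det ≠ 0 := OmG_det d π _ hπ2 hπd hg
  have hΩinv : (Cfsg.jordanTypeMatrix d F)ᵀ * Ω * Cfsg.jordanTypeMatrix d F = Ω :=
    OmG_invariant d π _ hπd hg
  have hcard : Fintype.card (Idx d) = Fintype.card (Fin n) := by
    rw [card_Idx, hsum, Fintype.card_fin]
  let e : Idx d ≃ Fin n := Fintype.equivOfCardEq hcard
  set Ω' := Matrix.reindex e e Ω with hΩ'
  set J' := Matrix.reindex e e (Cfsg.jordanTypeMatrix d F) with hJ'
  have hΩ'det : Ω'.det ≠ 0 := by
    rw [hΩ', Matrix.det_reindex_self]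
    exact hΩdet
  have hpres : J'ᵀ * Ω' * J' = Ω' := by
    rw [hJ', hΩ', Matrix.transpose_reindex]
    simp only [Matrix.reindex_apply, Matrix.submatrix_mul_equiv]
    rw [hΩinv]
  have hJ'det : J'.det ≠ 0 := by
    intro h0
    have := congrArg Matrix.det hpres
    rw [Matrix.det_mul, Matrix.det_mul, h0, mul_zero] at this
    exact hΩ'det this.symm
  set Q : QuadraticForm F (Fin n → F) := (Q0 F d π).comp (LinearMap.funLeft F F e) with hQ
  have hQapp : ∀ x : Fin n → F, Q x = Q0 F d π (x ∘ e) := by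
    intro x
    rw [hQ, QuadraticMap.comp_apply]
    rfl
  have hpolar : QuadraticMap.polarBilin Q = Matrix.toBilin' Ω' := by
    apply LinearMap.ext
    intro x
    apply LinearMap.ext
    intro y
    rw [QuadraticMap.polarBilin_apply_apply, Matrix.toBilin'_apply']
    unfold QuadraticMap.polar
    rw [hQapp, hQapp, hQapp]
    have h1 : (x + y) ∘ e = x ∘ e + y ∘ e := rfl
    rw [h1]
    have h2 := Q0_polar (F := F) d π (x ∘ e) (y ∘ e)
    unfold QuadraticMap.polar at h2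
    rw [h2, hZ, hΩ', Matrix.reindex_apply, Matrix.submatrix_mulVec_equiv, dotProduct_comp_equiv_symm,
      Equiv.symm_symm]
  refine ⟨Q, ?_, e, ?_⟩
  · rw [hpolar]
    exact LinearMap.BilinForm.nondegenerate_toBilin'_of_det_ne_zero' Ω' hΩ'det
  · have hmem : Matrix.GeneralLinearGroup.mkOfDetNeZero J' hJ'det ∈ Cfsg.isometryGroup F ⇑Q := by
      intro x _
      show Q (J' *ᵥ x) = Q x
      rw [hQapp, hQapp]
      have h3 : (J' *ᵥ x) ∘ e = Cfsg.jordanTypeMatrix d F *ᵥ (x ∘ e) := by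
        rw [hJ', Matrix.reindex_apply, Matrix.submatrix_mulVec_equiv, Equiv.symm_symm]
        ext i
        simp
      rw [h3]
      exact Q0_invariant d hd π hπ2 hπd hfix (x ∘ e)
    refine ⟨⟨Matrix.GeneralLinearGroup.mkOfDetNeZero J' hJ'det, hmem⟩, ?_⟩
    exact IsConj.refl _

theorem S2584_aux [CharP F 2] {m : ℕ} (d : Fin t → ℕ) (hd : ∀ k, 1 ≤ d k) (hsum : ∑ k, d k = 2 * m) :
    (∃ Q : QuadraticForm F (Fin (2 * m) → F), (QuadraticMap.polarBilin Q).Nondegenerate ∧
      ∃ e : ((k : Fin t) × Fin (d k)) ≃ Fin (2 * m), ∃ A : ↥(Cfsg.isometryGroup F ⇑Q),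
        IsConj (Matrix.reindex e e (Cfsg.jordanTypeMatrix d F))
          ((A : Matrix.GeneralLinearGroup (Fin (2 * m)) F) : Matrix (Fin (2 * m)) (Fin (2 * m)) F)) ↔
      ∀ j : ℕ, Odd j → Even (Finset.univ.filter (fun k : Fin t => d k = j)).card := by
  constructor
  · rintro ⟨Q, hQ, e, A, h⟩
    exact orth2_necessary d Q hQ e A h
  · intro h
    exact orth2_sufficient d hd hsum h

end Cfsg.Agent.Lib.Helper16.JQ
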