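import Cfsg.Agent.Lib.Helper16.PG20

set_option autoImplicit false

namespace Cfsg.Agent.Lib.Helper16.JS

open Matrix Module

universe u

variable {F : Type u} [Field F]

/-- An alternating matrix has even rank. -/
theorem even_rank_of_alt {n : Type} [Fintype n] [DecidableEq n] (M : Matrix n n F)
    (hM : ∀ v : n → F, v ⬝ᵥ M *ᵥ v = 0) : Even M.rank := by
  set B : LinearMap.BilinForm F (n → F) := Matrix.toBilin' M with hB
  have hBapp : ∀ v w, B v w = v ⬝ᵥ M *ᵥ w := by
    intro v w
    rw [hB, Matrix.toBilin'_apply']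
  have hBalt : B.IsAlt := by
    intro v
    rw [hBapp]; exact hM v
  set K : Submodule F (n → F) := LinearMap.ker (Matrix.toLin' M) with hK
  obtain ⟨W, hW⟩ := Submodule.exists_isCompl K
  have hKmem : ∀ w, w ∈ K ↔ M *ᵥ w = 0 := by
    intro w
    rw [hK, LinearMap.mem_ker, Matrix.toLin'_apply]
  have hrank : M.rank = finrank F W := by
    have h1 := LinearMap.finrank_range_add_finrank_ker (Matrix.toLin' M)
    have h2 := Submodule.finrank_add_eq_of_isCompl hW
    have h3 : M.rank = finrank F (LinearMap.range (Matrix.toLin' M)) := by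
      unfold Matrix.rank
      rw [Matrix.toLin'_apply']
    have h4 : finrank F (n → F) = finrank F K + finrank F W := h2.symm
    have h5 : finrank F (n → F) = finrank F (LinearMap.range (Matrix.toLin' M)) + finrank F K := h1.symm
    rw [h3]
    omega
  rw [hrank]
  have hleft : ∀ x : W, (∀ y : W, B x y = 0) → x = 0 := by
    intro x hx
    have h1 : ∀ v : n → F, B x v = 0 := by
      intro v
      have hv : v ∈ K ⊔ W := by rw [hW.sup_eq_top]; exact Submodule.mem_top
      obtain ⟨κ, hκ, w, hw, rfl⟩ := Submodule.mem_sup.mp hv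
      rw [map_add, hx ⟨w, hw⟩, add_zero, hBapp, (hKmem κ).mp hκ, dotProduct_zero]
    have h2 : (x : n → F) ∈ K := by
      rw [hKmem]
      ext i
      have h3 := h1 (Pi.single i 1)
      rw [← hBalt.neg_eq, neg_eq_zero, hBapp] at h3
      simpa using h3
    have h3 : (x : n → F) ∈ K ⊓ W := ⟨h2, x.2⟩
    rw [hW.inf_eq_bot, Submodule.mem_bot] at h3
    exact Subtype.ext h3
  have hnd : (B.restrict W).Nondegenerate := by
    constructor
    · intro x hx
      exact hleft x hx
    · intro y hy
      apply hleft y
      intro x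
      have := hy x
      have h4 : B (x : n → F) (y : n → F) = 0 := this
      rw [← hBalt.neg_eq, h4, neg_zero]
  have halt : (B.restrict W).IsAlt := fun x => hBalt (x : n → F)
  exact Cfsg.Agent.Lib.Helper16.PG.alt_even_finrank (finrank F W) rfl (B.restrict W) halt hnd

end Cfsg.Agent.Lib.Helper16.JS
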