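import Cfsg.Agent.Lib.Helper16.JS9

set_option autoImplicit false

namespace Cfsg.Agent.Lib.Helper16.JS

open Matrix Module

universe u

variable {F : Type u} [Field F]

/-- ℕ-indexed extension of a square matrix -/
def fN (n : ℕ) (S : Matrix (Fin n) (Fin n) F) : ℕ → ℕ → F :=
  fun a b => if h : a < n ∧ b < n then S ⟨a, h.1⟩ ⟨b, h.2⟩ else 0

theorem fN_of_lt (n : ℕ) (S : Matrix (Fin n) (Fin n) F) (a b : ℕ) (ha : a < n) (hb : b < n) :
    fN n S a b = S ⟨a, ha⟩ ⟨b, hb⟩ := by
  unfold fN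
  rw [dif_pos ⟨ha, hb⟩]

theorem fN_of_not (n : ℕ) (S : Matrix (Fin n) (Fin n) F) (a b : ℕ) (h : ¬ (a < n ∧ b < n)) :
    fN n S a b = 0 := by
  unfold fN
  rw [dif_neg h]

/-- properties of an invariant non-degenerate form, in ℕ-indexed shape -/
structure IsInvForm (n : ℕ) (f : ℕ → ℕ → F) : Prop where
  supp : ∀ a b, ¬ (a < n ∧ b < n) → f a b = 0
  recur : ∀ a b, f (a + 1) b + f a (b + 1) + f (a + 1) (b + 1) = 0
  nondegL : ∀ x : ℕ → F, (∀ a, a < n → ∑ b ∈ Finset.range n, f a b * x b = 0) → ∀ b, b < n → x b = 0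
  nondegR : ∀ x : ℕ → F, (∀ b, b < n → ∑ a ∈ Finset.range n, x a * f a b = 0) → ∀ a, a < n → x a = 0

theorem LmT_mul (n : ℕ) {κ : Type*} [Fintype κ] (X : Matrix (Fin n) κ F) (i : Fin n) (j : κ) :
    ((Lm n F)ᵀ * X) i j = if h : i.val + 1 < n then X ⟨i.val + 1, h⟩ j else 0 := by
  have h1 : (Lm n F)ᵀ * X = (Xᵀ * Lm n F)ᵀ := by
    rw [Matrix.transpose_mul, Matrix.transpose_transpose]
  rw [h1, Matrix.transpose_apply, mul_Lm]
  rfl

theorem isInvForm_of_matrix (n : ℕ) (S : Matrix (Fin n) (Fin n) F) (hS : S.det ≠ 0)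
    (hinv : (Cfsg.jordanBlock n F)ᵀ * S * Cfsg.jordanBlock n F = S) : IsInvForm n (fN n S) := by
  have hrel : (Lm n F)ᵀ * S + S * Lm n F + (Lm n F)ᵀ * (S * Lm n F) = 0 := by
    rw [jordanBlock_eq, Matrix.transpose_add, Matrix.transpose_one] at hinv
    have : (1 + (Lm n F)ᵀ) * S * (1 + Lm n F) =
        S + ((Lm n F)ᵀ * S + S * Lm n F + (Lm n F)ᵀ * (S * Lm n F)) := by
      simp only [add_mul, mul_add, one_mul, mul_one, mul_assoc]
      abel
    rw [this] at hinv
    exact add_eq_left.mp hinv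
  refine ⟨fun a b h => fN_of_not n S a b h, ?_, ?_, ?_⟩
  · intro a b
    by_cases hab : a < n ∧ b < n
    · obtain ⟨ha, hb⟩ := hab
      have h1 := congrFun (congrFun hrel ⟨a, ha⟩) ⟨b, hb⟩
      rw [Matrix.add_apply, Matrix.add_apply, LmT_mul, LmT_mul, mul_Lm, Matrix.zero_apply] at h1
      simp only at h1
      have e1 : fN n S (a + 1) b = if h : a + 1 < n then S ⟨a + 1, h⟩ ⟨b, hb⟩ else 0 := by
        by_cases h : a + 1 < n
        · rw [dif_pos h, fN_of_lt n S _ _ h hb]
        · rw [dif_neg h, fN_of_not]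
          omega
      have e2 : fN n S a (b + 1) = if h : b + 1 < n then S ⟨a, ha⟩ ⟨b + 1, h⟩ else 0 := by
        by_cases h : b + 1 < n
        · rw [dif_pos h, fN_of_lt n S _ _ ha h]
        · rw [dif_neg h, fN_of_not]
          omega
      have e3 : fN n S (a + 1) (b + 1) =
          if h : a + 1 < n then (S * Lm n F) ⟨a + 1, h⟩ ⟨b, hb⟩ else 0 := by
        by_cases h : a + 1 < n
        · rw [dif_pos h, mul_Lm]
          simp only
          by_cases h' : b + 1 < n
          · rw [dif_pos h', fN_of_lt n S _ _ h h']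
          · rw [dif_neg h', fN_of_not]
            omega
        · rw [dif_neg h, fN_of_not]
          omega
      rw [e1, e2, e3]
      exact h1
    · rw [fN_of_not n S (a + 1) b (by omega), fN_of_not n S a (b + 1) (by omega),
        fN_of_not n S (a + 1) (b + 1) (by omega)]
      simp
  · intro x hx b hb
    have h1 : S *ᵥ (fun b : Fin n => x b.val) = 0 := by
      ext a
      rw [Matrix.mulVec, dotProduct, Pi.zero_apply, ← hx a.val a.isLt,
        ← Fin.sum_univ_eq_sum_range (fun b => fN n S a.val b * x b)]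
      apply Finset.sum_congr rfl
      intro b _
      rw [fN_of_lt n S _ _ a.isLt b.isLt]
    have h2 := Matrix.eq_zero_of_mulVec_eq_zero hS h1
    exact congrFun h2 ⟨b, hb⟩
  · intro x hx a ha
    have h1 : (fun a : Fin n => x a.val) ᵥ* S = 0 := by
      ext b
      rw [Matrix.vecMul, dotProduct, Pi.zero_apply, ← hx b.val b.isLt,
        ← Fin.sum_univ_eq_sum_range (fun a => x a * fN n S a b.val)]
      apply Finset.sum_congr rfl
      intro a _
      rw [fN_of_lt n S _ _ a.isLt b.isLt]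
    have h2 := Matrix.eq_zero_of_vecMul_eq_zero hS h1
    exact congrFun h2 ⟨a, ha⟩

/-- alternating, in ℕ-indexed shape -/
def IsAltForm (n : ℕ) (f : ℕ → ℕ → F) : Prop :=
  ∀ x : ℕ → F, ∑ a ∈ Finset.range n, ∑ b ∈ Finset.range n, x a * f a b * x b = 0

theorem isAltForm_of_matrix (n : ℕ) (S : Matrix (Fin n) (Fin n) F)
    (halt : ∀ v : Fin n → F, v ⬝ᵥ S *ᵥ v = 0) : IsAltForm n (fN n S) := by
  intro x
  have h := halt (fun a : Fin n => x a.val)
  rw [← h, dotProduct, ← Fin.sum_univ_eq_sum_range (fun a => ∑ b ∈ Finset.range n, x a * fN n S a b * x b)]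
  apply Finset.sum_congr rfl
  intro a _
  rw [Matrix.mulVec, dotProduct, Finset.mul_sum,
    ← Fin.sum_univ_eq_sum_range (fun b => x a.val * fN n S a.val b * x b)]
  apply Finset.sum_congr rfl
  intro b _
  rw [fN_of_lt n S _ _ a.isLt b.isLt, mul_assoc]

/-- chosen pairing forms -/
noncomputable def sN (F : Type u) [Field F] (n : ℕ) : ℕ → ℕ → F :=
  if h : 1 ≤ n then fN n (Classical.choose (exists_pair_form (F := F) n h)) else fun _ _ => 0

theorem sN_spec (n : ℕ) (hn : 1 ≤ n) : IsInvForm n (sN F n) := by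
  unfold sN
  rw [dif_pos hn]
  have h := Classical.choose_spec (exists_pair_form (F := F) n hn)
  exact isInvForm_of_matrix n _ h.1 h.2

/-- chosen alternating forms on even blocks -/
noncomputable def wN (F : Type u) [Field F] (n : ℕ) : ℕ → ℕ → F :=
  if h : 1 ≤ n / 2 then fN (n / 2 + n / 2) (Classical.choose (exists_even_form (F := F) (n / 2) h))
  else fun _ _ => 0

theorem wN_spec (n : ℕ) (hn : 1 ≤ n) (he : Even n) : IsInvForm n (wN F n) ∧ IsAltForm n (wN F n) := by
  have h2 : 1 ≤ n / 2 := by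
    obtain ⟨r, hr⟩ := he
    omega
  have h3 : n / 2 + n / 2 = n := by
    obtain ⟨r, hr⟩ := he
    omega
  unfold wN
  rw [dif_pos h2]
  have h := Classical.choose_spec (exists_even_form (F := F) (n / 2) h2)
  have h4 := isInvForm_of_matrix (n / 2 + n / 2) _ h.2.1 h.2.2
  have h5 := isAltForm_of_matrix (n / 2 + n / 2) _ h.1
  generalize fN (n / 2 + n / 2) (Classical.choose (exists_even_form (F := F) (n / 2) h2)) = g at h4 h5 ⊢
  rw [h3] at h4 h5
  exact ⟨h4, h5⟩

end Cfsg.Agent.Lib.Helper16.JS
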