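import Cfsg.Agent.Lib.Helper16.JS10

set_option autoImplicit false

namespace Cfsg.Agent.Lib.Helper16.JS

open Cfsg.Agent.Lib.Helper16.JC

/-- a finite type of even cardinality has a fixed-point-free involution -/
theorem exists_fpf_involution (α : Type) [Fintype α] (h : Even (Fintype.card α)) :
    ∃ σ : α → α, (∀ x, σ (σ x) = x) ∧ ∀ x, σ x ≠ x := by
  obtain ⟨r, hr⟩ := h
  let e : α ≃ Fin r ⊕ Fin r := (Fintype.equivFinOfCardEq hr).trans finSumFinEquiv.symm
  refine ⟨fun x => e.symm (Sum.swap (e x)), ?_, ?_⟩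
  · intro x
    simp
  · intro x hx
    have h1 : Sum.swap (e x) = e x := by
      have := congrArg e hx
      simpa using this
    rcases hex : e x with a | a
    · rw [hex] at h1
      simp at h1
    · rw [hex] at h1
      simp at h1

/-- The pairing involution on the blocks. -/
theorem exists_pairing {t : ℕ} (d : Fin t → ℕ) (hpar : ∀ j : ℕ, Odd j → Even (mult d j)) :
    ∃ π : Fin t → Fin t, (∀ k, π (π k) = k) ∧ (∀ k, d (π k) = d k) ∧ ∀ k, π k = k ↔ Even (d k) := by
  classical
  have hex : ∀ j : ℕ, ∃ σ : {k : Fin t // d k = j} → {k : Fin t // d k = j},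
      Odd j → (∀ x, σ (σ x) = x) ∧ ∀ x, σ x ≠ x := by
    intro j
    by_cases hj : Odd j
    · have hc : Even (Fintype.card {k : Fin t // d k = j}) := by
        rw [Fintype.card_subtype]
        exact hpar j hj
      obtain ⟨σ, h1, h2⟩ := exists_fpf_involution _ hc
      exact ⟨σ, fun _ => ⟨h1, h2⟩⟩
    · exact ⟨id, fun h => absurd h hj⟩
  choose σ hσ using hex
  have hval : ∀ (j : ℕ) (x : {k : Fin t // d k = j}), (σ (d x.val) ⟨x.val, rfl⟩).val = (σ j x).val := by
    intro j x
    obtain ⟨k, rfl⟩ := x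
    rfl
  let π : Fin t → Fin t := fun k => if Even (d k) then k else (σ (d k) ⟨k, rfl⟩).val
  have hπe : ∀ k, Even (d k) → π k = k := fun k h => if_pos h
  have hπo : ∀ k, ¬ Even (d k) → π k = (σ (d k) ⟨k, rfl⟩).val := fun k h => if_neg h
  refine ⟨π, ?_, ?_, ?_⟩
  · intro k
    by_cases he : Even (d k)
    · rw [hπe k he, hπe k he]
    · have ho : Odd (d k) := Nat.not_even_iff_odd.mp he
      have hd' : d (σ (d k) ⟨k, rfl⟩).val = d k := (σ (d k) ⟨k, rfl⟩).property
      have he' : ¬ Even (d (σ (d k) ⟨k, rfl⟩).val) := by rw [hd']; exact he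
      rw [hπo k he, hπo _ he', hval (d k) (σ (d k) ⟨k, rfl⟩), (hσ (d k) ho).1]
  · intro k
    by_cases he : Even (d k)
    · rw [hπe k he]
    · rw [hπo k he]
      exact (σ (d k) ⟨k, rfl⟩).property
  · intro k
    constructor
    · intro h
      by_contra he
      have ho : Odd (d k) := Nat.not_even_iff_odd.mp he
      rw [hπo k he] at h
      apply (hσ (d k) ho).2 ⟨k, rfl⟩
      exact Subtype.ext h
    · intro he
      exact hπe k he

end Cfsg.Agent.Lib.Helper16.JS
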