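import Cfsg.Agent.Lib.Helper16.JS11

set_option autoImplicit false

namespace Cfsg.Agent.Lib.Helper16.JS

open Matrix Module Cfsg.Agent.Lib.Helper16.JC

universe u

variable {F : Type u} [Field F] {t : ℕ}

theorem IsInvForm.negT {n : ℕ} {f : ℕ → ℕ → F} (h : IsInvForm n f) :
    IsInvForm n (fun a b => - f b a) := by
  refine ⟨?_, ?_, ?_, ?_⟩
  · intro a b hab
    rw [h.supp b a (by omega), neg_zero]
  · intro a b
    have := h.recur b a
    linear_combination -this
  · intro x hx b hb
    apply h.nondegR x _ b hb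
    intro a ha
    have := hx a ha
    rw [← neg_eq_zero, ← Finset.sum_neg_distrib]
    rw [← this]
    apply Finset.sum_congr rfl
    intro c _
    ring
  · intro x hx a ha
    apply h.nondegL x _ a ha
    intro b hb
    have := hx b hb
    rw [← neg_eq_zero, ← Finset.sum_neg_distrib]
    rw [← this]
    apply Finset.sum_congr rfl
    intro c _
    ring

/-- the block functions of the global form -/
noncomputable def gB (F : Type u) [Field F] (d : Fin t → ℕ) (k l : Fin t) : ℕ → ℕ → F :=
  if k = l then wN F (d k) else if k < l then sN F (d k) else fun a b => - sN F (d k) b a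

theorem gB_self (d : Fin t → ℕ) (k : Fin t) : gB F d k k = wN F (d k) := by
  unfold gB
  rw [if_pos rfl]

theorem gB_lt (d : Fin t → ℕ) (k l : Fin t) (h : k < l) : gB F d k l = sN F (d k) := by
  unfold gB
  rw [if_neg (ne_of_lt h), if_pos h]

theorem gB_gt (d : Fin t → ℕ) (k l : Fin t) (h : l < k) :
    gB F d k l = fun a b => - sN F (d k) b a := by
  unfold gB
  rw [if_neg (ne_of_gt h), if_neg (not_lt_of_gt h)]

theorem gB_inv (d : Fin t → ℕ) (hd : ∀ k, 1 ≤ d k) (π : Fin t → Fin t)
    (hfix : ∀ k, π k = k → Even (d k)) (k : Fin t) : IsInvForm (d k) (gB F d k (π k)) := by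
  rcases lt_trichotomy k (π k) with h | h | h
  · rw [gB_lt d k _ h]
    exact sN_spec (d k) (hd k)
  · rw [← h, gB_self]
    exact (wN_spec (d k) (hd k) (hfix k h.symm)).1
  · rw [gB_gt d k _ h]
    exact (sN_spec (d k) (hd k)).negT

/-- The global form. -/
noncomputable def Om (F : Type u) [Field F] (d : Fin t → ℕ) (π : Fin t → Fin t) :
    Matrix (Idx d) (Idx d) F :=
  Matrix.of fun x y => if y.1 = π x.1 then gB F d x.1 y.1 x.2.val y.2.val else 0

theorem Om_apply (d : Fin t → ℕ) (π : Fin t → Fin t) (x y : Idx d) :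
    Om F d π x y = if y.1 = π x.1 then gB F d x.1 y.1 x.2.val y.2.val else 0 := rfl

theorem NmT_mul (d : Fin t → ℕ) (X : Matrix (Idx d) (Idx d) F) (k : Fin t) (i : Fin (d k)) (y : Idx d) :
    ((Nm d F)ᵀ * X) ⟨k, i⟩ y = if h : i.val + 1 < d k then X ⟨k, ⟨i.val + 1, h⟩⟩ y else 0 := by
  have h1 : (Nm d F)ᵀ * X = (Xᵀ * Nm d F)ᵀ := by
    rw [Matrix.transpose_mul, Matrix.transpose_transpose]
  rw [h1, Matrix.transpose_apply, mul_Nm]
  rfl

/-- invariance of the global form under the Jordan matrix -/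
theorem Om_invariant (d : Fin t → ℕ) (hd : ∀ k, 1 ≤ d k) (π : Fin t → Fin t)
    (hπd : ∀ k, d (π k) = d k) (hfix : ∀ k, π k = k → Even (d k)) :
    (Cfsg.jordanTypeMatrix d F)ᵀ * Om F d π * Cfsg.jordanTypeMatrix d F = Om F d π := by
  rw [jordan_eq, Matrix.transpose_add, Matrix.transpose_one]
  have hrel : (Nm d F)ᵀ * Om F d π + Om F d π * Nm d F + (Nm d F)ᵀ * (Om F d π * Nm d F) = 0 := by
    ext ⟨k, i⟩ ⟨l, j⟩
    rw [Matrix.add_apply, Matrix.add_apply, NmT_mul, NmT_mul, mul_Nm, Matrix.zero_apply]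
    by_cases hl : l = π k
    · subst hl
      have hg := gB_inv (F := F) d hd π hfix k
      have hdl : d (π k) = d k := hπd k
      have e1 : (if h : i.val + 1 < d k then Om F d π ⟨k, ⟨i.val + 1, h⟩⟩ ⟨π k, j⟩ else 0) =
          gB F d k (π k) (i.val + 1) j.val := by
        by_cases h : i.val + 1 < d k
        · rw [dif_pos h, Om_apply, if_pos rfl]
        · rw [dif_neg h, hg.supp _ _ (by omega)]
      have e2 : (if h : j.val + 1 < d (π k) then Om F d π ⟨k, i⟩ ⟨π k, ⟨j.val + 1, h⟩⟩ else 0) =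
          gB F d k (π k) i.val (j.val + 1) := by
        by_cases h : j.val + 1 < d (π k)
        · rw [dif_pos h, Om_apply, if_pos rfl]
        · rw [dif_neg h, hg.supp _ _ (by omega)]
      have e3 : (if h : i.val + 1 < d k then (Om F d π * Nm d F) ⟨k, ⟨i.val + 1, h⟩⟩ ⟨π k, j⟩ else 0) =
          gB F d k (π k) (i.val + 1) (j.val + 1) := by
        by_cases h : i.val + 1 < d k
        · rw [dif_pos h, mul_Nm]
          by_cases h' : j.val + 1 < d (π k)
          · rw [dif_pos h', Om_apply, if_pos rfl]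
          · rw [dif_neg h', hg.supp _ _ (by omega)]
        · rw [dif_neg h, hg.supp _ _ (by omega)]
      rw [e1, e2, e3]
      exact hg.recur i.val j.val
    · have z1 : ∀ (a : Fin (d k)) (b : Fin (d l)), Om F d π ⟨k, a⟩ ⟨l, b⟩ = 0 := by
        intro a b
        rw [Om_apply, if_neg hl]
      have e1 : (if h : i.val + 1 < d k then Om F d π ⟨k, ⟨i.val + 1, h⟩⟩ ⟨l, j⟩ else 0) = 0 := by
        split_ifs
        · exact z1 _ _
        · rfl
      have e2 : (if h : j.val + 1 < d l then Om F d π ⟨k, i⟩ ⟨l, ⟨j.val + 1, h⟩⟩ else 0) = 0 := by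
        split_ifs
        · exact z1 _ _
        · rfl
      have e3 : (if h : i.val + 1 < d k then (Om F d π * Nm d F) ⟨k, ⟨i.val + 1, h⟩⟩ ⟨l, j⟩ else 0) = 0 := by
        split_ifs with h
        · rw [mul_Nm]
          split_ifs
          · exact z1 _ _
          · rfl
        · rfl
      rw [e1, e2, e3]
      simp
  have : (1 + (Nm d F)ᵀ) * Om F d π * (1 + Nm d F) =
      Om F d π + ((Nm d F)ᵀ * Om F d π + Om F d π * Nm d F + (Nm d F)ᵀ * (Om F d π * Nm d F)) := by
    simp only [add_mul, mul_add, one_mul, mul_one, mul_assoc]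
    abel
  rw [this, hrel, add_zero]

end Cfsg.Agent.Lib.Helper16.JS
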