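import Cfsg.Agent.Lib.Helper16.JS12

set_option autoImplicit false

namespace Cfsg.Agent.Lib.Helper16.JS

open Matrix Module Cfsg.Agent.Lib.Helper16.JC

universe u

variable {F : Type u} [Field F] {t : ℕ}

/-- ℕ-indexed coordinates of a vector -/
def vN (d : Fin t → ℕ) (v : Idx d → F) (k : Fin t) : ℕ → F :=
  fun a => if h : a < d k then v ⟨k, ⟨a, h⟩⟩ else 0

theorem vN_val (d : Fin t → ℕ) (v : Idx d → F) (k : Fin t) (a : Fin (d k)) :
    vN d v k a.val = v ⟨k, a⟩ := by
  unfold vN
  rw [dif_pos a.isLt]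

theorem Om_mulVec (d : Fin t → ℕ) (π : Fin t → Fin t) (v : Idx d → F) (k : Fin t) (a : Fin (d k)) :
    (Om F d π *ᵥ v) ⟨k, a⟩ =
      ∑ b ∈ Finset.range (d (π k)), gB F d k (π k) a.val b * vN d v (π k) b := by
  rw [Matrix.mulVec, dotProduct, Fintype.sum_sigma, Finset.sum_eq_single (π k)]
  · rw [← Fin.sum_univ_eq_sum_range (fun b => gB F d k (π k) a.val b * vN d v (π k) b)]
    apply Finset.sum_congr rfl
    intro b _
    rw [Om_apply, if_pos rfl, vN_val]
  · intro l _ hl
    apply Finset.sum_eq_zero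
    intro b _
    rw [Om_apply, if_neg hl, zero_mul]
  · intro hh
    exact absurd (Finset.mem_univ _) hh

theorem Om_det (d : Fin t → ℕ) (hd : ∀ k, 1 ≤ d k) (π : Fin t → Fin t) (hπ2 : ∀ k, π (π k) = k)
    (hπd : ∀ k, d (π k) = d k) (hfix : ∀ k, π k = k → Even (d k)) : (Om F d π).det ≠ 0 := by
  intro h0
  obtain ⟨v, hv0, hv⟩ := Matrix.exists_mulVec_eq_zero_iff.mpr h0
  apply hv0
  have key : ∀ k : Fin t, ∀ b, b < d k → vN d v (π k) b = 0 := by
    intro k
    apply (gB_inv (F := F) d hd π hfix k).nondegL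
    intro a ha
    have := congrFun hv ⟨k, ⟨a, ha⟩⟩
    rw [Om_mulVec, hπd] at this
    exact this
  ext ⟨l, b⟩
  have h1 := key (π l) b.val (by rw [hπd]; exact b.isLt)
  rw [hπ2] at h1
  rw [vN_val] at h1
  exact h1

theorem Om_alt (d : Fin t → ℕ) (hd : ∀ k, 1 ≤ d k) (π : Fin t → Fin t) (hπ2 : ∀ k, π (π k) = k)
    (hπd : ∀ k, d (π k) = d k) (hfix : ∀ k, π k = k → Even (d k)) (v : Idx d → F) :
    v ⬝ᵥ Om F d π *ᵥ v = 0 := by
  set G : Fin t → F := fun k => ∑ a ∈ Finset.range (d k), ∑ b ∈ Finset.range (d (π k)),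
    vN d v k a * gB F d k (π k) a b * vN d v (π k) b with hG
  have h1 : v ⬝ᵥ Om F d π *ᵥ v = ∑ k, G k := by
    rw [dotProduct, Fintype.sum_sigma]
    apply Finset.sum_congr rfl
    intro k _
    rw [hG]
    simp only
    rw [← Fin.sum_univ_eq_sum_range (fun a => ∑ b ∈ Finset.range (d (π k)),
      vN d v k a * gB F d k (π k) a b * vN d v (π k) b)]
    apply Finset.sum_congr rfl
    intro a _
    rw [Om_mulVec, Finset.mul_sum, vN_val]
    apply Finset.sum_congr rfl
    intro b _
    ring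
  rw [h1]
  -- the fixed blocks contribute zero
  have hGfix : ∀ k, π k = k → G k = 0 := by
    intro k hk
    rw [hG]
    simp only
    rw [hk, gB_self]
    exact (wN_spec (d k) (hd k) (hfix k hk)).2 (vN d v k)
  have hGlt : ∀ k, k < π k → G k + G (π k) = 0 := by
    intro k hk
    rw [hG]
    simp only
    rw [hπ2, gB_lt d k _ hk, gB_gt d (π k) k hk, hπd]
    rw [Finset.sum_comm (s := Finset.range (d k)) (t := Finset.range (d k))
      (f := fun a b => vN d v (π k) a * -sN F (d k) b a * vN d v k b)]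
    rw [← Finset.sum_add_distrib]
    apply Finset.sum_eq_zero
    intro a _
    rw [← Finset.sum_add_distrib]
    apply Finset.sum_eq_zero
    intro b _
    ring
  apply Finset.sum_involution (fun k _ => π k)
  · intro k _
    rcases lt_trichotomy k (π k) with h | h | h
    · exact hGlt k h
    · rw [← h, hGfix k h.symm, add_zero]
    · have := hGlt (π k) (by rw [hπ2]; exact h)
      rw [hπ2] at this
      rw [add_comm]
      exact this
  · intro k _ hk hfixk
    exact hk (hGfix k hfixk)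
  · intro k _
    exact Finset.mem_univ _
  · intro k _
    exact hπ2 k

end Cfsg.Agent.Lib.Helper16.JS
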