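import Cfsg.Agent.Lib.Helper16.JS13

set_option autoImplicit false

namespace Cfsg.Agent.Lib.Helper16.JS

open Matrix Module Cfsg.Agent.Lib.Helper16.JC

universe u

variable {F : Type u} [Field F] {t : ℕ}

theorem card_Idx (d : Fin t → ℕ) : Fintype.card (Idx d) = ∑ k, d k := by
  rw [Fintype.card_sigma]
  apply Finset.sum_congr rfl
  intro k _
  exact Fintype.card_fin _

theorem sp_sufficient {m : ℕ} (d : Fin t → ℕ) (hd : ∀ k, 1 ≤ d k) (hsum : ∑ k, d k = 2 * m)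
    (hpar : ∀ j : ℕ, Odd j → Even (mult d j)) :
    ∃ e : Idx d ≃ (Fin m ⊕ Fin m), ∃ A : Matrix.symplecticGroup (Fin m) F,
      IsConj (Matrix.reindex e e (Cfsg.jordanTypeMatrix d F))
        (A : Matrix (Fin m ⊕ Fin m) (Fin m ⊕ Fin m) F) := by
  obtain ⟨π, hπ2, hπd, hπfix⟩ := exists_pairing d hpar
  have hfix : ∀ k, π k = k → Even (d k) := fun k h => (hπfix k).mp h
  have hcard : Fintype.card (Idx d) = Fintype.card (Fin m ⊕ Fin m) := by
    rw [card_Idx, hsum, Fintype.card_sum, Fintype.card_fin]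
    omega
  let e : Idx d ≃ (Fin m ⊕ Fin m) := Fintype.equivOfCardEq hcard
  refine ⟨e, ?_⟩
  exact conj_sp_of_preserves e (Om F d π) (Cfsg.jordanTypeMatrix d F)
    (Om_alt d hd π hπ2 hπd hfix) (Om_det d hd π hπ2 hπd hfix) (Om_invariant d hd π hπd hfix)

theorem S2582_aux {m : ℕ} (d : Fin t → ℕ) (hd : ∀ k, 1 ≤ d k) (hsum : ∑ k, d k = 2 * m) :
    (∃ e : ((k : Fin t) × Fin (d k)) ≃ (Fin m ⊕ Fin m), ∃ A : Matrix.symplecticGroup (Fin m) F,
      IsConj (Matrix.reindex e e (Cfsg.jordanTypeMatrix d F))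
        (A : Matrix (Fin m ⊕ Fin m) (Fin m ⊕ Fin m) F)) ↔
      ∀ j : ℕ, Odd j → Even (Finset.univ.filter (fun k : Fin t => d k = j)).card := by
  constructor
  · rintro ⟨e, A, h⟩
    exact sp_necessary d e A h
  · intro h
    exact sp_sufficient d hd hsum h

end Cfsg.Agent.Lib.Helper16.JS
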