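import Cfsg.Agent.Lib.Helper16.JS1

set_option autoImplicit false

namespace Cfsg.Agent.Lib.Helper16.JS

open Matrix Module

universe u

variable {F : Type u} [Field F]

/-- If `A` preserves the alternating invertible Gram matrix `Ω`, then `(A - 1)^(2i)` has even rank. -/
theorem even_rank_pow_of_preserves {n : Type} [Fintype n] [DecidableEq n] (Ω A : Matrix n n F)
    (halt : ∀ v : n → F, v ⬝ᵥ Ω *ᵥ v = 0) (hΩ : Ω.det ≠ 0) (hA : Aᵀ * Ω * A = Ω) (i : ℕ) :
    Even ((A - 1) ^ (2 * i)).rank := by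
  have hAdet : A.det ≠ 0 := by
    intro h0
    have := congrArg Matrix.det hA
    rw [Matrix.det_mul, Matrix.det_mul, h0, mul_zero] at this
    exact hΩ this.symm
  have hAu : IsUnit A.det := Ne.isUnit hAdet
  have h1 : A⁻¹ * A = 1 := Matrix.nonsing_inv_mul A hAu
  have h2 : A * A⁻¹ = 1 := Matrix.mul_nonsing_inv A hAu
  set N := A - 1 with hN
  -- Aᵀ Ω = Ω A⁻¹
  have h3 : Aᵀ * Ω = Ω * A⁻¹ := by
    calc Aᵀ * Ω = Aᵀ * Ω * (A * A⁻¹) := by rw [h2, mul_one]
      _ = (Aᵀ * Ω * A) * A⁻¹ := by simp only [mul_assoc]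
      _ = Ω * A⁻¹ := by rw [hA]
  have h4' : (-A⁻¹) * (A - 1) = A⁻¹ - 1 := by
    rw [mul_sub, neg_mul, h1, mul_one]
    abel
  have h4 : Nᵀ * Ω = Ω * ((-A⁻¹) * N) := by
    rw [hN, h4', Matrix.transpose_sub, Matrix.transpose_one, sub_mul, one_mul, h3, mul_sub, mul_one]
  have hcomm : Commute (-A⁻¹) N := by
    rw [hN]
    apply Commute.neg_left
    unfold Commute SemiconjBy
    rw [mul_sub, sub_mul, h1, h2, mul_one, one_mul]
  have h5 : ∀ r : ℕ, (Nᵀ) ^ r * Ω = Ω * ((-A⁻¹) ^ r * N ^ r) := by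
    intro r
    induction r with
    | zero => simp
    | succ r ih =>
      rw [pow_succ, mul_assoc, h4, ← mul_assoc, ih, mul_assoc, ← hcomm.mul_pow, ← pow_succ,
        hcomm.mul_pow]
  set G := (N ^ i)ᵀ * Ω * N ^ i with hG
  have hGalt : ∀ v : n → F, v ⬝ᵥ G *ᵥ v = 0 := by
    intro v
    have := halt (N ^ i *ᵥ v)
    rw [hG, ← Matrix.mulVec_mulVec, ← Matrix.mulVec_mulVec, Matrix.dotProduct_mulVec,
      Matrix.vecMul_transpose]
    exact this
  have hGeq : G = (Ω * (-A⁻¹) ^ i) * N ^ (2 * i) := by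
    rw [hG, Matrix.transpose_pow, h5, two_mul, pow_add]
    simp only [mul_assoc]
  have hU : IsUnit (Ω * (-A⁻¹) ^ i).det := by
    rw [Matrix.det_mul, Matrix.det_pow, Matrix.det_neg, Matrix.det_nonsing_inv]
    apply IsUnit.mul (Ne.isUnit hΩ)
    apply IsUnit.pow
    apply IsUnit.mul
    · exact (isUnit_neg_one).pow _
    · exact (Ring.inverse_unit hAu.unit ▸ hAu.unit⁻¹.isUnit : IsUnit (Ring.inverse A.det))
  have h6 := even_rank_of_alt G hGalt
  rw [hGeq, Matrix.rank_mul_eq_right_of_isUnit_det _ _ hU] at h6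
  exact h6

/-- conjugate matrices: ranks of powers of `x - 1` agree -/
theorem rank_pow_of_isConj {n : Type} [Fintype n] [DecidableEq n] (a b : Matrix n n F) (h : IsConj a b)
    (r : ℕ) : ((b - 1) ^ r).rank = ((a - 1) ^ r).rank := by
  obtain ⟨c, hc⟩ := h
  have h1 : SemiconjBy (c : Matrix n n F) (a - 1) (b - 1) := by
    unfold SemiconjBy at hc ⊢
    rw [mul_sub, sub_mul, hc, mul_one, one_mul]
  have h2 := h1.pow_right r
  unfold SemiconjBy at h2
  have hcdet : IsUnit (c : Matrix n n F).det := (Matrix.isUnit_iff_isUnit_det _).mp c.isUnit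
  rw [← Matrix.rank_mul_eq_left_of_isUnit_det (c : Matrix n n F) ((b - 1) ^ r) hcdet, ← h2,
    Matrix.rank_mul_eq_right_of_isUnit_det _ _ hcdet]

theorem reindex_sub_one_pow {n n' : Type} [Fintype n] [DecidableEq n] [Fintype n'] [DecidableEq n']
    (e : n ≃ n') (M : Matrix n n F) (r : ℕ) :
    (Matrix.reindex e e M - 1) ^ r = Matrix.reindex e e ((M - 1) ^ r) := by
  rw [← Matrix.coe_reindexAlgEquiv F F e, map_pow, map_sub, map_one]

end Cfsg.Agent.Lib.Helper16.JS
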