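import Cfsg.Agent.Lib.Helper16.JS2
import Cfsg.Agent.Lib.Helper16.JC5

set_option autoImplicit false

namespace Cfsg.Agent.Lib.Helper16.JS

open Matrix Module Cfsg.Agent.Lib.Helper16.JC

universe u

variable {F : Type u} [Field F] {t : ℕ}

/-- rows of powers of the nilpotent Jordan matrix -/
theorem Nm_pow_row (d : Fin t → ℕ) (a : ℕ) (x : Idx d) :
    ((Nm d F) ^ a).row x = if h : a ≤ x.2.val then
      Pi.single (⟨x.1, ⟨x.2.val - a, by have := x.2.isLt; omega⟩⟩ : Idx d) (1 : F) else 0 := by
  have h1 : ((Nm d F) ^ a).row x = (Pi.single x (1 : F)) ᵥ* (Nm d F) ^ a := by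
    rw [Matrix.single_one_vecMul]
  rw [h1]
  ext ⟨l, j⟩
  rw [vecMul_Nm_pow]
  by_cases h : a ≤ x.2.val
  · rw [dif_pos h]
    by_cases h2 : j.val + a < d l
    · rw [dif_pos h2]
      by_cases h3 : x = ⟨l, ⟨j.val + a, h2⟩⟩
      · rw [← h3, Pi.single_eq_same]
        subst h3
        simp
      · rw [Pi.single_eq_of_ne (Ne.symm h3), Pi.single_eq_of_ne]
        intro h4
        apply h3
        obtain ⟨k, i⟩ := x
        simp only at h
        have h5 := congrArg Sigma.fst h4
        simp only at h5
        subst h5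
        have h6 : j = ⟨i.val - a, by have := i.isLt; omega⟩ := by simpa using h4
        congr
        apply Fin.ext
        have h7 := congrArg Fin.val h6
        simp only at h7 ⊢
        omega
    · rw [dif_neg h2, Pi.single_eq_of_ne]
      intro h4
      apply h2
      obtain ⟨k, i⟩ := x
      have h5 := congrArg Sigma.fst h4
      simp only at h5
      subst h5
      have h6 : j = ⟨i.val - a, by have := i.isLt; omega⟩ := by simpa using h4
      rw [h6]
      simp only at h ⊢
      have := i.isLt
      omega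
  · rw [dif_neg h]
    by_cases h2 : j.val + a < d l
    · rw [dif_pos h2, Pi.single_eq_of_ne]
      · rfl
      · intro h4
        apply h
        rw [← h4]
        simp
    · rw [dif_neg h2]
      rfl

theorem count_ge (n a : ℕ) : ∑ i : Fin n, (if a ≤ i.val then 1 else 0) = n - a := by
  rw [Fin.sum_univ_eq_sum_range (fun i => if a ≤ i then 1 else 0), ← Finset.card_filter]
  have : (Finset.range n).filter (fun i => a ≤ i) = Finset.Ico a n := by
    ext i
    simp only [Finset.mem_filter, Finset.mem_range, Finset.mem_Ico]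
    omega
  rw [this, Nat.card_Ico]

theorem rank_Nm_pow (d : Fin t → ℕ) (a : ℕ) : ((Nm d F) ^ a).rank = ∑ k, (d k - a) := by
  classical
  rw [Matrix.rank_eq_finrank_span_row]
  set b : {x : Idx d // a ≤ x.2.val} → (Idx d → F) := fun x =>
    Pi.single (⟨x.1.1, ⟨x.1.2.val - a, by have := x.1.2.isLt; omega⟩⟩ : Idx d) (1 : F) with hb
  have hspan : Submodule.span F (Set.range ((Nm d F) ^ a).row) = Submodule.span F (Set.range b) := by
    apply le_antisymm
    · rw [Submodule.span_le]
      rintro _ ⟨x, rfl⟩
      rw [Nm_pow_row]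
      by_cases h : a ≤ x.2.val
      · rw [dif_pos h]
        exact Submodule.subset_span ⟨⟨x, h⟩, rfl⟩
      · rw [dif_neg h]
        exact Submodule.zero_mem _
    · rw [Submodule.span_le]
      rintro _ ⟨⟨x, h⟩, rfl⟩
      apply Submodule.subset_span
      refine ⟨x, ?_⟩
      rw [Nm_pow_row, dif_pos h]
  rw [hspan]
  have hinj : Function.Injective (fun x : {x : Idx d // a ≤ x.2.val} =>
      (⟨x.1.1, ⟨x.1.2.val - a, by have := x.1.2.isLt; omega⟩⟩ : Idx d)) := by
    rintro ⟨⟨k, i⟩, hx⟩ ⟨⟨l, j⟩, hy⟩ h
    simp only at hx hy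
    have h5 := congrArg Sigma.fst h
    simp only at h5
    subst h5
    have h6 : (⟨i.val - a, by have := i.isLt; omega⟩ : Fin (d k)) = ⟨j.val - a, by have := j.isLt; omega⟩ := by
      simpa using h
    have h7 : i = j := by
      apply Fin.ext
      have := congrArg Fin.val h6
      simp only at this
      omega
    subst h7
    rfl
  have hli : LinearIndependent F b := by
    have := (Pi.basisFun F (Idx d)).linearIndependent.comp _ hinj
    convert this using 1
    funext x
    rw [hb]
    simp only [Function.comp_apply, Pi.basisFun_apply]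
  rw [finrank_span_eq_card hli, Fintype.card_subtype, Finset.card_filter, Fintype.sum_sigma]
  apply Finset.sum_congr rfl
  intro k _
  exact count_ge (d k) a

theorem mult_eq_sum (d : Fin t → ℕ) (j : ℕ) : mult d j = ∑ k, if d k = j then 1 else 0 := by
  unfold mult
  rw [Finset.card_filter]

/-- parity conclusion -/
theorem even_mult_of_even_ranks (d : Fin t → ℕ) (hev : ∀ i : ℕ, Even (∑ k, (d k - 2 * i)))
    (j : ℕ) (hj : Odd j) : Even (mult d j) := by
  obtain ⟨i, rfl⟩ := hj
  have h1 : mult d (2 * i + 1) + 2 * ∑ k, (d k - (2 * i + 1)) =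
      ∑ k, (d k - 2 * i) + ∑ k, (d k - 2 * (i + 1)) := by
    rw [mult_eq_sum, Finset.mul_sum, ← Finset.sum_add_distrib, ← Finset.sum_add_distrib]
    apply Finset.sum_congr rfl
    intro k _
    split_ifs <;> omega
  have h2 := (hev i).add (hev (i + 1))
  rw [← h1] at h2
  have h3 : Even (2 * ∑ k, (d k - (2 * i + 1))) := even_two_mul _
  exact (Nat.even_add.mp h2).mpr h3

end Cfsg.Agent.Lib.Helper16.JS
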