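import Cfsg.Agent.Lib.Helper16.JS3

set_option autoImplicit false

namespace Cfsg.Agent.Lib.Helper16.JS

open Matrix Module Cfsg.Agent.Lib.Helper16.JC

universe u

variable {F : Type u} [Field F] {t : ℕ}

theorem J_alt (m : ℕ) (v : Fin m ⊕ Fin m → F) : v ⬝ᵥ Matrix.J (Fin m) F *ᵥ v = 0 := by
  unfold Matrix.J
  simp only [dotProduct, Fintype.sum_sum_type, Matrix.mulVec, Matrix.fromBlocks_apply₁₁,
    Matrix.fromBlocks_apply₁₂, Matrix.fromBlocks_apply₂₁, Matrix.fromBlocks_apply₂₂,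
    Matrix.zero_apply, zero_mul, Finset.sum_const_zero, zero_add, add_zero, Matrix.neg_apply,
    Matrix.one_apply, neg_mul, Finset.sum_neg_distrib, ite_mul, one_mul,
    Finset.sum_ite_eq, Finset.mem_univ, if_true, mul_neg]
  rw [neg_add_eq_zero]
  apply Finset.sum_congr rfl
  intro i _
  ring

theorem J_det_ne_zero (m : ℕ) : (Matrix.J (Fin m) F).det ≠ 0 := by
  intro h
  have := Matrix.J_det_mul_J_det (Fin m) F
  rw [h, zero_mul] at this
  exact zero_ne_one this

/-- Necessity: a Jordan type realised in the symplectic group has even multiplicities of odd parts. -/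
theorem sp_necessary {m : ℕ} (d : Fin t → ℕ) (e : Idx d ≃ (Fin m ⊕ Fin m))
    (A : Matrix.symplecticGroup (Fin m) F)
    (h : IsConj (Matrix.reindex e e (Cfsg.jordanTypeMatrix d F))
      (A : Matrix (Fin m ⊕ Fin m) (Fin m ⊕ Fin m) F)) :
    ∀ j : ℕ, Odd j → Even (mult d j) := by
  apply even_mult_of_even_ranks
  intro i
  have hA : (A : Matrix (Fin m ⊕ Fin m) (Fin m ⊕ Fin m) F)ᵀ * Matrix.J (Fin m) F *
      (A : Matrix (Fin m ⊕ Fin m) (Fin m ⊕ Fin m) F) = Matrix.J (Fin m) F :=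
    SymplecticGroup.mem_iff'.mp A.2
  have h1 : Even (((A : Matrix (Fin m ⊕ Fin m) (Fin m ⊕ Fin m) F) - 1) ^ (2 * i)).rank :=
    even_rank_pow_of_preserves (n := Fin m ⊕ Fin m) (Matrix.J (Fin m) F)
      (A : Matrix (Fin m ⊕ Fin m) (Fin m ⊕ Fin m) F) (J_alt m) (J_det_ne_zero m) hA i
  rw [rank_pow_of_isConj _ _ h, reindex_sub_one_pow, Matrix.rank_reindex, jordan_eq,
    add_sub_cancel_left, rank_Nm_pow] at h1
  exact h1

end Cfsg.Agent.Lib.Helper16.JS
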