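import Cfsg.Agent.Lib.Helper16.JS4

set_option autoImplicit false

namespace Cfsg.Agent.Lib.Helper16.JS

open Matrix Module

universe u

variable {F : Type u} [Field F]

/-- A matrix preserving an alternating non-degenerate form is conjugate (after reindexing)
to a symplectic matrix. -/
theorem conj_sp_of_preserves {ι : Type} [Fintype ι] [DecidableEq ι] {m : ℕ} (e : ι ≃ Fin m ⊕ Fin m)
    (Ω M : Matrix ι ι F) (halt : ∀ v : ι → F, v ⬝ᵥ Ω *ᵥ v = 0) (hΩ : Ω.det ≠ 0)
    (hM : Mᵀ * Ω * M = Ω) :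
    ∃ A : Matrix.symplecticGroup (Fin m) F,
      IsConj (Matrix.reindex e e M) (A : Matrix (Fin m ⊕ Fin m) (Fin m ⊕ Fin m) F) := by
  set ω : LinearMap.BilinForm F (ι → F) := Matrix.toBilin' Ω with hω
  have hωapp : ∀ v w, ω v w = v ⬝ᵥ Ω *ᵥ w := by
    intro v w
    rw [hω, Matrix.toBilin'_apply']
  have hωalt : ω.IsAlt := by
    intro v
    rw [hωapp]; exact halt v
  have hωnd : ω.Nondegenerate := LinearMap.BilinForm.nondegenerate_toBilin'_of_det_ne_zero' Ω hΩ
  have hV : finrank F (ι → F) = 2 * m := by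
    rw [Module.finrank_pi, Fintype.card_congr e, Fintype.card_sum, Fintype.card_fin]
    omega
  obtain ⟨b, hb⟩ := Cfsg.Agent.Lib.Helper16.symplectic_basis hV ω hωalt hωnd
  set f : (ι → F) →ₗ[F] (ι → F) := Matrix.toLin' M with hf
  have hcomp : ω.comp f f = ω := by
    apply LinearMap.ext
    intro v
    apply LinearMap.ext
    intro w
    rw [LinearMap.BilinForm.comp_apply, hωapp, hωapp, hf, Matrix.toLin'_apply, Matrix.toLin'_apply,
      Matrix.mulVec_mulVec, ← Matrix.vecMul_transpose, ← Matrix.dotProduct_mulVec,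
      Matrix.mulVec_mulVec, ← mul_assoc, hM]
  set A := LinearMap.toMatrix b b f with hA
  have hAJ : Aᵀ * Matrix.J (Fin m) F * A = Matrix.J (Fin m) F := by
    have := LinearMap.BilinForm.toMatrix_comp b b ω f f
    rw [hcomp, hb] at this
    exact this.symm
  have hAmem : A ∈ Matrix.symplecticGroup (Fin m) F := SymplecticGroup.mem_iff'.mpr hAJ
  refine ⟨⟨A, hAmem⟩, ?_⟩
  set b' : Basis (Fin m ⊕ Fin m) F (ι → F) := (Pi.basisFun F ι).reindex e with hb'
  have hR : LinearMap.toMatrix b' b' f = Matrix.reindex e e M := by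
    ext i j
    rw [LinearMap.toMatrix_apply, hb', Basis.reindex_apply, Basis.repr_reindex_apply, hf,
      Pi.basisFun_apply, Pi.basisFun_repr, Matrix.toLin'_apply, Matrix.mulVec_single_one]
    rfl
  have hPQ : b.toMatrix b' * b'.toMatrix b = 1 := Basis.toMatrix_mul_toMatrix_flip b b'
  have hQP : b'.toMatrix b * b.toMatrix b' = 1 := Basis.toMatrix_mul_toMatrix_flip b' b
  have hconj : b.toMatrix b' * LinearMap.toMatrix b' b' f * b'.toMatrix b = LinearMap.toMatrix b b f :=
    basis_toMatrix_mul_linearMap_toMatrix_mul_basis_toMatrix b b' b b' f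
  refine ⟨⟨b.toMatrix b', b'.toMatrix b, hPQ, hQP⟩, ?_⟩
  show b.toMatrix b' * Matrix.reindex e e M = A * b.toMatrix b'
  rw [hA, ← hconj, hR, mul_assoc, hQP, mul_one]

end Cfsg.Agent.Lib.Helper16.JS
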