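import Cfsg.Agent.Lib.Helper16.JS5

set_option autoImplicit false

namespace Cfsg.Agent.Lib.Helper16.JS

open Matrix Module

universe u

variable {F : Type u} [Field F]

/-- The lower shift matrix. -/
def Lm (n : ℕ) (F : Type u) [Field F] : Matrix (Fin n) (Fin n) F :=
  Matrix.of fun i j => if i.val = j.val + 1 then 1 else 0

theorem Lm_apply (n : ℕ) (i j : Fin n) : Lm n F i j = if i.val = j.val + 1 then 1 else 0 := rfl

theorem jordanBlock_eq (n : ℕ) : Cfsg.jordanBlock n F = 1 + Lm n F := by
  ext i j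
  rw [Matrix.add_apply, Lm_apply]
  unfold Cfsg.jordanBlock
  rw [Matrix.of_apply]
  by_cases hij : i = j
  · subst hij
    simp
  · have h1 : (i : ℕ) ≠ j := fun h => hij (Fin.ext h)
    rw [if_neg h1, Matrix.one_apply_ne hij, zero_add]

theorem mul_Lm (n : ℕ) {κ : Type*} [Fintype κ] (X : Matrix κ (Fin n) F) (i : κ) (j : Fin n) :
    (X * Lm n F) i j = if h : j.val + 1 < n then X i ⟨j.val + 1, h⟩ else 0 := by
  rw [Matrix.mul_apply]
  by_cases h : j.val + 1 < n
  · rw [dif_pos h, Finset.sum_eq_single (⟨j.val + 1, h⟩ : Fin n)]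
    · rw [Lm_apply, if_pos rfl, mul_one]
    · intro b _ hb
      rw [Lm_apply, if_neg, mul_zero]
      intro hh
      exact hb (Fin.ext hh)
    · intro hh
      exact absurd (Finset.mem_univ _) hh
  · rw [dif_neg h]
    apply Finset.sum_eq_zero
    intro b _
    rw [Lm_apply, if_neg, mul_zero]
    intro hh
    have := b.isLt
    omega

theorem vecMul_Lm_pow (n : ℕ) (w : Fin n → F) (a : ℕ) (j : Fin n) :
    (w ᵥ* (Lm n F) ^ a) j = if h : j.val + a < n then w ⟨j.val + a, h⟩ else 0 := by
  induction a generalizing j with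
  | zero =>
    rw [pow_zero, Matrix.vecMul_one, dif_pos (by simp)]
    rfl
  | succ a ih =>
    rw [pow_succ, ← Matrix.vecMul_vecMul]
    have h := mul_Lm n (Matrix.of fun (_ : Unit) => w ᵥ* (Lm n F) ^ a) () j
    rw [Matrix.mul_apply] at h
    have h' : (w ᵥ* Lm n F ^ a ᵥ* Lm n F) j =
        if h : j.val + 1 < n then (w ᵥ* (Lm n F) ^ a) ⟨j.val + 1, h⟩ else 0 := h
    rw [h']
    by_cases h1 : j.val + 1 < n
    · rw [dif_pos h1, ih]
      simp only
      by_cases h2 : j.val + 1 + a < n
      · rw [dif_pos h2, dif_pos (by omega)]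
        congr 2
        omega
      · rw [dif_neg h2, dif_neg (by omega)]
    · rw [dif_neg h1, dif_neg (by omega)]

theorem Lm_pow_eq_zero (n : ℕ) (a : ℕ) (ha : n ≤ a) : (Lm n F) ^ a = 0 := by
  ext i j
  have h := vecMul_Lm_pow n (Pi.single i (1 : F)) a j
  rw [Matrix.single_one_vecMul, dif_neg (by omega)] at h
  exact h

theorem Lm_pow_ne_zero (n : ℕ) (hn : 1 ≤ n) : (Lm n F) ^ (n - 1) ≠ 0 := by
  intro h0
  have h := vecMul_Lm_pow n (Pi.single (⟨n - 1, by omega⟩ : Fin n) (1 : F)) (n - 1) ⟨0, by omega⟩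
  rw [h0, Matrix.vecMul_zero, dif_pos (by simp only; omega)] at h
  simp only [Pi.zero_apply, zero_add, Pi.single_eq_same] at h
  exact zero_ne_one h

/-- The cyclic vector lemma: a unipotent matrix of maximal nilpotency degree is similar to the Jordan block. -/
theorem exists_conj_jordanBlock (n : ℕ) (hn : 1 ≤ n) (M : Matrix (Fin n) (Fin n) F)
    (h0 : (M - 1) ^ n = 0) (h1 : (M - 1) ^ (n - 1) ≠ 0) :
    ∃ C : Matrix (Fin n) (Fin n) F, C.det ≠ 0 ∧ M * C = C * Cfsg.jordanBlock n F := by
  set N := M - 1 with hN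
  have hMN : M = 1 + N := by rw [hN]; abel
  -- a vector not killed by N^(n-1)
  obtain ⟨v, hv⟩ : ∃ v : Fin n → F, N ^ (n - 1) *ᵥ v ≠ 0 := by
    by_contra hcon
    push Not at hcon
    apply h1
    ext i j
    have := congrFun (hcon (Pi.single j 1)) i
    rw [Matrix.mulVec_single_one] at this
    exact this
  obtain ⟨i₀, hi₀⟩ : ∃ i₀, (N ^ (n - 1) *ᵥ v) i₀ ≠ 0 := by
    by_contra hcon
    push Not at hcon
    exact hv (funext hcon)
  set C : Matrix (Fin n) (Fin n) F := Matrix.of fun i a => (N ^ a.val *ᵥ v) i with hC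
  have hNC : ∀ r : ℕ, N ^ r * C = Matrix.of fun i (a : Fin n) => (N ^ (r + a.val) *ᵥ v) i := by
    intro r
    ext i a
    rw [Matrix.mul_apply, Matrix.of_apply, pow_add, ← Matrix.mulVec_mulVec]
    rfl
  have hNbig : ∀ r : ℕ, n ≤ r → N ^ r = 0 := by
    intro r hr
    obtain ⟨s, rfl⟩ := Nat.exists_eq_add_of_le hr
    rw [pow_add, h0, zero_mul]
  refine ⟨C, ?_, ?_⟩
  · intro hdet
    obtain ⟨x, hx0, hx⟩ := Matrix.exists_mulVec_eq_zero_iff.mpr hdet
    apply hx0
    have key : ∀ a₀ : ℕ, a₀ ≤ n → ∀ a : Fin n, a.val < a₀ → x a = 0 := by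
      intro a₀
      induction a₀ with
      | zero =>
        intro _ a ha
        omega
      | succ a₀ ih =>
        intro ha₀ a ha
        have ih' := ih (by omega)
        by_cases hlt : a.val < a₀
        · exact ih' a hlt
        · have haeq : a.val = a₀ := by omega
          have h2 : (N ^ (n - 1 - a₀) * C) *ᵥ x = 0 := by
            rw [← Matrix.mulVec_mulVec, hx, Matrix.mulVec_zero]
          have h3 := congrFun h2 i₀
          rw [hNC, Matrix.mulVec, dotProduct, Finset.sum_eq_single a] at h3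
          · rw [Matrix.of_apply, haeq] at h3
            have h4 : n - 1 - a₀ + a₀ = n - 1 := by omega
            rw [h4] at h3
            simp only [Pi.zero_apply] at h3
            exact (mul_eq_zero.mp h3).resolve_left hi₀
          · intro b _ hb
            rw [Matrix.of_apply]
            by_cases hb2 : b.val < a₀
            · rw [ih' b hb2, mul_zero]
            · have hb3 : a₀ < b.val := by
                have : b.val ≠ a.val := fun h => hb (Fin.ext h)
                omega
              rw [hNbig (n - 1 - a₀ + b.val) (by omega), Matrix.zero_mulVec]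
              simp
          · intro hh
            exact absurd (Finset.mem_univ _) hh
    ext a
    exact key n le_rfl a a.isLt
  · rw [jordanBlock_eq, hMN, add_mul, one_mul, mul_add, mul_one]
    congr 1
    ext i a
    rw [mul_Lm]
    have h5 := congrFun (congrFun (hNC 1) i) a
    rw [pow_one] at h5
    rw [h5, Matrix.of_apply]
    by_cases h : a.val + 1 < n
    · rw [dif_pos h, hC, Matrix.of_apply]
      simp only
      rw [add_comm]
    · rw [dif_neg h, hNbig (1 + a.val) (by omega), Matrix.zero_mulVec]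
      rfl

end Cfsg.Agent.Lib.Helper16.JS
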