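import Cfsg.Agent.Lib.Helper16.JS6

set_option autoImplicit false

namespace Cfsg.Agent.Lib.Helper16.JS

open Matrix Module

universe u

variable {F : Type u} [Field F]

theorem jordanBlock_det (n : ℕ) : (Cfsg.jordanBlock n F).det = 1 := by
  rw [Matrix.det_of_isLowerTriangular]
  · apply Finset.prod_eq_one
    intro i _
    unfold Cfsg.jordanBlock
    rw [Matrix.of_apply, if_pos rfl]
  · intro i j hij
    unfold Cfsg.jordanBlock
    rw [Matrix.of_apply, if_neg, if_neg]
    · have : i.val < j.val := hij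
      omega
    · have : i.val < j.val := hij
      omega

/-- If `U` is invertible and commutes with `X`, then `(U X)^r = 0 ↔ X^r = 0`. -/
theorem unit_mul_pow_eq_zero_iff {n : Type} [Fintype n] [DecidableEq n] (U X : Matrix n n F)
    (hU : U.det ≠ 0) (hc : Commute U X) (r : ℕ) : (U * X) ^ r = 0 ↔ X ^ r = 0 := by
  rw [hc.mul_pow]
  constructor
  · intro h
    have h1 : (U ^ r)⁻¹ * (U ^ r * X ^ r) = 0 := by rw [h, mul_zero]
    rwa [← mul_assoc, Matrix.nonsing_inv_mul _ (by rw [Matrix.det_pow]; exact (Ne.isUnit hU).pow r),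
      one_mul] at h1
  · intro h
    rw [h, mul_zero]

/-- The pairing form: an invertible matrix `S` with `Jᵀ S J = S`. -/
theorem exists_pair_form (n : ℕ) (hn : 1 ≤ n) :
    ∃ S : Matrix (Fin n) (Fin n) F, S.det ≠ 0 ∧
      (Cfsg.jordanBlock n F)ᵀ * S * Cfsg.jordanBlock n F = S := by
  set J := Cfsg.jordanBlock n F with hJ
  have hJdet : J.det = 1 := jordanBlock_det n
  have hJu : IsUnit J.det := by rw [hJdet]; exact isUnit_one
  have h1 : J⁻¹ * J = 1 := Matrix.nonsing_inv_mul J hJu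
  have h2 : J * J⁻¹ = 1 := Matrix.mul_nonsing_inv J hJu
  have hJL : J = 1 + Lm n F := jordanBlock_eq n
  have h3 : J⁻¹ - 1 = (-J⁻¹) * Lm n F := by
    have : J⁻¹ * (1 + Lm n F) = 1 := by rw [← hJL]; exact h1
    rw [mul_add, mul_one] at this
    rw [neg_mul, ← this]
    abel
  have hcomm : Commute (-J⁻¹) (Lm n F) := by
    apply Commute.neg_left
    have hc : Commute J (Lm n F) := by
      rw [hJL]
      exact (Commute.one_left _).add_left (Commute.refl _)
    unfold Commute SemiconjBy at hc ⊢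
    calc J⁻¹ * Lm n F = J⁻¹ * Lm n F * (J * J⁻¹) := by rw [h2, mul_one]
      _ = J⁻¹ * (Lm n F * J) * J⁻¹ := by simp only [mul_assoc]
      _ = J⁻¹ * (J * Lm n F) * J⁻¹ := by rw [hc]
      _ = (J⁻¹ * J) * Lm n F * J⁻¹ := by simp only [mul_assoc]
      _ = Lm n F * J⁻¹ := by rw [h1, one_mul]
  have hdetneg : (-J⁻¹).det ≠ 0 := by
    rw [Matrix.det_neg, Matrix.det_nonsing_inv, hJdet]
    simp
  set M := (J⁻¹)ᵀ with hM
  have hM1 : M - 1 = ((-J⁻¹) * Lm n F)ᵀ := by
    rw [← h3, hM, Matrix.transpose_sub, Matrix.transpose_one]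
  have h0 : (M - 1) ^ n = 0 := by
    rw [hM1, ← Matrix.transpose_pow, (unit_mul_pow_eq_zero_iff _ _ hdetneg hcomm n).mpr
      (Lm_pow_eq_zero n n le_rfl), Matrix.transpose_zero]
  have h1' : (M - 1) ^ (n - 1) ≠ 0 := by
    rw [hM1, ← Matrix.transpose_pow]
    intro h
    have h4 : ((-J⁻¹ * Lm n F) ^ (n - 1)) = 0 := by
      have := congrArg Matrix.transpose h
      rwa [Matrix.transpose_transpose, Matrix.transpose_zero] at this
    exact Lm_pow_ne_zero n hn ((unit_mul_pow_eq_zero_iff _ _ hdetneg hcomm (n - 1)).mp h4)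
  obtain ⟨C, hC, hMC⟩ := exists_conj_jordanBlock n hn M h0 h1'
  refine ⟨C, hC, ?_⟩
  rw [mul_assoc, ← hMC, ← mul_assoc, hM, ← Matrix.transpose_mul, h1, Matrix.transpose_one, one_mul]

end Cfsg.Agent.Lib.Helper16.JS
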