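import Cfsg.Agent.Lib.Helper16.JS7

set_option autoImplicit false

namespace Cfsg.Agent.Lib.Helper16.JS

open Matrix Module

universe u

variable {F : Type u} [Field F]

/-- The reversal matrix. -/
def Rm (k : ℕ) (F : Type u) [Field F] : Matrix (Fin k) (Fin k) F :=
  Matrix.of fun i j => if i.val + j.val + 1 = k then 1 else 0

theorem Rm_apply (k : ℕ) (i j : Fin k) : Rm k F i j = if i.val + j.val + 1 = k then 1 else 0 := rfl

theorem Rm_transpose (k : ℕ) : (Rm k F)ᵀ = Rm k F := by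
  ext i j
  rw [Matrix.transpose_apply, Rm_apply, Rm_apply]
  congr 1
  rw [eq_iff_iff]
  omega

theorem Rm_mul_self (k : ℕ) : Rm k F * Rm k F = 1 := by
  ext i j
  rw [Matrix.mul_apply, Finset.sum_eq_single (⟨k - 1 - i.val, by have := i.isLt; omega⟩ : Fin k)]
  · rw [Rm_apply, Rm_apply, if_pos (by simp only; have := i.isLt; omega), one_mul]
    by_cases hij : i = j
    · subst hij
      rw [if_pos (by simp only; have := i.isLt; omega), Matrix.one_apply_eq]
    · rw [Matrix.one_apply_ne hij, if_neg]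
      simp only
      intro h
      apply hij
      apply Fin.ext
      have := i.isLt
      omega
  · intro l _ hl
    rw [Rm_apply, if_neg, zero_mul]
    intro h
    apply hl
    apply Fin.ext
    simp only
    omega
  · intro hh
    exact absurd (Finset.mem_univ _) hh

theorem Rm_mul_Lm_symm (k : ℕ) : (Rm k F * Lm k F)ᵀ = Rm k F * Lm k F := by
  ext i j
  rw [Matrix.transpose_apply, mul_Lm, mul_Lm]
  by_cases h1 : i.val + 1 < k
  · rw [dif_pos h1]
    by_cases h2 : j.val + 1 < k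
    · rw [dif_pos h2, Rm_apply, Rm_apply]
      congr 1
      rw [eq_iff_iff]
      simp only
      omega
    · rw [dif_neg h2, Rm_apply, if_neg]
      simp only
      omega
  · rw [dif_neg h1]
    by_cases h2 : j.val + 1 < k
    · rw [dif_pos h2, Rm_apply, if_neg]
      simp only
      omega
    · rw [dif_neg h2]

theorem Rm_mul_Lm (k : ℕ) : Rm k F * Lm k F = (Lm k F)ᵀ * Rm k F := by
  rw [← Rm_mul_Lm_symm, Matrix.transpose_mul, Rm_transpose]

/-- the model of the regular unipotent element in the symplectic group of degree `2k` -/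
def M0 (k : ℕ) (F : Type u) [Field F] : Matrix (Fin k ⊕ Fin k) (Fin k ⊕ Fin k) F :=
  Matrix.fromBlocks 0 (-1) 1 (1 + 1 + Lm k F)

/-- the alternating form preserved by `M0` -/
def B0 (k : ℕ) (F : Type u) [Field F] : Matrix (Fin k ⊕ Fin k) (Fin k ⊕ Fin k) F :=
  Matrix.fromBlocks 0 (-Rm k F) (Rm k F) 0

theorem B0_alt_aux (k : ℕ) (v₁ v₂ : Fin k → F) :
    (Sum.elim v₁ v₂) ⬝ᵥ B0 k F *ᵥ (Sum.elim v₁ v₂) = 0 := by
  unfold B0
  rw [Matrix.fromBlocks_mulVec, Matrix.zero_mulVec, Matrix.zero_mulVec, zero_add, add_zero]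
  unfold dotProduct
  rw [Fintype.sum_sum_type]
  simp only [Sum.elim_inl, Sum.elim_inr, Sum.elim_comp_inl, Sum.elim_comp_inr]
  have h1 : ∑ x, v₁ x * ((-Rm k F) *ᵥ v₂) x = - (v₁ ⬝ᵥ Rm k F *ᵥ v₂) := by
    rw [Matrix.neg_mulVec, ← dotProduct_neg]
    rfl
  have h2 : ∑ x, v₂ x * (Rm k F *ᵥ v₁) x = v₁ ⬝ᵥ Rm k F *ᵥ v₂ := by
    have : ∑ x, v₂ x * (Rm k F *ᵥ v₁) x = v₂ ⬝ᵥ Rm k F *ᵥ v₁ := rfl
    rw [this, Matrix.dotProduct_mulVec, dotProduct_comm, ← Matrix.mulVec_transpose, Rm_transpose]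
  rw [h1, h2, neg_add_cancel]

theorem B0_alt (k : ℕ) (v : Fin k ⊕ Fin k → F) : v ⬝ᵥ B0 k F *ᵥ v = 0 := by
  have hv : v = Sum.elim (v ∘ Sum.inl) (v ∘ Sum.inr) := (Sum.elim_comp_inl_inr v).symm
  have := B0_alt_aux k (v ∘ Sum.inl) (v ∘ Sum.inr)
  rw [← hv] at this
  exact this

theorem B0_det (k : ℕ) : (B0 k F).det ≠ 0 := by
  have h : B0 k F * Matrix.fromBlocks 0 (Rm k F) (-Rm k F) 0 = 1 := by
    unfold B0
    rw [Matrix.fromBlocks_multiply]
    simp only [zero_mul, mul_zero, neg_mul, neg_neg, Rm_mul_self, add_zero, zero_add, mul_neg, neg_zero]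
    exact Matrix.fromBlocks_one (l := Fin k) (m := Fin k) (α := F)
  intro h0
  have := congrArg Matrix.det h
  rw [Matrix.det_mul, h0, zero_mul, Matrix.det_one] at this
  exact zero_ne_one this

theorem M0_preserves (k : ℕ) : (M0 k F)ᵀ * B0 k F * M0 k F = B0 k F := by
  unfold M0 B0
  rw [Matrix.fromBlocks_transpose, Matrix.fromBlocks_multiply, Matrix.fromBlocks_multiply]
  simp only [Matrix.transpose_zero, Matrix.transpose_one, Matrix.transpose_neg, Matrix.transpose_add,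
    zero_mul, mul_zero, one_mul, mul_one, add_zero, zero_add, mul_neg, neg_mul, neg_neg, neg_zero]
  congr 1
  rw [add_mul, mul_add, Rm_mul_Lm]
  simp only [add_mul, mul_add, one_mul, mul_one]
  abel

end Cfsg.Agent.Lib.Helper16.JS
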