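import Cfsg.Agent.Lib.Helper16.JS8

set_option autoImplicit false

namespace Cfsg.Agent.Lib.Helper16.JS

open Matrix Module

universe u

variable {F : Type u} [Field F]

/-- the commuting nilpotent `v` -/
def V0 (k : ℕ) (F : Type u) [Field F] : Matrix (Fin k ⊕ Fin k) (Fin k ⊕ Fin k) F :=
  Matrix.fromBlocks (Lm k F) 0 0 (Lm k F)

theorem M0_sub_one (k : ℕ) :
    M0 k F - 1 = Matrix.fromBlocks (-1) (-1) 1 (1 + Lm k F) := by
  unfold M0
  rw [← Matrix.fromBlocks_one, sub_eq_add_neg, Matrix.fromBlocks_neg, Matrix.fromBlocks_add]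
  congr 1
  · rw [zero_add]
  · rw [neg_zero, add_zero]
  · rw [neg_zero, add_zero]
  · abel

theorem N0_sq (k : ℕ) : (M0 k F - 1) * (M0 k F - 1) = V0 k F * M0 k F := by
  rw [M0_sub_one]
  unfold V0 M0
  rw [Matrix.fromBlocks_multiply, Matrix.fromBlocks_multiply]
  congr 1
  · simp
  · simp only [neg_mul, one_mul, mul_neg, mul_one, neg_neg, zero_mul, add_zero, mul_add]
    abel
  · simp
  · simp only [neg_mul, one_mul, mul_neg, mul_one, zero_mul, zero_add, mul_add, add_mul]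
    abel

theorem V0_comm (k : ℕ) : Commute (V0 k F) (M0 k F) := by
  unfold Commute SemiconjBy V0 M0
  rw [Matrix.fromBlocks_multiply, Matrix.fromBlocks_multiply]
  congr 1
  · simp
  · simp
  · simp
  · simp only [zero_mul, zero_add, mul_add, add_mul, mul_one, one_mul, mul_zero]

theorem V0_pow (k r : ℕ) : (V0 k F) ^ r = Matrix.fromBlocks ((Lm k F) ^ r) 0 0 ((Lm k F) ^ r) := by
  unfold V0
  exact Matrix.fromBlocks_diagonal_pow _ _ r

theorem M0_det (k : ℕ) : (M0 k F).det ≠ 0 := by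
  intro h0
  have := congrArg Matrix.det (M0_preserves (F := F) k)
  rw [Matrix.det_mul, Matrix.det_mul, h0, mul_zero] at this
  exact B0_det k this.symm

theorem N0_pow_zero (k : ℕ) : (M0 k F - 1) ^ (k + k) = 0 := by
  rw [← two_mul, pow_mul, pow_two, N0_sq, (V0_comm k).mul_pow, V0_pow, Lm_pow_eq_zero k k le_rfl,
    Matrix.fromBlocks_zero, zero_mul]

theorem N0_pow_ne_zero (k : ℕ) (hk : 1 ≤ k) : (M0 k F - 1) ^ (k + k - 1) ≠ 0 := by
  have h1 : k + k - 1 = 1 + 2 * (k - 1) := by omega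
  rw [h1, pow_add, pow_one, pow_mul, pow_two, N0_sq, (V0_comm k).mul_pow]
  intro h
  have hu : IsUnit ((M0 k F) ^ (k - 1)).det := by
    rw [Matrix.det_pow]
    exact (Ne.isUnit (M0_det k)).pow _
  have h2 : (M0 k F - 1) * (V0 k F) ^ (k - 1) = 0 := by
    have h3 : ((M0 k F - 1) * ((V0 k F) ^ (k - 1) * (M0 k F) ^ (k - 1))) * ((M0 k F) ^ (k - 1))⁻¹ = 0 := by
      rw [h, zero_mul]
    rwa [← mul_assoc, mul_assoc _ ((M0 k F) ^ (k - 1)), Matrix.mul_nonsing_inv _ hu, mul_one] at h3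
  rw [M0_sub_one, V0_pow, Matrix.fromBlocks_multiply, ← Matrix.fromBlocks_zero] at h2
  have h4 := (Matrix.fromBlocks_inj.mp h2).1
  rw [mul_zero, add_zero, neg_mul, one_mul, neg_eq_zero] at h4
  exact Lm_pow_ne_zero k hk h4

/-- alternating invariant form for the even Jordan block -/
theorem exists_even_form (k : ℕ) (hk : 1 ≤ k) :
    ∃ ω : Matrix (Fin (k + k)) (Fin (k + k)) F, (∀ v : Fin (k + k) → F, v ⬝ᵥ ω *ᵥ v = 0) ∧ ω.det ≠ 0 ∧
      (Cfsg.jordanBlock (k + k) F)ᵀ * ω * Cfsg.jordanBlock (k + k) F = ω := by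
  set e : Fin k ⊕ Fin k ≃ Fin (k + k) := finSumFinEquiv with he
  set M₁ := Matrix.reindex e e (M0 k F) with hM₁
  set B₁ := Matrix.reindex e e (B0 k F) with hB₁
  have h0 : (M₁ - 1) ^ (k + k) = 0 := by
    rw [hM₁, reindex_sub_one_pow, N0_pow_zero]
    simp
  have h1 : (M₁ - 1) ^ (k + k - 1) ≠ 0 := by
    rw [hM₁, reindex_sub_one_pow]
    intro h
    apply N0_pow_ne_zero (F := F) k hk
    have := congrArg (Matrix.reindex e e).symm h
    rw [Equiv.symm_apply_apply] at this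
    rw [this]
    simp
  obtain ⟨C, hC, hMC⟩ := exists_conj_jordanBlock (k + k) (by omega) M₁ h0 h1
  have hB₁alt : ∀ w : Fin (k + k) → F, w ⬝ᵥ B₁ *ᵥ w = 0 := by
    intro w
    rw [hB₁, Matrix.reindex_apply, Matrix.submatrix_mulVec_equiv, dotProduct_comp_equiv_symm,
      Equiv.symm_symm]
    exact B0_alt k _
  have hpres : M₁ᵀ * B₁ * M₁ = B₁ := by
    rw [hM₁, hB₁, Matrix.transpose_reindex]
    simp only [Matrix.reindex_apply, Matrix.submatrix_mul_equiv]
    rw [M0_preserves]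
  refine ⟨Cᵀ * B₁ * C, ?_, ?_, ?_⟩
  · intro v
    have := hB₁alt (C *ᵥ v)
    rw [← Matrix.mulVec_mulVec, ← Matrix.mulVec_mulVec, Matrix.dotProduct_mulVec,
      Matrix.vecMul_transpose]
    exact this
  · rw [Matrix.det_mul, Matrix.det_mul, Matrix.det_transpose, hB₁, Matrix.det_reindex_self]
    exact mul_ne_zero (mul_ne_zero hC (B0_det k)) hC
  · calc (Cfsg.jordanBlock (k + k) F)ᵀ * (Cᵀ * B₁ * C) * Cfsg.jordanBlock (k + k) F
        = (C * Cfsg.jordanBlock (k + k) F)ᵀ * B₁ * (C * Cfsg.jordanBlock (k + k) F) := by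
          rw [Matrix.transpose_mul]
          simp only [mul_assoc]
      _ = (M₁ * C)ᵀ * B₁ * (M₁ * C) := by rw [hMC]
      _ = Cᵀ * (M₁ᵀ * B₁ * M₁) * C := by
          rw [Matrix.transpose_mul]
          simp only [mul_assoc]
      _ = Cᵀ * B₁ * C := by rw [hpres]

end Cfsg.Agent.Lib.Helper16.JS
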