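import Mathlib
import Cfsg.Agent.S0249
import Cfsg.Agent.Lib.Helper16.AP3
import Cfsg.Agent.Lib.Helper16.PG8

set_option autoImplicit false
set_option linter.unusedSectionVars false
set_option linter.unusedVariables false

/-! `O_{p'}` of `SL_n` modulo scalars. -/

namespace Cfsg.Agent.Lib.Helper16.LC

open Matrix Cfsg.Agent.Lib.Helper16.AP Cfsg.Agent.Lib.Helper16.PG
open scoped Pointwise

universe u

section
variable {n : ℕ} {F : Type u} [Field F]

/-- normal subgroups of `SL_n` which are `p'`-groups modulo the centre are central. -/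
def SLCore (n : ℕ) (F : Type u) [Field F] (p : ℕ) : Prop :=
  ∀ M : Subgroup (SpecialLinearGroup (Fin n) F), M.Normal →
    (∀ m ∈ M, ∃ k : ℕ, Nat.Coprime k p ∧ m ^ k ∈ Subgroup.center (SpecialLinearGroup (Fin n) F)) →
    M ≤ Subgroup.center (SpecialLinearGroup (Fin n) F)

theorem psl_simple (hn : 2 ≤ n) (h : n = 2 → 4 ≤ Nat.card F) :
    IsSimpleGroup (ProjectiveSpecialLinearGroup (Fin n) F) := by
  rcases Nat.lt_or_ge 2 n with h3 | h2
  · exact Cfsg.Agent.S0249.result n h3
  · obtain rfl : n = 2 := le_antisymm h2 hn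
    exact Matrix.ProjectiveSpecialLinearGroup.rank_two_simple (h rfl)

theorem slCore_of_simple (p : ℕ) (hp : p.Prime)
    (hs : IsSimpleGroup (ProjectiveSpecialLinearGroup (Fin n) F))
    (t : ProjectiveSpecialLinearGroup (Fin n) F) (ht : orderOf t = p) : SLCore n F p := by
  intro M hM hMp
  set π := QuotientGroup.mk' (Subgroup.center (SpecialLinearGroup (Fin n) F)) with hπ
  have hN : (M.map π).Normal := Subgroup.Normal.map hM π (QuotientGroup.mk'_surjective _)
  rcases hs.eq_bot_or_eq_top_of_normal (M.map π) hN with hbot | htop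
  · intro m hm
    have h1 : π m ∈ M.map π := Subgroup.mem_map_of_mem π hm
    rw [hbot, Subgroup.mem_bot, hπ, QuotientGroup.mk'_apply, QuotientGroup.eq_one_iff] at h1
    exact h1
  · exfalso
    have h1 : t ∈ M.map π := by rw [htop]; trivial
    obtain ⟨m, hm, rfl⟩ := h1
    obtain ⟨k, hk, hmk⟩ := hMp m hm
    have h2 : (π m) ^ k = 1 := by
      rw [← map_pow, hπ, QuotientGroup.mk'_apply, QuotientGroup.eq_one_iff]
      exact hmk
    have h3 : p ∣ k := by
      rw [← ht]
      exact orderOf_dvd_of_pow_eq_one h2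
    have h4 : p ∣ Nat.gcd k p := Nat.dvd_gcd h3 dvd_rfl
    rw [hk] at h4
    exact hp.one_lt.ne' (Nat.dvd_one.mp h4)

end


section
variable {n : ℕ} {F : Type u} [Field F] [Fintype F]

/-- a normal `p`-subgroup of a finite group lies in every `p`-subgroup of index prime to `p`. -/
theorem normal_pgroup_le {G : Type*} [Group G] [Finite G] (p : ℕ) [Fact p.Prime]
    (M U : Subgroup G) (hM : M.Normal) (hMp : IsPGroup p M) (hU : IsPGroup p U)
    (hidx : ¬ p ∣ U.index) : M ≤ U := by
  obtain ⟨Q, hQ⟩ := hMp.exists_le_sylow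
  obtain ⟨g, hg⟩ := MulAction.exists_smul_eq G Q (hU.toSylow hidx)
  have h1 : MulAut.conj g • (Q : Subgroup G) = U := by
    have := congrArg (fun P : Sylow p G => (P : Subgroup G)) hg
    rw [← Sylow.coe_subgroup_smul]
    simpa using this
  rw [← h1]
  intro m hm
  rw [Subgroup.mem_pointwise_smul_iff_inv_smul_mem]
  apply hQ
  show (MulAut.conj g)⁻¹ m ∈ M
  rw [← map_inv, MulAut.conj_apply]
  have := hM.conj_mem m hm g⁻¹
  exact this

/-- `PSL_n(q)` has no non-trivial normal subgroup of order a power of the characteristic. -/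
theorem psl_normal_pgroup_bot {p f : ℕ} (hp : p.Prime) (hf : 1 ≤ f) (hF : Fintype.card F = p ^ f)
    (hn : 1 ≤ n) (M : Subgroup (ProjectiveSpecialLinearGroup (Fin n) F)) (hM : M.Normal)
    (hMp : IsPGroup p M) : M = ⊥ := by
  have : Fact p.Prime := ⟨hp⟩
  have hfin : Finite (ProjectiveSpecialLinearGroup (Fin n) F) := by
    unfold ProjectiveSpecialLinearGroup
    infer_instance
  have h1 : M ≤ Ubar n F :=
    normal_pgroup_le p M (Ubar n F) hM hMp (Ubar_isPGroup hp hF) (Ubar_index_not_dvd hp hf hF hn)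
  have hM' : (M.map (iota n F).toMonoidHom).Normal :=
    Subgroup.Normal.map hM _ (iota n F).surjective
  have hMp' : IsPGroup p (M.map (iota n F).toMonoidHom) := hMp.map _
  have h2 : M.map (iota n F).toMonoidHom ≤ Ubar n F :=
    normal_pgroup_le p _ (Ubar n F) hM' hMp' (Ubar_isPGroup hp hF) (Ubar_index_not_dvd hp hf hF hn)
  rw [eq_bot_iff]
  intro m hm
  rw [Subgroup.mem_bot]
  obtain ⟨u, hu, rfl⟩ := h1 hm
  obtain ⟨u', hu', he⟩ := h2 (Subgroup.mem_map_of_mem _ hm)
  have he' : (QuotientGroup.mk u' : ProjectiveSpecialLinearGroup (Fin n) F) =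
      QuotientGroup.mk (invT n F u) := by
    have : (iota n F) (QuotientGroup.mk u) = QuotientGroup.mk (invT n F u) := iota_mk u
    rw [← this]
    exact he
  obtain ⟨r, -, hr⟩ := mk_eq_imp _ _ he'
  rw [invT_val] at hr
  have hui : IsUT ((u⁻¹ : SpecialLinearGroup (Fin n) F) : Matrix (Fin n) (Fin n) F) :=
    (UT n F).inv_mem hu
  have hone : ((u⁻¹ : SpecialLinearGroup (Fin n) F) : Matrix (Fin n) (Fin n) F) = 1 := by
    ext i j
    rcases lt_trichotomy i j with hij | hij | hij
    · have h3 := congrFun (congrFun hr j) i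
      rw [Matrix.smul_apply, hu'.1 j i hij, smul_zero, Matrix.transpose_apply] at h3
      rw [← h3, Matrix.one_apply_ne hij.ne]
    · rw [hij, hui.2, Matrix.one_apply_eq]
    · rw [hui.1 i j hij, Matrix.one_apply_ne hij.ne']
  have : u⁻¹ = 1 := Subtype.ext hone
  rw [inv_eq_one] at this
  rw [this]
  rfl

end


section
variable {F : Type u} [Field F]

theorem sl2_sq (m : SpecialLinearGroup (Fin 2) F) :
    (m : Matrix (Fin 2) (Fin 2) F) * (m : Matrix (Fin 2) (Fin 2) F) =
      (m : Matrix (Fin 2) (Fin 2) F).trace • (m : Matrix (Fin 2) (Fin 2) F) - 1 := by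
  have hdet := m.2
  rw [Matrix.det_fin_two] at hdet
  ext i j
  fin_cases i <;> fin_cases j
  · simp [Matrix.mul_apply, Fin.sum_univ_two, Matrix.trace_fin_two]
    linear_combination (-1 : F) * hdet
  · simp [Matrix.mul_apply, Fin.sum_univ_two, Matrix.trace_fin_two]
    ring
  · simp [Matrix.mul_apply, Fin.sum_univ_two, Matrix.trace_fin_two]
    ring
  · simp [Matrix.mul_apply, Fin.sum_univ_two, Matrix.trace_fin_two]
    linear_combination (-1 : F) * hdet

/-- a power of `m` which is `± 1` is trivial in `PSL_2`. -/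
theorem mk_pow_eq_one_of_sign (m : SpecialLinearGroup (Fin 2) F) (j : ℕ) (c : F) (hc : c ^ 2 = 1)
    (h : (m : Matrix (Fin 2) (Fin 2) F) ^ j = c • 1) :
    (QuotientGroup.mk m : ProjectiveSpecialLinearGroup (Fin 2) F) ^ j = 1 := by
  rw [← QuotientGroup.mk_pow, QuotientGroup.eq_one_iff, Matrix.SpecialLinearGroup.mem_center_iff]
  refine ⟨c, by rw [Fintype.card_fin]; exact hc, ?_⟩
  rw [Matrix.SpecialLinearGroup.coe_pow, h]
  ext i j
  simp [Matrix.one_apply, Matrix.scalar_apply, Matrix.diagonal_apply]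

theorem sl2_tr_zero (m : SpecialLinearGroup (Fin 2) F) (h : (m : Matrix (Fin 2) (Fin 2) F).trace = 0) :
    (m : Matrix (Fin 2) (Fin 2) F) ^ 2 = (-1 : F) • 1 := by
  rw [pow_two, sl2_sq, h, zero_smul, zero_sub, neg_smul, one_smul]

theorem sl2_tr_one (m : SpecialLinearGroup (Fin 2) F) (h : (m : Matrix (Fin 2) (Fin 2) F).trace = 1) :
    (m : Matrix (Fin 2) (Fin 2) F) ^ 3 = (-1 : F) • 1 := by
  have h2 := sl2_sq m
  rw [h, one_smul] at h2
  have : (m : Matrix (Fin 2) (Fin 2) F) ^ 3 = (m : Matrix (Fin 2) (Fin 2) F) *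
      ((m : Matrix (Fin 2) (Fin 2) F) * (m : Matrix (Fin 2) (Fin 2) F)) := by
    rw [pow_succ, pow_two, Matrix.mul_assoc]
  rw [this, h2, Matrix.mul_sub, Matrix.mul_one, h2, neg_smul, one_smul]
  abel

theorem sl2_tr_neg_one (m : SpecialLinearGroup (Fin 2) F)
    (h : (m : Matrix (Fin 2) (Fin 2) F).trace = -1) :
    (m : Matrix (Fin 2) (Fin 2) F) ^ 3 = (1 : F) • 1 := by
  have h2 := sl2_sq m
  rw [h, neg_smul, one_smul] at h2
  have : (m : Matrix (Fin 2) (Fin 2) F) ^ 3 = (m : Matrix (Fin 2) (Fin 2) F) *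
      ((m : Matrix (Fin 2) (Fin 2) F) * (m : Matrix (Fin 2) (Fin 2) F)) := by
    rw [pow_succ, pow_two, Matrix.mul_assoc]
  rw [this, h2, Matrix.mul_sub, Matrix.mul_one, Matrix.mul_neg, h2, one_smul]
  abel

end


section
variable {F : Type u} [Field F] [Fintype F]

theorem orderOf_eq_one_of_pow_pow {G : Type*} [Group G] (x : G) (a b : ℕ) (hab : Nat.Coprime a b)
    (ha : x ^ a = 1) (hb : x ^ b = 1) : x = 1 := by
  have h1 := orderOf_dvd_of_pow_eq_one ha
  have h2 := orderOf_dvd_of_pow_eq_one hb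
  have h3 : orderOf x ∣ Nat.gcd a b := Nat.dvd_gcd h1 h2
  rw [hab] at h3
  exact orderOf_eq_one_iff.mp (Nat.dvd_one.mp h3)

set_option maxHeartbeats 800000 in
/-- `SL_2(2)` and `SL_2(3)`. -/
theorem slCore_small {p : ℕ} (hp : p.Prime)
    (h : (Fintype.card F = 2 ∧ p = 3) ∨ (Fintype.card F = 3 ∧ p = 2)) : SLCore 2 F p := by
  intro M hM hMp
  set π := QuotientGroup.mk' (Subgroup.center (SpecialLinearGroup (Fin 2) F)) with hπ
  have hN : (M.map π).Normal := Subgroup.Normal.map hM π (QuotientGroup.mk'_surjective _)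
  have hcard0 : (Fintype.card F : F) = 0 := Nat.cast_card_eq_zero F
  -- every element of the image has order dividing the characteristic
  have hkey : ∀ m ∈ M, (QuotientGroup.mk m : ProjectiveSpecialLinearGroup (Fin 2) F) ^
      Fintype.card F = 1 := by
    intro m hm
    obtain ⟨k, hk, hmk⟩ := hMp m hm
    have hk1 : (QuotientGroup.mk m : ProjectiveSpecialLinearGroup (Fin 2) F) ^ k = 1 := by
      rw [← QuotientGroup.mk_pow, QuotientGroup.eq_one_iff]
      exact hmk
    set t := (m : Matrix (Fin 2) (Fin 2) F).trace with ht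
    have htq : t ^ Fintype.card F = t := FiniteField.pow_card t
    have hm1 : (-1 : F) ^ 2 = 1 := by norm_num
    rcases h with ⟨hq, hp3⟩ | ⟨hq, hp2⟩
    · rw [hq] at htq hcard0 ⊢
      have h2 : (2 : F) = 0 := by exact_mod_cast hcard0
      have ht01 : t = 0 ∨ t = 1 := by
        have : t * (t - 1) = 0 := by linear_combination htq
        rcases mul_eq_zero.mp this with h0 | h0
        · exact Or.inl h0
        · exact Or.inr (sub_eq_zero.mp h0)
      rcases ht01 with h0 | h1
      · exact mk_pow_eq_one_of_sign m 2 (-1) hm1 (sl2_tr_zero m h0)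
      · have h3 := mk_pow_eq_one_of_sign m 3 (-1) hm1 (sl2_tr_one m h1)
        rw [hp3] at hk
        have := orderOf_eq_one_of_pow_pow _ k 3 hk hk1 h3
        rw [this, one_pow]
    · rw [hq] at htq hcard0 ⊢
      have h3 : (3 : F) = 0 := by exact_mod_cast hcard0
      have ht01 : t = 0 ∨ t = 1 ∨ t = -1 := by
        have : t * ((t - 1) * (t + 1)) = 0 := by linear_combination htq
        rcases mul_eq_zero.mp this with h0 | h0
        · exact Or.inl h0
        · rcases mul_eq_zero.mp h0 with h0 | h0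
          · exact Or.inr (Or.inl (sub_eq_zero.mp h0))
          · exact Or.inr (Or.inr (eq_neg_of_add_eq_zero_left h0))
      rcases ht01 with h0 | h1 | h1
      · have h2 := mk_pow_eq_one_of_sign m 2 (-1) hm1 (sl2_tr_zero m h0)
        rw [hp2] at hk
        have := orderOf_eq_one_of_pow_pow _ k 2 hk hk1 h2
        rw [this, one_pow]
      · exact mk_pow_eq_one_of_sign m 3 (-1) hm1 (sl2_tr_one m h1)
      · exact mk_pow_eq_one_of_sign m 3 1 (one_pow 2) (sl2_tr_neg_one m h1)
  have hr : (Fintype.card F).Prime := by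
    rcases h with ⟨hq, -⟩ | ⟨hq, -⟩
    · rw [hq]; exact Nat.prime_two
    · rw [hq]; exact Nat.prime_three
  have hpg : IsPGroup (Fintype.card F) ↥(M.map π) := by
    rintro ⟨x, m, hm, rfl⟩
    refine ⟨1, ?_⟩
    apply Subtype.ext
    rw [pow_one]
    exact hkey m hm
  have hbot := psl_normal_pgroup_bot (n := 2) (f := 1) hr le_rfl (pow_one _).symm one_le_two
    (M.map π) hN hpg
  intro m hm
  have h1 : π m ∈ M.map π := Subgroup.mem_map_of_mem π hm
  rw [hbot, Subgroup.mem_bot, hπ, QuotientGroup.mk'_apply, QuotientGroup.eq_one_iff] at h1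
  exact h1

end

end Cfsg.Agent.Lib.Helper16.LC
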