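import Cfsg.Agent.Lib.Helper16.UA19
import Cfsg.Agent.Lib.Helper16.H9d
import Cfsg.Agent.Lib.Helper16.SemiFixed

set_option autoImplicit false
set_option linter.unusedSectionVars false
set_option linter.unusedVariables false

namespace Cfsg.Agent.Lib.Helper16.UF

open Matrix Cfsg.Agent.Lib.Helper16.PU Cfsg.Agent.Lib.Helper16.PG Cfsg.Agent.Lib.Helper16.H9

universe u
variable {F : Type u} [Field F]

/-- an automorphism fixing the fixed field of `τ` pointwise is a power of `τ`. -/
theorem mem_zpowers_of_fix [Finite F] (σ τ : RingAut F) (h : ∀ x : F, τ x = x → σ x = x) :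
    σ ∈ Subgroup.zpowers τ := by
  classical
  have : Fintype F := Fintype.ofFinite F
  set G : Subgroup (RingAut F) := Subgroup.zpowers τ with hG
  have : Finite (RingAut F) := Finite.of_injective (fun e : RingAut F => (e : F → F))
    (fun a b hab => RingEquiv.ext (congrFun hab))
  have hmem : ∀ y, y ∈ FixedPoints.subfield G F ↔ τ y = y :=
    fun y => Cfsg.Agent.Lib.Helper16.mem_fixed_iff τ y
  let σ' : F →ₐ[FixedPoints.subfield G F] F :=
    { (σ : F →+* F) with
      commutes' := fun k => h k.1 ((hmem k.1).mp k.2) }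
  obtain ⟨g, hg⟩ := (FixedPoints.toAlgHom_bijective G F).surjective σ'
  have : σ = g.1 := by
    apply RingEquiv.ext
    intro x
    have := DFunLike.congr_fun hg x
    exact this.symm
  rw [this]
  exact g.2

/-- the fixed field of an automorphism of odd order is not fixed by an involution. -/
theorem exists_fixed_moved [Finite F] (σ τ : RingAut F) (hσσ : ∀ x, σ (σ x) = x) (hσ1 : ∃ x, σ x ≠ x)
    {r : ℕ} (hr : Odd r) (hτr : τ ^ r = 1) : ∃ l : F, τ l = l ∧ σ l ≠ l := by
  by_contra hcon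
  push Not at hcon
  obtain ⟨k, hk⟩ := Subgroup.mem_zpowers_iff.mp (mem_zpowers_of_fix σ τ hcon)
  have h1 : σ ^ r = 1 := by
    rw [← hk, ← zpow_natCast, ← _root_.zpow_mul, mul_comm, _root_.zpow_mul, zpow_natCast, hτr, _root_.one_zpow]
  have h2 : σ ^ 2 = 1 := by
    apply RingEquiv.ext
    intro x
    rw [pow_two]
    exact hσσ x
  obtain ⟨m, rfl⟩ := hr
  rw [pow_succ, pow_mul, h2, one_pow, one_mul] at h1
  obtain ⟨x, hx⟩ := hσ1
  apply hx
  rw [h1]
  rfl

/-- a semi-invariant scalar fixed by the involution. -/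
theorem exists_semi_scalar (σ τ : F ≃+* F) (hcomm : ∀ x, τ (σ x) = σ (τ x)) (hσσ : ∀ x, σ (σ x) = x)
    {l : F} (hl : τ l = l) (hlσ : σ l ≠ l) {c a : F} (hc : σ c = c) (ha0 : a ≠ 0) (ha : τ a = c * a) :
    ∃ d : F, d ≠ 0 ∧ σ d = d ∧ τ d = c * d := by
  by_cases h1 : a + σ a = 0
  · refine ⟨l * a + σ (l * a), ?_, ?_, ?_⟩
    · have : σ a = -a := by linear_combination h1
      rw [map_mul, this]
      have : l * a + σ l * -a = (l - σ l) * a := by ring
      rw [this]
      exact mul_ne_zero (sub_ne_zero.mpr (Ne.symm hlσ)) ha0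
    · rw [map_add, hσσ, add_comm]
    · rw [map_add, hcomm, map_mul, hl, ha, map_mul, map_mul, map_mul, hc]
      ring
  · refine ⟨a + σ a, h1, ?_, ?_⟩
    · rw [map_add, hσσ, add_comm]
    · rw [map_add, hcomm, ha, map_mul, hc]
      ring

end Cfsg.Agent.Lib.Helper16.UF
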