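import Mathlib
import Cfsg.Agent.Lib.Helper16.LC1
import Cfsg.Agent.Lib.Helper16.AF3
import Cfsg.Agent.Lib.Helper16.H9d
import Cfsg.Agent.Lib.Helper16.UF1

set_option autoImplicit false
set_option linter.unusedSectionVars false
set_option linter.unusedVariables false

/-! The field case for `PSL_n`: generic lemmas. -/

namespace Cfsg.Agent.Lib.Helper16.LC

open Matrix Cfsg.Agent.Lib.Helper16.AP Cfsg.Agent.Lib.Helper16.PG Cfsg.Agent.Lib.Helper16.AF
  Cfsg.Agent.Lib.Helper16.H9

universe u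

section grp
variable {K : Type u} [Group K]

theorem aut_mul_conj (α : MulAut K) (k : K) : α * MulAut.conj k = MulAut.conj (α k) * α := by
  apply MulEquiv.ext
  intro y
  simp [MulAut.conj_apply]

theorem inn_normal' : (Cfsg.Inn K).Normal := by
  constructor
  rintro _ ⟨k, rfl⟩ α
  refine ⟨α k, ?_⟩
  rw [aut_mul_conj, mul_inv_cancel_right]

/-- an automorphism commuting with the conjugation by `k` fixes `k`. -/
theorem fix_of_comm_conj (hinj : Function.Injective (MulAut.conj : K →* MulAut K))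
    (α : MulAut K) (k : K) (h : α * MulAut.conj k = MulAut.conj k * α) : α k = k := by
  rw [aut_mul_conj] at h
  exact hinj (mul_right_cancel h)

theorem conj_mem_centralizer (x : MulAut K) (k : K) (h : x k = k) :
    MulAut.conj k ∈ Subgroup.centralizer {x} := by
  rw [Subgroup.mem_centralizer_iff]
  intro y hy
  rw [Set.mem_singleton_iff] at hy
  subst hy
  rw [aut_mul_conj, h]

/-- **Step 3.** A subgroup normalised by `A ⊓ C(x)` and meeting `D` trivially commutes with
`Inn ⊓ C(x)`. -/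
theorem comm_of_inf_bot (A N' D : Subgroup (MulAut K)) (x : MulAut K)
    (hInnA : Cfsg.Inn K ≤ A) (hInnD : Cfsg.Inn K ≤ D)
    (hnorm : ∀ c ∈ A ⊓ Subgroup.centralizer {x}, ∀ y ∈ N', c * y * c⁻¹ ∈ N')
    (hND : ∀ y ∈ N', y ∈ D → y = 1) :
    ∀ y ∈ N', ∀ l ∈ Cfsg.Inn K ⊓ Subgroup.centralizer {x}, y * l = l * y := by
  intro y hy l hl
  have hlC : l ∈ A ⊓ Subgroup.centralizer {x} := ⟨hInnA hl.1, hl.2⟩
  have he1 : y * l * y⁻¹ * l⁻¹ ∈ N' := by
    have h1 : y * l * y⁻¹ * l⁻¹ = y * (l * y⁻¹ * l⁻¹) := by group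
    rw [h1]
    exact N'.mul_mem hy (hnorm _ hlC _ (N'.inv_mem hy))
  have he2 : y * l * y⁻¹ * l⁻¹ ∈ D := by
    apply hInnD
    exact Subgroup.mul_mem _ (inn_normal'.conj_mem l hl.1 y) (Subgroup.inv_mem _ hl.1)
  have h3 := hND _ he1 he2
  calc y * l = (y * l * y⁻¹ * l⁻¹) * (l * y) := by group
    _ = l * y := by rw [h3, one_mul]

end grp

section
variable {n : ℕ} {F : Type u} [Field F] [Fintype F]

/-- if `Φ(h) φ_τ` fixes the root elements `x_ij(t)`, `t ∈ S`, then `τ` fixes `S`. -/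
theorem tau_fix_of_fix_X (hn : 2 ≤ n) (h : GL (Fin n) F) (τ : F ≃+* F) (S : Set F) (h1S : (1 : F) ∈ S)
    (hfix : ∀ t ∈ S, (Phi n F h * fieldL n τ) (X (fst hn) (lst hn) (fst_ne_lst hn) t) =
      X (fst hn) (lst hn) (fst_ne_lst hn) t) : ∀ t ∈ S, τ t = t := by
  have hij : fst hn ≠ lst hn := fst_ne_lst hn
  set i := fst hn
  set j := lst hn
  have key : ∀ t ∈ S, t • Matrix.vecMulVec (Pi.single i (1 : F)) (Pi.single j (1 : F)) =
      (τ t) • Matrix.vecMulVec ((h : Matrix (Fin n) (Fin n) F) *ᵥ Pi.single i 1)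
        (Pi.single j 1 ᵥ* ((h⁻¹ : GL (Fin n) F) : Matrix (Fin n) (Fin n) F)) := by
    intro t ht
    have h1 := hfix t ht
    rw [MulAut.mul_apply, fieldL_X] at h1
    have e : X i j hij (τ t) =
        QuotientGroup.mk (tS (stdF (F := F) i j hij).v (stdF (F := F) i j hij).φ
          (stdF (F := F) i j hij).h (τ t)) := rfl
    rw [e, Phi_tS] at h1
    unfold X at h1
    obtain ⟨r, hrn, hr⟩ := mk_eq_imp _ _ h1
    rw [Xs_val, tS_val] at hr
    have hr1 := scalar_one_of_tM hn _ _ _ _ _ _ r (gFlag h (stdF i j hij)).h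
      (stdF (F := F) i j hij).h hrn hr
    rw [hr1, one_smul] at hr
    unfold tM at hr
    exact (add_left_cancel hr).symm
  have k1 := key 1 h1S
  rw [map_one, one_smul, one_smul] at k1
  intro t ht
  have kt := key t ht
  rw [← k1] at kt
  have h2 : (τ t - t) • Matrix.vecMulVec (Pi.single i (1 : F)) (Pi.single j (1 : F)) = 0 := by
    rw [sub_smul, ← kt, sub_self]
  rcases smul_eq_zero.mp h2 with h3 | h3
  · exact sub_eq_zero.mp h3
  · exact absurd h3 (vmv_single_ne i j)

/-- `Φ(h) φ_τ ι` does not fix all the root elements `x_ij(1)` (`n ≥ 3`). -/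
theorem iota_case_false (hn : 3 ≤ n) (h : GL (Fin n) F) (τ : F ≃+* F)
    (hfix : ∀ (i j : Fin n) (hij : i ≠ j),
      (Phi n F h * fieldL n τ * iota n F) (X i j hij 1) = X i j hij 1) : False := by
  have key : ∀ (i j : Fin n) (hij : i ≠ j),
      par ((h : Matrix (Fin n) (Fin n) F) *ᵥ Pi.single j 1) (Pi.single i (1 : F)) := by
    intro i j hij
    have h1 := hfix i j hij
    have e : X i j hij (1 : F) =
        QuotientGroup.mk (tS (stdF (F := F) i j hij).v (stdF (F := F) i j hij).φ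
          (stdF (F := F) i j hij).h 1) := rfl
    rw [MulAut.mul_apply, e, iota_tS, swap_stdF] at h1
    have e2 : (QuotientGroup.mk (tS (stdF (F := F) j i (Ne.symm hij)).v
        (stdF (F := F) j i (Ne.symm hij)).φ (stdF (F := F) j i (Ne.symm hij)).h (-1)) :
        ProjectiveSpecialLinearGroup (Fin n) F) = X j i (Ne.symm hij) (-1) := rfl
    rw [e2, MulAut.mul_apply, fieldL_X, map_neg, map_one] at h1
    have e3 : X j i (Ne.symm hij) (-1 : F) =
        QuotientGroup.mk (tS (stdF (F := F) j i (Ne.symm hij)).v (stdF (F := F) j i (Ne.symm hij)).φ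
          (stdF (F := F) j i (Ne.symm hij)).h (-1)) := rfl
    rw [e3, Phi_tS] at h1
    obtain ⟨r, hrn, hr⟩ := mk_eq_imp _ _ h1
    rw [tS_val, tS_val] at hr
    have hr1 := scalar_one_of_tM (by omega) _ _ _ _ _ _ r (gFlag h (stdF j i (Ne.symm hij))).h
      (stdF (F := F) i j hij).h hrn hr
    rw [hr1, one_smul] at hr
    unfold tM at hr
    have hr2 := add_left_cancel hr
    rw [one_smul] at hr2
    have := par_of_vmv_eq _ _ _ _ (stdF (F := F) i j hij).hv (stdF (F := F) i j hij).hφ (-1)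
      hr2.symm
    exact this.1
  set i₀ : Fin n := ⟨0, by omega⟩ with hi₀
  obtain ⟨j, hj, -⟩ := exists_third hn i₀ i₀
  obtain ⟨k, hk0, hkj⟩ := exists_third hn i₀ j
  have h1 := key i₀ j (Ne.symm hj)
  have h2 := key i₀ k (Ne.symm hk0)
  have h3 : par ((h : Matrix (Fin n) (Fin n) F) *ᵥ Pi.single j 1)
      ((h : Matrix (Fin n) (Fin n) F) *ᵥ Pi.single k 1) := par_trans h1 (par_symm h2)
  obtain ⟨c, hc, hck⟩ := h3
  have h4 : (Pi.single k (1 : F) : Fin n → F) = c • Pi.single j 1 := by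
    have := congrArg (fun v => ((h⁻¹ : GL (Fin n) F) : Matrix (Fin n) (Fin n) F) *ᵥ v) hck
    simp only [Matrix.mulVec_mulVec, gl_inv_mul, Matrix.one_mulVec, Matrix.mulVec_smul] at this
    exact this
  exact hkj ((par_single_iff j k).mp ⟨c, hc, h4⟩).symm

end

end Cfsg.Agent.Lib.Helper16.LC
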