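import Mathlib
import Cfsg.Agent.Lib.Helper16.LC2

set_option autoImplicit false
set_option linter.unusedSectionVars false
set_option linter.unusedVariables false

/-! The field case for `PSL_n`: the core. -/

namespace Cfsg.Agent.Lib.Helper16.LC

open Matrix Cfsg.Agent.Lib.Helper16.AP Cfsg.Agent.Lib.Helper16.PG Cfsg.Agent.Lib.Helper16.AF
  Cfsg.Agent.Lib.Helper16.H9

universe u

section
variable {n : ℕ} {F : Type u} [Field F] [Fintype F]

/-- `SL_n` of a subfield acting on `PSL_n` of the field. -/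
noncomputable def kap0 (n : ℕ) (F₀ : Subfield F) :
    SpecialLinearGroup (Fin n) F₀ →* MulAut (ProjectiveSpecialLinearGroup (Fin n) F) :=
  (LamHom n F₀).comp SpecialLinearGroup.toGL

theorem kap0_apply (F₀ : Subfield F) (s : SpecialLinearGroup (Fin n) F₀) :
    kap0 n F₀ s = LamHom n F₀ (SpecialLinearGroup.toGL s) := rfl

theorem kap0_eq_conj (F₀ : Subfield F) (s : SpecialLinearGroup (Fin n) F₀) :
    kap0 n F₀ s = MulAut.conj (QuotientGroup.mk (SpecialLinearGroup.map F₀.subtype s) :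
      ProjectiveSpecialLinearGroup (Fin n) F) := by
  rw [conj_mk_eq_Phi, kap0_apply]
  unfold LamHom
  rw [MonoidHom.comp_apply]
  congr 1
  apply Units.ext
  rfl

theorem kap0_mem (hn : 1 ≤ n) (σ : F ≃+* F) (F₀ : Subfield F) (hF₀ : ∀ x, x ∈ F₀ ↔ σ x = x)
    (s : SpecialLinearGroup (Fin n) F₀) :
    kap0 n F₀ s ∈ Cfsg.Inn (ProjectiveSpecialLinearGroup (Fin n) F) ⊓
      Subgroup.centralizer {fieldL n σ} := by
  refine ⟨?_, ?_⟩
  · rw [kap0_eq_conj]
    exact ⟨_, rfl⟩
  · have h1 : kap0 n F₀ s ∈ (LamHom n F₀).range := ⟨_, rfl⟩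
    rw [LamHom_range hn σ F₀ hF₀] at h1
    exact h1.2

theorem kap0_eq_one (hn : 1 ≤ n) (F₀ : Subfield F) (s : SpecialLinearGroup (Fin n) F₀)
    (h : kap0 n F₀ s = 1) : s ∈ Subgroup.center (SpecialLinearGroup (Fin n) F₀) := by
  rw [kap0_apply, ← MonoidHom.mem_ker, LamHom_ker hn,
    Matrix.GeneralLinearGroup.center_eq_range_scalar] at h
  obtain ⟨u, hu⟩ := h
  rw [Matrix.SpecialLinearGroup.mem_center_iff]
  have hmat : Matrix.scalar (Fin n) (u : ↥F₀) = (s : Matrix (Fin n) (Fin n) ↥F₀) := by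
    have := congrArg (fun x : GL (Fin n) ↥F₀ => (x : Matrix (Fin n) (Fin n) ↥F₀)) hu
    simpa using this
  refine ⟨(u : ↥F₀), ?_, hmat⟩
  have hdet := s.2
  rw [← hmat, Matrix.scalar_apply, Matrix.det_diagonal, Finset.prod_const, Finset.card_univ] at hdet
  exact hdet

theorem kap0_conj (F₀ : Subfield F) (g₀ : GL (Fin n) F₀) (s : SpecialLinearGroup (Fin n) F₀) :
    LamHom n F₀ g₀ * kap0 n F₀ s * (LamHom n F₀ g₀)⁻¹ = kap0 n F₀ (conjSL g₀ s) := by
  rw [kap0_apply, kap0_apply, ← map_inv, ← map_mul, ← map_mul]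
  congr 1
  apply Units.ext
  rw [Units.val_mul, Units.val_mul]
  rfl

end

end Cfsg.Agent.Lib.Helper16.LC

namespace Cfsg.Agent.Lib.Helper16.LC

open Matrix Cfsg.Agent.Lib.Helper16.AP Cfsg.Agent.Lib.Helper16.PG Cfsg.Agent.Lib.Helper16.AF
  Cfsg.Agent.Lib.Helper16.H9

universe u

section
variable {n : ℕ} {F : Type u} [Field F] [Fintype F]

theorem finite_mulAut_psl : Finite (MulAut (ProjectiveSpecialLinearGroup (Fin n) F)) := by
  have hfin : Finite (ProjectiveSpecialLinearGroup (Fin n) F) := by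
    unfold ProjectiveSpecialLinearGroup
    infer_instance
  exact Finite.of_injective (fun e => (e : ProjectiveSpecialLinearGroup (Fin n) F →
    ProjectiveSpecialLinearGroup (Fin n) F)) DFunLike.coe_injective

set_option maxHeartbeats 1600000 in
/-- a normal `p'`-subgroup of the centraliser of a standard field automorphism of prime order `p`
is trivial, when `O_{p'}(PSL_n(F₀)) = 1`. -/
theorem field_core_psl (hn : 2 ≤ n) (σ : F ≃+* F) (F₀ : Subfield F) (hF₀ : ∀ x, x ∈ F₀ ↔ σ x = x)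
    (hinj : Function.Injective (MulAut.conj : ProjectiveSpecialLinearGroup (Fin n) F →*
      MulAut (ProjectiveSpecialLinearGroup (Fin n) F)))
    (p : ℕ) (hp : p.Prime) (hord : orderOf (σ : RingAut F) = p)
    (hP : SLCore n ↥F₀ p)
    (A N' : Subgroup (MulAut (ProjectiveSpecialLinearGroup (Fin n) F)))
    (hInnA : Cfsg.Inn (ProjectiveSpecialLinearGroup (Fin n) F) ≤ A)
    (hNA : N' ≤ A ⊓ Subgroup.centralizer {fieldL n σ})
    (hnorm : ∀ c ∈ A ⊓ Subgroup.centralizer {fieldL n σ}, ∀ y ∈ N', c * y * c⁻¹ ∈ N')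
    (hcop : (Nat.card N').Coprime p) : N' = ⊥ := by
  classical
  have hn1 : 1 ≤ n := by omega
  have hfinM := finite_mulAut_psl (n := n) (F := F)
  set x := fieldL n σ with hx
  set κ := kap0 n F₀ with hκ
  have hκI : ∀ s, κ s ∈ Cfsg.Inn (ProjectiveSpecialLinearGroup (Fin n) F) ⊓
      Subgroup.centralizer {x} := kap0_mem hn1 σ F₀ hF₀
  have hκC : ∀ s, κ s ∈ A ⊓ Subgroup.centralizer {x} := fun s => ⟨hInnA (hκI s).1, (hκI s).2⟩
  -- Step 1
  set M : Subgroup (SpecialLinearGroup (Fin n) ↥F₀) := N'.comap κ with hM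
  have hMN : M.Normal := by
    constructor
    intro k hk l
    show κ (l * k * l⁻¹) ∈ N'
    rw [map_mul, map_mul, map_inv]
    exact hnorm _ (hκC l) _ hk
  have hMp : ∀ m ∈ M, ∃ k : ℕ, Nat.Coprime k p ∧
      m ^ k ∈ Subgroup.center (SpecialLinearGroup (Fin n) ↥F₀) := by
    intro m hm
    refine ⟨Nat.card N', hcop, ?_⟩
    apply kap0_eq_one hn1
    rw [map_pow]
    have h1 : (⟨κ m, hm⟩ : ↥N') ^ Nat.card N' = 1 := pow_card_eq_one'
    have h2 := congrArg (fun t : ↥N' => (t : MulAut (ProjectiveSpecialLinearGroup (Fin n) F))) h1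
    exact h2
  have hMc := hP M hMN hMp
  have hcase : ∀ s, κ s ∈ N' → κ s = 1 := by
    intro s hs
    have h1 : s ∈ Subgroup.center (SpecialLinearGroup (Fin n) ↥F₀) := hMc hs
    rw [Matrix.SpecialLinearGroup.mem_center_iff] at h1
    obtain ⟨r, hr, hrs⟩ := h1
    rw [hκ, kap0_apply, ← MonoidHom.mem_ker, LamHom_ker hn1,
      Matrix.GeneralLinearGroup.center_eq_range_scalar]
    have hr0 : r ≠ 0 := by
      rintro rfl
      rw [Fintype.card_fin, zero_pow (by omega)] at hr
      exact zero_ne_one hr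
    refine ⟨Units.mk0 r hr0, ?_⟩
    apply Units.ext
    rw [Matrix.GeneralLinearGroup.coe_scalar, Units.val_mk0]
    exact hrs
  -- Step 2
  have hND : ∀ y ∈ N', y ∈ (Phi n F).range → y = 1 := by
    intro y hyN hyD
    have hyC : y ∈ Subgroup.centralizer {x} := (hNA hyN).2
    have hyR : y ∈ (LamHom n F₀).range := by
      rw [LamHom_range hn1 σ F₀ hF₀]; exact ⟨hyD, hyC⟩
    obtain ⟨g₀, rfl⟩ := hyR
    have h1 : Phi n ↥F₀ g₀ = 1 := by
      apply MulEquiv.ext
      intro k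
      induction k using QuotientGroup.induction_on with
      | H s =>
        rw [Phi_mk, MulAut.one_apply]
        have h2 : κ (conjSL g₀ s * s⁻¹) ∈ N' := by
          rw [map_mul, map_inv, hκ, ← kap0_conj]
          have e1 : LamHom n F₀ g₀ * kap0 n F₀ s * (LamHom n F₀ g₀)⁻¹ * (kap0 n F₀ s)⁻¹ =
              LamHom n F₀ g₀ * (kap0 n F₀ s * (LamHom n F₀ g₀)⁻¹ * (kap0 n F₀ s)⁻¹) := by group
          rw [e1]
          exact N'.mul_mem hyN (hnorm _ (hκC s) _ (N'.inv_mem hyN))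
        have h3 := kap0_eq_one hn1 F₀ _ (hcase _ h2)
        rw [QuotientGroup.eq, ← Subgroup.inv_mem_iff]
        have e2 : ((conjSL g₀ s)⁻¹ * s)⁻¹ = s⁻¹ * conjSL g₀ s := by group
        rw [e2]
        have h4 : s⁻¹ * conjSL g₀ s = s⁻¹ * (conjSL g₀ s * s⁻¹) * s := by group
        rw [h4]
        exact (Subgroup.center (SpecialLinearGroup (Fin n) ↥F₀)).normal_of_characteristic.conj_mem' _ h3 s
    rw [Phi_eq_one_iff, Cfsg.Geo.mem_scalars_iff] at h1
    obtain ⟨c, hc⟩ := h1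
    rw [← MonoidHom.mem_ker, LamHom_ker hn1, Matrix.GeneralLinearGroup.center_eq_range_scalar]
    refine ⟨c, ?_⟩
    apply Units.ext
    rw [Matrix.GeneralLinearGroup.coe_scalar, hc]
    ext i j
    simp [Matrix.scalar_apply, Matrix.diagonal_apply, Matrix.one_apply]
  -- Step 3
  have hcomm := comm_of_inf_bot A N' (Phi n F).range x hInnA Inn_le_range_Phi hnorm hND
  -- Step 4
  have hfixX : ∀ y ∈ N', ∀ (i j : Fin n) (hij : i ≠ j) (t : F), σ t = t →
      y (X i j hij t) = X i j hij t := by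
    intro y hy i j hij t ht
    apply fix_of_comm_conj hinj
    apply hcomm y hy
    refine ⟨⟨_, rfl⟩, ?_⟩
    apply conj_mem_centralizer
    rw [hx, fieldL_X, ht]
  have hmain : ∀ y ∈ N', ∀ (h : GL (Fin n) F) (τ : F ≃+* F), y = Phi n F h * fieldL n τ → y = 1 := by
    intro y hy h τ hyeq
    have hτfix : ∀ t ∈ {t : F | σ t = t}, τ t = t := by
      apply tau_fix_of_fix_X hn h τ {t : F | σ t = t} (map_one σ)
      intro t ht
      rw [← hyeq]
      exact hfixX y hy _ _ _ t ht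
    have hτmem : (τ : RingAut F) ∈ Subgroup.zpowers (σ : RingAut F) := by
      apply Cfsg.Agent.Lib.Helper16.UF.mem_zpowers_of_fix
      intro t ht
      exact hτfix t ht
    have hτp : (τ : RingAut F) ^ p = 1 := by
      obtain ⟨k, hk⟩ := Subgroup.mem_zpowers_iff.mp hτmem
      have hσp : (σ : RingAut F) ^ p = 1 := by rw [← hord]; exact pow_orderOf_eq_one _
      rw [← hk, ← zpow_natCast, ← _root_.zpow_mul, mul_comm, _root_.zpow_mul, zpow_natCast, hσp,
        _root_.one_zpow]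
    have hyp : y ^ p = 1 := by
      apply hND _ (N'.pow_mem hy p)
      rw [hyeq]
      have := pow_Phi_fieldL (n := n) (τ : RingAut F) h p
      rw [this, hτp]
      refine ⟨tw (τ : RingAut F) h p, ?_⟩
      have h1 : fieldL n ((1 : RingAut F) : F ≃+* F) =
          (1 : MulAut (ProjectiveSpecialLinearGroup (Fin n) F)) := fieldL_refl
      rw [h1, mul_one]
    have h1 : orderOf y ∣ p := orderOf_dvd_of_pow_eq_one hyp
    have h3 : orderOf y ∣ Nat.card N' := by
      have := orderOf_dvd_natCard (⟨_, hy⟩ : ↥N')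
      rwa [Subgroup.orderOf_mk] at this
    have h4 : orderOf y = 1 :=
      Nat.Coprime.eq_one_of_dvd (Nat.Coprime.coprime_dvd_left h3 hcop) h1
    exact orderOf_eq_one_iff.mp h4
  rw [eq_bot_iff]
  intro y hy
  rw [Subgroup.mem_bot]
  rcases Nat.lt_or_ge 2 n with h3 | h2
  · obtain ⟨g, τ, ε, hε, hyeq⟩ := aut_PSL_struct hn y
    rcases hε with rfl | rfl
    · rw [mul_one] at hyeq
      exact hmain y hy g τ hyeq
    · exfalso
      apply iota_case_false h3 g τ
      intro i j hij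
      rw [← hyeq]
      exact hfixX y hy i j hij 1 (map_one σ)
  · obtain rfl : n = 2 := le_antisymm h2 hn
    obtain ⟨g, τ, hyeq⟩ := aut_PSL_two y
    exact hmain y hy g τ hyeq

end

end Cfsg.Agent.Lib.Helper16.LC
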