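import Mathlib
import Cfsg.Agent.Lib.Helper16.LC3

set_option autoImplicit false
set_option linter.unusedSectionVars false
set_option linter.unusedVariables false

/-! Elements of order `p` in `PSL_n` of the fixed field. -/

namespace Cfsg.Agent.Lib.Helper16.LC

open Matrix Cfsg.Agent.Lib.Helper16.AP Cfsg.Agent.Lib.Helper16.PG Cfsg.Agent.Lib.Helper16.AF
  Cfsg.Agent.Lib.Helper16.H9

universe u

section any
variable {n : ℕ} {E : Type u} [Field E]

/-- the diagonal element `diag(a, …, a⁻¹)` is central only in small cases. -/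
theorem diag2n_central (hn : 2 ≤ n) (a : E) (ha : a ≠ 0)
    (h : SpecialLinearGroup.diag2n (fst_ne_lst hn) a ha ∈
      Subgroup.center (SpecialLinearGroup (Fin n) E)) : a ^ 2 = 1 ∧ (3 ≤ n → a = 1) := by
  rw [Matrix.SpecialLinearGroup.mem_center_iff] at h
  obtain ⟨r, -, hr⟩ := h
  rw [SpecialLinearGroup.diag2n_coe] at hr
  have h1 := congrFun (congrFun hr (fst hn)) (fst hn)
  have h2 := congrFun (congrFun hr (lst hn)) (lst hn)
  rw [Matrix.scalar_apply, Matrix.diagonal_apply_eq, Matrix.diagonal_apply_eq] at h1 h2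
  rw [if_pos rfl] at h1
  rw [if_neg (fst_ne_lst hn).symm, if_pos rfl] at h2
  refine ⟨?_, ?_⟩
  · have h3 : a = a⁻¹ := h1.symm.trans h2
    calc a ^ 2 = a * a := pow_two a
      _ = a * a⁻¹ := by rw [← h3]
      _ = 1 := mul_inv_cancel₀ ha
  · intro h3
    obtain ⟨k, hk1, hk2⟩ := exists_third h3 (fst hn) (lst hn)
    have h4 := congrFun (congrFun hr k) k
    rw [Matrix.scalar_apply, Matrix.diagonal_apply_eq, Matrix.diagonal_apply_eq, if_neg hk1,
      if_neg hk2] at h4
    rw [← h1, h4]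

theorem diag2n_pow (hn : 2 ≤ n) (a : E) (ha : a ≠ 0) (k : ℕ) (hk : a ^ k = 1) :
    SpecialLinearGroup.diag2n (fst_ne_lst hn) a ha ^ k = 1 := by
  apply Subtype.ext
  rw [Matrix.SpecialLinearGroup.coe_pow, SpecialLinearGroup.diag2n_coe, Matrix.diagonal_pow]
  rw [Matrix.SpecialLinearGroup.coe_one, ← Matrix.diagonal_one]
  congr 1
  ext i
  rw [Pi.pow_apply]
  show _ = (1 : E)
  split_ifs
  · exact hk
  · rw [inv_pow, hk, inv_one]
  · exact one_pow k

/-- the Weyl element of `SL_2`. -/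
def wSL (E : Type u) [Field E] : SpecialLinearGroup (Fin 2) E :=
  ⟨!![0, 1; -1, 0], by rw [Matrix.det_fin_two_of]; ring⟩

theorem wSL_sq : ((wSL E : SpecialLinearGroup (Fin 2) E) : Matrix (Fin 2) (Fin 2) E) ^ 2 =
    (-1 : E) • 1 := by
  unfold wSL
  rw [pow_two]
  ext i j
  fin_cases i <;> fin_cases j <;> simp [Matrix.mul_apply, Fin.sum_univ_two]

theorem wSL_not_central : wSL E ∉ Subgroup.center (SpecialLinearGroup (Fin 2) E) := by
  intro h
  rw [Matrix.SpecialLinearGroup.mem_center_iff] at h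
  obtain ⟨r, -, hr⟩ := h
  have h1 := congrFun (congrFun hr 0) 1
  unfold wSL at h1
  simp [Matrix.scalar_apply] at h1

/-- an element of order `p` in `PSL_n`, when `p` divides `q - 1`. -/
theorem exists_order_p_of_root [Fintype E] (hn : 2 ≤ n) (p : ℕ) [hp : Fact p.Prime]
    (hd : p ∣ Fintype.card E - 1) :
    ∃ t : ProjectiveSpecialLinearGroup (Fin n) E, orderOf t = p := by
  classical
  have hcard : Fintype.card Eˣ = Fintype.card E - 1 := Fintype.card_units E
  have hd' : p ∣ Nat.card Eˣ := by rw [Nat.card_eq_fintype_card, hcard]; exact hd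
  obtain ⟨ζ, hζ⟩ := exists_prime_orderOf_dvd_card' p hd'
  have hζp : (ζ : E) ^ p = 1 := by
    rw [← Units.val_pow_eq_pow_val, ← hζ, pow_orderOf_eq_one, Units.val_one]
  by_cases hsmall : p = 2 ∧ n = 2
  · obtain ⟨hp2, rfl⟩ := hsmall
    refine ⟨QuotientGroup.mk (wSL E), ?_⟩
    apply orderOf_eq_prime
    · rw [hp2]
      exact mk_pow_eq_one_of_sign (wSL E) 2 (-1) (by norm_num) wSL_sq
    · intro h
      rw [QuotientGroup.eq_one_iff] at h
      exact wSL_not_central h
  · refine ⟨QuotientGroup.mk (SpecialLinearGroup.diag2n (fst_ne_lst hn) (ζ : E) ζ.ne_zero), ?_⟩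
    apply orderOf_eq_prime
    · rw [← QuotientGroup.mk_pow, diag2n_pow hn _ _ p hζp]
      rfl
    · intro h
      rw [QuotientGroup.eq_one_iff] at h
      obtain ⟨h1, h2⟩ := diag2n_central hn _ _ h
      apply hsmall
      have hζ2 : ζ ^ 2 = 1 := by
        apply Units.ext
        rw [Units.val_pow_eq_pow_val, h1, Units.val_one]
      have hp2 : p ∣ 2 := by rw [← hζ]; exact orderOf_dvd_of_pow_eq_one hζ2
      have hp2' : p = 2 := (Nat.prime_dvd_prime_iff_eq hp.out Nat.prime_two).mp hp2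
      refine ⟨hp2', ?_⟩
      by_contra hn2
      have h3 : 3 ≤ n := by omega
      have hζ1 : ζ = 1 := Units.ext (h2 h3)
      rw [hζ1, orderOf_one] at hζ
      exact hp.out.one_lt.ne hζ

end any

end Cfsg.Agent.Lib.Helper16.LC

namespace Cfsg.Agent.Lib.Helper16.LC

open Matrix Cfsg.Agent.Lib.Helper16.AP Cfsg.Agent.Lib.Helper16.PG Cfsg.Agent.Lib.Helper16.AF
  Cfsg.Agent.Lib.Helper16.H9

universe u

section
variable {n : ℕ} {F : Type u} [Field F] [Fintype F]

theorem kap0_of_center (hn : 1 ≤ n) (F₀ : Subfield F) (s : SpecialLinearGroup (Fin n) ↥F₀)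
    (h1 : s ∈ Subgroup.center (SpecialLinearGroup (Fin n) ↥F₀)) : kap0 n F₀ s = 1 := by
  rw [Matrix.SpecialLinearGroup.mem_center_iff] at h1
  obtain ⟨r, hr, hrs⟩ := h1
  rw [kap0_apply, ← MonoidHom.mem_ker, LamHom_ker hn,
    Matrix.GeneralLinearGroup.center_eq_range_scalar]
  have hr0 : r ≠ 0 := by
    rintro rfl
    rw [Fintype.card_fin, zero_pow (by omega)] at hr
    exact zero_ne_one hr
  refine ⟨Units.mk0 r hr0, ?_⟩
  apply Units.ext
  rw [Matrix.GeneralLinearGroup.coe_scalar, Units.val_mk0]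
  exact hrs

set_option maxHeartbeats 1600000 in
/-- `O_{p'}(PSL_n(F₀)) = 1` when `p` divides the order of the fixed points. -/
theorem slCore_of_dvd (hn : 2 ≤ n) {r : ℕ} [hr : Fact r.Prime] [hch : CharP F r] (σ : F ≃+* F)
    (F₀ : Subfield F) (hF₀ : ∀ x, x ∈ F₀ ↔ σ x = x) (p : ℕ) [hp : Fact p.Prime] (hpr : p ≠ r)
    (hpd : p ∣ Nat.card ↥(Cfsg.Inn (ProjectiveSpecialLinearGroup (Fin n) F) ⊓
      Subgroup.centralizer {fieldL n σ})) : SLCore n ↥F₀ p := by
  classical
  have hn1 : 1 ≤ n := by omega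
  have hfinM := finite_mulAut_psl (n := n) (F := F)
  let _ : Fintype ↥F₀ := Fintype.ofFinite ↥F₀
  obtain ⟨y, hy⟩ := exists_prime_orderOf_dvd_card' p hpd
  have hyI := y.2
  have hyR : (y : MulAut (ProjectiveSpecialLinearGroup (Fin n) F)) ∈ (LamHom n F₀).range := by
    rw [LamHom_range hn1 σ F₀ hF₀]
    exact ⟨Inn_le_range_Phi hyI.1, hyI.2⟩
  obtain ⟨g₀, hg₀⟩ := hyR
  have hyord : orderOf (y : MulAut (ProjectiveSpecialLinearGroup (Fin n) F)) = p := by
    rw [Subgroup.orderOf_coe]; exact hy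
  set q₀ := Fintype.card ↥F₀ with hq₀
  have hq1 : 1 < q₀ := Fintype.one_lt_card
  have hrq : r ∣ q₀ := by
    have h1 : ((q₀ : ↥F₀) : F) = 0 := by
      rw [hq₀, Nat.cast_card_eq_zero]; rfl
    have h2 : ((q₀ : ℕ) : F) = 0 := by
      rw [← h1]; simp
    exact (CharP.cast_eq_zero_iff F r q₀).mp h2
  by_cases hs : n = 2 ∧ q₀ ≤ 3
  · obtain ⟨rfl, hq3⟩ := hs
    have hpo : p ∣ orderOf g₀ := by
      rw [← hyord, ← hg₀]; exact orderOf_map_dvd _ _
    have hpc : p ∣ Nat.card (GL (Fin 2) ↥F₀) := dvd_trans hpo (orderOf_dvd_natCard g₀)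
    rw [Matrix.card_GL_field, Fin.prod_univ_two] at hpc
    simp only [Fin.val_zero, Fin.val_one, pow_zero, pow_one] at hpc
    rw [← hq₀] at hpc
    apply slCore_small hp.out
    have h23 : q₀ = 2 ∨ q₀ = 3 := by omega
    rcases h23 with h2 | h3
    · left
      refine ⟨h2, ?_⟩
      rw [h2] at hpc hrq
      have hr2 : r = 2 := (Nat.prime_dvd_prime_iff_eq hr.out Nat.prime_two).mp hrq
      have h6 : p ∣ 2 * 3 := by norm_num at hpc ⊢; exact hpc
      rcases (Nat.Prime.dvd_mul hp.out).mp h6 with h | h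
      · exact absurd ((Nat.prime_dvd_prime_iff_eq hp.out Nat.prime_two).mp h) (hr2 ▸ hpr)
      · exact (Nat.prime_dvd_prime_iff_eq hp.out Nat.prime_three).mp h
    · right
      refine ⟨h3, ?_⟩
      rw [h3] at hpc hrq
      have hr3 : r = 3 := (Nat.prime_dvd_prime_iff_eq hr.out Nat.prime_three).mp hrq
      have h48 : p ∣ 2 ^ 4 * 3 := by norm_num at hpc ⊢; exact hpc
      rcases (Nat.Prime.dvd_mul hp.out).mp h48 with h | h
      · exact (Nat.prime_dvd_prime_iff_eq hp.out Nat.prime_two).mp (hp.out.dvd_of_dvd_pow h)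
      · exact absurd ((Nat.prime_dvd_prime_iff_eq hp.out Nat.prime_three).mp h) (hr3 ▸ hpr)
  · have hsimple : IsSimpleGroup (ProjectiveSpecialLinearGroup (Fin n) ↥F₀) := by
      apply psl_simple hn
      intro h2
      rw [Nat.card_eq_fintype_card]
      by_contra hlt
      exact hs ⟨h2, by omega⟩
    by_cases hd : p ∣ q₀ - 1
    · obtain ⟨t, ht⟩ := exists_order_p_of_root (E := ↥F₀) hn p hd
      exact slCore_of_simple p hp.out hsimple t ht
    · have hdet : ((g₀ ^ (q₀ - 1) : GL (Fin n) ↥F₀) : Matrix (Fin n) (Fin n) ↥F₀).det = 1 := by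
        rw [Units.val_pow_eq_pow_val, Matrix.det_pow]
        apply FiniteField.pow_card_sub_one_eq_one
        intro h0
        have := Matrix.GeneralLinearGroup.det g₀
        have h1 : ((Matrix.GeneralLinearGroup.det g₀ : (↥F₀)ˣ) : ↥F₀) = 0 := by
          rw [Matrix.GeneralLinearGroup.val_det_apply]; exact h0
        exact (Matrix.GeneralLinearGroup.det g₀).ne_zero h1
      set s₂ : SpecialLinearGroup (Fin n) ↥F₀ :=
        ⟨((g₀ ^ (q₀ - 1) : GL (Fin n) ↥F₀) : Matrix (Fin n) (Fin n) ↥F₀), hdet⟩ with hs₂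
      have hκ : kap0 n F₀ s₂ = (y : MulAut (ProjectiveSpecialLinearGroup (Fin n) F)) ^ (q₀ - 1) := by
        rw [kap0_apply, ← hg₀, ← map_pow]
        congr 1
        apply Units.ext
        rfl
      have hcop : (orderOf (y : MulAut (ProjectiveSpecialLinearGroup (Fin n) F))).Coprime (q₀ - 1) := by
        rw [hyord]
        exact (Nat.Prime.coprime_iff_not_dvd hp.out).mpr hd
      have hκord : orderOf (kap0 n F₀ s₂) = p := by
        rw [hκ, hcop.orderOf_pow, hyord]
      refine slCore_of_simple p hp.out hsimple (QuotientGroup.mk s₂) ?_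
      apply orderOf_eq_prime
      · rw [← QuotientGroup.mk_pow, QuotientGroup.eq_one_iff]
        apply kap0_eq_one hn1
        rw [map_pow, ← hκord, pow_orderOf_eq_one]
      · intro h
        rw [QuotientGroup.eq_one_iff] at h
        have := kap0_of_center hn1 F₀ s₂ h
        rw [this, orderOf_one] at hκord
        exact hp.out.one_lt.ne hκord

end

end Cfsg.Agent.Lib.Helper16.LC
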