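import Mathlib
import Cfsg.Agent.Lib.Helper16.LC4
import Cfsg.Agent.Lib.Helper16.OL15
import Cfsg.Agent.Lib.Helper16.OM24

set_option autoImplicit false
set_option linter.unusedSectionVars false
set_option linter.unusedVariables false

/-! `O_{p'}` of the centraliser of a field automorphism of prime order of `PSL_n`. -/

namespace Cfsg.Agent.Lib.Helper16.LC

open Matrix Cfsg.Agent.Lib.Helper16.AP Cfsg.Agent.Lib.Helper16.PG Cfsg.Agent.Lib.Helper16.AF
  Cfsg.Agent.Lib.Helper16.H9 Cfsg.Agent.Lib.Helper16.OL Cfsg.Agent.Lib.Helper16.OM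

universe u

section grp
variable {K : Type u} [Group K]

/-- transport of the `p'`-core of a centraliser along a conjugation. -/
theorem core_conj_transport (p : ℕ) (α x : MulAut K) (A : Subgroup (MulAut K)) :
    Cfsg.pPrimeCore p ↥(A ⊓ Subgroup.centralizer {α * x * α⁻¹}) ≠ ⊥ ↔
      Cfsg.pPrimeCore p ↥(A.map (MulAut.conj α⁻¹).toMonoidHom ⊓ Subgroup.centralizer {x}) ≠ ⊥ := by
  have hD : ∀ β, β ∈ A ↔ (MulAut.conj α⁻¹) β ∈ A.map (MulAut.conj α⁻¹).toMonoidHom := by
    intro β
    constructor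
    · intro h
      exact Subgroup.mem_map_of_mem _ h
    · rintro ⟨β', hβ', e⟩
      have : β' = β := (MulAut.conj α⁻¹).injective e
      rw [← this]
      exact hβ'
  obtain ⟨e1⟩ := cent_transport (MulAut.conj α⁻¹) A _ hD (α * x * α⁻¹)
  have h1 : (MulAut.conj α⁻¹) (α * x * α⁻¹) = x := by
    rw [MulAut.conj_apply]; group
  rw [h1] at e1
  exact pPrimeCore_ne_bot_congr p e1

theorem inn_le_map_conj (α : MulAut K) (A : Subgroup (MulAut K)) (hInnA : Cfsg.Inn K ≤ A) :
    Cfsg.Inn K ≤ A.map (MulAut.conj α⁻¹).toMonoidHom := by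
  intro β hβ
  refine ⟨α * β * α⁻¹, hInnA (inn_normal'.conj_mem β hβ α), ?_⟩
  show (MulAut.conj α⁻¹) (α * β * α⁻¹) = β
  rw [MulAut.conj_apply]; group

end grp

section
variable {n : ℕ} {F : Type u} [Field F] [Fintype F]

set_option maxHeartbeats 1600000 in
/-- `O_{p'}` of the centraliser of a standard field automorphism of prime order `p`. -/
theorem core_field_psl_std (hn : 2 ≤ n) {r : ℕ} [hr : Fact r.Prime] [hch : CharP F r]
    (σ : F ≃+* F)
    (hinj : Function.Injective (MulAut.conj : ProjectiveSpecialLinearGroup (Fin n) F →*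
      MulAut (ProjectiveSpecialLinearGroup (Fin n) F)))
    (p : ℕ) [hp : Fact p.Prime] (hpr : p ≠ r) (hord : orderOf (σ : RingAut F) = p)
    (A : Subgroup (MulAut (ProjectiveSpecialLinearGroup (Fin n) F)))
    (hInnA : Cfsg.Inn (ProjectiveSpecialLinearGroup (Fin n) F) ≤ A) :
    Cfsg.pPrimeCore p ↥(A ⊓ Subgroup.centralizer {fieldL n σ}) ≠ ⊥ ↔
      Nat.Coprime p (Nat.card ↥(MonoidHom.eqLocus (fieldL n σ).toMonoidHom
        (MonoidHom.id (ProjectiveSpecialLinearGroup (Fin n) F)))) := by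
  classical
  have hn1 : 1 ≤ n := by omega
  set φ := fieldL n σ with hφ
  set F₀ : Subfield F := FixedPoints.subfield (Subgroup.zpowers (σ : RingAut F)) F with hF₀def
  have hF₀ : ∀ y, y ∈ F₀ ↔ σ y = y := fun y => Cfsg.Agent.Lib.Helper16.mem_fixed_iff σ y
  have hInnN : (Cfsg.Inn (ProjectiveSpecialLinearGroup (Fin n) F)).Normal := inn_normal'
  rw [← card_inn_inf_centralizer hinj φ, pPrimeCore_ne_bot_iff]
  constructor
  · rintro ⟨N, hN1, hN2, hN3⟩
    by_contra hcop
    have hpd : p ∣ Nat.card ↥(Cfsg.Inn (ProjectiveSpecialLinearGroup (Fin n) F) ⊓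
        Subgroup.centralizer {φ}) := by
      by_contra hnd
      exact hcop ((Nat.Prime.coprime_iff_not_dvd hp.out).mpr hnd)
    have hP := slCore_of_dvd hn σ F₀ hF₀ p hpr hpd
    set N' : Subgroup (MulAut (ProjectiveSpecialLinearGroup (Fin n) F)) :=
      N.map (A ⊓ Subgroup.centralizer {φ}).subtype with hN'
    have hN'le : N' ≤ A ⊓ Subgroup.centralizer {φ} := by
      rintro _ ⟨y, -, rfl⟩
      exact y.2
    have hN'norm : ∀ c ∈ A ⊓ Subgroup.centralizer {φ}, ∀ y ∈ N', c * y * c⁻¹ ∈ N' := by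
      rintro c hc' _ ⟨y, hy', rfl⟩
      exact ⟨⟨c, hc'⟩ * y * ⟨c, hc'⟩⁻¹, hN1.conj_mem y hy' ⟨c, hc'⟩, rfl⟩
    have hN'card : (Nat.card N').Coprime p := by
      rw [hN', Subgroup.card_map_of_injective (Subgroup.subtype_injective _)]
      exact hN2
    have hbot : N' = ⊥ := field_core_psl hn σ F₀ hF₀ hinj p hp.out hord hP A N' hInnA hN'le
      hN'norm hN'card
    apply hN3
    rw [eq_bot_iff]
    intro y hy'
    have h1 : (A ⊓ Subgroup.centralizer {φ}).subtype y ∈ N' := ⟨y, hy', rfl⟩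
    rw [hbot, Subgroup.mem_bot] at h1
    rw [Subgroup.mem_bot]
    exact Subtype.ext h1
  · intro hcop
    have hle : Cfsg.Inn (ProjectiveSpecialLinearGroup (Fin n) F) ⊓
        Subgroup.centralizer {φ} ≤ A ⊓ Subgroup.centralizer {φ} := inf_le_inf_right _ hInnA
    refine ⟨(Cfsg.Inn (ProjectiveSpecialLinearGroup (Fin n) F) ⊓
      Subgroup.centralizer {φ}).subgroupOf (A ⊓ Subgroup.centralizer {φ}), ?_, ?_, ?_⟩
    · constructor
      intro y hy' c
      rw [Subgroup.mem_subgroupOf] at hy' ⊢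
      refine ⟨?_, ?_⟩
      · exact hInnN.conj_mem _ hy'.1 _
      · exact (Subgroup.centralizer {φ}).mul_mem ((Subgroup.centralizer {φ}).mul_mem c.2.2 hy'.2)
          ((Subgroup.centralizer {φ}).inv_mem c.2.2)
    · rw [Nat.card_congr (Subgroup.subgroupOfEquivOfLe hle).toEquiv]
      exact hcop.symm
    · -- non-triviality
      set s : SpecialLinearGroup (Fin n) ↥F₀ :=
        SpecialLinearGroup.transvection (fst_ne_lst hn) 1 with hs
      have hmem := kap0_mem hn1 σ F₀ hF₀ s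
      intro hbot
      have h1 : (⟨_, hle hmem⟩ : ↥(A ⊓ Subgroup.centralizer {φ})) ∈
          (Cfsg.Inn (ProjectiveSpecialLinearGroup (Fin n) F) ⊓
            Subgroup.centralizer {φ}).subgroupOf (A ⊓ Subgroup.centralizer {φ}) := by
        rw [Subgroup.mem_subgroupOf]; exact hmem
      rw [hbot, Subgroup.mem_bot] at h1
      have h3 : kap0 n F₀ s = 1 := congrArg Subtype.val h1
      have h4 := kap0_eq_one hn1 F₀ s h3
      rw [hs, SpecialLinearGroup.transvection_mem_center_iff] at h4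
      exact one_ne_zero h4

/-- `O_{p'}` of the centraliser of an automorphism `Φ(g) φ_σ` of prime order `p`. -/
theorem core_field_psl (hn : 2 ≤ n) {r : ℕ} [hr : Fact r.Prime] [hch : CharP F r]
    (σ : F ≃+* F) (hσ : (σ : RingAut F) ≠ 1) (g : GL (Fin n) F)
    (hinj : Function.Injective (MulAut.conj : ProjectiveSpecialLinearGroup (Fin n) F →*
      MulAut (ProjectiveSpecialLinearGroup (Fin n) F)))
    (p : ℕ) [hp : Fact p.Prime] (hpr : p ≠ r) (hord : orderOf (Phi n F g * fieldL n σ) = p)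
    (A : Subgroup (MulAut (ProjectiveSpecialLinearGroup (Fin n) F)))
    (hInnA : Cfsg.Inn (ProjectiveSpecialLinearGroup (Fin n) F) ≤ A) :
    Cfsg.pPrimeCore p ↥(A ⊓ Subgroup.centralizer {Phi n F g * fieldL n σ}) ≠ ⊥ ↔
      Nat.Coprime p (Nat.card ↥(MonoidHom.eqLocus (Phi n F g * fieldL n σ).toMonoidHom
        (MonoidHom.id (ProjectiveSpecialLinearGroup (Fin n) F)))) := by
  have hn1 : 1 ≤ n := by omega
  have hpow : (Phi n F g * fieldL n σ) ^ p = 1 := by rw [← hord]; exact pow_orderOf_eq_one _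
  have hσp : (σ : RingAut F) ^ p = 1 := by
    have h1 := hpow
    rw [pow_Phi_fieldL] at h1
    have h2 : fieldL n (((σ : RingAut F) ^ p : RingAut F) : F ≃+* F) ∈ (Phi n F).range := by
      refine ⟨(tw (σ : RingAut F) g p)⁻¹, ?_⟩
      rw [map_inv, inv_eq_iff_mul_eq_one]
      exact h1
    obtain ⟨g', hg'⟩ := h2
    apply RingEquiv.ext
    intro t
    exact fieldL_eq_Phi hn _ g' hg'.symm t
  have hσord : orderOf (σ : RingAut F) = p := by
    apply orderOf_eq_prime hσp hσ
  obtain ⟨h, hh⟩ := field_conj hn1 (σ : RingAut F) p hσord hp.out.pos g hpow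
  rw [hh, core_conj_transport, card_eqLocus_conj]
  exact core_field_psl_std hn σ hinj p hpr hσord _ (inn_le_map_conj _ A hInnA)

end

end Cfsg.Agent.Lib.Helper16.LC
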