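import Mathlib
import Cfsg.Agent.Lib.Helper16.LC5
import Cfsg.Agent.Lib.Helper16.OB4

set_option autoImplicit false
set_option linter.unusedSectionVars false
set_option linter.unusedVariables false

/-! A pair of transvections generating an element of order four, against an odd-order normalised
subgroup. -/

namespace Cfsg.Agent.Lib.Helper16.LC

open Matrix Cfsg.Agent.Lib.Helper16 Cfsg.Agent.Lib.Helper16.AP Cfsg.Agent.Lib.Helper16.PG
  Cfsg.Agent.Lib.Helper16.AF Cfsg.Agent.Lib.Helper16.OB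

universe u

section grp
variable {X : Type u} [Group X]

theorem mul_pow_mem_coset (N : Subgroup X) (c m : X) (hc : ∀ z ∈ N, c⁻¹ * z * c ∈ N) (hm : m ∈ N)
    (j : ℕ) : ∃ m' ∈ N, (c * m) ^ j = c ^ j * m' := by
  induction j with
  | zero => exact ⟨1, N.one_mem, by simp⟩
  | succ j ih =>
    obtain ⟨m', hm', h⟩ := ih
    refine ⟨c⁻¹ * m' * c * m, N.mul_mem (hc _ hm') hm, ?_⟩
    rw [pow_succ, h, pow_succ]
    group

theorem odd_contra (N C : Subgroup X) [Finite N] (hodd : Odd (Nat.card N))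
    (hnorm : ∀ c ∈ C, ∀ z ∈ N, c * z * c⁻¹ ∈ N)
    (y a b : X) (hy : y ∈ N) (ha : a ∈ C) (hb : b ∈ C) (r : ℕ) (hr : Odd r)
    (habr : (a * b) ^ r = 1) (hG4 : (a * (y * b * y⁻¹)) ^ 4 = 1) : a * (y * b * y⁻¹) = 1 := by
  set G := a * (y * b * y⁻¹) with hG
  set c := a * b with hc
  set m := b⁻¹ * y * b * y⁻¹ with hm
  have hGc : G = c * m := by rw [hG, hc, hm]; group
  have hmN : m ∈ N := by
    have h1 := hnorm _ (C.inv_mem hb) _ hy
    rw [inv_inv] at h1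
    rw [hm]
    exact N.mul_mem h1 (N.inv_mem hy)
  have hcC : c ∈ C := C.mul_mem ha hb
  have hcn : ∀ z ∈ N, c⁻¹ * z * c ∈ N := by
    intro z hz
    have := hnorm _ (C.inv_mem hcC) _ hz
    rwa [inv_inv] at this
  obtain ⟨m', hm', h⟩ := mul_pow_mem_coset N c m hcn hmN r
  rw [habr, one_mul, ← hGc] at h
  have h1 : (G ^ r) ^ Nat.card N = 1 := by
    rw [h]
    exact pow_card_eq_one_of_mem N m' hm'
  rw [← pow_mul] at h1
  have hd1 : orderOf G ∣ r * Nat.card N := orderOf_dvd_of_pow_eq_one h1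
  have hd2 : orderOf G ∣ 4 := orderOf_dvd_of_pow_eq_one hG4
  have hcop : Nat.Coprime 4 (r * Nat.card N) := by
    have : Odd (r * Nat.card N) := hr.mul hodd
    have h2 : Nat.Coprime 2 (r * Nat.card N) := Nat.coprime_two_left.mpr this
    exact Nat.Coprime.pow_left 2 h2
  have : orderOf G = 1 := Nat.eq_one_of_dvd_coprimes hcop hd2 hd1
  exact orderOf_eq_one_iff.mp this

end grp

section mat
variable {n : ℕ} {F : Type u} [Field F]

theorem tM_pair_pow_four (u φ u' φ' : Fin n → F) (lam mu : F) (h1 : φ ⬝ᵥ u = 0) (h2 : φ' ⬝ᵥ u' = 0)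
    (hκ : lam * mu * (φ ⬝ᵥ u') * (φ' ⬝ᵥ u) = -2) :
    (tM u φ lam * tM u' φ' mu) ^ 4 = 1 := by
  set G := tM u φ lam * tM u' φ' mu with hGdef
  set b := φ ⬝ᵥ u' with hb
  set b' := φ' ⬝ᵥ u with hb'
  have hG : ∀ w, G *ᵥ w = w + (lam * (φ ⬝ᵥ w + mu * b * (φ' ⬝ᵥ w))) • u + (mu * (φ' ⬝ᵥ w)) • u' := by
    intro w
    rw [hGdef, ← Matrix.mulVec_mulVec, tM_mulVec, tM_mulVec, dotProduct_add, dotProduct_smul, ← hb,
      smul_eq_mul]
    ext i
    simp only [Pi.add_apply, Pi.smul_apply, smul_eq_mul]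
    ring
  have hφG : ∀ w, φ ⬝ᵥ (G *ᵥ w) = φ ⬝ᵥ w + mu * b * (φ' ⬝ᵥ w) := by
    intro w
    rw [hG, dotProduct_add, dotProduct_add, dotProduct_smul, dotProduct_smul, h1, ← hb, smul_eq_mul,
      smul_eq_mul]
    ring
  have hφ'G : ∀ w, φ' ⬝ᵥ (G *ᵥ w) = lam * b' * (φ ⬝ᵥ w) - φ' ⬝ᵥ w := by
    intro w
    rw [hG, dotProduct_add, dotProduct_add, dotProduct_smul, dotProduct_smul, h2, ← hb', smul_eq_mul,
      smul_eq_mul]
    linear_combination (φ' ⬝ᵥ w) * hκ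
  have hG2 : ∀ w, G *ᵥ (G *ᵥ w) = w + (lam * mu * b * (φ' ⬝ᵥ w)) • u + (lam * mu * b' * (φ ⬝ᵥ w)) • u' := by
    intro w
    rw [hG (G *ᵥ w), hφG, hφ'G, hG w]
    ext i
    simp only [Pi.add_apply, Pi.smul_apply, smul_eq_mul]
    linear_combination (lam * (φ ⬝ᵥ w) * u i) * hκ
  have hφG2 : ∀ w, φ ⬝ᵥ (G *ᵥ (G *ᵥ w)) = -(φ ⬝ᵥ w) := by
    intro w
    rw [hφG, hφG, hφ'G]
    linear_combination (φ ⬝ᵥ w) * hκ
  have hφ'G2 : ∀ w, φ' ⬝ᵥ (G *ᵥ (G *ᵥ w)) = -(φ' ⬝ᵥ w) := by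
    intro w
    rw [hφ'G, hφG, hφ'G]
    linear_combination (φ' ⬝ᵥ w) * hκ
  rw [Matrix.ext_iff_mulVec]
  intro w
  have e : G ^ 4 = G * G * (G * G) := by
    rw [pow_succ, pow_succ, pow_succ, pow_one]
    simp only [Matrix.mul_assoc]
  have e2 : (G * G * (G * G)) *ᵥ w = G *ᵥ (G *ᵥ (G *ᵥ (G *ᵥ w))) := by
    simp only [Matrix.mulVec_mulVec, Matrix.mul_assoc]
  rw [e, e2, hG2 (G *ᵥ (G *ᵥ w)), hφG2, hφ'G2, hG2 w, Matrix.one_mulVec]
  ext i
  simp only [Pi.add_apply, Pi.smul_apply, smul_eq_mul]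
  ring

theorem tS_pow (v φ : Fin n → F) (h : φ ⬝ᵥ v = 0) (t : F) (k : ℕ) :
    (tS v φ h t) ^ k = tS v φ h (k * t) := by
  induction k with
  | zero => rw [pow_zero, Nat.cast_zero, zero_mul, tS_zero]
  | succ k ih =>
    rw [pow_succ, ih, tS_add]
    congr 1
    push_cast
    ring

end mat

section psl
variable {n : ℕ} {F : Type u} [Field F] [Fintype F]

theorem conj_apply_eq (y : MulAut (ProjectiveSpecialLinearGroup (Fin n) F))
    (k : ProjectiveSpecialLinearGroup (Fin n) F) :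
    y * MulAut.conj k * y⁻¹ = MulAut.conj (y k) := by
  rw [aut_mul_conj, mul_inv_cancel_right]

set_option maxHeartbeats 1600000 in
/-- **The transvection pair argument.** -/
theorem transv_pair_contra (hn : 3 ≤ n) {r : ℕ} [hr : Fact r.Prime] [hch : CharP F r] (hr2 : r ≠ 2)
    (hinj : Function.Injective (MulAut.conj : ProjectiveSpecialLinearGroup (Fin n) F →*
      MulAut (ProjectiveSpecialLinearGroup (Fin n) F)))
    (N C : Subgroup (MulAut (ProjectiveSpecialLinearGroup (Fin n) F))) [Finite N]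
    (hodd : Odd (Nat.card N)) (hnorm : ∀ c ∈ C, ∀ z ∈ N, c * z * c⁻¹ ∈ N)
    (y : MulAut (ProjectiveSpecialLinearGroup (Fin n) F)) (hy : y ∈ N) (fl fl' : Flag n F)
    (lam mu nu : F)
    (ha : MulAut.conj (QuotientGroup.mk (tS fl.v fl.φ fl.h lam) :
      ProjectiveSpecialLinearGroup (Fin n) F) ∈ C)
    (hb : MulAut.conj (QuotientGroup.mk (tS fl.v fl.φ fl.h mu) :
      ProjectiveSpecialLinearGroup (Fin n) F) ∈ C)
    (hyb : y (QuotientGroup.mk (tS fl.v fl.φ fl.h mu)) = QuotientGroup.mk (tS fl'.v fl'.φ fl'.h nu))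
    (hκ : lam * nu * (fl.φ ⬝ᵥ fl'.v) * (fl'.φ ⬝ᵥ fl.v) = -2) : False := by
  have h2F : (2 : F) ≠ 0 := by
    intro h
    have h1 : ((2 : ℕ) : F) = 0 := by exact_mod_cast h
    rw [CharP.cast_eq_zero_iff F r] at h1
    exact hr2 ((Nat.prime_dvd_prime_iff_eq hr.out Nat.prime_two).mp h1)
  have hrodd : Odd r := hr.out.odd_of_ne_two hr2
  set a := MulAut.conj (QuotientGroup.mk (tS fl.v fl.φ fl.h lam) :
      ProjectiveSpecialLinearGroup (Fin n) F) with hadef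
  set b := MulAut.conj (QuotientGroup.mk (tS fl.v fl.φ fl.h mu) :
      ProjectiveSpecialLinearGroup (Fin n) F) with hbdef
  have hab : (a * b) ^ r = 1 := by
    rw [hadef, hbdef, ← map_mul, ← map_pow, ← QuotientGroup.mk_mul, ← QuotientGroup.mk_pow, tS_add,
      tS_pow, CharP.cast_eq_zero F r, zero_mul, tS_zero, QuotientGroup.mk_one, map_one]
  have hyby : y * b * y⁻¹ = MulAut.conj (QuotientGroup.mk (tS fl'.v fl'.φ fl'.h nu) :
      ProjectiveSpecialLinearGroup (Fin n) F) := by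
    rw [hbdef, conj_apply_eq, hyb]
  have hGeq : a * (y * b * y⁻¹) = MulAut.conj (QuotientGroup.mk
      (tS fl.v fl.φ fl.h lam * tS fl'.v fl'.φ fl'.h nu) :
      ProjectiveSpecialLinearGroup (Fin n) F) := by
    rw [hyby, hadef, ← map_mul, ← QuotientGroup.mk_mul]
  have hG4 : (a * (y * b * y⁻¹)) ^ 4 = 1 := by
    rw [hGeq, ← map_pow, ← QuotientGroup.mk_pow]
    have : (tS fl.v fl.φ fl.h lam * tS fl'.v fl'.φ fl'.h nu) ^ 4 = 1 := by
      have e : (((tS fl.v fl.φ fl.h lam * tS fl'.v fl'.φ fl'.h nu) ^ 4 :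
          SpecialLinearGroup (Fin n) F) : Matrix (Fin n) (Fin n) F) = 1 := by
        rw [Matrix.SpecialLinearGroup.coe_pow, Matrix.SpecialLinearGroup.coe_mul, tS_val, tS_val]
        exact tM_pair_pow_four _ _ _ _ lam nu fl.h fl'.h hκ
      exact Subtype.ext (e.trans Matrix.SpecialLinearGroup.coe_one.symm)
    rw [this, QuotientGroup.mk_one, map_one]
  have hG1 := odd_contra N C hodd hnorm y a b hy ha hb r hrodd hab hG4
  rw [hGeq] at hG1
  have h1 : (QuotientGroup.mk (tS fl.v fl.φ fl.h lam * tS fl'.v fl'.φ fl'.h nu) :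
      ProjectiveSpecialLinearGroup (Fin n) F) = 1 := by
    apply hinj
    rw [hG1, map_one]
  have h3 : (QuotientGroup.mk (tS fl.v fl.φ fl.h lam) : ProjectiveSpecialLinearGroup (Fin n) F) =
      QuotientGroup.mk (tS fl'.v fl'.φ fl'.h (-nu)) := by
    rw [← tS_inv, QuotientGroup.mk_inv, eq_inv_iff_mul_eq_one, ← QuotientGroup.mk_mul]
    exact h1
  obtain ⟨r', hrn, hr'⟩ := mk_eq_imp _ _ h3
  rw [tS_val, tS_val] at hr'
  have hr1 := scalar_one_of_tM (by omega) _ _ _ _ _ _ r' fl.h fl'.h hrn hr'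
  rw [hr1, one_smul] at hr'
  unfold tM at hr'
  have h4 := add_left_cancel hr'
  have hlam : lam ≠ 0 := by
    intro h0
    rw [h0, zero_mul, zero_mul, zero_mul] at hκ
    apply h2F
    linear_combination hκ
  have h5 : Matrix.vecMulVec fl.v fl.φ = (lam⁻¹ * -nu) • Matrix.vecMulVec fl'.v fl'.φ := by
    rw [← smul_smul, ← h4, smul_smul, inv_mul_cancel₀ hlam, one_smul]
  obtain ⟨⟨c, hc0, hc⟩, -⟩ := par_of_vmv_eq _ _ _ _ fl.hv fl.hφ _ h5
  rw [hc, dotProduct_smul, fl'.h, smul_zero, mul_zero] at hκ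
  apply h2F
  linear_combination hκ

end psl

end Cfsg.Agent.Lib.Helper16.LC
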