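import Mathlib
import Cfsg.Agent.Lib.Helper16.LC8
import Cfsg.Agent.Lib.Helper16.AP18

set_option autoImplicit false
set_option linter.unusedSectionVars false
set_option linter.unusedVariables false

/-! The action of `Φ(h) φ_τ` on transvections; automorphisms of odd order have no graph part. -/

namespace Cfsg.Agent.Lib.Helper16.LC

open Matrix Cfsg.Agent.Lib.Helper16 Cfsg.Agent.Lib.Helper16.AP Cfsg.Agent.Lib.Helper16.PG
  Cfsg.Agent.Lib.Helper16.AF Cfsg.Agent.Lib.Helper16.OB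

universe u

section
variable {n : ℕ} {F : Type u} [Field F]

theorem dot_comp (τ : F ≃+* F) (a b : Fin n → F) : (⇑τ ∘ a) ⬝ᵥ (⇑τ ∘ b) = τ (a ⬝ᵥ b) := by
  unfold dotProduct
  rw [map_sum]
  apply Finset.sum_congr rfl
  intro i _
  rw [Function.comp_apply, Function.comp_apply, map_mul]

theorem comp_ne_zero (τ : F ≃+* F) (a : Fin n → F) (ha : a ≠ 0) : (⇑τ ∘ a) ≠ 0 := by
  intro h
  apply ha
  funext i
  have := congrFun h i
  rw [Function.comp_apply, Pi.zero_apply] at this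
  rw [Pi.zero_apply]
  exact (map_eq_zero τ).mp this

/-- the image of a flag under a field automorphism. -/
def Flag.fmap (τ : F ≃+* F) (fl : Flag n F) : Flag n F where
  v := ⇑τ ∘ fl.v
  φ := ⇑τ ∘ fl.φ
  hv := comp_ne_zero τ fl.v fl.hv
  hφ := comp_ne_zero τ fl.φ fl.hφ
  h := by rw [dot_comp, fl.h, map_zero]

theorem tM_map (τ : F ≃+* F) (v φ : Fin n → F) (t : F) :
    (tM v φ t).map ⇑τ = tM (⇑τ ∘ v) (⇑τ ∘ φ) (τ t) := by
  ext i j
  unfold tM
  rw [Matrix.map_apply, Matrix.add_apply, Matrix.add_apply, Matrix.smul_apply, Matrix.smul_apply,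
    Matrix.vecMulVec_apply, Matrix.vecMulVec_apply, map_add, smul_eq_mul, smul_eq_mul, map_mul, map_mul,
    Function.comp_apply, Function.comp_apply]
  congr 1
  simp only [Matrix.one_apply]
  split_ifs
  · rw [map_one]
  · rw [map_zero]

theorem fieldL_tS (τ : F ≃+* F) (fl : Flag n F) (t : F) :
    fieldL n τ (QuotientGroup.mk (tS fl.v fl.φ fl.h t)) =
      QuotientGroup.mk (tS (Flag.fmap τ fl).v (Flag.fmap τ fl).φ (Flag.fmap τ fl).h (τ t)) := by
  rw [fieldL_mk]
  congr 1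
  apply Subtype.ext
  rw [Cfsg.Agent.Lib.Helper16.PU.mapSLEquiv_val, tS_val, tS_val, tM_map]
  rfl

/-- the action of `Φ(h) φ_τ` on a transvection. -/
theorem semi_tS (h : GL (Fin n) F) (τ : F ≃+* F) (fl : Flag n F) (t : F) :
    (Phi n F h * fieldL n τ) (QuotientGroup.mk (tS fl.v fl.φ fl.h t)) =
      QuotientGroup.mk (tS (gFlag h (Flag.fmap τ fl)).v (gFlag h (Flag.fmap τ fl)).φ
        (gFlag h (Flag.fmap τ fl)).h (τ t)) := by
  rw [MulAut.mul_apply, fieldL_tS, Phi_tS]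

theorem semi_flag_v (h : GL (Fin n) F) (τ : F ≃+* F) (fl : Flag n F) :
    (gFlag h (Flag.fmap τ fl)).v = (h : Matrix (Fin n) (Fin n) F) *ᵥ (⇑τ ∘ fl.v) := rfl

end

section
variable {n : ℕ} {F : Type u} [Field F] [Fintype F]

theorem Theta_Phi_fgHom (hn : 3 ≤ n) [hN : ((Phi n F).range).Normal] (g : GL (Fin n) F)
    (x : RingAut F × Multiplicative (ZMod 2)) : Theta hn (Phi n F g * fgHom n F x) = x := by
  unfold Theta
  rw [MonoidHom.comp_apply, MulEquiv.coe_toMonoidHom, MulEquiv.symm_apply_eq]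
  show _ = (QuotientGroup.mk' (Phi n F).range) (fgHom n F x)
  rw [QuotientGroup.mk'_apply, QuotientGroup.mk'_apply, QuotientGroup.mk_mul]
  have : ((Phi n F g : MulAut (ProjectiveSpecialLinearGroup (Fin n) F)) :
      MulAut (ProjectiveSpecialLinearGroup (Fin n) F) ⧸ (Phi n F).range) = 1 :=
    (QuotientGroup.eq_one_iff _).mpr ⟨g, rfl⟩
  rw [this, one_mul]

/-- an automorphism of odd order is induced by a semilinear map. -/
theorem odd_no_iota (hn : 3 ≤ n) (y : MulAut (ProjectiveSpecialLinearGroup (Fin n) F)) (k : ℕ)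
    (hk : Odd k) (hyk : y ^ k = 1) :
    ∃ (h : GL (Fin n) F) (τ : F ≃+* F), y = Phi n F h * fieldL n τ ∧ (τ : RingAut F) ^ k = 1 := by
  have hN : ((Phi n F).range).Normal := Phi_range_normal (by omega)
  obtain ⟨h, ⟨τ, e⟩, hy⟩ := exists_fgHom hn y
  have h1 : Theta hn y = (τ, e) := by rw [hy, Theta_Phi_fgHom]
  have h2 : (Theta hn y) ^ k = 1 := by rw [← map_pow, hyk, map_one]
  rw [h1, Prod.pow_mk, Prod.mk_eq_one] at h2
  have he : e = 1 := by
    have hee : e * e = 1 := by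
      rcases iotaHom_cases (n := n) (F := F) e with ⟨he, -⟩ | ⟨he, -⟩
      · rw [he, one_mul]
      · rw [he, ← ofAdd_add]
        rfl
    obtain ⟨j, hj⟩ := hk
    have h3 := h2.2
    rw [hj, pow_succ, pow_mul, pow_two, hee, one_pow, one_mul] at h3
    exact h3
  refine ⟨h, τ, ?_, h2.1⟩
  rw [hy, he, fgHom_apply, map_one, mul_one]

end

end Cfsg.Agent.Lib.Helper16.LC
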