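import Mathlib
import Cfsg.Agent.Lib.Helper16.LC9

set_option autoImplicit false
set_option linter.unusedSectionVars false
set_option linter.unusedVariables false

/-! The symplectic graph involutions of `PSL_n`. -/

namespace Cfsg.Agent.Lib.Helper16.LC

open Matrix Cfsg.Agent.Lib.Helper16 Cfsg.Agent.Lib.Helper16.AP Cfsg.Agent.Lib.Helper16.PG
  Cfsg.Agent.Lib.Helper16.AF Cfsg.Agent.Lib.Helper16.OB Cfsg.Agent.Lib.Helper16.SpSemi

universe u

section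
variable {n : ℕ} {F : Type u} [Field F]

theorem skew_swap (M : Matrix (Fin n) (Fin n) F) (hM : Mᵀ = -M) (u w : Fin n → F) :
    (M *ᵥ u) ⬝ᵥ w = -((M *ᵥ w) ⬝ᵥ u) := by
  rw [dotProduct_comm, Matrix.dotProduct_mulVec, ← Matrix.mulVec_transpose, hM, Matrix.neg_mulVec,
    neg_dotProduct]

theorem skew_self (h2 : (2 : F) ≠ 0) (M : Matrix (Fin n) (Fin n) F) (hM : Mᵀ = -M) (u : Fin n → F) :
    (M *ᵥ u) ⬝ᵥ u = 0 := by
  have h1 := skew_swap M hM u u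
  have h3 : 2 * ((M *ᵥ u) ⬝ᵥ u) = 0 := by linear_combination h1
  exact (mul_eq_zero.mp h3).resolve_left h2

/-- a semilinear-in-the-second-variable alternating form forces the automorphism to be trivial. -/
theorem semi_alt_trick (τ : F ≃+* F) (C : (Fin n → F) → (Fin n → F) → F)
    (hadd1 : ∀ u u' w, C (u + u') w = C u w + C u' w)
    (hadd2 : ∀ u w w', C u (w + w') = C u w + C u w')
    (hs1 : ∀ (a : F) u w, C (a • u) w = a * C u w)
    (hs2 : ∀ (a : F) u w, C u (a • w) = τ a * C u w)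
    (halt : ∀ u, C u u = 0) (hne : ∃ u w, C u w ≠ 0) (a : F) : τ a = a := by
  have hskew : ∀ u w, C u w = -C w u := by
    intro u w
    have := halt (u + w)
    rw [hadd1, hadd2, hadd2, halt, halt] at this
    linear_combination this
  obtain ⟨u, w, huw⟩ := hne
  have h1 : a * C u w = τ a * C u w := by
    rw [← hs1, hskew, hs2, hskew w u]
    ring
  have h3 : (a - τ a) * C u w = 0 := by linear_combination h1
  rcases mul_eq_zero.mp h3 with h | h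
  · exact (sub_eq_zero.mp h).symm
  · exact absurd h huw

theorem gl_inv_mulVec_ne (g : GL (Fin n) F) (u : Fin n → F) (hu : u ≠ 0) :
    ((g⁻¹ : GL (Fin n) F) : Matrix (Fin n) (Fin n) F) *ᵥ u ≠ 0 := by
  intro h
  apply hu
  have : (g : Matrix (Fin n) (Fin n) F) *ᵥ (((g⁻¹ : GL (Fin n) F) : Matrix (Fin n) (Fin n) F) *ᵥ u) = u := by
    rw [Matrix.mulVec_mulVec, gl_mul_inv, Matrix.one_mulVec]
  rw [← this, h, Matrix.mulVec_zero]

theorem gl_mulVec_ne (g : GL (Fin n) F) (u : Fin n → F) (hu : u ≠ 0) :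
    (g : Matrix (Fin n) (Fin n) F) *ᵥ u ≠ 0 := by
  have := gl_inv_mulVec_ne g⁻¹ u hu
  rwa [inv_inv] at this

theorem gl_inv_skew (g : GL (Fin n) F)
    (hg : (g : Matrix (Fin n) (Fin n) F)ᵀ = -(g : Matrix (Fin n) (Fin n) F)) :
    ((g⁻¹ : GL (Fin n) F) : Matrix (Fin n) (Fin n) F)ᵀ =
      -((g⁻¹ : GL (Fin n) F) : Matrix (Fin n) (Fin n) F) := by
  have h1 : ((g⁻¹ : GL (Fin n) F) : Matrix (Fin n) (Fin n) F)ᵀ * (g : Matrix (Fin n) (Fin n) F) = -1 := by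
    have : (g : Matrix (Fin n) (Fin n) F) = -(g : Matrix (Fin n) (Fin n) F)ᵀ := by rw [hg, neg_neg]
    rw [this, Matrix.mul_neg, ← Matrix.transpose_mul, gl_mul_inv, Matrix.transpose_one]
  calc ((g⁻¹ : GL (Fin n) F) : Matrix (Fin n) (Fin n) F)ᵀ
      = ((g⁻¹ : GL (Fin n) F) : Matrix (Fin n) (Fin n) F)ᵀ * ((g : Matrix (Fin n) (Fin n) F) *
        ((g⁻¹ : GL (Fin n) F) : Matrix (Fin n) (Fin n) F)) := by rw [gl_mul_inv, Matrix.mul_one]
    _ = -((g⁻¹ : GL (Fin n) F) : Matrix (Fin n) (Fin n) F) := by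
      rw [← Matrix.mul_assoc, h1, Matrix.neg_mul, Matrix.one_mul]

/-- the flag of the symplectic transvections with centre `u`. -/
noncomputable def flagS (h2 : (2 : F) ≠ 0) (g : GL (Fin n) F)
    (hg : (g : Matrix (Fin n) (Fin n) F)ᵀ = -(g : Matrix (Fin n) (Fin n) F)) (u : Fin n → F)
    (hu : u ≠ 0) : Flag n F where
  v := u
  φ := ((g⁻¹ : GL (Fin n) F) : Matrix (Fin n) (Fin n) F) *ᵥ u
  hv := hu
  hφ := gl_inv_mulVec_ne g u hu
  h := skew_self h2 _ (gl_inv_skew g hg) u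

theorem symp_fix (h2 : (2 : F) ≠ 0) (g : GL (Fin n) F)
    (hg : (g : Matrix (Fin n) (Fin n) F)ᵀ = -(g : Matrix (Fin n) (Fin n) F)) (u : Fin n → F)
    (hu : u ≠ 0) (t : F) :
    (Phi n F g * iota n F) (QuotientGroup.mk (tS (flagS h2 g hg u hu).v (flagS h2 g hg u hu).φ
      (flagS h2 g hg u hu).h t)) =
    QuotientGroup.mk (tS (flagS h2 g hg u hu).v (flagS h2 g hg u hu).φ (flagS h2 g hg u hu).h t) := by
  rw [MulAut.mul_apply, iota_tS, Phi_tS]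
  congr 1
  apply Subtype.ext
  rw [tS_val, tS_val]
  show tM ((g : Matrix (Fin n) (Fin n) F) *ᵥ (((g⁻¹ : GL (Fin n) F) : Matrix (Fin n) (Fin n) F) *ᵥ u))
    (u ᵥ* ((g⁻¹ : GL (Fin n) F) : Matrix (Fin n) (Fin n) F)) (-t) =
    tM u (((g⁻¹ : GL (Fin n) F) : Matrix (Fin n) (Fin n) F) *ᵥ u) t
  rw [Matrix.mulVec_mulVec, gl_mul_inv, Matrix.one_mulVec, ← Matrix.mulVec_transpose, gl_inv_skew g hg,
    Matrix.neg_mulVec]
  have := tM_smul_smul u (((g⁻¹ : GL (Fin n) F) : Matrix (Fin n) (Fin n) F) *ᵥ u) 1 (-1) (-t)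
  rw [one_smul, neg_one_smul] at this
  rw [this]
  congr 1
  ring

/-- the transvections fixed by the symplectic graph involution. -/
theorem symp_fixed_form (hn : 2 ≤ n) (h2 : (2 : F) ≠ 0) (g : GL (Fin n) F)
    (hg : (g : Matrix (Fin n) (Fin n) F)ᵀ = -(g : Matrix (Fin n) (Fin n) F)) (fl : Flag n F) (t : F)
    (ht : t ≠ 0)
    (hfix : (Phi n F g * iota n F) (QuotientGroup.mk (tS fl.v fl.φ fl.h t)) =
      QuotientGroup.mk (tS fl.v fl.φ fl.h t)) :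
    ∃ t' : F, t' ≠ 0 ∧ tS fl.v fl.φ fl.h t =
      tS (flagS h2 g hg fl.v fl.hv).v (flagS h2 g hg fl.v fl.hv).φ (flagS h2 g hg fl.v fl.hv).h t' := by
  rw [MulAut.mul_apply, iota_tS, Phi_tS] at hfix
  obtain ⟨r', hrn, hr'⟩ := mk_eq_imp _ _ hfix
  rw [tS_val, tS_val] at hr'
  have hr1 := scalar_one_of_tM hn _ _ _ _ _ _ r' (gFlag g fl.swap).h fl.h hrn hr'
  rw [hr1, one_smul] at hr'
  unfold tM at hr'
  have h4 := add_left_cancel hr'
  have h5 : Matrix.vecMulVec fl.v fl.φ = (-1 : F) • Matrix.vecMulVec (gFlag g fl.swap).v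
      (gFlag g fl.swap).φ := by
    have e : (-1 : F) • Matrix.vecMulVec (gFlag g fl.swap).v (gFlag g fl.swap).φ =
        t⁻¹ • (-t • Matrix.vecMulVec (gFlag g fl.swap).v (gFlag g fl.swap).φ) := by
      rw [smul_smul]
      congr 1
      field_simp
    rw [e, h4, smul_smul, inv_mul_cancel₀ ht, one_smul]
  obtain ⟨-, ⟨c, hc0, hc⟩⟩ := par_of_vmv_eq _ _ _ _ fl.hv fl.hφ _ h5
  have hφ : fl.φ = (-c) • (((g⁻¹ : GL (Fin n) F) : Matrix (Fin n) (Fin n) F) *ᵥ fl.v) := by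
    rw [hc]
    show c • (fl.v ᵥ* ((g⁻¹ : GL (Fin n) F) : Matrix (Fin n) (Fin n) F)) = _
    rw [← Matrix.mulVec_transpose, gl_inv_skew g hg, Matrix.neg_mulVec, smul_neg, neg_smul]
  refine ⟨-c * t, mul_ne_zero (neg_ne_zero.mpr hc0) ht, ?_⟩
  apply Subtype.ext
  rw [tS_val, tS_val]
  show tM fl.v fl.φ t = tM fl.v (((g⁻¹ : GL (Fin n) F) : Matrix (Fin n) (Fin n) F) *ᵥ fl.v) (-c * t)
  have := tM_smul_smul fl.v (((g⁻¹ : GL (Fin n) F) : Matrix (Fin n) (Fin n) F) *ᵥ fl.v) 1 (-c) t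
  rw [one_smul, ← hφ] at this
  rw [this, one_mul]

end

section
variable {n : ℕ} {F : Type u} [Field F] [Fintype F]

set_option maxHeartbeats 1600000 in
theorem symp_pair_zero (hn : 3 ≤ n) {r : ℕ} [hr : Fact r.Prime] [hch : CharP F r] (hr2 : r ≠ 2)
    (h2 : (2 : F) ≠ 0)
    (hinj : Function.Injective (MulAut.conj : ProjectiveSpecialLinearGroup (Fin n) F →*
      MulAut (ProjectiveSpecialLinearGroup (Fin n) F)))
    (g : GL (Fin n) F) (hg : (g : Matrix (Fin n) (Fin n) F)ᵀ = -(g : Matrix (Fin n) (Fin n) F))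
    (A N' : Subgroup (MulAut (ProjectiveSpecialLinearGroup (Fin n) F))) [Finite N']
    (hodd : Odd (Nat.card N'))
    (hInnA : Cfsg.Inn (ProjectiveSpecialLinearGroup (Fin n) F) ≤ A)
    (hNA : N' ≤ A ⊓ Subgroup.centralizer {Phi n F g * iota n F})
    (hnorm : ∀ c ∈ A ⊓ Subgroup.centralizer {Phi n F g * iota n F}, ∀ y ∈ N', c * y * c⁻¹ ∈ N')
    (h : GL (Fin n) F) (τ : F ≃+* F) (hy : Phi n F h * fieldL n τ ∈ N') (u : Fin n → F) :
    (((g⁻¹ : GL (Fin n) F) : Matrix (Fin n) (Fin n) F) *ᵥ u) ⬝ᵥ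
      ((h : Matrix (Fin n) (Fin n) F) *ᵥ (⇑τ ∘ u)) = 0 := by
  by_cases hu : u = 0
  · rw [hu, Matrix.mulVec_zero, zero_dotProduct]
  by_contra hβ
  set x := Phi n F g * iota n F with hx
  set y := Phi n F h * fieldL n τ with hydef
  set fl := flagS h2 g hg u hu with hfl
  have hyx : y * x = x * y := by
    have h1 : y ∈ Subgroup.centralizer {x} := (hNA hy).2
    rw [Subgroup.mem_centralizer_iff] at h1
    exact (h1 x (Set.mem_singleton _)).symm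
  have hmemC : ∀ t : F, MulAut.conj (QuotientGroup.mk (tS fl.v fl.φ fl.h t) :
      ProjectiveSpecialLinearGroup (Fin n) F) ∈ A ⊓ Subgroup.centralizer {x} := by
    intro t
    exact ⟨hInnA ⟨_, rfl⟩, conj_mem_centralizer x _ (symp_fix h2 g hg u hu t)⟩
  have hy1 := semi_tS h τ fl 1
  rw [map_one] at hy1
  set fl₁ := gFlag h (Flag.fmap τ fl) with hfl₁
  have hfix1 : x (QuotientGroup.mk (tS fl₁.v fl₁.φ fl₁.h 1)) =
      QuotientGroup.mk (tS fl₁.v fl₁.φ fl₁.h 1) := by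
    rw [← hy1, ← MulAut.mul_apply, ← hyx, MulAut.mul_apply, symp_fix h2 g hg u hu 1]
  obtain ⟨t', ht'0, ht'⟩ := symp_fixed_form (by omega) h2 g hg fl₁ 1 one_ne_zero hfix1
  set fl' := flagS h2 g hg fl₁.v fl₁.hv with hfl'
  have hv' : fl'.v = (h : Matrix (Fin n) (Fin n) F) *ᵥ (⇑τ ∘ u) := rfl
  set β := fl.φ ⬝ᵥ fl'.v with hβdef
  have hβ0 : β ≠ 0 := hβ
  have hβ' : fl'.φ ⬝ᵥ fl.v = -β := by
    show (((g⁻¹ : GL (Fin n) F) : Matrix (Fin n) (Fin n) F) *ᵥ fl₁.v) ⬝ᵥ u = -β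
    rw [skew_swap _ (gl_inv_skew g hg)]
    rfl
  refine transv_pair_contra hn hr2 hinj N' (A ⊓ Subgroup.centralizer {x}) hodd hnorm y hy fl fl'
    (2 / (t' * β ^ 2)) 1 t' (hmemC _) (hmemC _) ?_ ?_
  · rw [hy1, ht']
  · rw [hβ']
    field_simp
    ring

set_option maxHeartbeats 1600000 in
/-- **Symplectic case.** -/
theorem symp_core (hn : 3 ≤ n) {r : ℕ} [hr : Fact r.Prime] [hch : CharP F r] (hr2 : r ≠ 2)
    (hinj : Function.Injective (MulAut.conj : ProjectiveSpecialLinearGroup (Fin n) F →*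
      MulAut (ProjectiveSpecialLinearGroup (Fin n) F)))
    (g : GL (Fin n) F) (hg : (g : Matrix (Fin n) (Fin n) F)ᵀ = -(g : Matrix (Fin n) (Fin n) F))
    (A N' : Subgroup (MulAut (ProjectiveSpecialLinearGroup (Fin n) F))) [Finite N']
    (hodd : Odd (Nat.card N'))
    (hInnA : Cfsg.Inn (ProjectiveSpecialLinearGroup (Fin n) F) ≤ A)
    (hNA : N' ≤ A ⊓ Subgroup.centralizer {Phi n F g * iota n F})
    (hnorm : ∀ c ∈ A ⊓ Subgroup.centralizer {Phi n F g * iota n F}, ∀ y ∈ N', c * y * c⁻¹ ∈ N') :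
    N' = ⊥ := by
  have h2 : (2 : F) ≠ 0 := by
    intro h
    have h1 : ((2 : ℕ) : F) = 0 := by exact_mod_cast h
    rw [CharP.cast_eq_zero_iff F r] at h1
    exact hr2 ((Nat.prime_dvd_prime_iff_eq hr.out Nat.prime_two).mp h1)
  set M₀ : Matrix (Fin n) (Fin n) F := ((g⁻¹ : GL (Fin n) F) : Matrix (Fin n) (Fin n) F) with hM₀
  have hMs : M₀ᵀ = -M₀ := gl_inv_skew g hg
  rw [eq_bot_iff]
  intro y hy
  rw [Subgroup.mem_bot]
  obtain ⟨h, τ, hyeq, -⟩ := odd_no_iota hn y _ hodd (pow_card_eq_one_of_mem N' y hy)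
  rw [hyeq] at hy
  have hC0 : ∀ u, (M₀ *ᵥ u) ⬝ᵥ ((h : Matrix (Fin n) (Fin n) F) *ᵥ (⇑τ ∘ u)) = 0 :=
    symp_pair_zero hn hr2 h2 hinj g hg A N' hodd hInnA hNA hnorm h τ hy
  -- `τ` is trivial
  have hτ : ∀ a, τ a = a := by
    apply semi_alt_trick τ (fun u w => (M₀ *ᵥ u) ⬝ᵥ ((h : Matrix (Fin n) (Fin n) F) *ᵥ (⇑τ ∘ w)))
    · intro u u' w
      show (M₀ *ᵥ (u + u')) ⬝ᵥ _ = _
      rw [Matrix.mulVec_add, add_dotProduct]
    · intro u w w'
      show _ ⬝ᵥ ((h : Matrix (Fin n) (Fin n) F) *ᵥ (⇑τ ∘ (w + w'))) = _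
      have : (⇑τ ∘ (w + w')) = (⇑τ ∘ w) + (⇑τ ∘ w') := by
        funext i
        simp
      rw [this, Matrix.mulVec_add, dotProduct_add]
    · intro a u w
      show (M₀ *ᵥ (a • u)) ⬝ᵥ _ = _
      rw [Matrix.mulVec_smul, smul_dotProduct, smul_eq_mul]
    · intro a u w
      show _ ⬝ᵥ ((h : Matrix (Fin n) (Fin n) F) *ᵥ (⇑τ ∘ (a • w))) = _
      have : (⇑τ ∘ (a • w)) = τ a • (⇑τ ∘ w) := by
        funext i
        simp
      rw [this, Matrix.mulVec_smul, dotProduct_smul, smul_eq_mul]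
    · exact hC0
    · set w : Fin n → F := Pi.single ⟨0, by omega⟩ 1 with hw
      have hw0 : w ≠ 0 := by
        intro h0
        have := congrFun h0 ⟨0, by omega⟩
        rw [hw, Pi.single_eq_same, Pi.zero_apply] at this
        exact one_ne_zero this
      have hz0 : (h : Matrix (Fin n) (Fin n) F) *ᵥ (⇑τ ∘ w) ≠ 0 :=
        gl_mulVec_ne h _ (comp_ne_zero τ w hw0)
      obtain ⟨z', hz'⟩ := exists_dot_eq_one _ hz0
      refine ⟨(g : Matrix (Fin n) (Fin n) F) *ᵥ z', w, ?_⟩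
      show (M₀ *ᵥ ((g : Matrix (Fin n) (Fin n) F) *ᵥ z')) ⬝ᵥ _ ≠ 0
      rw [Matrix.mulVec_mulVec, hM₀, gl_inv_mul, Matrix.one_mulVec, dotProduct_comm, hz']
      exact one_ne_zero
  have hτ1 : τ = RingEquiv.refl F := RingEquiv.ext hτ
  rw [hτ1, fieldL_refl, mul_one] at hy hyeq
  have hC1 : ∀ u, (M₀ *ᵥ u) ⬝ᵥ ((h : Matrix (Fin n) (Fin n) F) *ᵥ u) = 0 := by
    intro u
    have := hC0 u
    rw [hτ1] at this
    exact this
  have hCs : ∀ u w, (M₀ *ᵥ u) ⬝ᵥ ((h : Matrix (Fin n) (Fin n) F) *ᵥ w) =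
      -((M₀ *ᵥ w) ⬝ᵥ ((h : Matrix (Fin n) (Fin n) F) *ᵥ u)) := by
    intro u w
    have := hC1 (u + w)
    rw [Matrix.mulVec_add, Matrix.mulVec_add, add_dotProduct, dotProduct_add, dotProduct_add, hC1, hC1] at this
    linear_combination this
  -- `hᵀ M₀ = M₀ h`
  have hadj : (h : Matrix (Fin n) (Fin n) F)ᵀ * M₀ = M₀ * (h : Matrix (Fin n) (Fin n) F) := by
    apply mat_ext_bilin
    intro a b
    have e1 : a ⬝ᵥ ((h : Matrix (Fin n) (Fin n) F)ᵀ * M₀) *ᵥ b =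
        (M₀ *ᵥ b) ⬝ᵥ ((h : Matrix (Fin n) (Fin n) F) *ᵥ a) := by
      rw [← Matrix.mulVec_mulVec, Matrix.dotProduct_mulVec, Matrix.vecMul_transpose, dotProduct_comm]
    have e2 : a ⬝ᵥ (M₀ * (h : Matrix (Fin n) (Fin n) F)) *ᵥ b =
        -((M₀ *ᵥ a) ⬝ᵥ ((h : Matrix (Fin n) (Fin n) F) *ᵥ b)) := by
      rw [← Matrix.mulVec_mulVec, Matrix.dotProduct_mulVec, ← Matrix.mulVec_transpose, hMs,
        Matrix.neg_mulVec, neg_dotProduct]
    rw [e1, e2, hCs]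
  -- `h` is a similitude
  have hcent : Phi n F h ∈ Subgroup.centralizer {Phi n F g * iota n F} := (hNA hy).2
  have hsim : ∃ c : Fˣ, (h : Matrix (Fin n) (Fin n) F)ᵀ * M₀ * (h : Matrix (Fin n) (Fin n) F) =
      (c : F) • M₀ := by
    rw [← mem_simM_iff, ← comm_graph_iff]
    rw [Subgroup.mem_centralizer_iff] at hcent
    exact (hcent _ (Set.mem_singleton _)).symm
  obtain ⟨c, hc⟩ := hsim
  rw [hadj, Matrix.mul_assoc] at hc
  have hhh : (h : Matrix (Fin n) (Fin n) F) * (h : Matrix (Fin n) (Fin n) F) = (c : F) • 1 := by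
    have := congrArg (fun X => (g : Matrix (Fin n) (Fin n) F) * X) hc
    rw [← Matrix.mul_assoc, hM₀, gl_mul_inv, Matrix.one_mul, Matrix.mul_smul, gl_mul_inv] at this
    exact this
  have hyy : Phi n F h * Phi n F h = 1 := by
    rw [← map_mul, Phi_eq_one_iff, Cfsg.Geo.mem_scalars_iff]
    exact ⟨c, by rw [Units.val_mul, hhh]⟩
  rw [hyeq]
  exact eq_one_of_sq_of_odd N' hodd _ hy hyy

end

end Cfsg.Agent.Lib.Helper16.LC
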