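import Mathlib
import Cfsg.Agent.Lib.Helper16.LC9

set_option autoImplicit false
set_option linter.unusedSectionVars false
set_option linter.unusedVariables false

/-! The unitary graph-field involutions of `PSL_n`: transvections. -/

namespace Cfsg.Agent.Lib.Helper16.LC

open Matrix Cfsg.Agent.Lib.Helper16 Cfsg.Agent.Lib.Helper16.AP Cfsg.Agent.Lib.Helper16.PG
  Cfsg.Agent.Lib.Helper16.AF Cfsg.Agent.Lib.Helper16.OB Cfsg.Agent.Lib.Helper16.GF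
  Cfsg.Agent.Lib.Helper16.PU

universe u

section
variable {n : ℕ} {F : Type u} [Field F]

theorem comp_comp_of_invol (σ : F ≃+* F) (hσσ : ∀ a, σ (σ a) = a) (u : Fin n → F) :
    (⇑σ ∘ (⇑σ ∘ u)) = u := by
  funext i
  exact hσσ (u i)

theorem vmv_ne_zero (a b : Fin n → F) (ha : a ≠ 0) (hb : b ≠ 0) : Matrix.vecMulVec a b ≠ 0 := by
  obtain ⟨i, hi⟩ := Function.ne_iff.mp ha
  obtain ⟨j, hj⟩ := Function.ne_iff.mp hb
  intro h
  have := congrFun (congrFun h i) j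
  rw [Matrix.vecMulVec_apply] at this
  exact mul_ne_zero hi hj this

/-- the flag of the unitary transvections with isotropic centre `u`. -/
def flagU (σ : F ≃+* F) (u : Fin n → F) (hu : u ≠ 0) (hiso : (⇑σ ∘ u) ⬝ᵥ u = 0) : Flag n F where
  v := u
  φ := ⇑σ ∘ u
  hv := hu
  hφ := comp_ne_zero σ u hu
  h := hiso

theorem unit_fix (σ : F ≃+* F) (hσσ : ∀ a, σ (σ a) = a) (u : Fin n → F) (hu : u ≠ 0)
    (hiso : (⇑σ ∘ u) ⬝ᵥ u = 0) (t : F) (ht : σ t = -t) :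
    (theta n σ) (QuotientGroup.mk (tS (flagU σ u hu hiso).v (flagU σ u hu hiso).φ
      (flagU σ u hu hiso).h t)) =
    QuotientGroup.mk (tS (flagU σ u hu hiso).v (flagU σ u hu hiso).φ (flagU σ u hu hiso).h t) := by
  unfold theta
  rw [MulAut.mul_apply, iota_tS, fieldL_tS]
  congr 1
  apply Subtype.ext
  rw [tS_val, tS_val]
  show tM (⇑σ ∘ (⇑σ ∘ u)) (⇑σ ∘ u) (σ (-t)) = tM u (⇑σ ∘ u) t
  rw [comp_comp_of_invol σ hσσ, map_neg, ht, neg_neg]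

/-- the transvections fixed by the unitary graph-field involution. -/
theorem unit_fixed_form (hn : 2 ≤ n) (σ : F ≃+* F) (hσσ : ∀ a, σ (σ a) = a) (fl : Flag n F) (t : F)
    (ht : t ≠ 0)
    (hfix : (theta n σ) (QuotientGroup.mk (tS fl.v fl.φ fl.h t)) =
      QuotientGroup.mk (tS fl.v fl.φ fl.h t)) :
    ∃ (hiso : (⇑σ ∘ fl.v) ⬝ᵥ fl.v = 0) (t' : F), t' ≠ 0 ∧ σ t' = -t' ∧
      tS fl.v fl.φ fl.h t = tS fl.v (⇑σ ∘ fl.v) hiso t' := by
  unfold theta at hfix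
  rw [MulAut.mul_apply, iota_tS, fieldL_tS] at hfix
  obtain ⟨r', hrn, hr'⟩ := mk_eq_imp _ _ hfix
  rw [tS_val, tS_val] at hr'
  have hr1 := scalar_one_of_tM hn _ _ _ _ _ _ r' (Flag.fmap σ fl.swap).h fl.h hrn hr'
  rw [hr1, one_smul] at hr'
  unfold tM at hr'
  have h4 := add_left_cancel hr'
  -- h4 : σ (-t) • vmv (σ∘φ) (σ∘v) = t • vmv v φ
  have h4' : σ (-t) • Matrix.vecMulVec (⇑σ ∘ fl.φ) (⇑σ ∘ fl.v) = t • Matrix.vecMulVec fl.v fl.φ := h4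
  have h5 : Matrix.vecMulVec fl.v fl.φ = (t⁻¹ * σ (-t)) • Matrix.vecMulVec (⇑σ ∘ fl.φ) (⇑σ ∘ fl.v) := by
    rw [← smul_smul, h4', smul_smul, inv_mul_cancel₀ ht, one_smul]
  obtain ⟨-, ⟨c, hc0, hc⟩⟩ := par_of_vmv_eq _ _ _ _ fl.hv fl.hφ _ h5
  -- hc : fl.φ = c • (σ ∘ fl.v)
  have hiso : (⇑σ ∘ fl.v) ⬝ᵥ fl.v = 0 := by
    have := fl.h
    rw [hc, smul_dotProduct, smul_eq_mul] at this
    exact (mul_eq_zero.mp this).resolve_left hc0
  have hσφ : (⇑σ ∘ fl.φ) = σ c • fl.v := by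
    rw [hc]
    funext i
    simp only [Function.comp_apply, Pi.smul_apply, smul_eq_mul, map_mul]
    rw [hσσ]
  refine ⟨hiso, c * t, mul_ne_zero hc0 ht, ?_, ?_⟩
  · rw [hσφ, hc] at h4'
    have e1 : Matrix.vecMulVec (σ c • fl.v) (⇑σ ∘ fl.v) = σ c • Matrix.vecMulVec fl.v (⇑σ ∘ fl.v) := by
      ext i j
      simp [Matrix.vecMulVec_apply, mul_assoc]
    have e2 : Matrix.vecMulVec fl.v (c • (⇑σ ∘ fl.v)) = c • Matrix.vecMulVec fl.v (⇑σ ∘ fl.v) := by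
      ext i j
      simp [Matrix.vecMulVec_apply]
      ring
    rw [e1, e2, smul_smul, smul_smul] at h4'
    have h6 : (σ (-t) * σ c - t * c) • Matrix.vecMulVec fl.v (⇑σ ∘ fl.v) = 0 := by
      rw [sub_smul, h4', sub_self]
    rcases smul_eq_zero.mp h6 with h7 | h7
    · rw [map_mul]
      rw [map_neg] at h7
      linear_combination -h7
    · exact absurd h7 (vmv_ne_zero _ _ fl.hv (comp_ne_zero σ _ fl.hv))
  · apply Subtype.ext
    rw [tS_val, tS_val]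
    have := tM_smul_smul fl.v (⇑σ ∘ fl.v) 1 c t
    rw [one_smul, ← hc] at this
    rw [this, one_mul]

end

section
variable {n : ℕ} {F : Type u} [Field F] [Fintype F] {q : ℕ}

set_option maxHeartbeats 1600000 in
theorem unit_pair_zero (hn : 3 ≤ n) {r : ℕ} [hr : Fact r.Prime] [hch : CharP F r] (hr2 : r ≠ 2)
    (h2 : (2 : F) ≠ 0)
    (hinj : Function.Injective (MulAut.conj : ProjectiveSpecialLinearGroup (Fin n) F →*
      MulAut (ProjectiveSpecialLinearGroup (Fin n) F)))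
    (hF : Fintype.card F = q ^ 2) (σ : F ≃+* F) (hσ : ∀ a, σ a = a ^ q)
    (A N' : Subgroup (MulAut (ProjectiveSpecialLinearGroup (Fin n) F))) [Finite N']
    (hodd : Odd (Nat.card N'))
    (hInnA : Cfsg.Inn (ProjectiveSpecialLinearGroup (Fin n) F) ≤ A)
    (hNA : N' ≤ A ⊓ Subgroup.centralizer {theta n σ})
    (hnorm : ∀ c ∈ A ⊓ Subgroup.centralizer {theta n σ}, ∀ y ∈ N', c * y * c⁻¹ ∈ N')
    (h : GL (Fin n) F) (τ : F ≃+* F) (hy : Phi n F h * fieldL n τ ∈ N') (u : Fin n → F)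
    (hiso : (⇑σ ∘ u) ⬝ᵥ u = 0) :
    (⇑σ ∘ u) ⬝ᵥ ((h : Matrix (Fin n) (Fin n) F) *ᵥ (⇑τ ∘ u)) = 0 := by
  have hσσ : ∀ a, σ (σ a) = a := bar_bar hF σ hσ
  by_cases hu : u = 0
  · rw [hu]
    have : (⇑σ ∘ (0 : Fin n → F)) = 0 := by
      funext i
      simp
    rw [this, zero_dotProduct]
  by_contra hβ
  set x := theta n σ with hx
  set y := Phi n F h * fieldL n τ with hydef
  set fl := flagU σ u hu hiso with hfl
  have hyx : y * x = x * y := by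
    have h1 : y ∈ Subgroup.centralizer {x} := (hNA hy).2
    rw [Subgroup.mem_centralizer_iff] at h1
    exact (h1 x (Set.mem_singleton _)).symm
  have hmemC : ∀ t : F, σ t = -t → MulAut.conj (QuotientGroup.mk (tS fl.v fl.φ fl.h t) :
      ProjectiveSpecialLinearGroup (Fin n) F) ∈ A ⊓ Subgroup.centralizer {x} := by
    intro t ht
    exact ⟨hInnA ⟨_, rfl⟩, conj_mem_centralizer x _ (unit_fix σ hσσ u hu hiso t ht)⟩
  obtain ⟨μ, hμ0, hμ⟩ := exists_skew hF σ hσ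
  have hy1 := semi_tS h τ fl μ
  set fl₁ := gFlag h (Flag.fmap τ fl) with hfl₁
  have hτμ : τ μ ≠ 0 := by
    intro h0
    exact hμ0 ((map_eq_zero τ).mp h0)
  have hfix1 : x (QuotientGroup.mk (tS fl₁.v fl₁.φ fl₁.h (τ μ))) =
      QuotientGroup.mk (tS fl₁.v fl₁.φ fl₁.h (τ μ)) := by
    rw [← hy1, ← MulAut.mul_apply, ← hyx, MulAut.mul_apply, unit_fix σ hσσ u hu hiso μ hμ]
  obtain ⟨hiso', t', ht'0, hσt', ht'⟩ := unit_fixed_form (by omega) σ hσσ fl₁ (τ μ) hτμ hfix1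
  set fl' := flagU σ fl₁.v fl₁.hv hiso' with hfl'
  set β := fl.φ ⬝ᵥ fl'.v with hβdef
  have hβ0 : β ≠ 0 := hβ
  have hβ' : fl'.φ ⬝ᵥ fl.v = σ β := by
    show (⇑σ ∘ fl₁.v) ⬝ᵥ u = σ ((⇑σ ∘ u) ⬝ᵥ fl₁.v)
    rw [← dot_comp, comp_comp_of_invol σ hσσ, dotProduct_comm]
  have hσβ0 : σ β ≠ 0 := by
    intro h0
    exact hβ0 ((map_eq_zero σ).mp h0)
  have hlam : σ (-2 / (t' * β * σ β)) = -(-2 / (t' * β * σ β)) := by
    rw [map_div₀, map_mul, map_mul, hσσ, hσt', map_neg, map_ofNat]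
    field_simp
  refine transv_pair_contra hn hr2 hinj N' (A ⊓ Subgroup.centralizer {x}) hodd hnorm y hy fl fl'
    (-2 / (t' * β * σ β)) μ t' (hmemC _ hlam) (hmemC _ hμ) ?_ ?_
  · rw [hy1, ht']
    rfl
  · rw [hβ', ← hβdef]
    field_simp

end

end Cfsg.Agent.Lib.Helper16.LC
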