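import Mathlib
import Cfsg.Agent.Lib.Helper16.LC11
import Cfsg.Agent.Lib.Helper16.LC10

set_option autoImplicit false
set_option linter.unusedSectionVars false
set_option linter.unusedVariables false

/-! The unitary graph-field involutions of `PSL_n`: the core. -/

namespace Cfsg.Agent.Lib.Helper16.LC

open Matrix Cfsg.Agent.Lib.Helper16 Cfsg.Agent.Lib.Helper16.AP Cfsg.Agent.Lib.Helper16.PG
  Cfsg.Agent.Lib.Helper16.AF Cfsg.Agent.Lib.Helper16.OB Cfsg.Agent.Lib.Helper16.GF

universe u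

section
variable {n : ℕ} {F : Type u} [Field F]

/-- the vector `e_i + a e_j + b e_l`. -/
def vec3 (i j l : Fin n) (a b : F) : Fin n → F :=
  Pi.single i 1 + a • Pi.single j 1 + b • Pi.single l 1

theorem vec3_dot (i j l : Fin n) (a b : F) (w : Fin n → F) :
    vec3 i j l a b ⬝ᵥ w = w i + a * w j + b * w l := by
  unfold vec3
  rw [add_dotProduct, add_dotProduct, smul_dotProduct, smul_dotProduct, single_one_dotProduct,
    single_one_dotProduct, single_one_dotProduct, smul_eq_mul, smul_eq_mul]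

theorem mulVec_vec3 (H : Matrix (Fin n) (Fin n) F) (i j l : Fin n) (a b : F) (m : Fin n) :
    (H *ᵥ vec3 i j l a b) m = H m i + a * H m j + b * H m l := by
  unfold vec3
  rw [Matrix.mulVec_add, Matrix.mulVec_add, Matrix.mulVec_smul, Matrix.mulVec_smul,
    Matrix.mulVec_single_one, Matrix.mulVec_single_one, Matrix.mulVec_single_one]
  simp only [Pi.add_apply, Pi.smul_apply, smul_eq_mul, Matrix.col_apply]

theorem comp_vec3 (σ : F ≃+* F) (i j l : Fin n) (a b : F) :
    (⇑σ ∘ vec3 i j l a b) = vec3 i j l (σ a) (σ b) := by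
  funext m
  unfold vec3
  simp only [Function.comp_apply, Pi.add_apply, Pi.smul_apply, smul_eq_mul, map_add, map_mul,
    Pi.single_apply]
  congr 1
  · congr 1
    · split_ifs
      · rw [map_one]
      · rw [map_zero]
    · congr 1
      split_ifs
      · rw [map_one]
      · rw [map_zero]
  · congr 1
    split_ifs
    · rw [map_one]
    · rw [map_zero]

theorem vec3_apply_i (i j l : Fin n) (hij : i ≠ j) (hil : i ≠ l) (a b : F) : vec3 i j l a b i = 1 := by
  unfold vec3
  simp [hij, hil]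

theorem vec3_apply_j (i j l : Fin n) (hij : i ≠ j) (hjl : j ≠ l) (a b : F) : vec3 i j l a b j = a := by
  unfold vec3
  simp [hij.symm, hjl]

theorem vec3_apply_l (i j l : Fin n) (hil : i ≠ l) (hjl : j ≠ l) (a b : F) : vec3 i j l a b l = b := by
  unfold vec3
  simp [hil.symm, hjl.symm]

theorem vec3_apply_other (i j l m : Fin n) (hmi : m ≠ i) (hmj : m ≠ j) (hml : m ≠ l) (a b : F) :
    vec3 i j l a b m = 0 := by
  unfold vec3
  simp [hmi, hmj, hml]

theorem vec3_ne_zero (i j l : Fin n) (hij : i ≠ j) (hil : i ≠ l) (a b : F) : vec3 i j l a b ≠ 0 := by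
  intro h
  have := congrFun h i
  rw [vec3_apply_i i j l hij hil, Pi.zero_apply] at this
  exact one_ne_zero this

theorem vec3_iso (σ : F ≃+* F) (i j l : Fin n) (hij : i ≠ j) (hil : i ≠ l) (hjl : j ≠ l) (a b : F)
    (hab : 1 + σ a * a + σ b * b = 0) :
    (⇑σ ∘ vec3 i j l a b) ⬝ᵥ vec3 i j l a b = 0 := by
  rw [comp_vec3, vec3_dot, vec3_apply_i i j l hij hil, vec3_apply_j i j l hij hjl,
    vec3_apply_l i j l hil hjl]
  exact hab

end

section
variable {n : ℕ} {F : Type u} [Field F] [Fintype F] {q : ℕ}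

/-- an element of norm one which is not fixed by the involution. -/
theorem exists_norm_one_moved (h2 : (2 : F) ≠ 0) (hF : Fintype.card F = q ^ 2) (σ : F ≃+* F)
    (hσ : ∀ a, σ a = a ^ q) : ∃ ζ : F, ζ * σ ζ = 1 ∧ σ ζ ≠ ζ := by
  have hσσ : ∀ a, σ (σ a) = a := PU.bar_bar hF σ hσ
  obtain ⟨μ, hμ0, hμ⟩ := PU.exists_skew hF σ hσ
  have hw : (1 + μ) ≠ 0 := by
    intro h
    have h1 : μ = -1 := by linear_combination h
    rw [h1, map_neg, map_one, neg_neg] at hμ
    apply h2
    linear_combination -hμ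
  have hσw : σ (1 + μ) = 1 - μ := by rw [map_add, map_one, hμ]; ring
  have hw' : (1 - μ) ≠ 0 := by
    rw [← hσw]
    intro h
    exact hw ((map_eq_zero σ).mp h)
  refine ⟨(1 + μ) / (1 - μ), ?_, ?_⟩
  · rw [map_div₀, hσw, map_sub, map_one, hμ, sub_neg_eq_add]
    field_simp
  · rw [map_div₀, hσw, map_sub, map_one, hμ, sub_neg_eq_add]
    intro h
    rw [div_eq_div_iff hw hw'] at h
    apply hμ0
    have h4 : (4 : F) ≠ 0 := by
      have : (4 : F) = 2 * 2 := by norm_num
      rw [this]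
      exact mul_ne_zero h2 h2
    have : 4 * μ = 0 := by linear_combination -h
    exact (mul_eq_zero.mp this).resolve_left h4

set_option maxHeartbeats 1600000 in
/-- **Unitary case, linear part.** -/
theorem unit_lin (hn : 3 ≤ n) (h2 : (2 : F) ≠ 0) (hF : Fintype.card F = q ^ 2) (σ : F ≃+* F)
    (hσ : ∀ a, σ a = a ^ q) (H : Matrix (Fin n) (Fin n) F)
    (hzero : ∀ u : Fin n → F, (⇑σ ∘ u) ⬝ᵥ u = 0 → (⇑σ ∘ u) ⬝ᵥ (H *ᵥ u) = 0) :
    ∃ c : F, H = c • (1 : Matrix (Fin n) (Fin n) F) := by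
  have hσσ : ∀ a, σ (σ a) = a := PU.bar_bar hF σ hσ
  obtain ⟨ε₀, hε₀0, hε₀⟩ := PU.exists_norm' hF σ hσ (-1) (neg_ne_zero.mpr one_ne_zero)
    (by rw [map_neg, map_one])
  obtain ⟨ζ, hζ1, hζ2⟩ := exists_norm_one_moved h2 hF σ hσ
  have hσε₀ : σ ε₀ ≠ 0 := by
    intro h
    exact hε₀0 ((map_eq_zero σ).mp h)
  -- the key equation
  have key : ∀ (i j : Fin n), i ≠ j → ∀ ε : F, ε * σ ε = -1 →
      H i i + ε * H i j + σ ε * (H j i + ε * H j j) = 0 := by
    intro i j hij ε hε
    obtain ⟨l, hli, hlj⟩ := AP.exists_third hn i j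
    have hiso := vec3_iso σ i j l hij (Ne.symm hli) (Ne.symm hlj) ε 0
      (by rw [map_zero, zero_mul, add_zero]; linear_combination hε)
    have := hzero _ hiso
    rw [comp_vec3, vec3_dot, mulVec_vec3, mulVec_vec3, mulVec_vec3, map_zero] at this
    linear_combination this
  have hoff : ∀ (i j : Fin n), i ≠ j → H j i = 0 ∧ H i i = H j j := by
    intro i j hij
    have k1 := key i j hij ε₀ hε₀
    have k2 := key i j hij (-ε₀) (by rw [map_neg]; linear_combination hε₀)
    have k3 := key i j hij (ζ * ε₀) (by rw [map_mul]; linear_combination ε₀ * σ ε₀ * hζ1 + hε₀)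
    rw [map_neg] at k2
    rw [map_mul] at k3
    have hd : H i i = H j j := by
      have : 2 * (H i i - H j j) = 0 := by linear_combination k1 + k2 - 2 * H j j * hε₀
      have := (mul_eq_zero.mp this).resolve_left h2
      linear_combination this
    have hA : ε₀ * H i j + σ ε₀ * H j i = 0 := by
      linear_combination k1 - hd - H j j * hε₀
    have hB : ζ * ε₀ * H i j + σ ζ * σ ε₀ * H j i = 0 := by
      linear_combination k3 - hd - H j j * (ε₀ * σ ε₀ * hζ1 + hε₀)
    have hC : (σ ζ - ζ) * σ ε₀ * H j i = 0 := by linear_combination hB - ζ * hA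
    rcases mul_eq_zero.mp hC with h | h
    · rcases mul_eq_zero.mp h with h' | h'
      · exact absurd (sub_eq_zero.mp h') hζ2
      · exact absurd h' hσε₀
    · exact ⟨h, hd⟩
  set i₀ : Fin n := ⟨0, by omega⟩ with hi₀
  refine ⟨H i₀ i₀, ?_⟩
  ext i j
  rw [Matrix.smul_apply, Matrix.one_apply, smul_eq_mul]
  by_cases hij : i = j
  · rw [if_pos hij, mul_one, ← hij]
    by_cases hi : i = i₀
    · rw [hi]
    · exact ((hoff i i₀ hi).2)
  · rw [if_neg hij, mul_zero]
    exact (hoff j i (Ne.symm hij)).1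

set_option maxHeartbeats 1600000 in
/-- **Unitary case, field part.** -/
theorem unit_tau (hn : 3 ≤ n) (h2 : (2 : F) ≠ 0) (hF : Fintype.card F = q ^ 2) (σ : F ≃+* F)
    (hσ : ∀ a, σ a = a ^ q) (h : GL (Fin n) F) (τ : F ≃+* F)
    (hpar : ∀ u : Fin n → F, u ≠ 0 → (⇑σ ∘ u) ⬝ᵥ u = 0 →
      ∃ k : F, (h : Matrix (Fin n) (Fin n) F) *ᵥ (⇑τ ∘ u) = k • u) (a : F) : τ a = a := by
  have hσσ : ∀ a, σ (σ a) = a := PU.bar_bar hF σ hσ
  obtain ⟨ε₀, hε₀0, hε₀⟩ := PU.exists_norm' hF σ hσ (-1) (neg_ne_zero.mpr one_ne_zero)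
    (by rw [map_neg, map_one])
  set H : Matrix (Fin n) (Fin n) F := (h : Matrix (Fin n) (Fin n) F) with hH
  have hτε₀ : τ ε₀ ≠ 0 := by
    intro h0
    exact hε₀0 ((map_eq_zero τ).mp h0)
  -- `H` is diagonal
  have hdiag : ∀ (i l : Fin n), l ≠ i → H l i = 0 := by
    intro i l hli
    obtain ⟨j, hji, hjl⟩ := AP.exists_third hn i l
    have hiso1 := vec3_iso σ i j l (Ne.symm hji) (Ne.symm hli) hjl ε₀ 0
      (by rw [map_zero, zero_mul, add_zero]; linear_combination hε₀)
    have hiso2 := vec3_iso σ i j l (Ne.symm hji) (Ne.symm hli) hjl (-ε₀) 0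
      (by rw [map_zero, zero_mul, add_zero, map_neg]; linear_combination hε₀)
    obtain ⟨k1, hk1⟩ := hpar _ (vec3_ne_zero i j l (Ne.symm hji) (Ne.symm hli) _ _) hiso1
    obtain ⟨k2, hk2⟩ := hpar _ (vec3_ne_zero i j l (Ne.symm hji) (Ne.symm hli) _ _) hiso2
    have e1 := congrFun hk1 l
    have e2 := congrFun hk2 l
    rw [comp_vec3, mulVec_vec3, Pi.smul_apply, vec3_apply_l i j l (Ne.symm hli) hjl, map_zero,
      smul_eq_mul, mul_zero, zero_mul, add_zero] at e1 e2
    rw [map_neg] at e2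
    have : 2 * H l i = 0 := by linear_combination e1 + e2
    exact (mul_eq_zero.mp this).resolve_left h2
  -- the diagonal entries are non-zero
  have hdne : ∀ j : Fin n, H j j ≠ 0 := by
    intro j h0
    have hcol : H *ᵥ Pi.single j 1 = 0 := by
      rw [Matrix.mulVec_single_one]
      funext m
      rw [Matrix.col_apply, Pi.zero_apply]
      by_cases hm : m = j
      · rw [hm, h0]
      · exact hdiag j m hm
    have hne : (Pi.single j (1 : F) : Fin n → F) ≠ 0 := by
      intro h1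
      have := congrFun h1 j
      rw [Pi.single_eq_same, Pi.zero_apply] at this
      exact one_ne_zero this
    exact gl_mulVec_ne h _ hne hcol
  -- the main relation
  have hrel : ∀ (i j : Fin n), i ≠ j → ∀ b : F, τ b * H j j = H i i * b := by
    intro i j hij b
    obtain ⟨l, hli, hlj⟩ := AP.exists_third hn i j
    have hfix : σ (-1 - σ b * b) = -1 - σ b * b := by
      rw [map_sub, map_neg, map_one, map_mul, hσσ]
      ring
    by_cases hb : -1 - σ b * b = 0
    · have hiso := vec3_iso σ i j l hij (Ne.symm hli) (Ne.symm hlj) b 0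
        (by rw [map_zero, zero_mul, add_zero]; linear_combination -hb)
      obtain ⟨k, hk⟩ := hpar _ (vec3_ne_zero i j l hij (Ne.symm hli) _ _) hiso
      have e1 := congrFun hk i
      have e2 := congrFun hk j
      rw [comp_vec3, mulVec_vec3, Pi.smul_apply, vec3_apply_i i j l hij (Ne.symm hli), map_zero,
        smul_eq_mul, mul_one, zero_mul, add_zero, hdiag j i hij, mul_zero, add_zero] at e1
      rw [comp_vec3, mulVec_vec3, Pi.smul_apply, vec3_apply_j i j l hij (Ne.symm hlj), map_zero,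
        smul_eq_mul, zero_mul, add_zero, hdiag i j (Ne.symm hij), zero_add] at e2
      rw [e2, e1]
    · obtain ⟨c, hc0, hc⟩ := PU.exists_norm' hF σ hσ _ hb hfix
      have hiso := vec3_iso σ i j l hij (Ne.symm hli) (Ne.symm hlj) b c
        (by linear_combination hc)
      obtain ⟨k, hk⟩ := hpar _ (vec3_ne_zero i j l hij (Ne.symm hli) _ _) hiso
      have e1 := congrFun hk i
      have e2 := congrFun hk j
      rw [comp_vec3, mulVec_vec3, Pi.smul_apply, vec3_apply_i i j l hij (Ne.symm hli),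
        smul_eq_mul, mul_one, hdiag j i hij, mul_zero, add_zero, hdiag l i (Ne.symm hli), mul_zero,
        add_zero] at e1
      rw [comp_vec3, mulVec_vec3, Pi.smul_apply, vec3_apply_j i j l hij (Ne.symm hlj),
        smul_eq_mul, hdiag i j (Ne.symm hij), zero_add, hdiag l j (Ne.symm hlj), mul_zero,
        add_zero] at e2
      rw [e2, e1]
  set i₀ : Fin n := ⟨0, by omega⟩ with hi₀
  set j₀ : Fin n := ⟨1, by omega⟩ with hj₀
  have hij₀ : i₀ ≠ j₀ := by
    intro h0
    have := congrArg Fin.val h0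
    simp [hi₀, hj₀] at this
  have h1 := hrel i₀ j₀ hij₀ 1
  rw [map_one, one_mul, mul_one] at h1
  have ha := hrel i₀ j₀ hij₀ a
  rw [← h1] at ha
  have : (τ a - a) * H j₀ j₀ = 0 := by linear_combination ha
  rcases mul_eq_zero.mp this with h3 | h3
  · exact sub_eq_zero.mp h3
  · exact absurd h3 (hdne j₀)

set_option maxHeartbeats 1600000 in
/-- **Unitary case.** -/
theorem unit_core (hn : 3 ≤ n) {r : ℕ} [hr : Fact r.Prime] [hch : CharP F r] (hr2 : r ≠ 2)
    (hinj : Function.Injective (MulAut.conj : ProjectiveSpecialLinearGroup (Fin n) F →*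
      MulAut (ProjectiveSpecialLinearGroup (Fin n) F)))
    (hF : Fintype.card F = q ^ 2) (σ : F ≃+* F) (hσ : ∀ a, σ a = a ^ q)
    (A N' : Subgroup (MulAut (ProjectiveSpecialLinearGroup (Fin n) F))) [Finite N']
    (hodd : Odd (Nat.card N'))
    (hInnA : Cfsg.Inn (ProjectiveSpecialLinearGroup (Fin n) F) ≤ A)
    (hNA : N' ≤ A ⊓ Subgroup.centralizer {theta n σ})
    (hnorm : ∀ c ∈ A ⊓ Subgroup.centralizer {theta n σ}, ∀ y ∈ N', c * y * c⁻¹ ∈ N') :
    N' = ⊥ := by
  have h2 : (2 : F) ≠ 0 := by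
    intro h
    have h1 : ((2 : ℕ) : F) = 0 := by exact_mod_cast h
    rw [CharP.cast_eq_zero_iff F r] at h1
    exact hr2 ((Nat.prime_dvd_prime_iff_eq hr.out Nat.prime_two).mp h1)
  have hσσ : ∀ a, σ (σ a) = a := PU.bar_bar hF σ hσ
  set x := theta n σ with hx
  -- the linear part
  have hND : ∀ y ∈ N', y ∈ (Phi n F).range → y = 1 := by
    rintro _ hy ⟨h, rfl⟩
    have hy' : Phi n F h * fieldL n (RingEquiv.refl F) ∈ N' := by
      rw [fieldL_refl, mul_one]
      exact hy
    have hzero : ∀ u : Fin n → F, (⇑σ ∘ u) ⬝ᵥ u = 0 →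
        (⇑σ ∘ u) ⬝ᵥ ((h : Matrix (Fin n) (Fin n) F) *ᵥ u) = 0 := by
      intro u hiso
      exact unit_pair_zero hn hr2 h2 hinj hF σ hσ A N' hodd hInnA hNA hnorm h (RingEquiv.refl F) hy'
        u hiso
    obtain ⟨c, hc⟩ := unit_lin hn h2 hF σ hσ _ hzero
    have hc0 : c ≠ 0 := by
      intro h0
      set e : Fin n → F := Pi.single ⟨0, by omega⟩ 1 with he
      have hne : e ≠ 0 := by
        intro h1
        have := congrFun h1 ⟨0, by omega⟩
        rw [he, Pi.single_eq_same, Pi.zero_apply] at this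
        exact one_ne_zero this
      apply gl_mulVec_ne h e hne
      rw [hc, h0, zero_smul, Matrix.zero_mulVec]
    rw [Phi_eq_one_iff, Cfsg.Geo.mem_scalars_iff]
    exact ⟨Units.mk0 c hc0, hc⟩
  have hcommAll := comm_of_inf_bot A N' (Phi n F).range x hInnA Inn_le_range_Phi hnorm hND
  rw [eq_bot_iff]
  intro y hy
  rw [Subgroup.mem_bot]
  obtain ⟨h, τ, hyeq, -⟩ := odd_no_iota hn y _ hodd (pow_card_eq_one_of_mem N' y hy)
  obtain ⟨μ, hμ0, hμ⟩ := PU.exists_skew hF σ hσ
  have hτμ : τ μ ≠ 0 := by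
    intro h0
    exact hμ0 ((map_eq_zero τ).mp h0)
  have hpar : ∀ u : Fin n → F, u ≠ 0 → (⇑σ ∘ u) ⬝ᵥ u = 0 →
      ∃ k : F, (h : Matrix (Fin n) (Fin n) F) *ᵥ (⇑τ ∘ u) = k • u := by
    intro u hu hiso
    set fl := flagU σ u hu hiso with hfl
    have hl : MulAut.conj (QuotientGroup.mk (tS fl.v fl.φ fl.h μ) :
        ProjectiveSpecialLinearGroup (Fin n) F) ∈
        Cfsg.Inn (ProjectiveSpecialLinearGroup (Fin n) F) ⊓ Subgroup.centralizer {x} :=
      ⟨⟨_, rfl⟩, conj_mem_centralizer x _ (unit_fix σ hσσ u hu hiso μ hμ)⟩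
    have hfixy := fix_of_comm_conj hinj y _ (hcommAll y hy _ hl)
    rw [hyeq, semi_tS] at hfixy
    obtain ⟨r', hrn, hr'⟩ := mk_eq_imp _ _ hfixy
    rw [tS_val, tS_val] at hr'
    have hr1 := scalar_one_of_tM (by omega) _ _ _ _ _ _ r' (gFlag h (Flag.fmap τ fl)).h fl.h hrn hr'
    rw [hr1, one_smul] at hr'
    unfold tM at hr'
    have h4 := add_left_cancel hr'
    have h5 : Matrix.vecMulVec fl.v fl.φ = (μ⁻¹ * τ μ) • Matrix.vecMulVec (gFlag h (Flag.fmap τ fl)).v
        (gFlag h (Flag.fmap τ fl)).φ := by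
      rw [← smul_smul, h4, smul_smul, inv_mul_cancel₀ hμ0, one_smul]
    obtain ⟨⟨c, hc0, hc⟩, -⟩ := par_of_vmv_eq _ _ _ _ fl.hv fl.hφ _ h5
    refine ⟨c⁻¹, ?_⟩
    have hc' : u = c • ((h : Matrix (Fin n) (Fin n) F) *ᵥ (⇑τ ∘ u)) := hc
    rw [hc', smul_smul, inv_mul_cancel₀ hc0, one_smul]
    rw [← hc']
  have hτ := unit_tau hn h2 hF σ hσ h τ hpar
  have hτ1 : τ = RingEquiv.refl F := RingEquiv.ext hτ
  rw [hτ1, fieldL_refl, mul_one] at hyeq
  exact hND y hy ⟨h, hyeq.symm⟩

end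

end Cfsg.Agent.Lib.Helper16.LC
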