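import Mathlib
import Cfsg.Agent.Lib.Helper16.OB4

set_option autoImplicit false
set_option linter.unusedSectionVars false
set_option linter.unusedVariables false

/-! Odd-order subgroups normalised by the rotations. -/

namespace Cfsg.Agent.Lib.Helper16.LC

open Module Cfsg.Agent.Lib.Helper16.OB

universe u v

variable {K : Type u} [Field K] {U : Type v} [AddCommGroup U] [Module K U]
variable (Q : QuadraticForm K U) [Fintype K] [FiniteDimensional K U]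

set_option maxHeartbeats 1600000 in
/-- an odd-order group of isometries normalised by a group `S` of isometries which contains it,
contains the products of two reflections and is normalised by the reflections, is trivial. -/
theorem so_core (h2 : (2 : K) ≠ 0) (hQ : (QuadraticMap.polarBilin Q).Nondegenerate)
    (h3 : 3 ≤ finrank K U) (S H : Subgroup (U ≃ₗ[K] U)) [Finite H] (hodd : Odd (Nat.card H))
    (hSiso : ∀ s ∈ S, ∀ v, Q (s v) = Q v)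
    (hS2 : ∀ x y, Q x ≠ 0 → Q y ≠ 0 → rf Q x * rf Q y ∈ S)
    (hSn : ∀ x, Q x ≠ 0 → ∀ s ∈ S, rf Q x * s * (rf Q x)⁻¹ ∈ S)
    (hHS : H ≤ S) (hN : ∀ s ∈ S, ∀ g ∈ H, s * g * s⁻¹ ∈ H) : H = ⊥ := by
  classical
  have hU : Nontrivial U := by
    apply Module.nontrivial_of_finrank_pos (R := K)
    omega
  obtain ⟨x₀, hx₀⟩ := exists_nonsing h2 Q hQ (by omega)
  set ρ₀ := rf Q x₀ with hρ₀
  have hρρ : ρ₀ * ρ₀ = 1 := rf_mul_self Q x₀
  have hρi : ρ₀⁻¹ = ρ₀ := rf_inv Q x₀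
  set Hρ : Subgroup (U ≃ₗ[K] U) := H.map (MulAut.conj ρ₀).toMonoidHom with hHρ
  have hmemρ : ∀ g, g ∈ Hρ ↔ ρ₀ * g * ρ₀ ∈ H := by
    intro g
    rw [hHρ, Subgroup.mem_map]
    constructor
    · rintro ⟨g', hg', rfl⟩
      show ρ₀ * (ρ₀ * g' * ρ₀⁻¹) * ρ₀ ∈ H
      have : ρ₀ * (ρ₀ * g' * ρ₀⁻¹) * ρ₀ = (ρ₀ * ρ₀) * g' * (ρ₀⁻¹ * ρ₀) := by group
      rw [this, hρρ, inv_mul_cancel, one_mul, mul_one]
      exact hg'
    · intro hg
      refine ⟨ρ₀ * g * ρ₀, hg, ?_⟩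
      show ρ₀ * (ρ₀ * g * ρ₀) * ρ₀⁻¹ = g
      rw [hρi]
      have : ρ₀ * (ρ₀ * g * ρ₀) * ρ₀ = (ρ₀ * ρ₀) * g * (ρ₀ * ρ₀) := by group
      rw [this, hρρ, one_mul, mul_one]
  have hfinρ : Finite Hρ := by
    rw [hHρ]
    exact Finite.of_surjective _ ((MulAut.conj ρ₀).toMonoidHom.subgroupMap_surjective H)
  have hcardρ : Nat.card Hρ = Nat.card H := by
    rw [hHρ]
    exact Subgroup.card_map_of_injective (MulAut.conj ρ₀).injective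
  -- reflections swap `H` and `Hρ`
  have hswap1 : ∀ y, Q y ≠ 0 → ∀ g ∈ H, rf Q y * g * (rf Q y)⁻¹ ∈ Hρ := by
    intro y hy g hg
    have hyi : (rf Q y)⁻¹ = rf Q y := rf_inv Q y
    rw [hmemρ, hyi]
    have h1 : ρ₀ * (rf Q y * g * rf Q y) * ρ₀ = (ρ₀ * rf Q y) * g * (ρ₀ * rf Q y)⁻¹ := by
      rw [mul_inv_rev, hyi, hρi]; group
    rw [h1]
    exact hN _ (hS2 x₀ y hx₀ hy) g hg
  have hswap2 : ∀ y, Q y ≠ 0 → ∀ g ∈ Hρ, rf Q y * g * (rf Q y)⁻¹ ∈ H := by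
    intro y hy g hg
    rw [hmemρ] at hg
    have hyi : (rf Q y)⁻¹ = rf Q y := rf_inv Q y
    rw [hyi]
    have h1 : rf Q y * g * rf Q y = (rf Q y * ρ₀) * (ρ₀ * g * ρ₀) * (rf Q y * ρ₀)⁻¹ := by
      rw [mul_inv_rev, hyi, hρi]
      have : rf Q y * ρ₀ * (ρ₀ * g * ρ₀) * (ρ₀ * rf Q y) =
          rf Q y * (ρ₀ * ρ₀) * g * (ρ₀ * ρ₀) * rf Q y := by group
      rw [this, hρρ, mul_one, mul_one]
    rw [h1]
    exact hN _ (hS2 y x₀ hy hx₀) _ hg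
  have hisoH : ∀ g ∈ H, ∀ v, Q (g v) = Q v := fun g hg => hSiso g (hHS hg)
  have hisoρ : ∀ g ∈ Hρ, ∀ v, Q (g v) = Q v := by
    intro g hg v
    rw [hmemρ] at hg
    have h1 := hisoH _ hg (ρ₀ v)
    rw [LinearEquiv.mul_apply, LinearEquiv.mul_apply, ← LinearEquiv.mul_apply ρ₀ ρ₀, hρρ,
      LinearEquiv.coe_one, id_eq, hρ₀, Q_rf, Q_rf] at h1
    exact h1
  -- the intersection is trivial
  have hI : H ⊓ Hρ = ⊥ := by
    have hfinI : Finite ↥(H ⊓ Hρ) := by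
      apply Finite.of_injective (fun x : ↥(H ⊓ Hρ) => (⟨x.1, x.2.1⟩ : ↥H))
      intro a b hab
      apply Subtype.ext
      exact congrArg (fun t : ↥H => (t : U ≃ₗ[K] U)) hab
    have hoddI : Odd (Nat.card ↥(H ⊓ Hρ)) :=
      Odd.of_dvd_nat hodd (Subgroup.card_dvd_of_le inf_le_left)
    apply core_R1 Q h2 hQ h3 (H ⊓ Hρ) hoddI (fun g hg => hisoH g hg.1)
    intro y hy g hg
    exact ⟨hswap2 y hy g hg.2, hswap1 y hy g hg.1⟩
  -- `Hρ ≤ S`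
  have hρS : Hρ ≤ S := by
    intro g hg
    rw [hmemρ] at hg
    have := hSn x₀ hx₀ _ (hHS hg)
    rw [hρi] at this
    have e : ρ₀ * (ρ₀ * g * ρ₀) * ρ₀ = (ρ₀ * ρ₀) * g * (ρ₀ * ρ₀) := by group
    rw [← hρ₀, e, hρρ, one_mul, mul_one] at this
    exact this
  -- `S` normalises `Hρ`
  have hNρ : ∀ s ∈ S, ∀ g ∈ Hρ, s * g * s⁻¹ ∈ Hρ := by
    intro s hs g hg
    rw [hmemρ] at hg ⊢
    have h1 := hSn x₀ hx₀ s hs
    rw [← hρ₀, hρi] at h1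
    have h3 := hN _ h1 _ hg
    have e : ρ₀ * s * ρ₀ * (ρ₀ * g * ρ₀) * (ρ₀ * s * ρ₀)⁻¹ = ρ₀ * (s * g * s⁻¹) * ρ₀ := by
      rw [mul_inv_rev, mul_inv_rev, hρi]
      have : ρ₀ * s * ρ₀ * (ρ₀ * g * ρ₀) * (ρ₀ * (s⁻¹ * ρ₀)) =
          ρ₀ * s * (ρ₀ * ρ₀) * g * (ρ₀ * ρ₀) * s⁻¹ * ρ₀ := by group
      rw [this, hρρ, mul_one, mul_one]
      group
    rw [e] at h3
    exact h3
  -- the two subgroups commute
  have hcomm : ∀ (a : ↥H) (b : ↥Hρ), Commute (H.subtype a) (Hρ.subtype b) := by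
    intro a b
    have h1 : (a : U ≃ₗ[K] U) * b * (a : U ≃ₗ[K] U)⁻¹ * (b : U ≃ₗ[K] U)⁻¹ ∈ H ⊓ Hρ := by
      refine ⟨?_, ?_⟩
      · have e : (a : U ≃ₗ[K] U) * b * (a : U ≃ₗ[K] U)⁻¹ * (b : U ≃ₗ[K] U)⁻¹ =
            a * ((b : U ≃ₗ[K] U) * (a : U ≃ₗ[K] U)⁻¹ * (b : U ≃ₗ[K] U)⁻¹) := by group
        rw [e]
        exact H.mul_mem a.2 (hN _ (hρS b.2) _ (H.inv_mem a.2))
      · exact Hρ.mul_mem (hNρ _ (hHS a.2) _ b.2) (Hρ.inv_mem b.2)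
    rw [hI, Subgroup.mem_bot] at h1
    show (a : U ≃ₗ[K] U) * b = b * a
    calc (a : U ≃ₗ[K] U) * b = ((a : U ≃ₗ[K] U) * b * (a : U ≃ₗ[K] U)⁻¹ * (b : U ≃ₗ[K] U)⁻¹) *
        (b * a) := by group
      _ = b * a := by rw [h1, one_mul]
  set f : ↥H × ↥Hρ →* (U ≃ₗ[K] U) := MonoidHom.noncommCoprod H.subtype Hρ.subtype hcomm with hf
  set M : Subgroup (U ≃ₗ[K] U) := f.range with hM
  have hfM : Finite M := by
    rw [hM]
    exact Finite.of_surjective _ f.rangeRestrict_surjective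
  have hoddM : Odd (Nat.card M) := by
    have h1 : Nat.card M ∣ Nat.card (↥H × ↥Hρ) := Subgroup.card_range_dvd f
    rw [Nat.card_prod, hcardρ] at h1
    exact Odd.of_dvd_nat (hodd.mul hodd) h1
  have hMbot : M = ⊥ := by
    apply core_R1 Q h2 hQ h3 M hoddM
    · rintro _ ⟨⟨a, b⟩, rfl⟩ v
      rw [hf, MonoidHom.noncommCoprod_apply]
      show Q ((a : U ≃ₗ[K] U) ((b : U ≃ₗ[K] U) v)) = Q v
      rw [hisoH a a.2, hisoρ b b.2]
    · rintro y hy _ ⟨⟨a, b⟩, rfl⟩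
      rw [hf, MonoidHom.noncommCoprod_apply]
      have h1 := hswap1 y hy a a.2
      have h3 := hswap2 y hy b b.2
      refine ⟨(⟨_, h3⟩, ⟨_, h1⟩), ?_⟩
      rw [MonoidHom.noncommCoprod_apply]
      show (rf Q y * b * (rf Q y)⁻¹) * (rf Q y * a * (rf Q y)⁻¹) =
        rf Q y * ((a : U ≃ₗ[K] U) * b) * (rf Q y)⁻¹
      have hc := hcomm a b
      have hc' : (a : U ≃ₗ[K] U) * b = b * a := hc
      rw [hc']
      group
  rw [eq_bot_iff]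
  intro g hg
  have : g ∈ M := ⟨(⟨g, hg⟩, 1), by rw [hf, MonoidHom.noncommCoprod_apply]; simp⟩
  rw [hMbot] at this
  exact this

end Cfsg.Agent.Lib.Helper16.LC
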