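import Mathlib
import Cfsg.Agent.Lib.Helper16.LC5
import Cfsg.Agent.Lib.Helper16.LC6
import Cfsg.Agent.Lib.Helper16.OB18
import Cfsg.Agent.Lib.Helper16.OB8
import Cfsg.Agent.Lib.Helper16.PG6

set_option autoImplicit false
set_option linter.unusedSectionVars false
set_option linter.unusedVariables false

/-! The orthogonal graph involutions of `PSL_n`: the linear part of the core. -/

namespace Cfsg.Agent.Lib.Helper16.LC

open Matrix Module Cfsg.Agent.Lib.Helper16 Cfsg.Agent.Lib.Helper16.AP Cfsg.Agent.Lib.Helper16.PG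
  Cfsg.Agent.Lib.Helper16.AF Cfsg.Agent.Lib.Helper16.OB Cfsg.Agent.Lib.Helper16.SpSemi

universe u

section
variable {ι : Type} [Fintype ι] [DecidableEq ι] {F : Type u} [Field F]

theorem bil_of_iso (h2 : (2 : F) ≠ 0) (M : Matrix ι ι F) (hM : Mᵀ = M) (T : GL ι F)
    (hT : T ∈ Cfsg.isometryGroup F (fun v => gramQ M v)) (u v : ι → F) :
    bilM M ((T : Matrix ι ι F) *ᵥ u) ((T : Matrix ι ι F) *ᵥ v) = bilM M u v := by
  rw [mem_iso_iff] at hT
  have h1 : QuadraticMap.polar (gramQ M) ((T : Matrix ι ι F) *ᵥ u) ((T : Matrix ι ι F) *ᵥ v) =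
      QuadraticMap.polar (gramQ M) u v := by
    unfold QuadraticMap.polar
    rw [← Matrix.mulVec_add]
    have a1 := hT (u + v)
    have a2 := hT u
    have a3 := hT v
    rw [a1, a2, a3]
  rw [gramQ_polar M hM, gramQ_polar M hM] at h1
  exact mul_left_cancel₀ h2 h1

theorem iso_mat (h2 : (2 : F) ≠ 0) (M : Matrix ι ι F) (hM : Mᵀ = M) (T : GL ι F)
    (hT : T ∈ Cfsg.isometryGroup F (fun v => gramQ M v)) :
    (T : Matrix ι ι F)ᵀ * M * (T : Matrix ι ι F) = M := by
  apply mat_ext_bilin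
  intro x y
  rw [bilin_congr]
  exact bil_of_iso h2 M hM T hT x y

theorem iso_of_mat (M : Matrix ι ι F) (T : GL ι F)
    (hT : (T : Matrix ι ι F)ᵀ * M * (T : Matrix ι ι F) = M) :
    T ∈ Cfsg.isometryGroup F (fun v => gramQ M v) := by
  rw [mem_iso_iff]
  intro x
  show gramQ M _ = gramQ M x
  rw [gramQ_apply, gramQ_apply]
  unfold bilM
  rw [← bilin_congr, hT]

theorem det_sq_of_mat (M : Matrix ι ι F) (hdet : M.det ≠ 0) (T : Matrix ι ι F)
    (hT : Tᵀ * M * T = M) : T.det * T.det = 1 := by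
  have h1 := congrArg Matrix.det hT
  rw [Matrix.det_mul, Matrix.det_mul, Matrix.det_transpose] at h1
  have h3 : (T.det * T.det - 1) * M.det = 0 := by linear_combination h1
  rcases mul_eq_zero.mp h3 with h | h
  · linear_combination h
  · exact absurd h hdet

end

section
variable {n : ℕ} {F : Type u} [Field F] [Fintype F]

theorem gl_inv_transpose_of_symm (g : GL (Fin n) F)
    (hg : (g : Matrix (Fin n) (Fin n) F)ᵀ = (g : Matrix (Fin n) (Fin n) F)) :
    ((g⁻¹ : GL (Fin n) F) : Matrix (Fin n) (Fin n) F)ᵀ =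
      ((g⁻¹ : GL (Fin n) F) : Matrix (Fin n) (Fin n) F) := by
  have h1 : ((g⁻¹ : GL (Fin n) F) : Matrix (Fin n) (Fin n) F)ᵀ * (g : Matrix (Fin n) (Fin n) F) = 1 := by
    rw [← hg, ← Matrix.transpose_mul, gl_mul_inv, Matrix.transpose_one]
  calc ((g⁻¹ : GL (Fin n) F) : Matrix (Fin n) (Fin n) F)ᵀ
      = ((g⁻¹ : GL (Fin n) F) : Matrix (Fin n) (Fin n) F)ᵀ * ((g : Matrix (Fin n) (Fin n) F) *
        ((g⁻¹ : GL (Fin n) F) : Matrix (Fin n) (Fin n) F)) := by rw [gl_mul_inv, Matrix.mul_one]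
    _ = ((g⁻¹ : GL (Fin n) F) : Matrix (Fin n) (Fin n) F) := by
      rw [← Matrix.mul_assoc, h1, Matrix.one_mul]

theorem gl_inv_det_ne (g : GL (Fin n) F) :
    (((g⁻¹ : GL (Fin n) F) : Matrix (Fin n) (Fin n) F)).det ≠ 0 := by
  intro h
  have h1 := congrArg Matrix.det (gl_inv_mul g)
  rw [Matrix.det_mul, h, zero_mul, Matrix.det_one] at h1
  exact zero_ne_one h1

set_option maxHeartbeats 4000000 in
/-- **Orthogonal case, linear part.** -/
theorem orth_lin_core (hn : 3 ≤ n) (h2 : (2 : F) ≠ 0) (g : GL (Fin n) F)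
    (hg : (g : Matrix (Fin n) (Fin n) F)ᵀ = (g : Matrix (Fin n) (Fin n) F))
    (N₁ : Subgroup (MulAut (ProjectiveSpecialLinearGroup (Fin n) F))) [Finite N₁]
    (hodd : Odd (Nat.card N₁))
    (hNr : N₁ ≤ (Phi n F).range) (hNc : N₁ ≤ Subgroup.centralizer {Phi n F g * iota n F})
    (hnorm : ∀ s : SpecialLinearGroup (Fin n) F,
      Phi n F (SpecialLinearGroup.toGL s) ∈ Subgroup.centralizer {Phi n F g * iota n F} →
      ∀ y ∈ N₁, Phi n F (SpecialLinearGroup.toGL s) * y * (Phi n F (SpecialLinearGroup.toGL s))⁻¹ ∈ N₁) :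
    N₁ = ⊥ := by
  classical
  set x := Phi n F g * iota n F with hx
  set M₀ : Matrix (Fin n) (Fin n) F := ((g⁻¹ : GL (Fin n) F) : Matrix (Fin n) (Fin n) F) with hM₀
  have hMs : M₀ᵀ = M₀ := gl_inv_transpose_of_symm g hg
  have hMdet : M₀.det ≠ 0 := gl_inv_det_ne g
  have hMunit : IsUnit M₀ := (Matrix.isUnit_iff_isUnit_det _).mpr (isUnit_iff_ne_zero.mpr hMdet)
  have hM0 : M₀ ≠ 0 := by
    intro h
    have hne : Nonempty (Fin n) := ⟨⟨0, by omega⟩⟩
    rw [h, Matrix.det_zero] at hMdet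
    exact hMdet rfl
  set Q : QuadraticForm F (Fin n → F) := gramQ M₀ with hQdef
  have hQ : (QuadraticMap.polarBilin Q).Nondegenerate := gramQ_nondeg h2 M₀ hMs hMunit
  -- commutation with `x`
  have hcomm : ∀ h : GL (Fin n) F, Phi n F h ∈ Subgroup.centralizer {x} ↔
      ∃ c : Fˣ, (h : Matrix (Fin n) (Fin n) F)ᵀ * M₀ * (h : Matrix (Fin n) (Fin n) F) = (c : F) • M₀ := by
    intro h
    rw [Subgroup.mem_centralizer_iff, ← mem_simM_iff, ← comm_graph_iff]
    constructor
    · intro h1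
      exact (h1 x (Set.mem_singleton _)).symm
    · intro h1 y hy
      rw [Set.mem_singleton_iff] at hy
      rw [hy]
      exact h1.symm
  set I := Cfsg.isometryGroup F (fun v => Q v) with hI
  set π : ↥I →* MulAut (ProjectiveSpecialLinearGroup (Fin n) F) := (Phi n F).comp I.subtype with hπ
  have hπapp : ∀ T : ↥I, π T = Phi n F (T : GL (Fin n) F) := fun T => rfl
  have hImat : ∀ T : ↥I, ((T : GL (Fin n) F) : Matrix (Fin n) (Fin n) F)ᵀ * M₀ *
      ((T : GL (Fin n) F) : Matrix (Fin n) (Fin n) F) = M₀ := fun T => iso_mat h2 M₀ hMs T.1 T.2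
  have hIcent : ∀ T : ↥I, π T ∈ Subgroup.centralizer {x} := by
    intro T
    rw [hπapp, hcomm]
    exact ⟨1, by rw [hImat, Units.val_one, one_smul]⟩
  -- the kernel
  have hker : ∀ z ∈ π.ker, z * z = 1 ∧ ∀ T, T * z = z * T := by
    intro z hz
    rw [MonoidHom.mem_ker, hπapp, Phi_eq_one_iff, Cfsg.Geo.mem_scalars_iff] at hz
    obtain ⟨d, hd⟩ := hz
    have h1 := hImat z
    rw [hd, Matrix.transpose_smul, Matrix.transpose_one, Matrix.smul_mul, Matrix.one_mul,
      Matrix.mul_smul, Matrix.mul_one, smul_smul] at h1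
    have hdd : (d : F) * d = 1 := by
      by_contra hne
      apply hM0
      have h3 : ((d : F) * d - 1) • M₀ = 0 := by rw [sub_smul, h1, one_smul, sub_self]
      rcases smul_eq_zero.mp h3 with h4 | h4
      · exact absurd (sub_eq_zero.mp h4) hne
      · exact h4
    constructor
    · apply Subtype.ext
      apply Units.ext
      show ((z : GL (Fin n) F) : Matrix (Fin n) (Fin n) F) * ((z : GL (Fin n) F) : Matrix (Fin n) (Fin n) F) = 1
      rw [hd, Matrix.smul_mul, Matrix.one_mul, smul_smul, hdd, one_smul]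
    · intro T
      apply Subtype.ext
      apply Units.ext
      show ((T : GL (Fin n) F) : Matrix (Fin n) (Fin n) F) * ((z : GL (Fin n) F) : Matrix (Fin n) (Fin n) F) =
        ((z : GL (Fin n) F) : Matrix (Fin n) (Fin n) F) * ((T : GL (Fin n) F) : Matrix (Fin n) (Fin n) F)
      rw [hd, Matrix.mul_smul, Matrix.mul_one, Matrix.smul_mul, Matrix.one_mul]
  set k := Nat.card N₁ with hk
  -- `N₁` is induced by isometries
  have hNrange : N₁ ≤ π.range := by
    intro y hy
    obtain ⟨h, rfl⟩ := hNr hy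
    obtain ⟨c, hc⟩ := (hcomm h).mp (hNc hy)
    set h₂ : GL (Fin n) F := h * h * scalGL n c⁻¹ with hh₂
    have hh₂I : h₂ ∈ I := by
      apply iso_of_mat
      have e0 : (h₂ : Matrix (Fin n) (Fin n) F) = ((c⁻¹ : Fˣ) : F) •
          ((h : Matrix (Fin n) (Fin n) F) * (h : Matrix (Fin n) (Fin n) F)) := by
        rw [hh₂, Units.val_mul, Units.val_mul, scalGL_val, Matrix.mul_smul, Matrix.mul_one]
      have e1 : ((h : Matrix (Fin n) (Fin n) F) * (h : Matrix (Fin n) (Fin n) F))ᵀ * M₀ *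
          ((h : Matrix (Fin n) (Fin n) F) * (h : Matrix (Fin n) (Fin n) F)) =
          ((c : F) * (c : F)) • M₀ := by
        have : ((h : Matrix (Fin n) (Fin n) F) * (h : Matrix (Fin n) (Fin n) F))ᵀ * M₀ *
          ((h : Matrix (Fin n) (Fin n) F) * (h : Matrix (Fin n) (Fin n) F)) =
          (h : Matrix (Fin n) (Fin n) F)ᵀ * ((h : Matrix (Fin n) (Fin n) F)ᵀ * M₀ *
          (h : Matrix (Fin n) (Fin n) F)) * (h : Matrix (Fin n) (Fin n) F) := by
          rw [Matrix.transpose_mul]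
          simp only [Matrix.mul_assoc]
        rw [this, hc, Matrix.mul_smul, Matrix.smul_mul, hc, smul_smul]
      rw [e0, Matrix.transpose_smul, Matrix.smul_mul, Matrix.smul_mul, Matrix.mul_smul, e1, smul_smul,
        smul_smul]
      have : ((c⁻¹ : Fˣ) : F) * ((c⁻¹ : Fˣ) : F) * ((c : F) * (c : F)) = 1 := by
        rw [Units.val_inv_eq_inv_val]
        have := c.ne_zero
        field_simp
      rw [this, one_smul]
    have hPh₂ : Phi n F h₂ = Phi n F h * Phi n F h := by
      rw [hh₂, map_mul, map_mul, Phi_scalGL, mul_one]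
    obtain ⟨j, hj⟩ := hodd
    have hyk : (Phi n F h) ^ k = 1 := pow_card_eq_one_of_mem N₁ _ hy
    refine ⟨(⟨h₂, hh₂I⟩ : ↥I) ^ (j + 1), ?_⟩
    rw [map_pow, hπapp]
    show (Phi n F h₂) ^ (j + 1) = Phi n F h
    rw [hPh₂, ← pow_two, ← pow_mul]
    have : 2 * (j + 1) = k + 1 := by rw [hk] at hj ⊢; omega
    rw [this, pow_succ, hyk, one_mul]
  have hfinI : Finite ↥I := inferInstance
  obtain ⟨H₀, hcard₀, hmap, hchar⟩ := odd_lift π hker N₁ hodd hNrange
  set Φ' : ↥I →* ((Fin n → F) ≃ₗ[F] (Fin n → F)) :=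
    (glLin (ι := Fin n) (F := F)).toMonoidHom.comp I.subtype with hΦ'
  have hΦ'app : ∀ T : ↥I, Φ' T = glLin (T : GL (Fin n) F) := fun T => rfl
  have hΦinj : Function.Injective Φ' := fun a b hab => Subtype.ext (glLin.injective hab)
  set H : Subgroup ((Fin n → F) ≃ₗ[F] (Fin n → F)) := H₀.map Φ' with hH
  have hHcard : Nat.card H = k := by rw [hH, Subgroup.card_map_of_injective hΦinj, hcard₀]
  have hkpos : 0 < k := Nat.card_pos
  have hHfin : Finite H := Nat.finite_of_card_ne_zero (by rw [hHcard]; omega)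
  have hHodd : Odd (Nat.card H) := by rw [hHcard]; exact hodd
  -- determinants
  have hdetsq : ∀ T : ↥I, isoDet (fun v => Q v) T * isoDet (fun v => Q v) T = 1 := by
    intro T
    apply Units.ext
    rw [Units.val_mul, isoDet_coe, Units.val_one]
    exact det_sq_of_mat M₀ hMdet _ (hImat T)
  set S : Subgroup ((Fin n → F) ≃ₗ[F] (Fin n → F)) := (isoDet (fun v => Q v)).ker.map Φ' with hS
  have hfr : finrank F (Fin n → F) = n := by rw [Module.finrank_fintype_fun_eq_card, Fintype.card_fin]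
  have hHbot : H = ⊥ := by
    apply so_core Q h2 hQ (by rw [hfr]; exact hn) S H hHodd
    · rintro _ ⟨T, -, rfl⟩ v
      rw [hΦ'app, glLin_apply]
      exact iso_pres (fun v => Q v) T v
    · intro a b ha hb
      refine ⟨reflG Q a ha * reflG Q b hb, ?_, ?_⟩
      · rw [SetLike.mem_coe, MonoidHom.mem_ker, map_mul, isoDet_reflG, isoDet_reflG]
        simp
      · rw [map_mul, hΦ'app, hΦ'app, glLin_reflG, glLin_reflG]
    · rintro a ha _ ⟨T, hT, rfl⟩
      refine ⟨reflG Q a ha * T * (reflG Q a ha)⁻¹, ?_, ?_⟩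
      · exact (MonoidHom.normal_ker _).conj_mem T hT _
      · rw [map_mul, map_mul, map_inv, hΦ'app (reflG Q a ha), glLin_reflG]
    · rintro _ ⟨T, hT, rfl⟩
      refine ⟨T, ?_, rfl⟩
      rw [SetLike.mem_coe, MonoidHom.mem_ker]
      have hT' := (hchar T).mp hT
      have h1 : (isoDet (fun v => Q v) T) ^ k = 1 := by rw [← map_pow, hT'.2, map_one]
      obtain ⟨j, hj⟩ := hodd
      have h3 : (isoDet (fun v => Q v) T) ^ (2 * j) = 1 := by
        rw [pow_mul, pow_two, hdetsq, one_pow]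
      rw [hj, pow_succ, h3, one_mul] at h1
      exact h1
    · rintro _ ⟨Ts, hTs, rfl⟩ _ ⟨T, hT, rfl⟩
      refine ⟨Ts * T * Ts⁻¹, ?_, ?_⟩
      · rw [SetLike.mem_coe, hchar]
        have hT' := (hchar T).mp hT
        refine ⟨?_, ?_⟩
        · rw [map_mul, map_mul, map_inv]
          rw [SetLike.mem_coe, MonoidHom.mem_ker] at hTs
          have hdet1 : ((Ts : GL (Fin n) F) : Matrix (Fin n) (Fin n) F).det = 1 := by
            rw [← isoDet_coe, hTs, Units.val_one]
          set s' : SpecialLinearGroup (Fin n) F := ⟨_, hdet1⟩ with hs'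
          have e1 : SpecialLinearGroup.toGL s' = (Ts : GL (Fin n) F) := by
            apply Units.ext
            rfl
          have := hnorm s' (by rw [e1]; exact hIcent Ts) _ hT'.1
          rw [e1] at this
          exact this
        · rw [conj_pow, hT'.2, mul_one, mul_inv_cancel]
      · rw [map_mul, map_mul, map_inv]
  have hH₀bot : H₀ = ⊥ := (Subgroup.map_eq_bot_iff_of_injective H₀ hΦinj).mp hHbot
  rw [← hmap, hH₀bot, Subgroup.map_bot]

end

end Cfsg.Agent.Lib.Helper16.LC
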