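import Mathlib
import Cfsg.Agent.Lib.Helper16.LC7
import Cfsg.Agent.Lib.Helper16.LC9
import Cfsg.Agent.Lib.Helper16.OL11

set_option autoImplicit false
set_option linter.unusedSectionVars false
set_option linter.unusedVariables false

/-! The orthogonal graph involutions of `PSL_n`: the core. -/

namespace Cfsg.Agent.Lib.Helper16.LC

open Matrix Module Cfsg.Agent.Lib.Helper16 Cfsg.Agent.Lib.Helper16.AP Cfsg.Agent.Lib.Helper16.PG
  Cfsg.Agent.Lib.Helper16.AF Cfsg.Agent.Lib.Helper16.OB Cfsg.Agent.Lib.Helper16.SpSemi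
  Cfsg.Agent.Lib.Helper16.OL

universe u

section fld
variable {F : Type u} [Field F]

theorem tau_fix_of_sq (τ : RingAut F) (k : ℕ) (hk : Odd k) (hτk : τ ^ k = 1) (a : F)
    (h : τ a * τ a = a * a) : τ a = a := by
  have hprod : (τ a - a) * (τ a + a) = 0 := by linear_combination h
  rcases mul_eq_zero.mp hprod with h1 | h1
  · exact sub_eq_zero.mp h1
  · have hτa : τ a = -a := by linear_combination h1
    have hττ : τ (τ a) = a := by rw [hτa, map_neg, hτa, neg_neg]
    have hpow2 : ∀ j : ℕ, (τ ^ (2 * j)) a = a := by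
      intro j
      induction j with
      | zero => simp
      | succ j ih =>
        rw [Nat.mul_succ, pow_add, pow_two]
        show (τ ^ (2 * j)) (τ (τ a)) = a
        rw [hττ, ih]
    obtain ⟨j, hj⟩ := hk
    have h3 : (τ ^ k) a = τ a := by
      rw [hj, pow_succ]
      show (τ ^ (2 * j)) (τ a) = τ a
      have : (τ ^ (2 * j)) (τ a) = τ ((τ ^ (2 * j)) a) := by
        rw [← RingAut.mul_apply, ← RingAut.mul_apply, ← pow_succ, ← pow_succ']
      rw [this, hpow2]
    rw [hτk] at h3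
    exact h3.symm

end fld

section
variable {n : ℕ} {F : Type u} [Field F]

theorem trace_semi (h : GL (Fin n) F) (τ : F ≃+* F) (ρ : SpecialLinearGroup (Fin n) F) :
    ((conjSL h (Cfsg.Agent.Lib.Helper16.PU.mapSLEquiv τ ρ) : SpecialLinearGroup (Fin n) F) :
      Matrix (Fin n) (Fin n) F).trace = τ ((ρ : Matrix (Fin n) (Fin n) F).trace) := by
  rw [conjSL_val, Matrix.trace_mul_cycle, gl_inv_mul, Matrix.one_mul,
    Cfsg.Agent.Lib.Helper16.PU.mapSLEquiv_val]
  unfold Matrix.trace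
  rw [map_sum]
  rfl

/-- an automorphism `Φ(h) φ_τ` fixing the class of `ρ`, where `ρ` and `ρ⁻¹` have the same trace `a`:
then `τ(a)² = a²`. -/
theorem fix_trace_inv (hn : 1 ≤ n) (h : GL (Fin n) F) (τ : F ≃+* F) (ρ : SpecialLinearGroup (Fin n) F)
    (hfix : (Phi n F h * fieldL n τ) (QuotientGroup.mk ρ) = QuotientGroup.mk ρ)
    (htr : ((ρ⁻¹ : SpecialLinearGroup (Fin n) F) : Matrix (Fin n) (Fin n) F).trace =
      (ρ : Matrix (Fin n) (Fin n) F).trace) :
    τ ((ρ : Matrix (Fin n) (Fin n) F).trace) * τ ((ρ : Matrix (Fin n) (Fin n) F).trace) =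
      (ρ : Matrix (Fin n) (Fin n) F).trace * (ρ : Matrix (Fin n) (Fin n) F).trace := by
  set a := (ρ : Matrix (Fin n) (Fin n) F).trace with ha
  rw [MulAut.mul_apply, fieldL_mk, Phi_mk] at hfix
  set ρ' := conjSL h (Cfsg.Agent.Lib.Helper16.PU.mapSLEquiv τ ρ) with hρ'
  obtain ⟨z, hzn, hz⟩ := mk_eq_imp _ _ hfix
  have hz0 : z ≠ 0 := by
    intro h0
    rw [h0, zero_pow (by omega)] at hzn
    exact zero_ne_one hzn
  -- (1)
  have h1 : z * τ a = a := by
    have := congrArg Matrix.trace hz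
    rw [Matrix.trace_smul, smul_eq_mul, hρ', trace_semi] at this
    exact this
  -- the inverse
  have hinv : ((ρ'⁻¹ : SpecialLinearGroup (Fin n) F) : Matrix (Fin n) (Fin n) F) =
      z • ((ρ⁻¹ : SpecialLinearGroup (Fin n) F) : Matrix (Fin n) (Fin n) F) := by
    apply sl_inv_val_eq
    have e : (ρ' : Matrix (Fin n) (Fin n) F) = z⁻¹ • (ρ : Matrix (Fin n) (Fin n) F) := by
      rw [← hz, smul_smul, inv_mul_cancel₀ hz0, one_smul]
    rw [e, Matrix.smul_mul, Matrix.mul_smul, smul_smul, mul_inv_cancel₀ hz0, one_smul, sl_inv_mul]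
  have h2 : τ a = z * a := by
    have e1 : ρ'⁻¹ = conjSL h (Cfsg.Agent.Lib.Helper16.PU.mapSLEquiv τ ρ⁻¹) := by
      rw [hρ', map_inv, map_inv]
    have := congrArg Matrix.trace hinv
    rw [e1, trace_semi, htr, Matrix.trace_smul, smul_eq_mul, ← htr, htr] at this
    exact this
  calc τ a * τ a = (z * a) * τ a := by rw [← h2]
    _ = a * (z * τ a) := by ring
    _ = a * a := by rw [h1]

/-- the product of two reflections, in `SL_n`. -/
noncomputable def rotS (Q : QuadraticForm F (Fin n → F)) (a b : Fin n → F) (ha : Q a ≠ 0)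
    (hb : Q b ≠ 0) : SpecialLinearGroup (Fin n) F :=
  ⟨Cfsg.reflectionMatrix (⇑Q : (Fin n → F) → F) a * Cfsg.reflectionMatrix (⇑Q : (Fin n → F) → F) b, by
    rw [Matrix.det_mul, refl_det Q a ha, refl_det Q b hb]; norm_num⟩

theorem rotS_val (Q : QuadraticForm F (Fin n → F)) (a b : Fin n → F) (ha : Q a ≠ 0) (hb : Q b ≠ 0) :
    ((rotS Q a b ha hb : SpecialLinearGroup (Fin n) F) : Matrix (Fin n) (Fin n) F) =
      Cfsg.reflectionMatrix (⇑Q : (Fin n → F) → F) a * Cfsg.reflectionMatrix (⇑Q : (Fin n → F) → F) b :=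
  rfl

theorem rotS_inv (Q : QuadraticForm F (Fin n → F)) (a b : Fin n → F) (ha : Q a ≠ 0) (hb : Q b ≠ 0) :
    (rotS Q a b ha hb)⁻¹ = rotS Q b a hb ha := by
  apply inv_eq_of_mul_eq_one_right
  apply Subtype.ext
  show Cfsg.reflectionMatrix (⇑Q : (Fin n → F) → F) a * Cfsg.reflectionMatrix (⇑Q : (Fin n → F) → F) b *
    (Cfsg.reflectionMatrix (⇑Q : (Fin n → F) → F) b * Cfsg.reflectionMatrix (⇑Q : (Fin n → F) → F) a) = 1
  rw [Matrix.mul_assoc, ← Matrix.mul_assoc (Cfsg.reflectionMatrix (⇑Q : (Fin n → F) → F) b),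
    refl_mul_self Q b hb, Matrix.one_mul, refl_mul_self Q a ha]

theorem rotS_iso (Q : QuadraticForm F (Fin n → F)) (a b : Fin n → F) (ha : Q a ≠ 0) (hb : Q b ≠ 0)
    (v : Fin n → F) :
    Q (((rotS Q a b ha hb : SpecialLinearGroup (Fin n) F) : Matrix (Fin n) (Fin n) F) *ᵥ v) = Q v := by
  rw [rotS_val, ← Matrix.mulVec_mulVec]
  have h1 := iso_pres (⇑Q : (Fin n → F) → F) (reflG Q a ha)
    (Cfsg.reflectionMatrix (⇑Q : (Fin n → F) → F) b *ᵥ v)
  have h3 := iso_pres (⇑Q : (Fin n → F) → F) (reflG Q b hb) v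
  rw [reflG_coe] at h1 h3
  rw [h1, h3]

theorem rotS_trace_inv (Q : QuadraticForm F (Fin n → F)) (a b : Fin n → F) (ha : Q a ≠ 0)
    (hb : Q b ≠ 0) :
    (((rotS Q a b ha hb)⁻¹ : SpecialLinearGroup (Fin n) F) : Matrix (Fin n) (Fin n) F).trace =
      ((rotS Q a b ha hb : SpecialLinearGroup (Fin n) F) : Matrix (Fin n) (Fin n) F).trace := by
  rw [rotS_inv, rotS_val, rotS_val, Matrix.trace_mul_comm]

end

section
variable {n : ℕ} {F : Type u} [Field F] [Fintype F]

set_option maxHeartbeats 3200000 in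
/-- **Orthogonal case.** -/
theorem orth_core (hn : 3 ≤ n) {r : ℕ} [hr : Fact r.Prime] [hch : CharP F r] (hr2 : r ≠ 2)
    (hinj : Function.Injective (MulAut.conj : ProjectiveSpecialLinearGroup (Fin n) F →*
      MulAut (ProjectiveSpecialLinearGroup (Fin n) F)))
    (g : GL (Fin n) F) (hg : (g : Matrix (Fin n) (Fin n) F)ᵀ = (g : Matrix (Fin n) (Fin n) F))
    (A N' : Subgroup (MulAut (ProjectiveSpecialLinearGroup (Fin n) F))) [Finite N']
    (hodd : Odd (Nat.card N'))
    (hInnA : Cfsg.Inn (ProjectiveSpecialLinearGroup (Fin n) F) ≤ A)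
    (hNA : N' ≤ A ⊓ Subgroup.centralizer {Phi n F g * iota n F})
    (hnorm : ∀ c ∈ A ⊓ Subgroup.centralizer {Phi n F g * iota n F}, ∀ y ∈ N', c * y * c⁻¹ ∈ N') :
    N' = ⊥ := by
  classical
  have h2 : (2 : F) ≠ 0 := by
    intro h
    have h1 : ((2 : ℕ) : F) = 0 := by exact_mod_cast h
    rw [CharP.cast_eq_zero_iff F r] at h1
    exact hr2 ((Nat.prime_dvd_prime_iff_eq hr.out Nat.prime_two).mp h1)
  have h4 : (4 : F) ≠ 0 := by
    have : (4 : F) = 2 * 2 := by norm_num
    rw [this]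
    exact mul_ne_zero h2 h2
  set x := Phi n F g * iota n F with hx
  set M₀ : Matrix (Fin n) (Fin n) F := ((g⁻¹ : GL (Fin n) F) : Matrix (Fin n) (Fin n) F) with hM₀
  have hMs : M₀ᵀ = M₀ := gl_inv_transpose_of_symm g hg
  have hMdet : M₀.det ≠ 0 := gl_inv_det_ne g
  have hMunit : IsUnit M₀ := (Matrix.isUnit_iff_isUnit_det _).mpr (isUnit_iff_ne_zero.mpr hMdet)
  set Q : QuadraticForm F (Fin n → F) := gramQ M₀ with hQdef
  have hQ : (QuadraticMap.polarBilin Q).Nondegenerate := gramQ_nondeg h2 M₀ hMs hMunit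
  -- special isometries centralise `x`
  have hcent : ∀ ρ : SpecialLinearGroup (Fin n) F,
      (∀ v, Q ((ρ : Matrix (Fin n) (Fin n) F) *ᵥ v) = Q v) →
      Phi n F (SpecialLinearGroup.toGL ρ) ∈ Subgroup.centralizer {x} := by
    intro ρ hρ
    have hmem : SpecialLinearGroup.toGL ρ ∈ Cfsg.isometryGroup F (fun v => gramQ M₀ v) := by
      rw [mem_iso_iff]
      intro v
      exact hρ v
    have hsim : SpecialLinearGroup.toGL ρ ∈ Cfsg.Geo.similarityGroup (bilM M₀) :=
      ⟨1, fun u v => by rw [bil_of_iso h2 M₀ hMs _ hmem, Units.val_one, one_mul]⟩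
    have := (comm_graph_iff g (SpecialLinearGroup.toGL ρ)).mpr hsim
    rw [Subgroup.mem_centralizer_iff]
    intro y hy
    rw [Set.mem_singleton_iff] at hy
    rw [hy]
    exact this.symm
  -- the linear part
  have hND : ∀ y ∈ N', y ∈ (Phi n F).range → y = 1 := by
    intro y hy hyr
    set N₁ : Subgroup (MulAut (ProjectiveSpecialLinearGroup (Fin n) F)) := N' ⊓ (Phi n F).range with hN₁
    have hfin₁ : Finite ↥N₁ := by
      apply Finite.of_injective (fun z : ↥N₁ => (⟨z.1, z.2.1⟩ : ↥N'))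
      intro a b hab
      apply Subtype.ext
      exact congrArg (fun t : ↥N' => (t : MulAut (ProjectiveSpecialLinearGroup (Fin n) F))) hab
    have hodd₁ : Odd (Nat.card ↥N₁) := Odd.of_dvd_nat hodd (Subgroup.card_dvd_of_le inf_le_left)
    have hbot : N₁ = ⊥ := by
      apply orth_lin_core hn h2 g hg N₁ hodd₁ inf_le_right (fun z hz => (hNA hz.1).2)
      intro s hs z hz
      refine ⟨?_, ?_⟩
      · apply hnorm _ ⟨hInnA ?_, hs⟩ _ hz.1
        rw [← conj_mk_eq_Phi]
        exact ⟨_, rfl⟩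
      · obtain ⟨h', rfl⟩ := hz.2
        rw [← map_inv, ← map_mul, ← map_mul]
        exact ⟨_, rfl⟩
    have : y ∈ N₁ := ⟨hy, hyr⟩
    rw [hbot, Subgroup.mem_bot] at this
    exact this
  have hcommAll := comm_of_inf_bot A N' (Phi n F).range x hInnA Inn_le_range_Phi hnorm hND
  rw [eq_bot_iff]
  intro y hy
  rw [Subgroup.mem_bot]
  obtain ⟨h, τ, hyeq, hτk⟩ := odd_no_iota hn y _ hodd (pow_card_eq_one_of_mem N' y hy)
  -- `y` fixes the rotations
  have hfixrot : ∀ (a b : Fin n → F) (ha : Q a ≠ 0) (hb : Q b ≠ 0),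
      τ ((rotS Q a b ha hb : SpecialLinearGroup (Fin n) F) : Matrix (Fin n) (Fin n) F).trace =
        ((rotS Q a b ha hb : SpecialLinearGroup (Fin n) F) : Matrix (Fin n) (Fin n) F).trace := by
    intro a b ha hb
    have hl : MulAut.conj (QuotientGroup.mk (rotS Q a b ha hb) :
        ProjectiveSpecialLinearGroup (Fin n) F) ∈
        Cfsg.Inn (ProjectiveSpecialLinearGroup (Fin n) F) ⊓ Subgroup.centralizer {x} := by
      refine ⟨⟨_, rfl⟩, ?_⟩
      rw [conj_mk_eq_Phi]
      exact hcent _ (rotS_iso Q a b ha hb)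
    have hfixy := fix_of_comm_conj hinj y _ (hcommAll y hy _ hl)
    rw [hyeq] at hfixy
    have := fix_trace_inv (by omega) h τ _ hfixy (rotS_trace_inv Q a b ha hb)
    exact tau_fix_of_sq (τ : RingAut F) _ hodd hτk _ this
  -- squares are fixed
  have hfr : finrank F (Fin n → F) = n := by rw [Module.finrank_fintype_fun_eq_card, Fintype.card_fin]
  obtain ⟨x₀, hx₀⟩ := exists_nonsing h2 Q hQ (by rw [hfr]; omega)
  have hW := perpS_nondeg Q h2 hQ x₀ hx₀
  have hWfr := perpS_finrank Q hQ x₀ hx₀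
  obtain ⟨e, he⟩ := univ2 h2 (Q.comp (perpS Q x₀).subtype) hW (by rw [hfr] at hWfr; omega) (Q x₀)
  have hQe : Q (e : Fin n → F) = Q x₀ := he
  have hpe : QuadraticMap.polar (⇑Q) x₀ (e : Fin n → F) = 0 := (mem_perpS Q x₀ _).mp e.2
  have hsq : ∀ t : F, τ (t ^ 2) = t ^ 2 := by
    intro t
    by_cases ht : 1 + t ^ 2 = 0
    · have : t ^ 2 = -1 := by linear_combination ht
      rw [this, map_neg, map_one]
    · set yt : Fin n → F := x₀ + t • (e : Fin n → F) with hyt
      have hQy : Q yt = Q x₀ * (1 + t ^ 2) := by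
        have h1 : Q yt = Q x₀ + Q (t • (e : Fin n → F)) +
            QuadraticMap.polar (⇑Q) x₀ (t • (e : Fin n → F)) := by
          rw [hyt, QuadraticMap.polar]
          ring
        rw [h1, QuadraticMap.map_smul, QuadraticMap.polar_smul_right, hpe, hQe, smul_eq_mul, smul_eq_mul]
        ring
      have hQy0 : Q yt ≠ 0 := by
        rw [hQy]
        exact mul_ne_zero hx₀ ht
      have hpol : QuadraticMap.polar (⇑Q) x₀ yt = 2 * Q x₀ := by
        rw [hyt, QuadraticMap.polar_add_right, QuadraticMap.polar_smul_right, hpe, smul_zero, add_zero,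
          QuadraticMap.polar_self]
        rw [nsmul_eq_mul]
        push_cast
        ring
      have htr := hfixrot x₀ yt hx₀ hQy0
      rw [rotS_val, trace_refl_mul, hpol, hQy, Fintype.card_fin] at htr
      have e1 : (n : F) - (Q x₀)⁻¹ * (2 * Q x₀) - (Q x₀ * (1 + t ^ 2))⁻¹ * (2 * (Q x₀ * (1 + t ^ 2))) +
          (Q x₀)⁻¹ * (Q x₀ * (1 + t ^ 2))⁻¹ * (2 * Q x₀) ^ 2 = (n : F) - 4 + 4 * (1 + t ^ 2)⁻¹ := by
        field_simp
        ring
      rw [e1, map_add, map_sub, map_natCast, map_mul, map_ofNat, map_inv₀, map_add, map_one] at htr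
      have h5 : (1 + τ (t ^ 2))⁻¹ = (1 + t ^ 2)⁻¹ := by
        have : 4 * (1 + τ (t ^ 2))⁻¹ = 4 * (1 + t ^ 2)⁻¹ := by
          have h6 : ((τ : RingAut F) : F ≃+* F) (t ^ 2) = τ (t ^ 2) := rfl
          linear_combination htr
        exact mul_left_cancel₀ h4 this
      have h6 := inv_injective h5
      linear_combination h6
  have hτ : ∀ a, τ a = a := by
    intro a
    have h1 := hsq (a + 1)
    have h3 := hsq (a - 1)
    rw [map_pow, map_add, map_one] at h1
    rw [map_pow, map_sub, map_one] at h3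
    have : 4 * τ a = 4 * a := by linear_combination h1 - h3
    exact mul_left_cancel₀ h4 this
  have hτ1 : τ = RingEquiv.refl F := RingEquiv.ext hτ
  rw [hτ1, fieldL_refl, mul_one] at hyeq
  exact hND y hy ⟨h, hyeq.symm⟩

end

end Cfsg.Agent.Lib.Helper16.LC
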