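import Mathlib
import Cfsg.Agent.Lib.Helper16.LC10
import Cfsg.Agent.Lib.Helper16.LC12
import Cfsg.Agent.Lib.Helper16.LC13

set_option autoImplicit false
set_option linter.unusedSectionVars false
set_option linter.unusedVariables false

/-! `O_{p'}` of the centraliser of an automorphism of prime order of `PSL_n`: assembly. -/

namespace Cfsg.Agent.Lib.Helper16.LC

open Matrix Cfsg.Agent.Lib.Helper16 Cfsg.Agent.Lib.Helper16.AP Cfsg.Agent.Lib.Helper16.PG
  Cfsg.Agent.Lib.Helper16.AF Cfsg.Agent.Lib.Helper16.OB Cfsg.Agent.Lib.Helper16.GF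
  Cfsg.Agent.Lib.Helper16.H9 Cfsg.Agent.Lib.Helper16.OL

universe u

section grp
variable {K : Type u} [Group K]

/-- `O_{2'}` is trivial when the odd-order normalised subgroups are. -/
theorem core2_bot_of_cores [hfinM : Finite (MulAut K)] (A : Subgroup (MulAut K)) (x : MulAut K)
    (hcore : ∀ (N' : Subgroup (MulAut K)) (hfin : Finite N'), Odd (Nat.card N') →
      N' ≤ A ⊓ Subgroup.centralizer {x} →
      (∀ c ∈ A ⊓ Subgroup.centralizer {x}, ∀ y ∈ N', c * y * c⁻¹ ∈ N') → N' = ⊥) :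
    Cfsg.pPrimeCore 2 ↥(A ⊓ Subgroup.centralizer {x}) = ⊥ := by
  by_contra hne
  rw [← Ne, pPrimeCore_ne_bot_iff] at hne
  obtain ⟨N, hN1, hN2, hN3⟩ := hne
  set N' : Subgroup (MulAut K) := N.map (A ⊓ Subgroup.centralizer {x}).subtype with hN'
  have hN'le : N' ≤ A ⊓ Subgroup.centralizer {x} := by
    rintro _ ⟨y, -, rfl⟩
    exact y.2
  have hN'norm : ∀ c ∈ A ⊓ Subgroup.centralizer {x}, ∀ y ∈ N', c * y * c⁻¹ ∈ N' := by
    rintro c hc' _ ⟨y, hy', rfl⟩
    exact ⟨⟨c, hc'⟩ * y * ⟨c, hc'⟩⁻¹, hN1.conj_mem y hy' ⟨c, hc'⟩, rfl⟩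
  have hN'card : Nat.card N' = Nat.card N := by
    rw [hN', Subgroup.card_map_of_injective (Subgroup.subtype_injective _)]
  have hfin : Finite N' := inferInstance
  have hodd : Odd (Nat.card N') := by
    rw [hN'card]
    exact Nat.coprime_two_right.mp hN2
  have hbot := hcore N' hfin hodd hN'le hN'norm
  apply hN3
  rw [eq_bot_iff]
  intro y hy'
  have h1 : (A ⊓ Subgroup.centralizer {x}).subtype y ∈ N' := ⟨y, hy', rfl⟩
  rw [hbot, Subgroup.mem_bot] at h1
  rw [Subgroup.mem_bot]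
  exact Subtype.ext h1

end grp

section
variable {n : ℕ} {F : Type u} [Field F] [Fintype F]

theorem conj_injective_psl (hn : 1 ≤ n) :
    Function.Injective (MulAut.conj : ProjectiveSpecialLinearGroup (Fin n) F →*
      MulAut (ProjectiveSpecialLinearGroup (Fin n) F)) := by
  rw [injective_iff_map_eq_one]
  intro k hk
  induction k using QuotientGroup.induction_on with
  | H s =>
    rw [conj_mk_eq_Phi, Phi_eq_one_iff, Cfsg.Geo.mem_scalars_iff] at hk
    obtain ⟨c, hc⟩ := hk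
    rw [QuotientGroup.eq_one_iff, Matrix.SpecialLinearGroup.mem_center_iff]
    have hmat : Matrix.scalar (Fin n) (c : F) = (s : Matrix (Fin n) (Fin n) F) := by
      rw [Matrix.scalar_apply, ← Matrix.smul_one_eq_diagonal]
      exact hc.symm
    refine ⟨(c : F), ?_, hmat⟩
    have hdet := s.2
    rw [← hmat, Matrix.scalar_apply, Matrix.det_diagonal, Finset.prod_const, Finset.card_univ] at hdet
    exact hdet

theorem fgHom_graph (σ : RingAut F) :
    fgHom n F (σ, Multiplicative.ofAdd 1) = theta n (σ : F ≃+* F) := by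
  rw [fgHom_apply, iotaHom_one]
  rfl

set_option maxHeartbeats 3200000 in
/-- **Graph and graph-field involutions.** `O_{2'}` of the centraliser is trivial. -/
theorem graph_core_psl (hn : 3 ≤ n) {r : ℕ} [hr : Fact r.Prime] [hch : CharP F r] (hr2 : r ≠ 2)
    (g : GL (Fin n) F) (σ : RingAut F)
    (hx2 : (Phi n F g * fgHom n F (σ, Multiplicative.ofAdd 1)) ^ 2 = 1)
    (A : Subgroup (MulAut (ProjectiveSpecialLinearGroup (Fin n) F)))
    (hInnA : Cfsg.Inn (ProjectiveSpecialLinearGroup (Fin n) F) ≤ A) :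
    Cfsg.pPrimeCore 2 ↥(A ⊓ Subgroup.centralizer
      {Phi n F g * fgHom n F (σ, Multiplicative.ofAdd 1)}) = ⊥ := by
  have hfinM := finite_mulAut_psl (n := n) (F := F)
  have hinj := conj_injective_psl (n := n) (F := F) (by omega)
  have hN : ((Phi n F).range).Normal := Phi_range_normal (by omega)
  by_cases hσ : σ = 1
  · -- graph involutions
    have hx : Phi n F g * fgHom n F (σ, Multiplicative.ofAdd 1) = Phi n F g * iota n F := by
      rw [fgHom_apply, iotaHom_one, hσ]
      show Phi n F g * (fieldL n (RingEquiv.refl F) * iota n F) = _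
      rw [fieldL_refl, one_mul]
    rw [hx] at hx2 ⊢
    rw [pow_two, graph_sq_eq_one_iff] at hx2
    obtain ⟨c, hc⟩ := hx2
    rcases transpose_scalar_cases g⁻¹ (by omega) c hc with h1 | h1
    · have hgi : ((g⁻¹ : GL (Fin n) F) : Matrix (Fin n) (Fin n) F)ᵀ =
          ((g⁻¹ : GL (Fin n) F) : Matrix (Fin n) (Fin n) F) := by rw [hc, h1, one_smul]
      have hg : (g : Matrix (Fin n) (Fin n) F)ᵀ = (g : Matrix (Fin n) (Fin n) F) := by
        have := gl_inv_transpose_of_symm g⁻¹ hgi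
        rwa [inv_inv] at this
      apply core2_bot_of_cores
      intro N' hfin hodd hle hnorm
      exact orth_core hn hr2 hinj g hg A N' hodd hInnA hle hnorm
    · have hgi : ((g⁻¹ : GL (Fin n) F) : Matrix (Fin n) (Fin n) F)ᵀ =
          -((g⁻¹ : GL (Fin n) F) : Matrix (Fin n) (Fin n) F) := by rw [hc, h1, neg_one_smul]
      have hg : (g : Matrix (Fin n) (Fin n) F)ᵀ = -(g : Matrix (Fin n) (Fin n) F) := by
        have := gl_inv_skew g⁻¹ hgi
        rwa [inv_inv] at this
      apply core2_bot_of_cores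
      intro N' hfin hodd hle hnorm
      exact symp_core hn hr2 hinj g hg A N' hodd hInnA hle hnorm
  · -- graph-field involutions
    have hσ2 : σ ^ 2 = 1 := by
      have h1 : Theta hn ((Phi n F g * fgHom n F (σ, Multiplicative.ofAdd 1)) ^ 2) = 1 := by
        rw [hx2]
        exact map_one _
      rw [map_pow, Theta_Phi_fgHom] at h1
      exact congrArg Prod.fst h1
    have hσσ : ∀ a, (σ : F ≃+* F) ((σ : F ≃+* F) a) = a := by
      intro a
      have := DFunLike.congr_fun hσ2 a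
      rw [pow_two] at this
      exact this
    have hord : orderOf σ = 2 := orderOf_eq_prime hσ2 hσ
    obtain ⟨f, -, hF⟩ := FiniteField.card F r
    obtain ⟨-, hcard⟩ := galF_cyclic_card (p := r) (f := (f : ℕ)) hF
    have h2f : 2 ∣ (f : ℕ) := by
      have := orderOf_dvd_natCard σ
      rwa [hord, hcard] at this
    have hF' : Fintype.card F = (r ^ ((f : ℕ) / 2)) ^ 2 := by
      rw [hF, ← pow_mul, Nat.div_mul_cancel h2f]
    obtain ⟨σ₀, hσ₀⟩ := PU.exists_bar hF'
    have hσeq : (σ : F ≃+* F) = σ₀ := PU.invol_eq_bar hF' σ₀ hσ₀ σ hσσ hσ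
    have hx : Phi n F g * fgHom n F (σ, Multiplicative.ofAdd 1) = Phi n F g * theta n σ₀ := by
      rw [fgHom_graph, hσeq]
    rw [hx] at hx2 ⊢
    obtain ⟨h, hh⟩ := graph_field_conj hF' (by omega) σ₀ hσ₀ g hx2
    rw [hh]
    by_contra hne
    rw [← Ne, core_conj_transport] at hne
    apply hne
    apply core2_bot_of_cores
    intro N' hfin hodd hle hnorm
    exact unit_core hn hr2 hinj hF' σ₀ hσ₀ _ N' hodd (inn_le_map_conj _ A hInnA) hle hnorm

set_option maxHeartbeats 3200000 in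
theorem S2686_aux {r : ℕ} [hr : Fact r.Prime] [hch : CharP F r] (hn : 2 ≤ n)
    (𝒢 : Subgroup (MulAut (Matrix.ProjectiveSpecialLinearGroup (Fin n) F)))
    (hinn : ∀ k : Matrix.ProjectiveSpecialLinearGroup (Fin n) F, MulAut.conj k ∈ 𝒢)
    (p : ℕ) [hp : Fact p.Prime] (hpr : p ≠ r)
    (β : MulAut (Matrix.ProjectiveSpecialLinearGroup (Fin n) F)) (hord : orderOf β = p)
    (hnot : ¬ Cfsg.IsInnerDiagonalAutPSL β) :
    Cfsg.pPrimeCore p ↥(𝒢 ⊓ Subgroup.centralizer {β}) ≠ ⊥ ↔
      ((∃ γ φ : MulAut (Matrix.ProjectiveSpecialLinearGroup (Fin n) F),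
        Cfsg.IsInnerDiagonalAutPSL γ ∧ Cfsg.IsFieldAutPSL φ ∧ β = φ.trans γ) ∧
        Nat.Coprime p (Nat.card ↥(MonoidHom.eqLocus β.toMonoidHom
          (MonoidHom.id (Matrix.ProjectiveSpecialLinearGroup (Fin n) F))))) := by
  have hinj := conj_injective_psl (n := n) (F := F) (by omega)
  have hInnA : Cfsg.Inn (ProjectiveSpecialLinearGroup (Fin n) F) ≤ 𝒢 := by
    rintro _ ⟨k, rfl⟩
    exact hinn k
  -- the field case
  have hfield : ∀ (g : GL (Fin n) F) (σ : RingAut F), β = Phi n F g * fieldL n σ →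
      (Cfsg.pPrimeCore p ↥(𝒢 ⊓ Subgroup.centralizer {β}) ≠ ⊥ ↔
      ((∃ γ φ : MulAut (Matrix.ProjectiveSpecialLinearGroup (Fin n) F),
        Cfsg.IsInnerDiagonalAutPSL γ ∧ Cfsg.IsFieldAutPSL φ ∧ β = φ.trans γ) ∧
        Nat.Coprime p (Nat.card ↥(MonoidHom.eqLocus β.toMonoidHom
          (MonoidHom.id (Matrix.ProjectiveSpecialLinearGroup (Fin n) F)))))) := by
    intro g σ hβ
    have hσ : σ ≠ 1 := by
      intro h1
      apply hnot
      rw [isInnerDiag_iff]
      refine ⟨g, ?_⟩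
      rw [hβ, h1]
      show Phi n F g * fieldL n (RingEquiv.refl F) = _
      rw [fieldL_refl, mul_one]
    have hex : ∃ γ φ : MulAut (Matrix.ProjectiveSpecialLinearGroup (Fin n) F),
        Cfsg.IsInnerDiagonalAutPSL γ ∧ Cfsg.IsFieldAutPSL φ ∧ β = φ.trans γ :=
      ⟨Phi n F g, fieldL n σ, (isInnerDiag_iff _).mpr ⟨g, rfl⟩,
        ⟨σ, (isStdField_iff (σ : F ≃+* F) _).mpr rfl⟩, hβ⟩
    have key := core_field_psl hn (σ : F ≃+* F) hσ g hinj p hpr (by rw [← hβ]; exact hord) 𝒢 hInnA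
    rw [← hβ] at key
    exact ⟨fun h => ⟨hex, key.mp h⟩, fun h => key.mpr h.2⟩
  rcases Nat.lt_or_ge 2 n with h3 | h2
  · have hn3 : 3 ≤ n := h3
    have hN : ((Phi n F).range).Normal := Phi_range_normal (by omega)
    obtain ⟨g, ⟨σ, e⟩, hβ⟩ := exists_fgHom hn3 β
    rcases iotaHom_cases (n := n) (F := F) e with ⟨he, hι⟩ | ⟨he, hι⟩
    · apply hfield g σ
      rw [hβ, fgHom_apply, hι, mul_one]
    · -- graph type
      rw [he] at hβ
      have hΘ : Theta hn3 β = (σ, Multiplicative.ofAdd 1) := by rw [hβ, Theta_Phi_fgHom]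
      have hp2 : p = 2 := by
        have h1 : (Theta hn3 β) ^ p = 1 := by
          rw [← map_pow, ← hord, pow_orderOf_eq_one]
          exact map_one _
        rw [hΘ] at h1
        have h4 : (Multiplicative.ofAdd (1 : ZMod 2)) ^ p = 1 := congrArg Prod.snd h1
        rw [← ofAdd_nsmul, nsmul_eq_mul, mul_one] at h4
        have h5 : ((p : ℕ) : ZMod 2) = 0 := h4
        rw [ZMod.natCast_eq_zero_iff] at h5
        exact ((Nat.prime_dvd_prime_iff_eq Nat.prime_two hp.out).mp h5).symm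
      have hr2 : r ≠ 2 := by
        intro h
        exact hpr (hp2.trans h.symm)
      have hx2 : (Phi n F g * fgHom n F (σ, Multiplicative.ofAdd 1)) ^ 2 = 1 := by
        rw [← hβ, ← hp2, ← hord]
        exact pow_orderOf_eq_one β
      have hbot := graph_core_psl hn3 hr2 g σ hx2 𝒢 hInnA
      rw [← hβ, ← hp2] at hbot
      constructor
      · intro h
        exact absurd hbot h
      · rintro ⟨⟨γ, φ, hγ, ⟨τ, hφ⟩, hβ'⟩, -⟩
        exfalso
        obtain ⟨g', rfl⟩ := (isInnerDiag_iff γ).mp hγ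
        have hφ' : φ = fieldL n τ := (isStdField_iff τ φ).mp hφ
        have hβ'' : β = Phi n F g' * fgHom n F ((τ : RingAut F), 1) := by
          rw [hβ', hφ', fgHom_apply, map_one, mul_one]
          rfl
        rw [hβ'', Theta_Phi_fgHom] at hΘ
        have h6 := congrArg Prod.snd hΘ
        have h7 : (1 : Multiplicative (ZMod 2)) = Multiplicative.ofAdd 1 := h6
        have h8 : Multiplicative.toAdd (1 : Multiplicative (ZMod 2)) = 1 := by rw [h7]; rfl
        rw [toAdd_one] at h8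
        exact zero_ne_one h8
  · obtain rfl : n = 2 := le_antisymm h2 hn
    obtain ⟨g, τ, hβ⟩ := aut_PSL_two β
    exact hfield g τ hβ

end

end Cfsg.Agent.Lib.Helper16.LC
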