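import Cfsg.Agent.Lib.Helper16.UA18

set_option autoImplicit false
set_option linter.unusedSectionVars false
set_option linter.unusedVariables false

namespace Cfsg.Agent.Lib.Helper16.UA

open Matrix Cfsg.Agent.Lib.Helper16.PU Cfsg.Agent.Lib.Helper16.PG

universe u
variable {n : ℕ} {F : Type u} [Field F] {q : ℕ}

section fin
variable [Fintype F] {p f : ℕ} [Fact p.Prime]

theorem S2603_aux (hf : 1 ≤ f) (hq : q = p ^ f) (hK : Fintype.card F = q ^ 2) (hn : 3 ≤ n)
    (h32 : ¬ (n = 3 ∧ q = 2)) :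
    ∃ φ : Cfsg.Out (Cfsg.PSU n F q) →* Multiplicative (ZMod (2 * f)),
      Function.Surjective φ ∧ IsCyclic φ.ker ∧ Nat.card φ.ker = Nat.gcd n (q + 1) := by
  have hN : ((PhiU n F q).range).Normal := PhiU_range_normal hK hn h32
  have hF' : Fintype.card F = p ^ (2 * f) := by rw [hK, hq, ← pow_mul, mul_comm]
  obtain ⟨hcyc, hcard⟩ := Cfsg.Agent.Lib.Helper16.AP.galF_cyclic_card hF'
  have : NeZero (2 * f) := ⟨by omega⟩
  have hcard' : Nat.card (RingAut F) = Nat.card (Multiplicative (ZMod (2 * f))) := by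
    rw [hcard, Nat.card_eq_fintype_card, Fintype.card_multiplicative, ZMod.card]
  let e₁ : RingAut F ≃* Multiplicative (ZMod (2 * f)) := mulEquivOfCyclicCardEq hcard'
  have hk : (e₁.toMonoidHom.comp (ThetaUOut hK hn h32)).ker = (DOutU n F q).range := by
    rw [← ThetaUOut_ker hK hn h32]
    ext x
    simp [MonoidHom.mem_ker]
  obtain ⟨h1, h2⟩ := DOutU_range_cyclic_card hK hn
  refine ⟨e₁.toMonoidHom.comp (ThetaUOut hK hn h32),
    e₁.surjective.comp (ThetaUOut_surjective hK hn h32), ?_, ?_⟩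
  · rw [hk]
    exact h1
  · rw [hk, h2]

theorem conj_PSU_injective (hK : Fintype.card F = q ^ 2) (hn : 3 ≤ n) :
    Function.Injective (MulAut.conj : Cfsg.PSU n F q →* MulAut (Cfsg.PSU n F q)) := by
  rw [injective_iff_map_eq_one]
  intro k hk
  obtain ⟨s, rfl⟩ := mkU_surjective k
  rw [conj_mkU_eq_PhiU, PhiU_eq_one_iff hK hn, Cfsg.Geo.mem_scalars_iff] at hk
  obtain ⟨c, hc⟩ := hk
  rw [mkU_eq_one_iff, Subgroup.mem_center_iff]
  intro t
  apply Subtype.ext
  apply Subtype.ext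
  have hc' : (s.1 : Matrix (Fin n) (Fin n) F) = (c : F) • 1 := hc
  show (t.1 : Matrix (Fin n) (Fin n) F) * (s.1 : Matrix (Fin n) (Fin n) F) =
    (s.1 : Matrix (Fin n) (Fin n) F) * (t.1 : Matrix (Fin n) (Fin n) F)
  rw [hc', Matrix.mul_smul, Matrix.smul_mul, Matrix.mul_one, Matrix.one_mul]

theorem S0815_aux (hf : 1 ≤ f) (hq : q = p ^ f) (hK : Fintype.card F = q ^ 2) (hn : 3 ≤ n)
    (h32 : ¬ (n = 3 ∧ q = 2)) :
    Nat.card (MulAut (Cfsg.PSU n F q)) = Nat.gcd n (q + 1) * (2 * f) * Nat.card (Cfsg.PSU n F q) := by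
  have hN : ((PhiU n F q).range).Normal := PhiU_range_normal hK hn h32
  have hF' : Fintype.card F = p ^ (2 * f) := by rw [hK, hq, ← pow_mul, mul_comm]
  obtain ⟨hcyc, hcard⟩ := Cfsg.Agent.Lib.Helper16.AP.galF_cyclic_card hF'
  have h1 := Subgroup.card_mul_index (Cfsg.Inn (Cfsg.PSU n F q))
  have h2 : (Cfsg.Inn (Cfsg.PSU n F q)).index = Nat.card (Cfsg.Out (Cfsg.PSU n F q)) := rfl
  have h3 := Subgroup.card_mul_index (ThetaUOut hK hn h32).ker
  rw [Subgroup.index_ker, MonoidHom.range_eq_top.mpr (ThetaUOut_surjective hK hn h32), Subgroup.card_top,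
    ThetaUOut_ker hK hn h32, (DOutU_range_cyclic_card hK hn).2, hcard] at h3
  have h4 : Nat.card (Cfsg.Inn (Cfsg.PSU n F q)) = Nat.card (Cfsg.PSU n F q) :=
    (Nat.card_congr (MonoidHom.ofInjective (conj_PSU_injective hK hn)).toEquiv).symm
  rw [← h1, h2, ← h3, h4]
  ring

end fin

end Cfsg.Agent.Lib.Helper16.UA
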