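import Cfsg.Agent.Lib.Helper16.UF8

set_option autoImplicit false
set_option linter.unusedSectionVars false
set_option linter.unusedVariables false

namespace Cfsg.Agent.Lib.Helper16.UF

open Matrix Cfsg.Agent.Lib.Helper16.PU Cfsg.Agent.Lib.Helper16.PG Cfsg.Agent.Lib.Helper16.H9
  Cfsg.Agent.Lib.Helper16.UA

universe u v
variable {F : Type u} [Field F] {n : ℕ} {q : ℕ} {F₀ : Type v} [Field F₀]

theorem pow_pow_even {z : F} {Q : ℕ} (hz : z ^ (Q ^ 2) = z) (m : ℕ) : z ^ (Q ^ (2 * m)) = z := by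
  induction m with
  | zero => simp
  | succ m ih =>
    have : Q ^ (2 * (m + 1)) = Q ^ (2 * m) * Q ^ 2 := by ring
    rw [this, pow_mul, ih, hz]

theorem pow_pow_odd {z : F} {Q : ℕ} (hz : z ^ (Q ^ 2) = z) {r : ℕ} (hr : Odd r) : z ^ (Q ^ r) = z ^ Q := by
  obtain ⟨m, rfl⟩ := hr
  rw [pow_succ, pow_mul, pow_pow_even hz]

theorem Inn_le_range_PhiU : Cfsg.Inn (Cfsg.PSU n F q) ≤ (PhiU n F q).range := by
  rintro _ ⟨k, rfl⟩
  obtain ⟨s, rfl⟩ := mkU_surjective k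
  exact ⟨_, (conj_mkU_eq_PhiU s).symm⟩

theorem S2705_aux [Fintype F] [Fintype F₀] {p f : ℕ} [Fact p.Prime] (hq : q = p ^ f) (hf : 1 ≤ f)
    (hF : Fintype.card F = q ^ 2) (hn : 3 ≤ n) (hs : ¬ (n = 3 ∧ q = 2)) (x : MulAut (Cfsg.PSU n F q))
    (hx : Cfsg.IsFieldAutClassPSU x) {r : ℕ} (hr : r.Prime) (hro : Odd r) (hxr : orderOf x = r)
    (hF₀ : Fintype.card F₀ = p ^ (2 * (f / r))) :
    r ∣ f ∧ Nonempty (↥(Cfsg.inndiagPSU n F q ⊓ Subgroup.centralizer {x}) ≃* Cfsg.PGU n F₀ (p ^ (f / r))) ∧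
      Cfsg.splitClassCount (Cfsg.inndiagPSU n F q) (Cfsg.Inn (Cfsg.PSU n F q)) x =
        Nat.gcd n ((q + 1) / (p ^ (f / r) + 1)) := by
  obtain ⟨α, φ, τ, hτne, hτodd, hφ, hαx⟩ := hx
  have hφ' : φ = fieldUHom n F q τ := (isFieldAutU_iff τ φ).mp hφ
  have hx₀ : α * x * α⁻¹ = fieldUHom n F q τ := by rw [hαx, hφ']
  have hN : ((PhiU n F q).range).Normal := PhiU_range_normal hF hn hs
  have hord : orderOf (τ : RingAut F) = r := by
    rw [← orderOf_fieldU hF hn, ← hx₀, Cfsg.Agent.Lib.Helper16.AF.orderOf_conj_eq, hxr]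
  have hF2 : Fintype.card F = p ^ (2 * f) := by rw [hF, hq, ← pow_mul, mul_comm]
  obtain ⟨-, hcard⟩ := Cfsg.Agent.Lib.Helper16.AP.galF_cyclic_card hF2
  have hrf : r ∣ f := by
    have h1 := orderOf_dvd_natCard (τ : RingAut F)
    rw [hord, hcard] at h1
    have hcop : Nat.Coprime r 2 := by
      exact Nat.coprime_two_right.mpr hro
    exact hcop.dvd_of_dvd_mul_left h1
  set q₀ : ℕ := p ^ (f / r) with hq₀
  have hqq₀ : q = q₀ ^ r := by rw [hq, hq₀, ← pow_mul, Nat.div_mul_cancel hrf]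
  have hF₀' : Fintype.card F₀ = q₀ ^ 2 := by rw [hF₀, hq₀, ← pow_mul, mul_comm]
  set K : Subfield F := FixedPoints.subfield (Subgroup.zpowers (τ : RingAut F)) F with hKdef
  have hmem : ∀ y, y ∈ K ↔ τ y = y := fun y => Cfsg.Agent.Lib.Helper16.mem_fixed_iff τ y
  have hF' : Fintype.card F = (q₀ ^ 2) ^ r := by
    rw [hF, hqq₀]
    ring
  have hcardK : Nat.card K = q₀ ^ 2 := Cfsg.Agent.Lib.Helper16.fixed_card hr hF' τ hord
  have : Fintype K := Fintype.ofFinite _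
  have hcc : Fintype.card F₀ = Fintype.card K := by
    rw [← Nat.card_eq_fintype_card (α := K), hcardK, hF₀']
  have e₀ : F₀ ≃+* K := FiniteField.ringEquivOfCardEq hcc
  set j : F₀ →+* F := K.subtype.comp e₀.toRingHom with hjdef
  have hj : ∀ y, (∃ z, j z = y) ↔ (τ : RingAut F) y = y := by
    intro y
    constructor
    · rintro ⟨z, rfl⟩
      exact (hmem _).mp (e₀ z).2
    · intro hy
      refine ⟨e₀.symm ⟨y, (hmem y).mpr hy⟩, ?_⟩
      show ((e₀ (e₀.symm ⟨y, (hmem y).mpr hy⟩) : K) : F) = y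
      rw [RingEquiv.apply_symm_apply]
  have hjq : ∀ y : F₀, j (y ^ q₀) = (j y) ^ q := by
    intro y
    rw [map_pow, hqq₀]
    have hz : (j y) ^ (q₀ ^ 2) = j y := by
      rw [← map_pow, ← hF₀', FiniteField.pow_card]
    exact (pow_pow_odd hz hro).symm
  refine ⟨hrf, ?_, ?_⟩
  · rw [inndiagU_eq_range hF (by omega)]
    have e₁ := Cfsg.Agent.Lib.Helper16.SC.centralizerConjEquiv (PhiU n F q).range α x
    rw [hx₀] at e₁
    exact ⟨e₁.trans (centFieldEquivU hF hF₀' j hjq hn τ hj)⟩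
  · rw [inndiagU_eq_range hF (by omega),
      ← Cfsg.Agent.Lib.Helper16.SC.splitClassCount_conj _ _ Inn_le_range_PhiU α x, hx₀,
      splitClassCount_fieldU hF hF₀' j hjq hn τ hj]

end Cfsg.Agent.Lib.Helper16.UF
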