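import Mathlib
import Cfsg.Agent.S0282
import Cfsg.Agent.Lib.Helper16.UA19
import Cfsg.Agent.Lib.Helper16.UF9
import Cfsg.Agent.Lib.Helper16.LC14

set_option autoImplicit false
set_option linter.unusedSectionVars false
set_option linter.unusedVariables false

/-! Basic facts for the `PSU` version of the `O_{p'}`-criterion. -/

namespace Cfsg.Agent.Lib.Helper16.LU

open Matrix Cfsg.Agent.Lib.Helper16 Cfsg.Agent.Lib.Helper16.PU Cfsg.Agent.Lib.Helper16.UA
  Cfsg.Agent.Lib.Helper16.PG

universe u

section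
variable {n : ℕ} {F : Type u} [Field F] [Fintype F] {q : ℕ}

theorem hs_of_simple (hF : Fintype.card F = q ^ 2) (hK : IsSimpleGroup (Cfsg.PSU n F q)) :
    ¬ (n = 3 ∧ q = 2) := by
  rintro ⟨rfl, rfl⟩
  obtain ⟨hcard, hsol⟩ := Cfsg.Agent.S0282.result (F := F) (by rw [hF]; norm_num)
  have hfin : Finite (Cfsg.PSU 3 F 2) := Nat.finite_of_card_ne_zero (by rw [hcard]; norm_num)
  have hcomm := (IsSimpleGroup.comm_iff_isSolvable (G := Cfsg.PSU 3 F 2)).mpr hsol
  let _ : CommGroup (Cfsg.PSU 3 F 2) := { (inferInstance : Group (Cfsg.PSU 3 F 2)) with mul_comm := hcomm }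
  have hp := IsSimpleGroup.prime_card (α := Cfsg.PSU 3 F 2)
  rw [hcard] at hp
  norm_num at hp

theorem finite_psu : Finite (Cfsg.PSU n F q) := by
  unfold Cfsg.PSU
  infer_instance

theorem finite_mulAut_psu : Finite (MulAut (Cfsg.PSU n F q)) := by
  have hfin := finite_psu (n := n) (F := F) (q := q)
  exact Finite.of_injective (fun e => (e : Cfsg.PSU n F q → Cfsg.PSU n F q)) DFunLike.coe_injective

/-- `PSU_n(q)` has even order in odd characteristic. -/
theorem psu_card_even (hF : Fintype.card F = q ^ 2) (hn : 3 ≤ n) (h2 : (2 : F) ≠ 0) :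
    2 ∣ Nat.card (Cfsg.PSU n F q) := by
  classical
  obtain ⟨σ, hσ⟩ := exists_bar hF
  set i₀ : Fin n := ⟨0, by omega⟩ with hi₀
  set i₁ : Fin n := ⟨1, by omega⟩ with hi₁
  set i₂ : Fin n := ⟨2, by omega⟩ with hi₂
  have h01 : i₀ ≠ i₁ := by rw [hi₀, hi₁]; intro h; simp [Fin.ext_iff] at h
  have h02 : i₂ ≠ i₀ := by rw [hi₀, hi₂]; intro h; simp [Fin.ext_iff] at h
  have h12 : i₂ ≠ i₁ := by rw [hi₁, hi₂]; intro h; simp [Fin.ext_iff] at h
  set d : Fin n → F := fun i => if i = i₀ ∨ i = i₁ then -1 else 1 with hd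
  have hdd : ∀ i, d i * d i = 1 := by
    intro i
    rw [hd]
    dsimp only
    split_ifs <;> ring
  have hσd : ∀ i, σ (d i) = d i := by
    intro i
    rw [hd]
    dsimp only
    split_ifs
    · rw [map_neg, map_one]
    · rw [map_one]
  set D : Matrix (Fin n) (Fin n) F := Matrix.diagonal d with hD
  have hdet : D.det = 1 := by
    rw [hD, Matrix.det_diagonal, hd]
    rw [Finset.prod_ite, Finset.prod_const_one, mul_one, Finset.prod_const]
    have : (Finset.univ.filter (fun i : Fin n => i = i₀ ∨ i = i₁)) = {i₀, i₁} := by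
      ext i
      simp
    rw [this, Finset.card_pair h01]
    ring
  have hDv : ∀ x : Fin n → F, D *ᵥ x = fun i => d i * x i := by
    intro x
    funext i
    rw [hD, Matrix.mulVec_diagonal]
  have hpres : ∀ x y, hf σ (D *ᵥ x) (D *ᵥ y) = hf σ x y := by
    intro x y
    unfold hf
    rw [hDv, hDv]
    unfold dotProduct
    apply Finset.sum_congr rfl
    intro i _
    simp only [Function.comp_apply, map_mul, hσd]
    linear_combination (x i * σ (y i)) * hdd i
  set s : ↥(Cfsg.SU n F q) := suOf hσ D hdet hpres with hs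
  have hss : s * s = 1 := by
    apply Subtype.ext
    apply Subtype.ext
    show D * D = 1
    rw [hD, Matrix.diagonal_mul_diagonal]
    rw [← Matrix.diagonal_one]
    congr 1
    funext i
    exact hdd i
  have hnc : s ∉ Subgroup.center ↥(Cfsg.SU n F q) := by
    intro hc
    obtain ⟨c, hc⟩ := center_SU_scalar hF hn s hc
    have e : (s.1 : Matrix (Fin n) (Fin n) F) = D := rfl
    rw [e] at hc
    have h1 := congrFun (congrFun hc i₀) i₀
    have h3 := congrFun (congrFun hc i₂) i₂
    rw [hD, Matrix.diagonal_apply_eq, Matrix.smul_apply, Matrix.one_apply_eq, smul_eq_mul, mul_one] at h1 h3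
    rw [hd] at h1 h3
    dsimp only at h1 h3
    rw [if_pos (Or.inl rfl)] at h1
    rw [if_neg (by push Not; exact ⟨h02, h12⟩)] at h3
    apply h2
    rw [← h1] at h3
    linear_combination h3
  have hfin := Cfsg.Agent.Lib.Helper16.LC.finite_mulAut_psl (n := n) (F := F)
  have hfinK : Finite (Cfsg.PSU n F q) := by
    unfold Cfsg.PSU
    infer_instance
  have hord : orderOf (mkU n F q s) = 2 := by
    apply orderOf_eq_prime
    · rw [pow_two, ← map_mul, hss, map_one]
    · rw [Ne, mkU_eq_one_iff]
      exact hnc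
  rw [← hord]
  exact orderOf_dvd_natCard _

end

section grp
variable {G : Type u} [Group G] [Finite G]

/-- the fixed points of an involutory automorphism of a group of even order have even order. -/
theorem even_card_fixed_of_invol (β : MulAut G) (hβ : β * β = 1) (h2 : 2 ∣ Nat.card G) :
    2 ∣ Nat.card ↥(MonoidHom.eqLocus β.toMonoidHom (MonoidHom.id G)) := by
  classical
  let _ : Fintype G := Fintype.ofFinite G
  have : Fact (Nat.Prime 2) := ⟨Nat.prime_two⟩
  set f : Function.End G := (β : G → G) with hf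
  have hff : f ^ 2 ^ 1 = 1 := by
    rw [pow_one, pow_two]
    funext g
    show β (β g) = g
    have := congrArg (fun e : MulAut G => e g) hβ
    exact this
  have h1 := Equiv.Perm.card_fixedPoints_modEq (p := 2) (n := 1) hff
  have h3 : Nat.card ↥(MonoidHom.eqLocus β.toMonoidHom (MonoidHom.id G)) =
      Fintype.card (Function.fixedPoints f) := by
    rw [← Nat.card_eq_fintype_card]
    apply Nat.card_congr
    refine Equiv.subtypeEquivRight ?_
    intro g
    rfl
  rw [h3]
  rw [Nat.card_eq_fintype_card] at h2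
  exact (Nat.modEq_zero_iff_dvd.mp (h1.symm.trans (Nat.modEq_zero_iff_dvd.mpr h2)))

end grp

end Cfsg.Agent.Lib.Helper16.LU
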