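import Mathlib
import Cfsg.Agent.S0283
import Cfsg.Agent.S0277
import Cfsg.Agent.Lib.Helper16.LU1

set_option autoImplicit false
set_option linter.unusedSectionVars false
set_option linter.unusedVariables false

/-! `O_{p'}` of `SU_n` modulo scalars. -/

namespace Cfsg.Agent.Lib.Helper16.LU

open Matrix Cfsg.Agent.Lib.Helper16 Cfsg.Agent.Lib.Helper16.PU Cfsg.Agent.Lib.Helper16.UA
  Cfsg.Agent.Lib.Helper16.PG

universe u

section
variable {n : ℕ} {F : Type u} [Field F] {q : ℕ}

/-- normal subgroups of `SU_n` which are `p'`-groups modulo the centre are central. -/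
def SUCore (n : ℕ) (F : Type u) [Field F] (q p : ℕ) : Prop :=
  ∀ M : Subgroup ↥(Cfsg.SU n F q), M.Normal →
    (∀ m ∈ M, ∃ k : ℕ, Nat.Coprime k p ∧ m ^ k ∈ Subgroup.center ↥(Cfsg.SU n F q)) →
    M ≤ Subgroup.center ↥(Cfsg.SU n F q)

theorem suCore_of_simple (p : ℕ) (hp : p.Prime) (hs : IsSimpleGroup (Cfsg.PSU n F q))
    (t : Cfsg.PSU n F q) (ht : orderOf t = p) : SUCore n F q p := by
  intro M hM hMp
  set π := mkU n F q with hπ
  have hN : (M.map π).Normal := Subgroup.Normal.map hM π mkU_surjective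
  rcases hs.eq_bot_or_eq_top_of_normal (M.map π) hN with hbot | htop
  · intro m hm
    have h1 : π m ∈ M.map π := Subgroup.mem_map_of_mem π hm
    rw [hbot, Subgroup.mem_bot, hπ, mkU_eq_one_iff] at h1
    exact h1
  · exfalso
    have h1 : t ∈ M.map π := by rw [htop]; trivial
    obtain ⟨m, hm, rfl⟩ := h1
    obtain ⟨k, hk, hmk⟩ := hMp m hm
    have h2 : (π m) ^ k = 1 := by
      rw [← map_pow, hπ, mkU_eq_one_iff]
      exact hmk
    have h3 : p ∣ k := by
      rw [← ht]
      exact orderOf_dvd_of_pow_eq_one h2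
    have h4 : p ∣ Nat.gcd k p := Nat.dvd_gcd h3 dvd_rfl
    rw [hk] at h4
    exact hp.one_lt.ne' (Nat.dvd_one.mp h4)

end

section
variable {n : ℕ} {F : Type u} [Field F] [Fintype F] {q : ℕ}

/-- an element of order `p` in `PSU_n(q)`, when `p` divides `q + 1`. -/
theorem exists_order_p_psu (hF : Fintype.card F = q ^ 2) (hn : 3 ≤ n) (p : ℕ) [hp : Fact p.Prime]
    (hd : p ∣ q + 1) : ∃ t : Cfsg.PSU n F q, orderOf t = p := by
  classical
  obtain ⟨σ, hσ⟩ := exists_bar hF
  have hq2 := q_ge_two' hF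
  have hcard : Fintype.card Fˣ = q ^ 2 - 1 := by rw [Fintype.card_units, hF]
  have hd' : p ∣ Nat.card Fˣ := by
    rw [Nat.card_eq_fintype_card, hcard]
    have : q ^ 2 - 1 = (q + 1) * (q - 1) := by
      obtain ⟨k, rfl⟩ : ∃ k, q = k + 2 := ⟨q - 2, by omega⟩
      have h1 : k + 2 - 1 = k + 1 := by omega
      have h2 : (k + 2) ^ 2 - 1 = (k + 3) * (k + 1) := by
        have : (k + 2) ^ 2 = (k + 3) * (k + 1) + 1 := by ring
        omega
      rw [h1, h2]
    rw [this]
    exact dvd_mul_of_dvd_left hd _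
  obtain ⟨ζ, hζ⟩ := exists_prime_orderOf_dvd_card' p hd'
  have hζp : (ζ : F) ^ p = 1 := by
    rw [← Units.val_pow_eq_pow_val, ← hζ, pow_orderOf_eq_one, Units.val_one]
  have hζ1 : (ζ : F) ≠ 1 := by
    intro h
    have : ζ = 1 := Units.ext h
    rw [this, orderOf_one] at hζ
    exact hp.out.one_lt.ne hζ
  have hζq : (ζ : F) ^ (q + 1) = 1 := by
    obtain ⟨c, hc⟩ := hd
    rw [hc, pow_mul, hζp, one_pow]
  have hζσ : (ζ : F) * σ ζ = 1 := by
    rw [hσ, ← pow_succ']
    exact hζq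
  have hζ0 : (ζ : F) ≠ 0 := ζ.ne_zero
  set i₀ : Fin n := ⟨0, by omega⟩ with hi₀
  set i₁ : Fin n := ⟨1, by omega⟩ with hi₁
  set i₂ : Fin n := ⟨2, by omega⟩ with hi₂
  have h01 : i₀ ≠ i₁ := by rw [hi₀, hi₁]; intro h; simp [Fin.ext_iff] at h
  have h02 : i₂ ≠ i₀ := by rw [hi₀, hi₂]; intro h; simp [Fin.ext_iff] at h
  have h12 : i₂ ≠ i₁ := by rw [hi₁, hi₂]; intro h; simp [Fin.ext_iff] at h
  set d : Fin n → F := fun i => if i = i₀ then (ζ : F) else if i = i₁ then (ζ : F)⁻¹ else 1 with hd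
  have hdd : ∀ i, d i * σ (d i) = 1 := by
    intro i
    rw [hd]
    dsimp only
    split_ifs
    · exact hζσ
    · rw [map_inv₀, ← mul_inv, hζσ, inv_one]
    · rw [map_one, mul_one]
  have hdp : ∀ i, d i ^ p = 1 := by
    intro i
    rw [hd]
    dsimp only
    split_ifs
    · exact hζp
    · rw [inv_pow, hζp, inv_one]
    · rw [one_pow]
  set D : Matrix (Fin n) (Fin n) F := Matrix.diagonal d with hD
  have hdet : D.det = 1 := by
    rw [hD, Matrix.det_diagonal]
    have h1 : ∀ i, d i = (if i = i₀ then (ζ : F) else 1) * (if i = i₁ then (ζ : F)⁻¹ else 1) := by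
      intro i
      rw [hd]
      dsimp only
      by_cases h0 : i = i₀
      · rw [if_pos h0, if_pos h0, if_neg (by rw [h0]; exact h01), mul_one]
      · rw [if_neg h0, if_neg h0, one_mul]
    rw [Finset.prod_congr rfl (fun i _ => h1 i), Finset.prod_mul_distrib,
      Finset.prod_ite_eq' Finset.univ i₀, Finset.prod_ite_eq' Finset.univ i₁]
    simp only [Finset.mem_univ, if_true]
    exact mul_inv_cancel₀ hζ0
  have hDv : ∀ x : Fin n → F, D *ᵥ x = fun i => d i * x i := by
    intro x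
    funext i
    rw [hD, Matrix.mulVec_diagonal]
  have hpres : ∀ x y, hf σ (D *ᵥ x) (D *ᵥ y) = hf σ x y := by
    intro x y
    unfold hf
    rw [hDv, hDv]
    unfold dotProduct
    apply Finset.sum_congr rfl
    intro i _
    simp only [Function.comp_apply, map_mul]
    linear_combination (x i * σ (y i)) * hdd i
  set s : ↥(Cfsg.SU n F q) := suOf hσ D hdet hpres with hs
  have hsp : s ^ p = 1 := by
    apply Subtype.ext
    apply Subtype.ext
    rw [SubgroupClass.coe_pow, Matrix.SpecialLinearGroup.coe_pow]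
    show D ^ p = 1
    rw [hD, Matrix.diagonal_pow, ← Matrix.diagonal_one]
    congr 1
    funext i
    exact hdp i
  have hnc : s ∉ Subgroup.center ↥(Cfsg.SU n F q) := by
    intro hc
    obtain ⟨c, hc⟩ := center_SU_scalar hF hn s hc
    have e : (s.1 : Matrix (Fin n) (Fin n) F) = D := rfl
    rw [e] at hc
    have h1 := congrFun (congrFun hc i₀) i₀
    have h3 := congrFun (congrFun hc i₂) i₂
    rw [hD, Matrix.diagonal_apply_eq, Matrix.smul_apply, Matrix.one_apply_eq, smul_eq_mul, mul_one] at h1 h3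
    rw [hd] at h1 h3
    dsimp only at h1 h3
    rw [if_pos rfl] at h1
    rw [if_neg h02, if_neg h12] at h3
    apply hζ1
    rw [h1, ← h3]
  refine ⟨mkU n F q s, ?_⟩
  apply orderOf_eq_prime
  · rw [← map_pow, hsp, map_one]
  · rw [Ne, mkU_eq_one_iff]
    exact hnc

end

end Cfsg.Agent.Lib.Helper16.LU
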