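import Mathlib
import Cfsg.Agent.Lib.Helper16.LU2

set_option autoImplicit false
set_option linter.unusedSectionVars false
set_option linter.unusedVariables false

/-! The corner case `SU_3(2)`. -/

namespace Cfsg.Agent.Lib.Helper16.LU

open Matrix Cfsg.Agent.Lib.Helper16 Cfsg.Agent.Lib.Helper16.PU Cfsg.Agent.Lib.Helper16.UA
  Cfsg.Agent.Lib.Helper16.PG Cfsg.Agent.Lib.Helper16.AP

universe u

section mat
variable {n : ℕ} {F : Type u} [Field F]

theorem tM_pair_pow_three (u φ u' φ' : Fin n → F) (lam mu : F) (h1 : φ ⬝ᵥ u = 0) (h2 : φ' ⬝ᵥ u' = 0)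
    (hκ : lam * mu * (φ ⬝ᵥ u') * (φ' ⬝ᵥ u) = -3) :
    (tM u φ lam * tM u' φ' mu) ^ 3 = 1 := by
  set G := tM u φ lam * tM u' φ' mu with hGdef
  set b := φ ⬝ᵥ u' with hb
  set b' := φ' ⬝ᵥ u with hb'
  have hG : ∀ w, G *ᵥ w = w + (lam * (φ ⬝ᵥ w + mu * b * (φ' ⬝ᵥ w))) • u + (mu * (φ' ⬝ᵥ w)) • u' := by
    intro w
    rw [hGdef, ← Matrix.mulVec_mulVec, tM_mulVec, tM_mulVec, dotProduct_add, dotProduct_smul, ← hb,
      smul_eq_mul]
    ext i
    simp only [Pi.add_apply, Pi.smul_apply, smul_eq_mul]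
    ring
  have hφG : ∀ w, φ ⬝ᵥ (G *ᵥ w) = φ ⬝ᵥ w + mu * b * (φ' ⬝ᵥ w) := by
    intro w
    rw [hG, dotProduct_add, dotProduct_add, dotProduct_smul, dotProduct_smul, h1, ← hb, smul_eq_mul,
      smul_eq_mul]
    ring
  have hφ'G : ∀ w, φ' ⬝ᵥ (G *ᵥ w) = lam * b' * (φ ⬝ᵥ w) - 2 * φ' ⬝ᵥ w := by
    intro w
    rw [hG, dotProduct_add, dotProduct_add, dotProduct_smul, dotProduct_smul, h2, ← hb', smul_eq_mul,
      smul_eq_mul]
    linear_combination (φ' ⬝ᵥ w) * hκ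
  rw [Matrix.ext_iff_mulVec]
  intro w
  have e : G ^ 3 = G * (G * G) := by
    rw [pow_succ, pow_two, Matrix.mul_assoc]
  have e2 : (G * (G * G)) *ᵥ w = G *ᵥ (G *ᵥ (G *ᵥ w)) := by
    simp only [Matrix.mulVec_mulVec, Matrix.mul_assoc]
  rw [e, e2, hG (G *ᵥ (G *ᵥ w)), hφG, hφ'G, hφG, hφ'G, hG (G *ᵥ w), hφG, hφ'G, hG w, Matrix.one_mulVec]
  ext i
  simp only [Pi.add_apply, Pi.smul_apply, smul_eq_mul]
  linear_combination (lam * (φ ⬝ᵥ w + mu * b * (φ' ⬝ᵥ w)) * u i + mu * (φ' ⬝ᵥ w) * u' i) * hκ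

end mat

section
variable {n : ℕ} {F : Type u} [Field F] [Fintype F] {q : ℕ} {σ : F ≃+* F}

theorem tvS_val (hF : Fintype.card F = q ^ 2) (hσ : ∀ a, σ a = a ^ q) {e : Fin n → F} {a : F}
    (he : hf σ e e = 0) (ha : a + σ a = 0) :
    ((tvS q σ e a).1 : Matrix (Fin n) (Fin n) F) = tM e (⇑σ ∘ e) a := by
  have hσσ := bar_bar hF σ hσ
  apply mat_ext
  intro x
  rw [tvS_mulVec hσ hσσ he ha, tM_mulVec]
  unfold hf
  rw [dotProduct_comm]

/-- in dimension three, two independent isotropic vectors are not perpendicular. -/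
theorem iso_pair_ne_zero3 (hF : Fintype.card F = q ^ 2) (hσ : ∀ a, σ a = a ^ q) (hn : n = 3)
    {u v : Fin n → F} (hu0 : u ≠ 0) (hv0 : v ≠ 0) (hu : hf σ u u = 0) (hv : hf σ v v = 0)
    (hpar : ¬ ∃ k : F, u = k • v) : hf σ u v ≠ 0 := by
  have hσσ := bar_bar hF σ hσ
  intro h0
  have hvu : hf σ v u = 0 := hf_swap_zero σ hσσ h0
  have hpar' : ¬ ∃ k : F, v = k • u := by
    rintro ⟨k, hk⟩
    have hk0 : k ≠ 0 := by
      rintro rfl
      rw [zero_smul] at hk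
      exact hv0 hk
    exact hpar ⟨k⁻¹, by rw [hk, smul_smul, inv_mul_cancel₀ hk0, one_smul]⟩
  obtain ⟨f, r', h1, h2, -, -⟩ := exists_dual_pair hσ hσσ hv0 hpar
  obtain ⟨a, b, hab⟩ := perp_span3 hF hσ hn hu0 hu hvu h2 hpar'
  rw [hab, hf_add_left, hf_smul_left, hf_smul_left, h0, hv] at h1
  simp at h1

end

section
variable {F : Type u} [Field F] [Fintype F]

set_option maxHeartbeats 1600000 in
/-- `O_{3'}(PSU_3(2)) = 1`. -/
theorem suCore_small (hF4 : Fintype.card F = 4) : SUCore 3 F 2 3 := by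
  classical
  have hF : Fintype.card F = 2 ^ 2 := by rw [hF4]; norm_num
  obtain ⟨σ, hσ⟩ := exists_bar hF
  have hσσ := bar_bar hF σ hσ
  have h2F : (2 : F) = 0 := by
    have h4 : ((4 : ℕ) : F) = 0 := by rw [← hF4]; exact Nat.cast_card_eq_zero F
    have : (2 : F) * 2 = 0 := by
      push_cast at h4
      linear_combination h4
    exact mul_self_eq_zero.mp this
  have h3F : (-3 : F) = 1 := by linear_combination (-2 : F) * h2F
  have hcube : ∀ z : F, z ≠ 0 → z ^ 3 = 1 := by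
    intro z hz
    have := FiniteField.pow_card_sub_one_eq_one z hz
    rw [hF4] at this
    exact this
  obtain ⟨μ, hμ, hμ2⟩ := exists_mu hF σ hσ
  have hμ0 : μ ≠ 0 := by
    rintro rfl
    rw [zero_mul] at hμ
    exact one_ne_zero (neg_eq_zero.mp hμ.symm)
  have ha1 : (1 : F) + σ 1 = 0 := by rw [map_one]; linear_combination h2F
  intro M hM hMp m hm
  by_contra hnc
  -- a moved isotropic line
  have hmove : ∃ i j : Fin 3, i ≠ j ∧
      ¬ ∃ l : F, (m.1 : Matrix (Fin 3) (Fin 3) F) *ᵥ isoV i j μ = l • isoV i j μ := by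
    by_contra hcon
    push Not at hcon
    obtain ⟨d, hd⟩ := scalar_of_fix_lines (le_refl 3) μ hμ0 hμ2 (m.1 : Matrix (Fin 3) (Fin 3) F) hcon
    apply hnc
    rw [Subgroup.mem_center_iff]
    intro g
    apply Subtype.ext
    apply Subtype.ext
    show (g.1 : Matrix (Fin 3) (Fin 3) F) * (m.1 : Matrix (Fin 3) (Fin 3) F) =
      (m.1 : Matrix (Fin 3) (Fin 3) F) * (g.1 : Matrix (Fin 3) (Fin 3) F)
    rw [hd, Matrix.mul_smul, Matrix.mul_one, Matrix.smul_mul, Matrix.one_mul]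
  obtain ⟨i, j, hij, hmv⟩ := hmove
  set v := isoV i j μ with hv
  have hvv : hf σ v v = 0 := isoV_iso σ i j hij μ hμ
  have hv0 : v ≠ 0 := isoV_ne_zero σ i j hij μ
  set w := (m.1 : Matrix (Fin 3) (Fin 3) F) *ᵥ v with hw
  have hww : hf σ w w = 0 := by rw [hw, su_pres hσ, hvv]
  have hw0 : w ≠ 0 := su_mulVec_ne_zero hσ hσσ m hv0
  have hz := iso_pair_ne_zero3 hF hσ rfl hw0 hv0 hww hvv hmv
  set z := hf σ w v with hzdef
  have hzz : hf σ v w = σ z := (hf_swap σ hσσ w v).symm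
  set T := tvS 2 σ v 1 with hT
  have hTT : T * T = 1 := by
    rw [hT, tvS_mul hσ hσσ hvv ha1 ha1]
    have : (1 : F) + 1 = 0 := by linear_combination h2F
    rw [this]
    exact sgS_one hσ hσσ hvv
  have hTinv : T⁻¹ = T := inv_eq_of_mul_eq_one_right hTT
  set c := m * T * m⁻¹ * T⁻¹ with hc
  have hcM : c ∈ M := by
    have h1 : c = m * (T * m⁻¹ * T⁻¹) := by rw [hc]; group
    rw [h1]
    exact M.mul_mem hm (hM.conj_mem _ (M.inv_mem hm) T)
  have hceq : c = tvS 2 σ w 1 * tvS 2 σ v 1 := by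
    rw [hc, tvS_conj hσ hσσ m hvv ha1, hTinv]
  have hcval : (c.1 : Matrix (Fin 3) (Fin 3) F) = tM w (⇑σ ∘ w) 1 * tM v (⇑σ ∘ v) 1 := by
    rw [hceq]
    show ((tvS 2 σ w 1).1 : Matrix (Fin 3) (Fin 3) F) * ((tvS 2 σ v 1).1 : Matrix (Fin 3) (Fin 3) F) = _
    rw [tvS_val hF hσ hww ha1, tvS_val hF hσ hvv ha1]
  have hc3 : c ^ 3 = 1 := by
    apply Subtype.ext
    apply Subtype.ext
    rw [SubgroupClass.coe_pow, Matrix.SpecialLinearGroup.coe_pow]
    show (c.1 : Matrix (Fin 3) (Fin 3) F) ^ 3 = 1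
    rw [hcval]
    apply tM_pair_pow_three
    · rw [dotProduct_comm]; exact hww
    · rw [dotProduct_comm]; exact hvv
    · have e1 : (⇑σ ∘ w) ⬝ᵥ v = σ z := by rw [dotProduct_comm]; exact hzz
      have e2 : (⇑σ ∘ v) ⬝ᵥ w = z := by rw [dotProduct_comm]; rfl
      rw [e1, e2, h3F, hσ]
      have := hcube z hz
      linear_combination this
  -- `c` is central
  obtain ⟨k, hk, hck⟩ := hMp c hcM
  have hccent : c ∈ Subgroup.center ↥(Cfsg.SU 3 F 2) := by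
    have hb := Nat.gcd_eq_gcd_ab k 3
    rw [hk] at hb
    have h1 : c = (c ^ k) ^ (Nat.gcdA k 3) * (c ^ 3) ^ (Nat.gcdB k 3) := by
      rw [← zpow_natCast, ← zpow_natCast, ← _root_.zpow_mul, ← _root_.zpow_mul, ← _root_.zpow_add, ← hb]
      simp
    rw [h1, hc3, _root_.one_zpow, mul_one]
    exact Subgroup.zpow_mem _ hck _
  obtain ⟨d, hd⟩ := center_SU_scalar hF (le_refl 3) c hccent
  -- `c w = z v`
  have hcw : (c.1 : Matrix (Fin 3) (Fin 3) F) *ᵥ w = z • v := by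
    have e1 : (⇑σ ∘ w) ⬝ᵥ v = σ z := by rw [dotProduct_comm]; exact hzz
    have e2 : (⇑σ ∘ v) ⬝ᵥ w = z := by rw [dotProduct_comm]; rfl
    have e3 : (⇑σ ∘ w) ⬝ᵥ w = 0 := by rw [dotProduct_comm]; exact hww
    have hN : z * σ z = 1 := by
      rw [hσ]
      have := hcube z hz
      linear_combination this
    have hTv : tM v (⇑σ ∘ v) 1 *ᵥ w = w + z • v := by rw [tM_mulVec, e2, one_mul]
    rw [hcval, ← Matrix.mulVec_mulVec, hTv, tM_mulVec, dotProduct_add, dotProduct_smul, e3, e1, smul_eq_mul]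
    ext l
    simp only [Pi.add_apply, Pi.smul_apply, smul_eq_mul]
    linear_combination (w l) * hN + (w l) * h2F
  rw [hd, Matrix.smul_mulVec, Matrix.one_mulVec] at hcw
  apply hmv
  have hd0 : d ≠ 0 := by
    rintro rfl
    rw [zero_smul] at hcw
    rcases smul_eq_zero.mp hcw.symm with h | h
    · exact hz h
    · exact hv0 h
  refine ⟨d⁻¹ * z, ?_⟩
  rw [mul_smul, ← hcw, smul_smul, inv_mul_cancel₀ hd0, one_smul]

end

end Cfsg.Agent.Lib.Helper16.LU
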