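import Mathlib
import Cfsg.Agent.Lib.Helper16.LU3

set_option autoImplicit false
set_option linter.unusedSectionVars false
set_option linter.unusedVariables false

/-! An automorphism of `PSU_n(F)` fixing the transvections defined over a subfield: the field part
fixes the subfield. -/

namespace Cfsg.Agent.Lib.Helper16.LU

open Matrix Cfsg.Agent.Lib.Helper16 Cfsg.Agent.Lib.Helper16.PU Cfsg.Agent.Lib.Helper16.UA
  Cfsg.Agent.Lib.Helper16.PG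

universe u v

section
variable {n : ℕ} {F : Type u} [Field F] {q : ℕ}

/-- pointwise version of `lemma_T`. -/
theorem lemma_T_pt [Fintype F] (hF : Fintype.card F = q ^ 2) (hn : 3 ≤ n) (σ : F ≃+* F)
    (hσ : ∀ a, σ a = a ^ q) (ρ : F ≃+* F) (Z : ↥(simU n F q))
    (v : Fin n → F) (a : F) (hv : v ⬝ᵥ (⇑σ ∘ v) = 0) (ha : σ a = -a) (k : Fin n) (hk : v k = 0)
    (h1 : PhiU n F q Z (QuotientGroup.mk (tvSU hF σ hσ v a hv ha)) =
      fieldU n q ρ (QuotientGroup.mk (tvSU hF σ hσ v a hv ha))) :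
    (Z.1 : Matrix (Fin n) (Fin n) F) * (a • Matrix.vecMulVec v (⇑σ ∘ v)) =
      (ρ a • Matrix.vecMulVec (⇑ρ ∘ v) (⇑σ ∘ (⇑ρ ∘ v))) * (Z.1 : Matrix (Fin n) (Fin n) F) := by
  set t := tvSU hF σ hσ v a hv ha with ht
  rw [PhiU_mk, fieldU_mk, QuotientGroup.eq] at h1
  obtain ⟨d, hd⟩ := center_SU_scalar hF hn _ h1
  have h2 : (((conjSU Z t)⁻¹ * fieldSU ρ t : ↥(Cfsg.SU n F q)).1 : Matrix (Fin n) (Fin n) F) =
      (((conjSU Z t)⁻¹ : ↥(Cfsg.SU n F q)).1 : Matrix (Fin n) (Fin n) F) * (tvM σ v a).map ⇑ρ := rfl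
  rw [h2] at hd
  have h3 : (tvM σ v a).map ⇑ρ = d • ((Z.1 : Matrix (Fin n) (Fin n) F) * tvM σ v a *
      ((Z.1⁻¹ : GL (Fin n) F) : Matrix (Fin n) (Fin n) F)) := by
    have h4 : ((conjSU Z t).1 : Matrix (Fin n) (Fin n) F) *
        ((((conjSU Z t)⁻¹ : ↥(Cfsg.SU n F q)).1 : Matrix (Fin n) (Fin n) F) * (tvM σ v a).map ⇑ρ) =
        ((conjSU Z t).1 : Matrix (Fin n) (Fin n) F) * (d • 1) := by rw [hd]
    rw [← Matrix.mul_assoc] at h4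
    have h5 : ((conjSU Z t).1 : Matrix (Fin n) (Fin n) F) *
        (((conjSU Z t)⁻¹ : ↥(Cfsg.SU n F q)).1 : Matrix (Fin n) (Fin n) F) = 1 := by
      have : (conjSU Z t) * (conjSU Z t)⁻¹ = 1 := mul_inv_cancel _
      have h6 := congrArg (fun s : ↥(Cfsg.SU n F q) => (s.1 : Matrix (Fin n) (Fin n) F)) this
      exact h6
    rw [h5, Matrix.one_mul, Matrix.mul_smul, Matrix.mul_one] at h4
    exact h4
  have hN := tv_nilp σ v a hv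
  have hv' : (⇑ρ ∘ v) ⬝ᵥ (⇑σ ∘ (⇑ρ ∘ v)) = 0 := by
    have h7 : ⇑σ ∘ (⇑ρ ∘ v) = ⇑ρ ∘ (⇑σ ∘ v) := by
      funext i
      simp [bar_comm σ hσ ρ]
    rw [h7]
    have h8 := RingHom.map_dotProduct (ρ : F →+* F) v (⇑σ ∘ v)
    rw [hv, map_zero] at h8
    exact h8.symm
  have hN' := tv_nilp σ (⇑ρ ∘ v) (ρ a) hv'
  have hkk : (ρ a • Matrix.vecMulVec (⇑ρ ∘ v) (⇑σ ∘ (⇑ρ ∘ v))) k k = 0 := by
    rw [Matrix.smul_apply, Matrix.vecMulVec_apply]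
    simp [hk]
  rw [tvM_map σ hσ ρ] at h3
  have h7 := conj_nilp (Z.1 : Matrix (Fin n) (Fin n) F) ((Z.1⁻¹ : GL (Fin n) F) : Matrix (Fin n) (Fin n) F)
    (a • Matrix.vecMulVec v (⇑σ ∘ v)) (ρ a • Matrix.vecMulVec (⇑ρ ∘ v) (⇑σ ∘ (⇑ρ ∘ v)))
    (gl_mul_inv Z.1) (gl_inv_mul Z.1) hN hN' k hkk d h3.symm
  have h9 : (Z.1 : Matrix (Fin n) (Fin n) F) * (a • Matrix.vecMulVec v (⇑σ ∘ v)) *
      ((Z.1⁻¹ : GL (Fin n) F) : Matrix (Fin n) (Fin n) F) * (Z.1 : Matrix (Fin n) (Fin n) F) =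
      (ρ a • Matrix.vecMulVec (⇑ρ ∘ v) (⇑σ ∘ (⇑ρ ∘ v))) * (Z.1 : Matrix (Fin n) (Fin n) F) := by rw [h7]
  rw [Matrix.mul_assoc, gl_inv_mul, Matrix.mul_one] at h9
  exact h9

/-- pointwise version of `map_line`. -/
theorem map_line_pt [Fintype F] (hF : Fintype.card F = q ^ 2) (hn : 3 ≤ n) (σ : F ≃+* F)
    (hσ : ∀ a, σ a = a ^ q) (ρ : F ≃+* F) (Z : ↥(simU n F q))
    (v : Fin n → F) (a : F) (ha0 : a ≠ 0) (hv : v ⬝ᵥ (⇑σ ∘ v) = 0) (ha : σ a = -a) (k : Fin n)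
    (hk : v k = 0)
    (h1 : PhiU n F q Z (QuotientGroup.mk (tvSU hF σ hσ v a hv ha)) =
      fieldU n q ρ (QuotientGroup.mk (tvSU hF σ hσ v a hv ha)))
    (w : Fin n → F) (hw : (⇑σ ∘ v) ⬝ᵥ w = 1) :
    ∃ l : F, (Z.1 : Matrix (Fin n) (Fin n) F) *ᵥ v = l • (⇑ρ ∘ v) := by
  have hT := lemma_T_pt hF hn σ hσ ρ Z v a hv ha k hk h1
  have h1 := congrArg (fun M => M *ᵥ w) hT
  simp only [← Matrix.mulVec_mulVec, Matrix.smul_mulVec, Matrix.vecMulVec_mulVec, hw, op_smul_eq_smul,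
    one_smul, Matrix.mulVec_smul] at h1
  refine ⟨a⁻¹ * (ρ a * ((⇑σ ∘ (⇑ρ ∘ v)) ⬝ᵥ ((Z.1 : Matrix (Fin n) (Fin n) F) *ᵥ w))), ?_⟩
  have h2 : a • ((Z.1 : Matrix (Fin n) (Fin n) F) *ᵥ v) =
      a • ((a⁻¹ * (ρ a * ((⇑σ ∘ (⇑ρ ∘ v)) ⬝ᵥ ((Z.1 : Matrix (Fin n) (Fin n) F) *ᵥ w)))) • (⇑ρ ∘ v)) := by
    rw [h1, smul_smul, smul_smul, ← mul_assoc, mul_inv_cancel₀ ha0, one_mul]
  exact smul_right_injective _ ha0 h2

end

section rel
variable {n : ℕ} {F : Type u} [Field F] {q q₀ : ℕ} {F₀ : Type v} [Field F₀]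
variable [Fintype F] [Fintype F₀] (hF : Fintype.card F = q ^ 2) (hF₀ : Fintype.card F₀ = q₀ ^ 2)
  (j : F₀ →+* F) (hjq : ∀ y : F₀, j (y ^ q₀) = (j y) ^ q)
include hF hF₀ hjq

theorem bar_j (σ : F ≃+* F) (hσ : ∀ a, σ a = a ^ q) (σ₀ : F₀ ≃+* F₀) (hσ₀ : ∀ a, σ₀ a = a ^ q₀)
    (x : F₀) : σ (j x) = j (σ₀ x) := by
  rw [hσ, hσ₀, hjq]

/-- relative version of `eq_refl_of_fix_norm_one`. -/
theorem fix_of_fix_norm_one_rel (σ : F ≃+* F) (hσ : ∀ a, σ a = a ^ q) (σ₀ : F₀ ≃+* F₀)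
    (hσ₀ : ∀ a, σ₀ a = a ^ q₀) (ρ : F ≃+* F)
    (hρ : ∀ ζ : F₀, ζ * σ₀ ζ = 1 → ρ (j ζ) = j ζ) : ∀ y : F₀, ρ (j y) = j y := by
  have hbj := bar_j hF hF₀ j hjq σ hσ σ₀ hσ₀
  have hfix : ∀ y₀ : F₀, σ₀ y₀ ≠ y₀ → σ (ρ (j y₀) / j y₀) = ρ (j y₀) / j y₀ := by
    intro y₀ hy
    have hy0 : y₀ ≠ 0 := by
      rintro rfl
      exact hy (map_zero σ₀)
    have hσy0 : σ₀ y₀ ≠ 0 := by
      rw [Ne, map_eq_zero]; exact hy0
    have h1 : (y₀ / σ₀ y₀) * σ₀ (y₀ / σ₀ y₀) = 1 := by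
      rw [map_div₀, bar_bar hF₀ σ₀ hσ₀]
      field_simp
    have h2 := hρ _ h1
    rw [map_div₀, map_div₀, ← hbj, bar_comm σ hσ ρ] at h2
    set y := j y₀ with hydef
    have hjy0 : y ≠ 0 := by rw [hydef, Ne, map_eq_zero]; exact hy0
    have hσjy0 : σ y ≠ 0 := by rw [Ne, map_eq_zero]; exact hjy0
    have hρy0 : ρ y ≠ 0 := by
      rw [Ne, map_eq_zero]; exact hjy0
    have hσρy0 : σ (ρ y) ≠ 0 := by
      rw [Ne, map_eq_zero]; exact hρy0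
    rw [map_div₀]
    rw [div_eq_div_iff hσρy0 hσjy0] at h2
    rw [div_eq_div_iff hσjy0 hjy0]
    linear_combination -h2
  have hmoved : ∀ y₀ : F₀, σ₀ y₀ ≠ y₀ → ρ (j y₀) = j y₀ := by
    intro y₀ hy
    have hy0 : y₀ ≠ 0 := by
      rintro rfl
      exact hy (map_zero σ₀)
    have hy1 : σ₀ (1 + y₀) ≠ 1 + y₀ := by
      rw [map_add, map_one]
      intro h
      exact hy (add_left_cancel h)
    have hy10 : 1 + y₀ ≠ 0 := by
      intro h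
      rw [h] at hy1
      exact hy1 (map_zero σ₀)
    set y := j y₀ with hydef
    have hjy0 : y ≠ 0 := by rw [hydef, Ne, map_eq_zero]; exact hy0
    have hjy10 : 1 + y ≠ 0 := by
      have : j (1 + y₀) ≠ 0 := by rw [Ne, map_eq_zero]; exact hy10
      rwa [map_add, map_one] at this
    have hσy : σ y ≠ y := by
      rw [hydef, hbj]
      intro h
      exact hy (j.injective h)
    set c := ρ y / y with hc
    set c' := ρ (1 + y) / (1 + y) with hc'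
    have hcf : σ c = c := hfix y₀ hy
    have hc'f : σ c' = c' := by
      have := hfix (1 + y₀) hy1
      rw [map_add, map_one] at this
      exact this
    have e1 : ρ y = c * y := by rw [hc]; field_simp
    have e2 : 1 + ρ y = c' * (1 + y) := by
      rw [hc', ← map_one ρ, ← map_add, map_one]; field_simp
    have e3 : (c' - 1) = (c - c') * y := by
      rw [e1] at e2
      linear_combination -e2
    by_cases hcc : c = c'
    · rw [hcc, sub_self, zero_mul, sub_eq_zero] at e3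
      rw [e1, hcc, e3, one_mul]
    · exfalso
      have hne : c - c' ≠ 0 := sub_ne_zero.mpr hcc
      have e4 : y = (c' - 1) / (c - c') := by
        rw [e3]; field_simp
      apply hσy
      rw [e4, map_div₀, map_sub, map_sub, map_one, hcf, hc'f]
  obtain ⟨θ, hθ⟩ := exists_moved hF₀ σ₀ hσ₀
  intro y
  by_cases hy : σ₀ y = y
  · have h1 : σ₀ (y + θ) ≠ y + θ := by
      rw [map_add, hy]
      intro h
      exact hθ (add_left_cancel h)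
    have h2 := hmoved _ h1
    rw [map_add, map_add, hmoved θ hθ] at h2
    exact add_right_cancel h2
  · exact hmoved y hy

set_option maxHeartbeats 800000 in
/-- if `Φ(Z)` and the field automorphism `ρ` agree on the transvections defined over the subfield
`j(F₀)`, then `ρ` fixes `j(F₀)` pointwise. -/
theorem fix_of_agree_tv (hn : 3 ≤ n) (σ : F ≃+* F) (hσ : ∀ a, σ a = a ^ q) (σ₀ : F₀ ≃+* F₀)
    (hσ₀ : ∀ a, σ₀ a = a ^ q₀) (ρ : F ≃+* F) (Z : ↥(simU n F q))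
    (h : ∀ (i k : Fin n) (hik : i ≠ k) (μ₀ a₀ : F₀) (hμ : j μ₀ * σ (j μ₀) = -1)
      (ha : σ (j a₀) = -(j a₀)),
      PhiU n F q Z (QuotientGroup.mk (tvSU hF σ hσ (isoV i k (j μ₀)) (j a₀)
        (isoV_iso σ i k hik (j μ₀) hμ) ha)) =
      fieldU n q ρ (QuotientGroup.mk (tvSU hF σ hσ (isoV i k (j μ₀)) (j a₀)
        (isoV_iso σ i k hik (j μ₀) hμ) ha))) :
    ∀ y : F₀, ρ (j y) = j y := by
  have hbj := bar_j hF hF₀ j hjq σ hσ σ₀ hσ₀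
  obtain ⟨a₀, ha₀0, ha₀⟩ := exists_skew hF₀ σ₀ hσ₀
  have hja0 : j a₀ ≠ 0 := by rw [Ne, map_eq_zero]; exact ha₀0
  have hja : σ (j a₀) = -(j a₀) := by rw [hbj, ha₀, map_neg]
  obtain ⟨μ₁, hμ₁, hμ₁2⟩ := exists_mu hF₀ σ₀ hσ₀
  have hjμ : ∀ μ₀ : F₀, μ₀ * σ₀ μ₀ = -1 → j μ₀ * σ (j μ₀) = -1 := by
    intro μ₀ hμ₀
    rw [hbj, ← map_mul, hμ₀, map_neg, map_one]
  have hjμ₁2 : (j μ₁) ^ 2 ≠ 1 := by
    rw [← map_pow]
    intro h1
    apply hμ₁2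
    apply j.injective
    rw [h1, map_one]
  have hlines : ∀ μ₀ : F₀, μ₀ * σ₀ μ₀ = -1 → ∀ i k : Fin n, i ≠ k →
      ∃ l : F, (Z.1 : Matrix (Fin n) (Fin n) F) *ᵥ isoV i k (j μ₀) = l • isoV i k (ρ (j μ₀)) := by
    intro μ₀ hμ₀ i k hik
    obtain ⟨k', hk'i, hk'k⟩ := exists_third hn i k
    have hk0 : isoV i k (j μ₀) k' = 0 := by
      rw [isoV_apply, if_neg hk'i, if_neg hk'k]; ring
    have := map_line_pt hF hn σ hσ ρ Z (isoV i k (j μ₀)) (j a₀) hja0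
      (isoV_iso σ i k hik (j μ₀) (hjμ μ₀ hμ₀)) hja k' hk0 (h i k hik μ₀ a₀ (hjμ μ₀ hμ₀) hja)
      (Pi.single i 1) (isoV_dual σ i k hik (j μ₀))
    rw [isoV_comp] at this
    exact this
  have hdiag := diag_of_map_lines hn (j μ₁) (ρ (j μ₁)) hjμ₁2 (Z.1 : Matrix (Fin n) (Fin n) F)
    (hlines μ₁ hμ₁)
  have hnz := diag_ne_zero Z.1 hdiag
  set i : Fin n := ⟨0, by omega⟩ with hi
  set k : Fin n := ⟨1, by omega⟩ with hk
  have hik : i ≠ k := by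
    rw [hi, hk]; intro h; simp [Fin.ext_iff] at h
  have hratio : ∀ μ₀ : F₀, μ₀ * σ₀ μ₀ = -1 → j μ₀ * (Z.1 : Matrix (Fin n) (Fin n) F) k k =
      (Z.1 : Matrix (Fin n) (Fin n) F) i i * ρ (j μ₀) := by
    intro μ₀ hμ₀
    obtain ⟨l, hl⟩ := hlines μ₀ hμ₀ i k hik
    have h1 := congrFun hl i
    have h2 := congrFun hl k
    rw [mulVec_isoV, Pi.smul_apply, isoV_apply, if_pos rfl, if_neg hik, hdiag i k hik] at h1
    rw [mulVec_isoV, Pi.smul_apply, isoV_apply, if_pos rfl, if_neg (Ne.symm hik), hdiag k i (Ne.symm hik)] at h2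
    simp only [smul_eq_mul] at h1 h2
    have h3 : l = (Z.1 : Matrix (Fin n) (Fin n) F) i i := by linear_combination -h1
    rw [h3] at h2
    linear_combination h2
  apply fix_of_fix_norm_one_rel hF hF₀ j hjq σ hσ σ₀ hσ₀ ρ
  intro ζ hζ
  have h1 : (μ₁ * ζ) * σ₀ (μ₁ * ζ) = -1 := by
    rw [map_mul]
    linear_combination ζ * σ₀ ζ * hμ₁ - hζ
  have h2 := hratio _ h1
  have h3 := hratio _ hμ₁
  rw [map_mul, map_mul] at h2
  have hμ₁0 : μ₁ ≠ 0 := by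
    rintro rfl
    rw [zero_mul] at hμ₁
    exact zero_ne_one (neg_eq_zero.mp hμ₁.symm).symm
  have hρμ₁ : ρ (j μ₁) ≠ 0 := by
    rw [Ne, map_eq_zero, map_eq_zero]; exact hμ₁0
  have h4 : ((Z.1 : Matrix (Fin n) (Fin n) F) i i * ρ (j μ₁)) * (ρ (j ζ) - j ζ) = 0 := by
    linear_combination -h2 + j ζ * h3
  rcases mul_eq_zero.mp h4 with h5 | h5
  · exact absurd h5 (mul_ne_zero (hnz i) hρμ₁)
  · exact sub_eq_zero.mp h5

end rel

end Cfsg.Agent.Lib.Helper16.LU
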