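import Mathlib
import Cfsg.Agent.Lib.Helper16.LU4

set_option autoImplicit false
set_option linter.unusedSectionVars false
set_option linter.unusedVariables false

/-! The inner automorphisms of `PSU_n(F)` induced by `SU_n` over a subfield. -/

namespace Cfsg.Agent.Lib.Helper16.LU

open Matrix Cfsg.Agent.Lib.Helper16 Cfsg.Agent.Lib.Helper16.PU Cfsg.Agent.Lib.Helper16.UA
  Cfsg.Agent.Lib.Helper16.PG Cfsg.Agent.Lib.Helper16.UF

universe u v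

section
variable {n : ℕ} {F₀ : Type v} [Field F₀] {q₀ : ℕ}

/-- `SU_n → GU_n`. -/
noncomputable def suToGU (n : ℕ) (F₀ : Type v) [Field F₀] (q₀ : ℕ) :
    ↥(Cfsg.SU n F₀ q₀) →* ↥(Cfsg.GU n F₀ q₀) where
  toFun s := ⟨suGL s, suGL_mem_GU s⟩
  map_one' := by
    apply Subtype.ext
    apply Units.ext
    rfl
  map_mul' a b := by
    apply Subtype.ext
    apply Units.ext
    rfl

theorem suToGU_val (s : ↥(Cfsg.SU n F₀ q₀)) :
    (((suToGU n F₀ q₀ s : ↥(Cfsg.GU n F₀ q₀)) : GL (Fin n) F₀) : Matrix (Fin n) (Fin n) F₀) =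
      (s.1 : Matrix (Fin n) (Fin n) F₀) := rfl

theorem scalar_mem_center (s : ↥(Cfsg.SU n F₀ q₀)) (d : F₀)
    (hd : (s.1 : Matrix (Fin n) (Fin n) F₀) = d • 1) : s ∈ Subgroup.center ↥(Cfsg.SU n F₀ q₀) := by
  rw [Subgroup.mem_center_iff]
  intro g
  apply Subtype.ext
  apply Subtype.ext
  show (g.1 : Matrix (Fin n) (Fin n) F₀) * (s.1 : Matrix (Fin n) (Fin n) F₀) =
    (s.1 : Matrix (Fin n) (Fin n) F₀) * (g.1 : Matrix (Fin n) (Fin n) F₀)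
  rw [hd, Matrix.mul_smul, Matrix.mul_one, Matrix.smul_mul, Matrix.one_mul]

end

section fin
variable {n : ℕ} {F : Type u} [Field F] {q q₀ : ℕ} {F₀ : Type v} [Field F₀]
variable [Fintype F] [Fintype F₀] (hF : Fintype.card F = q ^ 2) (hF₀ : Fintype.card F₀ = q₀ ^ 2)
  (j : F₀ →+* F) (hjq : ∀ y : F₀, j (y ^ q₀) = (j y) ^ q)
include hF hF₀ hjq

/-- the inner automorphisms induced by `SU_n(F₀)`. -/
noncomputable def kapU : ↥(Cfsg.SU n F₀ q₀) →* MulAut (Cfsg.PSU n F q) :=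
  (LamU (n := n) hF hF₀ j hjq).comp (suToGU n F₀ q₀)

theorem kapU_apply (s : ↥(Cfsg.SU n F₀ q₀)) :
    kapU hF hF₀ j hjq s = LamU (n := n) hF hF₀ j hjq (suToGU n F₀ q₀ s) := rfl

/-- base change of `SU_n`. -/
noncomputable def inclSU (s : ↥(Cfsg.SU n F₀ q₀)) : ↥(Cfsg.SU n F q) :=
  ⟨⟨(s.1 : Matrix (Fin n) (Fin n) F₀).map ⇑j, by
    have h1 : ((s.1 : Matrix (Fin n) (Fin n) F₀).map ⇑j).det = j ((s.1 : Matrix (Fin n) (Fin n) F₀).det) :=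
      (RingHom.map_det j _).symm
    rw [h1, s.1.2, map_one]⟩,
    fun x y => (inclGLU_mem hF hF₀ j hjq (suGL s) (suGL_mem_GU s)) x y⟩

theorem inclSU_val (s : ↥(Cfsg.SU n F₀ q₀)) :
    ((inclSU hF hF₀ j hjq s).1 : Matrix (Fin n) (Fin n) F) = (s.1 : Matrix (Fin n) (Fin n) F₀).map ⇑j := rfl

theorem kapU_eq_conj (s : ↥(Cfsg.SU n F₀ q₀)) :
    kapU hF hF₀ j hjq s = MulAut.conj (mkU n F q (inclSU hF hF₀ j hjq s)) := by
  rw [conj_mkU_eq_PhiU, kapU_apply]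
  unfold LamU
  rw [MonoidHom.comp_apply]
  congr 1
  apply Subtype.ext
  apply Units.ext
  rfl

theorem kapU_mem (hn : 3 ≤ n) (τ : RingAut F) (hj : ∀ x, (∃ y, j y = x) ↔ τ x = x)
    (s : ↥(Cfsg.SU n F₀ q₀)) :
    kapU hF hF₀ j hjq s ∈ Cfsg.Inn (Cfsg.PSU n F q) ⊓ Subgroup.centralizer {fieldUHom n F q τ} := by
  refine ⟨?_, ?_⟩
  · rw [kapU_eq_conj]
    exact ⟨_, rfl⟩
  · have h1 : kapU hF hF₀ j hjq s ∈ (LamU (n := n) hF hF₀ j hjq).range := ⟨_, rfl⟩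
    rw [LamU_range hF hF₀ j hjq hn τ hj] at h1
    exact h1.2

theorem kapU_eq_one (hn : 3 ≤ n) (s : ↥(Cfsg.SU n F₀ q₀)) (h : kapU hF hF₀ j hjq s = 1) :
    s ∈ Subgroup.center ↥(Cfsg.SU n F₀ q₀) := by
  rw [kapU_apply, ← MonoidHom.mem_ker, LamU_ker hF hF₀ j hjq hn, Subgroup.mem_subgroupOf,
    Cfsg.Geo.mem_scalars_iff] at h
  obtain ⟨c, hc⟩ := h
  exact scalar_mem_center s c hc

theorem kapU_of_center (hn : 3 ≤ n) (s : ↥(Cfsg.SU n F₀ q₀))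
    (h : s ∈ Subgroup.center ↥(Cfsg.SU n F₀ q₀)) : kapU hF hF₀ j hjq s = 1 := by
  obtain ⟨d, hd⟩ := center_SU_scalar hF₀ hn s h
  rw [kapU_apply, ← MonoidHom.mem_ker, LamU_ker hF hF₀ j hjq hn, Subgroup.mem_subgroupOf,
    Cfsg.Geo.mem_scalars_iff]
  have hd0 : d ≠ 0 := by
    rintro rfl
    rw [zero_smul] at hd
    have h1 := s.1.2
    have hne : Nonempty (Fin n) := ⟨⟨0, by omega⟩⟩
    rw [hd, Matrix.det_zero] at h1
    exact zero_ne_one h1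
  exact ⟨Units.mk0 d hd0, hd⟩

theorem kapU_conj (g₀ : ↥(Cfsg.GU n F₀ q₀)) (s : ↥(Cfsg.SU n F₀ q₀)) :
    LamU (n := n) hF hF₀ j hjq g₀ * kapU hF hF₀ j hjq s * (LamU (n := n) hF hF₀ j hjq g₀)⁻¹ =
      kapU hF hF₀ j hjq (conjSU ⟨g₀.1, GU_le_simU g₀.2⟩ s) := by
  rw [kapU_apply, kapU_apply, ← map_inv, ← map_mul, ← map_mul]
  congr 1
  apply Subtype.ext
  apply Units.ext
  rfl

end fin

end Cfsg.Agent.Lib.Helper16.LU
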