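import Mathlib
import Cfsg.Agent.Lib.Helper16.LU5

set_option autoImplicit false
set_option linter.unusedSectionVars false
set_option linter.unusedVariables false

/-! Normal `p'`-subgroups of the centraliser of a standard field automorphism of `PSU_n`. -/

namespace Cfsg.Agent.Lib.Helper16.LU

open Matrix Cfsg.Agent.Lib.Helper16 Cfsg.Agent.Lib.Helper16.PU Cfsg.Agent.Lib.Helper16.UA
  Cfsg.Agent.Lib.Helper16.PG Cfsg.Agent.Lib.Helper16.UF Cfsg.Agent.Lib.Helper16.LC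

universe u v

section fin
variable {n : ℕ} {F : Type u} [Field F] {q q₀ : ℕ} {F₀ : Type v} [Field F₀]
variable [Fintype F] [Fintype F₀] (hF : Fintype.card F = q ^ 2) (hF₀ : Fintype.card F₀ = q₀ ^ 2)
  (j : F₀ →+* F) (hjq : ∀ y : F₀, j (y ^ q₀) = (j y) ^ q)
include hF hF₀ hjq

theorem isoV_map_j (i k : Fin n) (μ₀ : F₀) : ⇑j ∘ isoV i k μ₀ = isoV i k (j μ₀) := by
  funext x
  rw [Function.comp_apply, isoV_apply, isoV_apply, map_add, map_mul]
  congr 1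
  · split_ifs <;> simp
  · congr 1
    split_ifs <;> simp

theorem inclSU_tvSU (σ : F ≃+* F) (hσ : ∀ a, σ a = a ^ q) (σ₀ : F₀ ≃+* F₀) (hσ₀ : ∀ a, σ₀ a = a ^ q₀)
    (v₀ : Fin n → F₀) (a₀ : F₀) (hv₀ : v₀ ⬝ᵥ (⇑σ₀ ∘ v₀) = 0) (ha₀ : σ₀ a₀ = -a₀)
    (hv : (⇑j ∘ v₀) ⬝ᵥ (⇑σ ∘ (⇑j ∘ v₀)) = 0) (ha : σ (j a₀) = -(j a₀)) :
    inclSU hF hF₀ j hjq (tvSU hF₀ σ₀ hσ₀ v₀ a₀ hv₀ ha₀) = tvSU hF σ hσ (⇑j ∘ v₀) (j a₀) hv ha := by
  have hbj := bar_j hF hF₀ j hjq σ hσ σ₀ hσ₀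
  apply Subtype.ext
  apply Subtype.ext
  rw [inclSU_val, tvSU_val, tvSU_val]
  unfold tvM
  ext x y
  rw [Matrix.map_apply, Matrix.add_apply, Matrix.add_apply, Matrix.smul_apply, Matrix.smul_apply,
    Matrix.vecMulVec_apply, Matrix.vecMulVec_apply, map_add, smul_eq_mul, smul_eq_mul, map_mul, map_mul,
    Function.comp_apply, Function.comp_apply, Function.comp_apply, Function.comp_apply, hbj]
  congr 1
  by_cases hxy : x = y
  · rw [hxy, Matrix.one_apply_eq, Matrix.one_apply_eq, map_one]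
  · rw [Matrix.one_apply_ne hxy, Matrix.one_apply_ne hxy, map_zero]

set_option maxHeartbeats 1600000 in
/-- a normal `p'`-subgroup of the centraliser of a standard field automorphism of prime order `p`
is trivial, when `O_{p'}(PSU_n(F₀)) = 1`. -/
theorem field_core_psu (hn : 3 ≤ n) (hs : ¬ (n = 3 ∧ q = 2)) (τ : RingAut F)
    (hj : ∀ x, (∃ y, j y = x) ↔ τ x = x)
    (hinj : Function.Injective (MulAut.conj : Cfsg.PSU n F q →* MulAut (Cfsg.PSU n F q)))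
    (p : ℕ) (hp : p.Prime) (hord : orderOf τ = p)
    (hP : SUCore n F₀ q₀ p)
    (A N' : Subgroup (MulAut (Cfsg.PSU n F q)))
    (hInnA : Cfsg.Inn (Cfsg.PSU n F q) ≤ A)
    (hNA : N' ≤ A ⊓ Subgroup.centralizer {fieldUHom n F q τ})
    (hnorm : ∀ c ∈ A ⊓ Subgroup.centralizer {fieldUHom n F q τ}, ∀ y ∈ N', c * y * c⁻¹ ∈ N')
    (hcop : (Nat.card N').Coprime p) : N' = ⊥ := by
  classical
  have hfinM := finite_mulAut_psu (n := n) (F := F) (q := q)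
  obtain ⟨σ, hσ⟩ := exists_bar hF
  obtain ⟨σ₀, hσ₀⟩ := exists_bar hF₀
  have hbj := bar_j hF hF₀ j hjq σ hσ σ₀ hσ₀
  set x := fieldUHom n F q τ with hx
  set κ := kapU (n := n) hF hF₀ j hjq with hκ
  have hκI : ∀ s, κ s ∈ Cfsg.Inn (Cfsg.PSU n F q) ⊓ Subgroup.centralizer {x} :=
    kapU_mem hF hF₀ j hjq hn τ hj
  have hκC : ∀ s, κ s ∈ A ⊓ Subgroup.centralizer {x} := fun s => ⟨hInnA (hκI s).1, (hκI s).2⟩
  -- Step 1
  set M : Subgroup ↥(Cfsg.SU n F₀ q₀) := N'.comap κ with hM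
  have hMN : M.Normal := by
    constructor
    intro k hk l
    show κ (l * k * l⁻¹) ∈ N'
    rw [map_mul, map_mul, map_inv]
    exact hnorm _ (hκC l) _ hk
  have hMp : ∀ m ∈ M, ∃ k : ℕ, Nat.Coprime k p ∧ m ^ k ∈ Subgroup.center ↥(Cfsg.SU n F₀ q₀) := by
    intro m hm
    refine ⟨Nat.card N', hcop, ?_⟩
    apply kapU_eq_one hF hF₀ j hjq hn
    rw [map_pow]
    have h1 : (⟨κ m, hm⟩ : ↥N') ^ Nat.card N' = 1 := pow_card_eq_one'
    have h2 := congrArg (fun t : ↥N' => (t : MulAut (Cfsg.PSU n F q))) h1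
    exact h2
  have hMc := hP M hMN hMp
  have hcase : ∀ s, κ s ∈ N' → κ s = 1 := by
    intro s hs'
    exact kapU_of_center hF hF₀ j hjq hn s (hMc hs')
  -- Step 2
  have hND : ∀ y ∈ N', y ∈ (PhiU n F q).range → y = 1 := by
    intro y hyN hyD
    have hyC : y ∈ Subgroup.centralizer {x} := (hNA hyN).2
    have hyR : y ∈ (LamU (n := n) hF hF₀ j hjq).range := by
      rw [LamU_range hF hF₀ j hjq hn τ hj]; exact ⟨hyD, hyC⟩
    obtain ⟨g₀, rfl⟩ := hyR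
    set g₀' : ↥(simU n F₀ q₀) := ⟨g₀.1, GU_le_simU g₀.2⟩ with hg₀'
    have h1 : PhiU n F₀ q₀ g₀' = 1 := by
      apply MulEquiv.ext
      intro k
      induction k using QuotientGroup.induction_on with
      | H s =>
        rw [PhiU_mk, MulAut.one_apply]
        have h2 : κ (conjSU g₀' s * s⁻¹) ∈ N' := by
          rw [map_mul, map_inv, hκ, ← kapU_conj]
          have e1 : LamU (n := n) hF hF₀ j hjq g₀ * kapU hF hF₀ j hjq s *
              (LamU (n := n) hF hF₀ j hjq g₀)⁻¹ * (kapU hF hF₀ j hjq s)⁻¹ =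
              LamU (n := n) hF hF₀ j hjq g₀ * (kapU hF hF₀ j hjq s *
              (LamU (n := n) hF hF₀ j hjq g₀)⁻¹ * (kapU hF hF₀ j hjq s)⁻¹) := by group
          rw [e1]
          exact N'.mul_mem hyN (hnorm _ (hκC s) _ (N'.inv_mem hyN))
        have h3 := kapU_eq_one hF hF₀ j hjq hn _ (hcase _ h2)
        rw [QuotientGroup.eq, ← Subgroup.inv_mem_iff]
        have e2 : ((conjSU g₀' s)⁻¹ * s)⁻¹ = s⁻¹ * conjSU g₀' s := by group
        rw [e2]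
        have h4 : s⁻¹ * conjSU g₀' s = s⁻¹ * (conjSU g₀' s * s⁻¹) * s := by group
        rw [h4]
        exact (Subgroup.center ↥(Cfsg.SU n F₀ q₀)).normal_of_characteristic.conj_mem' _ h3 s
    rw [PhiU_eq_one_iff' hF₀ hn] at h1
    obtain ⟨c, hc⟩ := h1
    rw [← MonoidHom.mem_ker, LamU_ker hF hF₀ j hjq hn, Subgroup.mem_subgroupOf, Cfsg.Geo.mem_scalars_iff]
    refine ⟨c, ?_⟩
    have hc' : (g₀.1 : GL (Fin n) F₀) = scalGL n c := hc
    rw [hc', scalGL_val]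
  -- Step 3
  have hcomm := comm_of_inf_bot A N' (PhiU n F q).range x hInnA Inn_le_range_PhiU hnorm hND
  -- Step 4
  have hfixS : ∀ y ∈ N', ∀ s : ↥(Cfsg.SU n F₀ q₀),
      y (mkU n F q (inclSU hF hF₀ j hjq s)) = mkU n F q (inclSU hF hF₀ j hjq s) := by
    intro y hy s
    apply fix_of_comm_conj hinj
    apply hcomm y hy
    have := hκI s
    rw [hκ, kapU_eq_conj] at this
    exact this
  rw [eq_bot_iff]
  intro y hy
  rw [Subgroup.mem_bot]
  obtain ⟨Y, ρ, hyeq⟩ := aut_eq' hF hn hs y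
  have hρfix : ∀ t : F₀, ρ (j t) = j t := by
    apply fix_of_agree_tv hF hF₀ j hjq hn σ hσ σ₀ hσ₀ ρ Y⁻¹
    intro i k hik μ₀ a₀ hμ ha
    have hμ₀ : μ₀ * σ₀ μ₀ = -1 := by
      apply j.injective
      rw [map_mul, ← hbj, hμ, map_neg, map_one]
    have ha₀ : σ₀ a₀ = -a₀ := by
      apply j.injective
      rw [← hbj, ha, map_neg]
    have hv₀ := isoV_iso σ₀ i k hik μ₀ hμ₀
    have hv : (⇑j ∘ isoV i k μ₀) ⬝ᵥ (⇑σ ∘ (⇑j ∘ isoV i k μ₀)) = 0 := by
      rw [isoV_map_j hF hF₀ j hjq]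
      exact isoV_iso σ i k hik (j μ₀) hμ
    have e1 := inclSU_tvSU hF hF₀ j hjq σ hσ σ₀ hσ₀ (isoV i k μ₀) a₀ hv₀ ha₀ hv ha
    have e2 : tvSU hF σ hσ (⇑j ∘ isoV i k μ₀) (j a₀) hv ha =
        tvSU hF σ hσ (isoV i k (j μ₀)) (j a₀) (isoV_iso σ i k hik (j μ₀) hμ) ha := by
      apply Subtype.ext
      apply Subtype.ext
      rw [tvSU_val, tvSU_val, isoV_map_j hF hF₀ j hjq]
    have h1 := hfixS y hy (tvSU hF₀ σ₀ hσ₀ (isoV i k μ₀) a₀ hv₀ ha₀)
    rw [e1, e2, hyeq, MulAut.mul_apply] at h1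
    rw [map_inv, MulAut.inv_apply, MulEquiv.symm_apply_eq]
    exact h1.symm
  have hρmem : (ρ : RingAut F) ∈ Subgroup.zpowers τ := by
    apply mem_zpowers_of_fix
    intro t ht
    obtain ⟨t₀, rfl⟩ := (hj t).mpr ht
    exact hρfix t₀
  have hρp : (ρ : RingAut F) ^ p = 1 := by
    obtain ⟨k, hk⟩ := Subgroup.mem_zpowers_iff.mp hρmem
    have hτp : τ ^ p = 1 := by rw [← hord]; exact pow_orderOf_eq_one _
    rw [← hk, ← zpow_natCast, ← _root_.zpow_mul, mul_comm, _root_.zpow_mul, zpow_natCast, hτp,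
      _root_.one_zpow]
  have hyp : y ^ p = 1 := by
    apply hND _ (N'.pow_mem hy p)
    rw [hyeq]
    have := pow_PhiU_fieldU (n := n) (q := q) (ρ : RingAut F) Y.1 Y.2 p
    rw [fieldUHom_apply] at this
    rw [this, hρp, map_one, mul_one]
    exact ⟨_, rfl⟩
  have h1 : orderOf y ∣ p := orderOf_dvd_of_pow_eq_one hyp
  have h3 : orderOf y ∣ Nat.card N' := by
    have := orderOf_dvd_natCard (⟨_, hy⟩ : ↥N')
    rwa [Subgroup.orderOf_mk] at this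
  have h4 : orderOf y = 1 :=
    Nat.Coprime.eq_one_of_dvd (Nat.Coprime.coprime_dvd_left h3 hcop) h1
  exact orderOf_eq_one_iff.mp h4

end fin

end Cfsg.Agent.Lib.Helper16.LU
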