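import Mathlib
import Cfsg.Agent.Lib.Helper16.LU6

set_option autoImplicit false
set_option linter.unusedSectionVars false
set_option linter.unusedVariables false

/-! `O_{p'}` of the centraliser of a field automorphism of odd prime order of `PSU_n`. -/

namespace Cfsg.Agent.Lib.Helper16.LU

open Matrix Cfsg.Agent.Lib.Helper16 Cfsg.Agent.Lib.Helper16.PU Cfsg.Agent.Lib.Helper16.UA
  Cfsg.Agent.Lib.Helper16.PG Cfsg.Agent.Lib.Helper16.UF Cfsg.Agent.Lib.Helper16.LC
  Cfsg.Agent.Lib.Helper16.OL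

universe u v

section fin
variable {n : ℕ} {F : Type u} [Field F] {q q₀ : ℕ} {F₀ : Type v} [Field F₀]
variable [Fintype F] [Fintype F₀] (hF : Fintype.card F = q ^ 2) (hF₀ : Fintype.card F₀ = q₀ ^ 2)
  (j : F₀ →+* F) (hjq : ∀ y : F₀, j (y ^ q₀) = (j y) ^ q)
include hF hF₀ hjq

set_option maxHeartbeats 1600000 in
/-- `O_{p'}(PSU_n(F₀)) = 1` when `p` divides the order of the fixed points. -/
theorem suCore_of_dvd (hn : 3 ≤ n) (τ : RingAut F) (hj : ∀ x, (∃ y, j y = x) ↔ τ x = x)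
    (p : ℕ) [hp : Fact p.Prime] (hp2 : p ≠ 2)
    (hpd : p ∣ Nat.card ↥(Cfsg.Inn (Cfsg.PSU n F q) ⊓
      Subgroup.centralizer {fieldUHom n F q τ})) : SUCore n F₀ q₀ p := by
  classical
  have hfinM := finite_mulAut_psu (n := n) (F := F) (q := q)
  obtain ⟨y, hy⟩ := exists_prime_orderOf_dvd_card' p hpd
  have hyI := y.2
  have hyR : (y : MulAut (Cfsg.PSU n F q)) ∈ (LamU (n := n) hF hF₀ j hjq).range := by
    rw [LamU_range hF hF₀ j hjq hn τ hj]
    exact ⟨Inn_le_range_PhiU hyI.1, hyI.2⟩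
  obtain ⟨g₀, hg₀⟩ := hyR
  have hyord : orderOf (y : MulAut (Cfsg.PSU n F q)) = p := by
    rw [Subgroup.orderOf_coe]; exact hy
  by_cases hs₀ : n = 3 ∧ q₀ = 2
  · obtain ⟨rfl, rfl⟩ := hs₀
    have hfinG : Finite ↥(Cfsg.GU 3 F₀ 2) := inferInstance
    have hpo : p ∣ orderOf g₀ := by
      rw [← hyord, ← hg₀]; exact orderOf_map_dvd _ _
    have hpc : p ∣ Nat.card ↥(Cfsg.GU 3 F₀ 2) := dvd_trans hpo (orderOf_dvd_natCard g₀)
    rw [Cfsg.Agent.S0277.result hF₀ 3] at hpc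
    have h648 : (2 ^ (3 * (3 - 1) / 2) * ∏ i ∈ Finset.range 3,
        (if Even i then 2 ^ (i + 1) + 1 else 2 ^ (i + 1) - 1) : ℕ) = 2 ^ 3 * 3 ^ 4 := by
      decide
    rw [h648] at hpc
    have hp3 : p = 3 := by
      rcases (Nat.Prime.dvd_mul hp.out).mp hpc with h | h
      · exact absurd ((Nat.prime_dvd_prime_iff_eq hp.out Nat.prime_two).mp
          (hp.out.dvd_of_dvd_pow h)) hp2
      · exact (Nat.prime_dvd_prime_iff_eq hp.out Nat.prime_three).mp (hp.out.dvd_of_dvd_pow h)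
    rw [hp3]
    exact suCore_small (by rw [hF₀]; norm_num)
  · have hsimple : IsSimpleGroup (Cfsg.PSU n F₀ q₀) := Cfsg.Agent.S0283.result hF₀ n hn hs₀
    by_cases hd : p ∣ q₀ + 1
    · obtain ⟨t, ht⟩ := exists_order_p_psu hF₀ hn p hd
      exact suCore_of_simple p hp.out hsimple t ht
    · have hdet : (((g₀ ^ (q₀ + 1) : ↥(Cfsg.GU n F₀ q₀)) : GL (Fin n) F₀) :
          Matrix (Fin n) (Fin n) F₀).det = 1 := by
        have h1 := det_mem_normOne hF₀ g₀
        rw [mem_normOne_iff, Matrix.GeneralLinearGroup.val_det_apply] at h1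
        rw [SubgroupClass.coe_pow, Units.val_pow_eq_pow_val, Matrix.det_pow]
        exact h1
      set s₂ : ↥(Cfsg.SU n F₀ q₀) :=
        ⟨⟨(((g₀ ^ (q₀ + 1) : ↥(Cfsg.GU n F₀ q₀)) : GL (Fin n) F₀) : Matrix (Fin n) (Fin n) F₀), hdet⟩,
          fun u v => (g₀ ^ (q₀ + 1) : ↥(Cfsg.GU n F₀ q₀)).2 u v⟩ with hs₂
      have hκ : kapU hF hF₀ j hjq s₂ = (y : MulAut (Cfsg.PSU n F q)) ^ (q₀ + 1) := by
        rw [kapU_apply, ← hg₀, ← map_pow]
        congr 1
        apply Subtype.ext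
        apply Units.ext
        rfl
      have hcop : (orderOf (y : MulAut (Cfsg.PSU n F q))).Coprime (q₀ + 1) := by
        rw [hyord]
        exact (Nat.Prime.coprime_iff_not_dvd hp.out).mpr hd
      have hκord : orderOf (kapU hF hF₀ j hjq s₂) = p := by
        rw [hκ, hcop.orderOf_pow, hyord]
      refine suCore_of_simple p hp.out hsimple (mkU n F₀ q₀ s₂) ?_
      apply orderOf_eq_prime
      · rw [← map_pow, mkU_eq_one_iff]
        apply kapU_eq_one hF hF₀ j hjq hn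
        rw [map_pow, ← hκord, pow_orderOf_eq_one]
      · intro h
        rw [mkU_eq_one_iff] at h
        have := kapU_of_center hF hF₀ j hjq hn s₂ h
        rw [this, orderOf_one] at hκord
        exact hp.out.one_lt.ne hκord

set_option maxHeartbeats 1600000 in
/-- `O_{p'}` of the centraliser of a standard field automorphism of odd prime order `p`. -/
theorem core_field_psu_std (hn : 3 ≤ n) (hs : ¬ (n = 3 ∧ q = 2)) (τ : RingAut F)
    (hj : ∀ x, (∃ y, j y = x) ↔ τ x = x)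
    (hinj : Function.Injective (MulAut.conj : Cfsg.PSU n F q →* MulAut (Cfsg.PSU n F q)))
    (p : ℕ) [hp : Fact p.Prime] (hp2 : p ≠ 2) (hord : orderOf τ = p)
    (A : Subgroup (MulAut (Cfsg.PSU n F q)))
    (hInnA : Cfsg.Inn (Cfsg.PSU n F q) ≤ A) :
    Cfsg.pPrimeCore p ↥(A ⊓ Subgroup.centralizer {fieldUHom n F q τ}) ≠ ⊥ ↔
      Nat.Coprime p (Nat.card ↥(MonoidHom.eqLocus (fieldUHom n F q τ).toMonoidHom
        (MonoidHom.id (Cfsg.PSU n F q)))) := by
  classical
  obtain ⟨σ₀, hσ₀⟩ := exists_bar hF₀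
  set φ := fieldUHom n F q τ with hφ
  have hInnN : (Cfsg.Inn (Cfsg.PSU n F q)).Normal := inn_normal'
  rw [← card_inn_inf_centralizer hinj φ, pPrimeCore_ne_bot_iff]
  constructor
  · rintro ⟨N, hN1, hN2, hN3⟩
    by_contra hcop
    have hpd : p ∣ Nat.card ↥(Cfsg.Inn (Cfsg.PSU n F q) ⊓ Subgroup.centralizer {φ}) := by
      by_contra hnd
      exact hcop ((Nat.Prime.coprime_iff_not_dvd hp.out).mpr hnd)
    have hP := suCore_of_dvd hF hF₀ j hjq hn τ hj p hp2 hpd
    set N' : Subgroup (MulAut (Cfsg.PSU n F q)) :=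
      N.map (A ⊓ Subgroup.centralizer {φ}).subtype with hN'
    have hN'le : N' ≤ A ⊓ Subgroup.centralizer {φ} := by
      rintro _ ⟨y, -, rfl⟩
      exact y.2
    have hN'norm : ∀ c ∈ A ⊓ Subgroup.centralizer {φ}, ∀ y ∈ N', c * y * c⁻¹ ∈ N' := by
      rintro c hc' _ ⟨y, hy', rfl⟩
      exact ⟨⟨c, hc'⟩ * y * ⟨c, hc'⟩⁻¹, hN1.conj_mem y hy' ⟨c, hc'⟩, rfl⟩
    have hN'card : (Nat.card N').Coprime p := by
      rw [hN', Subgroup.card_map_of_injective (Subgroup.subtype_injective _)]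
      exact hN2
    have hbot : N' = ⊥ := field_core_psu hF hF₀ j hjq hn hs τ hj hinj p hp.out hord hP A N' hInnA
      hN'le hN'norm hN'card
    apply hN3
    rw [eq_bot_iff]
    intro y hy'
    have h1 : (A ⊓ Subgroup.centralizer {φ}).subtype y ∈ N' := ⟨y, hy', rfl⟩
    rw [hbot, Subgroup.mem_bot] at h1
    rw [Subgroup.mem_bot]
    exact Subtype.ext h1
  · intro hcop
    have hle : Cfsg.Inn (Cfsg.PSU n F q) ⊓ Subgroup.centralizer {φ} ≤
        A ⊓ Subgroup.centralizer {φ} := inf_le_inf_right _ hInnA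
    refine ⟨(Cfsg.Inn (Cfsg.PSU n F q) ⊓ Subgroup.centralizer {φ}).subgroupOf
      (A ⊓ Subgroup.centralizer {φ}), ?_, ?_, ?_⟩
    · constructor
      intro y hy' c
      rw [Subgroup.mem_subgroupOf] at hy' ⊢
      refine ⟨?_, ?_⟩
      · exact hInnN.conj_mem _ hy'.1 _
      · exact (Subgroup.centralizer {φ}).mul_mem ((Subgroup.centralizer {φ}).mul_mem c.2.2 hy'.2)
          ((Subgroup.centralizer {φ}).inv_mem c.2.2)
    · rw [Nat.card_congr (Subgroup.subgroupOfEquivOfLe hle).toEquiv]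
      exact hcop.symm
    · -- non-triviality
      obtain ⟨a₀, ha₀0, ha₀⟩ := exists_skew hF₀ σ₀ hσ₀
      obtain ⟨μ₀, hμ₀, -⟩ := exists_mu hF₀ σ₀ hσ₀
      set i : Fin n := ⟨0, by omega⟩ with hi
      set k : Fin n := ⟨1, by omega⟩ with hk
      have hik : i ≠ k := by
        rw [hi, hk]; intro h; simp [Fin.ext_iff] at h
      set s : ↥(Cfsg.SU n F₀ q₀) :=
        tvSU hF₀ σ₀ hσ₀ (isoV i k μ₀) a₀ (isoV_iso σ₀ i k hik μ₀ hμ₀) ha₀ with hs'
      have hmem := kapU_mem hF hF₀ j hjq hn τ hj s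
      intro hbot
      have h1 : (⟨_, hle hmem⟩ : ↥(A ⊓ Subgroup.centralizer {φ})) ∈
          (Cfsg.Inn (Cfsg.PSU n F q) ⊓ Subgroup.centralizer {φ}).subgroupOf
            (A ⊓ Subgroup.centralizer {φ}) := by
        rw [Subgroup.mem_subgroupOf]; exact hmem
      rw [hbot, Subgroup.mem_bot] at h1
      have h3 : kapU hF hF₀ j hjq s = 1 := congrArg Subtype.val h1
      have h4 := kapU_eq_one hF hF₀ j hjq hn s h3
      obtain ⟨d, hd⟩ := center_SU_scalar hF₀ hn s h4
      rw [hs', tvSU_val] at hd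
      -- the transvection is not scalar
      obtain ⟨k', hk'i, hk'k⟩ := exists_third hn i k
      have e1 := congrFun (congrFun hd k') k'
      have e2 := congrFun (congrFun hd i) i
      unfold tvM at e1 e2
      rw [Matrix.add_apply, Matrix.smul_apply, Matrix.smul_apply, Matrix.vecMulVec_apply,
        Matrix.one_apply_eq, isoV_apply, if_neg hk'i, if_neg hk'k] at e1
      rw [Matrix.add_apply, Matrix.smul_apply, Matrix.smul_apply, Matrix.vecMulVec_apply,
        Matrix.one_apply_eq, isoV_apply, if_pos rfl, if_neg hik, Function.comp_apply, isoV_apply,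
        if_pos rfl, if_neg hik] at e2
      simp only [smul_eq_mul, mul_zero, add_zero, zero_mul, mul_one, map_one] at e1 e2
      apply ha₀0
      rw [← e1] at e2
      linear_combination e2

end fin

end Cfsg.Agent.Lib.Helper16.LU
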