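import Mathlib
import Cfsg.Agent.Lib.Helper16.LU7

set_option autoImplicit false
set_option linter.unusedSectionVars false
set_option linter.unusedVariables false

/-! `O_{p'}` of the centraliser of an automorphism `Φ(g) φ_τ` of odd prime order of `PSU_n`. -/

namespace Cfsg.Agent.Lib.Helper16.LU

open Matrix Cfsg.Agent.Lib.Helper16 Cfsg.Agent.Lib.Helper16.PU Cfsg.Agent.Lib.Helper16.UA
  Cfsg.Agent.Lib.Helper16.PG Cfsg.Agent.Lib.Helper16.UF Cfsg.Agent.Lib.Helper16.LC
  Cfsg.Agent.Lib.Helper16.OL Cfsg.Agent.Lib.Helper16.H9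

universe u

section fin
variable {n : ℕ} {F : Type u} [Field F] {q : ℕ} [Fintype F] (hF : Fintype.card F = q ^ 2)
include hF

/-- the fixed field of an automorphism of odd prime order has square order `q₀²` with `q₀ ^ p = q`. -/
theorem exists_fixed_data (τ : RingAut F) (p : ℕ) (hp : p.Prime) (hp2 : p ≠ 2) (hord : orderOf τ = p) :
    ∃ q₀ : ℕ, Nat.card (FixedPoints.subfield (Subgroup.zpowers (τ : F ≃+* F)) F) = q₀ ^ 2 ∧
      q = q₀ ^ p := by
  classical
  obtain ⟨r, b, hr, hchar, hq⟩ := exists_char_pow hF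
  set S := FixedPoints.subfield (Subgroup.zpowers (τ : F ≃+* F)) F with hS
  have hfo : IsOfFinOrder (τ : F ≃+* F) := orderOf_pos_iff.mp (by
    have : orderOf (τ : F ≃+* F) = p := hord
    rw [this]; exact hp.pos)
  have hfinZ : Finite (Subgroup.zpowers (τ : F ≃+* F)) := Set.finite_coe_iff.mpr hfo.finite_zpowers
  let _ : Fintype (Subgroup.zpowers (τ : F ≃+* F)) := Fintype.ofFinite _
  have h1 := FixedPoints.finrank_eq_card (Subgroup.zpowers (τ : F ≃+* F)) F
  have h2 : Fintype.card (Subgroup.zpowers (τ : F ≃+* F)) = p := by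
    rw [← Nat.card_eq_fintype_card, Nat.card_zpowers]
    exact hord
  rw [h2] at h1
  let _ : Fintype S := Fintype.ofFinite _
  have h3 := Module.card_eq_pow_finrank (K := S) (V := F)
  rw [h1, hF, hq] at h3
  have h4 : Fintype.card S ∣ r ^ (b * 2) := by
    rw [← pow_mul] at h3
    rw [h3]
    exact dvd_pow_self _ hp.ne_zero
  obtain ⟨m, -, hm⟩ := (Nat.dvd_prime_pow hr).mp h4
  rw [hm, ← pow_mul, ← pow_mul] at h3
  have h5 : b * 2 = m * p := Nat.pow_right_injective hr.two_le h3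
  have hodd : Odd p := hp.odd_of_ne_two hp2
  have h6 : 2 ∣ m := by
    have : 2 ∣ m * p := ⟨b, by omega⟩
    rcases (Nat.Prime.dvd_mul Nat.prime_two).mp this with h | h
    · exact h
    · exfalso
      have := (Nat.prime_dvd_prime_iff_eq Nat.prime_two hp).mp h
      exact hp2 this.symm
  obtain ⟨c, hc⟩ := h6
  refine ⟨r ^ c, ?_, ?_⟩
  · rw [Nat.card_eq_fintype_card, hm, hc, ← pow_mul]
    congr 1
    ring
  · rw [hq, ← pow_mul]
    congr 1
    rw [hc] at h5
    have : b * 2 = (c * p) * 2 := by rw [h5]; ring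
    omega

set_option maxHeartbeats 1600000 in
/-- `O_{p'}` of the centraliser of an automorphism `Φ(g) φ_τ` of odd prime order `p`. -/
theorem core_field_psu (hn : 3 ≤ n) (hs : ¬ (n = 3 ∧ q = 2)) (τ : RingAut F) (hτ : τ ≠ 1)
    (g : ↥(simU n F q))
    (hinj : Function.Injective (MulAut.conj : Cfsg.PSU n F q →* MulAut (Cfsg.PSU n F q)))
    (p : ℕ) [hp : Fact p.Prime] (hp2 : p ≠ 2)
    (hord : orderOf (PhiU n F q g * fieldUHom n F q τ) = p)
    (A : Subgroup (MulAut (Cfsg.PSU n F q)))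
    (hInnA : Cfsg.Inn (Cfsg.PSU n F q) ≤ A) :
    Cfsg.pPrimeCore p ↥(A ⊓ Subgroup.centralizer {PhiU n F q g * fieldUHom n F q τ}) ≠ ⊥ ↔
      Nat.Coprime p (Nat.card ↥(MonoidHom.eqLocus (PhiU n F q g * fieldUHom n F q τ).toMonoidHom
        (MonoidHom.id (Cfsg.PSU n F q)))) := by
  classical
  have hpow : (PhiU n F q g * fieldUHom n F q τ) ^ p = 1 := by rw [← hord]; exact pow_orderOf_eq_one _
  have hτp : τ ^ p = 1 := by
    have h1 := hpow
    have e : (⟨g.1, g.2⟩ : ↥(simU n F q)) = g := rfl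
    rw [← e, pow_PhiU_fieldU] at h1
    have h2 : fieldU n q ((τ ^ p : RingAut F) : F ≃+* F) =
        PhiU n F q (⟨tw τ g.1 p, tw_mem_simU τ g.1 g.2 p⟩)⁻¹ := by
      rw [map_inv]
      exact eq_inv_of_mul_eq_one_right h1
    exact fieldU_eq_PhiU hF hn _ _ h2
  have hτord : orderOf τ = p := orderOf_eq_prime hτp hτ
  have hodd : Odd p := hp.out.odd_of_ne_two hp2
  obtain ⟨h, hh⟩ := field_conjU hF hn τ p hτord hp.out.pos hodd g hpow
  rw [hh, core_conj_transport, card_eqLocus_conj]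
  -- the fixed field
  obtain ⟨q₀, hcard, hqq⟩ := exists_fixed_data hF τ p hp.out hp2 hτord
  set S := FixedPoints.subfield (Subgroup.zpowers (τ : F ≃+* F)) F with hS
  let _ : Fintype S := Fintype.ofFinite _
  have hF₀ : Fintype.card S = q₀ ^ 2 := by rw [← Nat.card_eq_fintype_card]; exact hcard
  have hjq : ∀ y : S, S.subtype (y ^ q₀) = (S.subtype y) ^ q := by
    intro y
    rw [map_pow, hqq]
    have hz : (S.subtype y) ^ (q₀ ^ 2) = S.subtype y := by
      rw [← map_pow, ← hF₀, FiniteField.pow_card]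
    exact (pow_pow_odd hz hodd).symm
  have hj : ∀ x, (∃ y : S, S.subtype y = x) ↔ τ x = x := by
    intro x
    constructor
    · rintro ⟨y, rfl⟩
      exact (mem_fixed_iff (τ : F ≃+* F) y).mp y.2
    · intro hx
      exact ⟨⟨x, (mem_fixed_iff (τ : F ≃+* F) x).mpr hx⟩, rfl⟩
  exact core_field_psu_std hF hF₀ S.subtype hjq hn hs τ hj hinj p hp2 hτord _
    (inn_le_map_conj _ A hInnA)

end fin

end Cfsg.Agent.Lib.Helper16.LU
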