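import Mathlib
import Cfsg.Agent.Lib.Helper16.LC7
import Cfsg.Agent.Lib.Helper16.LU8

set_option autoImplicit false
set_option linter.unusedSectionVars false
set_option linter.unusedVariables false

/-! Odd-order subgroups in the image of an orthogonal group, normalised by the rotations. -/

namespace Cfsg.Agent.Lib.Helper16.LU

open Matrix Module Cfsg.Agent.Lib.Helper16 Cfsg.Agent.Lib.Helper16.AP Cfsg.Agent.Lib.Helper16.PG
  Cfsg.Agent.Lib.Helper16.AF Cfsg.Agent.Lib.Helper16.OB Cfsg.Agent.Lib.Helper16.SpSemi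
  Cfsg.Agent.Lib.Helper16.LC

universe u w

section
variable {n : ℕ} {E : Type u} [Field E] [Fintype E] {𝔄 : Type w} [Group 𝔄]

set_option maxHeartbeats 4000000 in
/-- **Abstract orthogonal core.** An odd-order subgroup of the image of the isometry group of a
non-degenerate symmetric form in at least three variables, normalised by the images of the special
isometries, is trivial, provided the kernel consists of central involutions. -/
theorem orth_abstract_core (hn : 3 ≤ n) (h2 : (2 : E) ≠ 0) (M₀ : Matrix (Fin n) (Fin n) E)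
    (hMs : M₀ᵀ = M₀) (hMdet : M₀.det ≠ 0)
    (π : ↥(Cfsg.isometryGroup E (fun v => gramQ M₀ v)) →* 𝔄)
    (hker : ∀ z ∈ π.ker, z * z = 1 ∧ ∀ T, T * z = z * T)
    (N₁ : Subgroup 𝔄) [Finite N₁] (hodd : Odd (Nat.card N₁)) (hNrange : N₁ ≤ π.range)
    (hnorm : ∀ T : ↥(Cfsg.isometryGroup E (fun v => gramQ M₀ v)),
      isoDet (fun v => gramQ M₀ v) T = 1 → ∀ y ∈ N₁, π T * y * (π T)⁻¹ ∈ N₁) : N₁ = ⊥ := by
  classical
  have hMunit : IsUnit M₀ := (Matrix.isUnit_iff_isUnit_det _).mpr (isUnit_iff_ne_zero.mpr hMdet)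
  have hQ : (QuadraticMap.polarBilin (gramQ M₀)).Nondegenerate := gramQ_nondeg h2 M₀ hMs hMunit
  have hImat : ∀ T : ↥(Cfsg.isometryGroup E (fun v => gramQ M₀ v)), ((T : GL (Fin n) E) : Matrix (Fin n) (Fin n) E)ᵀ * M₀ *
      ((T : GL (Fin n) E) : Matrix (Fin n) (Fin n) E) = M₀ := fun T => iso_mat h2 M₀ hMs T.1 T.2
  set k := Nat.card N₁ with hk
  have hfinI : Finite ↥(Cfsg.isometryGroup E (fun v => gramQ M₀ v)) := inferInstance
  obtain ⟨H₀, hcard₀, hmap, hchar⟩ := odd_lift π hker N₁ hodd hNrange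
  set Φ' : ↥(Cfsg.isometryGroup E (fun v => gramQ M₀ v)) →* ((Fin n → E) ≃ₗ[E] (Fin n → E)) :=
    (glLin (ι := Fin n) (F := E)).toMonoidHom.comp (Cfsg.isometryGroup E (fun v => gramQ M₀ v)).subtype with hΦ'
  have hΦ'app : ∀ T : ↥(Cfsg.isometryGroup E (fun v => gramQ M₀ v)), Φ' T = glLin (T : GL (Fin n) E) := fun T => rfl
  have hΦinj : Function.Injective Φ' := fun a b hab => Subtype.ext (glLin.injective hab)
  set H : Subgroup ((Fin n → E) ≃ₗ[E] (Fin n → E)) := H₀.map Φ' with hH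
  have hHcard : Nat.card H = k := by rw [hH, Subgroup.card_map_of_injective hΦinj, hcard₀]
  have hkpos : 0 < k := Nat.card_pos
  have hHfin : Finite H := Nat.finite_of_card_ne_zero (by rw [hHcard]; omega)
  have hHodd : Odd (Nat.card H) := by rw [hHcard]; exact hodd
  -- determinants
  have hdetsq : ∀ T : ↥(Cfsg.isometryGroup E (fun v => gramQ M₀ v)), isoDet (fun v => gramQ M₀ v) T * isoDet (fun v => gramQ M₀ v) T = 1 := by
    intro T
    apply Units.ext
    rw [Units.val_mul, isoDet_coe, Units.val_one]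
    exact det_sq_of_mat M₀ hMdet _ (hImat T)
  set S : Subgroup ((Fin n → E) ≃ₗ[E] (Fin n → E)) := (isoDet (fun v => gramQ M₀ v)).ker.map Φ' with hS
  have hfr : finrank E (Fin n → E) = n := by rw [Module.finrank_fintype_fun_eq_card, Fintype.card_fin]
  have hHbot : H = ⊥ := by
    apply so_core (gramQ M₀) h2 hQ (by rw [hfr]; exact hn) S H hHodd
    · rintro _ ⟨T, -, rfl⟩ v
      rw [hΦ'app, glLin_apply]
      exact iso_pres (fun v => gramQ M₀ v) T v
    · intro a b ha hb
      refine ⟨reflG (gramQ M₀) a ha * reflG (gramQ M₀) b hb, ?_, ?_⟩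
      · rw [SetLike.mem_coe, MonoidHom.mem_ker, map_mul, isoDet_reflG, isoDet_reflG]
        simp
      · rw [map_mul, hΦ'app, hΦ'app, glLin_reflG, glLin_reflG]
    · rintro a ha _ ⟨T, hT, rfl⟩
      refine ⟨reflG (gramQ M₀) a ha * T * (reflG (gramQ M₀) a ha)⁻¹, ?_, ?_⟩
      · exact (MonoidHom.normal_ker _).conj_mem T hT _
      · rw [map_mul, map_mul, map_inv, hΦ'app (reflG (gramQ M₀) a ha), glLin_reflG]
    · rintro _ ⟨T, hT, rfl⟩
      refine ⟨T, ?_, rfl⟩
      rw [SetLike.mem_coe, MonoidHom.mem_ker]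
      have hT' := (hchar T).mp hT
      have h1 : (isoDet (fun v => gramQ M₀ v) T) ^ k = 1 := by rw [← map_pow, hT'.2, map_one]
      obtain ⟨j, hj⟩ := hodd
      have h3 : (isoDet (fun v => gramQ M₀ v) T) ^ (2 * j) = 1 := by
        rw [pow_mul, pow_two, hdetsq, one_pow]
      rw [hj, pow_succ, h3, one_mul] at h1
      exact h1
    · rintro _ ⟨Ts, hTs, rfl⟩ _ ⟨T, hT, rfl⟩
      refine ⟨Ts * T * Ts⁻¹, ?_, ?_⟩
      · rw [SetLike.mem_coe, hchar]
        have hT' := (hchar T).mp hT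
        refine ⟨?_, ?_⟩
        · rw [map_mul, map_mul, map_inv]
          rw [SetLike.mem_coe, MonoidHom.mem_ker] at hTs
          exact hnorm Ts hTs _ hT'.1
        · rw [conj_pow, hT'.2, mul_one, mul_inv_cancel]
      · rw [map_mul, map_mul, map_inv]
  have hH₀bot : H₀ = ⊥ := (Subgroup.map_eq_bot_iff_of_injective H₀ hΦinj).mp hHbot
  rw [← hmap, hH₀bot, Subgroup.map_bot]

end

end Cfsg.Agent.Lib.Helper16.LU
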