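import Mathlib
import Cfsg.Agent.Lib.Helper16.LU9

set_option autoImplicit false
set_option linter.unusedSectionVars false
set_option linter.unusedVariables false

/-! The automorphisms of `PSU_n(F)` induced by the similitudes of the `F₀`-form of a graph involution. -/

namespace Cfsg.Agent.Lib.Helper16.LU

open Matrix Cfsg.Agent.Lib.Helper16 Cfsg.Agent.Lib.Helper16.PU Cfsg.Agent.Lib.Helper16.UA
  Cfsg.Agent.Lib.Helper16.PG Cfsg.Agent.Lib.Helper16.UF Cfsg.Agent.Lib.Helper16.LC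

universe u w

section
variable {n : ℕ} {F : Type u} [Field F] {q : ℕ} {F₀ : Type w} [Field F₀] [Algebra F₀ F]

theorem conjK_val (k : GL (Fin n) F) (y : GL (Fin n) F₀) :
    ((conjK k y : GL (Fin n) F) : Matrix (Fin n) (Fin n) F) =
      (k : Matrix (Fin n) (Fin n) F) * (y : Matrix (Fin n) (Fin n) F₀).map (algebraMap F₀ F) *
        ((k⁻¹ : GL (Fin n) F) : Matrix (Fin n) (Fin n) F) := by
  rw [conjK_apply, Units.val_mul, Units.val_mul, mapI_val]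

theorem conjK_det (k : GL (Fin n) F) (y : GL (Fin n) F₀) :
    ((conjK k y : GL (Fin n) F) : Matrix (Fin n) (Fin n) F).det =
      algebraMap F₀ F (y : Matrix (Fin n) (Fin n) F₀).det := by
  rw [conjK_val]
  have h1 := Matrix.det_units_conj k ((y : Matrix (Fin n) (Fin n) F₀).map (algebraMap F₀ F))
  rw [h1]
  exact (RingHom.map_det (algebraMap F₀ F) _).symm

/-- the conjugated base change of an isometry of the `F₀`-form is unitary. -/
theorem conjK_mem_GU [Fintype F₀] (hF₀ : Fintype.card F₀ = q) (σ : F ≃+* F) (hσ : ∀ a, σ a = a ^ q)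
    (k : GL (Fin n) F) (M₀ : Matrix (Fin n) (Fin n) F₀) (e : F) (he : e ≠ 0)
    (hM : (k : Matrix (Fin n) (Fin n) F)ᵀ * (k : Matrix (Fin n) (Fin n) F).map ⇑σ =
      e • M₀.map (algebraMap F₀ F))
    (y : GL (Fin n) F₀)
    (hy : (y : Matrix (Fin n) (Fin n) F₀)ᵀ * M₀ * (y : Matrix (Fin n) (Fin n) F₀) = M₀) :
    conjK k y ∈ Cfsg.GU n F q := by
  rw [mem_GU_iff_mat σ hσ]
  set K := (k : Matrix (Fin n) (Fin n) F) with hK
  set Ki := ((k⁻¹ : GL (Fin n) F) : Matrix (Fin n) (Fin n) F) with hKi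
  set Yt := (y : Matrix (Fin n) (Fin n) F₀).map (algebraMap F₀ F) with hYt
  set Mt := M₀.map (algebraMap F₀ F) with hMt
  have h1 : Ytᵀ * Mt * Yt = Mt := by
    have := congrArg (fun M : Matrix (Fin n) (Fin n) F₀ => M.map (algebraMap F₀ F)) hy
    simp only [Matrix.map_mul, Matrix.transpose_map] at this
    exact this
  have hval : ((conjK k y : GL (Fin n) F) : Matrix (Fin n) (Fin n) F) = K * Yt * Ki := conjK_val k y
  rw [hval, Matrix.map_mul, Matrix.map_mul, mapI_bar hF₀ σ hσ, Matrix.transpose_mul, Matrix.transpose_mul]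
  have h2 : Kiᵀ * Kᵀ = 1 := by rw [← Matrix.transpose_mul, gl_mul_inv, Matrix.transpose_one]
  calc Kiᵀ * (Ytᵀ * Kᵀ) * (K.map ⇑σ * Yt * Ki.map ⇑σ)
      = Kiᵀ * (Ytᵀ * (Kᵀ * K.map ⇑σ) * Yt) * Ki.map ⇑σ := by simp only [Matrix.mul_assoc]
    _ = Kiᵀ * (e • (Ytᵀ * Mt * Yt)) * Ki.map ⇑σ := by
        rw [hM, Matrix.mul_smul, Matrix.smul_mul]
    _ = Kiᵀ * (Kᵀ * K.map ⇑σ) * Ki.map ⇑σ := by rw [h1, hM]
    _ = 1 := by
        rw [← Matrix.mul_assoc, h2, Matrix.one_mul, PU.map_mul_inv]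

end

section fin
variable {n : ℕ} {F : Type u} [Field F] {q : ℕ} {F₀ : Type w} [Field F₀] [Algebra F₀ F]
variable [Fintype F] [Fintype F₀] (hF : Fintype.card F = q ^ 2) (hF₀ : Fintype.card F₀ = q)
  (σ : F ≃+* F) (hσ : ∀ a, σ a = a ^ q)
  (k : GL (Fin n) F) (M₀ : Matrix (Fin n) (Fin n) F₀) (e : F) (he : e ≠ 0)
  (hM : (k : Matrix (Fin n) (Fin n) F)ᵀ * (k : Matrix (Fin n) (Fin n) F).map ⇑σ =
      e • M₀.map (algebraMap F₀ F))
include hF hF₀ hσ he hM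

/-- the automorphisms of `PSU_n(F)` induced by the similitudes of the `F₀`-form. -/
noncomputable def ThS : ↥(Cfsg.Geo.similarityGroup (bilM M₀)) →* MulAut (Cfsg.PSU n F q) :=
  (PhiU n F q).comp (((conjK k).comp (Cfsg.Geo.similarityGroup (bilM M₀)).subtype).codRestrict
    (simU n F q) (fun y => conjK_mem_simU hF₀ σ hσ k M₀ e he hM y.1 y.2))

omit hF [Fintype F] in
theorem ThS_apply (y : ↥(Cfsg.Geo.similarityGroup (bilM M₀))) :
    ThS hF₀ σ hσ k M₀ e he hM y =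
      PhiU n F q ⟨conjK k y.1, conjK_mem_simU hF₀ σ hσ k M₀ e he hM y.1 y.2⟩ := rfl

theorem ThS_comm (hn : 3 ≤ n) (X : ↥(simU n F q))
    (hk : (X.1 : Matrix (Fin n) (Fin n) F) * (k : Matrix (Fin n) (Fin n) F).map ⇑σ = k)
    (y : ↥(Cfsg.Geo.similarityGroup (bilM M₀))) :
    ThS hF₀ σ hσ k M₀ e he hM y ∈ Subgroup.centralizer {PhiU n F q X * fieldU n q σ} := by
  rw [Subgroup.mem_centralizer_iff]
  intro g hg
  rw [Set.mem_singleton_iff] at hg
  subst hg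
  symm
  rw [ThS_apply, comm_graphU_iff hF hn]
  refine ⟨1, ?_⟩
  rw [Units.val_one, one_smul]
  exact conjK_comm hF₀ σ hσ X.1 k hk y.1

theorem ThS_eq_one_iff (hn : 3 ≤ n) (y : ↥(Cfsg.Geo.similarityGroup (bilM M₀))) :
    ThS hF₀ σ hσ k M₀ e he hM y = 1 ↔ y.1 ∈ Cfsg.Geo.scalars (Fin n) F₀ := by
  rw [ThS_apply, PhiU_eq_one_iff hF hn]
  exact conjK_scalar_iff k y.1

theorem M₀_ne_zero (hn : 1 ≤ n) : M₀ ≠ 0 := by
  rintro rfl
  have h1 : (k : Matrix (Fin n) (Fin n) F)ᵀ * (k : Matrix (Fin n) (Fin n) F).map ⇑σ = 0 := by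
    rw [hM]
    ext i j
    simp
  have h2 : ((k⁻¹ : GL (Fin n) F) : Matrix (Fin n) (Fin n) F)ᵀ * ((k : Matrix (Fin n) (Fin n) F)ᵀ *
      (k : Matrix (Fin n) (Fin n) F).map ⇑σ) * ((k⁻¹ : GL (Fin n) F) : Matrix (Fin n) (Fin n) F).map ⇑σ = 0 := by
    rw [h1, Matrix.mul_zero, Matrix.zero_mul]
  rw [← Matrix.mul_assoc, ← Matrix.transpose_mul, gl_mul_inv, Matrix.transpose_one, Matrix.one_mul,
    PU.map_mul_inv] at h2
  have : Nonempty (Fin n) := ⟨⟨0, by omega⟩⟩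
  exact one_ne_zero h2

/-- every inner-diagonal automorphism commuting with the graph involution is induced by a similitude
of the `F₀`-form. -/
theorem ThS_surj (hn : 3 ≤ n) (X : ↥(simU n F q))
    (hk : (X.1 : Matrix (Fin n) (Fin n) F) * (k : Matrix (Fin n) (Fin n) F).map ⇑σ = k)
    (Y : ↥(simU n F q))
    (hY : PhiU n F q Y ∈ Subgroup.centralizer {PhiU n F q X * fieldU n q σ}) :
    ∃ y : ↥(Cfsg.Geo.similarityGroup (bilM M₀)), ThS hF₀ σ hσ k M₀ e he hM y = PhiU n F q Y := by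
  rw [Subgroup.mem_centralizer_iff] at hY
  have h1 := (hY _ (Set.mem_singleton _)).symm
  rw [comm_graphU_iff hF hn] at h1
  obtain ⟨c, hc⟩ := h1
  obtain ⟨y, d, hyS, hyd⟩ := descend_comm hF hF₀ σ hσ X.1 k hk M₀ e he hM
    (M₀_ne_zero hF hF₀ σ hσ k M₀ e he hM (by omega)) Y.1 Y.2 c hc
  refine ⟨⟨y, hyS⟩, ?_⟩
  rw [ThS_apply]
  symm
  rw [PhiU_eq_iff hF hn]
  exact ⟨d, hyd⟩

/-- special isometries of the `F₀`-form induce inner automorphisms. -/
theorem ThS_inn (y : ↥(Cfsg.Geo.similarityGroup (bilM M₀)))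
    (hy : (y.1 : Matrix (Fin n) (Fin n) F₀)ᵀ * M₀ * (y.1 : Matrix (Fin n) (Fin n) F₀) = M₀)
    (hdet : (y.1 : Matrix (Fin n) (Fin n) F₀).det = 1) :
    ThS hF₀ σ hσ k M₀ e he hM y ∈ Cfsg.Inn (Cfsg.PSU n F q) := by
  have hGU := conjK_mem_GU hF₀ σ hσ k M₀ e he hM y.1 hy
  have hd : ((conjK k y.1 : GL (Fin n) F) : Matrix (Fin n) (Fin n) F).det = 1 := by
    rw [conjK_det, hdet, map_one]
  set s : ↥(Cfsg.SU n F q) :=
    ⟨⟨((conjK k y.1 : GL (Fin n) F) : Matrix (Fin n) (Fin n) F), hd⟩, fun u v => hGU u v⟩ with hs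
  refine ⟨mkU n F q s, ?_⟩
  rw [ThS_apply]
  have : MulAut.conj (mkU n F q s) = PhiU n F q ⟨suGL s, suGL_mem s⟩ := conj_mkU_eq_PhiU s
  show MulAut.conj (mkU n F q s) = _
  rw [this]
  congr 1
  apply Subtype.ext
  apply Units.ext
  rfl

end fin

end Cfsg.Agent.Lib.Helper16.LU
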