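import Mathlib
import Cfsg.Agent.Lib.Helper16.LU10

set_option autoImplicit false
set_option linter.unusedSectionVars false
set_option linter.unusedVariables false

/-! Orthogonal-type graph involutions of `PSU_n`: the linear part of the core. -/

namespace Cfsg.Agent.Lib.Helper16.LU

open Matrix Cfsg.Agent.Lib.Helper16 Cfsg.Agent.Lib.Helper16.PU Cfsg.Agent.Lib.Helper16.UA
  Cfsg.Agent.Lib.Helper16.PG Cfsg.Agent.Lib.Helper16.UF Cfsg.Agent.Lib.Helper16.LC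
  Cfsg.Agent.Lib.Helper16.OB Cfsg.Agent.Lib.Helper16.SpSemi

universe u w

section fin
variable {n : ℕ} {F : Type u} [Field F] {q : ℕ} {F₀ : Type w} [Field F₀] [Algebra F₀ F]
variable [Fintype F] [Fintype F₀] (hF : Fintype.card F = q ^ 2) (hF₀ : Fintype.card F₀ = q)
  (σ : F ≃+* F) (hσ : ∀ a, σ a = a ^ q)
  (k : GL (Fin n) F) (M₀ : Matrix (Fin n) (Fin n) F₀) (e : F) (he : e ≠ 0)
  (hM : (k : Matrix (Fin n) (Fin n) F)ᵀ * (k : Matrix (Fin n) (Fin n) F).map ⇑σ =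
      e • M₀.map (algebraMap F₀ F))
include hF hF₀ hσ he hM

omit hF [Fintype F] [Algebra F₀ F] [Fintype F₀] hF₀ hσ he hM in
theorem scalGL_mem_sim (c : F₀ˣ) : scalGL n c ∈ Cfsg.Geo.similarityGroup (bilM M₀) := by
  rw [mem_simM_iff]
  refine ⟨c * c, ?_⟩
  rw [scalGL_val, Matrix.transpose_smul, Matrix.transpose_one, Matrix.smul_mul, Matrix.one_mul,
    Matrix.mul_smul, Matrix.mul_one, smul_smul, Units.val_mul]

set_option maxHeartbeats 4000000 in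
/-- **Orthogonal type, linear part.** -/
theorem orth_lin_core_psu (hn : 3 ≤ n) (h2 : (2 : F₀) ≠ 0) (X : ↥(simU n F q))
    (hk : (X.1 : Matrix (Fin n) (Fin n) F) * (k : Matrix (Fin n) (Fin n) F).map ⇑σ = k)
    (hMs : M₀ᵀ = M₀) (hMdet : M₀.det ≠ 0)
    (N₁ : Subgroup (MulAut (Cfsg.PSU n F q))) [Finite N₁] (hodd : Odd (Nat.card N₁))
    (hNr : N₁ ≤ (PhiU n F q).range)
    (hNc : N₁ ≤ Subgroup.centralizer {PhiU n F q X * fieldU n q σ})
    (hnorm : ∀ c ∈ Cfsg.Inn (Cfsg.PSU n F q) ⊓ Subgroup.centralizer {PhiU n F q X * fieldU n q σ},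
      ∀ y ∈ N₁, c * y * c⁻¹ ∈ N₁) : N₁ = ⊥ := by
  classical
  have hM0 : M₀ ≠ 0 := M₀_ne_zero hF hF₀ σ hσ k M₀ e he hM (by omega)
  have hIS : Cfsg.isometryGroup F₀ (fun v => gramQ M₀ v) ≤ Cfsg.Geo.similarityGroup (bilM M₀) := by
    intro T hT
    rw [mem_simM_iff]
    exact ⟨1, by rw [iso_mat h2 M₀ hMs T hT, Units.val_one, one_smul]⟩
  let π : ↥(Cfsg.isometryGroup F₀ (fun v => gramQ M₀ v)) →* MulAut (Cfsg.PSU n F q) :=
    (ThS hF₀ σ hσ k M₀ e he hM).comp (Subgroup.inclusion hIS)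
  have hπapp : ∀ T : ↥(Cfsg.isometryGroup F₀ (fun v => gramQ M₀ v)),
      π T = ThS hF₀ σ hσ k M₀ e he hM ⟨T.1, hIS T.2⟩ := fun T => rfl
  have hImat : ∀ T : ↥(Cfsg.isometryGroup F₀ (fun v => gramQ M₀ v)),
      ((T : GL (Fin n) F₀) : Matrix (Fin n) (Fin n) F₀)ᵀ * M₀ *
      ((T : GL (Fin n) F₀) : Matrix (Fin n) (Fin n) F₀) = M₀ := fun T => iso_mat h2 M₀ hMs T.1 T.2
  apply orth_abstract_core hn h2 M₀ hMs hMdet π ?_ N₁ hodd ?_ ?_
  · -- the kernel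
    intro z hz
    rw [MonoidHom.mem_ker, hπapp, ThS_eq_one_iff hF hF₀ σ hσ k M₀ e he hM hn,
      Cfsg.Geo.mem_scalars_iff] at hz
    obtain ⟨d, hd⟩ := hz
    have hd' : ((z : GL (Fin n) F₀) : Matrix (Fin n) (Fin n) F₀) = (d : F₀) • 1 := hd
    have h1 := hImat z
    rw [hd', Matrix.transpose_smul, Matrix.transpose_one, Matrix.smul_mul, Matrix.one_mul,
      Matrix.mul_smul, Matrix.mul_one, smul_smul] at h1
    have hdd : (d : F₀) * d = 1 := by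
      by_contra hne
      apply hM0
      have h3 : ((d : F₀) * d - 1) • M₀ = 0 := by rw [sub_smul, h1, one_smul, sub_self]
      rcases smul_eq_zero.mp h3 with h4 | h4
      · exact absurd (sub_eq_zero.mp h4) hne
      · exact h4
    constructor
    · apply Subtype.ext
      apply Units.ext
      show ((z : GL (Fin n) F₀) : Matrix (Fin n) (Fin n) F₀) * ((z : GL (Fin n) F₀) : Matrix (Fin n) (Fin n) F₀) = 1
      rw [hd', Matrix.smul_mul, Matrix.one_mul, smul_smul, hdd, one_smul]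
    · intro T
      apply Subtype.ext
      apply Units.ext
      show ((T : GL (Fin n) F₀) : Matrix (Fin n) (Fin n) F₀) * ((z : GL (Fin n) F₀) : Matrix (Fin n) (Fin n) F₀) =
        ((z : GL (Fin n) F₀) : Matrix (Fin n) (Fin n) F₀) * ((T : GL (Fin n) F₀) : Matrix (Fin n) (Fin n) F₀)
      rw [hd', Matrix.mul_smul, Matrix.mul_one, Matrix.smul_mul, Matrix.one_mul]
  · -- `N₁` is induced by isometries
    intro y hy
    obtain ⟨Y, rfl⟩ := hNr hy
    obtain ⟨y₀, hy₀⟩ := ThS_surj hF hF₀ σ hσ k M₀ e he hM hn X hk Y (hNc hy)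
    obtain ⟨c, hc⟩ := (mem_simM_iff M₀ y₀.1).mp y₀.2
    set sc : ↥(Cfsg.Geo.similarityGroup (bilM M₀)) := ⟨scalGL n c⁻¹, scalGL_mem_sim M₀ c⁻¹⟩ with hsc
    set h₂ : ↥(Cfsg.Geo.similarityGroup (bilM M₀)) := y₀ * y₀ * sc with hh₂
    have hh₂I : h₂.1 ∈ Cfsg.isometryGroup F₀ (fun v => gramQ M₀ v) := by
      apply iso_of_mat
      have e0 : ((h₂.1 : GL (Fin n) F₀) : Matrix (Fin n) (Fin n) F₀) = ((c⁻¹ : F₀ˣ) : F₀) •
          ((y₀.1 : Matrix (Fin n) (Fin n) F₀) * (y₀.1 : Matrix (Fin n) (Fin n) F₀)) := by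
        show ((y₀.1 * y₀.1 * scalGL n c⁻¹ : GL (Fin n) F₀) : Matrix (Fin n) (Fin n) F₀) = _
        rw [Units.val_mul, Units.val_mul, scalGL_val, Matrix.mul_smul, Matrix.mul_one]
      have e1 : ((y₀.1 : Matrix (Fin n) (Fin n) F₀) * (y₀.1 : Matrix (Fin n) (Fin n) F₀))ᵀ * M₀ *
          ((y₀.1 : Matrix (Fin n) (Fin n) F₀) * (y₀.1 : Matrix (Fin n) (Fin n) F₀)) =
          ((c : F₀) * (c : F₀)) • M₀ := by
        have : ((y₀.1 : Matrix (Fin n) (Fin n) F₀) * (y₀.1 : Matrix (Fin n) (Fin n) F₀))ᵀ * M₀ *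
          ((y₀.1 : Matrix (Fin n) (Fin n) F₀) * (y₀.1 : Matrix (Fin n) (Fin n) F₀)) =
          (y₀.1 : Matrix (Fin n) (Fin n) F₀)ᵀ * ((y₀.1 : Matrix (Fin n) (Fin n) F₀)ᵀ * M₀ *
          (y₀.1 : Matrix (Fin n) (Fin n) F₀)) * (y₀.1 : Matrix (Fin n) (Fin n) F₀) := by
          rw [Matrix.transpose_mul]
          simp only [Matrix.mul_assoc]
        rw [this, hc, Matrix.mul_smul, Matrix.smul_mul, hc, smul_smul]
      rw [e0, Matrix.transpose_smul, Matrix.smul_mul, Matrix.smul_mul, Matrix.mul_smul, e1, smul_smul,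
        smul_smul]
      have : ((c⁻¹ : F₀ˣ) : F₀) * ((c⁻¹ : F₀ˣ) : F₀) * ((c : F₀) * (c : F₀)) = 1 := by
        rw [Units.val_inv_eq_inv_val]
        have := c.ne_zero
        field_simp
      rw [this, one_smul]
    have hsc1 : ThS hF₀ σ hσ k M₀ e he hM sc = 1 := by
      rw [ThS_eq_one_iff hF hF₀ σ hσ k M₀ e he hM hn]
      exact scalGL_mem _
    have hPh₂ : ThS hF₀ σ hσ k M₀ e he hM h₂ = PhiU n F q Y * PhiU n F q Y := by
      rw [hh₂, map_mul, map_mul, hsc1, mul_one, hy₀]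
    obtain ⟨j, hj⟩ := hodd
    have hyk : (PhiU n F q Y) ^ (Nat.card N₁) = 1 := pow_card_eq_one_of_mem N₁ _ hy
    refine ⟨(⟨h₂.1, hh₂I⟩ : ↥(Cfsg.isometryGroup F₀ (fun v => gramQ M₀ v))) ^ (j + 1), ?_⟩
    rw [map_pow, hπapp]
    have e3 : (⟨((⟨h₂.1, hh₂I⟩ : ↥(Cfsg.isometryGroup F₀ (fun v => gramQ M₀ v))) : GL (Fin n) F₀),
        hIS hh₂I⟩ : ↥(Cfsg.Geo.similarityGroup (bilM M₀))) = h₂ := rfl
    rw [e3, hPh₂, ← pow_two, ← pow_mul]
    have : 2 * (j + 1) = Nat.card N₁ + 1 := by omega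
    rw [this, pow_succ, hyk, one_mul]
  · -- normalisation
    intro T hT y hy
    apply hnorm _ ⟨?_, ?_⟩ y hy
    · rw [hπapp]
      apply ThS_inn hF hF₀ σ hσ k M₀ e he hM
      · exact hImat T
      · have := congrArg Units.val hT
        rw [isoDet_coe, Units.val_one] at this
        exact this
    · rw [hπapp]
      exact ThS_comm hF hF₀ σ hσ k M₀ e he hM hn X hk _

end fin

end Cfsg.Agent.Lib.Helper16.LU
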