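import Mathlib
import Cfsg.Agent.Lib.Helper16.LU11
import Cfsg.Agent.Lib.Helper16.LC13

set_option autoImplicit false
set_option linter.unusedSectionVars false
set_option linter.unusedVariables false

/-! Orthogonal-type graph involutions of `PSU_n`: the core is trivial. -/

namespace Cfsg.Agent.Lib.Helper16.LU

open Matrix Module Cfsg.Agent.Lib.Helper16 Cfsg.Agent.Lib.Helper16.PU Cfsg.Agent.Lib.Helper16.UA
  Cfsg.Agent.Lib.Helper16.PG Cfsg.Agent.Lib.Helper16.UF Cfsg.Agent.Lib.Helper16.LC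
  Cfsg.Agent.Lib.Helper16.OB Cfsg.Agent.Lib.Helper16.SpSemi Cfsg.Agent.Lib.Helper16.OL

universe u w

section
variable {n : ℕ} {F : Type u} [Field F] {q : ℕ}

theorem trace_semiU (Y : ↥(simU n F q)) (τ : F ≃+* F) (s : ↥(Cfsg.SU n F q)) :
    ((conjSU Y (fieldSU τ s)).1 : Matrix (Fin n) (Fin n) F).trace =
      τ ((s.1 : Matrix (Fin n) (Fin n) F).trace) := by
  rw [conjSU_val, conjSL_val, Matrix.trace_mul_cycle, gl_inv_mul, Matrix.one_mul, fieldSU_val]
  unfold Matrix.trace
  rw [map_sum]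
  rfl

/-- an automorphism `Φ(Y) φ_τ` fixing the class of `s`, where `s` and `s⁻¹` have the same trace `a`:
then `τ(a)² = a²`. -/
theorem fix_trace_invU [Fintype F] (hF : Fintype.card F = q ^ 2) (hn : 3 ≤ n) (Y : ↥(simU n F q))
    (τ : F ≃+* F) (s : ↥(Cfsg.SU n F q))
    (hfix : (PhiU n F q Y * fieldU n q τ) (mkU n F q s) = mkU n F q s)
    (htr : ((s⁻¹).1 : Matrix (Fin n) (Fin n) F).trace = (s.1 : Matrix (Fin n) (Fin n) F).trace) :
    τ ((s.1 : Matrix (Fin n) (Fin n) F).trace) * τ ((s.1 : Matrix (Fin n) (Fin n) F).trace) =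
      (s.1 : Matrix (Fin n) (Fin n) F).trace * (s.1 : Matrix (Fin n) (Fin n) F).trace := by
  set a := (s.1 : Matrix (Fin n) (Fin n) F).trace with ha
  have hfix' : mkU n F q (conjSU Y (fieldSU τ s)) = mkU n F q s := hfix
  set s' := conjSU Y (fieldSU τ s) with hs'
  rw [mkU_eq_iff] at hfix'
  obtain ⟨d, hd⟩ := center_SU_scalar hF hn _ hfix'
  have hd' : ((s'⁻¹).1 : Matrix (Fin n) (Fin n) F) * (s.1 : Matrix (Fin n) (Fin n) F) = d • 1 := hd
  have hs's : (s'.1 : Matrix (Fin n) (Fin n) F) * ((s'⁻¹).1 : Matrix (Fin n) (Fin n) F) = 1 := by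
    have := congrArg (fun t : ↥(Cfsg.SU n F q) => (t.1 : Matrix (Fin n) (Fin n) F)) (mul_inv_cancel s')
    exact this
  have hz : (s.1 : Matrix (Fin n) (Fin n) F) = d • (s'.1 : Matrix (Fin n) (Fin n) F) := by
    have h1 : (s'.1 : Matrix (Fin n) (Fin n) F) * (((s'⁻¹).1 : Matrix (Fin n) (Fin n) F) *
        (s.1 : Matrix (Fin n) (Fin n) F)) = (s'.1 : Matrix (Fin n) (Fin n) F) * (d • 1) := by rw [hd']
    rw [← Matrix.mul_assoc, hs's, Matrix.one_mul, Matrix.mul_smul, Matrix.mul_one] at h1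
    exact h1
  have hd0 : d ≠ 0 := by
    rintro rfl
    rw [zero_smul] at hz
    have h1 := s.1.2
    have hne : Nonempty (Fin n) := ⟨⟨0, by omega⟩⟩
    rw [hz, Matrix.det_zero] at h1
    exact zero_ne_one h1
  -- (1)
  have h1 : a = d * τ a := by
    have := congrArg Matrix.trace hz
    rw [Matrix.trace_smul, smul_eq_mul, hs', trace_semiU] at this
    exact this
  -- the inverse
  have hss : (s.1 : Matrix (Fin n) (Fin n) F) * ((s⁻¹).1 : Matrix (Fin n) (Fin n) F) = 1 := by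
    have := congrArg (fun t : ↥(Cfsg.SU n F q) => (t.1 : Matrix (Fin n) (Fin n) F)) (mul_inv_cancel s)
    exact this
  have hs's' : ((s'⁻¹).1 : Matrix (Fin n) (Fin n) F) * (s'.1 : Matrix (Fin n) (Fin n) F) = 1 := by
    have := congrArg (fun t : ↥(Cfsg.SU n F q) => (t.1 : Matrix (Fin n) (Fin n) F)) (inv_mul_cancel s')
    exact this
  have hinv : ((s'⁻¹).1 : Matrix (Fin n) (Fin n) F) = d • ((s⁻¹).1 : Matrix (Fin n) (Fin n) F) := by
    calc ((s'⁻¹).1 : Matrix (Fin n) (Fin n) F)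
        = ((s'⁻¹).1 : Matrix (Fin n) (Fin n) F) * ((s.1 : Matrix (Fin n) (Fin n) F) *
          ((s⁻¹).1 : Matrix (Fin n) (Fin n) F)) := by rw [hss, Matrix.mul_one]
      _ = d • ((s⁻¹).1 : Matrix (Fin n) (Fin n) F) := by
          rw [← Matrix.mul_assoc, hd', Matrix.smul_mul, Matrix.one_mul]
  have h2 : τ a = d * a := by
    have e1 : s'⁻¹ = conjSU Y (fieldSU τ s⁻¹) := by
      rw [hs', map_inv, map_inv]
    have := congrArg Matrix.trace hinv
    rw [e1, trace_semiU, htr, Matrix.trace_smul, smul_eq_mul, htr] at this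
    exact this
  calc τ a * τ a = (d * a) * τ a := by rw [← h2]
    _ = a * (d * τ a) := by ring
    _ = a * a := by rw [← h1]

end

section hom
variable {n : ℕ} {E : Type u} [Field E] [Fintype E] {L : Type w} [Field L]

set_option maxHeartbeats 1600000 in
/-- two field embeddings agreeing on the traces of the rotations agree. -/
theorem ringHom_eq_of_rot_trace (hn : 3 ≤ n) (h2 : (2 : E) ≠ 0) (M₀ : Matrix (Fin n) (Fin n) E)
    (hMs : M₀ᵀ = M₀) (hMdet : M₀.det ≠ 0) (φ ψ : E →+* L)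
    (h : ∀ (a b : Fin n → E) (ha : gramQ M₀ a ≠ 0) (hb : gramQ M₀ b ≠ 0),
      ψ ((rotS (gramQ M₀) a b ha hb : SpecialLinearGroup (Fin n) E) : Matrix (Fin n) (Fin n) E).trace =
      φ ((rotS (gramQ M₀) a b ha hb : SpecialLinearGroup (Fin n) E) : Matrix (Fin n) (Fin n) E).trace) :
    ∀ t : E, ψ t = φ t := by
  classical
  have hMunit : IsUnit M₀ := (Matrix.isUnit_iff_isUnit_det _).mpr (isUnit_iff_ne_zero.mpr hMdet)
  set Q : QuadraticForm E (Fin n → E) := gramQ M₀ with hQdef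
  have hQ : (QuadraticMap.polarBilin Q).Nondegenerate := gramQ_nondeg h2 M₀ hMs hMunit
  have h4 : (4 : E) ≠ 0 := by
    have : (4 : E) = 2 * 2 := by norm_num
    rw [this]
    exact mul_ne_zero h2 h2
  have h4L : (4 : L) ≠ 0 := by
    have : (4 : L) = φ 4 := by rw [map_ofNat]
    rw [this]
    exact (map_ne_zero φ).mpr h4
  have hfr : finrank E (Fin n → E) = n := by rw [Module.finrank_fintype_fun_eq_card, Fintype.card_fin]
  obtain ⟨x₀, hx₀⟩ := exists_nonsing h2 Q hQ (by rw [hfr]; omega)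
  have hW := perpS_nondeg Q h2 hQ x₀ hx₀
  have hWfr := perpS_finrank Q hQ x₀ hx₀
  obtain ⟨e, he⟩ := univ2 h2 (Q.comp (perpS Q x₀).subtype) hW (by rw [hfr] at hWfr; omega) (Q x₀)
  have hQe : Q (e : Fin n → E) = Q x₀ := he
  have hpe : QuadraticMap.polar (⇑Q) x₀ (e : Fin n → E) = 0 := (mem_perpS Q x₀ _).mp e.2
  have hsq : ∀ t : E, ψ (t ^ 2) = φ (t ^ 2) := by
    intro t
    by_cases ht : 1 + t ^ 2 = 0
    · have : t ^ 2 = -1 := by linear_combination ht
      rw [this, map_neg, map_one, map_neg, map_one]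
    · set yt : Fin n → E := x₀ + t • (e : Fin n → E) with hyt
      have hQy : Q yt = Q x₀ * (1 + t ^ 2) := by
        have h1 : Q yt = Q x₀ + Q (t • (e : Fin n → E)) +
            QuadraticMap.polar (⇑Q) x₀ (t • (e : Fin n → E)) := by
          rw [hyt, QuadraticMap.polar]
          ring
        rw [h1, QuadraticMap.map_smul, QuadraticMap.polar_smul_right, hpe, hQe, smul_eq_mul, smul_eq_mul]
        ring
      have hQy0 : Q yt ≠ 0 := by
        rw [hQy]
        exact mul_ne_zero hx₀ ht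
      have hpol : QuadraticMap.polar (⇑Q) x₀ yt = 2 * Q x₀ := by
        rw [hyt, QuadraticMap.polar_add_right, QuadraticMap.polar_smul_right, hpe, smul_zero, add_zero,
          QuadraticMap.polar_self]
        rw [nsmul_eq_mul]
        push_cast
        ring
      have htr := h x₀ yt hx₀ hQy0
      rw [rotS_val, trace_refl_mul, hpol, hQy, Fintype.card_fin] at htr
      have e1 : (n : E) - (Q x₀)⁻¹ * (2 * Q x₀) - (Q x₀ * (1 + t ^ 2))⁻¹ * (2 * (Q x₀ * (1 + t ^ 2))) +
          (Q x₀)⁻¹ * (Q x₀ * (1 + t ^ 2))⁻¹ * (2 * Q x₀) ^ 2 = (n : E) - 4 + 4 * (1 + t ^ 2)⁻¹ := by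
        field_simp
        ring
      rw [e1, map_add, map_sub, map_natCast, map_mul, map_ofNat, map_inv₀, map_add, map_one,
        map_add, map_sub, map_natCast, map_mul, map_ofNat, map_inv₀, map_add, map_one] at htr
      have h5 : (1 + ψ (t ^ 2))⁻¹ = (1 + φ (t ^ 2))⁻¹ := by
        have : 4 * (1 + ψ (t ^ 2))⁻¹ = 4 * (1 + φ (t ^ 2))⁻¹ := by
          linear_combination htr
        exact mul_left_cancel₀ h4L this
      have h6 := inv_injective h5
      linear_combination h6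
  intro a
  have h1 := hsq (a + 1)
  have h3 := hsq (a - 1)
  rw [map_pow, map_add, map_one, map_pow, map_add, map_one] at h1
  rw [map_pow, map_sub, map_one, map_pow, map_sub, map_one] at h3
  have : 4 * ψ a = 4 * φ a := by linear_combination h1 - h3
  exact mul_left_cancel₀ h4L this

end hom

end Cfsg.Agent.Lib.Helper16.LU
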