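import Mathlib
import Cfsg.Agent.Lib.Helper16.LU12

set_option autoImplicit false
set_option linter.unusedSectionVars false
set_option linter.unusedVariables false

/-! Orthogonal-type graph involutions of `PSU_n`: the core is trivial (assembly). -/

namespace Cfsg.Agent.Lib.Helper16.LU

open Matrix Module Cfsg.Agent.Lib.Helper16 Cfsg.Agent.Lib.Helper16.PU Cfsg.Agent.Lib.Helper16.UA
  Cfsg.Agent.Lib.Helper16.PG Cfsg.Agent.Lib.Helper16.UF Cfsg.Agent.Lib.Helper16.LC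
  Cfsg.Agent.Lib.Helper16.OB Cfsg.Agent.Lib.Helper16.SpSemi Cfsg.Agent.Lib.Helper16.OL
  Cfsg.Agent.Lib.Helper16.H9

universe u w

section
variable {n : ℕ} {F : Type u} [Field F] {q : ℕ} [Fintype F]

/-- the trace of the inverse of a special unitary matrix. -/
theorem su_trace_inv (hF : Fintype.card F = q ^ 2) (σ : F ≃+* F) (hσ : ∀ a, σ a = a ^ q)
    (s : ↥(Cfsg.SU n F q)) :
    ((s⁻¹).1 : Matrix (Fin n) (Fin n) F).trace = σ ((s.1 : Matrix (Fin n) (Fin n) F).trace) := by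
  have h1 := (mem_GU_iff_mat σ hσ (suGL s)).mp (suGL_mem_GU s)
  have hS : ((suGL s : GL (Fin n) F) : Matrix (Fin n) (Fin n) F) = (s.1 : Matrix (Fin n) (Fin n) F) := rfl
  rw [hS] at h1
  have h2 : ((s.1 : Matrix (Fin n) (Fin n) F).map ⇑σ)ᵀ * (s.1 : Matrix (Fin n) (Fin n) F) = 1 := by
    have := congrArg (fun M : Matrix (Fin n) (Fin n) F => M.map ⇑σ) h1
    simp only [Matrix.map_mul] at this
    rw [map_map_bar hF σ hσ, map_one_mat] at this
    exact this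
  have h3 : ((s⁻¹).1 : Matrix (Fin n) (Fin n) F) = ((s.1 : Matrix (Fin n) (Fin n) F).map ⇑σ)ᵀ :=
    sl_inv_val_eq s.1 _ h2
  rw [h3, Matrix.trace_transpose]
  unfold Matrix.trace
  rw [map_sum]
  rfl

end

section fin
variable {n : ℕ} {F : Type u} [Field F] {q : ℕ} {F₀ : Type w} [Field F₀] [Algebra F₀ F]
variable [Fintype F] [Fintype F₀] (hF : Fintype.card F = q ^ 2) (hF₀ : Fintype.card F₀ = q)
  (σ : F ≃+* F) (hσ : ∀ a, σ a = a ^ q)
  (k : GL (Fin n) F) (M₀ : Matrix (Fin n) (Fin n) F₀) (e : F) (he : e ≠ 0)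
  (hM : (k : Matrix (Fin n) (Fin n) F)ᵀ * (k : Matrix (Fin n) (Fin n) F).map ⇑σ =
      e • M₀.map (algebraMap F₀ F))
include hF hF₀ hσ he hM

/-- special isometries of the `F₀`-form induce inner automorphisms (explicit form). -/
theorem ThS_eq_conj (y : ↥(Cfsg.Geo.similarityGroup (bilM M₀)))
    (hy : (y.1 : Matrix (Fin n) (Fin n) F₀)ᵀ * M₀ * (y.1 : Matrix (Fin n) (Fin n) F₀) = M₀)
    (hdet : (y.1 : Matrix (Fin n) (Fin n) F₀).det = 1) :
    ∃ s : ↥(Cfsg.SU n F q), (s.1 : Matrix (Fin n) (Fin n) F) =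
        ((conjK k y.1 : GL (Fin n) F) : Matrix (Fin n) (Fin n) F) ∧
      ThS hF₀ σ hσ k M₀ e he hM y = MulAut.conj (mkU n F q s) := by
  have hGU := conjK_mem_GU hF₀ σ hσ k M₀ e he hM y.1 hy
  have hd : ((conjK k y.1 : GL (Fin n) F) : Matrix (Fin n) (Fin n) F).det = 1 := by
    rw [conjK_det, hdet, map_one]
  set s : ↥(Cfsg.SU n F q) :=
    ⟨⟨((conjK k y.1 : GL (Fin n) F) : Matrix (Fin n) (Fin n) F), hd⟩, fun u v => hGU u v⟩ with hs
  refine ⟨s, rfl, ?_⟩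
  rw [ThS_apply, conj_mkU_eq_PhiU]
  congr 1
  apply Subtype.ext
  apply Units.ext
  rfl

set_option maxHeartbeats 3200000 in
/-- **Orthogonal type.** -/
theorem orth_core_psu (hn : 3 ≤ n) (hs : ¬ (n = 3 ∧ q = 2)) (h2 : (2 : F₀) ≠ 0) (X : ↥(simU n F q))
    (hk : (X.1 : Matrix (Fin n) (Fin n) F) * (k : Matrix (Fin n) (Fin n) F).map ⇑σ = k)
    (hMs : M₀ᵀ = M₀) (hMdet : M₀.det ≠ 0)
    (hinj : Function.Injective (MulAut.conj : Cfsg.PSU n F q →* MulAut (Cfsg.PSU n F q)))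
    (A N' : Subgroup (MulAut (Cfsg.PSU n F q))) [Finite N'] (hodd : Odd (Nat.card N'))
    (hInnA : Cfsg.Inn (Cfsg.PSU n F q) ≤ A)
    (hNA : N' ≤ A ⊓ Subgroup.centralizer {PhiU n F q X * fieldU n q σ})
    (hnorm : ∀ c ∈ A ⊓ Subgroup.centralizer {PhiU n F q X * fieldU n q σ}, ∀ y ∈ N',
      c * y * c⁻¹ ∈ N') : N' = ⊥ := by
  classical
  set x := PhiU n F q X * fieldU n q σ with hx
  have hIS : Cfsg.isometryGroup F₀ (fun v => gramQ M₀ v) ≤ Cfsg.Geo.similarityGroup (bilM M₀) := by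
    intro T hT
    rw [mem_simM_iff]
    exact ⟨1, by rw [iso_mat h2 M₀ hMs T hT, Units.val_one, one_smul]⟩
  -- the linear part
  have hND : ∀ y ∈ N', y ∈ (PhiU n F q).range → y = 1 := by
    intro y hy hyr
    set N₁ : Subgroup (MulAut (Cfsg.PSU n F q)) := N' ⊓ (PhiU n F q).range with hN₁
    have hfin₁ : Finite ↥N₁ := by
      apply Finite.of_injective (fun z : ↥N₁ => (⟨z.1, z.2.1⟩ : ↥N'))
      intro a b hab
      apply Subtype.ext
      exact congrArg (fun t : ↥N' => (t : MulAut (Cfsg.PSU n F q))) hab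
    have hodd₁ : Odd (Nat.card ↥N₁) := Odd.of_dvd_nat hodd (Subgroup.card_dvd_of_le inf_le_left)
    have hbot : N₁ = ⊥ := by
      apply orth_lin_core_psu hF hF₀ σ hσ k M₀ e he hM hn h2 X hk hMs hMdet N₁ hodd₁ inf_le_right
        (fun z hz => (hNA hz.1).2)
      intro c hc z hz
      refine ⟨hnorm c ⟨hInnA hc.1, hc.2⟩ z hz.1, ?_⟩
      have hcr := Inn_le_range_PhiU (n := n) (F := F) (q := q) hc.1
      exact Subgroup.mul_mem _ (Subgroup.mul_mem _ hcr hz.2) (Subgroup.inv_mem _ hcr)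
    have : y ∈ N₁ := ⟨hy, hyr⟩
    rw [hbot, Subgroup.mem_bot] at this
    exact this
  have hcommAll := comm_of_inf_bot A N' (PhiU n F q).range x hInnA Inn_le_range_PhiU hnorm hND
  rw [eq_bot_iff]
  intro y hy
  rw [Subgroup.mem_bot]
  obtain ⟨Y, ρ, hyeq⟩ := aut_eq' hF hn hs y
  set kk := Nat.card N' with hkk
  -- the field part has odd order
  have hρk : (ρ : RingAut F) ^ kk = 1 := by
    have h1 : y ^ kk = 1 := pow_card_eq_one_of_mem N' y hy
    have e0 : (⟨Y.1, Y.2⟩ : ↥(simU n F q)) = Y := rfl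
    rw [hyeq, ← e0, ← fieldUHom_apply, pow_PhiU_fieldU] at h1
    have h3 : fieldU n q (((ρ : RingAut F) ^ kk : RingAut F) : F ≃+* F) =
        PhiU n F q (⟨tw (ρ : RingAut F) Y.1 kk, tw_mem_simU (ρ : RingAut F) Y.1 Y.2 kk⟩)⁻¹ := by
      rw [map_inv]
      exact eq_inv_of_mul_eq_one_right h1
    exact fieldU_eq_PhiU hF hn _ _ h3
  -- `ρ` fixes the traces of the rotations
  have hfixrot : ∀ (a b : Fin n → F₀) (ha : gramQ M₀ a ≠ 0) (hb : gramQ M₀ b ≠ 0),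
      ((ρ : F →+* F).comp (algebraMap F₀ F))
        ((rotS (gramQ M₀) a b ha hb : SpecialLinearGroup (Fin n) F₀) : Matrix (Fin n) (Fin n) F₀).trace =
      (algebraMap F₀ F)
        ((rotS (gramQ M₀) a b ha hb : SpecialLinearGroup (Fin n) F₀) : Matrix (Fin n) (Fin n) F₀).trace := by
    intro a b ha hb
    set Ti : ↥(Cfsg.isometryGroup F₀ (fun v => gramQ M₀ v)) :=
      reflG (gramQ M₀) a ha * reflG (gramQ M₀) b hb with hTi
    set y₀ : ↥(Cfsg.Geo.similarityGroup (bilM M₀)) := ⟨Ti.1, hIS Ti.2⟩ with hy₀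
    have hy₀val : (y₀.1 : Matrix (Fin n) (Fin n) F₀) =
        ((rotS (gramQ M₀) a b ha hb : SpecialLinearGroup (Fin n) F₀) : Matrix (Fin n) (Fin n) F₀) := rfl
    have hy₀iso : (y₀.1 : Matrix (Fin n) (Fin n) F₀)ᵀ * M₀ * (y₀.1 : Matrix (Fin n) (Fin n) F₀) = M₀ :=
      iso_mat h2 M₀ hMs Ti.1 Ti.2
    have hy₀det : (y₀.1 : Matrix (Fin n) (Fin n) F₀).det = 1 := by
      rw [hy₀val]
      exact (rotS (gramQ M₀) a b ha hb).2
    obtain ⟨s, hsval, hsconj⟩ := ThS_eq_conj hF hF₀ σ hσ k M₀ e he hM y₀ hy₀iso hy₀det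
    have hl : MulAut.conj (mkU n F q s) ∈ Cfsg.Inn (Cfsg.PSU n F q) ⊓ Subgroup.centralizer {x} := by
      refine ⟨⟨_, rfl⟩, ?_⟩
      rw [← hsconj]
      exact ThS_comm hF hF₀ σ hσ k M₀ e he hM hn X hk _
    have hfixy := fix_of_comm_conj hinj y _ (hcommAll y hy _ hl)
    rw [hyeq] at hfixy
    have htrs : (s.1 : Matrix (Fin n) (Fin n) F).trace = algebraMap F₀ F
        ((rotS (gramQ M₀) a b ha hb : SpecialLinearGroup (Fin n) F₀) : Matrix (Fin n) (Fin n) F₀).trace := by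
      rw [hsval, conjK_val, Matrix.trace_mul_cycle, gl_inv_mul, Matrix.one_mul, hy₀val]
      unfold Matrix.trace
      rw [map_sum]
      rfl
    have htrinv : ((s⁻¹).1 : Matrix (Fin n) (Fin n) F).trace = (s.1 : Matrix (Fin n) (Fin n) F).trace := by
      rw [su_trace_inv hF σ hσ, htrs, bar_algebraMap hF₀ σ hσ]
    have hsq := fix_trace_invU hF hn Y ρ s hfixy htrinv
    have := tau_fix_of_sq (ρ : RingAut F) kk hodd hρk _ hsq
    rw [htrs] at this
    exact this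
  have hρalg : ∀ t : F₀, ρ (algebraMap F₀ F t) = algebraMap F₀ F t :=
    ringHom_eq_of_rot_trace hn h2 M₀ hMs hMdet (algebraMap F₀ F)
      ((ρ : F →+* F).comp (algebraMap F₀ F)) hfixrot
  have hρmem : (ρ : RingAut F) ∈ Subgroup.zpowers (σ : RingAut F) := by
    apply UF.mem_zpowers_of_fix
    intro t ht
    obtain ⟨t₀, rfl⟩ := mem_range_of_fixed hF hF₀ σ hσ t ht
    exact hρalg t₀
  have hσ2 : (σ : RingAut F) ^ 2 = 1 := by
    rw [← bar_order_two hF σ hσ]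
    exact pow_orderOf_eq_one _
  have hρ2 : (ρ : RingAut F) ^ 2 = 1 := by
    obtain ⟨i, hi⟩ := Subgroup.mem_zpowers_iff.mp hρmem
    rw [← hi, ← zpow_natCast, ← _root_.zpow_mul, mul_comm, _root_.zpow_mul, zpow_natCast, hσ2,
      _root_.one_zpow]
  have hρ1 : (ρ : RingAut F) = 1 := by
    obtain ⟨jj, hjj⟩ := hodd
    have := hρk
    rw [hjj, pow_succ, pow_mul, hρ2, one_pow, one_mul] at this
    exact this
  have hρr : ρ = RingEquiv.refl F := hρ1
  rw [hρr, fieldU_refl, mul_one] at hyeq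
  exact hND y hy ⟨Y, hyeq.symm⟩

end fin

end Cfsg.Agent.Lib.Helper16.LU
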