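import Mathlib
import Cfsg.Agent.Lib.Helper16.LU13

set_option autoImplicit false
set_option linter.unusedSectionVars false
set_option linter.unusedVariables false

/-! A pair of unitary transvections generating an element of order four. -/

namespace Cfsg.Agent.Lib.Helper16.LU

open Matrix Module Cfsg.Agent.Lib.Helper16 Cfsg.Agent.Lib.Helper16.PU Cfsg.Agent.Lib.Helper16.UA
  Cfsg.Agent.Lib.Helper16.PG Cfsg.Agent.Lib.Helper16.UF Cfsg.Agent.Lib.Helper16.LC
  Cfsg.Agent.Lib.Helper16.OB Cfsg.Agent.Lib.Helper16.SpSemi Cfsg.Agent.Lib.Helper16.OL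
  Cfsg.Agent.Lib.Helper16.H9 Cfsg.Agent.Lib.Helper16.AP

universe u w

section
variable {n : ℕ} {F : Type u} [Field F] {q : ℕ} [Fintype F]

/-- the multiplier of a Hermitian similitude. -/
theorem simU_mult (hF : Fintype.card F = q ^ 2) (σ : F ≃+* F) (hσ : ∀ a, σ a = a ^ q) (hn : 1 ≤ n)
    (Y : ↥(simU n F q)) :
    ∃ ν : F, ν ≠ 0 ∧ σ ν = ν ∧ ∀ x y : Fin n → F,
      hf σ ((Y.1 : Matrix (Fin n) (Fin n) F) *ᵥ x) ((Y.1 : Matrix (Fin n) (Fin n) F) *ᵥ y) =
        ν * hf σ x y := by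
  have hσσ := bar_bar hF σ hσ
  obtain ⟨c, hc⟩ := (mem_simU_iff Y.1).mp Y.2
  have hform : ∀ x y : Fin n → F,
      hf σ ((Y.1 : Matrix (Fin n) (Fin n) F) *ᵥ x) ((Y.1 : Matrix (Fin n) (Fin n) F) *ᵥ y) =
        (c : F) * hf σ x y := by
    intro x y
    rw [← herm_eq_hf σ hσ, ← herm_eq_hf σ hσ]
    exact hc x y
  refine ⟨c, c.ne_zero, ?_, hform⟩
  set u : Fin n → F := Pi.single ⟨0, by omega⟩ 1 with hu
  have h1 : hf σ u u = 1 := by
    rw [hu, hf_single_left, Pi.single_eq_same, map_one]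
  have h2 := hform u u
  rw [h1, mul_one] at h2
  rw [← h2, hf_swap σ hσσ]

/-- the image of a unitary transvection under a semilinear automorphism. -/
theorem semi_tvS_psu (hF : Fintype.card F = q ^ 2) (σ : F ≃+* F) (hσ : ∀ a, σ a = a ^ q)
    (Y : ↥(simU n F q)) (ρ : F ≃+* F) (ν : F) (hν0 : ν ≠ 0) (hνσ : σ ν = ν)
    (hform : ∀ x y : Fin n → F,
      hf σ ((Y.1 : Matrix (Fin n) (Fin n) F) *ᵥ x) ((Y.1 : Matrix (Fin n) (Fin n) F) *ᵥ y) =
        ν * hf σ x y)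
    {v : Fin n → F} (hvv : hf σ v v = 0) {a : F} (ha : a + σ a = 0) :
    (PhiU n F q Y * fieldU n q ρ) (mkU n F q (tvS q σ v a)) =
      mkU n F q (tvS q σ ((Y.1 : Matrix (Fin n) (Fin n) F) *ᵥ (⇑ρ ∘ v)) (ρ a / ν)) := by
  show PhiU n F q Y (fieldU n q ρ (QuotientGroup.mk (tvS q σ v a))) = _
  rw [fieldU_mk, PhiU_mk]
  have h1 := beta_tvS hF hσ hν0 hνσ (τ := ρ)
    (Φ := fun z => (Y.1 : Matrix (Fin n) (Fin n) F) *ᵥ (⇑ρ ∘ z)) (X := Y)
    (by
      intro x y
      have : (⇑ρ ∘ (x + y)) = (⇑ρ ∘ x) + (⇑ρ ∘ y) := by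
        funext i
        simp
      show (Y.1 : Matrix (Fin n) (Fin n) F) *ᵥ (⇑ρ ∘ (x + y)) = _
      rw [this, Matrix.mulVec_add])
    (by
      intro κ x
      have : (⇑ρ ∘ (κ • x)) = ρ κ • (⇑ρ ∘ x) := by
        funext i
        simp
      show (Y.1 : Matrix (Fin n) (Fin n) F) *ᵥ (⇑ρ ∘ (κ • x)) = _
      rw [this, Matrix.mulVec_smul])
    (by
      intro x y
      show hf σ ((Y.1 : Matrix (Fin n) (Fin n) F) *ᵥ (⇑ρ ∘ x))
        ((Y.1 : Matrix (Fin n) (Fin n) F) *ᵥ (⇑ρ ∘ y)) = _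
      rw [hform, hf_comp hσ])
    (fun x => rfl) hvv ha
  rw [h1]
  rfl

theorem aut_conj_aut_inv {K : Type*} [Group K] (y : MulAut K) (g : K) :
    y * MulAut.conj g * y⁻¹ = MulAut.conj (y g) := by
  rw [aut_mul_conj, mul_inv_cancel_right]

set_option maxHeartbeats 1600000 in
/-- **The transvection pair argument (unitary version).** -/
theorem transv_pair_contra_psu (hF : Fintype.card F = q ^ 2) (σ : F ≃+* F) (hσ : ∀ a, σ a = a ^ q)
    (hn : 3 ≤ n) (r : ℕ) (hrodd : Odd r) (hr0 : (r : F) = 0) (h2F : (2 : F) ≠ 0)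
    (hinj : Function.Injective (MulAut.conj : Cfsg.PSU n F q →* MulAut (Cfsg.PSU n F q)))
    (N C : Subgroup (MulAut (Cfsg.PSU n F q))) [Finite N]
    (hodd : Odd (Nat.card N)) (hnorm : ∀ c ∈ C, ∀ z ∈ N, c * z * c⁻¹ ∈ N)
    (y : MulAut (Cfsg.PSU n F q)) (hy : y ∈ N) (v w : Fin n → F) (hvv : hf σ v v = 0)
    (hww : hf σ w w = 0) (a b b' : F) (ha : a + σ a = 0) (hb : b + σ b = 0) (hb' : b' + σ b' = 0)
    (haC : MulAut.conj (mkU n F q (tvS q σ v a)) ∈ C)
    (hbC : MulAut.conj (mkU n F q (tvS q σ v b)) ∈ C)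
    (hyb : y (mkU n F q (tvS q σ v b)) = mkU n F q (tvS q σ w b'))
    (hκ : a * b' * hf σ w v * hf σ v w = -2) : False := by
  have hσσ := bar_bar hF σ hσ
  set a' := MulAut.conj (mkU n F q (tvS q σ v a)) with hadef
  set b'' := MulAut.conj (mkU n F q (tvS q σ v b)) with hbdef
  have hab : (a' * b'') ^ r = 1 := by
    have hab0 : (a + b) + σ (a + b) = 0 := by
      rw [map_add]
      linear_combination ha + hb
    rw [hadef, hbdef, ← map_mul, ← map_mul, ← map_pow, ← map_pow, tvS_mul hσ hσσ hvv ha hb,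
      tvS_pow hF hσ hvv hab0, hr0, zero_mul]
    have : tvS q σ v (0 : F) = 1 := sgS_one hσ hσσ hvv
    rw [this, map_one, map_one]
  have hyby : y * b'' * y⁻¹ = MulAut.conj (mkU n F q (tvS q σ w b')) := by
    rw [hbdef, aut_conj_aut_inv, hyb]
  have hGeq : a' * (y * b'' * y⁻¹) = MulAut.conj (mkU n F q (tvS q σ v a * tvS q σ w b')) := by
    rw [hyby, hadef, ← map_mul, ← map_mul]
  have hval : ((tvS q σ v a * tvS q σ w b').1 : Matrix (Fin n) (Fin n) F) =
      tM v (⇑σ ∘ v) a * tM w (⇑σ ∘ w) b' := by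
    show ((tvS q σ v a).1 : Matrix (Fin n) (Fin n) F) * ((tvS q σ w b').1 : Matrix (Fin n) (Fin n) F) = _
    rw [tvS_val hF hσ hvv ha, tvS_val hF hσ hww hb']
  have hG4 : (a' * (y * b'' * y⁻¹)) ^ 4 = 1 := by
    rw [hGeq, ← map_pow, ← map_pow]
    have : (tvS q σ v a * tvS q σ w b') ^ 4 = 1 := by
      apply Subtype.ext
      apply Subtype.ext
      rw [SubgroupClass.coe_pow, Matrix.SpecialLinearGroup.coe_pow]
      show ((tvS q σ v a * tvS q σ w b').1 : Matrix (Fin n) (Fin n) F) ^ 4 = 1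
      rw [hval]
      apply tM_pair_pow_four
      · rw [dotProduct_comm]; exact hvv
      · rw [dotProduct_comm]; exact hww
      · have e1 : (⇑σ ∘ v) ⬝ᵥ w = hf σ w v := by rw [dotProduct_comm]; rfl
        have e2 : (⇑σ ∘ w) ⬝ᵥ v = hf σ v w := by rw [dotProduct_comm]; rfl
        rw [e1, e2]
        exact hκ
    rw [this, map_one, map_one]
  have hG1 := odd_contra N C hodd hnorm y a' b'' hy haC hbC r hrodd hab hG4
  rw [hGeq] at hG1
  have h1 : mkU n F q (tvS q σ v a * tvS q σ w b') = 1 := by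
    apply hinj
    rw [hG1, map_one]
  rw [mkU_eq_one_iff] at h1
  obtain ⟨d, hd⟩ := center_SU_scalar hF hn _ h1
  have hwv : hf σ w v ≠ 0 := by
    intro h0
    rw [h0, mul_zero, zero_mul] at hκ
    apply h2F
    linear_combination hκ
  have ha0 : a ≠ 0 := by
    rintro rfl
    rw [zero_mul, zero_mul, zero_mul] at hκ
    apply h2F
    linear_combination hκ
  have hcw : ((tvS q σ v a * tvS q σ w b').1 : Matrix (Fin n) (Fin n) F) *ᵥ w =
      w + (a * hf σ w v) • v := by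
    rw [hval, ← Matrix.mulVec_mulVec, tM_mulVec, tM_mulVec]
    have e3 : (⇑σ ∘ w) ⬝ᵥ w = 0 := by rw [dotProduct_comm]; exact hww
    have e1 : (⇑σ ∘ v) ⬝ᵥ w = hf σ w v := by rw [dotProduct_comm]; rfl
    rw [e3, mul_zero, zero_smul, add_zero, e1]
  rw [hd, Matrix.smul_mulVec, Matrix.one_mulVec] at hcw
  have h3 := congrArg (fun z => hf σ z v) hcw
  simp only [hf_smul_left, hf_add_left, hvv, mul_zero, add_zero] at h3
  have hd1 : d = 1 := by
    have : (d - 1) * hf σ w v = 0 := by linear_combination h3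
    rcases mul_eq_zero.mp this with h | h
    · exact sub_eq_zero.mp h
    · exact absurd h hwv
  rw [hd1, one_smul] at hcw
  have h4 : (a * hf σ w v) • v = 0 := by
    have := hcw
    exact add_eq_left.mp this.symm
  rcases smul_eq_zero.mp h4 with h | h
  · exact (mul_ne_zero ha0 hwv) h
  · apply hwv
    rw [h, hf_zero_right]

end

end Cfsg.Agent.Lib.Helper16.LU
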