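import Mathlib
import Cfsg.Agent.Lib.Helper16.LU14

set_option autoImplicit false
set_option linter.unusedSectionVars false
set_option linter.unusedVariables false

/-! Symplectic-type graph involutions of `PSU_n`: perpendicularity of `v` and its image. -/

namespace Cfsg.Agent.Lib.Helper16.LU

open Matrix Module Cfsg.Agent.Lib.Helper16 Cfsg.Agent.Lib.Helper16.PU Cfsg.Agent.Lib.Helper16.UA
  Cfsg.Agent.Lib.Helper16.PG Cfsg.Agent.Lib.Helper16.UF Cfsg.Agent.Lib.Helper16.LC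
  Cfsg.Agent.Lib.Helper16.OB Cfsg.Agent.Lib.Helper16.SpSemi Cfsg.Agent.Lib.Helper16.OL
  Cfsg.Agent.Lib.Helper16.H9 Cfsg.Agent.Lib.Helper16.AP

universe u w

section fin
variable {n : ℕ} {F : Type u} [Field F] {q : ℕ} {F₀ : Type w} [Field F₀] [Algebra F₀ F]
variable [Fintype F] [Fintype F₀] (hF : Fintype.card F = q ^ 2) (hF₀ : Fintype.card F₀ = q)
  (σ : F ≃+* F) (hσ : ∀ a, σ a = a ^ q)
  (k : GL (Fin n) F) (M₀ : Matrix (Fin n) (Fin n) F₀) (e : F) (he : e ≠ 0)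
  (hM : (k : Matrix (Fin n) (Fin n) F)ᵀ * (k : Matrix (Fin n) (Fin n) F).map ⇑σ =
      e • M₀.map (algebraMap F₀ F))
include hF hF₀ hσ he hM

omit hF [Fintype F] he in
theorem bar_comp_alg (w₀ : Fin n → F₀) :
    ⇑σ ∘ (⇑(algebraMap F₀ F) ∘ w₀) = ⇑(algebraMap F₀ F) ∘ w₀ := by
  funext i
  exact bar_algebraMap hF₀ σ hσ (w₀ i)

omit hF [Fintype F] he in
/-- the Hermitian form on the `F₀`-structure. -/
theorem hf_kk (u₀ w₀ : Fin n → F₀) :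
    hf σ ((k : Matrix (Fin n) (Fin n) F) *ᵥ (⇑(algebraMap F₀ F) ∘ u₀))
      ((k : Matrix (Fin n) (Fin n) F) *ᵥ (⇑(algebraMap F₀ F) ∘ w₀)) =
      e * algebraMap F₀ F (u₀ ⬝ᵥ M₀ *ᵥ w₀) := by
  unfold hf
  rw [map_mulVec_comp, bar_comp_alg hF₀ σ hσ k M₀ e hM, ← Matrix.vecMul_transpose,
    ← Matrix.dotProduct_mulVec, Matrix.mulVec_mulVec, hM, Matrix.smul_mulVec, dotProduct_smul,
    smul_eq_mul]
  congr 1
  rw [RingHom.map_dotProduct]
  congr 1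
  funext i
  exact (RingHom.map_mulVec (algebraMap F₀ F) M₀ w₀ i).symm

theorem exists_entry (hn : 1 ≤ n) : ∃ i j : Fin n, M₀ i j ≠ 0 := by
  by_contra hcon
  push Not at hcon
  apply M₀_ne_zero hF hF₀ σ hσ k M₀ e he hM hn
  ext i j
  exact hcon i j

theorem e_skew (hn : 1 ≤ n) (hMs : M₀ᵀ = -M₀) : σ e = -e := by
  classical
  have hσσ := bar_bar hF σ hσ
  obtain ⟨i, j, hij⟩ := exists_entry hF hF₀ σ hσ k M₀ e he hM hn
  have h1 := hf_kk hF₀ σ hσ k M₀ e hM (Pi.single i 1) (Pi.single j 1)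
  have h2 := hf_kk hF₀ σ hσ k M₀ e hM (Pi.single j 1) (Pi.single i 1)
  have e1 : (Pi.single i 1 : Fin n → F₀) ⬝ᵥ M₀ *ᵥ (Pi.single j 1) = M₀ i j := by simp
  have e2 : (Pi.single j 1 : Fin n → F₀) ⬝ᵥ M₀ *ᵥ (Pi.single i 1) = -M₀ i j := by
    have : M₀ j i = -M₀ i j := by
      have := congrFun (congrFun hMs i) j
      rw [Matrix.transpose_apply] at this
      rw [this]
      rfl
    simp [this]
  rw [e1] at h1
  rw [e2, map_neg] at h2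
  have h3 := hf_swap σ hσσ ((k : Matrix (Fin n) (Fin n) F) *ᵥ (⇑(algebraMap F₀ F) ∘ (Pi.single i 1 : Fin n → F₀)))
    ((k : Matrix (Fin n) (Fin n) F) *ᵥ (⇑(algebraMap F₀ F) ∘ (Pi.single j 1 : Fin n → F₀)))
  rw [h1, h2, map_mul, bar_algebraMap hF₀ σ hσ] at h3
  have hc : algebraMap F₀ F (M₀ i j) ≠ 0 := by
    intro h0
    apply hij
    exact (map_eq_zero (algebraMap F₀ F)).mp h0
  have : (σ e + e) * algebraMap F₀ F (M₀ i j) = 0 := by linear_combination h3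
  rcases mul_eq_zero.mp this with h | h
  · linear_combination h
  · exact absurd h hc

omit hF [Fintype F] he in
theorem graph_fix_vec (X : ↥(simU n F q))
    (hk : (X.1 : Matrix (Fin n) (Fin n) F) * (k : Matrix (Fin n) (Fin n) F).map ⇑σ = k)
    (v₀ : Fin n → F₀) :
    (X.1 : Matrix (Fin n) (Fin n) F) *ᵥ
      (⇑σ ∘ ((k : Matrix (Fin n) (Fin n) F) *ᵥ (⇑(algebraMap F₀ F) ∘ v₀))) =
      (k : Matrix (Fin n) (Fin n) F) *ᵥ (⇑(algebraMap F₀ F) ∘ v₀) := by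
  rw [map_mulVec_comp, bar_comp_alg hF₀ σ hσ k M₀ e hM, Matrix.mulVec_mulVec, hk]

/-- the multiplier of the graph similitude is `-1`. -/
theorem graph_mult (hn : 1 ≤ n) (hMs : M₀ᵀ = -M₀) (X : ↥(simU n F q))
    (hk : (X.1 : Matrix (Fin n) (Fin n) F) * (k : Matrix (Fin n) (Fin n) F).map ⇑σ = k)
    (x y : Fin n → F) :
    hf σ ((X.1 : Matrix (Fin n) (Fin n) F) *ᵥ x) ((X.1 : Matrix (Fin n) (Fin n) F) *ᵥ y) =
      (-1) * hf σ x y := by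
  classical
  have hσσ := bar_bar hF σ hσ
  obtain ⟨ν, hν0, hνσ, hform⟩ := simU_mult hF σ hσ hn X
  obtain ⟨i, j, hij⟩ := exists_entry hF hF₀ σ hσ k M₀ e he hM hn
  have hes := e_skew hF hF₀ σ hσ k M₀ e he hM hn hMs
  set x₁ := (k : Matrix (Fin n) (Fin n) F) *ᵥ (⇑(algebraMap F₀ F) ∘ (Pi.single i 1 : Fin n → F₀)) with hx₁
  set y₁ := (k : Matrix (Fin n) (Fin n) F) *ᵥ (⇑(algebraMap F₀ F) ∘ (Pi.single j 1 : Fin n → F₀)) with hy₁
  have h1 : hf σ x₁ y₁ = e * algebraMap F₀ F (M₀ i j) := by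
    rw [hx₁, hy₁, hf_kk hF₀ σ hσ k M₀ e hM]
    congr 2
    simp
  have h2 := hform (⇑σ ∘ x₁) (⇑σ ∘ y₁)
  rw [hf_comp hσ, hx₁, hy₁, graph_fix_vec hF₀ σ hσ k M₀ e hM X hk, graph_fix_vec hF₀ σ hσ k M₀ e hM X hk,
    ← hx₁, ← hy₁, h1, map_mul, bar_algebraMap hF₀ σ hσ, hes] at h2
  have hc : algebraMap F₀ F (M₀ i j) ≠ 0 := by
    intro h0
    apply hij
    exact (map_eq_zero (algebraMap F₀ F)).mp h0
  have hν : ν = -1 := by
    have : (ν + 1) * (e * algebraMap F₀ F (M₀ i j)) = 0 := by linear_combination h2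
    rcases mul_eq_zero.mp this with h | h
    · linear_combination h
    · exact absurd h (mul_ne_zero he hc)
  rw [hform, hν]

/-- the vectors of the `F₀`-structure are isotropic, and the graph involution fixes their
transvections. -/
theorem x_fix_tvS (hn : 1 ≤ n) (h2 : (2 : F₀) ≠ 0) (hMs : M₀ᵀ = -M₀) (X : ↥(simU n F q))
    (hk : (X.1 : Matrix (Fin n) (Fin n) F) * (k : Matrix (Fin n) (Fin n) F).map ⇑σ = k)
    (v₀ : Fin n → F₀) :
    hf σ ((k : Matrix (Fin n) (Fin n) F) *ᵥ (⇑(algebraMap F₀ F) ∘ v₀))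
      ((k : Matrix (Fin n) (Fin n) F) *ᵥ (⇑(algebraMap F₀ F) ∘ v₀)) = 0 ∧
    ∀ a : F, a + σ a = 0 → (PhiU n F q X * fieldU n q σ)
      (mkU n F q (tvS q σ ((k : Matrix (Fin n) (Fin n) F) *ᵥ (⇑(algebraMap F₀ F) ∘ v₀)) a)) =
      mkU n F q (tvS q σ ((k : Matrix (Fin n) (Fin n) F) *ᵥ (⇑(algebraMap F₀ F) ∘ v₀)) a) := by
  have hvv : hf σ ((k : Matrix (Fin n) (Fin n) F) *ᵥ (⇑(algebraMap F₀ F) ∘ v₀))
      ((k : Matrix (Fin n) (Fin n) F) *ᵥ (⇑(algebraMap F₀ F) ∘ v₀)) = 0 := by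
    rw [hf_kk hF₀ σ hσ k M₀ e hM, dotProduct_comm, skew_self h2 M₀ hMs, map_zero, mul_zero]
  refine ⟨hvv, fun a ha => ?_⟩
  have h1 := semi_tvS_psu hF σ hσ X σ (-1) (neg_ne_zero.mpr one_ne_zero) (by rw [map_neg, map_one])
    (graph_mult hF hF₀ σ hσ k M₀ e he hM hn hMs X hk) hvv ha
  rw [h1, graph_fix_vec hF₀ σ hσ k M₀ e hM X hk]
  congr 2
  rw [div_neg, div_one]
  linear_combination -ha

set_option maxHeartbeats 1600000 in
theorem symp_pair_zero_psu (hn : 3 ≤ n) (h2 : (2 : F₀) ≠ 0) (r : ℕ) (hrodd : Odd r) (hr0 : (r : F) = 0)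
    (hMs : M₀ᵀ = -M₀) (X : ↥(simU n F q))
    (hk : (X.1 : Matrix (Fin n) (Fin n) F) * (k : Matrix (Fin n) (Fin n) F).map ⇑σ = k)
    (hinj : Function.Injective (MulAut.conj : Cfsg.PSU n F q →* MulAut (Cfsg.PSU n F q)))
    (A N' : Subgroup (MulAut (Cfsg.PSU n F q))) [Finite N'] (hodd : Odd (Nat.card N'))
    (hInnA : Cfsg.Inn (Cfsg.PSU n F q) ≤ A)
    (hNA : N' ≤ A ⊓ Subgroup.centralizer {PhiU n F q X * fieldU n q σ})
    (hnorm : ∀ c ∈ A ⊓ Subgroup.centralizer {PhiU n F q X * fieldU n q σ}, ∀ y ∈ N',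
      c * y * c⁻¹ ∈ N')
    (Y : ↥(simU n F q)) (ρ : F ≃+* F) (hy : PhiU n F q Y * fieldU n q ρ ∈ N') (v₀ : Fin n → F₀) :
    hf σ ((k : Matrix (Fin n) (Fin n) F) *ᵥ (⇑(algebraMap F₀ F) ∘ v₀))
      ((Y.1 : Matrix (Fin n) (Fin n) F) *ᵥ
        (⇑ρ ∘ ((k : Matrix (Fin n) (Fin n) F) *ᵥ (⇑(algebraMap F₀ F) ∘ v₀)))) = 0 := by
  have hσσ := bar_bar hF σ hσ
  have h2F : (2 : F) ≠ 0 := by
    intro h
    apply h2
    apply (algebraMap F₀ F).injective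
    rw [map_ofNat, map_zero]
    exact h
  by_contra hβ
  set x := PhiU n F q X * fieldU n q σ with hx
  set y := PhiU n F q Y * fieldU n q ρ with hydef
  set v := (k : Matrix (Fin n) (Fin n) F) *ᵥ (⇑(algebraMap F₀ F) ∘ v₀) with hv
  obtain ⟨hvv, hfix⟩ := x_fix_tvS hF hF₀ σ hσ k M₀ e he hM (by omega) h2 hMs X hk v₀
  rw [← hv] at hvv hfix
  obtain ⟨ν, hν0, hνσ, hform⟩ := simU_mult hF σ hσ (by omega) Y
  set w := (Y.1 : Matrix (Fin n) (Fin n) F) *ᵥ (⇑ρ ∘ v) with hw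
  have hww : hf σ w w = 0 := by rw [hw, hform, hf_comp hσ, hvv, map_zero, mul_zero]
  obtain ⟨s₀, hs0, hs₀⟩ := exists_skew hF σ hσ
  have hb : s₀ + σ s₀ = 0 := by rw [hs₀]; ring
  have hyb := semi_tvS_psu hF σ hσ Y ρ ν hν0 hνσ hform hvv hb
  rw [← hw] at hyb
  set b' := ρ s₀ / ν with hb'def
  have hb'0 : b' ≠ 0 := div_ne_zero ((map_ne_zero ρ).mpr hs0) hν0
  have hb' : b' + σ b' = 0 := by
    rw [hb'def, map_div₀, hνσ, ← bar_comm σ hσ ρ s₀, ← add_div, ← map_add, hb, map_zero, zero_div]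
  have hσb' : σ b' = -b' := by linear_combination hb'
  set z := hf σ v w with hz
  have hz0 : z ≠ 0 := hβ
  have hzσ : hf σ w v = σ z := (hf_swap σ hσσ v w).symm
  have hσz0 : σ z ≠ 0 := (map_ne_zero σ).mpr hz0
  set a := -2 / (b' * σ z * z) with hadef
  have ha : a + σ a = 0 := by
    rw [hadef, map_div₀, map_neg, map_mul, map_mul, hσσ, hσb', map_ofNat]
    field_simp
    ring
  have hmemC : ∀ t : F, t + σ t = 0 → MulAut.conj (mkU n F q (tvS q σ v t)) ∈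
      A ⊓ Subgroup.centralizer {x} := by
    intro t ht
    exact ⟨hInnA ⟨_, rfl⟩, conj_mem_centralizer x _ (hfix t ht)⟩
  refine transv_pair_contra_psu hF σ hσ hn r hrodd hr0 h2F hinj N' (A ⊓ Subgroup.centralizer {x}) hodd
    hnorm y hy v w hvv hww a s₀ b' ha hb hb' (hmemC a ha) (hmemC s₀ hb) hyb ?_
  rw [hzσ, hadef]
  field_simp
  rfl

end fin

end Cfsg.Agent.Lib.Helper16.LU
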