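import Mathlib
import Cfsg.Agent.Lib.Helper16.LU15

set_option autoImplicit false
set_option linter.unusedSectionVars false
set_option linter.unusedVariables false

/-! Symplectic-type graph involutions of `PSU_n`: the core is trivial. -/

namespace Cfsg.Agent.Lib.Helper16.LU

open Matrix Module Cfsg.Agent.Lib.Helper16 Cfsg.Agent.Lib.Helper16.PU Cfsg.Agent.Lib.Helper16.UA
  Cfsg.Agent.Lib.Helper16.PG Cfsg.Agent.Lib.Helper16.UF Cfsg.Agent.Lib.Helper16.LC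
  Cfsg.Agent.Lib.Helper16.OB Cfsg.Agent.Lib.Helper16.SpSemi Cfsg.Agent.Lib.Helper16.OL
  Cfsg.Agent.Lib.Helper16.H9 Cfsg.Agent.Lib.Helper16.AP

universe u w

section
variable {n : ℕ} {F : Type u} [Field F] {F₀ : Type w} [Field F₀]

/-- a form on `F₀ⁿ` with values in `F`, linear in the first variable through `ι`, in the second
through `ι'`, and alternating, forces `ι = ι'`. -/
theorem semi_alt_trick2 (ι ι' : F₀ →+* F) (C : (Fin n → F₀) → (Fin n → F₀) → F)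
    (hadd1 : ∀ u u' w, C (u + u') w = C u w + C u' w)
    (hadd2 : ∀ u w w', C u (w + w') = C u w + C u w')
    (hs1 : ∀ (a : F₀) u w, C (a • u) w = ι a * C u w)
    (hs2 : ∀ (a : F₀) u w, C u (a • w) = ι' a * C u w)
    (halt : ∀ u, C u u = 0) (hne : ∃ u w, C u w ≠ 0) (a : F₀) : ι' a = ι a := by
  have hskew : ∀ u w, C u w = -C w u := by
    intro u w
    have := halt (u + w)
    rw [hadd1, hadd2, hadd2, halt, halt] at this
    linear_combination this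
  obtain ⟨u, w, huw⟩ := hne
  have h1 : ι a * C u w = ι' a * C u w := by
    rw [← hs1, hskew, hs2, hskew w u]
    ring
  have h3 : (ι a - ι' a) * C u w = 0 := by linear_combination h1
  rcases mul_eq_zero.mp h3 with h | h
  · exact (sub_eq_zero.mp h).symm
  · exact absurd h huw

end

section
variable {n : ℕ} {F : Type u} [Field F] {q : ℕ} {F₀ : Type w} [Field F₀] [Algebra F₀ F]
variable [Fintype F] [Fintype F₀]

/-- an odd-order automorphism whose field part fixes `F₀` has trivial field part. -/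
theorem rho_one_of_fix_alg (hF : Fintype.card F = q ^ 2) (hF₀ : Fintype.card F₀ = q)
    (σ : F ≃+* F) (hσ : ∀ a, σ a = a ^ q) (hn : 3 ≤ n)
    (N' : Subgroup (MulAut (Cfsg.PSU n F q))) [Finite N'] (hodd : Odd (Nat.card N'))
    (Y : ↥(simU n F q)) (ρ : F ≃+* F) (hy : PhiU n F q Y * fieldU n q ρ ∈ N')
    (hρalg : ∀ t : F₀, ρ (algebraMap F₀ F t) = algebraMap F₀ F t) : ρ = RingEquiv.refl F := by
  set kk := Nat.card N' with hkk
  have hρk : (ρ : RingAut F) ^ kk = 1 := by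
    have h1 : (PhiU n F q Y * fieldU n q ρ) ^ kk = 1 := pow_card_eq_one_of_mem N' _ hy
    have e0 : (⟨Y.1, Y.2⟩ : ↥(simU n F q)) = Y := rfl
    rw [← e0, ← fieldUHom_apply, pow_PhiU_fieldU] at h1
    have h3 : fieldU n q (((ρ : RingAut F) ^ kk : RingAut F) : F ≃+* F) =
        PhiU n F q (⟨tw (ρ : RingAut F) Y.1 kk, tw_mem_simU (ρ : RingAut F) Y.1 Y.2 kk⟩)⁻¹ := by
      rw [map_inv]
      exact eq_inv_of_mul_eq_one_right h1
    exact fieldU_eq_PhiU hF hn _ _ h3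
  have hρmem : (ρ : RingAut F) ∈ Subgroup.zpowers (σ : RingAut F) := by
    apply UF.mem_zpowers_of_fix
    intro t ht
    obtain ⟨t₀, rfl⟩ := mem_range_of_fixed hF hF₀ σ hσ t ht
    exact hρalg t₀
  have hσ2 : (σ : RingAut F) ^ 2 = 1 := by
    rw [← bar_order_two hF σ hσ]
    exact pow_orderOf_eq_one _
  have hρ2 : (ρ : RingAut F) ^ 2 = 1 := by
    obtain ⟨i, hi⟩ := Subgroup.mem_zpowers_iff.mp hρmem
    rw [← hi, ← zpow_natCast, ← _root_.zpow_mul, mul_comm, _root_.zpow_mul, zpow_natCast, hσ2,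
      _root_.one_zpow]
  have hρ1 : (ρ : RingAut F) = 1 := by
    obtain ⟨jj, hjj⟩ := hodd
    have := hρk
    rw [hjj, pow_succ, pow_mul, hρ2, one_pow, one_mul] at this
    exact this
  exact hρ1

end

section fin
variable {n : ℕ} {F : Type u} [Field F] {q : ℕ} {F₀ : Type w} [Field F₀] [Algebra F₀ F]
variable [Fintype F] [Fintype F₀] (hF : Fintype.card F = q ^ 2) (hF₀ : Fintype.card F₀ = q)
  (σ : F ≃+* F) (hσ : ∀ a, σ a = a ^ q)
  (k : GL (Fin n) F) (M₀ : Matrix (Fin n) (Fin n) F₀) (e : F) (he : e ≠ 0)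
  (hM : (k : Matrix (Fin n) (Fin n) F)ᵀ * (k : Matrix (Fin n) (Fin n) F).map ⇑σ =
      e • M₀.map (algebraMap F₀ F))
include hF hF₀ hσ he hM

omit hF hF₀ hσ he hM [Fintype F] [Fintype F₀] in
theorem alg_comp_add (u u' : Fin n → F₀) :
    ⇑(algebraMap F₀ F) ∘ (u + u') = ⇑(algebraMap F₀ F) ∘ u + ⇑(algebraMap F₀ F) ∘ u' := by
  funext i
  simp

omit hF hF₀ hσ he hM [Fintype F] [Fintype F₀] in
theorem alg_comp_smul (a : F₀) (u : Fin n → F₀) :
    ⇑(algebraMap F₀ F) ∘ (a • u) = algebraMap F₀ F a • (⇑(algebraMap F₀ F) ∘ u) := by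
  funext i
  simp

omit hF hF₀ hσ he hM [Fintype F] [Fintype F₀] in
theorem exists_kk_ne (z : Fin n → F) (hz : z ≠ 0) :
    ∃ u₀ : Fin n → F₀, hf σ ((k : Matrix (Fin n) (Fin n) F) *ᵥ (⇑(algebraMap F₀ F) ∘ u₀)) z ≠ 0 := by
  classical
  by_contra hcon
  push Not at hcon
  apply hz
  have h1 : (k : Matrix (Fin n) (Fin n) F)ᵀ *ᵥ (⇑σ ∘ z) = 0 := by
    funext i
    have := hcon (Pi.single i 1)
    have e1 : ⇑(algebraMap F₀ F) ∘ (Pi.single i 1 : Fin n → F₀) = (Pi.single i 1 : Fin n → F) := by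
      funext j
      by_cases hji : j = i
      · subst hji
        simp
      · simp [hji]
    rw [e1] at this
    unfold hf at this
    rw [← Matrix.vecMul_transpose, ← Matrix.dotProduct_mulVec, single_one_dotProduct] at this
    exact this
  have h2 : ⇑σ ∘ z = 0 := by
    have := congrArg (fun t => ((k⁻¹ : GL (Fin n) F) : Matrix (Fin n) (Fin n) F)ᵀ *ᵥ t) h1
    simp only [Matrix.mulVec_mulVec, Matrix.mulVec_zero] at this
    rw [← Matrix.transpose_mul, gl_mul_inv, Matrix.transpose_one, Matrix.one_mulVec] at this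
    exact this
  by_contra hz'
  exact comp_ne_zero σ z hz' h2

set_option maxHeartbeats 3200000 in
/-- **Symplectic type.** -/
theorem symp_core_psu (hn : 3 ≤ n) (hs : ¬ (n = 3 ∧ q = 2)) (h2 : (2 : F₀) ≠ 0) (X : ↥(simU n F q))
    (hk : (X.1 : Matrix (Fin n) (Fin n) F) * (k : Matrix (Fin n) (Fin n) F).map ⇑σ = k)
    (hMs : M₀ᵀ = -M₀) (hMdet : M₀.det ≠ 0)
    (hinj : Function.Injective (MulAut.conj : Cfsg.PSU n F q →* MulAut (Cfsg.PSU n F q)))
    (A N' : Subgroup (MulAut (Cfsg.PSU n F q))) [Finite N'] (hodd : Odd (Nat.card N'))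
    (hInnA : Cfsg.Inn (Cfsg.PSU n F q) ≤ A)
    (hNA : N' ≤ A ⊓ Subgroup.centralizer {PhiU n F q X * fieldU n q σ})
    (hnorm : ∀ c ∈ A ⊓ Subgroup.centralizer {PhiU n F q X * fieldU n q σ}, ∀ y ∈ N',
      c * y * c⁻¹ ∈ N') : N' = ⊥ := by
  classical
  have hσσ := bar_bar hF σ hσ
  have h2F : (2 : F) ≠ 0 := by
    intro h
    apply h2
    apply (algebraMap F₀ F).injective
    rw [map_ofNat, map_zero]
    exact h
  -- the characteristic
  obtain ⟨r, a, hr, hchar, hqr⟩ := Cfsg.Agent.Lib.Helper16.exists_char_pow hF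
  have hr2 : r ≠ 2 := by
    rintro rfl
    apply h2F
    have : ((2 : ℕ) : F) = 0 := CharP.cast_eq_zero F 2
    exact_mod_cast this
  have hrodd : Odd r := hr.odd_of_ne_two hr2
  have hr0 : (r : F) = 0 := CharP.cast_eq_zero F r
  rw [eq_bot_iff]
  intro y hy
  rw [Subgroup.mem_bot]
  obtain ⟨Y, ρ, hyeq⟩ := aut_eq' hF hn hs y
  have hyN : PhiU n F q Y * fieldU n q ρ ∈ N' := hyeq ▸ hy
  have hC0 := symp_pair_zero_psu hF hF₀ σ hσ k M₀ e he hM hn h2 r hrodd hr0 hMs X hk hinj A N' hodd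
    hInnA hNA hnorm Y ρ hyN
  -- `ρ` fixes `F₀`
  have hρalg : ∀ t : F₀, ρ (algebraMap F₀ F t) = algebraMap F₀ F t := by
    intro t
    have := semi_alt_trick2 (algebraMap F₀ F) ((ρ : F →+* F).comp (algebraMap F₀ F))
      (fun u₀ w₀ => hf σ ((k : Matrix (Fin n) (Fin n) F) *ᵥ (⇑(algebraMap F₀ F) ∘ u₀))
        ((Y.1 : Matrix (Fin n) (Fin n) F) *ᵥ
          (⇑ρ ∘ ((k : Matrix (Fin n) (Fin n) F) *ᵥ (⇑(algebraMap F₀ F) ∘ w₀)))))
      ?_ ?_ ?_ ?_ hC0 ?_ t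
    · exact this
    · intro u u' w
      show hf σ ((k : Matrix (Fin n) (Fin n) F) *ᵥ (⇑(algebraMap F₀ F) ∘ (u + u'))) _ = _
      rw [alg_comp_add, Matrix.mulVec_add, hf_add_left]
    · intro u w w'
      show hf σ _ ((Y.1 : Matrix (Fin n) (Fin n) F) *ᵥ
          (⇑ρ ∘ ((k : Matrix (Fin n) (Fin n) F) *ᵥ (⇑(algebraMap F₀ F) ∘ (w + w'))))) = _
      have : ∀ z z' : Fin n → F, (⇑ρ ∘ (z + z')) = (⇑ρ ∘ z) + (⇑ρ ∘ z') := by
        intro z z'
        funext i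
        simp
      rw [alg_comp_add, Matrix.mulVec_add, this, Matrix.mulVec_add, hf_add_right]
    · intro c u w
      show hf σ ((k : Matrix (Fin n) (Fin n) F) *ᵥ (⇑(algebraMap F₀ F) ∘ (c • u))) _ = _
      rw [alg_comp_smul, Matrix.mulVec_smul, hf_smul_left]
    · intro c u w
      show hf σ _ ((Y.1 : Matrix (Fin n) (Fin n) F) *ᵥ
          (⇑ρ ∘ ((k : Matrix (Fin n) (Fin n) F) *ᵥ (⇑(algebraMap F₀ F) ∘ (c • w))))) = _
      have : ∀ (d : F) (z : Fin n → F), (⇑ρ ∘ (d • z)) = ρ d • (⇑ρ ∘ z) := by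
        intro d z
        funext i
        simp
      rw [alg_comp_smul, Matrix.mulVec_smul, this, Matrix.mulVec_smul, hf_smul_right,
        ← bar_comm σ hσ ρ, bar_algebraMap hF₀ σ hσ]
      rfl
    · set w₀ : Fin n → F₀ := Pi.single ⟨0, by omega⟩ 1 with hw₀
      have hw0 : ⇑(algebraMap F₀ F) ∘ w₀ ≠ 0 := by
        intro h0
        have := congrFun h0 ⟨0, by omega⟩
        rw [hw₀, Function.comp_apply, Pi.single_eq_same, Pi.zero_apply, map_one] at this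
        exact one_ne_zero this
      have hz0 : (Y.1 : Matrix (Fin n) (Fin n) F) *ᵥ
          (⇑ρ ∘ ((k : Matrix (Fin n) (Fin n) F) *ᵥ (⇑(algebraMap F₀ F) ∘ w₀))) ≠ 0 :=
        gl_mulVec_ne Y.1 _ (comp_ne_zero ρ _ (gl_mulVec_ne k _ hw0))
      obtain ⟨u₀, hu₀⟩ := exists_kk_ne (F₀ := F₀) σ k _ hz0
      exact ⟨u₀, w₀, hu₀⟩
  have hρr : ρ = RingEquiv.refl F := rho_one_of_fix_alg hF hF₀ σ hσ hn N' hodd Y ρ hyN hρalg
  rw [hρr, fieldU_refl, mul_one] at hyeq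
  -- descend to the `F₀`-form
  have hYc : PhiU n F q Y ∈ Subgroup.centralizer {PhiU n F q X * fieldU n q σ} := by
    rw [← hyeq]
    exact (hNA hy).2
  obtain ⟨y₀, hy₀⟩ := ThS_surj hF hF₀ σ hσ k M₀ e he hM hn X hk Y hYc
  rw [← hyeq, ThS_apply] at hy₀
  set Y' : ↥(simU n F q) := ⟨conjK k y₀.1, conjK_mem_simU hF₀ σ hσ k M₀ e he hM y₀.1 y₀.2⟩ with hY'
  have hyN' : PhiU n F q Y' * fieldU n q (RingEquiv.refl F) ∈ N' := by
    rw [fieldU_refl, mul_one, hy₀]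
    exact hy
  have hC1 := symp_pair_zero_psu hF hF₀ σ hσ k M₀ e he hM hn h2 r hrodd hr0 hMs X hk hinj A N' hodd
    hInnA hNA hnorm Y' (RingEquiv.refl F) hyN'
  set B : Matrix (Fin n) (Fin n) F₀ := M₀ * (y₀.1 : Matrix (Fin n) (Fin n) F₀) with hB
  have hB0 : ∀ v₀ : Fin n → F₀, v₀ ⬝ᵥ B *ᵥ v₀ = 0 := by
    intro v₀
    have h1 := hC1 v₀
    have e1 : (Y'.1 : Matrix (Fin n) (Fin n) F) *ᵥ (⇑(RingEquiv.refl F) ∘
        ((k : Matrix (Fin n) (Fin n) F) *ᵥ (⇑(algebraMap F₀ F) ∘ v₀))) =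
        (k : Matrix (Fin n) (Fin n) F) *ᵥ (⇑(algebraMap F₀ F) ∘
          ((y₀.1 : Matrix (Fin n) (Fin n) F₀) *ᵥ v₀)) := by
      have e2 : (⇑(RingEquiv.refl F) ∘ ((k : Matrix (Fin n) (Fin n) F) *ᵥ (⇑(algebraMap F₀ F) ∘ v₀))) =
          (k : Matrix (Fin n) (Fin n) F) *ᵥ (⇑(algebraMap F₀ F) ∘ v₀) := rfl
      rw [e2]
      show ((conjK k y₀.1 : GL (Fin n) F) : Matrix (Fin n) (Fin n) F) *ᵥ _ = _
      rw [conjK_val, Matrix.mulVec_mulVec, Matrix.mul_assoc, Matrix.mul_assoc, gl_inv_mul, Matrix.mul_one,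
        ← Matrix.mulVec_mulVec]
      congr 1
      funext i
      exact (RingHom.map_mulVec (algebraMap F₀ F) (y₀.1 : Matrix (Fin n) (Fin n) F₀) v₀ i).symm
    rw [e1, hf_kk hF₀ σ hσ k M₀ e hM] at h1
    rcases mul_eq_zero.mp h1 with h | h
    · exact absurd h he
    · have := (map_eq_zero (algebraMap F₀ F)).mp h
      rw [hB, ← Matrix.mulVec_mulVec]
      exact this
  have hBs : ∀ u w : Fin n → F₀, u ⬝ᵥ B *ᵥ w = -(w ⬝ᵥ B *ᵥ u) := by
    intro u w
    have := hB0 (u + w)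
    rw [Matrix.mulVec_add, add_dotProduct, dotProduct_add, dotProduct_add, hB0, hB0] at this
    linear_combination this
  have hBt : Bᵀ = -B := by
    apply mat_ext_bilin
    intro a b
    rw [Matrix.neg_mulVec, dotProduct_neg, hBs a b, neg_neg]
    rw [Matrix.dotProduct_mulVec, Matrix.vecMul_transpose, dotProduct_comm]
  have hadj : (y₀.1 : Matrix (Fin n) (Fin n) F₀)ᵀ * M₀ = M₀ * (y₀.1 : Matrix (Fin n) (Fin n) F₀) := by
    have := hBt
    rw [hB, Matrix.transpose_mul, hMs, Matrix.mul_neg] at this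
    exact neg_injective this
  obtain ⟨c, hc⟩ := (mem_simM_iff M₀ y₀.1).mp y₀.2
  rw [hadj, Matrix.mul_assoc] at hc
  have hunit : IsUnit M₀.det := isUnit_iff_ne_zero.mpr hMdet
  have hyy : (y₀.1 : Matrix (Fin n) (Fin n) F₀) * (y₀.1 : Matrix (Fin n) (Fin n) F₀) = (c : F₀) • 1 := by
    have := congrArg (fun Z => M₀⁻¹ * Z) hc
    rw [← Matrix.mul_assoc, Matrix.nonsing_inv_mul _ hunit, Matrix.one_mul, Matrix.mul_smul,
      Matrix.nonsing_inv_mul _ hunit] at this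
    exact this
  have hsq : y * y = 1 := by
    rw [← hy₀, ← ThS_apply hF₀ σ hσ k M₀ e he hM y₀, ← map_mul, ThS_eq_one_iff hF hF₀ σ hσ k M₀ e he hM hn,
      Cfsg.Geo.mem_scalars_iff]
    exact ⟨c, by rw [Subgroup.coe_mul, Units.val_mul, hyy]⟩
  exact eq_one_of_sq_of_odd N' hodd _ hy hsq

end fin

end Cfsg.Agent.Lib.Helper16.LU
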