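import Mathlib
import Cfsg.Agent.Lib.Helper16.LU16

set_option autoImplicit false
set_option linter.unusedSectionVars false
set_option linter.unusedVariables false

/-! `O_{p'}` of the centraliser of a non-inner-diagonal automorphism of prime order of `PSU_n`:
final assembly. -/

namespace Cfsg.Agent.Lib.Helper16.LU

open Matrix Module Cfsg.Agent.Lib.Helper16 Cfsg.Agent.Lib.Helper16.PU Cfsg.Agent.Lib.Helper16.UA
  Cfsg.Agent.Lib.Helper16.PG Cfsg.Agent.Lib.Helper16.UF Cfsg.Agent.Lib.Helper16.LC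
  Cfsg.Agent.Lib.Helper16.OB Cfsg.Agent.Lib.Helper16.SpSemi Cfsg.Agent.Lib.Helper16.OL
  Cfsg.Agent.Lib.Helper16.H9 Cfsg.Agent.Lib.Helper16.AP

universe u

section
variable {n : ℕ} {F : Type u} [Field F] {q : ℕ} [Fintype F]

set_option maxHeartbeats 3200000 in
/-- **Graph involutions.** `O_{2'}` of the centraliser is trivial. -/
theorem graph_core_psu (hF : Fintype.card F = q ^ 2) (hn : 3 ≤ n) (hs : ¬ (n = 3 ∧ q = 2))
    (h2F : (2 : F) ≠ 0) (β : MulAut (Cfsg.PSU n F q)) (hgraph : Cfsg.IsGraphAutClassPSU β)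
    (hord2 : orderOf β = 2) (A : Subgroup (MulAut (Cfsg.PSU n F q)))
    (hInnA : Cfsg.Inn (Cfsg.PSU n F q) ≤ A) :
    Cfsg.pPrimeCore 2 ↥(A ⊓ Subgroup.centralizer {β}) = ⊥ := by
  classical
  have hfinM := finite_mulAut_psu (n := n) (F := F) (q := q)
  have hinj := conj_PSU_injective (n := n) hF hn
  obtain ⟨σ, hσ⟩ := exists_bar hF
  obtain ⟨X, hβ, hXX⟩ := graph_normal_form hF σ hσ β hgraph hord2
  set S := FixedPoints.subfield (Subgroup.zpowers (σ : F ≃+* F)) F with hS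
  let _ : Fintype S := Fintype.ofFinite _
  have hF₀ : Fintype.card S = q := by
    rw [← Nat.card_eq_fintype_card]
    exact fixed_card Nat.prime_two hF σ (bar_order_two hF σ hσ)
  obtain ⟨k, U, e, c, he, hk, hM, hU⟩ := form_of_graph (F₀ := S) hF hF₀ (by omega) σ hσ X.1 X.2 hXX
  have h2 : (2 : S) ≠ 0 := by
    intro h
    apply h2F
    have := congrArg (algebraMap S F) h
    rw [map_ofNat, map_zero] at this
    exact this
  have hMdet : (U : Matrix (Fin n) (Fin n) S).det ≠ 0 := (Matrix.isUnits_det_units U).ne_zero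
  rw [hβ]
  rcases transpose_scalar_cases U (by omega) c hU with h1 | h1
  · have hMs : (U : Matrix (Fin n) (Fin n) S)ᵀ = (U : Matrix (Fin n) (Fin n) S) := by
      rw [hU, h1, one_smul]
    apply core2_bot_of_cores
    intro N' hfin hodd hle hnorm
    exact orth_core_psu hF hF₀ σ hσ k (U : Matrix (Fin n) (Fin n) S) e he hM hn hs h2 X hk hMs hMdet hinj
      A N' hodd hInnA hle hnorm
  · have hMs : (U : Matrix (Fin n) (Fin n) S)ᵀ = -(U : Matrix (Fin n) (Fin n) S) := by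
      rw [hU, h1, neg_one_smul]
    apply core2_bot_of_cores
    intro N' hfin hodd hle hnorm
    exact symp_core_psu hF hF₀ σ hσ k (U : Matrix (Fin n) (Fin n) S) e he hM hn hs h2 X hk hMs hMdet hinj
      A N' hodd hInnA hle hnorm

set_option maxHeartbeats 3200000 in
theorem S2687_aux {r : ℕ} [hr : Fact r.Prime] [hch : CharP F r] (hF : Fintype.card F = q ^ 2)
    (hn : 3 ≤ n) (hK : IsSimpleGroup (Cfsg.PSU n F q))
    (𝒢 : Subgroup (MulAut (Cfsg.PSU n F q))) (hinn : ∀ k : Cfsg.PSU n F q, MulAut.conj k ∈ 𝒢)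
    (p : ℕ) [hp : Fact p.Prime] (hpr : p ≠ r) (β : MulAut (Cfsg.PSU n F q)) (hord : orderOf β = p)
    (hnot : ¬ Cfsg.IsInnerDiagonalAutPSU β) :
    Cfsg.pPrimeCore p ↥(𝒢 ⊓ Subgroup.centralizer {β}) ≠ ⊥ ↔
      ((∃ γ φ : MulAut (Cfsg.PSU n F q), Cfsg.IsInnerDiagonalAutPSU γ ∧
        (∃ σ : F ≃+* F, Cfsg.IsFieldAutPSUOf σ φ) ∧ β = φ.trans γ) ∧
        Nat.Coprime p (Nat.card ↥(MonoidHom.eqLocus β.toMonoidHom
          (MonoidHom.id (Cfsg.PSU n F q))))) := by
  classical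
  have hs := hs_of_simple hF hK
  have hinj := conj_PSU_injective (n := n) hF hn
  have hInnA : Cfsg.Inn (Cfsg.PSU n F q) ≤ 𝒢 := by
    rintro _ ⟨k, rfl⟩
    exact hinn k
  obtain ⟨X₀, τ₀, hβ⟩ := aut_eq' hF hn hs β
  have hτ₀ : (τ₀ : RingAut F) ≠ 1 := by
    intro h1
    apply hnot
    have : τ₀ = RingEquiv.refl F := h1
    rw [hβ, this, fieldU_refl, mul_one]
    exact PhiU_innerDiag hF (by omega) X₀
  have hex : ∃ γ φ : MulAut (Cfsg.PSU n F q), Cfsg.IsInnerDiagonalAutPSU γ ∧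
      (∃ σ : F ≃+* F, Cfsg.IsFieldAutPSUOf σ φ) ∧ β = φ.trans γ :=
    ⟨PhiU n F q X₀, fieldU n q τ₀, PhiU_innerDiag hF (by omega) X₀,
      ⟨τ₀, (isFieldAutU_iff τ₀ _).mpr rfl⟩, hβ⟩
  by_cases hp2 : p = 2
  · -- graph involutions
    have hr2 : r ≠ 2 := by
      intro h
      exact hpr (hp2.trans h.symm)
    have h2F : (2 : F) ≠ 0 := by
      intro h
      have h1 : ((2 : ℕ) : F) = 0 := by exact_mod_cast h
      rw [CharP.cast_eq_zero_iff F r] at h1
      exact hr2 ((Nat.prime_dvd_prime_iff_eq hr.out Nat.prime_two).mp h1)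
    have hord2 : orderOf β = 2 := by rw [hord, hp2]
    have hpow : (PhiU n F q X₀ * fieldU n q τ₀) ^ 2 = 1 := by
      rw [← hβ, ← hord2]
      exact pow_orderOf_eq_one _
    have hτ2 : (τ₀ : RingAut F) ^ 2 = 1 := by
      have h1 := hpow
      have e0 : (⟨X₀.1, X₀.2⟩ : ↥(simU n F q)) = X₀ := rfl
      rw [← e0, ← fieldUHom_apply, pow_PhiU_fieldU] at h1
      have h3 : fieldU n q (((τ₀ : RingAut F) ^ 2 : RingAut F) : F ≃+* F) =
          PhiU n F q (⟨tw (τ₀ : RingAut F) X₀.1 2, tw_mem_simU (τ₀ : RingAut F) X₀.1 X₀.2 2⟩)⁻¹ := by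
        rw [map_inv]
        exact eq_inv_of_mul_eq_one_right h1
      exact fieldU_eq_PhiU hF hn _ _ h3
    have hτord : orderOf (τ₀ : RingAut F) = 2 := orderOf_eq_prime hτ2 hτ₀
    have hgraph : Cfsg.IsGraphAutClassPSU β :=
      ⟨hn, PhiU n F q X₀, fieldU n q τ₀, τ₀, by
        have : orderOf τ₀ = 2 := hτord
        rw [this]
        exact even_two, PhiU_innerDiag hF (by omega) X₀, (isFieldAutU_iff τ₀ _).mpr rfl, hβ⟩
    have hbot := graph_core_psu hF hn hs h2F β hgraph hord2 𝒢 hInnA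
    rw [hp2]
    constructor
    · intro h
      exact absurd hbot h
    · rintro ⟨-, hcop⟩
      exfalso
      have hfinK := finite_psu (n := n) (F := F) (q := q)
      have hββ : β * β = 1 := by
        rw [← pow_two, ← hord2]
        exact pow_orderOf_eq_one β
      have hdvd := even_card_fixed_of_invol β hββ (psu_card_even hF hn h2F)
      have := Nat.Coprime.eq_one_of_dvd hcop hdvd
      omega
  · have hord' : orderOf (PhiU n F q X₀ * fieldUHom n F q τ₀) = p := by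
      rw [fieldUHom_apply, ← hβ]
      exact hord
    have key := core_field_psu hF hn hs τ₀ hτ₀ X₀ hinj p hp2 hord' 𝒢 hInnA
    rw [fieldUHom_apply] at key
    have hβ' : PhiU n F q X₀ * fieldU n q ((τ₀ : RingAut F) : F ≃+* F) = β := hβ.symm
    rw [hβ'] at key
    exact ⟨fun h => ⟨hex, key.mp h⟩, fun h => key.mpr h.2⟩

end

end Cfsg.Agent.Lib.Helper16.LU
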