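import Mathlib

open Polynomial

namespace Cfsg.Agent.Lib.Helper16

noncomputable def frobPoly {K : Type*} [Field K] (Q : ℕ) (a : ℕ → K) : ℕ → K[X]
  | 0 => C (a 0) * X
  | (i + 1) => (frobPoly Q a i) ^ Q + C (a (i + 1)) * X

theorem frobPoly_X_dvd {K : Type*} [Field K] (Q : ℕ) (hQ : 2 ≤ Q) (a : ℕ → K) (i : ℕ) :
    X ∣ frobPoly Q a i := by
  induction i with
  | zero => exact Dvd.intro_left _ rfl
  | succ i ih =>
    show X ∣ (frobPoly Q a i) ^ Q + C (a (i + 1)) * X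
    apply dvd_add
    · exact dvd_trans ih (dvd_pow_self _ (by omega))
    · exact Dvd.intro_left _ rfl

theorem frobPoly_pow_coeff {K : Type*} [Field K] (Q : ℕ) (hQ : 2 ≤ Q) (a : ℕ → K) (i : ℕ) :
    ((frobPoly Q a i) ^ Q).coeff 0 = 0 ∧ ((frobPoly Q a i) ^ Q).coeff 1 = 0 := by
  obtain ⟨r, hr⟩ := frobPoly_X_dvd Q hQ a i
  have h2 : (frobPoly Q a i) ^ Q = X ^ 2 * (X ^ (Q - 2) * r ^ Q) := by
    rw [hr, mul_pow, ← mul_assoc, ← pow_add]
    congr 2
    omega
  rw [h2]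
  constructor
  · rw [coeff_X_pow_mul']
    simp
  · rw [coeff_X_pow_mul']
    simp

theorem frobPoly_coeff_one {K : Type*} [Field K] (Q : ℕ) (hQ : 2 ≤ Q) (a : ℕ → K) (i : ℕ) :
    (frobPoly Q a i).coeff 1 = a i := by
  cases i with
  | zero =>
    show (C (a 0) * X).coeff 1 = a 0
    simp
  | succ i =>
    show ((frobPoly Q a i) ^ Q + C (a (i + 1)) * X).coeff 1 = a (i + 1)
    rw [coeff_add, (frobPoly_pow_coeff Q hQ a i).2]
    simp

theorem frobPoly_eq_zero {K : Type*} [Field K] (Q : ℕ) (hQ : 2 ≤ Q) (a : ℕ → K) (i : ℕ)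
    (h : frobPoly Q a i = 0) : ∀ j ≤ i, a j = 0 := by
  induction i with
  | zero =>
    intro j hj
    have hj0 : j = 0 := by omega
    subst hj0
    rw [← frobPoly_coeff_one Q hQ a 0, h, coeff_zero]
  | succ i ih =>
    intro j hj
    have h1 : a (i + 1) = 0 := by
      rw [← frobPoly_coeff_one Q hQ a (i + 1), h, coeff_zero]
    rcases Nat.lt_or_ge j (i + 1) with hlt | hge
    · apply ih _ j (by omega)
      have h2 : (frobPoly Q a i) ^ Q + C (a (i + 1)) * X = 0 := h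
      rw [h1, map_zero, zero_mul, add_zero] at h2
      exact pow_eq_zero_iff (by omega) |>.mp h2
    · have : j = i + 1 := by omega
      rw [this, h1]

theorem frobPoly_eval {K : Type*} [Field K] (Q : ℕ) (a : ℕ → K) (μ : K) (i : ℕ) :
    (frobPoly Q a (i + 1)).eval μ = ((frobPoly Q a i).eval μ) ^ Q + a (i + 1) * μ := by
  show ((frobPoly Q a i) ^ Q + C (a (i + 1)) * X).eval μ = _
  simp

theorem frobPoly_eval_zero {K : Type*} [Field K] (Q : ℕ) (a : ℕ → K) (μ : K) :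
    (frobPoly Q a 0).eval μ = a 0 * μ := by
  show (C (a 0) * X).eval μ = _
  simp

theorem frobPoly_root {K : Type*} [Field K] [IsAlgClosed K] (Q : ℕ) (hQ : 2 ≤ Q) (a : ℕ → K)
    (k : ℕ) (hne : ∃ j ≤ k, a j ≠ 0) :
    ∃ μ : K, μ ≠ 0 ∧ ((frobPoly Q a k).eval μ) ^ Q = μ := by
  have hCk : frobPoly Q a k ≠ 0 := by
    intro h0
    obtain ⟨j, hj, hja⟩ := hne
    exact hja (frobPoly_eq_zero Q hQ a k h0 j hj)
  set G : K[X] := (frobPoly Q a k) ^ Q - X with hG
  have hG0 : G.coeff 0 = 0 := by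
    rw [hG, coeff_sub, (frobPoly_pow_coeff Q hQ a k).1]
    simp
  have hG1 : G.coeff 1 = -1 := by
    rw [hG, coeff_sub, (frobPoly_pow_coeff Q hQ a k).2]
    simp
  have hGX : G = divX G * X := by
    have := divX_mul_X_add G
    rw [hG0, map_zero, add_zero] at this
    exact this.symm
  have hdegCk : 1 ≤ (frobPoly Q a k).natDegree := by
    obtain ⟨r, hr⟩ := frobPoly_X_dvd Q hQ a k
    have hr0 : r ≠ 0 := by
      rintro rfl
      rw [mul_zero] at hr
      exact hCk hr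
    rw [hr, natDegree_X_mul hr0]
    omega
  have hdegpow : 2 ≤ ((frobPoly Q a k) ^ Q).natDegree := by
    rw [natDegree_pow]
    calc 2 ≤ Q * 1 := by omega
      _ ≤ Q * (frobPoly Q a k).natDegree := Nat.mul_le_mul_left _ hdegCk
  have hdegG : 2 ≤ G.natDegree := by
    rw [hG, natDegree_sub_eq_left_of_natDegree_lt]
    · exact hdegpow
    · rw [natDegree_X]
      omega
  have hdeg1 : (divX G).degree ≠ 0 := by
    intro h0
    have h1 : (divX G).natDegree = 0 := natDegree_eq_of_degree_eq_some h0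
    rw [natDegree_divX_eq_natDegree_tsub_one] at h1
    omega
  obtain ⟨μ, hμ⟩ := IsAlgClosed.exists_root (divX G) hdeg1
  have hμ0 : μ ≠ 0 := by
    rintro rfl
    rw [IsRoot.def, ← coeff_zero_eq_eval_zero, coeff_divX, zero_add, hG1] at hμ
    exact absurd hμ (by simp)
  refine ⟨μ, hμ0, ?_⟩
  have h3 : G.eval μ = 0 := by
    rw [hGX, eval_mul, hμ, zero_mul]
  rw [hG, eval_sub, eval_pow, eval_X, sub_eq_zero] at h3
  exact h3

end Cfsg.Agent.Lib.Helper16
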