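import Mathlib
import Cfsg.Agent.Lib.Helper16.LangPoly

open Polynomial

namespace Cfsg.Agent.Lib.Helper16

theorem exists_fixed_of_semilinear {K V : Type*} [Field K] [IsAlgClosed K] [AddCommGroup V]
    [Module K V] [FiniteDimensional K V] [Nontrivial V] (φ : K →+* K) (Q : ℕ) (hQ : 2 ≤ Q)
    (hφ : ∀ a, φ a = a ^ Q) (T : V →ₛₗ[φ] V) (hT : Function.Injective T) :
    ∃ w : V, w ≠ 0 ∧ T w = w := by
  obtain ⟨v, hv⟩ := exists_ne (0 : V)
  let vs : ℕ → V := fun i => T^[i] v
  have hvs0 : vs 0 = v := rfl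
  have hvsS : ∀ i, vs (i + 1) = T (vs i) := fun i => Function.iterate_succ_apply' T i v
  have hvsne : ∀ i, vs i ≠ 0 := by
    intro i
    induction i with
    | zero => exact hv
    | succ i ih =>
      rw [hvsS]
      intro h0
      exact ih (hT (by rw [h0, map_zero]))
  have hex : ∃ m, ¬ LinearIndependent K (fun i : Fin m => vs i) := by
    refine ⟨Module.finrank K V + 1, fun hli => ?_⟩
    have := hli.fintype_card_le_finrank
    rw [Fintype.card_fin] at this
    omega
  classical
  let m := Nat.find hex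
  have hm : ¬ LinearIndependent K (fun i : Fin m => vs i) := Nat.find_spec hex
  have hmin : ∀ j < m, LinearIndependent K (fun i : Fin j => vs i) := by
    intro j hj
    have := Nat.find_min hex hj
    exact not_not.mp this
  have hm0 : m ≠ 0 := by
    intro h0
    apply hm
    rw [h0]
    exact linearIndependent_empty_type
  obtain ⟨m1, hm1⟩ : ∃ m1, m = m1 + 1 := ⟨m - 1, by omega⟩
  have hli : LinearIndependent K (fun i : Fin m1 => vs i) := hmin m1 (by omega)
  have hm' : ¬ LinearIndependent K (fun i : Fin (m1 + 1) => vs i) := by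
    rw [← hm1]; exact hm
  have hmem : vs m1 ∈ Submodule.span K (Set.range (fun i : Fin m1 => vs i)) := by
    by_contra hcon
    apply hm'
    rw [linearIndependent_finSucc']
    exact ⟨hli, hcon⟩
  have hm10 : m1 ≠ 0 := by
    rintro rfl
    have : Set.range (fun i : Fin 0 => vs i) = ∅ := Set.range_eq_empty _
    rw [this, Submodule.span_empty, Submodule.mem_bot] at hmem
    exact hvsne 0 hmem
  obtain ⟨k, rfl⟩ : ∃ k, m1 = k + 1 := ⟨m1 - 1, by omega⟩
  obtain ⟨a', ha'⟩ := (Submodule.mem_span_range_iff_exists_fun K).mp hmem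
  let a : ℕ → K := fun i => if h : i < k + 1 then a' ⟨i, h⟩ else 0
  have ha : ∑ i ∈ Finset.range (k + 1), a i • vs i = vs (k + 1) := by
    rw [← ha', ← Fin.sum_univ_eq_sum_range (fun i => a i • vs i) (k + 1)]
    apply Finset.sum_congr rfl
    intro i _
    simp only [a, dif_pos i.2]
  have hane : ∃ j ≤ k, a j ≠ 0 := by
    by_contra hcon
    push Not at hcon
    apply hvsne (k + 1)
    rw [← ha]
    apply Finset.sum_eq_zero
    intro i hi
    rw [hcon i (by rw [Finset.mem_range] at hi; omega), zero_smul]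
  obtain ⟨μ, hμ0, hμ⟩ := frobPoly_root Q hQ a k hane
  let c : ℕ → K := fun i => (frobPoly Q a i).eval μ
  have hc0 : c 0 = a 0 * μ := frobPoly_eval_zero Q a μ
  have hcS : ∀ i, c (i + 1) = (c i) ^ Q + a (i + 1) * μ := fun i => frobPoly_eval Q a μ i
  have hck : (c k) ^ Q = μ := hμ
  let w : V := ∑ i ∈ Finset.range (k + 1), c i • vs i
  refine ⟨w, ?_, ?_⟩
  · intro hw0
    have hw1 : ∑ i : Fin (k + 1), c i • vs i = 0 := by
      rw [Fin.sum_univ_eq_sum_range (fun i => c i • vs i) (k + 1)]
      exact hw0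
    have h1 := (Fintype.linearIndependent_iff.mp hli) (fun i => c i) hw1 (Fin.last k)
    have h2 : c k = 0 := h1
    rw [h2, zero_pow (by omega)] at hck
    exact hμ0 hck.symm
  · have hTw : T w = ∑ i ∈ Finset.range (k + 1), (c i) ^ Q • vs (i + 1) := by
      rw [map_sum]
      apply Finset.sum_congr rfl
      intro i _
      rw [map_smulₛₗ, hφ, hvsS]
    rw [hTw, Finset.sum_range_succ, hck, ← ha, Finset.smul_sum]
    show _ = ∑ i ∈ Finset.range (k + 1), c i • vs i
    rw [Finset.sum_range_succ' (fun i => μ • a i • vs i), Finset.sum_range_succ' (fun i => c i • vs i),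
      ← add_assoc, ← Finset.sum_add_distrib, hc0]
    congr 1
    · apply Finset.sum_congr rfl
      intro i _
      rw [hcS, add_smul, smul_smul, mul_comm μ]
    · rw [smul_smul, mul_comm μ]

end Cfsg.Agent.Lib.Helper16
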