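import Mathlib
import Cfsg.Agent.Lib.Helper16.LangFixed

open Polynomial

namespace Cfsg.Agent.Lib.Helper16

theorem exists_artin_schreier {K : Type*} [Field K] [IsAlgClosed K] (Q : ℕ) (hQ : 2 ≤ Q) (b : K) :
    ∃ β : K, β ^ Q - β = b := by
  have hdeg : (X ^ Q - X - C b : K[X]).degree ≠ 0 := by
    have h1 : (X ^ Q - X - C b : K[X]) = X ^ Q - (X + C b) := by ring
    have h2 : (X + C b : K[X]).degree < (X ^ Q : K[X]).degree := by
      rw [degree_X_pow, degree_X_add_C]
      exact_mod_cast (by omega : 1 < Q)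
    rw [h1, degree_sub_eq_left_of_degree_lt h2, degree_X_pow]
    exact_mod_cast (by omega : Q ≠ 0)
  obtain ⟨β, hβ⟩ := IsAlgClosed.exists_root _ hdeg
  refine ⟨β, ?_⟩
  rw [IsRoot.def, eval_sub, eval_sub, eval_pow, eval_X, eval_C, sub_eq_zero] at hβ
  exact hβ

theorem span_fixed_eq_top {K V : Type*} [Field K] [IsAlgClosed K] [AddCommGroup V]
    [Module K V] [FiniteDimensional K V] (φ : K →+* K) (Q : ℕ) (hQ : 2 ≤ Q)
    (hφ : ∀ a, φ a = a ^ Q) (T : V →ₛₗ[φ] V) (hT : Function.Injective T) :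
    Submodule.span K {w : V | T w = w} = ⊤ := by
  by_contra hne
  set U : Submodule K V := Submodule.span K {w : V | T w = w} with hUdef
  have hU : ∀ u ∈ U, T u ∈ U := by
    intro u hu
    induction hu using Submodule.span_induction with
    | mem x hx => rw [hx]; exact Submodule.subset_span hx
    | zero => rw [map_zero]; exact U.zero_mem
    | add x y _ _ hx hy => rw [map_add]; exact U.add_mem hx hy
    | smul a x _ hx => rw [map_smulₛₗ]; exact U.smul_mem _ hx
  have hsurj : ∀ u ∈ U, ∀ a : K, ∃ u' ∈ U, T u' = a • u := by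
    intro u hu
    induction hu using Submodule.span_induction with
    | mem x hx =>
      intro a
      obtain ⟨z, hz⟩ := IsAlgClosed.exists_pow_nat_eq a (by omega : 0 < Q)
      refine ⟨z • x, U.smul_mem _ (Submodule.subset_span hx), ?_⟩
      rw [map_smulₛₗ, hφ, hz, hx]
    | zero =>
      intro a
      exact ⟨0, U.zero_mem, by rw [map_zero, smul_zero]⟩
    | add x y _ _ hx hy =>
      intro a
      obtain ⟨x', hx'U, hx'⟩ := hx a
      obtain ⟨y', hy'U, hy'⟩ := hy a
      exact ⟨x' + y', U.add_mem hx'U hy'U, by rw [map_add, hx', hy', smul_add]⟩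
    | smul b x _ hx =>
      intro a
      obtain ⟨x', hx'U, hx'⟩ := hx (a * b)
      exact ⟨x', hx'U, by rw [hx', mul_smul]⟩
  have hAS : ∀ u ∈ U, ∀ a : K, ∃ u' ∈ U, T u' - u' = a • u := by
    intro u hu
    induction hu using Submodule.span_induction with
    | mem x hx =>
      intro a
      obtain ⟨β, hβ⟩ := exists_artin_schreier Q hQ a
      refine ⟨β • x, U.smul_mem _ (Submodule.subset_span hx), ?_⟩
      rw [map_smulₛₗ, hφ, hx, ← sub_smul, hβ]
    | zero =>
      intro a
      exact ⟨0, U.zero_mem, by rw [map_zero, smul_zero, sub_zero]⟩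
    | add x y _ _ hx hy =>
      intro a
      obtain ⟨x', hx'U, hx'⟩ := hx a
      obtain ⟨y', hy'U, hy'⟩ := hy a
      refine ⟨x' + y', U.add_mem hx'U hy'U, ?_⟩
      rw [map_add, smul_add, ← hx', ← hy']
      abel
    | smul b x _ hx =>
      intro a
      obtain ⟨x', hx'U, hx'⟩ := hx (a * b)
      exact ⟨x', hx'U, by rw [hx', mul_smul]⟩
  have hcomap : U ≤ U.comap T := fun u hu => hU u hu
  let Tq : (V ⧸ U) →ₛₗ[φ] (V ⧸ U) := U.mapQ U T hcomap
  have hTq : ∀ x, Tq (Submodule.Quotient.mk x) = Submodule.Quotient.mk (T x) := fun x => rfl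
  have hTqinj : Function.Injective Tq := by
    rw [injective_iff_map_eq_zero]
    intro y hy
    obtain ⟨x, rfl⟩ := Submodule.Quotient.mk_surjective U y
    rw [hTq, Submodule.Quotient.mk_eq_zero] at hy
    obtain ⟨u', hu'U, hu'⟩ := hsurj (T x) hy 1
    rw [one_smul] at hu'
    rw [Submodule.Quotient.mk_eq_zero, ← hT hu']
    exact hu'U
  have hnt : Nontrivial (V ⧸ U) := Submodule.Quotient.nontrivial_iff.mpr hne
  obtain ⟨y, hy0, hy⟩ := exists_fixed_of_semilinear φ Q hQ hφ Tq hTqinj
  obtain ⟨x, rfl⟩ := Submodule.Quotient.mk_surjective U y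
  rw [hTq, Submodule.Quotient.eq] at hy
  obtain ⟨u', hu'U, hu'⟩ := hAS (T x - x) hy 1
  rw [one_smul] at hu'
  have hfix : T (x - u') = x - u' := by
    rw [map_sub]
    have h3 : T x - T u' - (x - u') = (T x - x) - (T u' - u') := by abel
    have : T x - T u' - (x - u') = 0 := by
      rw [h3, hu', sub_self]
    exact sub_eq_zero.mp this
  have hxU : x ∈ U := by
    have h1 : x - u' ∈ U := Submodule.subset_span hfix
    have h2 := U.add_mem h1 hu'U
    rwa [sub_add_cancel] at h2
  exact hy0 ((Submodule.Quotient.mk_eq_zero U).mpr hxU)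

end Cfsg.Agent.Lib.Helper16
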