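import Mathlib
import Cfsg.Agent.Lib.Helper16.LangSpan

open Matrix

namespace Cfsg.Agent.Lib.Helper16

def frobSemilin {K : Type*} [Field K] (φ : K →+* K) {n : ℕ} (g : Matrix (Fin n) (Fin n) K) :
    (Fin n → K) →ₛₗ[φ] (Fin n → K) where
  toFun v := g *ᵥ (fun i => φ (v i))
  map_add' u v := by
    rw [← Matrix.mulVec_add]
    congr 1
    funext i
    simp
  map_smul' a v := by
    rw [← Matrix.mulVec_smul]
    congr 1
    funext i
    simp

theorem frobSemilin_apply {K : Type*} [Field K] (φ : K →+* K) {n : ℕ}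
    (g : Matrix (Fin n) (Fin n) K) (v : Fin n → K) :
    frobSemilin φ g v = g *ᵥ (fun i => φ (v i)) := rfl

theorem lang_matrix {K : Type*} [Field K] [IsAlgClosed K] (φ : K →+* K) (Q : ℕ) (hQ : 2 ≤ Q)
    (hφ : ∀ a, φ a = a ^ Q) {n : ℕ} (g : Matrix (Fin n) (Fin n) K) (hg : IsUnit g.det) :
    ∃ x : Matrix (Fin n) (Fin n) K, IsUnit x.det ∧ g * x.map φ = x := by
  have hinj : Function.Injective (frobSemilin φ g) := by
    intro u v huv
    rw [frobSemilin_apply, frobSemilin_apply] at huv
    have h1 := Matrix.mulVec_injective_of_isUnit ((Matrix.isUnit_iff_isUnit_det g).mpr hg) huv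
    funext i
    exact φ.injective (congrFun h1 i)
  have hspan := span_fixed_eq_top φ Q hQ hφ (frobSemilin φ g) hinj
  let b0 := Module.Basis.ofSpan (le_of_eq hspan.symm)
  have hb0 : ∀ i, frobSemilin φ g (b0 i) = b0 i := by
    intro i
    exact Module.Basis.ofSpan_subset (le_of_eq hspan.symm) ⟨i, rfl⟩
  let e := b0.indexEquiv (Pi.basisFun K (Fin n))
  let b := b0.reindex e
  have hb : ∀ j, frobSemilin φ g (b j) = b j := by
    intro j
    simp only [b, Module.Basis.reindex_apply]
    exact hb0 _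
  let x : Matrix (Fin n) (Fin n) K := (Pi.basisFun K (Fin n)).toMatrix b
  have hx : ∀ i j, x i j = b j i := by
    intro i j
    simp [x, Module.Basis.toMatrix_apply]
  refine ⟨x, ?_, ?_⟩
  · have : Invertible x := Module.Basis.invertibleToMatrix _ _
    exact Matrix.isUnit_det_of_invertible x
  · ext i j
    rw [hx, ← hb j, frobSemilin_apply, Matrix.mul_apply]
    simp only [Matrix.mulVec, dotProduct, Matrix.map_apply, hx]

end Cfsg.Agent.Lib.Helper16
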