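import Mathlib
import Cfsg.Agent.Lib.Helper18.PRL.Defs
import Cfsg.Agent.Lib.Helper1.Frat
import Cfsg.Agent.Lib.Helper21.MaxClassP
import Cfsg.Agent.Lib.Helper19.MCPAGE
import Cfsg.Agent.Lib.Helper18.GBT.Main

/-!
# Project MCX (S4144), piece SUB : proper subgroups
-/

set_option autoImplicit false

namespace Cfsg.Agent.Lib.Helper27.MCX

open Cfsg.Agent.Lib.Helper18.PRL
open scoped commutatorElement

universe u

/-- `|H : A| * |A| = |H|` -/
theorem mcxsub_relIndex_mul_card {G : Type u} [Group G] {A H : Subgroup G} (hAH : A ≤ H) :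
    A.relIndex H * Nat.card A = Nat.card H := by
  have h := Subgroup.relIndex_mul_relIndex (⊥ : Subgroup G) A H bot_le hAH
  rw [Subgroup.relIndex_bot_left, Subgroup.relIndex_bot_left] at h
  rw [mul_comm]
  exact h

/-- `|H| ≤ m * |A|`, `A ≤ H` gives `|H : A| ≤ m` -/
theorem mcxsub_relIndex_le {G : Type u} [Group G] [Finite G] (H A : Subgroup G) (hAH : A ≤ H)
    (m : ℕ) (hle : Nat.card H ≤ m * Nat.card A) : A.relIndex H ≤ m := by
  have h1 : A.relIndex H * Nat.card A = Nat.card H := mcxsub_relIndex_mul_card hAH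
  have hpos : 0 < Nat.card A := Nat.card_pos
  rw [← h1] at hle
  exact Nat.le_of_mul_le_mul_right hle hpos

section mc
variable {p : ℕ} [Fact p.Prime] {G : Type u} [Group G] [Finite G] {n : ℕ}

/-- the index of `H ⊓ G'` in a proper subgroup `H` is `1` or `p` -/
theorem mcxsub_relIndex (h : MC p G n) (hn : 3 ≤ n) (H : Subgroup G) (hH : H ≠ ⊤) :
    (commutator G).relIndex H = 1 ∨ (commutator G).relIndex H = p := by
  have hpp := (Fact.out : p.Prime)
  have hP : IsPGroup p G := IsPGroup.of_card h.1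
  set D : Subgroup G := commutator G with hD
  have : D.Normal := by rw [hD]; infer_instance
  obtain ⟨hDidx, -⟩ := Cfsg.Agent.Lib.Helper21.mc_p_index p n G hn h.1 h.2
  have hne : H ⊔ D ≠ ⊤ := by
    intro htop
    apply hH
    apply frattini_nongenerating
    apply top_unique
    rw [← htop]
    exact sup_le_sup_left (Cfsg.Agent.Lib.Helper1.pgroup_commutator_le_frattini hP) H
  have h1 : D.relIndex (H ⊔ D) = D.relIndex H := Subgroup.relIndex_sup_right H D
  have h2 : D.relIndex (H ⊔ D) * (H ⊔ D).index = p ^ 2 := by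
    rw [Subgroup.relIndex_mul_index le_sup_right, hDidx]
  have h3 : (H ⊔ D).index ≠ 1 := by
    intro h4
    exact hne (Subgroup.index_eq_one.mp h4)
  rw [h1] at h2
  have h5 : D.relIndex H ∣ p ^ 2 := Dvd.intro _ h2
  obtain ⟨k, hk, hk2⟩ := (Nat.dvd_prime_pow hpp).mp h5
  have hk3 : k ≠ 2 := by
    rintro rfl
    rw [hk2] at h2
    have : (H ⊔ D).index = 1 := by
      have hpos : 0 < p ^ 2 := pow_pos hpp.pos 2
      exact Nat.eq_of_mul_eq_mul_left hpos (by rw [h2, mul_one])
    exact h3 this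
  interval_cases k
  · left; simpa using hk2
  · right; simpa using hk2
  · exact absurd rfl hk3

/-- MCX-SUB -/
theorem sub_case (hp : p ≠ 2) (h : MC p G n) (hn : 4 ≤ n) (H : Subgroup G) (hH : H ≠ ⊤) :
    (Subgroup.closure {y : G | ∃ g ∈ H, y = g ^ p}).relIndex H ≤ p ^ p := by
  have hpp := (Fact.out : p.Prime)
  have hp2 := hpp.two_le
  set D : Subgroup G := commutator G with hD
  set A : Subgroup G := Subgroup.closure {y : G | ∃ g ∈ H, y = g ^ p} with hA
  set B : Subgroup G := Subgroup.closure {y : G | ∃ g ∈ (H ⊓ D : Subgroup G), y = g ^ p} with hB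
  have hAH : A ≤ H := by
    rw [hA, Subgroup.closure_le]
    rintro y ⟨g, hg, rfl⟩
    exact pow_mem hg p
  have hBA : B ≤ A := by
    apply Subgroup.closure_mono
    rintro y ⟨g, hg, rfl⟩
    exact ⟨g, hg.1, rfl⟩
  have hpow := fun i (hi : i ≤ n - 2) => Cfsg.Agent.Lib.Helper18.GBT.power_structure' hp h hn i hi
  have hage : Nat.card (H ⊓ D : Subgroup G) ≤ p ^ (p - 1) * Nat.card B :=
    Cfsg.Agent.Lib.helper4.MCP.card_le_agemo h (by omega)
      (fun i hi => (hpow i hi).1) (fun i hpi hi => (hpow i hi).2 hpi) (H ⊓ D) inf_le_right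
  have hrel := mcxsub_relIndex h (by omega) H hH
  have hcard : Nat.card H = D.relIndex H * Nat.card (H ⊓ D : Subgroup G) := by
    rw [← Subgroup.inf_relIndex_left, mcxsub_relIndex_mul_card inf_le_left]
  have hBle : Nat.card B ≤ Nat.card A := Subgroup.card_le_of_le hBA
  have hrp : D.relIndex H ≤ p := by
    rcases hrel with h1 | h1
    · rw [h1]; omega
    · rw [h1]
  apply mcxsub_relIndex_le H A hAH
  have hpe : p ^ p = p * p ^ (p - 1) := by
    rw [← pow_succ']
    congr 1
    omega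
  calc Nat.card H = D.relIndex H * Nat.card (H ⊓ D : Subgroup G) := hcard
    _ ≤ p * (p ^ (p - 1) * Nat.card B) := Nat.mul_le_mul hrp hage
    _ ≤ p * (p ^ (p - 1) * Nat.card A) :=
        Nat.mul_le_mul_left _ (Nat.mul_le_mul_left _ hBle)
    _ = p ^ p * Nat.card A := by rw [hpe]; ring

end mc

end Cfsg.Agent.Lib.Helper27.MCX
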