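import Mathlib
import Cfsg.Agent.Lib.helper2.MIDefs

set_option autoImplicit false
set_option linter.unusedSectionVars false
set_option linter.unusedVariables false

namespace Cfsg.Agent.Lib.Helper16.MI

open Matrix Cfsg.Agent.Lib.helper2.MI

variable {n : ℕ} {F : Type*} [Field F]

theorem rowAct_one_eq : rowAct (1 : SpecialLinearGroup (Fin n) F) = AddMonoidHom.id (Fin n → F) := by
  refine AddMonoidHom.ext fun φ => ?_
  simp [rowAct]

theorem rowAct_mul_eq (g h : SpecialLinearGroup (Fin n) F) :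
    rowAct (g * h) = (rowAct g).comp (rowAct h) := by
  refine AddMonoidHom.ext fun φ => ?_
  simp only [rowAct_apply, AddMonoidHom.comp_apply, _root_.mul_inv_rev,
    Matrix.SpecialLinearGroup.coe_mul, Matrix.vecMul_vecMul]

/-- the action of `SL_n` on additive subgroups of row vectors. -/
@[reducible] def subAct : MulAction (SpecialLinearGroup (Fin n) F) (AddSubgroup (Fin n → F)) where
  smul g B := B.map (rowAct g)
  one_smul B := by
    change B.map (rowAct 1) = B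
    rw [rowAct_one_eq, AddSubgroup.map_id]
  mul_smul g h B := by
    change B.map (rowAct (g * h)) = (B.map (rowAct h)).map (rowAct g)
    rw [rowAct_mul_eq, AddSubgroup.map_map]

/-- the stabiliser of the vector `v`. -/
def Kv (v : Fin n → F) : Subgroup (SpecialLinearGroup (Fin n) F) where
  carrier := {g | g.1 *ᵥ v = v}
  one_mem' := by simp
  mul_mem' := by
    intro a b ha hb
    change a.1 *ᵥ v = v at ha
    change b.1 *ᵥ v = v at hb
    change (a * b).1 *ᵥ v = v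
    rw [Matrix.SpecialLinearGroup.coe_mul, ← Matrix.mulVec_mulVec, hb, ha]
  inv_mem' := by
    intro a ha
    change a.1 *ᵥ v = v at ha
    change (a⁻¹ : SpecialLinearGroup (Fin n) F).1 *ᵥ v = v
    have h1 : (a⁻¹ : SpecialLinearGroup (Fin n) F).1 * a.1 = 1 := by
      have := inv_mul_cancel a
      exact congrArg Subtype.val this
    calc (a⁻¹ : SpecialLinearGroup (Fin n) F).1 *ᵥ v
        = (a⁻¹ : SpecialLinearGroup (Fin n) F).1 *ᵥ (a.1 *ᵥ v) := by rw [ha]
      _ = v := by rw [Matrix.mulVec_mulVec, h1, Matrix.one_mulVec]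

theorem mem_Kv (v : Fin n → F) (g : SpecialLinearGroup (Fin n) F) : g ∈ Kv v ↔ g.1 *ᵥ v = v := Iff.rfl

/-- the group of transvections with centre `v`. -/
def Uv (v : Fin n → F) : Subgroup (SpecialLinearGroup (Fin n) F) where
  carrier := {g | ∃ (ψ : Fin n → F) (h : ψ ⬝ᵥ v = 0), g = tv v ψ h}
  one_mem' := ⟨0, zero_dotProduct v, (tv_zero v).symm⟩
  mul_mem' := by
    rintro a b ⟨ψ, h, rfl⟩ ⟨ψ', h', rfl⟩
    exact ⟨ψ + ψ', _, tv_mul_same v ψ ψ' h h'⟩
  inv_mem' := by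
    rintro a ⟨ψ, h, rfl⟩
    exact ⟨-ψ, _, tv_inv v ψ h⟩

theorem mem_Uv (v : Fin n → F) (g : SpecialLinearGroup (Fin n) F) :
    g ∈ Uv v ↔ ∃ (ψ : Fin n → F) (h : ψ ⬝ᵥ v = 0), g = tv v ψ h := Iff.rfl

theorem Uv_le_Kv (v : Fin n → F) : Uv v ≤ Kv v := by
  rintro g ⟨ψ, h, rfl⟩
  rw [mem_Kv, tv_val, tvM_mulVec, h, zero_smul, add_zero]


/-- the stabiliser of the additive subgroup `A` of row vectors. -/
def Tst (A : AddSubgroup (Fin n → F)) : Subgroup (SpecialLinearGroup (Fin n) F) :=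
  @MulAction.stabilizer _ _ _ subAct A

theorem mem_Tst (A : AddSubgroup (Fin n → F)) (g : SpecialLinearGroup (Fin n) F) :
    g ∈ Tst A ↔ A.map (rowAct g) = A := Iff.rfl

theorem card_orbit_eq (A : AddSubgroup (Fin n → F)) (v : Fin n → F) :
    Nat.card {B : AddSubgroup (Fin n → F) | ∃ g : SpecialLinearGroup (Fin n) F,
        g.1 *ᵥ v = v ∧ B = A.map (rowAct g)} = (Tst A).relIndex (Kv v) := by
  let _ := subAct (n := n) (F := F)
  have h1 := MulAction.index_stabilizer (↥(Kv v)) A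
  have h2 : MulAction.stabilizer (↥(Kv v)) A = (Tst A).subgroupOf (Kv v) := by
    ext g
    rw [MulAction.mem_stabilizer_iff, Subgroup.mem_subgroupOf, mem_Tst]
    rfl
  have h3 : MulAction.orbit (↥(Kv v)) A = {B : AddSubgroup (Fin n → F) |
      ∃ g : SpecialLinearGroup (Fin n) F, g.1 *ᵥ v = v ∧ B = A.map (rowAct g)} := by
    ext B
    rw [MulAction.mem_orbit_iff]
    constructor
    · rintro ⟨g, rfl⟩
      exact ⟨g.1, g.2, rfl⟩
    · rintro ⟨g, hg, rfl⟩
      exact ⟨⟨g, hg⟩, rfl⟩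
  rw [Nat.card_coe_set_eq, ← h3, ← h1, h2]
  rfl


theorem tv_congr_centre (w v ψ : Fin n → F) (hw : w = v) (h' : ψ ⬝ᵥ w = 0) :
    ∃ h : ψ ⬝ᵥ v = 0, tv w ψ h' = tv v ψ h := by
  subst hw
  exact ⟨h', rfl⟩

theorem map_rowAct_le (H : Subgroup (SpecialLinearGroup (Fin n) F)) (v : Fin n → F)
    (g : SpecialLinearGroup (Fin n) F) (hgH : g ∈ H) (hgK : g ∈ Kv v) :
    (Asub H v).map (rowAct g) ≤ Asub H v := by
  rintro _ ⟨φ, ⟨h, hm⟩, rfl⟩
  obtain ⟨h', e⟩ := conj_tv g v φ h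
  obtain ⟨h'', e'⟩ := tv_congr_centre (g.1 *ᵥ v) v _ hgK h'
  refine ⟨h'', ?_⟩
  have := H.mul_mem (H.mul_mem hgH hm) (H.inv_mem hgH)
  rw [e, e'] at this
  exact this

theorem inf_le_Tst (H : Subgroup (SpecialLinearGroup (Fin n) F)) (v : Fin n → F) :
    H ⊓ Kv v ≤ Tst (Asub H v) := by
  rintro g ⟨hgH, hgK⟩
  rw [mem_Tst]
  apply le_antisymm (map_rowAct_le H v g hgH hgK)
  have h1 := map_rowAct_le H v g⁻¹ (H.inv_mem hgH) ((Kv v).inv_mem hgK)
  have h2 := AddSubgroup.map_mono (f := rowAct g) h1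
  rw [AddSubgroup.map_map, ← rowAct_mul_eq, mul_inv_cancel, rowAct_one_eq, AddSubgroup.map_id] at h2
  exact h2

theorem rowAct_tv_of_perp (v ψ φ : Fin n → F) (hψ : ψ ⬝ᵥ v = 0) (hφ : φ ⬝ᵥ v = 0) :
    rowAct (tv v ψ hψ) φ = φ := by
  rw [rowAct_apply, tv_inv, tv_val, tvM_vecMul, hφ, zero_smul, add_zero]

theorem Uv_le_Tst (H : Subgroup (SpecialLinearGroup (Fin n) F)) (v : Fin n → F) :
    Uv v ≤ Tst (Asub H v) := by
  rintro g ⟨ψ, hψ, rfl⟩
  rw [mem_Tst]
  ext φ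
  constructor
  · rintro ⟨φ', hφ', rfl⟩
    obtain ⟨h, hm⟩ := hφ'
    rw [rowAct_tv_of_perp v ψ φ' hψ h]
    exact ⟨h, hm⟩
  · rintro ⟨h, hm⟩
    exact ⟨φ, ⟨h, hm⟩, rowAct_tv_of_perp v ψ φ hψ h⟩


/-- the linear functional `φ ↦ φ ⬝ᵥ v`. -/
def dotL (v : Fin n → F) : (Fin n → F) →ₗ[F] F where
  toFun φ := φ ⬝ᵥ v
  map_add' a b := add_dotProduct a b v
  map_smul' c a := by simp [smul_dotProduct]

theorem dotL_apply (v φ : Fin n → F) : dotL v φ = φ ⬝ᵥ v := rfl

theorem dotL_surjective (v : Fin n → F) (hv : v ≠ 0) : Function.Surjective (dotL v) := by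
  obtain ⟨i, hi⟩ := Function.ne_iff.mp hv
  intro c
  refine ⟨Pi.single i (c / v i), ?_⟩
  rw [dotL_apply, single_dotProduct]
  exact div_mul_cancel₀ c hi

theorem card_ker_dotL [Fintype F] (v : Fin n → F) (hv : v ≠ 0) :
    Nat.card (LinearMap.ker (dotL v)) = Fintype.card F ^ (n - 1) := by
  have h1 := LinearMap.finrank_range_add_finrank_ker (dotL v)
  rw [LinearMap.range_eq_top.mpr (dotL_surjective v hv)] at h1
  simp only [finrank_top, Module.finrank_self, Module.finrank_fintype_fun_eq_card,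
    Fintype.card_fin] at h1
  have h2 : Module.finrank F (LinearMap.ker (dotL v)) = n - 1 := by omega
  rw [Module.natCard_eq_pow_finrank (K := F) (V := LinearMap.ker (dotL v)), h2, Nat.card_eq_fintype_card]

theorem tv_injective (v : Fin n → F) (hv : v ≠ 0) (φ φ' : Fin n → F) (h : φ ⬝ᵥ v = 0)
    (h' : φ' ⬝ᵥ v = 0) (e : tv v φ h = tv v φ' h') : φ = φ' := by
  have h2 : tvM v φ = tvM v φ' := congrArg Subtype.val e
  unfold tvM at h2
  have h3 : Matrix.vecMulVec v φ = Matrix.vecMulVec v φ' := add_left_cancel h2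
  obtain ⟨i, hi⟩ := Function.ne_iff.mp hv
  funext j
  have := congrFun (congrFun h3 i) j
  simp only [Matrix.vecMulVec_apply] at this
  exact mul_left_cancel₀ hi this

theorem card_Uv [Fintype F] (v : Fin n → F) (hv : v ≠ 0) :
    Nat.card (Uv v) = Fintype.card F ^ (n - 1) := by
  rw [← card_ker_dotL v hv]
  symm
  refine Nat.card_congr (Equiv.ofBijective
    (fun φ : LinearMap.ker (dotL v) => (⟨tv v φ.1 (LinearMap.mem_ker.mp φ.2), φ.1, _, rfl⟩ : Uv v)) ⟨?_, ?_⟩)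
  · intro φ φ' e
    apply Subtype.ext
    exact tv_injective v hv _ _ (LinearMap.mem_ker.mp φ.2) (LinearMap.mem_ker.mp φ'.2)
      (congrArg Subtype.val e)
  · rintro ⟨g, ψ, h, rfl⟩
    exact ⟨⟨ψ, LinearMap.mem_ker.mpr h⟩, rfl⟩

theorem card_Asub_eq (H : Subgroup (SpecialLinearGroup (Fin n) F)) (v : Fin n → F) (hv : v ≠ 0) :
    Nat.card (Asub H v) = Nat.card (H.subgroupOf (Uv v)) := by
  refine Nat.card_congr (Equiv.ofBijective
    (fun φ : Asub H v => (⟨⟨tv v φ.1 φ.2.choose, φ.1, _, rfl⟩, φ.2.choose_spec⟩ :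
      H.subgroupOf (Uv v))) ⟨?_, ?_⟩)
  · intro φ φ' e
    apply Subtype.ext
    exact tv_injective v hv _ _ φ.2.choose φ'.2.choose (congrArg (fun x => x.1.1) e)
  · rintro ⟨⟨g, ψ, h, rfl⟩, hm⟩
    exact ⟨⟨ψ, h, hm⟩, rfl⟩

theorem relIndex_Uv_mul_card [Fintype F] (H : Subgroup (SpecialLinearGroup (Fin n) F))
    (v : Fin n → F) (hv : v ≠ 0) :
    H.relIndex (Uv v) * Nat.card (Asub H v) = Fintype.card F ^ (n - 1) := by
  rw [card_Asub_eq H v hv, Subgroup.relIndex, Subgroup.index_mul_card, card_Uv v hv]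


/-- MI-S1 -/
theorem index_mul_card_ge [Fintype F] (H : Subgroup (SpecialLinearGroup (Fin n) F))
    (v : Fin n → F) (hv : v ≠ 0) :
    Nat.card {B : AddSubgroup (Fin n → F) | ∃ g : SpecialLinearGroup (Fin n) F,
        g.1 *ᵥ v = v ∧ B = (Asub H v).map (rowAct g)} * Fintype.card F ^ (n - 1)
      ≤ H.index * Nat.card (Asub H v) := by
  have : Finite (SpecialLinearGroup (Fin n) F) := Subtype.finite
  have hne : ∀ X Y : Subgroup (SpecialLinearGroup (Fin n) F), X.relIndex Y ≠ 0 := by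
    intro X Y
    exact Subgroup.index_ne_zero_of_finite
  set A := Asub H v with hA
  set K := Kv v with hK
  set T := Tst A with hT
  set U := Uv v with hU
  rw [card_orbit_eq A v, ← relIndex_Uv_mul_card H v hv, ← mul_assoc]
  apply Nat.mul_le_mul_right
  -- T.relIndex K * H.relIndex U ≤ H.index
  have h1 : H.relIndex K ≤ H.index := by
    rw [← Subgroup.relIndex_top_right]
    exact Subgroup.relIndex_le_of_le_right le_top (hne _ _)
  have h2 : (H ⊓ K).relIndex (T ⊓ K) * (T ⊓ K).relIndex K = (H ⊓ K).relIndex K :=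
    Subgroup.relIndex_mul_relIndex _ _ _ (le_inf (inf_le_Tst H v) inf_le_right) inf_le_right
  rw [Subgroup.inf_relIndex_right, Subgroup.inf_relIndex_right] at h2
  have hUTK : U ≤ T ⊓ K := le_inf (Uv_le_Tst H v) (Uv_le_Kv v)
  have h3 : (H ⊓ K).relIndex U ≤ (H ⊓ K).relIndex (T ⊓ K) :=
    Subgroup.relIndex_le_of_le_right hUTK (hne _ _)
  have h4 : (H ⊓ K).relIndex U = H.relIndex U := by
    rw [← Subgroup.inf_relIndex_right, inf_assoc, inf_eq_right.mpr (Uv_le_Kv v),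
      Subgroup.inf_relIndex_right]
  rw [h4] at h3
  calc T.relIndex K * H.relIndex U ≤ T.relIndex K * (H ⊓ K).relIndex (T ⊓ K) :=
        Nat.mul_le_mul_left _ h3
    _ = H.relIndex K := by rw [mul_comm, h2]
    _ ≤ H.index := h1

end Cfsg.Agent.Lib.Helper16.MI
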