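import Mathlib
import Cfsg.Agent.Lib.helper2.MIDefs
import Cfsg.Agent.Lib.Helper16.MIS1

set_option autoImplicit false
set_option linter.unusedSectionVars false
set_option linter.unusedVariables false

namespace Cfsg.Agent.Lib.Helper16.MI

open Matrix Cfsg.Agent.Lib.helper2.MI

variable {n : ℕ} {F : Type*} [Field F]

theorem inv_mulVec_mulVec (a : SpecialLinearGroup (Fin n) F) (x : Fin n → F) :
    (a⁻¹ : SpecialLinearGroup (Fin n) F).1 *ᵥ (a.1 *ᵥ x) = x := by
  have h1 : (a⁻¹ : SpecialLinearGroup (Fin n) F).1 * a.1 = 1 := by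
    have := inv_mul_cancel a
    exact congrArg Subtype.val this
  rw [Matrix.mulVec_mulVec, h1, Matrix.one_mulVec]

theorem mulVec_inv_mulVec (a : SpecialLinearGroup (Fin n) F) (x : Fin n → F) :
    a.1 *ᵥ ((a⁻¹ : SpecialLinearGroup (Fin n) F).1 *ᵥ x) = x := by
  have h1 : a.1 * (a⁻¹ : SpecialLinearGroup (Fin n) F).1 = 1 := by
    have := mul_inv_cancel a
    exact congrArg Subtype.val this
  rw [Matrix.mulVec_mulVec, h1, Matrix.one_mulVec]

theorem mulVec_ne_zero (a : SpecialLinearGroup (Fin n) F) (x : Fin n → F) (hx : x ≠ 0) :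
    a.1 *ᵥ x ≠ 0 := by
  intro h
  apply hx
  rw [← inv_mulVec_mulVec a x, h, Matrix.mulVec_zero]

/-- the stabiliser of the point `⟨v⟩`. -/
def Pv (v : Fin n → F) (hv : v ≠ 0) : Subgroup (SpecialLinearGroup (Fin n) F) where
  carrier := {g | ∃ α : F, g.1 *ᵥ v = α • v}
  one_mem' := ⟨1, by simp⟩
  mul_mem' := by
    rintro a b ⟨α, ha⟩ ⟨β, hb⟩
    refine ⟨β * α, ?_⟩
    change (a * b).1 *ᵥ v = _
    rw [Matrix.SpecialLinearGroup.coe_mul, ← Matrix.mulVec_mulVec, hb, Matrix.mulVec_smul, ha, smul_smul]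
  inv_mem' := by
    rintro a ⟨α, ha⟩
    have hα : α ≠ 0 := by
      intro h0
      rw [h0, zero_smul] at ha
      exact mulVec_ne_zero a v hv ha
    refine ⟨α⁻¹, ?_⟩
    change (a⁻¹ : SpecialLinearGroup (Fin n) F).1 *ᵥ v = _
    have h1 := inv_mulVec_mulVec a v
    rw [ha, Matrix.mulVec_smul] at h1
    calc (a⁻¹ : SpecialLinearGroup (Fin n) F).1 *ᵥ v
        = α⁻¹ • (α • (a⁻¹ : SpecialLinearGroup (Fin n) F).1 *ᵥ v) := by
          rw [smul_smul, inv_mul_cancel₀ hα, one_smul]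
      _ = α⁻¹ • v := by rw [h1]

theorem mem_Pv (v : Fin n → F) (hv : v ≠ 0) (g : SpecialLinearGroup (Fin n) F) :
    g ∈ Pv v hv ↔ ∃ α : F, g.1 *ᵥ v = α • v := Iff.rfl

theorem Uv_le_Pv (v : Fin n → F) (hv : v ≠ 0) : Uv v ≤ Pv v hv := by
  intro g hg
  exact ⟨1, by rw [one_smul]; exact Uv_le_Kv v hg⟩

theorem tv_smul_centre (α : F) (v ψ : Fin n → F) (h : ψ ⬝ᵥ (α • v) = 0) (h' : (α • ψ) ⬝ᵥ v = 0) :
    tv (α • v) ψ h = tv v (α • ψ) h' := by
  apply Subtype.ext
  change tvM (α • v) ψ = tvM v (α • ψ)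
  unfold tvM
  congr 1
  ext i j
  simp [Matrix.vecMulVec_apply]
  ring

theorem tv_congr_centre' (w v ψ : Fin n → F) (hw : w = v) (h' : ψ ⬝ᵥ w = 0) (h : ψ ⬝ᵥ v = 0) :
    tv w ψ h' = tv v ψ h := by
  subst hw
  rfl

/-- `U_v` is normalised by `P_v`. -/
theorem Uv_conj_mem (v : Fin n → F) (hv : v ≠ 0) (g : SpecialLinearGroup (Fin n) F)
    (hg : g ∈ Pv v hv) (u : SpecialLinearGroup (Fin n) F) (hu : u ∈ Uv v) :
    g * u * g⁻¹ ∈ Uv v := by
  obtain ⟨α, hα⟩ := hg
  obtain ⟨ψ, h, rfl⟩ := hu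
  obtain ⟨h', e⟩ := conj_tv g v ψ h
  rw [e]
  have h'' : (ψ ᵥ* (g⁻¹ : SpecialLinearGroup (Fin n) F).1) ⬝ᵥ (α • v) = 0 := by rw [← hα]; exact h'
  have h3 : (α • (ψ ᵥ* (g⁻¹ : SpecialLinearGroup (Fin n) F).1)) ⬝ᵥ v = 0 := by
    rw [smul_dotProduct, ← dotProduct_smul]; exact h''
  rw [tv_congr_centre' (g.1 *ᵥ v) (α • v) _ hα h' h'', tv_smul_centre α v _ h'' h3]
  exact ⟨_, h3, rfl⟩


theorem relIndex_Pv_eq [Fintype F] (H : Subgroup (SpecialLinearGroup (Fin n) F))
    (htr : PtTrans H) (v : Fin n → F) (hv : v ≠ 0) : H.relIndex (Pv v hv) = H.index := by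
  have : MulAction.IsPretransitive (↥(Pv v hv)) (SpecialLinearGroup (Fin n) F ⧸ H) := by
    refine ⟨fun a b => ?_⟩
    -- it suffices to reach every coset from the trivial one
    have key : ∀ x : SpecialLinearGroup (Fin n) F ⧸ H, ∃ p : ↥(Pv v hv),
        p • ((1 : SpecialLinearGroup (Fin n) F) : SpecialLinearGroup (Fin n) F ⧸ H) = x := by
      intro x
      induction x using QuotientGroup.induction_on with
      | H x =>
        have hx : (x⁻¹ : SpecialLinearGroup (Fin n) F).1 *ᵥ v ≠ 0 := mulVec_ne_zero _ v hv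
        obtain ⟨h', hh', c, hc, e⟩ := htr v _ hv hx
        have hp : x * h' ∈ Pv v hv := by
          refine ⟨c, ?_⟩
          rw [Matrix.SpecialLinearGroup.coe_mul, ← Matrix.mulVec_mulVec, e, Matrix.mulVec_smul,
            mulVec_inv_mulVec]
        refine ⟨⟨x * h', hp⟩, ?_⟩
        change (((x * h') * 1 : SpecialLinearGroup (Fin n) F) : SpecialLinearGroup (Fin n) F ⧸ H) = x
        rw [mul_one, QuotientGroup.eq]
        simp only [_root_.mul_inv_rev, inv_mul_cancel_right]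
        exact H.inv_mem hh'
    obtain ⟨p, hp⟩ := key a
    obtain ⟨p', hp'⟩ := key b
    refine ⟨p' * p⁻¹, ?_⟩
    rw [← hp, ← hp', mul_smul, inv_smul_smul]
  have h1 := MulAction.index_stabilizer_of_transitive (↥(Pv v hv))
    ((1 : SpecialLinearGroup (Fin n) F) : SpecialLinearGroup (Fin n) F ⧸ H)
  have h2 : MulAction.stabilizer (↥(Pv v hv))
      ((1 : SpecialLinearGroup (Fin n) F) : SpecialLinearGroup (Fin n) F ⧸ H)
        = H.subgroupOf (Pv v hv) := by
    ext p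
    rw [MulAction.mem_stabilizer_iff, Subgroup.mem_subgroupOf]
    change (((p : SpecialLinearGroup (Fin n) F) * 1 : SpecialLinearGroup (Fin n) F) :
      SpecialLinearGroup (Fin n) F ⧸ H) = _ ↔ _
    rw [mul_one, QuotientGroup.eq, mul_one, inv_mem_iff]
  rw [h2] at h1
  rw [Subgroup.relIndex, h1, Subgroup.index_eq_card]


/-- MI-S1b -/
theorem supplement_of_small [Fintype F] (hn : 2 ≤ n) (H : Subgroup (SpecialLinearGroup (Fin n) F))
    (htr : PtTrans H) (v : Fin n → F) (hv : v ≠ 0)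
    (hA : ∀ (φ : Fin n → F) (h : φ ⬝ᵥ v = 0), tv v φ h ∈ H → φ = 0)
    (hlt : H.index < 2 * Fintype.card F ^ (n - 1)) :
    ∀ g : SpecialLinearGroup (Fin n) F, (∃ α : F, g.1 *ᵥ v = α • v) →
      ∃ (φ : Fin n → F) (h : φ ⬝ᵥ v = 0), tv v φ h * g ∈ H := by
  have : Finite (SpecialLinearGroup (Fin n) F) := Subtype.finite
  set P := Pv v hv with hP
  set U' : Subgroup ↥P := (Uv v).subgroupOf P with hU'
  set L' : Subgroup ↥P := H.subgroupOf P with hL'
  have hnorm : U'.Normal := by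
    refine ⟨fun u hu g => ?_⟩
    rw [hU', Subgroup.mem_subgroupOf] at hu ⊢
    exact Uv_conj_mem v hv g.1 g.2 u.1 hu
  have hdisj : U'.subgroupOf L' = ⊥ := by
    rw [Subgroup.subgroupOf_eq_bot, Subgroup.disjoint_def]
    intro x hxU hxL
    rw [hU', Subgroup.mem_subgroupOf] at hxU
    rw [hL', Subgroup.mem_subgroupOf] at hxL
    obtain ⟨ψ, h, e⟩ := hxU
    rw [e] at hxL
    have h0 := hA ψ h hxL
    apply Subtype.ext
    rw [e]
    subst h0
    exact tv_zero v
  have hLidx : L'.index = H.index := by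
    rw [hL', ← Subgroup.relIndex]
    exact relIndex_Pv_eq H htr v hv
  have hUcard : Nat.card U' = Fintype.card F ^ (n - 1) := by
    rw [← card_Uv v hv]
    exact Nat.card_congr (Subgroup.subgroupOfEquivOfLe (Uv_le_Pv v hv)).toEquiv
  set M' : Subgroup ↥P := U' ⊔ L' with hM'
  -- |M'| = |U'| |L'|
  have h1 : U'.relIndex M' = Nat.card L' := by
    rw [hM', Subgroup.relIndex_sup_left, Subgroup.relIndex, hdisj, Subgroup.index_bot]
  have h2 : Nat.card U' * U'.relIndex M' = Nat.card M' := by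
    have e1 : Nat.card (U'.subgroupOf M') = Nat.card U' :=
      Nat.card_congr (Subgroup.subgroupOfEquivOfLe (le_sup_left : U' ≤ M')).toEquiv
    rw [Subgroup.relIndex, ← e1]
    exact Subgroup.card_mul_index _
  have h3 : M'.index * Nat.card M' = Nat.card ↥P := Subgroup.index_mul_card M'
  have h4 : L'.index * Nat.card L' = Nat.card ↥P := Subgroup.index_mul_card L'
  have hLpos : 0 < Nat.card L' := Nat.card_pos
  have h5 : M'.index * Nat.card U' = L'.index := by
    have : M'.index * Nat.card U' * Nat.card L' = L'.index * Nat.card L' := by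
      rw [h4, ← h3, ← h2, h1]; ring
    exact Nat.eq_of_mul_eq_mul_right hLpos this
  have hMne : M'.index ≠ 0 := Subgroup.index_ne_zero_of_finite
  have hUpos : 0 < Nat.card U' := Nat.card_pos
  have h6 : M'.index = 1 := by
    rw [hLidx] at h5
    rw [← h5, ← hUcard] at hlt
    have : M'.index < 2 := by
      by_contra hc
      push Not at hc
      have := Nat.mul_le_mul_right (Nat.card U') hc
      omega
    omega
  have hMtop : M' = ⊤ := Subgroup.index_eq_one.mp h6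
  intro g hg
  have hgM : (⟨g, hg⟩ : ↥P) ∈ M' := by rw [hMtop]; exact Subgroup.mem_top _
  rw [hM', Subgroup.mem_sup_of_normal_left] at hgM
  obtain ⟨y, hy, z, hz, e⟩ := hgM
  rw [hU', Subgroup.mem_subgroupOf] at hy
  rw [hL', Subgroup.mem_subgroupOf] at hz
  obtain ⟨ψ, h, ey⟩ := hy
  have eg : g = y.1 * z.1 := by
    have := congrArg Subtype.val e
    exact this.symm
  refine ⟨-ψ, by rw [neg_dotProduct, h, neg_zero], ?_⟩
  rw [← tv_inv v ψ h, eg, ey, inv_mul_cancel_left]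
  exact hz

end Cfsg.Agent.Lib.Helper16.MI
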