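import Mathlib
import Cfsg.Agent.Lib.helper2.MIDefs

set_option autoImplicit false
set_option linter.unusedSectionVars false
set_option linter.unusedVariables false

namespace Cfsg.Agent.Lib.Helper16.MI

open Matrix Cfsg.Agent.Lib.helper2.MI

variable {n : ℕ} {F : Type*} [Field F]

/-- a row vector vanishing on a subspace and taking the value `1` at a vector outside it. -/
theorem exists_row_of_notMem (p : Submodule F (Fin n → F)) (z : Fin n → F) (hz : z ∉ p) :
    ∃ ψ : Fin n → F, (∀ x ∈ p, ψ ⬝ᵥ x = 0) ∧ ψ ⬝ᵥ z = 1 := by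
  obtain ⟨f, hfz, hf⟩ := Submodule.exists_dual_map_eq_bot_of_notMem hz inferInstance
  have hzero : ∀ x ∈ p, f x = 0 := by
    intro x hx
    have : f x ∈ p.map f := Submodule.mem_map_of_mem hx
    rw [hf] at this
    exact (Submodule.mem_bot F).mp this
  have hdot : ∀ x : Fin n → F, (fun i => (f z)⁻¹ * f (Pi.single i 1)) ⬝ᵥ x = (f z)⁻¹ * f x := by
    intro x
    rw [LinearMap.pi_apply_eq_sum_univ f x, dotProduct, Finset.mul_sum]
    refine Finset.sum_congr rfl fun i _ => ?_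
    have : (fun j => if i = j then (1 : F) else 0) = Pi.single i 1 := by
      ext j
      simp [Pi.single_apply, eq_comm]
    rw [this, smul_eq_mul]
    ring
  refine ⟨fun i => (f z)⁻¹ * f (Pi.single i 1), ?_, ?_⟩
  · intro x hx
    rw [hdot, hzero x hx, mul_zero]
  · rw [hdot, inv_mul_cancel₀ hfz]


/-- Lemma A: if `y, x ∈ W`, `y ∉ Fv`, `x ∉ span{v, y}` then `F y ⊆ W`. -/
theorem smul_mem_of_stab (v : Fin n → F) (W : AddSubgroup (Fin n → F))
    (hstab : ∀ y ∈ W, (¬ ∃ c : F, y = c • v) → ∀ g : SpecialLinearGroup (Fin n) F,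
      g.1 *ᵥ v = v → g.1 *ᵥ y = y → W.map (colAct g) = W)
    (y : Fin n → F) (hy : y ∈ W) (hyv : ¬ ∃ c : F, y = c • v)
    (x : Fin n → F) (hx : x ∈ W) (hxs : x ∉ Submodule.span F ({v, y} : Set (Fin n → F))) (c : F) :
    c • y ∈ W := by
  obtain ⟨ψ, hψ0, hψ1⟩ := exists_row_of_notMem _ x hxs
  have hψv : ψ ⬝ᵥ v = 0 := hψ0 v (Submodule.subset_span (by simp))
  have hψy : ψ ⬝ᵥ y = 0 := hψ0 y (Submodule.subset_span (by simp))
  have h : ψ ⬝ᵥ (c • y) = 0 := by rw [dotProduct_smul, hψy, smul_zero]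
  have hgv : (tv (c • y) ψ h).1 *ᵥ v = v := by
    rw [tv_val, tvM_mulVec, hψv, zero_smul, add_zero]
  have hgy : (tv (c • y) ψ h).1 *ᵥ y = y := by
    rw [tv_val, tvM_mulVec, hψy, zero_smul, add_zero]
  have hgx : (tv (c • y) ψ h).1 *ᵥ x = x + c • y := by
    rw [tv_val, tvM_mulVec, hψ1, one_smul]
  have hW := hstab y hy hyv (tv (c • y) ψ h) hgv hgy
  have hmem : colAct (tv (c • y) ψ h) x ∈ W.map (colAct (tv (c • y) ψ h)) :=
    AddSubgroup.mem_map_of_mem _ hx
  rw [hW, colAct_apply, hgx] at hmem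
  have := W.sub_mem hmem hx
  rwa [add_sub_cancel_left] at this

/-- MI-W -/
theorem W_dichotomy (hn : 3 ≤ n) (v : Fin n → F) (hv : v ≠ 0)
    (W : AddSubgroup (Fin n → F)) (hvW : ∀ c : F, c • v ∈ W)
    (hstab : ∀ y ∈ W, (¬ ∃ c : F, y = c • v) → ∀ g : SpecialLinearGroup (Fin n) F,
      g.1 *ᵥ v = v → g.1 *ᵥ y = y → W.map (colAct g) = W)
    (y₀ : Fin n → F) (hy₀ : y₀ ∈ W) (hy₀v : ¬ ∃ c : F, y₀ = c • v) :
    (∀ z ∈ W, ∃ a b : F, z = a • v + b • y₀) ∨ (∀ z : Fin n → F, z ∈ W) := by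
  by_cases hcase : ∀ z ∈ W, ∃ a b : F, z = a • v + b • y₀
  · exact Or.inl hcase
  right
  push Not at hcase
  obtain ⟨z, hzW, hz⟩ := hcase
  have hzs : z ∉ Submodule.span F ({v, y₀} : Set (Fin n → F)) := by
    rw [Submodule.mem_span_pair]
    rintro ⟨a, b, e⟩
    exact hz a b e.symm
  have hzv : ¬ ∃ c : F, z = c • v := by
    rintro ⟨c, e⟩
    exact hz c 0 (by rw [zero_smul, add_zero]; exact e)
  have hy₀s : y₀ ∉ Submodule.span F ({v, z} : Set (Fin n → F)) := by
    rw [Submodule.mem_span_pair]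
    rintro ⟨a, b, e⟩
    by_cases hb : b = 0
    · apply hy₀v
      refine ⟨a, ?_⟩
      rw [← e, hb, zero_smul, add_zero]
    · apply hz (-(b⁻¹ * a)) b⁻¹
      have : b • z = y₀ - a • v := by rw [← e]; abel
      calc z = b⁻¹ • (b • z) := by rw [smul_smul, inv_mul_cancel₀ hb, one_smul]
        _ = b⁻¹ • (y₀ - a • v) := by rw [this]
        _ = -(b⁻¹ * a) • v + b⁻¹ • y₀ := by
          rw [smul_sub, smul_smul, neg_smul]; abel
  have hFy : ∀ c : F, c • y₀ ∈ W := smul_mem_of_stab v W hstab y₀ hy₀ hy₀v z hzW hzs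
  have hFz : ∀ c : F, c • z ∈ W := smul_mem_of_stab v W hstab z hzW hzv y₀ hy₀ hy₀s
  have hspan : ∀ w ∈ Submodule.span F ({v, y₀} : Set (Fin n → F)), w ∈ W := by
    intro w hw
    rw [Submodule.mem_span_pair] at hw
    obtain ⟨a, b, rfl⟩ := hw
    exact W.add_mem (hvW a) (hFy b)
  intro x
  by_cases hx : x ∈ Submodule.span F (insert z ({v, y₀} : Set (Fin n → F)))
  · rw [Submodule.mem_span_insert] at hx
    obtain ⟨b, w, hw, rfl⟩ := hx
    exact W.add_mem (hFz b) (hspan w hw)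
  · -- `x` outside `span{z, v, y₀}`: move `z` to `x` by a transvection fixing `v` and `y₀`
    have hz3 : z ∉ Submodule.span F (insert (x - z) ({v, y₀} : Set (Fin n → F))) := by
      rw [Submodule.mem_span_insert]
      rintro ⟨a, w, hw, e⟩
      by_cases ha : a = 0
      · apply hzs
        rw [e, ha, zero_smul, zero_add]
        exact hw
      · apply hx
        rw [Submodule.mem_span_insert]
        refine ⟨a⁻¹ + 1, -(a⁻¹ • w), Submodule.neg_mem _ (Submodule.smul_mem _ _ hw), ?_⟩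
        have h1 : a • x = z + a • z - w := by
          have : a • (x - z) = z - w := by rw [eq_sub_iff_add_eq]; exact e.symm
          rw [smul_sub] at this
          calc a • x = (a • x - a • z) + a • z := by abel
            _ = (z - w) + a • z := by rw [this]
            _ = z + a • z - w := by abel
        calc x = a⁻¹ • (a • x) := by rw [smul_smul, inv_mul_cancel₀ ha, one_smul]
          _ = a⁻¹ • (z + a • z - w) := by rw [h1]
          _ = (a⁻¹ + 1) • z + -(a⁻¹ • w) := by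
            rw [smul_sub, smul_add, smul_smul, inv_mul_cancel₀ ha, add_smul, one_smul]; abel
    obtain ⟨ψ, hψ0, hψ1⟩ := exists_row_of_notMem _ z hz3
    have hψv : ψ ⬝ᵥ v = 0 := hψ0 v (Submodule.subset_span (by simp))
    have hψy : ψ ⬝ᵥ y₀ = 0 := hψ0 y₀ (Submodule.subset_span (by simp))
    have h : ψ ⬝ᵥ (x - z) = 0 := hψ0 (x - z) (Submodule.subset_span (by simp))
    have hgv : (tv (x - z) ψ h).1 *ᵥ v = v := by
      rw [tv_val, tvM_mulVec, hψv, zero_smul, add_zero]
    have hgy : (tv (x - z) ψ h).1 *ᵥ y₀ = y₀ := by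
      rw [tv_val, tvM_mulVec, hψy, zero_smul, add_zero]
    have hgz : (tv (x - z) ψ h).1 *ᵥ z = x := by
      rw [tv_val, tvM_mulVec, hψ1, one_smul]; abel
    have hW := hstab y₀ hy₀ hy₀v (tv (x - z) ψ h) hgv hgy
    have hmem : colAct (tv (x - z) ψ h) z ∈ W.map (colAct (tv (x - z) ψ h)) :=
      AddSubgroup.mem_map_of_mem _ hzW
    rw [hW, colAct_apply, hgz] at hmem
    exact hmem

end Cfsg.Agent.Lib.Helper16.MI
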