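import Cfsg.Agent.Lib.Helper19.MOD.Basic

/-!
# MOD (block of project PSU, S2291; designer helper19), row A10 (helper16), VERBATIM: `mod_rel`.
-/

set_option autoImplicit false

namespace Cfsg.Agent.Lib.Helper19.MOD

open Matrix Cfsg.Agent.Lib.helper15.SUn Cfsg.Agent.Lib.helper3.STC Cfsg.Agent.Lib.Helper27.STU
  Cfsg.Agent.Lib.helper15.St2

variable {F : Type*} [Field F] [StarRing F] {n q m : ℕ} {od : Prop} (C : Ctx F n q m od)

/-- A10 [M] -/
theorem mod_rel (a b : Fin m ⊕ Fin m) (hab : a ≠ b) (hab' : a ≠ ng b) (t u : F) (ht : t ≠ 0) :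
    cj (C.xsE a b t * C.xsE b a (-t⁻¹) * C.xsE a b t) (C.xsE a b u) = C.xsE b a (-(t⁻¹ ^ 2 * u)) := by
  have h1 := ne_ng_symm hab'
  have hst : C.σ t ≠ 0 := fun h => ht (by rw [← C.σσ t, h, map_zero])
  have key : (C.xsE a b t * C.xsE b a (-t⁻¹) * C.xsE a b t) * C.xsE a b u =
      C.xsE b a (-(t⁻¹ ^ 2 * u)) * (C.xsE a b t * C.xsE b a (-t⁻¹) * C.xsE a b t) := by
    apply su_ext
    simp only [su_coe_mul, C.coe_xsE hab, C.coe_xsE hab.symm]
    apply mat_ext
    intro x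
    simp only [← Matrix.mulVec_mulVec, C.xsM_mulVec, herm_add_left, herm_sub_left, herm_smul_left, C.gram, ng_ng,
      ng_inj, ng_eq_iff, hab, hab', h1, hab.symm, if_true, if_false, map_mul, map_neg, map_inv₀, map_pow, ne_ng, ng_ne]
    match_scalars <;> field_simp <;> ring1
  unfold cj
  rw [key]
  group

end Cfsg.Agent.Lib.Helper19.MOD
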