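import Cfsg.Agent.Lib.Helper19.MOD.Basic

/-!
# MOD (block of project PSU, S2291; designer helper19), row A4 (helper16), VERBATIM: `mod_comm_ss`.
-/

set_option autoImplicit false

namespace Cfsg.Agent.Lib.Helper19.MOD

open Matrix Cfsg.Agent.Lib.helper15.SUn Cfsg.Agent.Lib.helper3.STC Cfsg.Agent.Lib.Helper27.STU
  Cfsg.Agent.Lib.helper15.St2

variable {F : Type*} [Field F] [StarRing F] {n q m : ℕ} {od : Prop} (C : Ctx F n q m od)

/-- A4 [M] -/
theorem mod_comm_ss (a b c d : Fin m ⊕ Fin m) (hab : a ≠ b) (hab' : a ≠ ng b) (hcd : c ≠ d) (hcd' : c ≠ ng d)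
    (hbc : b ≠ c) (had : a ≠ d) (hbd : b ≠ ng d) (hac : a ≠ ng c) (t u : F) :
    C.xsE a b t * C.xsE c d u = C.xsE c d u * C.xsE a b t := by
  have h1 := ne_ng_symm hab'
  have h2 := ne_ng_symm hcd'
  have h3 := ne_ng_symm hbd
  have h4 := ne_ng_symm hac
  apply su_ext
  rw [su_coe_mul, su_coe_mul, C.coe_xsE hab, C.coe_xsE hcd]
  apply mat_ext
  intro x
  simp only [← Matrix.mulVec_mulVec, C.xsM_mulVec, herm_add_left, herm_sub_left, herm_smul_left, C.gram, ng_ng,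
    ng_inj, ng_eq_iff, hab, hab', hcd, hcd', hbc, had, hbd, hac, h1, h2, h3, h4, hab.symm, hcd.symm, hbc.symm,
    had.symm, if_true, if_false, map_mul, ne_ng, ng_ne]
  module

end Cfsg.Agent.Lib.Helper19.MOD
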