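import Cfsg.Agent.Lib.Helper19.MOD.Basic

/-!
# MOD (block of project PSU, S2291; designer helper19), row A7 (helper16), VERBATIM: `mod_ssl`.
-/

set_option autoImplicit false

namespace Cfsg.Agent.Lib.Helper19.MOD

open Matrix Cfsg.Agent.Lib.helper15.SUn Cfsg.Agent.Lib.helper3.STC Cfsg.Agent.Lib.Helper27.STU
  Cfsg.Agent.Lib.helper15.St2

variable {F : Type*} [Field F] [StarRing F] {n q m : ℕ} {od : Prop} (C : Ctx F n q m od)

/-- A7 [M] -/
theorem mod_ssl (a b : Fin m ⊕ Fin m) (hab : a ≠ b) (hab' : a ≠ ng b) (t u : F) :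
    C.xsE a b t * C.xsE b (ng a) u * (C.xsE a b t)⁻¹ * (C.xsE b (ng a) u)⁻¹ = C.xlE a (Lam.tr (t * u)) := by
  have h1 := ne_ng_symm hab'
  apply su_comm_eq
  rw [C.coe_xsE hab, C.coe_xsE h1, C.coe_xlE]
  apply mat_ext
  intro x
  simp only [← Matrix.mulVec_mulVec, C.xsM_mulVec, C.xlM_mulVec, herm_add_left, herm_sub_left, herm_smul_left,
    C.gram, C.gram_d, C.gram_fd, ng_ng, Lam.tr_v, Lam.tr_c, C.hs,
    ng_inj, ng_eq_iff, hab, hab', h1, hab.symm, if_true, if_false, map_mul, map_zero, ne_ng, ng_ne]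
  module

end Cfsg.Agent.Lib.Helper19.MOD
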