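import Cfsg.Agent.Lib.Helper19.MOD.Basic

/-!
# MOD (block of project PSU, S2291; designer helper19), row A8 (helper16), VERBATIM: `mod_ls`.
Extra: `a8_lam_h` (the relation of `ξ : Lam F od` with the Gram entry of `dv`).
-/

set_option autoImplicit false

namespace Cfsg.Agent.Lib.Helper19.MOD

open Matrix Cfsg.Agent.Lib.helper15.SUn Cfsg.Agent.Lib.helper3.STC Cfsg.Agent.Lib.Helper27.STU
  Cfsg.Agent.Lib.helper15.St2

variable {F : Type*} [Field F] [StarRing F] {n q m : ℕ} {od : Prop} (C : Ctx F n q m od)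

/-- the defining relation of `ξ`, with the Gram entry of `dv` -/
theorem a8_lam_h (ξ η : Lam F od) :
    ξ.v * C.σ η.v * Cfsg.hermForm n F q C.dv C.dv = ξ.v * C.σ η.v := by
  by_cases h : od
  · rw [C.gram_dd h, mul_one]
  · rw [ξ.hv h, zero_mul, zero_mul]

theorem a8_lam_h' (ξ : Lam F od) : ξ.c + C.σ ξ.c + ξ.v * C.σ ξ.v = 0 := by
  have := ξ.h
  rw [C.hs, C.hs] at this
  exact this

/-- A8 [M] -/
theorem mod_ls (a b : Fin m ⊕ Fin m) (hab : a ≠ b) (hab' : a ≠ ng b) (ξ : Lam F od) (u : F) :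
    C.xlE a ξ * C.xsE (ng a) b u * (C.xlE a ξ)⁻¹ * (C.xsE (ng a) b u)⁻¹ =
      C.xsE a b (ξ.c * u) * C.xlE (ng b) (Lam.act (star u) (Lam.bar ξ)) := by
  have h1 := ne_ng_symm hab'
  have h2 : ng a ≠ b := fun h => hab' (ng_eq_iff.1 h)
  have e1 := a8_lam_h C ξ ξ
  have e2 := a8_lam_h' C ξ
  apply su_comm_eq
  rw [su_coe_mul, C.coe_xsE hab, C.coe_xsE h2, C.coe_xlE, C.coe_xlE]
  apply mat_ext
  intro x
  simp only [← Matrix.mulVec_mulVec, C.xsM_mulVec, C.xlM_mulVec, herm_add_left, herm_sub_left, herm_smul_left,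
    C.gram, C.gram_d, C.gram_fd, ng_ng, Lam.act_v, Lam.act_c, Lam.bar_v, Lam.bar_c, C.hs, C.σσ,
    ng_eq_iff, hab, h1, hab.symm, if_true, if_false, map_mul, ne_ng, ng_ne]
  match_scalars <;> first
    | ring1
    | linear_combination (C.σ u * Cfsg.hermForm n F q x (C.fr a)) * e2 +
        (C.σ u * Cfsg.hermForm n F q x (C.fr a)) * e1

end Cfsg.Agent.Lib.Helper19.MOD
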