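import Cfsg.Agent.Lib.Helper19.MOD.Basic
import Cfsg.Agent.Lib.Helper16.MODA8

/-!
# MOD (block of project PSU, S2291; designer helper19), row A9 (helper16), VERBATIM: `mod_hh`.
-/

set_option autoImplicit false

namespace Cfsg.Agent.Lib.Helper19.MOD

open Matrix Cfsg.Agent.Lib.helper15.SUn Cfsg.Agent.Lib.helper3.STC Cfsg.Agent.Lib.Helper27.STU
  Cfsg.Agent.Lib.helper15.St2

variable {F : Type*} [Field F] [StarRing F] {n q m : ℕ} {od : Prop} (C : Ctx F n q m od)

/-- A9 [M] -/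
theorem mod_hh (a b : Fin m ⊕ Fin m) (hab : a ≠ b) (hab' : a ≠ ng b) (ξ η : Lam F od) :
    C.xlE a ξ * C.xlE b η * (C.xlE a ξ)⁻¹ * (C.xlE b η)⁻¹ = C.xsE a (ng b) (-(ξ.v * star η.v)) := by
  have h1 := ne_ng_symm hab'
  have e1 := a8_lam_h C η ξ
  have e2 := a8_lam_h C ξ η
  apply su_comm_eq
  rw [C.coe_xsE hab', C.coe_xlE, C.coe_xlE]
  apply mat_ext
  intro x
  simp only [← Matrix.mulVec_mulVec, C.xsM_mulVec, C.xlM_mulVec, herm_add_left, herm_sub_left, herm_smul_left,
    C.gram, C.gram_d, C.gram_fd, ng_ng, C.hs, C.σσ,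
    hab', h1, if_false, map_mul, map_neg, ne_ng]
  match_scalars <;> first
    | ring1
    | linear_combination (Cfsg.hermForm n F q x (C.fr a)) * e1
    | linear_combination (-(Cfsg.hermForm n F q x (C.fr a))) * e1
    | linear_combination (Cfsg.hermForm n F q x (C.fr b)) * e2
    | linear_combination (-(Cfsg.hermForm n F q x (C.fr b))) * e2

end Cfsg.Agent.Lib.Helper19.MOD
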