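import Mathlib
import Cfsg.Agent.Lib.helper7.NCV.Defs

/-!
# Project NCV (designer helper7), rows C9 (`uv_fix`) and C10 (`uv_eig`).
-/

set_option autoImplicit false

namespace Cfsg.Agent.Lib.helper7.NCV

open Matrix

universe u

variable {F : Type u} [Field F] {n : ℕ}

/-- the entries of `uvM v *ᵥ w` -/
theorem ncvc9_mulVec (v w : Fin 2 → F) :
    (uvM v *ᵥ w) 0 = w 0 + (v 0 * w 1 - v 1 * w 0) * v 0 ∧
    (uvM v *ᵥ w) 1 = w 1 + (v 0 * w 1 - v 1 * w 0) * v 1 := by
  constructor
  · simp only [uvM, Matrix.mulVec, dotProduct, Fin.sum_univ_two, Matrix.of_apply,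
      Matrix.cons_val_zero, Matrix.cons_val_one, Matrix.cons_val', Matrix.empty_val',
      Matrix.cons_val_fin_one]
    ring
  · simp only [uvM, Matrix.mulVec, dotProduct, Fin.sum_univ_two, Matrix.of_apply,
      Matrix.cons_val_zero, Matrix.cons_val_one, Matrix.cons_val', Matrix.empty_val',
      Matrix.cons_val_fin_one]
    ring

/-- `uvM v *ᵥ w = w + det[v|w] • v` -/
theorem ncvc9_mulVec_eq (v w : Fin 2 → F) :
    uvM v *ᵥ w = w + (v 0 * w 1 - v 1 * w 0) • v := by
  obtain ⟨h0, h1⟩ := ncvc9_mulVec v w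
  funext i
  fin_cases i
  · simpa using h0
  · simpa using h1

/-- **C9 (UVFIX).** -/
theorem uv_fix (v : Fin 2 → F) (hv : v ≠ 0) (w : Fin 2 → F) (h : uvM v *ᵥ w = w) :
    ∃ c : F, w = c • v := by
  obtain ⟨h0, h1⟩ := ncvc9_mulVec v w
  rw [h] at h0 h1
  have e0 : (v 0 * w 1 - v 1 * w 0) * v 0 = 0 := by linear_combination -h0
  have e1 : (v 0 * w 1 - v 1 * w 0) * v 1 = 0 := by linear_combination -h1
  have hd : v 0 * w 1 - v 1 * w 0 = 0 := by
    by_contra hne
    apply hv
    funext i
    fin_cases i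
    · simpa [hne] using e0
    · simpa [hne] using e1
  by_cases hv0 : v 0 = 0
  · have hv1 : v 1 ≠ 0 := by
      intro hv1
      apply hv
      funext i
      fin_cases i
      · simpa using hv0
      · simpa using hv1
    refine ⟨w 1 / v 1, ?_⟩
    funext i
    fin_cases i
    · have : w 0 = 0 := by
        have : v 1 * w 0 = 0 := by rw [hv0] at hd; linear_combination -hd
        rcases mul_eq_zero.mp this with h | h
        · exact absurd h hv1
        · exact h
      simp [this, hv0]
    · simp only [Fin.mk_one, Fin.isValue, Pi.smul_apply, smul_eq_mul]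
      field_simp
  · refine ⟨w 0 / v 0, ?_⟩
    funext i
    fin_cases i
    · simp only [Fin.zero_eta, Fin.isValue, Pi.smul_apply, smul_eq_mul]
      field_simp
    · simp only [Fin.mk_one, Fin.isValue, Pi.smul_apply, smul_eq_mul]
      field_simp
      linear_combination hd

/-- **C10 (UVEIG).** -/
theorem uv_eig (v : Fin 2 → F) (c : F) (w : Fin 2 → F) (hw : w ≠ 0)
    (h : uvM v *ᵥ w = c • w) : c = 1 := by
  obtain ⟨h0, h1⟩ := ncvc9_mulVec v w
  rw [h] at h0 h1
  simp only [Pi.smul_apply, smul_eq_mul] at h0 h1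
  have hcd : (c - 1) * (v 0 * w 1 - v 1 * w 0) = 0 := by
    linear_combination (-(v 1)) * h0 + (v 0) * h1
  by_contra hc
  have hc1 : c - 1 ≠ 0 := sub_ne_zero.mpr hc
  have hd : v 0 * w 1 - v 1 * w 0 = 0 := by
    rcases mul_eq_zero.mp hcd with h | h
    · exact absurd h hc1
    · exact h
  apply hw
  funext i
  fin_cases i
  · have : (c - 1) * w 0 = 0 := by rw [hd] at h0; linear_combination h0
    rcases mul_eq_zero.mp this with h | h
    · exact absurd h hc1
    · simpa using h
  · have : (c - 1) * w 1 = 0 := by rw [hd] at h1; linear_combination h1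
    rcases mul_eq_zero.mp this with h | h
    · exact absurd h hc1
    · simpa using h

end Cfsg.Agent.Lib.helper7.NCV
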