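import Mathlib
import Cfsg.Agent.Lib.helper7.NCV.Defs
import Cfsg.Agent.Lib.Helper16.NCVC9

/-!
# Project NCV (designer helper7), rows C11 (`sepa`) and C12 (`sepb`): cores with the statement of
`lr_col` (row A10, in its CORRECTED form with `huv : u *ᵥ v = v`) as a hypothesis.
-/

set_option autoImplicit false

namespace Cfsg.Agent.Lib.helper7.NCV

open Matrix

universe u

variable {F : Type u} [Field F] {n : ℕ}

/-- the matrix of `toGL (uvSL v)` is `uvM v` -/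
theorem ncvc11_coe (v : Fin 2 → F) :
    ((Matrix.SpecialLinearGroup.toGL (uvSL v) : GL (Fin 2) F) : Matrix (Fin 2) (Fin 2) F) =
      uvM v := rfl

/-- `u_v` fixes `v` -/
theorem ncvc11_self (v : Fin 2 → F) : uvM v *ᵥ v = v := by
  rw [ncvc9_mulVec_eq]
  have : v 0 * v 1 - v 1 * v 0 = 0 := by ring
  rw [this, zero_smul, add_zero]

/-- `stab` only depends on the line -/
theorem ncvc11_stab_smul (c : F) (hc : c ≠ 0) (v : Fin n → F) : stab (c • v) = stab v := by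
  ext x
  rw [mem_stab, mem_stab]
  constructor
  · rintro ⟨d, hd⟩
    refine ⟨d, ?_⟩
    rw [Matrix.mulVec_smul, smul_comm d c v] at hd
    have := congrArg (fun w => c⁻¹ • w) hd
    simp only [smul_smul, inv_mul_cancel₀ hc, one_smul] at this
    rw [← mul_assoc, inv_mul_cancel₀ hc, one_mul] at this
    exact this
  · rintro ⟨d, hd⟩
    refine ⟨d, ?_⟩
    rw [Matrix.mulVec_smul, hd, smul_comm]

/-- with `lr_col`: a nilpotent `X` containing `u_v` stabilises `F v` -/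
theorem ncvc11_le_stab (X : Subgroup (GL (Fin 2) F))
    (hlr : ∀ (u : GL (Fin 2) F), u ∈ X → ∀ v : Fin 2 → F,
      (u : Matrix (Fin 2) (Fin 2) F) *ᵥ v = v →
      (∀ w : Fin 2 → F, (u : Matrix (Fin 2) (Fin 2) F) *ᵥ w = w → ∃ c : F, w = c • v) →
      (∀ (c : F) (w : Fin 2 → F), w ≠ 0 →
        (u : Matrix (Fin 2) (Fin 2) F) *ᵥ w = c • w → c = 1) → X ≤ stab v)
    (v : Fin 2 → F) (hv : v ≠ 0)
    (h : Matrix.SpecialLinearGroup.toGL (uvSL v) ∈ X) : X ≤ stab v := by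
  apply hlr _ h v
  · rw [ncvc11_coe]
    exact ncvc11_self v
  · intro w hw
    rw [ncvc11_coe] at hw
    exact uv_fix v hv w hw
  · intro c w hw0 hw
    rw [ncvc11_coe] at hw
    exact uv_eig v c w hw0 hw

/-- **C11 (SEPA)**, core: `lr_col` (for this `X`) as a hypothesis. -/
theorem ncvc11_core (X : Subgroup (GL (Fin 2) F))
    (hlr : ∀ (u : GL (Fin 2) F), u ∈ X → ∀ v : Fin 2 → F,
      (u : Matrix (Fin 2) (Fin 2) F) *ᵥ v = v →
      (∀ w : Fin 2 → F, (u : Matrix (Fin 2) (Fin 2) F) *ᵥ w = w → ∃ c : F, w = c • v) →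
      (∀ (c : F) (w : Fin 2 → F), w ≠ 0 →
        (u : Matrix (Fin 2) (Fin 2) F) *ᵥ w = c • w → c = 1) → X ≤ stab v)
    (v v' : Fin 2 → F) (hv : v ≠ 0) (hv' : v' ≠ 0)
    (h : Matrix.SpecialLinearGroup.toGL (uvSL v) ∈ X)
    (h' : Matrix.SpecialLinearGroup.toGL (uvSL v') ∈ X) : stab v = stab v' := by
  have hX : X ≤ stab v := ncvc11_le_stab X hlr v hv h
  obtain ⟨c, hc⟩ := mem_stab.mp (hX h')
  rw [ncvc11_coe] at hc
  have hc1 : c = 1 := uv_eig v' c v hv hc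
  rw [hc1, one_smul] at hc
  obtain ⟨c', hc'⟩ := uv_fix v' hv' v hc
  have hc0 : c' ≠ 0 := by
    intro h0
    apply hv
    rw [hc', h0, zero_smul]
  rw [hc', ncvc11_stab_smul c' hc0 v']

/-- **C12 (SEPB)**, core: `lr_col` (for this `X`) as a hypothesis. -/
theorem ncvc12_core (X : Subgroup (GL (Fin 2) F))
    (hlr : ∀ (u : GL (Fin 2) F), u ∈ X → ∀ v : Fin 2 → F,
      (u : Matrix (Fin 2) (Fin 2) F) *ᵥ v = v →
      (∀ w : Fin 2 → F, (u : Matrix (Fin 2) (Fin 2) F) *ᵥ w = w → ∃ c : F, w = c • v) →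
      (∀ (c : F) (w : Fin 2 → F), w ≠ 0 →
        (u : Matrix (Fin 2) (Fin 2) F) *ᵥ w = c • w → c = 1) → X ≤ stab v)
    (v : Fin 2 → F) (hv : v ≠ 0)
    (g : GL (Fin 2) F) (hi : Irr (g : Matrix (Fin 2) (Fin 2) F))
    (h : Matrix.SpecialLinearGroup.toGL (uvSL v) ∈ X) (hg : g ∈ X) : False := by
  have hX : X ≤ stab v := ncvc11_le_stab X hlr v hv h
  obtain ⟨c, hc⟩ := mem_stab.mp (hX hg)
  exact hi v hv c hc

end Cfsg.Agent.Lib.helper7.NCV
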