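import Mathlib
import Cfsg.Agent.Lib.helper7.NCV.Defs
import Cfsg.Agent.Lib.Helper1.NCVA5core
import Cfsg.Agent.Lib.Helper16.NCVC9
import Cfsg.Agent.Lib.Helper16.NCVC11core

/-!
# Project NCV (designer helper7), rows C11 (`sepa`) and C12 (`sepb`), verbatim.

`ncvc11_lr_col` is an own-name copy of the CORRECTED row A10 (`lr_col` with the extra hypothesis
`huv : u *ᵥ v = v`), from `ncva5_core` (helper1's corrected `lr_abstract`).
-/

set_option autoImplicit false

namespace Cfsg.Agent.Lib.helper7.NCV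

open Matrix

universe u

variable {F : Type u} [Field F] {n : ℕ}

/-- corrected `lr_col`: a nilpotent linear group containing `u`, where `u` fixes `v`, has fixed
space inside `F v` and only the eigenvalue `1`, stabilises the line `F v` -/
theorem ncvc11_lr_col (X : Subgroup (GL (Fin n) F)) [Group.IsNilpotent ↥X] (u : GL (Fin n) F)
    (hu : u ∈ X) (v : Fin n → F)
    (huv : (u : Matrix (Fin n) (Fin n) F) *ᵥ v = v)
    (hfix : ∀ w : Fin n → F, (u : Matrix (Fin n) (Fin n) F) *ᵥ w = w → ∃ c : F, w = c • v)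
    (heig : ∀ (c : F) (w : Fin n → F), w ≠ 0 →
      (u : Matrix (Fin n) (Fin n) F) *ᵥ w = c • w → c = 1) :
    X ≤ stab v := by
  intro x hx
  have key := ncva5_core (F := F) (Γ := ↥X) (V := Fin n → F)
    (fun x w => ((x : GL (Fin n) F) : Matrix (Fin n) (Fin n) F) *ᵥ w)
    (fun w => by simp)
    (fun x y w => by
      show ((x * y : ↥X) : GL (Fin n) F).1 *ᵥ w = _
      rw [Subgroup.coe_mul, Units.val_mul, ← Matrix.mulVec_mulVec])
    (fun x c w => Matrix.mulVec_smul _ c w)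
    ⟨u, hu⟩ v huv hfix heig ⟨x, hx⟩
  exact mem_stab.mpr key

/-- **C11 (SEPA).** -/
theorem sepa (X : Subgroup (GL (Fin 2) F)) [Group.IsNilpotent ↥X] (v v' : Fin 2 → F)
    (hv : v ≠ 0) (hv' : v' ≠ 0)
    (h : Matrix.SpecialLinearGroup.toGL (uvSL v) ∈ X)
    (h' : Matrix.SpecialLinearGroup.toGL (uvSL v') ∈ X) : stab v = stab v' :=
  ncvc11_core X (fun u hu v huv hfix heig => ncvc11_lr_col X u hu v huv hfix heig) v v' hv hv' h h'

/-- **C12 (SEPB).** -/
theorem sepb (X : Subgroup (GL (Fin 2) F)) [Group.IsNilpotent ↥X] (v : Fin 2 → F) (hv : v ≠ 0)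
    (g : GL (Fin 2) F) (hi : Irr (g : Matrix (Fin 2) (Fin 2) F))
    (h : Matrix.SpecialLinearGroup.toGL (uvSL v) ∈ X) (hg : g ∈ X) : False :=
  ncvc12_core X (fun u hu v huv hfix heig => ncvc11_lr_col X u hu v huv hfix heig) v hv g hi h hg

end Cfsg.Agent.Lib.helper7.NCV
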