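import Mathlib
import Cfsg.Agent.Lib.helper7.NPC.Defs

/-!
# Project NPC (S3875), piece A4 : `exists_invariant_sylow`
-/

set_option autoImplicit false
set_option linter.unusedVariables false
set_option linter.unusedSectionVars false

namespace Cfsg.Agent.Lib.helper7.NPC

universe u

variable {H : Type u} [Group H] [Finite H] {p : ℕ} [Fact p.Prime]

/-- an element `x` of order `p` normalizes some Sylow `r`-subgroup of the normal subgroup `R`, provided that
`p` does not divide the order of `R`. -/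
theorem npca4_exists_fixed (R : Subgroup H) [R.Normal] (hR : ¬ p ∣ Nat.card ↥R) (x : H)
    (hx : orderOf x = p) (r : ℕ) [Fact r.Prime] :
    ∃ Q : Sylow r ↥R, (MulAut.conjNormal x : MulAut ↥R) • Q = Q := by
  classical
  let K : Subgroup H := Subgroup.zpowers x
  have hK : IsPGroup p ↥K := by
    apply IsPGroup.of_card (n := 1)
    rw [pow_one, Nat.card_zpowers, hx]
  letI : MulAction ↥K (Sylow r ↥R) :=
    MulAction.compHom (Sylow r ↥R) ((MulAut.conjNormal (H := R)).comp K.subtype)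
  have hcard : ¬ p ∣ Nat.card (Sylow r ↥R) := by
    intro hdvd
    obtain ⟨Q0⟩ : Nonempty (Sylow r ↥R) := inferInstance
    have h1 : Nat.card (Sylow r ↥R) ∣ Nat.card ↥R := by
      rw [Q0.card_eq_index_normalizer]
      exact Subgroup.index_dvd_card _
    exact hR (hdvd.trans h1)
  obtain ⟨Q, hQ⟩ := hK.nonempty_fixed_point_of_prime_not_dvd_card (Sylow r ↥R) hcard
  refine ⟨Q, ?_⟩
  have := hQ ⟨x, Subgroup.mem_zpowers x⟩
  exact this

open scoped Pointwise in
/-- the same, elementwise -/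
theorem npca4_exists_fixed' (R : Subgroup H) [R.Normal] (hR : ¬ p ∣ Nat.card ↥R) (x : H)
    (hx : orderOf x = p) (r : ℕ) [Fact r.Prime] :
    ∃ Q : Sylow r ↥R, ∀ q ∈ Q, (MulAut.conjNormal x : MulAut ↥R) q ∈ Q := by
  obtain ⟨Q, hQ⟩ := npca4_exists_fixed R hR x hx r
  refine ⟨Q, fun q hq => ?_⟩
  have h1 : (MulAut.conjNormal x : MulAut ↥R) • q ∈
      (MulAut.conjNormal x : MulAut ↥R) • (Q : Subgroup ↥R) :=
    Subgroup.smul_mem_pointwise_smul q _ _ hq
  rw [← Sylow.pointwise_smul_def, hQ] at h1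
  exact h1

/-- A4 : coprime action: if `x` of order `p` does not centralize the normal `p'`-subgroup `R`, then for some
prime `r` it normalizes and does not centralize some `r`-subgroup `S ≤ R`
(`⟨x⟩` acts on `Syl_r(R)`, whose cardinality is prime to `p`, so there is a fixed point `S_r`; the `S_r`
generate `R`). -/
theorem exists_invariant_sylow (R : Subgroup H) [R.Normal] (hR : ¬ p ∣ Nat.card ↥R) (x : H)
    (hx : orderOf x = p) (hxR : ∃ r₀ ∈ R, x * r₀ ≠ r₀ * x) :
    ∃ (r : ℕ) (S : Subgroup H), r.Prime ∧ r ≠ p ∧ S ≤ R ∧ IsPGroup r ↥S ∧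
      (∀ s ∈ S, x * s * x⁻¹ ∈ S) ∧ ∃ s ∈ S, x * s ≠ s * x := by
  classical
  by_contra hcon
  have hall : ∀ (r : ℕ) (S : Subgroup H), r.Prime → r ≠ p → S ≤ R → IsPGroup r ↥S →
      (∀ s ∈ S, x * s * x⁻¹ ∈ S) → ∀ s ∈ S, x * s = s * x := by
    intro r S hr hrp hSR hS hinv s hs
    by_contra hne
    exact hcon ⟨r, S, hr, hrp, hSR, hS, hinv, s, hs, hne⟩
  -- the centralizer of `x` in `R`
  let C : Subgroup ↥R := (Subgroup.centralizer ({x} : Set H)).subgroupOf R
  have hpos : Nat.card ↥R ≠ 0 := Nat.card_pos.ne'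
  have hCpos : Nat.card ↥C ≠ 0 := Nat.card_pos.ne'
  have hdvd : Nat.card ↥R ∣ Nat.card ↥C := by
    rw [← Nat.factorization_prime_le_iff_dvd hpos hCpos]
    intro r hr
    by_cases hrp : r = p
    · subst hrp
      rw [Nat.factorization_eq_zero_of_not_dvd hR]
      exact Nat.zero_le _
    · haveI : Fact r.Prime := ⟨hr⟩
      obtain ⟨Q, hQ⟩ := npca4_exists_fixed' R hR x hx r
      -- `Q ≤ C`
      have hinv : ∀ s ∈ (Q : Subgroup ↥R).map R.subtype, x * s * x⁻¹ ∈ (Q : Subgroup ↥R).map R.subtype := by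
        intro s hs
        obtain ⟨q, hq, rfl⟩ := Subgroup.mem_map.1 hs
        refine Subgroup.mem_map.2 ⟨(MulAut.conjNormal x : MulAut ↥R) q, ?_, ?_⟩
        · exact hQ q hq
        · exact MulAut.conjNormal_apply x q
      have hPG : IsPGroup r ↥((Q : Subgroup ↥R).map R.subtype) := Q.2.map R.subtype
      have hcomm := hall r ((Q : Subgroup ↥R).map R.subtype) hr hrp (Subgroup.map_subtype_le _) hPG hinv
      have hQC : (Q : Subgroup ↥R) ≤ C := by
        intro q hq
        change (q : H) ∈ Subgroup.centralizer ({x} : Set H)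
        rw [Subgroup.mem_centralizer_iff]
        intro y hy
        rw [Set.mem_singleton_iff] at hy
        subst hy
        exact hcomm (q : H) (Subgroup.mem_map.2 ⟨q, hq, rfl⟩)
      have h2 : Nat.card ↥(Q : Subgroup ↥R) ∣ Nat.card ↥C := Subgroup.card_dvd_of_le hQC
      rw [Q.card_eq_multiplicity] at h2
      exact (hr.pow_dvd_iff_le_factorization hCpos).1 h2
  have hCtop : C = ⊤ := by
    apply Subgroup.eq_top_of_card_eq
    exact Nat.dvd_antisymm (Subgroup.card_subgroup_dvd_card C) hdvd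
  obtain ⟨r₀, hr₀, hne⟩ := hxR
  have hmem : (⟨r₀, hr₀⟩ : ↥R) ∈ C := by rw [hCtop]; exact Subgroup.mem_top _
  have h3 : r₀ ∈ Subgroup.centralizer ({x} : Set H) := hmem
  rw [Subgroup.mem_centralizer_iff] at h3
  exact hne (h3 x rfl)

end Cfsg.Agent.Lib.helper7.NPC
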