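import Mathlib
import Cfsg.Agent.Lib.Helper28.O73C.Defs
import Cfsg.Agent.Lib.Helper16.OA25
import Cfsg.Agent.Lib.Lead.Reindex

/-!
Project O73C (S5514), piece OO: elements of odd order of `GO_7(3)` lie in `Ω_7(3)`.
-/

set_option autoImplicit false

namespace Cfsg.Agent.Lib.Helper28.O73C

open Cfsg.Agent.Lib.Helper12.O73 Matrix

theorem o73coo_index : (Om : Subgroup GO).index = 4 := by
  have h2 : (2 : K) ≠ 0 := by decide
  have hn : 2 ≤ Fintype.card I7 := by decide
  exact Cfsg.Agent.Lib.Lead.RI.index_omega_general h2 hn (Cfsg.Agent.Lib.Helper16.qfOdd 3 K)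
    (Cfsg.Agent.Lib.Helper16.OA.qfOdd_nondeg 3 h2)

theorem o73coo_pow_four (g : GO) : g ^ 4 ∈ Om := by
  have hN : (Om : Subgroup GO).Normal := by
    unfold Om Cfsg.Omega
    infer_instance
  have := Subgroup.pow_index_mem (Om : Subgroup GO) g
  rwa [o73coo_index] at this

theorem mem_Om_of_pow_nine (g : GO) (h : g ^ 9 = 1) : g ∈ Om := by
  have h4 := o73coo_pow_four g
  have h28 : g ^ 28 = g := by
    calc g ^ 28 = (g ^ 9) ^ 3 * g := by rw [← pow_mul, ← pow_succ]
      _ = g := by rw [h, one_pow, one_mul]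
  rw [← h28, show 28 = 4 * 7 from rfl, pow_mul]
  exact Subgroup.pow_mem _ h4 7

theorem mem_Om_of_pow_three (g : GO) (h : g ^ 3 = 1) : g ∈ Om := by
  apply mem_Om_of_pow_nine
  rw [show 9 = 3 * 3 from rfl, pow_mul, h, one_pow]

end Cfsg.Agent.Lib.Helper28.O73C
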