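import Mathlib
import Cfsg.Agent.Lib.Helper16.O9H.Defs
import Cfsg.Agent.Lib.Helper16.SpinB
import Cfsg.Agent.Lib.helper17.O9HCSIGN
import Cfsg.Agent.Lib.Helper18.O9HCSPLIT
import Cfsg.Agent.Lib.Helper18.O9HCTYPE
import Cfsg.Agent.Lib.Helper28.O9HCNEG
import Cfsg.Agent.Lib.Helper11.O9HCARITH

/-!
# Project O9H, row HALV (`free_halving`, verbatim): an element of `Ω` that fixes `W₁` pointwise and acts freely with all orbits of
length `o` on the nonzero vectors of the orthogonal complement `W'` (dimension `2e`, type `ε`) satisfies `2 o ∣ q^e - ε`.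
-/

set_option autoImplicit false
set_option linter.unusedVariables false
set_option linter.unusedSectionVars false

namespace Cfsg.Agent.Lib.Helper16.O9H

open Matrix Polynomial Module Cfsg.Agent.Lib.Helper16

variable {ι : Type} [Fintype ι] [DecidableEq ι] {F : Type*} [Field F]

/-- powers of the permutation of a level set induced by an isometry -/
theorem o9hhalv_pow [Fintype F] (Q : QuadraticForm F (ι → F)) (c : F) (s : ↥(Cfsg.isometryGroup F ⇑Q)) (j : ℕ)
    (v : LevelSet (⇑Q) c) :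
    (((MulAction.toPerm s : Equiv.Perm (LevelSet (⇑Q) c)) ^ j) v).1 =
      (((s : GL ι F) ^ j : GL ι F) : Matrix ι ι F) *ᵥ v.1 := by
  have h1 : (MulAction.toPerm s : Equiv.Perm (LevelSet (⇑Q) c)) ^ j = MulAction.toPerm (s ^ j) := by
    have := map_pow (MulAction.toPermHom ↥(Cfsg.isometryGroup F ⇑Q) (LevelSet (⇑Q) c)) s j
    exact this.symm
  rw [h1]
  show ((s ^ j) • v).1 = _
  rw [levelSet_smul_val]
  rfl

/-- a power of `s` fixes what `s` fixes -/
theorem o9hhalv_fixpow (g : GL ι F) (x : ι → F) (hx : (g : Matrix ι ι F) *ᵥ x = x) (j : ℕ) :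
    ((g ^ j : GL ι F) : Matrix ι ι F) *ᵥ x = x := by
  induction j with
  | zero => simp
  | succ j ih =>
    rw [pow_succ, Units.val_mul, ← Matrix.mulVec_mulVec, hx, ih]

theorem free_halving [Fintype F] (h2 : (2 : F) ≠ 0) (hodd : Odd (Fintype.card F)) (Q : QuadraticForm F (ι → F))
    (s : ↥(Cfsg.isometryGroup F ⇑Q)) (hs : s ∈ Cfsg.Omega F ⇑Q)
    (W₁ W' : Submodule F (ι → F)) (hc : IsCompl W₁ W') (horth : ∀ x ∈ W₁, ∀ y ∈ W', pol Q x y = 0)
    (hnd : ∀ y ∈ W', (∀ z ∈ W', pol Q y z = 0) → y = 0)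
    (hfix : ∀ x ∈ W₁, ((s : GL ι F) : Matrix ι ι F) *ᵥ x = x)
    (hinv : ∀ y ∈ W', ((s : GL ι F) : Matrix ι ι F) *ᵥ y ∈ W')
    (e : ℕ) (he : 1 ≤ e) (hdim : finrank F ↥W' = 2 * e) (o : ℕ) (hcop : Nat.Coprime o (Fintype.card F))
    (hfree : ∀ y ∈ W', y ≠ 0 → ∀ j : ℕ, (((s : GL ι F) ^ j : GL ι F) : Matrix ι ι F) *ᵥ y = y ↔ o ∣ j) :
    ∃ ε : ℤ, (ε = 1 ∨ ε = -1) ∧ ((2 * o : ℕ) : ℤ) ∣ (Fintype.card F : ℤ) ^ e - ε := by
  classical
  obtain ⟨ε, hε, hnz, hz0⟩ := type_count h2 Q W' hnd e he hdim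
  refine ⟨ε, hε, ?_⟩
  have hq1 : 1 < Fintype.card F := Fintype.one_lt_card
  have hq0 : ((Fintype.card F : ℕ) : ℤ) ≠ 0 := by
    have : (0 : ℤ) < (Fintype.card F : ℤ) := by exact_mod_cast (by omega : 0 < Fintype.card F)
    exact this.ne'
  have ho0 : o ≠ 0 := by
    rintro rfl
    rw [Nat.coprime_zero_left] at hcop
    omega
  -- level set sizes of `W'`
  have hnb : ∀ b : F, b ≠ 0 → Nat.card {y : ↥W' // Q (y : ι → F) = b} =
      Nat.card {y : ↥W' // Q (y : ι → F) = 1} := by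
    intro b hb
    have h1 := hnz b hb
    have h1' := hnz 1 one_ne_zero
    have h3 : ((Fintype.card F : ℕ) : ℤ) * (Nat.card {y : ↥W' // Q (y : ι → F) = b} : ℤ) =
        ((Fintype.card F : ℕ) : ℤ) * (Nat.card {y : ↥W' // Q (y : ι → F) = 1} : ℤ) := by rw [h1, h1']
    exact_mod_cast mul_left_cancel₀ hq0 h3
  -- the permutation
  set σ : Equiv.Perm (LevelSet (⇑Q) 1) := MulAction.toPerm s with hσ
  have hσval : ∀ (j : ℕ) (v : LevelSet (⇑Q) 1),
      ((σ ^ j) v).1 = (((s : GL ι F) ^ j : GL ι F) : Matrix ι ι F) *ᵥ v.1 := fun j v => o9hhalv_pow Q 1 s j v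
  have hσ1 : ∀ v : LevelSet (⇑Q) 1, (σ v).1 = ((s : GL ι F) : Matrix ι ι F) *ᵥ v.1 := fun v => rfl
  have hv0 : ∀ v : LevelSet (⇑Q) 1, v.1 ≠ 0 := by
    intro v h0
    have h1 := v.2
    rw [h0, map_zero] at h1
    exact zero_ne_one h1
  -- `o ∣ n`
  have hon : o ∣ Nat.card {y : ↥W' // Q (y : ι → F) = 1} := by
    have h1 := orbit_count σ o (fun v => v.1 ∈ W') (fun v hv => by rw [hσ1]; exact hinv _ hv)
      (fun v hv j => by
        rw [← hfree v.1 hv (hv0 v) j, ← hσval]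
        exact Subtype.ext_iff)
    have h2' : Nat.card {v : LevelSet (⇑Q) 1 // v.1 ∈ W'} = Nat.card {y : ↥W' // Q (y : ι → F) = 1} := by
      apply Nat.card_congr
      exact
        { toFun := fun v => ⟨⟨v.1.1, v.2⟩, v.1.2⟩
          invFun := fun y => ⟨⟨y.1.1, y.2⟩, y.1.2⟩
          left_inv := fun v => rfl
          right_inv := fun y => rfl }
    rw [← h2']
    exact h1
  -- parity facts
  have hk : Even (Nat.card {x : ↥W₁ // Q (x : ι → F) = 1}) := neg_even h2 Q W₁ 1 one_ne_zero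
  have hw : Odd (Nat.card ↥W₁) := by
    rw [Nat.card_eq_fintype_card, Module.card_eq_pow_finrank (K := F)]
    exact hodd.pow
  have hsplit := split_count Q W₁ W' hc horth 1 _ _ hnb rfl
  -- decomposition
  have hdec : ∀ v : ι → F, ∃ x ∈ W₁, ∃ y ∈ W', x + y = v := by
    intro v
    have : v ∈ W₁ ⊔ W' := by rw [hc.sup_eq_top]; trivial
    exact Submodule.mem_sup.mp this
  have hfixpow : ∀ x ∈ W₁, ∀ j : ℕ, (((s : GL ι F) ^ j : GL ι F) : Matrix ι ι F) *ᵥ x = x :=
    fun x hx j => o9hhalv_fixpow _ x (hfix x hx) j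
  -- the sign
  have hsgn : Equiv.Perm.sign σ = 1 := by
    have := MonoidHom.mem_ker.mp (omega_le_ker (⇑Q) (spinSign (⇑Q) 1) hs)
    rwa [spinSign_apply] at this
  have hsign : Even o → 2 * o ∣ Nat.card {v : ι → F // Q v = 1 ∧ v ∉ W₁} := by
    intro hoe
    have ho2 : ¬ o ∣ 1 := by
      intro h
      have := Nat.dvd_one.mp h
      subst this
      exact absurd hoe (by decide)
    have hfr : ∀ v : LevelSet (⇑Q) 1, σ v ≠ v → ∀ j : ℕ, (σ ^ j) v = v ↔ o ∣ j := by
      intro v hv j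
      obtain ⟨x, hx, y, hy, hxy⟩ := hdec v.1
      have hy0 : y ≠ 0 := by
        rintro rfl
        apply hv
        apply Subtype.ext
        rw [hσ1, ← hxy, add_zero]
        exact hfix x hx
      have hext : (σ ^ j) v = v ↔ ((σ ^ j) v).1 = v.1 := Subtype.ext_iff
      rw [← hfree y hy hy0 j, hext, hσval, ← hxy, Matrix.mulVec_add, hfixpow x hx j]
      exact add_right_inj x
    have h1 := perm_free_sign σ o hoe hfr hsgn
    have h2' : Nat.card {v : LevelSet (⇑Q) 1 // σ v ≠ v} = Nat.card {v : ι → F // Q v = 1 ∧ v ∉ W₁} := by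
      apply Nat.card_congr
      refine
        { toFun := fun v => ⟨v.1.1, v.1.2, ?_⟩
          invFun := fun v => ⟨⟨v.1, v.2.1⟩, ?_⟩
          left_inv := fun v => rfl
          right_inv := fun v => rfl }
      · intro hmem
        apply v.2
        apply Subtype.ext
        rw [hσ1]
        exact hfix _ hmem
      · intro hfixv
        obtain ⟨x, hx, y, hy, hxy⟩ := hdec v.1
        have hy0 : y ≠ 0 := by
          rintro rfl
          apply v.2.2
          rw [← hxy, add_zero]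
          exact hx
        have h3 : ((s : GL ι F) : Matrix ι ι F) *ᵥ v.1 = v.1 := congrArg Subtype.val hfixv
        rw [← hxy, Matrix.mulVec_add, hfix x hx] at h3
        have h4 : ((s : GL ι F) : Matrix ι ι F) *ᵥ y = y := add_left_cancel h3
        have h5 := (hfree y hy hy0 1).mp (by rw [pow_one]; exact h4)
        exact ho2 h5
    rw [← h2']
    exact h1
  exact halving_arith (Fintype.card F) e hodd he ε hε _ _ _ _ _ o (hnz 1 one_ne_zero) hz0 hk hw hsplit hon
    hcop hsign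

end Cfsg.Agent.Lib.Helper16.O9H
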