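import Mathlib
import Cfsg.Agent.Lib.Helper16.O9H.Defs

set_option autoImplicit false

/-!
# Project O9H, rows KSUP (`ker_sup`) and KDIM (`ker_dim_one`), verbatim (second-written by helper16)
-/

namespace Cfsg.Agent.Lib.Helper16.O9H

open Matrix Polynomial Module

variable {ι : Type} [Fintype ι] [DecidableEq ι] {F : Type*} [Field F]

theorem ker_sup (g : GL ι F) (P₁ P₂ : F[X]) (hcop : IsCoprime P₁ P₂)
    (hχ : (g : Matrix ι ι F).charpoly = P₁ * P₂) : IsCompl (kerP g P₁) (kerP g P₂) := by
  refine ⟨Polynomial.disjoint_ker_aeval_of_isCoprime (linOf g) hcop, ?_⟩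
  rw [codisjoint_iff]
  unfold kerP
  rw [Polynomial.sup_ker_aeval_eq_ker_aeval_mul_of_coprime (linOf g) hcop, ← hχ]
  have h1 : aeval (linOf g) (g : Matrix ι ι F).charpoly = 0 := by
    have := LinearMap.aeval_self_charpoly (linOf g)
    rwa [Matrix.charpoly_toLin'] at this
  rw [h1]
  exact LinearMap.ker_zero


theorem ker_dim_one (g : GL ι F) (a : ℕ) (R : F[X]) (hR : R.eval 1 ≠ 0)
    (hχ : (g : Matrix ι ι F).charpoly = (X - 1) ^ a * R) :
    finrank F ↥(kerP g ((X - 1) ^ a)) = a ∧ Fintype.card ι = a + R.natDegree ∧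
      finrank F ↥(kerP g R) = R.natDegree := by
  classical
  have hR0 : R ≠ 0 := by
    rintro rfl
    simp at hR
  have hX1 : (X - 1 : F[X]) = X - C 1 := by rw [map_one]
  have hX10 : (X - 1 : F[X]) ^ a ≠ 0 := pow_ne_zero _ (by rw [hX1]; exact X_sub_C_ne_zero 1)
  -- the degree
  have hcard : Fintype.card ι = a + R.natDegree := by
    have h1 := Matrix.charpoly_natDegree_eq_dim (g : Matrix ι ι F)
    rw [hχ, natDegree_mul hX10 hR0, natDegree_pow, hX1, natDegree_X_sub_C, mul_one] at h1
    exact h1.symm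
  -- Cayley-Hamilton
  have hCH : aeval (linOf g) ((X - 1 : F[X]) ^ a * R) = 0 := by
    have := LinearMap.aeval_self_charpoly (linOf g)
    rwa [Matrix.charpoly_toLin', hχ] at this
  have hsub : ∀ k : ℕ, aeval (linOf g) ((X - 1 : F[X]) ^ k) = (linOf g - (1 : F) • (1 : Module.End F (ι → F))) ^ k := by
    intro k
    rw [map_pow, map_sub, aeval_X, map_one, one_smul]
  -- the kernel is the maximal generalized eigenspace
  have heq : kerP g ((X - 1) ^ a) = (linOf g).maxGenEigenspace 1 := by
    ext x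
    rw [Module.End.mem_maxGenEigenspace]
    constructor
    · intro hx
      refine ⟨a, ?_⟩
      rw [← hsub]
      exact hx
    · rintro ⟨k, hk⟩
      rw [← hsub] at hk
      have hcop : IsCoprime ((X - 1 : F[X]) ^ k) R := by
        apply IsCoprime.pow_left
        rw [hX1]
        apply (Polynomial.irreducible_X_sub_C (1 : F)).coprime_iff_not_dvd.mpr
        rw [Polynomial.dvd_iff_isRoot]
        exact hR
      obtain ⟨u, v, huv⟩ := hcop
      have hid : (X - 1 : F[X]) ^ a = u * (X - 1) ^ a * (X - 1) ^ k + v * ((X - 1) ^ a * R) := by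
        calc (X - 1 : F[X]) ^ a = (X - 1) ^ a * (u * (X - 1) ^ k + v * R) := by rw [huv, mul_one]
          _ = _ := by ring
      show aeval (linOf g) ((X - 1 : F[X]) ^ a) x = 0
      rw [hid, map_add, map_mul, map_mul (aeval (linOf g)) v, hCH, mul_zero, add_zero,
        Module.End.mul_apply, hk, map_zero]
  have hdim1 : finrank F ↥(kerP g ((X - 1) ^ a)) = a := by
    rw [heq, LinearMap.finrank_maxGenEigenspace_eq, Matrix.charpoly_toLin', hχ,
      Polynomial.rootMultiplicity_mul (mul_ne_zero hX10 hR0), hX1, Polynomial.rootMultiplicity_X_sub_C_pow,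
      Polynomial.rootMultiplicity_eq_zero hR, add_zero]
  refine ⟨hdim1, hcard, ?_⟩
  have hcop : IsCoprime ((X - 1 : F[X]) ^ a) R := by
    apply IsCoprime.pow_left
    rw [hX1]
    apply (Polynomial.irreducible_X_sub_C (1 : F)).coprime_iff_not_dvd.mpr
    rw [Polynomial.dvd_iff_isRoot]
    exact hR
  have hcompl := ker_sup g _ _ hcop hχ
  have h2 := Submodule.finrank_add_eq_of_isCompl hcompl
  rw [hdim1, Module.finrank_pi, hcard] at h2
  omega

end Cfsg.Agent.Lib.Helper16.O9H
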