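import Mathlib
import Cfsg.Agent.Lib.Helper16.OA48
import Cfsg.Agent.S2727

set_option autoImplicit false
set_option linter.unusedSectionVars false
set_option linter.unusedVariables false

/-! Automorphisms of orthogonal groups, part 49: `Out(PΩ⁻_{2m}(q))`, `q` odd. -/

namespace Cfsg.Agent.Lib.Helper16.OA

open Matrix Cfsg.Agent.Lib.Lead Cfsg.Agent.Lib.Lead.OA Cfsg.Agent.Lib.Helper16

universe u

variable {F : Type u} [Field F] [Fintype F] {p : ℕ} [Fact p.Prime] [CharP F p]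

/-- in odd characteristic the `f`-th power of the Frobenius semisimilarity of a minus-type form is
not induced by a special isometry. -/
theorem frob_pow_not_pso (hp : p ≠ 2) {f : ℕ} (hF : Fintype.card F = p ^ f) (k : ℕ)
    (hk : 3 ≤ k) (a b : F)
    (hab : ∀ z₁ z₂ : F, z₁ ^ 2 + a * z₁ * z₂ + b * z₂ ^ 2 = 0 → z₁ = 0 ∧ z₂ = 0) :
    ssHom (⇑(qfMinus k F a b)) ((frobSSOdd hp k a b hab) ^ f) ∉
      (isoDet (⇑(qfMinus k F a b))).ker.map (c0 (qfMinus k F a b)) := by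
  obtain ⟨hQ, hn, hT⟩ := minus_hyps k hk a b hab
  have h2 := two_ne_zero_of_char (F := F) hp
  have hcard : Fintype.card ((Fin k ⊕ Fin k) ⊕ Fin 2) = 2 * (k + 1) := by
    simp; ring
  have hx := frobSSOdd_left hp k a b hab
  have hj : ((frobSSOdd hp k a b hab : ↥(gammaO (Cfsg.quadFormMinus k F a b))) :
      GammaL ((Fin k ⊕ Fin k) ⊕ Fin 2) F).right ^ f = 1 :=
    (frobAut_pow_eq_one_iff hF f).2 dvd_rfl
  obtain ⟨hmem, hpow⟩ := pow_block_eq _ _ _ hx f hj
  obtain ⟨hleft, -⟩ := pow_block _ (frobSSOdd hp k a b hab) _ hx f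
  have hiso0 := pow_left_iso (frobSSOdd_mem_iso hp k a b hab) f hj
  have hdet0 := det_frob_pow_odd hp hF k a b hab
  rw [← Subgroup.coe_pow, hleft] at hiso0
  rw [hleft] at hdet0
  have h1 : ssHom (⇑(qfMinus k F a b)) ((frobSSOdd hp k a b hab) ^ f) =
      c0 (qfMinus k F a b) ⟨_, hiso0⟩ := by
    rw [c0_apply]
    have he : isoToGO (qfMinus k F a b) ⟨_, hiso0⟩ = ⟨_, hmem⟩ := Subtype.ext rfl
    rw [he, ← ssHom_goIncl]
    exact congrArg _ hpow
  rw [h1]
  rintro ⟨s, hs, hsc⟩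
  have hker : s⁻¹ * ⟨_, hiso0⟩ ∈ (c0 (qfMinus k F a b)).ker := by
    rw [MonoidHom.mem_ker, map_mul, map_inv, hsc, inv_mul_cancel]
  have hs1 : isoDet (⇑(qfMinus k F a b)) s = 1 := hs
  have hd : isoDet (⇑(qfMinus k F a b)) (s⁻¹ * ⟨_, hiso0⟩) = -1 := by
    rw [map_mul, map_inv, hs1, inv_one, one_mul]
    apply Units.ext
    rw [isoDet_coe]
    exact hdet0
  rcases (c0_ker_iff (qfMinus k F a b) h2 hQ (by omega) _).1 hker with h | h
  · rw [h, map_one] at hd
    exact neg_one_ne_one h2 hd.symm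
  · rw [h, isoDet_negI (qfMinus k F a b) (k + 1) hcard] at hd
    exact neg_one_ne_one h2 hd.symm

theorem odd_of_pow_mod_four {p f : ℕ} (h : p ^ f % 4 = 3) : Odd f := by
  rcases Nat.even_or_odd f with ⟨t, rfl⟩ | ho
  · exfalso
    have h1 : p ^ (t + t) = p ^ t * p ^ t := pow_add p t t
    rw [h1, Nat.mul_mod] at h
    have h2 : p ^ t % 4 < 4 := Nat.mod_lt _ (by norm_num)
    interval_cases (p ^ t % 4) <;> omega
  · exact ho

end Cfsg.Agent.Lib.Helper16.OA
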