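import Mathlib
import Cfsg.Agent.Lib.Helper16.OA49

set_option autoImplicit false
set_option linter.unusedSectionVars false
set_option linter.unusedVariables false

/-! Automorphisms of orthogonal groups, part 50: the structure of `Out(PΩ(Q))` from the structure
of `PGO / Inn` and a Frobenius semisimilarity (general even-dimensional form, odd `q`). -/

namespace Cfsg.Agent.Lib.Helper16.OA

open Matrix Cfsg.Agent.Lib.Lead Cfsg.Agent.Lib.Lead.OA Cfsg.Agent.Lib.Helper16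

universe u

variable {ι : Type} [Fintype ι] [DecidableEq ι] {F : Type u} [Field F] [Fintype F]

/-- the data shared by both cases. -/
theorem out_setup (Q : QuadraticForm F (ι → F)) (hQ : (QuadraticMap.polarBilin Q).Nondegenerate)
    (hn : 7 ≤ Fintype.card ι)
    (hT : 9 ≤ Fintype.card ι ∨ Fintype.card ι ≤ 7 ∨
      ∀ U : Submodule F (ι → F), (∀ u ∈ U, Q u = 0) → Module.finrank F U ≤ 3)
    (hlift : Function.Surjective (ssRight (⇑Q : (ι → F) → F))) :
    ∃ θ' : Cfsg.Out (Cfsg.POmega F (⇑Q : (ι → F) → F)) →* RingAut F,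
      Function.Surjective θ' ∧
      (∀ x : ↥(gammaO (⇑Q : (ι → F) → F)),
        θ' (QuotientGroup.mk (ssHom (⇑Q : (ι → F) → F) x)) = ssRight (⇑Q : (ι → F) → F) x) ∧
      (∀ x : MulAut (Cfsg.POmega F (⇑Q : (ι → F) → F)),
        (QuotientGroup.mk x : Cfsg.Out (Cfsg.POmega F (⇑Q : (ι → F) → F))) ∈ θ'.ker ↔
          x ∈ (cHom (⇑Q : (ι → F) → F)).range) := by
  obtain ⟨θ, hθ1, hθ2, hθ3⟩ := exists_theta Q hQ hn hT
  have hθs : Function.Surjective θ := by
    rw [← MonoidHom.range_eq_top, hθ3, MonoidHom.range_eq_top]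
    exact hlift
  have hIP : Cfsg.Inn (Cfsg.POmega F (⇑Q : (ι → F) → F)) ≤ (cHom (⇑Q : (ι → F) → F)).range := by
    rw [inn_eq']
    rintro _ ⟨s, -, rfl⟩
    exact ⟨_, rfl⟩
  have hIk : Cfsg.Inn (Cfsg.POmega F (⇑Q : (ι → F) → F)) ≤ θ.ker := by
    rw [hθ2]; exact hIP
  refine ⟨QuotientGroup.lift _ θ hIk, ?_, ?_, ?_⟩
  · intro r
    obtain ⟨x, rfl⟩ := hθs r
    exact ⟨QuotientGroup.mk x, rfl⟩
  · intro x
    exact hθ1 x
  · intro x
    rw [MonoidHom.mem_ker]
    show θ x = 1 ↔ _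
    rw [← MonoidHom.mem_ker, hθ2]

theorem inn_le_pgo (Q : QuadraticForm F (ι → F)) :
    Cfsg.Inn (Cfsg.POmega F (⇑Q : (ι → F) → F)) ≤ (cHom (⇑Q : (ι → F) → F)).range := by
  rw [inn_eq']
  rintro _ ⟨s, -, rfl⟩
  exact ⟨_, rfl⟩

/-- `Out ≅ D₈ × C_f` when `PGO / Inn ≅ D₈` and `f` is odd. -/
theorem out_dihedral {p f : ℕ} [Fact p.Prime] (Q : QuadraticForm F (ι → F))
    (hQ : (QuadraticMap.polarBilin Q).Nondegenerate) (hn : 7 ≤ Fintype.card ι)
    (hT : 9 ≤ Fintype.card ι ∨ Fintype.card ι ≤ 7 ∨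
      ∀ U : Submodule F (ι → F), (∀ u ∈ U, Q u = 0) → Module.finrank F U ≤ 3)
    (hF : Fintype.card F = p ^ f) (hfodd : Odd f)
    (hlift : Function.Surjective (ssRight (⇑Q : (ι → F) → F)))
    (φ : ↥(cHom (⇑Q : (ι → F) → F)).range →* DihedralGroup 4) (hφs : Function.Surjective φ)
    (hφk : φ.ker = (Cfsg.Inn (Cfsg.POmega F (⇑Q : (ι → F) → F))).subgroupOf
      (cHom (⇑Q : (ι → F) → F)).range) :
    Nonempty (Cfsg.Out (Cfsg.POmega F (⇑Q : (ι → F) → F)) ≃*
      DihedralGroup 4 × Multiplicative (ZMod f)) := by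
  obtain ⟨hcyc, hRcard⟩ := Cfsg.Agent.Lib.Helper16.AP.galF_cyclic_card hF
  obtain ⟨θ', hθ's, hθ'1, hkermem⟩ := out_setup Q hQ hn hT hlift
  let ξ : ↥(cHom (⇑Q : (ι → F) → F)).range →* Cfsg.Out (Cfsg.POmega F (⇑Q : (ι → F) → F)) :=
    (QuotientGroup.mk' _).comp (Subgroup.subtype _)
  have hξr : ξ.range = θ'.ker := by
    ext y
    constructor
    · rintro ⟨x, rfl⟩
      exact (hkermem x).2 x.2
    · intro hy
      induction y using QuotientGroup.induction_on with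
      | H x => exact ⟨⟨x, (hkermem x).1 hy⟩, rfl⟩
  have hξk : ξ.ker = φ.ker := by
    rw [hφk]
    ext x
    rw [MonoidHom.mem_ker, Subgroup.mem_subgroupOf]
    exact QuotientGroup.eq_one_iff _
  let e : ↥θ'.ker ≃* DihedralGroup 4 :=
    (MulEquiv.subgroupCongr hξr).symm.trans ((QuotientGroup.quotientKerEquivRange ξ).symm.trans
      ((QuotientGroup.quotientMulEquivOfEq hξk).trans
        (QuotientGroup.quotientKerEquivOfSurjective φ hφs)))
  exact dihedral_ext θ' hθ's f hRcard hfodd e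

/-- `Out ≅ C₂ × C_{2f}` when `PGO / Inn` is a four-group, `Inn = PSO`, and the `f`-th power of a
Frobenius semisimilarity is not in `PSO`. -/
theorem out_klein {p f : ℕ} [Fact p.Prime] [CharP F p] (Q : QuadraticForm F (ι → F))
    (hQ : (QuadraticMap.polarBilin Q).Nondegenerate) (hn : 7 ≤ Fintype.card ι)
    (hT : 9 ≤ Fintype.card ι ∨ Fintype.card ι ≤ 7 ∨
      ∀ U : Submodule F (ι → F), (∀ u ∈ U, Q u = 0) → Module.finrank F U ≤ 3)
    (hchar : ringChar F ≠ 2) (hne : ∃ v, Q v ≠ 0) (m : ℕ) (hcard : Fintype.card ι = 2 * m)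
    (hf : 1 ≤ f) (hF : Fintype.card F = p ^ f)
    (hlift : Function.Surjective (ssRight (⇑Q : (ι → F) → F)))
    (φ : ↥(cHom (⇑Q : (ι → F) → F)).range →* Multiplicative (ZMod 2 × ZMod 2))
    (hφs : Function.Surjective φ)
    (hφk : φ.ker = (Cfsg.Inn (Cfsg.POmega F (⇑Q : (ι → F) → F))).subgroupOf
      (cHom (⇑Q : (ι → F) → F)).range)
    (hpso : (isoDet (⇑Q : (ι → F) → F)).ker.map (c0 Q) = Cfsg.Inn (Cfsg.POmega F (⇑Q : (ι → F) → F)))
    (x₀ : ↥(gammaO (⇑Q : (ι → F) → F))) (hx₀ : ssRight (⇑Q : (ι → F) → F) x₀ = frobAut F p)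
    (hx₀f : ssHom (⇑Q : (ι → F) → F) (x₀ ^ f) ∉ (isoDet (⇑Q : (ι → F) → F)).ker.map (c0 Q)) :
    Nonempty (Cfsg.Out (Cfsg.POmega F (⇑Q : (ι → F) → F)) ≃*
      Multiplicative (ZMod 2 × ZMod (2 * f))) := by
  obtain ⟨hcyc, hRcard⟩ := Cfsg.Agent.Lib.Helper16.AP.galF_cyclic_card hF
  obtain ⟨θ', hθ's, hθ'1, hkermem⟩ := out_setup Q hQ hn hT hlift
  have hIP := inn_le_pgo Q
  -- cardinalities
  have h1 := card_aut_eq Q hQ hn hT hlift
  rw [card_ringAut hF] at h1
  have h2' := card_eq_relIndex_mul _ _ hIP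
  have hrel : (Cfsg.Inn (Cfsg.POmega F (⇑Q : (ι → F) → F))).relIndex
      (cHom (⇑Q : (ι → F) → F)).range = 4 :=
    (relIndex_of_hom _ _ φ hφs hφk).trans (by
      rw [Nat.card_eq_fintype_card, Fintype.card_multiplicative, Fintype.card_prod, ZMod.card])
  rw [hrel] at h2'
  have h3 := Subgroup.card_eq_card_quotient_mul_card_subgroup
    (Cfsg.Inn (Cfsg.POmega F (⇑Q : (ι → F) → F)))
  have hI0 : 0 < Nat.card (Cfsg.Inn (Cfsg.POmega F (⇑Q : (ι → F) → F))) := Nat.card_pos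
  have hG : Nat.card (Cfsg.Out (Cfsg.POmega F (⇑Q : (ι → F) → F))) = 4 * f := by
    rw [h1, h2'] at h3
    have h4 : (f * 4) * Nat.card (Cfsg.Inn (Cfsg.POmega F (⇑Q : (ι → F) → F))) =
        Nat.card (Cfsg.Out (Cfsg.POmega F (⇑Q : (ι → F) → F))) *
          Nat.card (Cfsg.Inn (Cfsg.POmega F (⇑Q : (ι → F) → F))) := by
      rw [← h3]; ring
    have h5 := Nat.eq_of_mul_eq_mul_right hI0 h4
    omega
  have hker : Nat.card θ'.ker = 4 := by
    have h4 := Subgroup.card_mul_index θ'.ker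
    rw [Subgroup.index_ker, MonoidHom.range_eq_top.2 hθ's, Subgroup.card_top, hRcard, hG] at h4
    have hf0 : 0 < f := hf
    exact Nat.eq_of_mul_eq_mul_right hf0 h4
  -- exponent two
  have hV : ∀ v ∈ θ'.ker, v ^ 2 = 1 := by
    intro v hv
    induction v using QuotientGroup.induction_on with
    | H x =>
      have hx := (hkermem x).1 hv
      rw [← QuotientGroup.mk_pow, QuotientGroup.eq_one_iff]
      have h4 : (⟨x, hx⟩ : ↥(cHom (⇑Q : (ι → F) → F)).range) ^ 2 ∈ φ.ker := by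
        rw [MonoidHom.mem_ker, map_pow]
        have : ∀ y : Multiplicative (ZMod 2 × ZMod 2), y ^ 2 = 1 := by decide
        exact this _
      rw [hφk, Subgroup.mem_subgroupOf] at h4
      exact h4
  -- central
  have hVc : ∀ v ∈ θ'.ker, ∀ g : Cfsg.Out (Cfsg.POmega F (⇑Q : (ι → F) → F)), g * v = v * g := by
    intro v hv g
    induction v using QuotientGroup.induction_on with
    | H x =>
      induction g using QuotientGroup.induction_on with
      | H y =>
        obtain ⟨h, rfl⟩ := (hkermem x).1 hv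
        obtain ⟨z, rfl⟩ := ssHom_surjective Q hQ hn hT y
        have h4 := comm_mem_pso Q hQ hchar hne m hcard z h
        rw [hpso] at h4
        have h5 := (QuotientGroup.eq_one_iff _).2 h4
        rw [QuotientGroup.mk_mul, QuotientGroup.mk_mul, QuotientGroup.mk_mul,
          QuotientGroup.mk_inv, QuotientGroup.mk_inv] at h5
        rw [mul_inv_eq_one, mul_inv_eq_iff_eq_mul] at h5
        exact h5
  -- the Frobenius class
  have hψ : orderOf (θ' (QuotientGroup.mk (ssHom (⇑Q : (ι → F) → F) x₀))) = f := by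
    rw [hθ'1 x₀, hx₀]
    exact orderOf_frobAut hF
  have hψf : Even f → (QuotientGroup.mk (ssHom (⇑Q : (ι → F) → F) x₀) :
      Cfsg.Out (Cfsg.POmega F (⇑Q : (ι → F) → F))) ^ f ≠ 1 := by
    intro _
    rw [← QuotientGroup.mk_pow, ← map_pow]
    intro h
    rw [QuotientGroup.eq_one_iff, ← hpso] at h
    exact hx₀f h
  exact klein_ext θ' f hf hG hker hV hVc _ hψ hψf

end Cfsg.Agent.Lib.Helper16.OA
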