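import Mathlib
import Cfsg.Agent.Lib.Helper16.OA50

set_option autoImplicit false
set_option linter.unusedSectionVars false
set_option linter.unusedVariables false

/-! Automorphisms of orthogonal groups, part 51: `Out(PΩ⁻_{2m}(q))`, `q` odd. -/

namespace Cfsg.Agent.Lib.Helper16.OA

open Matrix Cfsg.Agent.Lib.Lead Cfsg.Agent.Lib.Lead.OA Cfsg.Agent.Lib.Helper16

universe u

variable {F : Type u} [Field F] [Fintype F]

set_option maxHeartbeats 1600000 in
theorem S2606_aux {p f m : ℕ} [Fact p.Prime] (hf : 1 ≤ f) (hF : Fintype.card F = p ^ f)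
    (hp : p ≠ 2) (hm : 4 ≤ m) (a b : F)
    (hab : ∀ z₁ z₂ : F, z₁ ^ 2 + a * z₁ * z₂ + b * z₂ ^ 2 = 0 → z₁ = 0 ∧ z₂ = 0) :
    if p ^ f % 4 = 3 ∧ Odd m then
      Nonempty (Cfsg.Out (Cfsg.POmega F (Cfsg.quadFormMinus (m - 1) F a b)) ≃*
        DihedralGroup 4 × Multiplicative (ZMod f))
    else
      Nonempty (Cfsg.Out (Cfsg.POmega F (Cfsg.quadFormMinus (m - 1) F a b)) ≃*
        Multiplicative (ZMod 2 × ZMod (2 * f))) := by
  have : CharP F p := charP_of_card_eq_prime_pow hF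
  obtain ⟨hQ, hn, hT⟩ := minus_hyps (m - 1) (by omega) a b hab
  have hne := minus_exists_ne_zero (F := F) (m - 1) a b
  have hchar : ringChar F ≠ 2 := by
    rw [ringChar.eq F p]
    exact hp
  have hcardι : Fintype.card ((Fin (m - 1) ⊕ Fin (m - 1)) ⊕ Fin 2) = 2 * m := by
    simp; omega
  have hpodd : Odd p := (Fact.out : p.Prime).odd_of_ne_two hp
  have hodd : Odd (Fintype.card F) := by rw [hF]; exact hpodd.pow
  have hlift := ssRight_surjective_minus hF (m - 1) a b hab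
  have hS := Cfsg.Agent.S2728.result hodd (m := m - 1) (by omega) a b hab
  rw [pgoAut_eq] at hS
  have hcond : (p ^ f % 4 = 3 ∧ Odd m) ↔ (Even (m - 1) ∧ Fintype.card F % 4 = 3) := by
    rw [hF]
    have hm1 : Even (m - 1) ↔ Odd m := by
      rw [Nat.even_iff, Nat.odd_iff]
      omega
    rw [hm1]
    tauto
  by_cases hc : p ^ f % 4 = 3 ∧ Odd m
  · rw [if_pos hc]
    have hfodd : Odd f := odd_of_pow_mod_four hc.1
    obtain ⟨φ, hφs, hφk⟩ := hS.1 (hcond.1 hc)
    exact out_dihedral (qfMinus (m - 1) F a b) hQ hn hT hF hfodd hlift φ hφs hφk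
  · rw [if_neg hc]
    have hc' : ¬ (Even (m - 1) ∧ Fintype.card F % 4 = 3) := fun h => hc (hcond.2 h)
    obtain ⟨φ, hφs, hφk⟩ := hS.2 hc'
    have hS7 := (Cfsg.Agent.S2727.result hodd (m := m - 1) (by omega) a b hab).2 hc'
    have hpso : (isoDet (⇑(qfMinus (m - 1) F a b))).ker.map (c0 (qfMinus (m - 1) F a b)) =
        Cfsg.Inn (Cfsg.POmega F (⇑(qfMinus (m - 1) F a b))) := by
      rw [← psoAut_eq']
      exact le_antisymm (Subgroup.relIndex_eq_one.1 hS7) (inn_le_pso _)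
    exact out_klein (qfMinus (m - 1) F a b) hQ hn hT hchar hne m hcardι hf hF hlift φ hφs hφk hpso
      (frobSSOdd hp (m - 1) a b hab) (frobSSOdd_right hp (m - 1) a b hab)
      (frob_pow_not_pso hp hF (m - 1) (by omega) a b hab)

end Cfsg.Agent.Lib.Helper16.OA
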