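import Mathlib
import Cfsg.Agent.Lib.Helper16.OA51
import Cfsg.Agent.S2724

set_option autoImplicit false
set_option linter.unusedSectionVars false
set_option linter.unusedVariables false

/-! Automorphisms of orthogonal groups, part 52: `Aut(PΩ⁺_{2m}(q))`, `m ≥ 5`. -/

namespace Cfsg.Agent.Lib.Helper16.OA

open Matrix Cfsg.Agent.Lib.Lead Cfsg.Agent.Lib.Lead.OA Cfsg.Agent.Lib.Helper16

universe u

section gen
variable {ι : Type} [Fintype ι] [DecidableEq ι] {F : Type u} [Field F] [Fintype F]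

/-- for a form commuting with the field automorphisms every field automorphism lifts. -/
theorem ssRight_surjective_of_compat (Q : (ι → F) → F) (hσ : FieldCompat Q) :
    Function.Surjective (ssRight Q) := by
  intro σ
  refine ⟨⟨⟨1, σ⟩, ?_⟩, rfl⟩
  rw [mem_gammaO]
  refine ⟨1, fun v => ?_⟩
  show Q (((1 : GL ι F) : Matrix ι ι F) *ᵥ fun i => σ (v i)) = ((1 : Fˣ) : F) * σ (Q v)
  rw [Units.val_one, Matrix.one_mulVec, Units.val_one, one_mul, hσ]

end gen

variable {F : Type u} [Field F] [Fintype F]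

theorem fieldCompat_plus (m : ℕ) : FieldCompat (Cfsg.quadFormPlus m F) := by
  intro σ v
  unfold Cfsg.quadFormPlus
  simp only [map_sum, map_mul]

theorem plus_exists_ne_zero (m : ℕ) (hm : 1 ≤ m) : ∃ v, qfPlus m F v ≠ 0 := by
  refine ⟨fun k => Sum.elim (fun i => if i = ⟨0, hm⟩ then 1 else 0)
    (fun i => if i = ⟨0, hm⟩ then 1 else 0) k, ?_⟩
  rw [qfPlus_coe]
  unfold Cfsg.quadFormPlus
  simp

theorem plus_hyps (m : ℕ) (hm : 5 ≤ m) :
    (QuadraticMap.polarBilin (qfPlus m F)).Nondegenerate ∧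
    7 ≤ Fintype.card (Fin m ⊕ Fin m) ∧
    (9 ≤ Fintype.card (Fin m ⊕ Fin m) ∨ Fintype.card (Fin m ⊕ Fin m) ≤ 7 ∨
      ∀ U : Submodule F (Fin m ⊕ Fin m → F), (∀ u ∈ U, qfPlus m F u = 0) →
        Module.finrank F U ≤ 3) := by
  have hcard : Fintype.card (Fin m ⊕ Fin m) = m + m := by simp
  refine ⟨qfPlus_nondeg m F, by rw [hcard]; omega, ?_⟩
  rw [hcard]
  left; omega

theorem inn_le_pgo_plus (m : ℕ) :
    Cfsg.Inn (Cfsg.POmega F (⇑(qfPlus m F))) ≤ (cHom (⇑(qfPlus m F))).range := by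
  rw [inn_eq']
  rintro _ ⟨s, -, rfl⟩
  exact ⟨_, rfl⟩

/-- `Out(PΩ⁺_{2m}(2^f)) ≅ C₂ × C_f` for `m ≥ 5`. -/
theorem S2607_aux {f m : ℕ} (hf : 1 ≤ f) (hF : Fintype.card F = 2 ^ f) (hm : 5 ≤ m) :
    Nonempty (Cfsg.Out (Cfsg.POmega F (Cfsg.quadFormPlus m F)) ≃*
      Multiplicative (ZMod 2 × ZMod f)) := by
  have : Fact (Nat.Prime 2) := ⟨Nat.prime_two⟩
  have : CharP F 2 := charP_of_card_eq_prime_pow hF
  obtain ⟨hQ, hn, hT⟩ := plus_hyps (F := F) m hm
  have hne := plus_exists_ne_zero (F := F) m (by omega)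
  have hσ : FieldCompat (⇑(qfPlus m F) : (Fin m ⊕ Fin m → F) → F) := by
    rw [qfPlus_coe]
    exact fieldCompat_plus m
  obtain ⟨hcyc, hR⟩ := Cfsg.Agent.Lib.Helper16.AP.galF_cyclic_card hF
  have hP : ((cHom (⇑(qfPlus m F) : (Fin m ⊕ Fin m → F) → F)).range).Normal :=
    pgo_normal (qfPlus m F) hQ hn hT hσ
  have hidx := relIndex_inn_pgo_char2 (qfPlus m F) hQ hn hne
  have key := out_split (Cfsg.Inn (Cfsg.POmega F (⇑(qfPlus m F) : (Fin m ⊕ Fin m → F) → F)))
    ((cHom (⇑(qfPlus m F) : (Fin m ⊕ Fin m → F) → F)).range) (inn_le_pgo_plus m) hidx f hf hR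
    (fieldO (⇑(qfPlus m F) : (Fin m ⊕ Fin m → F) → F) hσ)
    (fun x => by
      obtain ⟨g, σ, h⟩ := aut_eq_mul (qfPlus m F) hQ hn hT hσ x
      exact ⟨_, ⟨g, rfl⟩, σ, h⟩)
    (fun r hr => field_mem_pgo (qfPlus m F) hQ hn hσ r hr)
  exact key

set_option maxHeartbeats 1600000 in
/-- `|Aut(PΩ⁺_{2m}(q))|` for `m ≥ 5`. -/
theorem S0817_aux (p f : ℕ) [Fact p.Prime] (hf : 1 ≤ f) (hF : Fintype.card F = p ^ f) (m : ℕ)
    (hm : 5 ≤ m) :
    Nat.card (MulAut (Cfsg.POmega F (Cfsg.quadFormPlus m F))) =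
      (if p = 2 then 2 else (if Even (m * (p ^ f - 1) / 2) then 8 else 4)) * f *
        Nat.card (Cfsg.POmega F (Cfsg.quadFormPlus m F)) := by
  have : CharP F p := charP_of_card_eq_prime_pow hF
  obtain ⟨hQ, hn, hT⟩ := plus_hyps (F := F) m hm
  have hne := plus_exists_ne_zero (F := F) m (by omega)
  have hσ : FieldCompat (⇑(qfPlus m F) : (Fin m ⊕ Fin m → F) → F) := by
    rw [qfPlus_coe]
    exact fieldCompat_plus m
  have h1 := card_aut_eq (qfPlus m F) hQ hn hT (ssRight_surjective_of_compat _ hσ)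
  rw [card_ringAut hF] at h1
  have hIP := inn_le_pgo_plus (F := F) m
  have h2 := card_eq_relIndex_mul _ _ hIP
  have hinj := conj_POmega_injective' (qfPlus m F) hQ hn
  have h3 : Nat.card (Cfsg.Inn (Cfsg.POmega F (⇑(qfPlus m F)))) =
      Nat.card (Cfsg.POmega F (⇑(qfPlus m F))) :=
    (Nat.card_congr (MonoidHom.ofInjective hinj).toEquiv).symm
  have h4 : (Cfsg.Inn (Cfsg.POmega F (⇑(qfPlus m F)))).relIndex
      (cHom (⇑(qfPlus m F))).range =
      (if p = 2 then 2 else (if Even (m * (p ^ f - 1) / 2) then 8 else 4)) := by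
    by_cases hp : p = 2
    · rw [if_pos hp]
      subst hp
      exact relIndex_inn_pgo_char2 (qfPlus m F) hQ hn hne
    · rw [if_neg hp]
      have hpodd : Odd p := (Fact.out : p.Prime).odd_of_ne_two hp
      have hodd : Odd (Fintype.card F) := by rw [hF]; exact hpodd.pow
      have hS := Cfsg.Agent.S2724.result hodd (m := m) (by omega)
      rw [pgoAut_eq] at hS
      have hq2 : (p ^ f) % 2 = 1 := Nat.odd_iff.1 hpodd.pow
      have hdiv : m * (p ^ f - 1) / 2 = m * ((p ^ f - 1) / 2) :=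
        Nat.mul_div_assoc m (by omega)
      have hiff : Even (m * (p ^ f - 1) / 2) ↔ ¬ (Odd m ∧ Fintype.card F % 4 = 3) := by
        rw [hdiv, Nat.even_mul, hF, ← Nat.not_even_iff_odd]
        have hr : Even ((p ^ f - 1) / 2) ↔ p ^ f % 4 = 1 := by
          rw [Nat.even_iff]
          omega
        rw [hr]
        constructor
        · rintro (h | h) ⟨h5, h6⟩
          · exact h5 h
          · omega
        · intro h
          by_cases h5 : Even m
          · exact Or.inl h5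
          · right
            have : ¬ p ^ f % 4 = 3 := fun h6 => h ⟨h5, h6⟩
            omega
      by_cases hc : Odd m ∧ Fintype.card F % 4 = 3
      · rw [if_neg (fun h => (hiff.1 h) hc)]
        obtain ⟨φ, hφs, hφk⟩ := hS.1 hc
        exact (relIndex_of_hom _ _ φ hφs hφk).trans (by
          rw [Nat.card_eq_fintype_card, Fintype.card_multiplicative, Fintype.card_prod, ZMod.card])
      · rw [if_pos (hiff.2 hc)]
        obtain ⟨φ, hφs, hφk⟩ := hS.2 hc
        exact (relIndex_of_hom _ _ φ hφs hφk).trans (by rw [DihedralGroup.nat_card])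
  rw [h2, h3, h4] at h1
  rw [← qfPlus_coe, h1]
  ring

end Cfsg.Agent.Lib.Helper16.OA
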