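import Mathlib
import Cfsg.Agent.Lib.Helper16.OA51

set_option autoImplicit false
set_option linter.unusedSectionVars false
set_option linter.unusedVariables false

/-! Automorphisms of orthogonal groups, part 53: field automorphisms, reflections and the spinor
character. -/

namespace Cfsg.Agent.Lib.Helper16.OA

open Matrix Cfsg.Agent.Lib.Lead Cfsg.Agent.Lib.Lead.OA Cfsg.Agent.Lib.Helper16

universe u

variable {ι : Type} [Fintype ι] [DecidableEq ι] {F : Type u} [Field F]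

theorem compat_polar {Q : (ι → F) → F} (hσ : FieldCompat Q) (σ : F ≃+* F) (u v : ι → F) :
    σ (QuadraticMap.polar Q u v) =
      QuadraticMap.polar Q (fun i => σ (u i)) (fun i => σ (v i)) := by
  unfold QuadraticMap.polar
  rw [map_sub, map_sub, ← hσ, ← hσ, ← hσ]
  congr 3
  funext i
  simp

theorem polarVec_map {Q : (ι → F) → F} (hσ : FieldCompat Q) (σ : F ≃+* F) (v : ι → F) (j : ι) :
    σ (Cfsg.polarVec Q v j) = Cfsg.polarVec Q (fun i => σ (v i)) j := by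
  unfold Cfsg.polarVec
  rw [compat_polar hσ]
  congr 1
  funext i
  by_cases h : i = j
  · subst h; simp
  · simp [h]

theorem reflectionMatrix_map {Q : (ι → F) → F} (hσ : FieldCompat Q) (σ : F ≃+* F) (v : ι → F) :
    (Cfsg.reflectionMatrix Q v).map σ = Cfsg.reflectionMatrix Q (fun i => σ (v i)) := by
  unfold Cfsg.reflectionMatrix
  ext i j
  simp only [Matrix.map_apply, Matrix.sub_apply, Matrix.smul_apply, Matrix.vecMulVec_apply,
    smul_eq_mul, map_sub, map_mul, map_inv₀, polarVec_map hσ, hσ σ v]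
  congr 1
  by_cases h : i = j
  · subst h; simp
  · simp [h]

theorem fieldIso_reflG (Q : QuadraticForm F (ι → F)) (hσ : FieldCompat (⇑Q : (ι → F) → F))
    (σ : RingAut F) (u : ι → F) (hu : Q u ≠ 0) (hu' : Q (fun i => σ (u i)) ≠ 0) :
    fieldIso (⇑Q : (ι → F) → F) hσ σ (reflG Q u hu) = reflG Q (fun i => σ (u i)) hu' := by
  apply iso_ext'
  rw [reflG_coe]
  show ((glMapEquiv σ ((reflG Q u hu : ↥(Cfsg.isometryGroup F (⇑Q : (ι → F) → F))) : GL ι F) :
    GL ι F) : Matrix ι ι F) = _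
  rw [glMapEquiv_val, reflG_coe, reflectionMatrix_map hσ]

theorem compat_ne_zero {Q : (ι → F) → F} (hσ : FieldCompat Q) (σ : F ≃+* F) (u : ι → F)
    (hu : Q u ≠ 0) : Q (fun i => σ (u i)) ≠ 0 := by
  rw [hσ]
  intro h
  apply hu
  have := congrArg σ.symm h
  rwa [RingEquiv.symm_apply_apply, map_zero] at this

section fin
variable [Fintype F]

theorem sqSign_map (σ : F ≃+* F) (x : F) : sqSign (σ x) = sqSign x := by
  unfold sqSign
  have h : IsSquare (σ x) ↔ IsSquare x := by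
    constructor
    · rintro ⟨y, hy⟩
      refine ⟨σ.symm y, ?_⟩
      rw [← map_mul, ← hy, RingEquiv.symm_apply_apply]
    · rintro ⟨y, hy⟩
      exact ⟨σ y, by rw [hy, map_mul]⟩
  by_cases hx : IsSquare x
  · rw [if_pos hx, if_pos (h.2 hx)]
  · rw [if_neg hx, if_neg (fun h' => hx (h.1 h'))]


/-- the spinor character is invariant under field automorphisms. -/
theorem chi_fieldIso (h2 : (2 : F) ≠ 0) (Q : QuadraticForm F (ι → F))
    (hQ : (QuadraticMap.polarBilin Q).Nondegenerate) (hσ : FieldCompat (⇑Q : (ι → F) → F))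
    (χ : ↥(Cfsg.isometryGroup F (⇑Q : (ι → F) → F)) →* ℤˣ) (κ : ℤˣ)
    (hχ : ∀ (v : ι → F) (hv : Q v ≠ 0), χ (reflG Q v hv) = κ * sqSign (Q v))
    (σ : RingAut F) (t : ↥(Cfsg.isometryGroup F (⇑Q : (ι → F) → F))) :
    χ (fieldIso (⇑Q : (ι → F) → F) hσ σ t) = χ t := by
  obtain ⟨vs, hvs, rfl⟩ := exists_list' Q h2 hQ t
  induction vs with
  | nil => simp
  | cons v vs ih =>
    have hv := hvs v List.mem_cons_self
    have hvs' : ∀ w ∈ vs, Q w ≠ 0 := fun w hw => hvs w (List.mem_cons_of_mem _ hw)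
    rw [List.map_cons, List.prod_cons, map_mul, map_mul, map_mul, ih hvs', reflG'_eq Q v hv,
      fieldIso_reflG Q hσ σ v hv (compat_ne_zero hσ σ v hv), hχ, hχ]
    congr 2
    show sqSign ((⇑Q : (ι → F) → F) fun i => σ (v i)) = _
    rw [hσ σ v, sqSign_map]

/-- the determinant is invariant under field automorphisms. -/
theorem isoDet_fieldIso (h2 : (2 : F) ≠ 0) (Q : QuadraticForm F (ι → F))
    (hQ : (QuadraticMap.polarBilin Q).Nondegenerate) (hσ : FieldCompat (⇑Q : (ι → F) → F))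
    (σ : RingAut F) (t : ↥(Cfsg.isometryGroup F (⇑Q : (ι → F) → F))) :
    isoDet (⇑Q : (ι → F) → F) (fieldIso (⇑Q : (ι → F) → F) hσ σ t) =
      isoDet (⇑Q : (ι → F) → F) t := by
  obtain ⟨vs, hvs, rfl⟩ := exists_list' Q h2 hQ t
  induction vs with
  | nil => simp
  | cons v vs ih =>
    have hv := hvs v List.mem_cons_self
    have hvs' : ∀ w ∈ vs, Q w ≠ 0 := fun w hw => hvs w (List.mem_cons_of_mem _ hw)
    rw [List.map_cons, List.prod_cons, map_mul, map_mul, map_mul, ih hvs', reflG'_eq Q v hv,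
      fieldIso_reflG Q hσ σ v hv (compat_ne_zero hσ σ v hv), isoDet_reflG, isoDet_reflG]

/-- a twisted commutator with a field automorphism lies in `Ω`. -/
theorem field_comm_mem_omega (h2 : (2 : F) ≠ 0) (Q : QuadraticForm F (ι → F))
    (hQ : (QuadraticMap.polarBilin Q).Nondegenerate) (hσ : FieldCompat (⇑Q : (ι → F) → F))
    (σ : RingAut F) (t₀ t : ↥(Cfsg.isometryGroup F (⇑Q : (ι → F) → F))) :
    t₀ * fieldIso (⇑Q : (ι → F) → F) hσ σ t * t₀⁻¹ * t⁻¹ ∈ Cfsg.Omega F (⇑Q : (ι → F) → F) := by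
  obtain ⟨χ, κ, hχ⟩ := spin_char_formula h2 Q
  rw [mem_omega_iff' Q h2 hQ χ κ hχ]
  constructor
  · rw [map_mul, map_mul, map_mul, map_inv, map_inv, isoDet_fieldIso h2 Q hQ hσ]
    rw [mul_comm (isoDet _ t₀), mul_inv_cancel_right, mul_inv_cancel]
  · rw [map_mul, map_mul, map_mul, map_inv, map_inv, chi_fieldIso h2 Q hQ hσ χ κ hχ]
    rw [mul_comm (χ t₀), mul_inv_cancel_right, mul_inv_cancel]

theorem fieldO_conj_c0 (Q : QuadraticForm F (ι → F)) (hσ : FieldCompat (⇑Q : (ι → F) → F))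
    (σ : RingAut F) (t : ↥(Cfsg.isometryGroup F (⇑Q : (ι → F) → F))) :
    fieldO (⇑Q : (ι → F) → F) hσ σ * c0 Q t * (fieldO (⇑Q : (ι → F) → F) hσ σ)⁻¹ =
      c0 Q (fieldIso (⇑Q : (ι → F) → F) hσ σ t) := by
  rw [c0_apply, fieldO_conj_cHom, c0_apply]
  congr 1

/-- the class of `c0 t₀ * fieldO σ` commutes with the classes of isometries modulo `Inn`. -/
theorem psi_comm_c0 (h2 : (2 : F) ≠ 0) (Q : QuadraticForm F (ι → F))
    (hQ : (QuadraticMap.polarBilin Q).Nondegenerate) (hσ : FieldCompat (⇑Q : (ι → F) → F))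
    (σ : RingAut F) (t₀ t : ↥(Cfsg.isometryGroup F (⇑Q : (ι → F) → F))) :
    (c0 Q t₀ * fieldO (⇑Q : (ι → F) → F) hσ σ) * c0 Q t *
      (c0 Q t₀ * fieldO (⇑Q : (ι → F) → F) hσ σ)⁻¹ * (c0 Q t)⁻¹ ∈
      Cfsg.Inn (Cfsg.POmega F (⇑Q : (ι → F) → F)) := by
  have e : (c0 Q t₀ * fieldO (⇑Q : (ι → F) → F) hσ σ) * c0 Q t *
      (c0 Q t₀ * fieldO (⇑Q : (ι → F) → F) hσ σ)⁻¹ * (c0 Q t)⁻¹ =
      c0 Q t₀ * (fieldO (⇑Q : (ι → F) → F) hσ σ * c0 Q t *
        (fieldO (⇑Q : (ι → F) → F) hσ σ)⁻¹) * (c0 Q t₀)⁻¹ * (c0 Q t)⁻¹ := by group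
  rw [e, fieldO_conj_c0, ← map_inv, ← map_inv, ← map_mul, ← map_mul, ← map_mul, inn_eq']
  exact ⟨_, field_comm_mem_omega h2 Q hQ hσ σ t₀ t, rfl⟩

end fin

end Cfsg.Agent.Lib.Helper16.OA
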