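import Mathlib
import Cfsg.Agent.Lib.Helper16.SpinG
import Cfsg.Agent.Lib.Lead.SLn

set_option autoImplicit false
set_option linter.unusedSectionVars false
set_option linter.unusedSimpArgs false

namespace Cfsg.Agent.Lib.Helper16

open Matrix
open scoped commutatorElement

variable {F : Type*} [Field F] {m : ℕ}

theorem quadFormPlus_dot (v : Fin m ⊕ Fin m → F) :
    Cfsg.quadFormPlus m F v = (v ∘ Sum.inl) ⬝ᵥ (v ∘ Sum.inr) := rfl

theorem fromBlocks_diag_mulVec_inl (A B : Matrix (Fin m) (Fin m) F) (v : Fin m ⊕ Fin m → F) :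
    (fromBlocks A 0 0 B *ᵥ v) ∘ Sum.inl = A *ᵥ (v ∘ Sum.inl) := by
  funext i
  simp [mulVec, dotProduct, Fintype.sum_sum_type]

theorem fromBlocks_diag_mulVec_inr (A B : Matrix (Fin m) (Fin m) F) (v : Fin m ⊕ Fin m → F) :
    (fromBlocks A 0 0 B *ᵥ v) ∘ Sum.inr = B *ᵥ (v ∘ Sum.inr) := by
  funext i
  simp [mulVec, dotProduct, Fintype.sum_sum_type]

theorem rho_pres (A B : Matrix (Fin m) (Fin m) F) (hAB : Aᵀ * B = 1) (v : Fin m ⊕ Fin m → F) :
    Cfsg.quadFormPlus m F (fromBlocks A 0 0 B *ᵥ v) = Cfsg.quadFormPlus m F v := by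
  rw [quadFormPlus_dot, quadFormPlus_dot, fromBlocks_diag_mulVec_inl, fromBlocks_diag_mulVec_inr,
    ← Matrix.vecMul_transpose, Matrix.dotProduct_mulVec, Matrix.vecMul_vecMul, hAB,
    Matrix.vecMul_one]

noncomputable def rhoGL : GL (Fin m) F →* GL (Fin m ⊕ Fin m) F where
  toFun A := ⟨fromBlocks (A : Matrix (Fin m) (Fin m) F) 0 0
      ((A⁻¹ : GL (Fin m) F) : Matrix (Fin m) (Fin m) F)ᵀ,
    fromBlocks ((A⁻¹ : GL (Fin m) F) : Matrix (Fin m) (Fin m) F) 0 0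
      (A : Matrix (Fin m) (Fin m) F)ᵀ,
    by
      rw [fromBlocks_multiply]
      simp only [Matrix.mul_zero, Matrix.zero_mul, add_zero, zero_add]
      rw [← Matrix.transpose_mul, ← Units.val_mul]
      simp [fromBlocks_one],
    by
      rw [fromBlocks_multiply]
      simp only [Matrix.mul_zero, Matrix.zero_mul, add_zero, zero_add]
      rw [← Matrix.transpose_mul, ← Units.val_mul]
      simp [fromBlocks_one]⟩
  map_one' := by
    apply Units.ext
    simp [fromBlocks_one]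
  map_mul' A B := by
    apply Units.ext
    simp only [Units.val_mul, _root_.mul_inv_rev, fromBlocks_multiply, Matrix.mul_zero,
      Matrix.zero_mul, add_zero, zero_add, Matrix.transpose_mul]

theorem rhoGL_coe (A : GL (Fin m) F) :
    ((rhoGL A : GL (Fin m ⊕ Fin m) F) : Matrix (Fin m ⊕ Fin m) (Fin m ⊕ Fin m) F)
      = fromBlocks (A : Matrix (Fin m) (Fin m) F) 0 0
        ((A : Matrix (Fin m) (Fin m) F)⁻¹)ᵀ := by
  rw [← Matrix.coe_units_inv]
  rfl

theorem rhoGL_mem (A : GL (Fin m) F) : rhoGL A ∈ Cfsg.isometryGroup F (Cfsg.quadFormPlus m F) := by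
  rw [mem_iso_iff]
  intro x
  apply rho_pres
  rw [← Matrix.transpose_mul, ← Units.val_mul]
  simp

noncomputable def rhoO : GL (Fin m) F →* ↥(Cfsg.isometryGroup F (Cfsg.quadFormPlus m F)) :=
  MonoidHom.codRestrict rhoGL _ rhoGL_mem

theorem rhoO_coe (A : GL (Fin m) F) :
    (((rhoO A : ↥(Cfsg.isometryGroup F (Cfsg.quadFormPlus m F))) : GL (Fin m ⊕ Fin m) F) :
      Matrix (Fin m ⊕ Fin m) (Fin m ⊕ Fin m) F)
      = fromBlocks (A : Matrix (Fin m) (Fin m) F) 0 0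
        ((A : Matrix (Fin m) (Fin m) F)⁻¹)ᵀ := rhoGL_coe A

theorem rhoO_comm_mem (A : GL (Fin m) F) (hA : A ∈ commutator (GL (Fin m) F)) :
    rhoO A ∈ Cfsg.Omega F (Cfsg.quadFormPlus m F) := by
  have h1 : (commutator (GL (Fin m) F)).map rhoO ≤ commutator _ := by
    rw [commutator_def, Subgroup.map_commutator]
    exact Subgroup.commutator_mono le_top le_top
  exact h1 (Subgroup.mem_map_of_mem _ hA)

theorem swapS_mul_self' : (fromBlocks 0 1 1 0 : Matrix (Fin m ⊕ Fin m) (Fin m ⊕ Fin m) F) *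
    fromBlocks 0 1 1 0 = 1 := by
  rw [fromBlocks_multiply]
  simp [fromBlocks_one]

theorem swapS_mulVec_inl (v : Fin m ⊕ Fin m → F) :
    ((fromBlocks 0 1 1 0 : Matrix (Fin m ⊕ Fin m) (Fin m ⊕ Fin m) F) *ᵥ v) ∘ Sum.inl
      = v ∘ Sum.inr := by
  funext i
  simp [mulVec, dotProduct, Fintype.sum_sum_type, Matrix.one_apply]

theorem swapS_mulVec_inr (v : Fin m ⊕ Fin m → F) :
    ((fromBlocks 0 1 1 0 : Matrix (Fin m ⊕ Fin m) (Fin m ⊕ Fin m) F) *ᵥ v) ∘ Sum.inr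
      = v ∘ Sum.inl := by
  funext i
  simp [mulVec, dotProduct, Fintype.sum_sum_type, Matrix.one_apply]

noncomputable def swapO : ↥(Cfsg.isometryGroup F (Cfsg.quadFormPlus m F)) :=
  ⟨⟨fromBlocks 0 1 1 0, fromBlocks 0 1 1 0, swapS_mul_self', swapS_mul_self'⟩, by
    rw [mem_iso_iff]
    intro x
    show Cfsg.quadFormPlus m F (fromBlocks 0 1 1 0 *ᵥ x) = _
    rw [quadFormPlus_dot, quadFormPlus_dot, swapS_mulVec_inl, swapS_mulVec_inr, dotProduct_comm]⟩

theorem swapO_coe : (((swapO : ↥(Cfsg.isometryGroup F (Cfsg.quadFormPlus m F))) :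
    GL (Fin m ⊕ Fin m) F) : Matrix (Fin m ⊕ Fin m) (Fin m ⊕ Fin m) F) = fromBlocks 0 1 1 0 := rfl

theorem rho_symm_sq_mem (A : GL (Fin m) F)
    (hA : (A : Matrix (Fin m) (Fin m) F)ᵀ = (A : Matrix (Fin m) (Fin m) F)) :
    rhoO (A * A) ∈ Cfsg.Omega F (Cfsg.quadFormPlus m F) := by
  have hA' : ((A⁻¹ : GL (Fin m) F) : Matrix (Fin m) (Fin m) F)ᵀ
      = ((A⁻¹ : GL (Fin m) F) : Matrix (Fin m) (Fin m) F) := by
    rw [Matrix.coe_units_inv, Matrix.transpose_nonsing_inv, hA]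
  have key : (swapO : ↥(Cfsg.isometryGroup F (Cfsg.quadFormPlus m F))) * rhoO A⁻¹
      = rhoO A * swapO := by
    apply iso_ext'
    rw [iso_mul_coe, iso_mul_coe, swapO_coe]
    show fromBlocks 0 1 1 0 * fromBlocks ((A⁻¹ : GL (Fin m) F) : Matrix (Fin m) (Fin m) F) 0 0
        (((A⁻¹)⁻¹ : GL (Fin m) F) : Matrix (Fin m) (Fin m) F)ᵀ
      = fromBlocks (A : Matrix (Fin m) (Fin m) F) 0 0
        ((A⁻¹ : GL (Fin m) F) : Matrix (Fin m) (Fin m) F)ᵀ * fromBlocks 0 1 1 0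
    rw [fromBlocks_multiply, fromBlocks_multiply, inv_inv, hA, hA']
    simp
  have h2 : rhoO (A * A) = ⁅rhoO A, (swapO : ↥(Cfsg.isometryGroup F (Cfsg.quadFormPlus m F)))⁆ := by
    rw [commutatorElement_def, map_mul, mul_assoc (rhoO A), mul_assoc (rhoO A), ← map_inv, key,
      mul_inv_cancel_right]
  rw [h2]
  exact Subgroup.commutator_mem_commutator (Subgroup.mem_top _) (Subgroup.mem_top _)

end Cfsg.Agent.Lib.Helper16
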