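import Mathlib
import Cfsg.Agent.Lib.Helper16.OA52
import Cfsg.Agent.Lib.Helper16.OA53
import Cfsg.Agent.S2611

set_option autoImplicit false
set_option linter.unusedSectionVars false
set_option linter.unusedVariables false

/-! Automorphisms of orthogonal groups, part 54: the Frobenius class and the diagonal similarities
of the plus-type form. -/

namespace Cfsg.Agent.Lib.Helper16.OA

open Matrix Cfsg.Agent.Lib.Lead Cfsg.Agent.Lib.Lead.OA Cfsg.Agent.Lib.Lead.OAP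
  Cfsg.Agent.Lib.Helper16

universe u

variable {F : Type u} [Field F] [Fintype F] {m : ℕ}

/-- the scalar matrix `a • 1` as a unit. -/
noncomputable def scalM (m : ℕ) (a : Fˣ) : GL (Fin m) F :=
  Matrix.GeneralLinearGroup.scalar (Fin m) a

theorem scalM_coe (a : Fˣ) :
    ((scalM m a : GL (Fin m) F) : Matrix (Fin m) (Fin m) F) = (a : F) • 1 := by
  unfold scalM
  rw [Matrix.GeneralLinearGroup.coe_scalar, Matrix.scalar_apply, ← Matrix.smul_one_eq_diagonal]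

theorem scalM_det (a : Fˣ) :
    ((scalM m a : GL (Fin m) F) : Matrix (Fin m) (Fin m) F).det = (a : F) ^ m := by
  rw [scalM_coe, Matrix.det_smul, Matrix.det_one, mul_one, Fintype.card_fin]

theorem rhoO_scalM_coe (a : Fˣ) :
    (((rhoO (scalM m a) : ↥(Cfsg.isometryGroup F (Cfsg.quadFormPlus m F))) :
      GL (Fin m ⊕ Fin m) F) : Matrix (Fin m ⊕ Fin m) (Fin m ⊕ Fin m) F) =
      fromBlocks ((a : F) • 1) 0 0 (((a⁻¹ : Fˣ) : F) • 1) := by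
  show fromBlocks ((scalM m a : GL (Fin m) F) : Matrix (Fin m) (Fin m) F) 0 0
    (((scalM m a)⁻¹ : GL (Fin m) F) : Matrix (Fin m) (Fin m) F)ᵀ = _
  have h : (scalM m a)⁻¹ = scalM m a⁻¹ :=
    (map_inv (Matrix.GeneralLinearGroup.scalar (Fin m)) a).symm
  rw [h, scalM_coe, scalM_coe, Matrix.transpose_smul, Matrix.transpose_one]

/-- `ρ(a • 1)` as an isometry of the bundled form. -/
noncomputable def rhoQ (m : ℕ) (a : Fˣ) :
    ↥(Cfsg.isometryGroup F (⇑(qfPlus m F) : (Fin m ⊕ Fin m → F) → F)) :=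
  rhoO (scalM m a)

theorem rhoQ_coe (a : Fˣ) :
    (((rhoQ m a : ↥(Cfsg.isometryGroup F (⇑(qfPlus m F) : (Fin m ⊕ Fin m → F) → F))) :
      GL (Fin m ⊕ Fin m) F) : Matrix (Fin m ⊕ Fin m) (Fin m ⊕ Fin m) F) =
      fromBlocks ((a : F) • 1) 0 0 (((a⁻¹ : Fˣ) : F) • 1) :=
  rhoO_scalM_coe a

/-- the swap of the two standard maximal singular subspaces, for the bundled form. -/
noncomputable def swapQ (m : ℕ) :
    ↥(Cfsg.isometryGroup F (⇑(qfPlus m F) : (Fin m ⊕ Fin m → F) → F)) :=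
  swapO

theorem swapQ_coe :
    (((swapQ m : ↥(Cfsg.isometryGroup F (⇑(qfPlus m F) : (Fin m ⊕ Fin m → F) → F))) :
      GL (Fin m ⊕ Fin m) F) : Matrix (Fin m ⊕ Fin m) (Fin m ⊕ Fin m) F) =
      fromBlocks 0 1 1 0 := rfl

/-- `ρ(a • 1)` lies in `Ω` when `a ^ m` is a square. -/
theorem rhoQ_mem (hm : 1 ≤ m) (h : Fintype.card F ≠ 2 ∨ m ≠ 2) (a : Fˣ)
    (ha : IsSquare ((a : F) ^ m)) :
    rhoQ m a ∈ Cfsg.Omega F (⇑(qfPlus m F) : (Fin m ⊕ Fin m → F) → F) := by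
  rw [← scalM_det] at ha
  obtain ⟨g, hg, hgm⟩ := (Cfsg.Agent.S2611.result hm h (scalM m a)).2 ha
  have : g = rhoO (scalM m a) := by
    apply iso_ext'
    rw [hgm, rhoO_coe]
  rw [this] at hg
  exact hg

theorem dPlus_map (σ : F ≃+* F) (μ : Fˣ) :
    glMapEquiv σ (dPlus (m := m) μ) = dPlus (m := m) (Units.map (σ : F →* F) μ) := by
  apply Units.ext
  rw [glMapEquiv_val, dPlus_coe, dPlus_coe]
  ext i j
  rw [Matrix.map_apply, Matrix.diagonal_apply, Matrix.diagonal_apply]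
  by_cases h : i = j
  · rw [if_pos h, if_pos h]
    rcases i with i | i <;> simp
  · rw [if_neg h, if_neg h, map_zero]

theorem dPlus_blocks (μ : Fˣ) :
    ((dPlus (m := m) μ : GL (Fin m ⊕ Fin m) F) : Matrix (Fin m ⊕ Fin m) (Fin m ⊕ Fin m) F) =
      fromBlocks ((μ : F) • 1) 0 0 1 := by
  rw [dPlus_coe, Matrix.smul_one_eq_diagonal, ← Matrix.diagonal_one, Matrix.fromBlocks_diagonal]

/-- first key identity: `d(ν²μ) = ν · ρ(ν) · d(μ)`. -/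
theorem dPlus_key1 (μ ν : Fˣ) :
    (⟨dPlus (m := m) (ν * ν * μ), dPlus_mem _⟩ : ↥(GOq (qfPlus m F))) =
      scalGO (qfPlus m F) ν * isoToGO (qfPlus m F) (rhoQ m ν) *
        ⟨dPlus (m := m) μ, dPlus_mem _⟩ := by
  apply Subtype.ext
  apply Units.ext
  rw [Subgroup.coe_mul, Subgroup.coe_mul, Units.val_mul, Units.val_mul, scalGO_coe, isoToGO_coe,
    rhoQ_coe]
  show ((dPlus (m := m) (ν * ν * μ) : GL (Fin m ⊕ Fin m) F) :
      Matrix (Fin m ⊕ Fin m) (Fin m ⊕ Fin m) F) = _ *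
    ((dPlus (m := m) μ : GL (Fin m ⊕ Fin m) F) : Matrix (Fin m ⊕ Fin m) (Fin m ⊕ Fin m) F)
  rw [dPlus_blocks, dPlus_blocks]
  simp only [Matrix.smul_mul, Matrix.one_mul, Matrix.fromBlocks_multiply, Matrix.fromBlocks_smul,
    Matrix.mul_zero, Matrix.zero_mul, add_zero, zero_add, Matrix.mul_one, smul_zero,
    smul_smul, Units.val_mul]
  congr 1
  rw [Units.mul_inv, one_smul]

/-- second key identity: `s · d(ν²μ) · s = ν · ρ((μν)⁻¹) · d(μ)`. -/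
theorem dPlus_key2 (μ ν : Fˣ) :
    isoToGO (qfPlus m F) (swapQ m) * (⟨dPlus (m := m) (ν * ν * μ), dPlus_mem _⟩ : ↥(GOq (qfPlus m F))) *
        isoToGO (qfPlus m F) (swapQ m) =
      scalGO (qfPlus m F) ν * isoToGO (qfPlus m F) (rhoQ m (μ * ν)⁻¹) *
        ⟨dPlus (m := m) μ, dPlus_mem _⟩ := by
  apply Subtype.ext
  apply Units.ext
  rw [Subgroup.coe_mul, Subgroup.coe_mul, Subgroup.coe_mul, Subgroup.coe_mul, Units.val_mul,
    Units.val_mul, Units.val_mul, Units.val_mul, scalGO_coe, isoToGO_coe, isoToGO_coe, rhoQ_coe,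
    swapQ_coe]
  show _ * ((dPlus (m := m) (ν * ν * μ) : GL (Fin m ⊕ Fin m) F) :
      Matrix (Fin m ⊕ Fin m) (Fin m ⊕ Fin m) F) * _ = _ *
    ((dPlus (m := m) μ : GL (Fin m ⊕ Fin m) F) : Matrix (Fin m ⊕ Fin m) (Fin m ⊕ Fin m) F)
  rw [dPlus_blocks, dPlus_blocks]
  simp only [Matrix.smul_mul, Matrix.one_mul, Matrix.fromBlocks_multiply, Matrix.fromBlocks_smul,
    Matrix.mul_zero, Matrix.zero_mul, add_zero, zero_add, Matrix.mul_one, smul_zero,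
    smul_smul, Units.val_mul, inv_inv]
  have h1 : (ν : F) * ((μ * ν)⁻¹ : Fˣ) * (μ : F) = 1 := by
    have : ν * (μ * ν)⁻¹ * μ = 1 := by
      rw [_root_.mul_inv_rev, ← mul_assoc, mul_inv_cancel, one_mul, inv_mul_cancel]
    have h := congrArg (fun x : Fˣ => (x : F)) this
    simp only [Units.val_mul, Units.val_one] at h
    exact h
  have h2 : (ν : F) * ((μ : F) * (ν : F)) = (ν : F) * (ν : F) * (μ : F) := by ring
  rw [h1, h2, one_smul]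

theorem swapQ_mul_self : (swapQ m : ↥(Cfsg.isometryGroup F (⇑(qfPlus m F) :
    (Fin m ⊕ Fin m → F) → F))) * swapQ m = 1 := by
  apply iso_ext'
  rw [iso_mul_coe, swapQ_coe, swapS_mul_self']
  rfl

theorem swapQ_inv : (swapQ m : ↥(Cfsg.isometryGroup F (⇑(qfPlus m F) :
    (Fin m ⊕ Fin m → F) → F)))⁻¹ = swapQ m :=
  inv_eq_of_mul_eq_one_left swapQ_mul_self

theorem fieldIso_swapQ (hσ : FieldCompat (⇑(qfPlus m F) : (Fin m ⊕ Fin m → F) → F))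
    (σ : RingAut F) :
    fieldIso (⇑(qfPlus m F) : (Fin m ⊕ Fin m → F) → F) hσ σ (swapQ m) = swapQ m := by
  apply iso_ext'
  show ((glMapEquiv σ ((swapQ m : ↥(Cfsg.isometryGroup F (⇑(qfPlus m F) :
    (Fin m ⊕ Fin m → F) → F))) : GL (Fin m ⊕ Fin m) F) : GL (Fin m ⊕ Fin m) F) :
    Matrix (Fin m ⊕ Fin m) (Fin m ⊕ Fin m) F) = _
  rw [glMapEquiv_val, swapQ_coe]
  ext i j
  rw [Matrix.map_apply]
  rcases i with i | i <;> rcases j with j | j <;>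
    simp [Matrix.fromBlocks_apply₁₁, Matrix.fromBlocks_apply₁₂, Matrix.fromBlocks_apply₂₁,
      Matrix.fromBlocks_apply₂₂, Matrix.one_apply, apply_ite]

/-- if `t₀ · d(σμ) · t₀⁻¹ = ν · ρ(a) · d(μ)` with `ρ(a) ∈ Ω`, then `c0 t₀ * fieldO σ` commutes
with `cHom d(μ)` modulo `Inn`. -/
theorem psi_comm_dPlus (h2 : (2 : F) ≠ 0) (hn : 4 ≤ Fintype.card (Fin m ⊕ Fin m))
    (hσ : FieldCompat (⇑(qfPlus m F) : (Fin m ⊕ Fin m → F) → F)) (σ : RingAut F)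
    (t₀ : ↥(Cfsg.isometryGroup F (⇑(qfPlus m F) : (Fin m ⊕ Fin m → F) → F))) (μ ν a : Fˣ)
    (hkey : isoToGO (qfPlus m F) t₀ *
        (⟨dPlus (m := m) (Units.map (σ : F →* F) μ), dPlus_mem _⟩ : ↥(GOq (qfPlus m F))) *
        (isoToGO (qfPlus m F) t₀)⁻¹ =
      scalGO (qfPlus m F) ν * isoToGO (qfPlus m F) (rhoQ m a) * ⟨dPlus (m := m) μ, dPlus_mem _⟩)
    (ha : rhoQ m a ∈ Cfsg.Omega F (⇑(qfPlus m F) : (Fin m ⊕ Fin m → F) → F)) :
    (c0 (qfPlus m F) t₀ * fieldO (⇑(qfPlus m F) : (Fin m ⊕ Fin m → F) → F) hσ σ) *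
      cHom (⇑(qfPlus m F) : (Fin m ⊕ Fin m → F) → F) ⟨dPlus (m := m) μ, dPlus_mem _⟩ *
      (c0 (qfPlus m F) t₀ * fieldO (⇑(qfPlus m F) : (Fin m ⊕ Fin m → F) → F) hσ σ)⁻¹ *
      (cHom (⇑(qfPlus m F) : (Fin m ⊕ Fin m → F) → F) ⟨dPlus (m := m) μ, dPlus_mem _⟩)⁻¹ ∈
      Cfsg.Inn (Cfsg.POmega F (⇑(qfPlus m F) : (Fin m ⊕ Fin m → F) → F)) := by
  have e : ∀ (A B D : MulAut (Cfsg.POmega F (⇑(qfPlus m F) : (Fin m ⊕ Fin m → F) → F))),
      (A * B) * D * (A * B)⁻¹ * D⁻¹ = A * (B * D * B⁻¹) * A⁻¹ * D⁻¹ := by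
    intro A B D
    group
  rw [e, fieldO_conj_cHom]
  have e2 : (⟨glMapEquiv σ ((⟨dPlus (m := m) μ, dPlus_mem _⟩ : ↥(GOq (qfPlus m F))) :
      GL (Fin m ⊕ Fin m) F), glMapEquiv_mem_GO hσ σ (dPlus_mem μ)⟩ : ↥(GOq (qfPlus m F))) =
      ⟨dPlus (m := m) (Units.map (σ : F →* F) μ), dPlus_mem _⟩ :=
    Subtype.ext (dPlus_map σ μ)
  rw [e2, c0_apply, ← map_inv, ← map_mul, ← map_mul, hkey, map_mul, map_mul,
    scal_mem_ker (qfPlus m F) h2 (qfPlus_nondeg m F) hn, one_mul, mul_inv_cancel_right, ← c0_apply,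
    inn_eq']
  exact ⟨_, ha, rfl⟩

section frob
variable {p : ℕ} [Fact p.Prime] [CharP F p]

theorem frob_units (hp : p ≠ 2) (μ : Fˣ) :
    Units.map ((frobAut F p : F ≃+* F) : F →* F) μ =
      μ ^ ((p - 1) / 2) * μ ^ ((p - 1) / 2) * μ := by
  have hpodd : Odd p := (Fact.out : p.Prime).odd_of_ne_two hp
  obtain ⟨k, hk⟩ := hpodd
  apply Units.ext
  show frobAut F p (μ : F) = _
  rw [frobAut_apply, Units.val_mul, Units.val_mul, Units.val_pow_eq_pow_val, ← pow_add, ← pow_succ]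
  congr 1
  omega

/-- the Frobenius class commutes with the diagonal similarities modulo `Inn`, first case. -/
theorem frob_comm_dPlus_one (h2 : (2 : F) ≠ 0) (hm : 1 ≤ m)
    (hn : 4 ≤ Fintype.card (Fin m ⊕ Fin m)) (h : Fintype.card F ≠ 2 ∨ m ≠ 2)
    (hσ : FieldCompat (⇑(qfPlus m F) : (Fin m ⊕ Fin m → F) → F)) (hp : p ≠ 2)
    (heven : Even (m * ((p - 1) / 2))) (μ : Fˣ) :
    (c0 (qfPlus m F) 1 * fieldO (⇑(qfPlus m F) : (Fin m ⊕ Fin m → F) → F) hσ (frobAut F p)) *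
      cHom (⇑(qfPlus m F) : (Fin m ⊕ Fin m → F) → F) ⟨dPlus (m := m) μ, dPlus_mem _⟩ *
      (c0 (qfPlus m F) 1 *
        fieldO (⇑(qfPlus m F) : (Fin m ⊕ Fin m → F) → F) hσ (frobAut F p))⁻¹ *
      (cHom (⇑(qfPlus m F) : (Fin m ⊕ Fin m → F) → F) ⟨dPlus (m := m) μ, dPlus_mem _⟩)⁻¹ ∈
      Cfsg.Inn (Cfsg.POmega F (⇑(qfPlus m F) : (Fin m ⊕ Fin m → F) → F)) := by
  apply psi_comm_dPlus h2 hn hσ (frobAut F p) 1 μ (μ ^ ((p - 1) / 2)) (μ ^ ((p - 1) / 2))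
  · rw [map_one, one_mul, inv_one, mul_one, ← dPlus_key1]
    exact Subtype.ext (congrArg (fun x => dPlus (m := m) x) (frob_units hp μ))
  · apply rhoQ_mem hm h
    obtain ⟨k, hk⟩ := heven
    refine ⟨(μ : F) ^ k, ?_⟩
    rw [Units.val_pow_eq_pow_val, ← pow_mul, ← pow_add, mul_comm, hk]

/-- the Frobenius class times the swap commutes with the diagonal similarities modulo `Inn`,
second case. -/
theorem frob_comm_dPlus_swap (h2 : (2 : F) ≠ 0) (hm : 1 ≤ m)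
    (hn : 4 ≤ Fintype.card (Fin m ⊕ Fin m)) (h : Fintype.card F ≠ 2 ∨ m ≠ 2)
    (hσ : FieldCompat (⇑(qfPlus m F) : (Fin m ⊕ Fin m → F) → F)) (hp : p ≠ 2)
    (hodd : Odd ((p - 1) / 2)) (μ : Fˣ) :
    (c0 (qfPlus m F) (swapQ m) *
        fieldO (⇑(qfPlus m F) : (Fin m ⊕ Fin m → F) → F) hσ (frobAut F p)) *
      cHom (⇑(qfPlus m F) : (Fin m ⊕ Fin m → F) → F) ⟨dPlus (m := m) μ, dPlus_mem _⟩ *
      (c0 (qfPlus m F) (swapQ m) *
        fieldO (⇑(qfPlus m F) : (Fin m ⊕ Fin m → F) → F) hσ (frobAut F p))⁻¹ *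
      (cHom (⇑(qfPlus m F) : (Fin m ⊕ Fin m → F) → F) ⟨dPlus (m := m) μ, dPlus_mem _⟩)⁻¹ ∈
      Cfsg.Inn (Cfsg.POmega F (⇑(qfPlus m F) : (Fin m ⊕ Fin m → F) → F)) := by
  apply psi_comm_dPlus h2 hn hσ (frobAut F p) (swapQ m) μ (μ ^ ((p - 1) / 2))
    (μ * μ ^ ((p - 1) / 2))⁻¹
  · rw [← map_inv, swapQ_inv, ← dPlus_key2]
    congr 2
    exact Subtype.ext (congrArg (fun x => dPlus (m := m) x) (frob_units hp μ))
  · apply rhoQ_mem hm h
    obtain ⟨k, hk⟩ := hodd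
    refine ⟨(((μ : F) ^ (k + 1)) ^ m)⁻¹, ?_⟩
    rw [Units.val_inv_eq_inv_val, inv_pow, Units.val_mul, Units.val_pow_eq_pow_val, ← pow_succ',
      hk, ← mul_inv, ← pow_add, ← pow_mul, ← pow_mul]
    congr 2
    ring

end frob

end Cfsg.Agent.Lib.Helper16.OA
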