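import Mathlib
import Cfsg.Agent.Lib.Helper16.OA54
import Cfsg.Agent.S0790

set_option autoImplicit false
set_option linter.unusedSectionVars false
set_option linter.unusedVariables false

/-! Automorphisms of orthogonal groups, part 55: `Out(PΩ⁺_{2m}(q))`, `q` odd, `m ≥ 5`. -/

namespace Cfsg.Agent.Lib.Helper16.OA

open Matrix Cfsg.Agent.Lib.Lead Cfsg.Agent.Lib.Lead.OA Cfsg.Agent.Lib.Lead.OAP
  Cfsg.Agent.Lib.Helper16

universe u

/-- a split extension by a cyclic group generated by an element centralising the kernel is a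
direct product. -/
theorem split_ext {G R K : Type*} [Group G] [Group R] [Group K] (θ : G →* R) (f : ℕ) (hf : 1 ≤ f)
    (hR : Nat.card R = f) (ψ : G) (hψ : orderOf (θ ψ) = f) (hψf : ψ ^ f = 1)
    (hc : ∀ v ∈ θ.ker, ψ * v = v * ψ) (e : ↥θ.ker ≃* K) :
    Nonempty (G ≃* K × Multiplicative (ZMod f)) := by
  classical
  have hRfin : Finite R := Nat.finite_of_card_ne_zero (by omega)
  have : NeZero f := ⟨by omega⟩
  have htop : Subgroup.zpowers (θ ψ) = ⊤ := by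
    rw [← Subgroup.card_eq_iff_eq_top, Nat.card_zpowers, hψ, hR]
  have hord : orderOf ψ = f := by
    apply Nat.dvd_antisymm (orderOf_dvd_of_pow_eq_one hψf)
    rw [← hψ]
    exact orderOf_map_dvd θ ψ
  have hcz : ∀ c ∈ Subgroup.zpowers ψ, ∀ v ∈ θ.ker, c * v = v * c := by
    intro c hcm v hv
    obtain ⟨k, rfl⟩ := hcm
    exact ((Commute.zpow_left (hc v hv) k) : Commute (ψ ^ k) v)
  let Ξ : ↥θ.ker × ↥(Subgroup.zpowers ψ) →* G :=
    { toFun := fun x => (x.1 : G) * (x.2 : G)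
      map_one' := by simp
      map_mul' := fun x y => by
        simp only [Prod.fst_mul, Prod.snd_mul, Subgroup.coe_mul]
        have h1 := hcz x.2 x.2.2 y.1 y.1.2
        calc (x.1 : G) * (y.1 : G) * ((x.2 : G) * (y.2 : G))
            = (x.1 : G) * ((y.1 : G) * (x.2 : G)) * (y.2 : G) := by group
          _ = (x.1 : G) * ((x.2 : G) * (y.1 : G)) * (y.2 : G) := by rw [h1]
          _ = _ := by group }
  have hΞinj : Function.Injective Ξ := by
    rw [injective_iff_map_eq_one]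
    rintro ⟨n, c⟩ h
    have h1 : (n : G) * (c : G) = 1 := h
    have h2 : (c : G) ∈ θ.ker := by
      have : (c : G) = (n : G)⁻¹ := eq_inv_of_mul_eq_one_right h1
      rw [this]
      exact θ.ker.inv_mem n.2
    obtain ⟨k, hk⟩ := c.2
    have h3 : (c : G) = 1 := by
      rw [← hk] at h2 ⊢
      rw [MonoidHom.mem_ker, map_zpow] at h2
      have h4 := (orderOf_dvd_iff_zpow_eq_one).2 h2
      rw [hψ, ← hord] at h4
      exact (orderOf_dvd_iff_zpow_eq_one).1 h4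
    rw [h3, mul_one] at h1
    exact Prod.ext (Subtype.ext h1) (Subtype.ext h3)
  have hΞsurj : Function.Surjective Ξ := by
    intro g
    have h1 : θ g ∈ Subgroup.zpowers (θ ψ) := by rw [htop]; exact Subgroup.mem_top _
    obtain ⟨k, hk⟩ := Subgroup.mem_zpowers_iff.1 h1
    have h2 : g * (ψ ^ k)⁻¹ ∈ θ.ker := by
      rw [MonoidHom.mem_ker, map_mul, map_inv, map_zpow]
      show θ g * (θ ψ ^ k)⁻¹ = 1
      rw [hk, mul_inv_cancel]
    refine ⟨(⟨g * (ψ ^ k)⁻¹, h2⟩, ⟨ψ ^ k, ⟨k, rfl⟩⟩), ?_⟩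
    show g * (ψ ^ k)⁻¹ * ψ ^ k = g
    group
  let E : ↥θ.ker × ↥(Subgroup.zpowers ψ) ≃* G := MulEquiv.ofBijective Ξ ⟨hΞinj, hΞsurj⟩
  have hcC : Nat.card ↥(Subgroup.zpowers ψ) = Nat.card (Multiplicative (ZMod f)) := by
    rw [Nat.card_zpowers, hord, Nat.card_eq_fintype_card, Fintype.card_multiplicative, ZMod.card]
  let e₁ : ↥(Subgroup.zpowers ψ) ≃* Multiplicative (ZMod f) := mulEquivOfCyclicCardEq hcC
  exact ⟨E.symm.trans (MulEquiv.prodCongr e e₁)⟩

section gen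
variable {ι : Type} [Fintype ι] [DecidableEq ι] {F : Type u} [Field F] [Fintype F]

/-- the field automorphism as the automorphism induced by a semisimilarity. -/
theorem ssHom_field (Q : (ι → F) → F) (hσ : FieldCompat Q) (σ : RingAut F)
    (h : (⟨1, σ⟩ : GammaL ι F) ∈ gammaO Q) :
    ssHom Q ⟨⟨1, σ⟩, h⟩ = fieldO Q hσ σ := by
  apply MulEquiv.ext
  intro y
  induction y using QuotientGroup.induction_on with
  | H s =>
    rw [ssHom_mk, fieldO_mk]
    congr 1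
    apply Subtype.ext
    apply Subtype.ext
    rw [ssHom_mk_coe, fieldO_mk_coe]
    show (1 : GL ι F) * _ * (1 : GL ι F)⁻¹ = _
    rw [one_mul, inv_one, mul_one]

theorem field_mem_gammaO (Q : (ι → F) → F) (hσ : FieldCompat Q) (σ : RingAut F) :
    (⟨1, σ⟩ : GammaL ι F) ∈ gammaO Q := by
  rw [mem_gammaO]
  refine ⟨1, fun v => ?_⟩
  show Q (((1 : GL ι F) : Matrix ι ι F) *ᵥ fun i => σ (v i)) = ((1 : Fˣ) : F) * σ (Q v)
  rw [Units.val_one, Matrix.one_mulVec, Units.val_one, one_mul, hσ]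

/-- the kernel of the map to the field automorphisms is `PGO / Inn`. -/
theorem ker_equiv (Q : QuadraticForm F (ι → F)) {K : Type*} [Group K]
    (θ' : Cfsg.Out (Cfsg.POmega F (⇑Q : (ι → F) → F)) →* RingAut F)
    (hkermem : ∀ x : MulAut (Cfsg.POmega F (⇑Q : (ι → F) → F)),
      (QuotientGroup.mk x : Cfsg.Out (Cfsg.POmega F (⇑Q : (ι → F) → F))) ∈ θ'.ker ↔
        x ∈ (cHom (⇑Q : (ι → F) → F)).range)
    (φ : ↥(cHom (⇑Q : (ι → F) → F)).range →* K) (hφs : Function.Surjective φ)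
    (hφk : φ.ker = (Cfsg.Inn (Cfsg.POmega F (⇑Q : (ι → F) → F))).subgroupOf
      (cHom (⇑Q : (ι → F) → F)).range) :
    Nonempty (↥θ'.ker ≃* K) := by
  let ξ : ↥(cHom (⇑Q : (ι → F) → F)).range →* Cfsg.Out (Cfsg.POmega F (⇑Q : (ι → F) → F)) :=
    (QuotientGroup.mk' _).comp (Subgroup.subtype _)
  have hξr : ξ.range = θ'.ker := by
    ext y
    constructor
    · rintro ⟨x, rfl⟩
      exact (hkermem x).2 x.2
    · intro hy
      induction y using QuotientGroup.induction_on with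
      | H x => exact ⟨⟨x, (hkermem x).1 hy⟩, rfl⟩
  have hξk : ξ.ker = φ.ker := by
    rw [hφk]
    ext x
    rw [MonoidHom.mem_ker, Subgroup.mem_subgroupOf]
    exact QuotientGroup.eq_one_iff _
  exact ⟨(MulEquiv.subgroupCongr hξr).symm.trans ((QuotientGroup.quotientKerEquivRange ξ).symm.trans
      ((QuotientGroup.quotientMulEquivOfEq hξk).trans
        (QuotientGroup.quotientKerEquivOfSurjective φ hφs)))⟩

theorem comm_of_mem {G : Type*} [Group G] (N : Subgroup G) [N.Normal] (a b : G)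
    (h : a * b * a⁻¹ * b⁻¹ ∈ N) :
    (QuotientGroup.mk a : G ⧸ N) * QuotientGroup.mk b = QuotientGroup.mk b * QuotientGroup.mk a := by
  have h5 := (QuotientGroup.eq_one_iff _).2 h
  rw [QuotientGroup.mk_mul, QuotientGroup.mk_mul, QuotientGroup.mk_mul, QuotientGroup.mk_inv,
    QuotientGroup.mk_inv] at h5
  rw [mul_inv_eq_one, mul_inv_eq_iff_eq_mul] at h5
  exact h5

end gen

variable {F : Type u} [Field F] [Fintype F] {m : ℕ}

theorem GO_decomp_plus (hm : 1 ≤ m) (h : ↥(GOq (qfPlus m F))) :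
    ∃ (t : ↥(Cfsg.isometryGroup F (⇑(qfPlus m F) : (Fin m ⊕ Fin m → F) → F))) (μ : Fˣ),
      h = isoToGO (qfPlus m F) t * ⟨dPlus (m := m) μ, dPlus_mem μ⟩ := by
  have hne := plus_exists_ne_zero (F := F) m hm
  have hg : mult (qfPlus m F) (h * (⟨dPlus (m := m) (mult (qfPlus m F) h), dPlus_mem _⟩ :
      ↥(GOq (qfPlus m F)))⁻¹) = 1 := by
    have := map_mul (multHom (qfPlus m F) hne) h
      (⟨dPlus (m := m) (mult (qfPlus m F) h), dPlus_mem _⟩ : ↥(GOq (qfPlus m F)))⁻¹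
    rw [map_inv, multHom_apply, multHom_apply, multHom_apply, mult_dPlus hne] at this
    rw [this]
    exact mul_inv_cancel _
  have hg' := (mult_eq_one_iff _ hne _).1 hg
  refine ⟨⟨_, hg'⟩, mult (qfPlus m F) h, ?_⟩
  apply Subtype.ext
  rw [Subgroup.coe_mul, isoToGO_coe]
  show (h : GL (Fin m ⊕ Fin m) F) = (h : GL (Fin m ⊕ Fin m) F) *
    (dPlus (m := m) (mult (qfPlus m F) h))⁻¹ * dPlus (m := m) (mult (qfPlus m F) h)
  rw [inv_mul_cancel_right]

set_option maxHeartbeats 1600000 in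
/-- `Out(PΩ⁺_{2m}(q))` splits as `PGO / Inn` times the field automorphisms, given a class
`c0 t₀ * frobenius` centralising `PGO / Inn`. -/
theorem out_plus_split {p f : ℕ} [Fact p.Prime] [CharP F p] (hf : 1 ≤ f)
    (hF : Fintype.card F = p ^ f) (hm : 5 ≤ m) (h2 : (2 : F) ≠ 0)
    (hσ : FieldCompat (⇑(qfPlus m F) : (Fin m ⊕ Fin m → F) → F))
    {K : Type*} [Group K]
    (φ : ↥(cHom (⇑(qfPlus m F) : (Fin m ⊕ Fin m → F) → F)).range →* K)
    (hφs : Function.Surjective φ)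
    (hφk : φ.ker = (Cfsg.Inn (Cfsg.POmega F (⇑(qfPlus m F) : (Fin m ⊕ Fin m → F) → F))).subgroupOf
      (cHom (⇑(qfPlus m F) : (Fin m ⊕ Fin m → F) → F)).range)
    (t₀ : ↥(Cfsg.isometryGroup F (⇑(qfPlus m F) : (Fin m ⊕ Fin m → F) → F)))
    (ht₀ : t₀ ^ f = 1)
    (hfix : fieldIso (⇑(qfPlus m F) : (Fin m ⊕ Fin m → F) → F) hσ (frobAut F p) t₀ = t₀)
    (hD : ∀ μ : Fˣ,
      (c0 (qfPlus m F) t₀ *
        fieldO (⇑(qfPlus m F) : (Fin m ⊕ Fin m → F) → F) hσ (frobAut F p)) *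
      cHom (⇑(qfPlus m F) : (Fin m ⊕ Fin m → F) → F) ⟨dPlus (m := m) μ, dPlus_mem _⟩ *
      (c0 (qfPlus m F) t₀ *
        fieldO (⇑(qfPlus m F) : (Fin m ⊕ Fin m → F) → F) hσ (frobAut F p))⁻¹ *
      (cHom (⇑(qfPlus m F) : (Fin m ⊕ Fin m → F) → F) ⟨dPlus (m := m) μ, dPlus_mem _⟩)⁻¹ ∈
      Cfsg.Inn (Cfsg.POmega F (⇑(qfPlus m F) : (Fin m ⊕ Fin m → F) → F))) :
    Nonempty (Cfsg.Out (Cfsg.POmega F (⇑(qfPlus m F) : (Fin m ⊕ Fin m → F) → F)) ≃*
      K × Multiplicative (ZMod f)) := by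
  obtain ⟨hQ, hn, hT⟩ := plus_hyps (F := F) m hm
  have hlift := ssRight_surjective_of_compat _ hσ
  obtain ⟨θ', hθ's, hθ'1, hkermem⟩ := out_setup (qfPlus m F) hQ hn hT hlift
  obtain ⟨e⟩ := ker_equiv (qfPlus m F) θ' hkermem φ hφs hφk
  obtain ⟨hcyc, hRcard⟩ := Cfsg.Agent.Lib.Helper16.AP.galF_cyclic_card hF
  have hInn : (Cfsg.Inn (Cfsg.POmega F (⇑(qfPlus m F) : (Fin m ⊕ Fin m → F) → F))).Normal :=
    inn_normal _
  apply split_ext θ' f hf hRcard (QuotientGroup.mk (c0 (qfPlus m F) t₀ *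
    fieldO (⇑(qfPlus m F) : (Fin m ⊕ Fin m → F) → F) hσ (frobAut F p))) ?_ ?_ ?_ e
  · have h1 : θ' (QuotientGroup.mk (c0 (qfPlus m F) t₀ *
        fieldO (⇑(qfPlus m F) : (Fin m ⊕ Fin m → F) → F) hσ (frobAut F p))) = frobAut F p := by
      rw [QuotientGroup.mk_mul, map_mul]
      have h3 : θ' (QuotientGroup.mk (c0 (qfPlus m F) t₀)) = 1 :=
        (hkermem _).2 ⟨_, rfl⟩
      rw [h3, one_mul, ← ssHom_field _ hσ _ (field_mem_gammaO _ hσ _), hθ'1]
      rfl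
    rw [h1]
    exact orderOf_frobAut hF
  · rw [← QuotientGroup.mk_pow]
    have hcomm : Commute (c0 (qfPlus m F) t₀)
        (fieldO (⇑(qfPlus m F) : (Fin m ⊕ Fin m → F) → F) hσ (frobAut F p)) := by
      have h3 := fieldO_conj_c0 (qfPlus m F) hσ (frobAut F p) t₀
      rw [hfix] at h3
      exact (mul_inv_eq_iff_eq_mul.1 h3).symm
    rw [hcomm.mul_pow, ← map_pow, ht₀, map_one, one_mul, ← map_pow,
      (frobAut_pow_eq_one_iff hF f).2 dvd_rfl, map_one]
    rfl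
  · intro v hv
    induction v using QuotientGroup.induction_on with
    | H x =>
      obtain ⟨h, rfl⟩ := (hkermem x).1 hv
      obtain ⟨t, μ, rfl⟩ := GO_decomp_plus (by omega) h
      have h1 := psi_comm_c0 h2 (qfPlus m F) hQ hσ (frobAut F p) t₀ t
      have c1 := comm_of_mem _ _ _ h1
      have c2 := comm_of_mem _ _ _ (hD μ)
      have e3 : (QuotientGroup.mk (cHom (⇑(qfPlus m F) : (Fin m ⊕ Fin m → F) → F)
          (isoToGO (qfPlus m F) t * ⟨dPlus (m := m) μ, dPlus_mem μ⟩)) :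
          Cfsg.Out (Cfsg.POmega F (⇑(qfPlus m F) : (Fin m ⊕ Fin m → F) → F))) =
          QuotientGroup.mk (c0 (qfPlus m F) t) * QuotientGroup.mk
            (cHom (⇑(qfPlus m F) : (Fin m ⊕ Fin m → F) → F) ⟨dPlus (m := m) μ, dPlus_mem μ⟩) := by
        rw [map_mul, ← c0_apply, QuotientGroup.mk_mul]
      rw [e3, ← mul_assoc, c1, mul_assoc, c2, ← mul_assoc]

set_option maxHeartbeats 1600000 in
/-- `Out(PΩ⁺_{2m}(q))` for `q` odd and `m ≥ 5`. -/
theorem S2608_aux {p f : ℕ} [Fact p.Prime] (hf : 1 ≤ f) (hF : Fintype.card F = p ^ f)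
    (hp : p ≠ 2) (hm : 5 ≤ m) :
    if p ^ f % 4 = 3 ∧ Odd m then
      Nonempty (Cfsg.Out (Cfsg.POmega F (Cfsg.quadFormPlus m F)) ≃*
        Multiplicative (ZMod 2 × ZMod 2 × ZMod f))
    else
      Nonempty (Cfsg.Out (Cfsg.POmega F (Cfsg.quadFormPlus m F)) ≃*
        DihedralGroup 4 × Multiplicative (ZMod f)) := by
  have : CharP F p := charP_of_card_eq_prime_pow hF
  obtain ⟨hQ, hn, hT⟩ := plus_hyps (F := F) m hm
  have hne := plus_exists_ne_zero (F := F) m (by omega)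
  have hchar : ringChar F ≠ 2 := by
    rw [ringChar.eq F p]
    exact hp
  have h2 : (2 : F) ≠ 0 := two_ne_zero_of_ne hF hp
  have hcardι : Fintype.card (Fin m ⊕ Fin m) = 2 * m := card_plus
  have hn4 : 4 ≤ Fintype.card (Fin m ⊕ Fin m) := by omega
  have hpodd : Odd p := (Fact.out : p.Prime).odd_of_ne_two hp
  have hodd : Odd (Fintype.card F) := by rw [hF]; exact hpodd.pow
  have hσ : FieldCompat (⇑(qfPlus m F) : (Fin m ⊕ Fin m → F) → F) := by
    rw [qfPlus_coe]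
    exact fieldCompat_plus m
  have hlift := ssRight_surjective_of_compat _ hσ
  have hS := Cfsg.Agent.S2724.result hodd (m := m) (by omega)
  rw [pgoAut_eq] at hS
  have hcard2 : Fintype.card F ≠ 2 ∨ m ≠ 2 := Or.inr (by omega)
  by_cases hc : p ^ f % 4 = 3 ∧ Odd m
  · rw [if_pos hc]
    have hc' : Odd m ∧ Fintype.card F % 4 = 3 := ⟨hc.2, by rw [hF]; exact hc.1⟩
    obtain ⟨φ, hφs, hφk⟩ := hS.1 hc'
    have hiff := Cfsg.Agent.S0790.result (F := F) rfl hodd m (by omega)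
    have hq : Fintype.card F % 2 = 1 := Nat.odd_iff.mp hodd
    have har := pow_mod_four_iff (Fintype.card F) m hq
    have hno : ¬ ∃ g : ↥(Cfsg.isometryGroup F (Cfsg.quadFormPlus m F)),
        g ∈ Cfsg.Omega F (Cfsg.quadFormPlus m F) ∧
        ((g : Matrix.GeneralLinearGroup (Fin m ⊕ Fin m) F) :
          Matrix (Fin m ⊕ Fin m) (Fin m ⊕ Fin m) F) = -1 :=
      fun hneg => (har.mp (hiff.mp hneg)) hc'
    have heq := inn_eq_pso_of_not (qfPlus m F) h2 hQ hn4 m hcardι hno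
    have hpso : (isoDet (⇑(qfPlus m F) : (Fin m ⊕ Fin m → F) → F)).ker.map (c0 (qfPlus m F)) =
        Cfsg.Inn (Cfsg.POmega F (⇑(qfPlus m F) : (Fin m ⊕ Fin m → F) → F)) := by
      rw [← psoAut_eq']
      exact heq.symm
    have hD : ∀ μ : Fˣ,
        (c0 (qfPlus m F) 1 *
          fieldO (⇑(qfPlus m F) : (Fin m ⊕ Fin m → F) → F) hσ (frobAut F p)) *
        cHom (⇑(qfPlus m F) : (Fin m ⊕ Fin m → F) → F) ⟨dPlus (m := m) μ, dPlus_mem _⟩ *
        (c0 (qfPlus m F) 1 *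
          fieldO (⇑(qfPlus m F) : (Fin m ⊕ Fin m → F) → F) hσ (frobAut F p))⁻¹ *
        (cHom (⇑(qfPlus m F) : (Fin m ⊕ Fin m → F) → F) ⟨dPlus (m := m) μ, dPlus_mem _⟩)⁻¹ ∈
        Cfsg.Inn (Cfsg.POmega F (⇑(qfPlus m F) : (Fin m ⊕ Fin m → F) → F)) := by
      intro μ
      rw [map_one, one_mul, ← ssHom_field _ hσ _ (field_mem_gammaO _ hσ _), ← hpso]
      exact comm_mem_pso (qfPlus m F) hQ hchar hne m hcardι _ _
    obtain ⟨E⟩ := out_plus_split hf hF hm h2 hσ φ hφs hφk 1 (one_pow f) (map_one _) hD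
    have : NeZero f := ⟨by omega⟩
    exact ⟨E.trans ((MulEquiv.prodMultiplicative (G := ZMod 2 × ZMod 2) (H := ZMod f)).symm.trans
      (AddEquiv.toMultiplicative (AddEquiv.prodAssoc (M := ZMod 2) (N := ZMod 2) (P := ZMod f))))⟩
  · rw [if_neg hc]
    have hc' : ¬ (Odd m ∧ Fintype.card F % 4 = 3) := by
      rintro ⟨h3, h4⟩
      rw [hF] at h4
      exact hc ⟨h4, h3⟩
    obtain ⟨φ, hφs, hφk⟩ := hS.2 hc'
    by_cases hfodd : Odd f
    · exact out_dihedral (qfPlus m F) hQ hn hT hF hfodd hlift φ hφs hφk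
    · have hfeven : Even f := Nat.not_odd_iff_even.1 hfodd
      by_cases hs : Even (m * ((p - 1) / 2))
      · exact out_plus_split hf hF hm h2 hσ φ hφs hφk 1 (one_pow f) (map_one _)
          (fun μ => frob_comm_dPlus_one h2 (by omega) hn4 hcard2 hσ hp hs μ)
      · have hs' : Odd ((p - 1) / 2) := by
          rw [Nat.not_even_iff_odd, Nat.odd_mul] at hs
          exact hs.2
        have ht₀ : (swapQ m : ↥(Cfsg.isometryGroup F (⇑(qfPlus m F) :
            (Fin m ⊕ Fin m → F) → F))) ^ f = 1 := by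
          obtain ⟨k, hk⟩ := hfeven
          rw [hk, ← two_mul, pow_mul, pow_two, swapQ_mul_self, one_pow]
        exact out_plus_split hf hF hm h2 hσ φ hφs hφk (swapQ m) ht₀ (fieldIso_swapQ hσ _)
          (fun μ => frob_comm_dPlus_swap h2 (by omega) hn4 hcard2 hσ hp hs' μ)

end Cfsg.Agent.Lib.Helper16.OA
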