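import Mathlib
import Cfsg.Prelude.Def_KGroupFacts

set_option autoImplicit false

/-! Transport of `Out` along a group isomorphism. -/

namespace Cfsg.Agent.Lib.Helper16.OA

theorem mulAut_congr_conj {G H : Type*} [Group G] [Group H] (e : G ≃* H) (g : G) :
    MulAut.congr e (MulAut.conj g) = MulAut.conj (e g) := by
  apply MulEquiv.ext
  intro x
  simp [MulAut.congr, MulAut.conj_apply]

theorem map_inn_congr {G H : Type*} [Group G] [Group H] (e : G ≃* H) :
    (Cfsg.Inn G).map (MulAut.congr e).toMonoidHom = Cfsg.Inn H := by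
  ext β
  constructor
  · rintro ⟨_, ⟨g, rfl⟩, rfl⟩
    exact ⟨e g, (mulAut_congr_conj e g).symm⟩
  · rintro ⟨h, rfl⟩
    refine ⟨MulAut.conj (e.symm h), ⟨_, rfl⟩, ?_⟩
    show MulAut.congr e (MulAut.conj (e.symm h)) = _
    rw [mulAut_congr_conj, MulEquiv.apply_symm_apply]

/-- isomorphic groups have isomorphic outer automorphism groups. -/
noncomputable def outCongr {G H : Type*} [Group G] [Group H] (e : G ≃* H) :
    Cfsg.Out G ≃* Cfsg.Out H :=
  QuotientGroup.congr (Cfsg.Inn G) (Cfsg.Inn H) (MulAut.congr e) (map_inn_congr e)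

end Cfsg.Agent.Lib.Helper16.OA
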