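import Mathlib
import Cfsg.Agent.Lib.Helper16.OA55
import Cfsg.Agent.Lib.Helper16.OA56

set_option autoImplicit false
set_option linter.unusedSectionVars false
set_option linter.unusedVariables false

/-! Automorphisms of orthogonal groups, part 57: `S0817`, `S2607`, `S2608` from the case `m = 4`
(triality, via the Chevalley group of type `D₄`). -/

namespace Cfsg.Agent.Lib.Helper16.OA

open Matrix Cfsg.Agent.Lib.Lead Cfsg.Agent.Lib.Lead.OA Cfsg.Agent.Lib.Lead.OAP
  Cfsg.Agent.Lib.Helper16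

universe u

variable {F : Type u} [Field F] [Fintype F]

/-- `|Aut| = |Out| · |PΩ⁺₈|`. -/
theorem card_aut_plus4 :
    Nat.card (MulAut (Cfsg.POmega F (Cfsg.quadFormPlus 4 F))) =
      Nat.card (Cfsg.Out (Cfsg.POmega F (Cfsg.quadFormPlus 4 F))) *
        Nat.card (Cfsg.POmega F (Cfsg.quadFormPlus 4 F)) := by
  have hcard : Fintype.card (Fin 4 ⊕ Fin 4) = 8 := by simp
  have hinj := conj_POmega_injective' (qfPlus 4 F) (qfPlus_nondeg 4 F) (by rw [hcard]; omega)
  have h3 : Nat.card (Cfsg.Inn (Cfsg.POmega F (⇑(qfPlus 4 F)))) =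
      Nat.card (Cfsg.POmega F (⇑(qfPlus 4 F))) :=
    (Nat.card_congr (MonoidHom.ofInjective hinj).toEquiv).symm
  have h1 := Subgroup.card_eq_card_quotient_mul_card_subgroup
    (Cfsg.Inn (Cfsg.POmega F (⇑(qfPlus 4 F))))
  rw [h3] at h1
  exact h1

theorem S0817_of_out4 (p f : ℕ) [Fact p.Prime] (hf : 1 ≤ f) (hF : Fintype.card F = p ^ f) (m : ℕ)
    (hm : 4 ≤ m)
    (h4 : Nat.card (Cfsg.Out (Cfsg.POmega F (Cfsg.quadFormPlus 4 F))) =
      6 * Nat.gcd 2 (p ^ f - 1) ^ 2 * f) :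
    Nat.card (MulAut (Cfsg.POmega F (Cfsg.quadFormPlus m F))) =
      (if m = 4 then 3 else 1) *
        (if p = 2 then 2 else (if Even (m * (p ^ f - 1) / 2) then 8 else 4)) * f *
        Nat.card (Cfsg.POmega F (Cfsg.quadFormPlus m F)) := by
  by_cases h : m = 4
  · subst h
    rw [if_pos rfl, card_aut_plus4, h4]
    congr 1
    by_cases hp : p = 2
    · subst hp
      rw [if_pos rfl]
      have h1 : Nat.gcd 2 (2 ^ f - 1) = 1 := by
        have h2 : 1 ≤ 2 ^ f := Nat.one_le_two_pow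
        have h3 : 2 ∣ 2 ^ f := dvd_pow_self 2 (by omega)
        have h4 : Odd (2 ^ f - 1) := by
          rw [Nat.odd_iff]
          omega
        exact Nat.coprime_two_left.2 h4
      rw [h1]
      ring
    · rw [if_neg hp]
      have hpodd : Odd p := (Fact.out : p.Prime).odd_of_ne_two hp
      have hq2 : (p ^ f) % 2 = 1 := Nat.odd_iff.1 hpodd.pow
      have h1 : Nat.gcd 2 (p ^ f - 1) = 2 := by
        apply Nat.gcd_eq_left
        omega
      have h2 : Even (4 * (p ^ f - 1) / 2) := by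
        have : 4 * (p ^ f - 1) / 2 = 2 * (p ^ f - 1) := by omega
        rw [this]
        exact even_two_mul _
      rw [h1, if_pos h2]
      ring
  · rw [if_neg h, one_mul]
    exact S0817_aux p f hf hF m (by omega)

theorem S2607_of_out4 {f m : ℕ} (hf : 1 ≤ f) (hF : Fintype.card F = 2 ^ f) (hm : 4 ≤ m)
    (h4 : Nonempty (Cfsg.Out (Cfsg.POmega F (Cfsg.quadFormPlus 4 F)) ≃*
      Equiv.Perm (Fin 3) × Multiplicative (ZMod f))) :
    if m = 4 then Nonempty (Cfsg.Out (Cfsg.POmega F (Cfsg.quadFormPlus m F)) ≃*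
      Equiv.Perm (Fin 3) × Multiplicative (ZMod f))
    else Nonempty (Cfsg.Out (Cfsg.POmega F (Cfsg.quadFormPlus m F)) ≃*
      Multiplicative (ZMod 2 × ZMod f)) := by
  by_cases h : m = 4
  · subst h
    rw [if_pos rfl]
    exact h4
  · rw [if_neg h]
    exact S2607_aux hf hF (by omega)

theorem S2608_of_out4 {p f m : ℕ} [Fact p.Prime] (hf : 1 ≤ f) (hF : Fintype.card F = p ^ f)
    (hp : p ≠ 2) (hm : 4 ≤ m)
    (h4 : Nonempty (Cfsg.Out (Cfsg.POmega F (Cfsg.quadFormPlus 4 F)) ≃*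
      Equiv.Perm (Fin 4) × Multiplicative (ZMod f))) :
    if m = 4 then Nonempty (Cfsg.Out (Cfsg.POmega F (Cfsg.quadFormPlus m F)) ≃*
      Equiv.Perm (Fin 4) × Multiplicative (ZMod f))
    else if p ^ f % 4 = 3 ∧ Odd m then
      Nonempty (Cfsg.Out (Cfsg.POmega F (Cfsg.quadFormPlus m F)) ≃*
        Multiplicative (ZMod 2 × ZMod 2 × ZMod f))
    else Nonempty (Cfsg.Out (Cfsg.POmega F (Cfsg.quadFormPlus m F)) ≃*
      DihedralGroup 4 × Multiplicative (ZMod f)) := by
  by_cases h : m = 4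
  · subst h
    rw [if_pos rfl]
    exact h4
  · rw [if_neg h]
    exact S2608_aux hf hF hp (by omega)

end Cfsg.Agent.Lib.Helper16.OA
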