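import Mathlib
import Cfsg.Prelude.Def_KGroupFacts

set_option autoImplicit false

/-! Abstract recognition lemmas for outer automorphism groups. -/

namespace Cfsg.Agent.Lib.Helper16.OA

/-- if a homomorphism `P → Aut(G)` meets `Inn(G)` trivially and `|Out(G)| = |P|`, then
`Out(G) ≅ P`. -/
theorem out_equiv_of_hom {G P : Type*} [Group G] [Group P] [Finite P]
    (Ψ₀ : P →* MulAut G) (hinj : ∀ x, Ψ₀ x ∈ Cfsg.Inn G → x = 1)
    (hcard : Nat.card (Cfsg.Out G) = Nat.card P) :
    Nonempty (Cfsg.Out G ≃* P) := by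
  let Ψ : P →* Cfsg.Out G := (QuotientGroup.mk' (Cfsg.Inn G)).comp Ψ₀
  have hΨinj : Function.Injective Ψ := by
    rw [injective_iff_map_eq_one]
    intro x hx
    apply hinj
    exact (QuotientGroup.eq_one_iff _).1 hx
  have hfin : Finite (Cfsg.Out G) := by
    apply Nat.finite_of_card_ne_zero
    rw [hcard]
    exact Nat.card_pos.ne'
  have hbij : Function.Bijective Ψ := by
    rw [Nat.bijective_iff_injective_and_card]
    exact ⟨hΨinj, hcard.symm⟩
  exact ⟨(MulEquiv.ofBijective Ψ hbij).symm⟩

/-- a group of order 24 with a subgroup of index 4 and trivial core is `S₄`. -/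
theorem perm4_of_index4 {M : Type*} [Group M] (hM : Nat.card M = 24) (S : Subgroup M)
    (hS : S.index = 4) (hcore : S.normalCore = ⊥) :
    Nonempty (M ≃* Equiv.Perm (Fin 4)) := by
  classical
  have hfin : Finite M := Nat.finite_of_card_ne_zero (by omega)
  have hq : Nat.card (M ⧸ S) = 4 := hS
  have : Fintype (M ⧸ S) := Fintype.ofFinite _
  have hq' : Fintype.card (M ⧸ S) = 4 := by rw [← Nat.card_eq_fintype_card, hq]
  let e : (M ⧸ S) ≃ Fin 4 := Fintype.equivFinOfCardEq hq'
  let τ : M →* Equiv.Perm (M ⧸ S) := MulAction.toPermHom M (M ⧸ S)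
  have hker : τ.ker = S.normalCore := (Subgroup.normalCore_eq_ker S).symm
  have hτinj : Function.Injective τ := by
    rw [← MonoidHom.ker_eq_bot_iff, hker, hcore]
  let τ' : M →* Equiv.Perm (Fin 4) := (e.permCongrHom.toMonoidHom).comp τ
  have hτ'inj : Function.Injective τ' := e.permCongrHom.injective.comp hτinj
  have hbij : Function.Bijective τ' := by
    rw [Nat.bijective_iff_injective_and_card]
    refine ⟨hτ'inj, ?_⟩
    rw [hM, Nat.card_eq_fintype_card, Fintype.card_perm, Fintype.card_fin]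
    rfl
  exact ⟨MulEquiv.ofBijective τ' hbij⟩

end Cfsg.Agent.Lib.Helper16.OA
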