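import Mathlib
import Cfsg.Agent.Lib.Helper16.OB25

set_option autoImplicit false
set_option linter.unusedSectionVars false
set_option linter.unusedVariables false

/-! `O_{p'}` of the centraliser of a field automorphism of odd prime order `p` of a minus-type
orthogonal group. -/

namespace Cfsg.Agent.Lib.Helper16.OB

open Matrix Module Cfsg.Agent.Lib.Lead Cfsg.Agent.Lib.Lead.OA Cfsg.Agent.Lib.Helper16
  Cfsg.Agent.Lib.Helper16.OA Cfsg.Agent.Lib.Helper16.OL Cfsg.Agent.Lib.Helper16.PSC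
  Cfsg.Agent.Lib.Lead.OAP Cfsg.Agent.Lib.Lead.OAM Cfsg.Agent.Lib.Helper16.OM
  Cfsg.Agent.Lib.helper6

universe u v

section grp

variable {X : Type u} {Y : Type v} [Group X] [Group Y]

/-- fixed points of a transported automorphism. -/
theorem card_eqLocus_autTr (ψ : X ≃* Y) (x : MulAut X) :
    Nat.card ↥(MonoidHom.eqLocus (autTr ψ x).toMonoidHom (MonoidHom.id Y)) =
      Nat.card ↥(MonoidHom.eqLocus x.toMonoidHom (MonoidHom.id X)) := by
  symm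
  apply Nat.card_congr
  refine Equiv.subtypeEquiv ψ.toEquiv ?_
  intro k
  show x k = k ↔ autTr ψ x (ψ k) = ψ k
  rw [autTr_apply]
  exact ⟨fun h => by rw [h], fun h => ψ.injective h⟩

end grp

section core

variable {ι : Type} [Fintype ι] [DecidableEq ι] {F : Type u} [Field F] [Fintype F]
  {F₀ : Type v} [Field F₀] [Fintype F₀]

set_option maxHeartbeats 1600000 in
/-- `O_{p'}` of the centraliser of a standard field automorphism of odd prime order `p`. -/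
theorem core_field_gen (j : F₀ →+* F) (Q₀ : QuadraticForm F₀ (ι → F₀))
    (Q : QuadraticForm F (ι → F)) (hc : BaseCompat j (⇑Q₀) (⇑Q))
    (hQ₀ : (QuadraticMap.polarBilin Q₀).Nondegenerate)
    (hQ : (QuadraticMap.polarBilin Q).Nondegenerate) (hn7 : 7 ≤ Fintype.card ι)
    (hT : 9 ≤ Fintype.card ι ∨ Fintype.card ι ≤ 7 ∨
      ∀ U : Submodule F (ι → F), (∀ u ∈ U, Q u = 0) → Module.finrank F U ≤ 3)
    (hne₀ : ∃ v, Q₀ v ≠ 0) (σ : RingAut F) (hσ : SigCompat (⇑Q : (ι → F) → F) σ)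
    (hj : ∀ x, (∃ y, j y = x) ↔ σ x = x) (p : ℕ) (hp : p.Prime) (hpodd : Odd p)
    (hord : orderOf σ = p)
    (hsq : ∀ s : ↥(Cfsg.isometryGroup F₀ (⇑Q₀ : (ι → F₀) → F₀)),
      s * s ∈ Cfsg.Omega F₀ (⇑Q₀ : (ι → F₀) → F₀))
    (hTr : ∀ τ : RingAut F,
      (∀ ρ : ↥(Cfsg.isometryGroup F₀ (⇑Q₀ : (ι → F₀) → F₀)),
        ρ ∈ Cfsg.Omega F₀ (⇑Q₀ : (ι → F₀) → F₀) →
        τ (j ((ρ : GL ι F₀) : Matrix ι ι F₀).trace) = j ((ρ : GL ι F₀) : Matrix ι ι F₀).trace) →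
      ∀ z : F₀, τ (j z) = j z)
    (A : Subgroup (MulAut (Cfsg.POmega F (⇑Q : (ι → F) → F))))
    (hInnA : Cfsg.Inn (Cfsg.POmega F (⇑Q : (ι → F) → F)) ≤ A) :
    Cfsg.pPrimeCore p ↥(A ⊓ Subgroup.centralizer {phiS (⇑Q : (ι → F) → F) σ hσ}) ≠ ⊥ ↔
      Nat.Coprime p (Nat.card ↥(MonoidHom.eqLocus
        (phiS (⇑Q : (ι → F) → F) σ hσ).toMonoidHom
        (MonoidHom.id (Cfsg.POmega F (⇑Q : (ι → F) → F))))) := by
  classical
  have hinj := conj_POmega_injective' Q hQ hn7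
  set φ := phiS (⇑Q : (ι → F) → F) σ hσ with hφ
  have hInnN : (Cfsg.Inn (Cfsg.POmega F (⇑Q : (ι → F) → F))).Normal := inn_normal _
  rw [← card_inn_inf_centralizer hinj φ, pPrimeCore_ne_bot_iff]
  constructor
  · rintro ⟨N, hN1, hN2, hN3⟩
    by_contra hcop
    have hpd : p ∣ Nat.card ↥(Cfsg.Inn (Cfsg.POmega F (⇑Q : (ι → F) → F)) ⊓
        Subgroup.centralizer {φ}) := by
      by_contra hnd
      exact hcop ((Nat.Prime.coprime_iff_not_dvd hp).mpr hnd)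
    set N' : Subgroup (MulAut (Cfsg.POmega F (⇑Q : (ι → F) → F))) :=
      N.map (A ⊓ Subgroup.centralizer {φ}).subtype with hN'
    have hN'le : N' ≤ A ⊓ Subgroup.centralizer {φ} := by
      rintro _ ⟨n, -, rfl⟩
      exact n.2
    have hN'norm : ∀ c ∈ A ⊓ Subgroup.centralizer {φ}, ∀ n ∈ N', c * n * c⁻¹ ∈ N' := by
      rintro c hc' _ ⟨n, hn', rfl⟩
      exact ⟨⟨c, hc'⟩ * n * ⟨c, hc'⟩⁻¹, hN1.conj_mem n hn' ⟨c, hc'⟩, rfl⟩
    have hN'card : (Nat.card N').Coprime p := by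
      rw [hN', Subgroup.card_map_of_injective (Subgroup.subtype_injective _)]
      exact hN2
    have hbot : N' = ⊥ := field_core j Q₀ Q hc hQ₀ hQ hn7 hT hne₀ σ hσ hj p hp hpodd hord
      hsq hTr A N' hInnA hN'le hN'norm hN'card hpd
    apply hN3
    rw [eq_bot_iff]
    intro n hn'
    have h1 : (A ⊓ Subgroup.centralizer {φ}).subtype n ∈ N' := ⟨n, hn', rfl⟩
    rw [hbot, Subgroup.mem_bot] at h1
    rw [Subgroup.mem_bot]
    exact Subtype.ext h1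
  · intro hcop
    have hle : Cfsg.Inn (Cfsg.POmega F (⇑Q : (ι → F) → F)) ⊓
        Subgroup.centralizer {φ} ≤ A ⊓ Subgroup.centralizer {φ} := inf_le_inf_right _ hInnA
    refine ⟨(Cfsg.Inn (Cfsg.POmega F (⇑Q : (ι → F) → F)) ⊓
      Subgroup.centralizer {φ}).subgroupOf (A ⊓ Subgroup.centralizer {φ}), ?_, ?_, ?_⟩
    · constructor
      intro n hn' c
      rw [Subgroup.mem_subgroupOf] at hn' ⊢
      refine ⟨?_, ?_⟩
      · exact hInnN.conj_mem _ hn'.1 _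
      · exact (Subgroup.centralizer {φ}).mul_mem ((Subgroup.centralizer {φ}).mul_mem c.2.2 hn'.2)
          ((Subgroup.centralizer {φ}).inv_mem c.2.2)
    · rw [Nat.card_congr (Subgroup.subgroupOfEquivOfLe hle).toEquiv]
      exact hcop.symm
    · -- non-triviality
      have hsimple : IsSimpleGroup (Cfsg.POmega F₀ (⇑Q₀ : (ι → F₀) → F₀)) :=
        Cfsg.Agent.Lib.Helper28.OAll.pomega_simple_all hn7 Q₀ hQ₀
      obtain ⟨k, hk⟩ := exists_ne (1 : Cfsg.POmega F₀ (⇑Q₀ : (ι → F₀) → F₀))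
      have hmem := kap_mem j Q₀ Q hc hQ₀ hQ hn7 hne₀ σ hσ p hord hp.pos hj k
      intro hbot
      have h1 : (⟨_, hle hmem⟩ : ↥(A ⊓ Subgroup.centralizer {φ})) ∈
          (Cfsg.Inn (Cfsg.POmega F (⇑Q : (ι → F) → F)) ⊓
            Subgroup.centralizer {φ}).subgroupOf (A ⊓ Subgroup.centralizer {φ}) := by
        rw [Subgroup.mem_subgroupOf]; exact hmem
      rw [hbot, Subgroup.mem_bot] at h1
      have h3 : kap j Q₀ Q hc hQ₀ hQ hn7 k = 1 := congrArg Subtype.val h1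
      exact hk (kap_eq_one j Q₀ Q hc hQ₀ hQ hn7 k h3)

end core

section minus

variable {F : Type u} [Field F] [Fintype F] {F₀ : Type v} [Field F₀] [Fintype F₀] {m : ℕ}

/-- `O_{p'}` of the centraliser of a standard field automorphism of odd prime order `p`, minus
type. -/
theorem core_field_minus (hm : 3 ≤ m) (j : F₀ →+* F) (a₀ b₀ : F₀)
    (hab₀ : ∀ z₁ z₂ : F₀, z₁ ^ 2 + a₀ * z₁ * z₂ + b₀ * z₂ ^ 2 = 0 → z₁ = 0 ∧ z₂ = 0)
    (hab : ∀ z₁ z₂ : F, z₁ ^ 2 + j a₀ * z₁ * z₂ + j b₀ * z₂ ^ 2 = 0 → z₁ = 0 ∧ z₂ = 0)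
    (σ : RingAut F)
    (hσ : SigCompat (⇑(qfMinus m F (j a₀) (j b₀)) : ((Fin m ⊕ Fin m) ⊕ Fin 2 → F) → F) σ)
    (hj : ∀ x, (∃ y, j y = x) ↔ σ x = x) (p : ℕ) (hp : p.Prime) (hpodd : Odd p)
    (hord : orderOf σ = p)
    (A : Subgroup (MulAut (Cfsg.POmega F
      (⇑(qfMinus m F (j a₀) (j b₀)) : ((Fin m ⊕ Fin m) ⊕ Fin 2 → F) → F))))
    (hInnA : Cfsg.Inn (Cfsg.POmega F
      (⇑(qfMinus m F (j a₀) (j b₀)) : ((Fin m ⊕ Fin m) ⊕ Fin 2 → F) → F)) ≤ A) :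
    Cfsg.pPrimeCore p ↥(A ⊓ Subgroup.centralizer
        {phiS (⇑(qfMinus m F (j a₀) (j b₀)) : ((Fin m ⊕ Fin m) ⊕ Fin 2 → F) → F) σ hσ}) ≠ ⊥ ↔
      Nat.Coprime p (Nat.card ↥(MonoidHom.eqLocus
        (phiS (⇑(qfMinus m F (j a₀) (j b₀)) : ((Fin m ⊕ Fin m) ⊕ Fin 2 → F) → F) σ hσ).toMonoidHom
        (MonoidHom.id (Cfsg.POmega F
          (⇑(qfMinus m F (j a₀) (j b₀)) : ((Fin m ⊕ Fin m) ⊕ Fin 2 → F) → F))))) := by
  obtain ⟨hQ, hn7, hT⟩ := minus_hyps m hm (j a₀) (j b₀) hab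
  obtain ⟨hQ₀, -, -⟩ := minus_hyps m hm a₀ b₀ hab₀
  have hne₀ := minus_exists_ne_zero (F := F₀) m a₀ b₀
  exact core_field_gen j (qfMinus m F₀ a₀ b₀) (qfMinus m F (j a₀) (j b₀))
    (baseCompat_minus_gen j a₀ b₀) hQ₀ hQ hn7 hT hne₀ σ hσ hj p hp hpodd hord
    (fun s => sq_mem_omega_all (qfMinus m F₀ a₀ b₀) hQ₀ (by omega) hne₀ s)
    (fun τ h => trace_gen_minus (by omega) j a₀ b₀ τ h) A hInnA

set_option maxHeartbeats 1600000 in
/-- `O_{p'}` of the centraliser of a field automorphism of prime order `p`, minus type. -/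
theorem core_field_class (hm : 3 ≤ m) (a b : F)
    (hab : ∀ z₁ z₂ : F, z₁ ^ 2 + a * z₁ * z₂ + b * z₂ ^ 2 = 0 → z₁ = 0 ∧ z₂ = 0)
    (A : Subgroup (MulAut (Cfsg.POmega F (Cfsg.quadFormMinus m F a b))))
    (hInnA : Cfsg.Inn (Cfsg.POmega F (Cfsg.quadFormMinus m F a b)) ≤ A)
    (x : MulAut (Cfsg.POmega F (Cfsg.quadFormMinus m F a b)))
    (hx : Cfsg.IsFieldAutClassPOmegaMinus m x) (p : ℕ) (hp : p.Prime) (hxp : orderOf x = p) :
    Cfsg.pPrimeCore p ↥(A ⊓ Subgroup.centralizer {x}) ≠ ⊥ ↔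
      Nat.Coprime p (Nat.card ↥(MonoidHom.eqLocus x.toMonoidHom
        (MonoidHom.id (Cfsg.POmega F (Cfsg.quadFormMinus m F a b))))) := by
  classical
  obtain ⟨a', b', ψ, σ, hab', hσ1, ha', hb', hfa⟩ := hx
  have hσ' : SigCompat (Cfsg.quadFormMinus m F a' b') σ := sigCompat_minus σ a' b' ha' hb'
  have hφ : autTr ψ x = phiS (Cfsg.quadFormMinus m F a' b') σ hσ' :=
    (isFieldAut_iff_phiS (Cfsg.quadFormMinus m F a' b') σ hσ' _).1 hfa
  obtain ⟨hQ', hn', hT'⟩ := minus_hyps m hm a' b' hab'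
  have hord : orderOf (σ : RingAut F) = p := by
    have h1 := orderOf_phiS (qfMinus m F a' b') hQ' hn' σ hσ'
    have h2 : orderOf (autTr ψ x) = orderOf x := (autTr ψ).orderOf_eq x
    rw [hφ] at h2
    rw [← hxp, ← h2]
    exact h1.symm
  have hpodd : Odd p := by
    rcases hp.eq_two_or_odd' with h2 | h2
    · exfalso
      rw [h2] at hord
      exact sigma_order_ne_two a' b' hab' σ ha' hb' hord
    · exact h2
  -- the fixed field
  set F₀' : Subfield F := FixedPoints.subfield (Subgroup.zpowers σ) F with hF₀'def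
  have hmem : ∀ y, y ∈ F₀' ↔ σ y = y := fun y => Cfsg.Agent.Lib.Helper16.mem_fixed_iff σ y
  have hfin : Fintype ↥F₀' := Fintype.ofFinite _
  set j : ↥F₀' →+* F := F₀'.subtype with hjdef
  have hj : ∀ y, (∃ z, j z = y) ↔ (σ : RingAut F) y = y := by
    intro y
    constructor
    · rintro ⟨z, rfl⟩
      exact (hmem _).mp z.2
    · intro hy
      exact ⟨⟨y, (hmem y).mpr hy⟩, rfl⟩
  obtain ⟨a₀, ha₀⟩ := (hj a').mpr ha'
  obtain ⟨b₀, hb₀⟩ := (hj b').mpr hb'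
  subst ha₀
  subst hb₀
  have hab₀ : ∀ z₁ z₂ : ↥F₀', z₁ ^ 2 + a₀ * z₁ * z₂ + b₀ * z₂ ^ 2 = 0 → z₁ = 0 ∧ z₂ = 0 := by
    intro z₁ z₂ h
    have h1 := congrArg j h
    simp only [map_add, map_mul, map_pow, map_zero] at h1
    obtain ⟨e1, e2⟩ := hab' _ _ h1
    exact ⟨j.injective (by rw [e1, map_zero]), j.injective (by rw [e2, map_zero])⟩
  -- transport
  set A' : Subgroup (MulAut (Cfsg.POmega F (Cfsg.quadFormMinus m F (j a₀) (j b₀)))) :=
    A.map (autTr ψ).toMonoidHom with hA'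
  have hD : ∀ β, β ∈ A ↔ autTr ψ β ∈ A' := by
    intro β
    constructor
    · intro h
      exact Subgroup.mem_map_of_mem _ h
    · rintro ⟨β', hβ', e⟩
      have : β' = β := (autTr ψ).injective e
      rw [← this]
      exact hβ'
  have hInnA' : Cfsg.Inn (Cfsg.POmega F (Cfsg.quadFormMinus m F (j a₀) (j b₀))) ≤ A' := by
    intro β hβ
    have h1 : (autTr ψ).symm β ∈ Cfsg.Inn (Cfsg.POmega F (Cfsg.quadFormMinus m F a b)) := by
      rw [autTr_inn_iff ψ, MulEquiv.apply_symm_apply]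
      exact hβ
    have h2 := (hD _).mp (hInnA h1)
    rwa [MulEquiv.apply_symm_apply] at h2
  obtain ⟨e1⟩ := cent_transport (autTr ψ) A A' hD x
  rw [pPrimeCore_ne_bot_congr p e1, ← card_eqLocus_autTr ψ x]
  have key := core_field_minus hm j a₀ b₀ hab₀ hab' σ hσ' hj p hp hpodd hord A' hInnA'
  rw [hφ]
  exact key

end minus


end Cfsg.Agent.Lib.Helper16.OB
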