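import Mathlib
import Cfsg.Agent.Lib.Helper16.OB26

set_option autoImplicit false
set_option linter.unusedSectionVars false
set_option linter.unusedVariables false

/-! `O_{p'}` of centralisers of non-inner-diagonal automorphisms of prime order `p` of minus-type
orthogonal groups. -/

namespace Cfsg.Agent.Lib.Helper16.OB

open Matrix Module Cfsg.Agent.Lib.Lead Cfsg.Agent.Lib.Lead.OA Cfsg.Agent.Lib.Helper16
  Cfsg.Agent.Lib.Helper16.OA Cfsg.Agent.Lib.Helper16.OL Cfsg.Agent.Lib.Helper16.PSC
  Cfsg.Agent.Lib.Lead.OAP Cfsg.Agent.Lib.Lead.OAM Cfsg.Agent.Lib.Helper16.OM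
  Cfsg.Agent.Lib.helper6

universe u

variable {F : Type u} [Field F] [Fintype F] {m : ℕ}

set_option maxHeartbeats 1600000 in
theorem S2733_aux {r : ℕ} [Fact r.Prime] [CharP F r] (hm : 3 ≤ m) (a b : F)
    (hab : ∀ z₁ z₂ : F, z₁ ^ 2 + a * z₁ * z₂ + b * z₂ ^ 2 = 0 → z₁ = 0 ∧ z₂ = 0)
    (A : Subgroup (MulAut (Cfsg.POmega F (Cfsg.quadFormMinus m F a b))))
    (hinn : ∀ k : Cfsg.POmega F (Cfsg.quadFormMinus m F a b), MulAut.conj k ∈ A)
    {p : ℕ} [Fact p.Prime] (hpr : p ≠ r)
    (x : MulAut (Cfsg.POmega F (Cfsg.quadFormMinus m F a b)))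
    (hord : orderOf x = p) (hnot : ¬ Cfsg.IsInnerDiagonalAutPOmegaMinus m a b x) :
    Cfsg.pPrimeCore p ↥(A ⊓ Subgroup.centralizer {x}) ≠ ⊥ ↔
      (Cfsg.IsFieldAutClassPOmegaMinus m x ∧
        Nat.Coprime p (Nat.card ↥(MonoidHom.eqLocus x.toMonoidHom
          (MonoidHom.id (Cfsg.POmega F (Cfsg.quadFormMinus m F a b)))))) := by
  classical
  have hp : p.Prime := Fact.out
  obtain ⟨hQ, hn7, hT⟩ := minus_hyps m hm a b hab
  have hInnA : Cfsg.Inn (Cfsg.POmega F (Cfsg.quadFormMinus m F a b)) ≤ A := by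
    rintro _ ⟨k, rfl⟩
    exact hinn k
  obtain ⟨y, hy⟩ := ssHom_surjective (qfMinus m F a b) hQ hn7 hT x
  by_cases hσ : (y : GammaL ((Fin m ⊕ Fin m) ⊕ Fin 2) F).right = 1
  · have hyker : y ∈ (ssRight (⇑(qfMinus m F a b))).ker := by
      rw [MonoidHom.mem_ker, ssRight_apply]; exact hσ
    rw [ssRight_ker] at hyker
    obtain ⟨gG, rfl⟩ := hyker
    rw [ssHom_goIncl] at hy
    subst hy
    obtain ⟨hbot, hnf⟩ := lin_case hm a b hab A hInnA hpr gG hord hnot
    constructor
    · intro h
      exact absurd hbot h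
    · rintro ⟨h, -⟩
      exact absurd h hnf
  · have hpodd : Odd p := by
      rcases hp.eq_two_or_odd' with h2 | h2
      · exfalso
        by_cases hch : ringChar F = 2
        · have hcp : CharP F 2 := by
            rw [← hch]; exact ringChar.charP F
          have hr2 : r = 2 := CharP.eq F ‹CharP F r› hcp
          exact hpr (h2.trans hr2.symm)
        · have hodd : Odd (Fintype.card F) :=
            Nat.odd_iff.mpr (FiniteField.odd_card_of_char_ne_two hch)
          have hxx : x * x = 1 := by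
            have h3 := pow_orderOf_eq_one x
            rw [hord, h2] at h3
            rwa [pow_two] at h3
          apply hσ
          apply right_eq_one_minus hodd hm a b hab y
          rw [map_mul, hy]
          exact hxx
      · exact h2
    subst hy
    have hfield := field_class_of_ss hm a b hab y p hp hpodd hσ hord
    have key := core_field_class hm a b hab A hInnA _ hfield p hp hord
    exact ⟨fun h => ⟨hfield, key.mp h⟩, fun h => key.mpr h.2⟩

end Cfsg.Agent.Lib.Helper16.OB
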