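import Mathlib
import Cfsg.Agent.Lib.Helper16.GUSemi8

set_option autoImplicit false
set_option linter.unusedSectionVars false
set_option linter.unusedSimpArgs false
set_option linter.unusedVariables false
set_option linter.unusedTactic false

namespace Cfsg.Agent.Lib.Helper16.OSemi

open Cfsg.Agent.Lib.Helper16.PSemi Cfsg.Agent.Lib.Helper16.GUSemi

theorem card_tuples_sum_eq {κ : Type*} [Fintype κ] [DecidableEq κ] (t c : ℕ) (ht : 0 < t)
    (hκ : Fintype.card κ = t) :
    Nat.card {a : κ → ℕ // ∑ k, a k = c} = (c + t - 1).choose (t - 1) := by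
  classical
  rw [← Nat.card_congr (Sym.equivNatSumOfFintype κ c), Nat.card_eq_fintype_card,
    Sym.card_sym_eq_choose, hκ]
  have h2 : t + c - 1 = c + t - 1 := by omega
  rw [h2]
  rw [← Nat.choose_symm (show t - 1 ≤ c + t - 1 by omega)]
  congr 1
  omega

theorem card_tuples_eq {κ : Type*} [Fintype κ] [DecidableEq κ] (t i n : ℕ) (hi : 0 < i)
    (ht : 0 < t) (hκ : Fintype.card κ = t) :
    Nat.card {a : κ → ℕ // i * ∑ k, a k = n}
      = if i ∣ n then (n / i + t - 1).choose (t - 1) else 0 := by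
  classical
  by_cases hdvd : i ∣ n
  · rw [if_pos hdvd, ← card_tuples_sum_eq t (n / i) ht hκ]
    apply Nat.card_congr
    refine Equiv.subtypeEquivRight ?_
    intro a
    obtain ⟨c, rfl⟩ := hdvd
    rw [Nat.mul_div_cancel_left _ hi]
    constructor
    · intro h
      exact Nat.eq_of_mul_eq_mul_left hi h
    · intro h
      rw [h]
  · rw [if_neg hdvd]
    have : IsEmpty {a : κ → ℕ // i * ∑ k, a k = n} := by
      constructor
      rintro ⟨a, ha⟩
      exact hdvd ⟨_, ha.symm⟩
    exact Nat.card_of_isEmpty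

section
variable {κ : Type*} [Fintype κ] [DecidableEq κ] (π : κ → κ) (P : κ → Prop) [DecidablePred P]

theorem card_invariant_tuples_eq_aux (hππ : ∀ k, π (π k) = k) (hP : ∀ k, P (π k) ↔ ¬ P k)
    (s b n : ℕ) (hb : 0 < b) (hs : 0 < s) (hκ : Fintype.card κ = s) :
    Nat.card {a : κ → ℕ // b * ∑ k, a k = n ∧ ∀ k, a (π k) = a k}
      = if 2 * b ∣ n then (n / (2 * b) + s / 2 - 1).choose (s / 2 - 1) else 0 := by
  classical
  have hcard' : Fintype.card {k // P k} = s / 2 := by
    have h1 := sum_invariant π P hππ hP (fun _ => 1) (fun _ => rfl)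
    simp only [Finset.sum_const, Finset.card_univ, smul_eq_mul, mul_one] at h1
    rw [hκ] at h1
    omega
  have hs2 : 0 < s / 2 := by
    have h1 := sum_invariant π P hππ hP (fun _ => 1) (fun _ => rfl)
    simp only [Finset.sum_const, Finset.card_univ, smul_eq_mul, mul_one] at h1
    rw [hκ] at h1
    omega
  rw [← card_tuples_eq (κ := {k // P k}) (s / 2) (2 * b) n (by omega) hs2 hcard']
  apply Nat.card_congr
  refine ⟨fun a => ⟨fun y => a.1 y.1, ?_⟩,
    fun a' => ⟨extInv π P hP a'.1, ?_, extInv_inv π P hππ hP a'.1⟩, ?_, ?_⟩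
  · have h1 := sum_invariant π P hππ hP a.1 a.2.2
    have h2 := a.2.1
    rw [h1, ← mul_assoc, mul_comm b 2] at h2
    exact h2
  · have h1 := sum_invariant π P hππ hP (extInv π P hP a'.1) (extInv_inv π P hππ hP a'.1)
    rw [h1]
    have h2 : ∑ y : {k // P k}, extInv π P hP a'.1 y.1 = ∑ y, a'.1 y := by
      apply Finset.sum_congr rfl
      intro y _
      rw [extInv_pos π P hP a'.1 y.1 y.2]
    rw [h2, ← mul_assoc, mul_comm b 2]
    exact a'.2
  · intro a
    apply Subtype.ext
    funext k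
    show extInv π P hP (fun y => a.1 y.1) k = a.1 k
    by_cases h : P k
    · rw [extInv_pos π P hP _ k h]
    · rw [extInv_neg π P hP _ k h]
      exact a.2.2 k
  · intro a'
    apply Subtype.ext
    funext y
    show extInv π P hP a'.1 y.1 = a'.1 y
    rw [extInv_pos π P hP a'.1 y.1 y.2]

end

theorem card_invariant_tuples_eq {κ : Type*} [Fintype κ] [DecidableEq κ] (π : κ → κ)
    (hππ : ∀ k, π (π k) = k) (hfp : ∀ k, π k ≠ k) (s b n : ℕ) (hb : 0 < b) (hs : 0 < s)
    (hκ : Fintype.card κ = s) :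
    Nat.card {a : κ → ℕ // b * ∑ k, a k = n ∧ ∀ k, a (π k) = a k}
      = if 2 * b ∣ n then (n / (2 * b) + s / 2 - 1).choose (s / 2 - 1) else 0 := by
  classical
  obtain ⟨e⟩ : Nonempty (κ ≃ Fin s) := ⟨Fintype.equivFinOfCardEq hκ⟩
  have hne : ∀ k, e k ≠ e (π k) := fun k h => hfp k (e.injective h).symm
  apply card_invariant_tuples_eq_aux π (fun k => e k < e (π k)) hππ _ s b n hb hs hκ
  intro k
  rw [hππ]
  constructor
  · intro h h'
    exact lt_asymm h h'
  · intro h
    exact lt_of_le_of_ne (not_lt.mp h) (Ne.symm (hne k))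

theorem finite_tuples {κ : Type*} [Fintype κ] [DecidableEq κ] (i n : ℕ) (hi : 0 < i)
    (A : (κ → ℕ) → Prop) :
    Finite {a : κ → ℕ // i * ∑ k, a k ≤ n ∧ A a} := by
  classical
  have hbound : ∀ a : {a : κ → ℕ // i * ∑ k, a k ≤ n ∧ A a}, ∀ k, a.1 k < n + 1 := by
    intro a k
    have h1 : a.1 k ≤ ∑ k, a.1 k := Finset.single_le_sum (fun _ _ => Nat.zero_le _)
      (Finset.mem_univ k)
    have h2 : ∑ k, a.1 k ≤ i * ∑ k, a.1 k := Nat.le_mul_of_pos_left _ hi
    have h3 := a.2.1
    omega
  apply Finite.of_injective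
    (fun a : {a : κ → ℕ // i * ∑ k, a k ≤ n ∧ A a} => (fun k => (⟨a.1 k, hbound a k⟩ : Fin (n + 1))))
  intro a a' h
  apply Subtype.ext
  funext k
  have := congrFun h k
  exact congrArg Fin.val this

theorem card_with_cond {α : Type*} (A E : α → Prop) (T : Prop) [Decidable T]
    [Finite {x // A x}] :
    Nat.card {x // A x ∧ (E x → T)}
      = Nat.card {x // A x} - (if T then 0 else Nat.card {x // A x ∧ E x}) := by
  classical
  by_cases hT : T
  · rw [if_pos hT, Nat.sub_zero]
    apply Nat.card_congr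
    refine Equiv.subtypeEquivRight ?_
    intro x
    constructor
    · intro h; exact h.1
    · intro h; exact ⟨h, fun _ => hT⟩
  · rw [if_neg hT]
    have h1 : Nat.card {x // A x} = Nat.card {y : {x // A x} // E y.1}
        + Nat.card {y : {x // A x} // ¬ E y.1} := by
      rw [← Nat.card_sum]
      exact Nat.card_congr (Equiv.sumCompl (fun y : {x // A x} => E y.1)).symm
    have h2 : Nat.card {y : {x // A x} // E y.1} = Nat.card {x // A x ∧ E x} :=
      Nat.card_congr (Equiv.subtypeSubtypeEquivSubtypeInter A E)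
    have h3 : Nat.card {y : {x // A x} // ¬ E y.1} = Nat.card {x // A x ∧ (E x → T)} := by
      rw [Nat.card_congr (Equiv.subtypeSubtypeEquivSubtypeInter A (fun x => ¬ E x))]
      apply Nat.card_congr
      refine Equiv.subtypeEquivRight ?_
      intro x
      constructor
      · intro h; exact ⟨h.1, fun hE => absurd hE h.2⟩
      · intro h; exact ⟨h.1, fun hE => hT (h.2 hE)⟩
    omega

end Cfsg.Agent.Lib.Helper16.OSemi
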