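import Mathlib

set_option autoImplicit false
set_option linter.unusedSectionVars false
set_option linter.unusedSimpArgs false
set_option linter.unusedVariables false
set_option linter.unusedTactic false

namespace Cfsg.Agent.Lib.Helper16.OSemi

open Module Polynomial

universe u

variable {F : Type u} [Field F] {V V' : Type*} [AddCommGroup V] [Module F V]
  [AddCommGroup V'] [Module F V']

theorem aeval_intertwine (J : V →ₗ[F] V') (T : V →ₗ[F] V) (T' : V' →ₗ[F] V')
    (h : ∀ v, T' (J v) = J (T v)) (P : F[X]) (v : V) :
    aeval T' P (J v) = J (aeval T P v) := by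
  have hpow : ∀ (k : ℕ) (v : V), (T' ^ k) (J v) = J ((T ^ k) v) := by
    intro k
    induction k with
    | zero => intro v; rfl
    | succ k ih =>
      intro v
      rw [pow_succ, pow_succ, Module.End.mul_apply, Module.End.mul_apply, h, ih]
  induction P using Polynomial.induction_on' with
  | add p q hp hq =>
    rw [map_add, map_add, LinearMap.add_apply, LinearMap.add_apply, hp, hq, map_add]
  | monomial k c =>
    rw [aeval_monomial, aeval_monomial, Module.End.mul_apply, Module.End.mul_apply, hpow,
      Module.algebraMap_end_apply, Module.algebraMap_end_apply, map_smul]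

theorem finrank_ker_le_of_inj [FiniteDimensional F V'] (J : V →ₗ[F] V')
    (hJ : Function.Injective J) (T : V →ₗ[F] V) (T' : V' →ₗ[F] V')
    (h : ∀ v, T' (J v) = J (T v)) (P : F[X]) :
    finrank F (LinearMap.ker (aeval T P)) ≤ finrank F (LinearMap.ker (aeval T' P)) := by
  have hmaps : ∀ v ∈ LinearMap.ker (aeval T P), J v ∈ LinearMap.ker (aeval T' P) := by
    intro v hv
    rw [LinearMap.mem_ker] at hv ⊢
    rw [aeval_intertwine J T T' h, hv, map_zero]
  apply LinearMap.finrank_le_finrank_of_injective (f := LinearMap.restrict J hmaps)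
  intro v w hvw
  apply Subtype.ext
  apply hJ
  exact congrArg Subtype.val hvw

theorem finrank_ker_eq_of_equiv [FiniteDimensional F V] [FiniteDimensional F V']
    (Φ : V ≃ₗ[F] V') (T : V →ₗ[F] V) (T' : V' →ₗ[F] V')
    (h : ∀ v, T' (Φ v) = Φ (T v)) (P : F[X]) :
    finrank F (LinearMap.ker (aeval T P)) = finrank F (LinearMap.ker (aeval T' P)) := by
  apply le_antisymm
  · exact finrank_ker_le_of_inj Φ.toLinearMap Φ.injective T T' h P
  · apply finrank_ker_le_of_inj Φ.symm.toLinearMap Φ.symm.injective T' T _ P
    intro v
    show T (Φ.symm v) = Φ.symm (T' v)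
    rw [LinearEquiv.eq_symm_apply, ← h, LinearEquiv.apply_symm_apply]

end Cfsg.Agent.Lib.Helper16.OSemi
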