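import Mathlib
import Cfsg.Agent.Lib.Helper16.OL16

set_option autoImplicit false
set_option linter.unusedSectionVars false
set_option linter.unusedVariables false

/-! Lang-type results for orthogonal groups, part 17: S2731. -/

namespace Cfsg.Agent.Lib.Helper16.OL

open Matrix Cfsg.Agent.Lib.Lead.OA Cfsg.Agent.Lib.Helper16 Cfsg.Agent.Lib.Helper16.OA
  Cfsg.Agent.Lib.helper6

universe u v

/-- pairs of vectors of equal non-zero norm with prescribed inner product, odd dimension. -/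
theorem hvec_odd {F₀ : Type v} [Field F₀] (h2 : (2 : F₀) ≠ 0) (m : ℕ) (hm : 1 ≤ m) (z : F₀) :
    ∃ u v : Unit ⊕ (Fin m ⊕ Fin m) → F₀, Cfsg.quadFormOdd m F₀ u ≠ 0 ∧
      Cfsg.quadFormOdd m F₀ v = Cfsg.quadFormOdd m F₀ u ∧
      QuadraticMap.polar (Cfsg.quadFormOdd m F₀) u v = z * Cfsg.quadFormOdd m F₀ u := by
  classical
  set i₀ : Fin m := ⟨0, hm⟩ with hi₀
  set u : Unit ⊕ (Fin m ⊕ Fin m) → F₀ := Sum.elim (fun _ => 1) (fun _ => 0) with hu
  set v : Unit ⊕ (Fin m ⊕ Fin m) → F₀ := Sum.elim (fun _ => z / 2)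
    (Sum.elim (fun i => if i = i₀ then 1 else 0)
      (fun i => if i = i₀ then 1 - (z / 2) ^ 2 else 0)) with hv
  have hQu : Cfsg.quadFormOdd m F₀ u = 1 := by
    unfold Cfsg.quadFormOdd
    simp [hu]
  have hQv : Cfsg.quadFormOdd m F₀ v = 1 := by
    unfold Cfsg.quadFormOdd
    simp [hv]
  refine ⟨u, v, ?_, ?_, ?_⟩
  · rw [hQu]; exact one_ne_zero
  · rw [hQu, hQv]
  · rw [polar_odd, hQu]
    simp [hu, hv]
    field_simp

variable {ι : Type} [Fintype ι] [DecidableEq ι] {F : Type u} [Field F] [Fintype F]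

set_option maxHeartbeats 1600000 in
/-- the general form of S2731. -/
theorem core_not_inndiag (Q : QuadraticForm F (ι → F)) (h2 : (2 : F) ≠ 0)
    (hQ : (QuadraticMap.polarBilin Q).Nondegenerate) (hn : 7 ≤ Fintype.card ι)
    (hT : 9 ≤ Fintype.card ι ∨ Fintype.card ι ≤ 7 ∨
      ∀ U : Submodule F (ι → F), (∀ u ∈ U, Q u = 0) → Module.finrank F U ≤ 3)
    (hσc : FieldCompat (⇑Q : (ι → F) → F)) (m : ℕ) (hcard : Fintype.card ι = 2 * m + 1)
    (Q₀ : ∀ S : Subfield F, QuadraticForm S (ι → S))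
    (hc : ∀ S : Subfield F, BaseCompat S.subtype (⇑(Q₀ S)) (⇑Q))
    (hQ₀ : ∀ S : Subfield F, (QuadraticMap.polarBilin (Q₀ S)).Nondegenerate)
    (hvec : ∀ S : Subfield F, ∀ z : S, ∃ u v : ι → S, Q₀ S u ≠ 0 ∧ Q₀ S v = Q₀ S u ∧
      QuadraticMap.polar (⇑(Q₀ S)) u v = z * Q₀ S u)
    (hsimple : ∀ S : Subfield F, IsSimpleGroup (Cfsg.POmega S (⇑(Q₀ S) : (ι → S) → S)))
    (A : Subgroup (MulAut (Cfsg.POmega F (⇑Q : (ι → F) → F))))
    (hInnA : Cfsg.Inn (Cfsg.POmega F (⇑Q : (ι → F) → F)) ≤ A) (p : ℕ) (hp : p.Prime)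
    (x : MulAut (Cfsg.POmega F (⇑Q : (ι → F) → F))) (hord : orderOf x = p)
    (hnot : x ∉ (cHom (⇑Q : (ι → F) → F)).range) :
    Cfsg.pPrimeCore p ↥(A ⊓ Subgroup.centralizer {x}) ≠ ⊥ ↔
      (Cfsg.IsFieldAutClassPOmega (⇑Q : (ι → F) → F) x ∧
        Nat.Coprime p (Nat.card ↥(MonoidHom.eqLocus x.toMonoidHom
          (MonoidHom.id (Cfsg.POmega F (⇑Q : (ι → F) → F)))))) := by
  classical
  obtain ⟨g, σ, hx⟩ := aut_eq_mul Q hQ hn hT hσc x
  have hσne : σ ≠ 1 := by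
    rintro rfl
    apply hnot
    rw [hx, map_one, mul_one]
    exact ⟨g, rfl⟩
  have hσp : σ ^ p = 1 := by
    have hxp : x ^ p = 1 := by rw [← hord]; exact pow_orderOf_eq_one x
    have hg' : (g : GL ι F) ∈ GO (⇑Q : (ι → F) → F) := g.2
    have h1 := pow_cHom_fieldO (⇑Q : (ι → F) → F) hσc σ (g : GL ι F) hg' p
    have h3 : (⟨(g : GL ι F), hg'⟩ : ↥(GO (⇑Q : (ι → F) → F))) = g := Subtype.ext rfl
    rw [h3, ← hx, hxp] at h1
    apply field_mem_pgo Q hQ hn hσc (σ ^ p)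
    have h4 : fieldO (⇑Q : (ι → F) → F) hσc (σ ^ p) =
        (cHom (⇑Q : (ι → F) → F) ⟨twI σ (g : GL ι F) p, twI_mem hσc σ hg' p⟩)⁻¹ := by
      exact eq_inv_of_mul_eq_one_right h1.symm
    rw [h4]
    exact ((cHom (⇑Q : (ι → F) → F)).range).inv_mem ⟨_, rfl⟩
  have hordσ : orderOf σ = p := by
    have hdvd := orderOf_dvd_of_pow_eq_one hσp
    rcases (Nat.dvd_prime hp).mp hdvd with h | h
    · exact absurd (orderOf_eq_one_iff.mp h) hσne
    · exact h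
  have hxp : (cHom (⇑Q : (ι → F) → F) g * fieldO (⇑Q : (ι → F) → F) hσc σ) ^ p = 1 := by
    rw [← hx, ← hord]; exact pow_orderOf_eq_one x
  obtain ⟨h, hh⟩ := field_conjO Q h2 hQ hn hσc m hcard σ p hordσ hp.pos g hxp
  set α : MulAut (Cfsg.POmega F (⇑Q : (ι → F) → F)) := (cHom (⇑Q : (ι → F) → F) h)⁻¹ with hα
  have hx₀ : α * x * α⁻¹ = fieldO (⇑Q : (ι → F) → F) hσc σ := by
    rw [hx, hh, hα]
    group
  have hfield : Cfsg.IsFieldAutClassPOmega (⇑Q : (ι → F) → F) x :=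
    ⟨α, fieldO (⇑Q : (ι → F) → F) hσc σ, σ, hσne,
      (isFieldAut_iff _ hσc σ _).mpr rfl, hx₀⟩
  rw [and_iff_right hfield]
  set S : Subfield F := FixedPoints.subfield (Subgroup.zpowers σ) F with hS
  have hmem : ∀ y, y ∈ S ↔ σ y = y := fun y => Cfsg.Agent.Lib.Helper16.mem_fixed_iff σ y
  have : Fintype S := Fintype.ofFinite _
  have hj : ∀ y, (∃ z, S.subtype z = y) ↔ σ y = y := by
    intro y
    constructor
    · rintro ⟨z, rfl⟩
      exact (hmem _).mp z.2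
    · intro hy
      exact ⟨⟨y, (hmem y).mpr hy⟩, rfl⟩
  exact core_field_conj S.subtype (Q₀ S) Q (hc S) h2 hQ (hQ₀ S) hn hT m hcard hσc σ hj p hp hordσ
    (hvec S) (hsimple S) A hInnA α x hx₀

end Cfsg.Agent.Lib.Helper16.OL
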