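import Mathlib
import Cfsg.Agent.Lib.Helper16.OL17
import Cfsg.Agent.S0295

set_option autoImplicit false
set_option linter.unusedSectionVars false
set_option linter.unusedVariables false

/-! Lang-type results for orthogonal groups, part 18: S2731 for the odd-dimensional form. -/

namespace Cfsg.Agent.Lib.Helper16.OL

open Matrix Cfsg.Agent.Lib.Lead.OA Cfsg.Agent.Lib.Helper16 Cfsg.Agent.Lib.Helper16.OA
  Cfsg.Agent.Lib.helper6

universe u

variable {F : Type u} [Field F] [Fintype F]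

theorem not_inndiag_iff (m : ℕ) (x : MulAut (Cfsg.POmega F (Cfsg.quadFormOdd m F))) :
    Cfsg.IsInnerDiagonalAutPOmegaOdd m x ↔ x ∈ (cHom (Cfsg.quadFormOdd m F)).range := by
  unfold Cfsg.IsInnerDiagonalAutPOmegaOdd Cfsg.IsSimilarityInducedAutPOmega
  constructor
  · rintro ⟨g, hg, hi⟩
    exact ⟨⟨g, hg⟩, ((induced_iff _ g hg x).mp hi).symm⟩
  · rintro ⟨g, rfl⟩
    exact ⟨g.1, g.2, (induced_iff _ g.1 g.2 _).mpr rfl⟩

set_option maxHeartbeats 1600000 in
theorem S2731_aux (hodd : Odd (Fintype.card F)) {m : ℕ} (hm : 3 ≤ m)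
    (A : Subgroup (MulAut (Cfsg.POmega F (Cfsg.quadFormOdd m F))))
    (hinn : ∀ k : Cfsg.POmega F (Cfsg.quadFormOdd m F), MulAut.conj k ∈ A) {p : ℕ}
    (hp : p.Prime) (x : MulAut (Cfsg.POmega F (Cfsg.quadFormOdd m F)))
    (hord : orderOf x = p) (hnot : ¬ Cfsg.IsInnerDiagonalAutPOmegaOdd m x) :
    Cfsg.pPrimeCore p ↥(A ⊓ Subgroup.centralizer {x}) ≠ ⊥ ↔
      (Cfsg.IsFieldAutClassPOmega (Cfsg.quadFormOdd m F) x ∧
        Nat.Coprime p (Nat.card ↥(MonoidHom.eqLocus x.toMonoidHom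
          (MonoidHom.id (Cfsg.POmega F (Cfsg.quadFormOdd m F)))))) := by
  have h2 : (2 : F) ≠ 0 := two_ne_zero_of_odd_card hodd
  have hcard : Fintype.card (Unit ⊕ (Fin m ⊕ Fin m)) = 2 * m + 1 := by
    simp; ring
  have hQ := qfOdd_nondeg (F := F) m h2
  have hn : 7 ≤ Fintype.card (Unit ⊕ (Fin m ⊕ Fin m)) := by rw [hcard]; omega
  have hT : 9 ≤ Fintype.card (Unit ⊕ (Fin m ⊕ Fin m)) ∨
      Fintype.card (Unit ⊕ (Fin m ⊕ Fin m)) ≤ 7 ∨
      ∀ U : Submodule F (Unit ⊕ (Fin m ⊕ Fin m) → F), (∀ u ∈ U, qfOdd m F u = 0) →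
        Module.finrank F U ≤ 3 := by
    rw [hcard]
    by_cases h : 4 ≤ m
    · left; omega
    · right; left; omega
  have hσc : FieldCompat (⇑(qfOdd m F) : (Unit ⊕ (Fin m ⊕ Fin m) → F) → F) := by
    rw [qfOdd_coe]
    exact fieldCompat_odd m
  rw [not_inndiag_iff] at hnot
  have hInnA : Cfsg.Inn (Cfsg.POmega F (Cfsg.quadFormOdd m F)) ≤ A := by
    rintro _ ⟨k, rfl⟩
    exact hinn k
  have h2S : ∀ S : Subfield F, (2 : S) ≠ 0 := by
    intro S h0
    apply h2
    have := congrArg S.subtype h0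
    rwa [map_ofNat, map_zero] at this
  refine core_not_inndiag (qfOdd m F) h2 hQ hn hT hσc m hcard (fun S => qfOdd m S)
    (fun S => baseCompat_odd S.subtype m) (fun S => by
      have : Fintype S := Fintype.ofFinite _
      exact qfOdd_nondeg (F := S) m (h2S S))
    (fun S z => hvec_odd (h2S S) m (by omega) z) ?_ A hInnA p hp x hord hnot
  intro S
  have : Fintype S := Fintype.ofFinite _
  have hoddS : Odd (Fintype.card S) := by
    rw [Nat.odd_iff]
    exact card_odd_of (h2S S)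
  exact Cfsg.Agent.S0295.result hoddS m hm

end Cfsg.Agent.Lib.Helper16.OL
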