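import Mathlib
import Cfsg.Agent.Lib.helper8.OME.Defs
import Cfsg.Agent.Lib.Helper24.OMEODDNECcore
import Cfsg.Agent.Lib.Helper24.ElD
import Cfsg.Agent.Lib.Helper29.OMEARITHNEC
import Cfsg.Agent.Lib.Helper9.OMEMAXEL
import Cfsg.Agent.Lib.helper15.OMESTDh15
import Cfsg.Agent.Lib.Helper28.OMESCALREDh28

/-! Project OME (designer helper8), row ODDNEC second copy under an own name (helper16): the statement of `ome_odd_nec`,
a wrapper of helper24's `omeoddnec_core` on ARITHNEC (Helper29), MAXEL (Helper9), helper15's STDCTX / STDFACTS copies and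
helper28's OMEGAODD copy. -/

set_option autoImplicit false

namespace Cfsg.Agent.Lib.helper8.OME

open Polynomial Module Cfsg.Agent.Lib.Helper13.S5955 Cfsg.Agent.Lib.helper15.S5972
  Cfsg.Agent.Lib.Helper18.OPE
open scoped Matrix

theorem omeoddnec_h16 {F : Type*} [Field F] [Fintype F] {p : ℕ} [Fact p.Prime] [CharP F p]
    (d m : ℕ) (hd : 4 ≤ d) (hm : 2 ≤ m) (hme : Even m) (hmn : m + 2 ≤ 2 * d) (a b : F)
    (hab : ∀ x y : F, x ^ 2 + a * x * y + b * y ^ 2 = 0 → x = 0 ∧ y = 0) (r : ℕ) [Fact r.Prime]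
    (hrp : r ≠ p) (hr2 : r ≠ 2) (i c : ℕ)
    (hi : i = orderOf ((Fintype.card F : ℕ) : ZMod r)) (hc : c = if Even i then i else 2 * i)
    (hC : CEm i d (m / 2)) (hall : AllFixM F d m (-1) r a b) : RM i c d m := by
  have hrodd : Odd r := (Fact.out : r.Prime).odd_of_ne_two hr2
  have hi1 : 1 ≤ i := by
    rw [hi]
    exact Cfsg.Agent.Lib.Helper24.el_ord_pos (F := F) (p := p) r hrp
  have hfacts := omestdfacts_h15 d (by omega) a b hab
  exact omeoddnec_core (p := p) d m hme a b r hrp hr2 i c hi hc hall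
    (fun hfit => ome_arith_nec i c d m hi1 hc hd hme hm hmn hC hfit)
    (fun hA1 => ome_maxel (p := p) r hrp hr2 d (by omega) a b hab i c hi hc hA1)
    (fun y hy => omestdctx_h15_realize d r a b y hy)
    (fun x hx hxr => omeomegaodd_h28 d (by omega) a b hab r hrodd x hx hxr)
    ⟨hfacts.1, hfacts.2.1⟩

end Cfsg.Agent.Lib.helper8.OME
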