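import Mathlib
import Cfsg.Agent.Lib.helper8.OME.Defs
import Cfsg.Agent.Lib.Helper1.OMETWOP2core
import Cfsg.Agent.Lib.Helper28.OMESCALREDh28
import Cfsg.Agent.Lib.helper15.OMESTDh15
import Cfsg.Agent.Lib.Helper28.OMEESUFFMS
import Cfsg.Agent.Lib.Helper28.OMEESUFFML
import Cfsg.Agent.Lib.helper14.OMEUEXM
import Cfsg.Agent.Lib.helper6.OMEUHYPFOUR

/-! Project OME (designer helper8), rows TWOSUFFP2 / TWONECP2, second copies under own names (helper16): wrappers of helper1's cores. -/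

set_option autoImplicit false

namespace Cfsg.Agent.Lib.helper8.OME

open Polynomial Module Cfsg.Agent.Lib.Helper13.S5955 Cfsg.Agent.Lib.helper15.S5972
  Cfsg.Agent.Lib.Helper18.OPE
open scoped Matrix

theorem ometwosuffp2_h16 {F : Type*} [Field F] [Fintype F] [CharP F 2]
    (d m : ℕ) (hd : 4 ≤ d) (hm : 2 ≤ m) (hme : Even m) (hmn : m + 2 ≤ 2 * d) (a b : F)
    (hab : ∀ x y : F, x ^ 2 + a * x * y + b * y ^ 2 = 0 → x = 0 ∧ y = 0)
    (hcond : Even d ∨ m % 4 = 2) : AllFixM F d m (-1) 2 a b := by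
  have h2 : (2 : F) = 0 := ometwop2_two
  have hfacts := omestdfacts_h15 d (by omega) a b hab
  exact ometwosuffp2_core d m hd hm hme hmn a b hab hcond
    (fun x hx z hz hns => (omescalred_h28 d a b 2 x hx z hz hns).1)
    (fun x hx hx2 => omestdctx_h15_qctx d 2 a b hab x hx hx2)
    ⟨hfacts.1, hfacts.2.1⟩
    (fun y hy hmd => e_suff_minus_small h2 hy d m hfacts.1 hfacts.2.1 hme hm hmd hcond)
    (fun y hy hdm => e_suff_minus_large h2 hy d m hfacts.1 hfacts.2.1 hme hdm hmn hcond)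

theorem ometwonecp2_h16 {F : Type*} [Field F] [Fintype F] [CharP F 2]
    (d m : ℕ) (hd : 4 ≤ d) (hm : 2 ≤ m) (hme : Even m) (hmn : m + 2 ≤ 2 * d) (a b : F)
    (hab : ∀ x y : F, x ^ 2 + a * x * y + b * y ^ 2 = 0 → x = 0 ∧ y = 0)
    (hall : AllFixM F d m (-1) 2 a b) : Even d ∨ m % 4 = 2 := by
  haveI : Fact (Nat.Prime 2) := ⟨Nat.prime_two⟩
  exact ometwonecp2_core d m hd hm hme hmn a b hab hall
    (ome_u_ex (p := 2) d hd a b)
    (fun x hx hx2 => omestdctx_h15_qctx d 2 a b hab x hx hx2)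
    (fun y hy hNN hQN hδ W hW hWnd h4 => u_hyp_four (by norm_num) hy hNN hQN hδ W hW hWnd h4)

end Cfsg.Agent.Lib.helper8.OME
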