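import Mathlib
import Cfsg.Agent.Lib.helper17.OMP.Defs
import Cfsg.Agent.Lib.helper17.OMP.Defs2
import Cfsg.Agent.Lib.Helper18.SP4T3

/-!
# Project OMP (designer helper17), block B (helper16): rows B1 `split_coprime`, B2 (first half) `tv_pow_char`,
B5 `nu_stable` VERBATIM, and the CORES of B2 (second half) `hE_pow_card`, B3 `rel_split`, B4 `cent_upper`, B6 `cent_L`,
B7 `cent_blk` with the statements of E3 (`hE_coe`, `hE_conj_tv`) and E12 (`nu0_conj_tv`) as hypotheses.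
-/

set_option autoImplicit false
set_option linter.unusedVariables false

namespace Cfsg.Agent.Lib.helper17.OMP

open Matrix Cfsg.Agent.Lib.helper14.CTE Cfsg.Agent.Lib.helper14.CTA Cfsg.Agent.Lib.helper17.SLN Cfsg.Agent.Lib.Helper28.CTD
  Cfsg.Agent.Lib.helper3.STC Cfsg.Agent.Lib.Lead.STD

universe u v w

section B

variable {F : Type u} [Field F] {G : Type v} [Group G] {ι : Type w} [Fintype ι] [DecidableEq ι]

/-- B1 [S-M], verbatim. -/
theorem split_coprime {M : Type*} [Group M] (a b : M) (hab : Commute a b) (m k : ℕ) (ha : a ^ m = 1) (hb : b ^ k = 1)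
    (hmk : Nat.Coprime m k) : a ∈ Subgroup.zpowers (a * b) ∧ b ∈ Subgroup.zpowers (a * b) := by
  have hbez : (1 : ℤ) = m * Nat.gcdA m k + k * Nat.gcdB m k := by
    have := Nat.gcd_eq_gcd_ab m k
    rw [Nat.Coprime.gcd_eq_one hmk] at this
    exact_mod_cast this
  have hak : (a * b) ^ k = a ^ k := by rw [hab.mul_pow, hb, mul_one]
  have hbm : (a * b) ^ m = b ^ m := by rw [hab.mul_pow, ha, one_mul]
  constructor
  · rw [Subgroup.mem_zpowers_iff]
    refine ⟨(k : ℤ) * Nat.gcdB m k, ?_⟩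
    rw [_root_.zpow_mul, zpow_natCast, hak]
    conv_rhs => rw [← zpow_one a, hbez, _root_.zpow_add, _root_.zpow_mul, zpow_natCast, ha, _root_.one_zpow, one_mul,
      _root_.zpow_mul, zpow_natCast]
  · rw [Subgroup.mem_zpowers_iff]
    refine ⟨(m : ℤ) * Nat.gcdA m k, ?_⟩
    rw [_root_.zpow_mul, zpow_natCast, hbm]
    conv_rhs => rw [← zpow_one b, hbez, _root_.zpow_add, _root_.zpow_mul, zpow_natCast, _root_.zpow_mul b (k : ℤ),
      zpow_natCast, hb, _root_.one_zpow, mul_one]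

theorem ompb2_tv_zero (i j : ι) : (tv i j (0 : F) : Matrix.SpecialLinearGroup ι F) = 1 := by
  have h := tv_add (F := F) i j 0 0
  rw [add_zero] at h
  have h2 : (tv i j (0 : F) : Matrix.SpecialLinearGroup ι F) * tv i j 0 = tv i j 0 * 1 := by
    rw [mul_one]
    exact h.symm
  exact mul_left_cancel h2

theorem ompb2_tv_pow (i j : ι) (t : F) (m : ℕ) :
    (tv i j t : Matrix.SpecialLinearGroup ι F) ^ m = tv i j (m • t) := by
  induction m with
  | zero => rw [pow_zero, zero_smul, ompb2_tv_zero]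
  | succ m ih => rw [pow_succ, ih, ← tv_add, succ_nsmul]

/-- B2 [S-M], first statement, verbatim. -/
theorem tv_pow_char (i j : ι) (t : F) (q : ℕ) [CharP F q] : (tv i j t : Matrix.SpecialLinearGroup ι F) ^ q = 1 := by
  rw [ompb2_tv_pow, nsmul_eq_mul, CharP.cast_eq_zero, zero_mul, ompb2_tv_zero]

/-- B2 [S-M], second statement: core on the statement of E3 `hE_coe`. -/
theorem ompb2_hE_pow_card_core [Fintype F]
    (hcoe : ∀ (i j : ι) (hij : i ≠ j) (s : F) (hs : s ≠ 0),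
      ((hE i j s : Matrix.SpecialLinearGroup ι F) : Matrix ι ι F) =
        Matrix.diagonal (fun k => if k = i then s else if k = j then s⁻¹ else 1))
    (i j : ι) (hij : i ≠ j) (s : F) (hs : s ≠ 0) :
    (hE i j s : Matrix.SpecialLinearGroup ι F) ^ (Fintype.card F - 1) = 1 := by
  apply Subtype.ext
  rw [Matrix.SpecialLinearGroup.coe_pow, hcoe i j hij s hs, Matrix.diagonal_pow]
  rw [Matrix.SpecialLinearGroup.coe_one, ← Matrix.diagonal_one]
  congr 1
  funext k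
  show (if k = i then s else if k = j then s⁻¹ else 1) ^ (Fintype.card F - 1) = 1
  split_ifs
  · exact FiniteField.pow_card_sub_one_eq_one s hs
  · exact FiniteField.pow_card_sub_one_eq_one s⁻¹ (inv_ne_zero hs)
  · exact one_pow _

/-- coprimality of the characteristic and `q - 1` -/
theorem ompb3_coprime [Fintype F] : Nat.Coprime (ringChar F) (Fintype.card F - 1) := by
  have : CharP F (ringChar F) := ringChar.charP F
  obtain ⟨n, hp, hn⟩ := FiniteField.card F (ringChar F)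
  rw [hp.coprime_iff_not_dvd]
  intro hd
  have hpos : 1 ≤ Fintype.card F := Fintype.card_pos
  have h1 : ringChar F ∣ Fintype.card F := by
    rw [hn]
    exact dvd_pow_self _ n.pos.ne'
  have h2 : ringChar F ∣ Fintype.card F - (Fintype.card F - 1) := Nat.dvd_sub h1 hd
  have h3 : Fintype.card F - (Fintype.card F - 1) = 1 := by omega
  rw [h3] at h2
  exact hp.one_lt.ne' (Nat.dvd_one.mp h2)

/-- the generic splitting step of B3 -/
theorem ompb3_aux [Fintype F]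
    (hcoe : ∀ (i j : ι) (hij : i ≠ j) (s : F) (hs : s ≠ 0),
      ((hE i j s : Matrix.SpecialLinearGroup ι F) : Matrix ι ι F) =
        Matrix.diagonal (fun k => if k = i then s else if k = j then s⁻¹ else 1))
    (hconj : ∀ (i j : ι) (hij : i ≠ j) (s : F) (hs : s ≠ 0) (a b : ι) (hab : a ≠ b) (t : F),
      (hE i j s : Matrix.SpecialLinearGroup ι F) * tv a b t * (hE i j s)⁻¹ =
        tv a b ((if a = i then s else if a = j then s⁻¹ else 1) *
          (if b = i then s else if b = j then s⁻¹ else 1)⁻¹ * t))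
    (i j k l : ι) (hij : i ≠ j) (hkl : k ≠ l) (hik : i ≠ k) (hil : i ≠ l) (hjk : j ≠ k) (hjl : j ≠ l)
    (ζ : F) (hζ : ζ ≠ 0) (Φ : Matrix.SpecialLinearGroup ι F →* G) (y : G)
    (h : Commute y (Φ (tv i j 1 * hE k l ζ))) :
    Commute y (Φ (tv i j 1)) ∧ Commute y (Φ (hE k l ζ)) := by
  have : CharP F (ringChar F) := ringChar.charP F
  have hc : Commute (tv i j 1 : Matrix.SpecialLinearGroup ι F) (hE k l ζ) := by
    have h1 := hconj k l hkl ζ hζ i j hij 1
    rw [if_neg hik, if_neg hil, if_neg hjk, if_neg hjl, inv_one, one_mul, one_mul] at h1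
    have h2 : (hE k l ζ : Matrix.SpecialLinearGroup ι F) * tv i j 1 = tv i j 1 * hE k l ζ := by
      calc (hE k l ζ : Matrix.SpecialLinearGroup ι F) * tv i j 1
          = hE k l ζ * tv i j 1 * (hE k l ζ)⁻¹ * hE k l ζ := by group
        _ = tv i j 1 * hE k l ζ := by rw [h1]
    exact h2.symm
  obtain ⟨ha, hb⟩ := split_coprime (tv i j 1 : Matrix.SpecialLinearGroup ι F) (hE k l ζ) hc (ringChar F)
    (Fintype.card F - 1) (tv_pow_char i j 1 (ringChar F)) (ompb2_hE_pow_card_core hcoe k l hkl ζ hζ) ompb3_coprime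
  constructor
  · obtain ⟨n, hn⟩ := Subgroup.mem_zpowers_iff.mp ha
    rw [← hn, map_zpow]
    exact h.zpow_right n
  · obtain ⟨n, hn⟩ := Subgroup.mem_zpowers_iff.mp hb
    rw [← hn, map_zpow]
    exact h.zpow_right n

/-- B3 [S-M]: core on the statements of E3. -/
theorem ompb3_core [Fintype F]
    (hcoe : ∀ (i j : ι) (hij : i ≠ j) (s : F) (hs : s ≠ 0),
      ((hE i j s : Matrix.SpecialLinearGroup ι F) : Matrix ι ι F) =
        Matrix.diagonal (fun k => if k = i then s else if k = j then s⁻¹ else 1))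
    (hconj : ∀ (i j : ι) (hij : i ≠ j) (s : F) (hs : s ≠ 0) (a b : ι) (hab : a ≠ b) (t : F),
      (hE i j s : Matrix.SpecialLinearGroup ι F) * tv a b t * (hE i j s)⁻¹ =
        tv a b ((if a = i then s else if a = j then s⁻¹ else 1) *
          (if b = i then s else if b = j then s⁻¹ else 1)⁻¹ * t))
    (p : Pts ι) (ζ : F) (hζ : ζ ≠ 0) (Φ : Matrix.SpecialLinearGroup ι F →* G) (y : G)
    (ra : Commute y (Φ (tv p.o0 p.o1 1 * hE p.o2 p.o3 ζ))) (rb : Commute y (Φ (tv p.o2 p.o3 1 * hE p.o0 p.o1 ζ))) :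
    (Commute y (Φ (tv p.o0 p.o1 1)) ∧ Commute y (Φ (hE p.o0 p.o1 ζ))) ∧
      (Commute y (Φ (tv p.o2 p.o3 1)) ∧ Commute y (Φ (hE p.o2 p.o3 ζ))) := by
  obtain ⟨h1, h2⟩ := ompb3_aux hcoe hconj p.o0 p.o1 p.o2 p.o3 p.h01 p.h23 p.h02 p.h03 p.h12 p.h13 ζ hζ Φ y ra
  obtain ⟨h3, h4⟩ := ompb3_aux hcoe hconj p.o2 p.o3 p.o0 p.o1 p.h23 p.h01 p.h02.symm p.h12.symm p.h03.symm
    p.h13.symm ζ hζ Φ y rb
  exact ⟨⟨h1, h4⟩, ⟨h3, h2⟩⟩

/-- B4 [M]: core on the statement of E3 `hE_conj_tv`. -/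
theorem ompb4_core [Fintype F]
    (hconj : ∀ (i j : ι) (hij : i ≠ j) (s : F) (hs : s ≠ 0) (a b : ι) (hab : a ≠ b) (t : F),
      (hE i j s : Matrix.SpecialLinearGroup ι F) * tv a b t * (hE i j s)⁻¹ =
        tv a b ((if a = i then s else if a = j then s⁻¹ else 1) *
          (if b = i then s else if b = j then s⁻¹ else 1)⁻¹ * t))
    (i j : ι) (hij : i ≠ j) (ζ : Fˣ) (hζ : ∀ x : Fˣ, x ∈ Subgroup.zpowers ζ)
    (Φ : Matrix.SpecialLinearGroup ι F →* G) (y : G)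
    (h1 : Commute y (Φ (tv i j 1))) (h2 : Commute y (Φ (hE i j (ζ : F)))) (t : F) : Commute y (Φ (tv i j t)) := by
  have hζ0 : (ζ : F) ≠ 0 := ζ.ne_zero
  -- the additive subgroup of good parameters
  let S : AddSubgroup F :=
    { carrier := {t | Commute y (Φ (tv i j t))}
      zero_mem' := by
        show Commute y (Φ (tv i j 0))
        rw [ompb2_tv_zero, map_one]
        exact Commute.one_right y
      add_mem' := by
        intro a b ha hb
        show Commute y (Φ (tv i j (a + b)))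
        rw [tv_add, map_mul]
        exact Commute.mul_right ha hb
      neg_mem' := by
        intro a ha
        show Commute y (Φ (tv i j (-a)))
        rw [← tv_inv, map_inv]
        exact Commute.inv_right ha }
  have hstep : ∀ t : F, Commute y (Φ (tv i j t)) → Commute y (Φ (tv i j ((ζ : F) * (ζ : F) * t))) := by
    intro t ht
    have hc := hconj i j hij (ζ : F) hζ0 i j hij t
    rw [if_pos rfl, if_neg hij.symm, if_pos rfl, inv_inv] at hc
    rw [← hc, map_mul, map_mul, map_inv]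
    exact (Commute.mul_right h2 ht).mul_right (Commute.inv_right h2)
  have hpow : ∀ n : ℕ, Commute y (Φ (tv i j ((ζ : F) ^ n * (ζ : F) ^ n))) := by
    intro n
    induction n with
    | zero => simpa using h1
    | succ n ih =>
      have := hstep _ ih
      have e : (ζ : F) * (ζ : F) * ((ζ : F) ^ n * (ζ : F) ^ n) = (ζ : F) ^ (n + 1) * (ζ : F) ^ (n + 1) := by ring
      rwa [e] at this
  have hsq : ∀ s : Fˣ, ((s : F)) ^ 2 ∈ S := by
    intro s
    have hs := hζ s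
    rw [← mem_powers_iff_mem_zpowers] at hs
    obtain ⟨n, hn⟩ := hs
    show Commute y (Φ (tv i j (((s : F)) ^ 2)))
    have e : ((s : F)) ^ 2 = (ζ : F) ^ n * (ζ : F) ^ n := by
      rw [← hn]
      push_cast
      ring
    rw [e]
    exact hpow n
  have htop : (⊤ : AddSubgroup F) ≤ S := by
    rw [← Cfsg.Agent.Lib.helper3.SP4.sq_span (F := F), AddSubgroup.closure_le]
    rintro _ ⟨s, rfl⟩
    exact hsq s
  exact htop (AddSubgroup.mem_top t)

/-- B5 [S-M], verbatim. -/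
theorem nu_stable (p : Pts ι) (Φ : Matrix.SpecialLinearGroup ι F →* G) (y : G)
    (r1 : Φ (nu0 p) * y * (Φ (nu0 p))⁻¹ = y * Φ (hm p.o0 p.o1))
    (g : Matrix.SpecialLinearGroup ι F) (hg : Commute y (Φ g))
    (hh : Commute (hm p.o0 p.o1) (nu0 p * g * (nu0 p)⁻¹)) : Commute y (Φ (nu0 p * g * (nu0 p)⁻¹)) := by
  have e : Φ (nu0 p * g * (nu0 p)⁻¹) = Φ (nu0 p) * Φ g * (Φ (nu0 p))⁻¹ := by rw [map_mul, map_mul, map_inv]
  have hyg : y * Φ g = Φ g * y := hg.eq
  have h1 : Commute (Φ (nu0 p) * y * (Φ (nu0 p))⁻¹) (Φ (nu0 p) * Φ g * (Φ (nu0 p))⁻¹) := by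
    show Φ (nu0 p) * y * (Φ (nu0 p))⁻¹ * (Φ (nu0 p) * Φ g * (Φ (nu0 p))⁻¹) =
      Φ (nu0 p) * Φ g * (Φ (nu0 p))⁻¹ * (Φ (nu0 p) * y * (Φ (nu0 p))⁻¹)
    calc Φ (nu0 p) * y * (Φ (nu0 p))⁻¹ * (Φ (nu0 p) * Φ g * (Φ (nu0 p))⁻¹)
        = Φ (nu0 p) * (y * Φ g) * (Φ (nu0 p))⁻¹ := by group
      _ = Φ (nu0 p) * (Φ g * y) * (Φ (nu0 p))⁻¹ := by rw [hyg]
      _ = _ := by group
  rw [r1, ← e] at h1
  have h2 : Commute (Φ (hm p.o0 p.o1)) (Φ (nu0 p * g * (nu0 p)⁻¹)) := hh.map Φ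
  have h3 : Commute (y * Φ (hm p.o0 p.o1) * (Φ (hm p.o0 p.o1))⁻¹) (Φ (nu0 p * g * (nu0 p)⁻¹)) :=
    Commute.mul_left h1 (Commute.inv_left h2)
  rwa [mul_inv_cancel_right] at h3

/-- B6 [M]: core on the statements of E3 and E12 `nu0_conj_tv`. -/
theorem ompb6_core [Fintype F]
    (hcoe : ∀ (i j : ι) (hij : i ≠ j) (s : F) (hs : s ≠ 0),
      ((hE i j s : Matrix.SpecialLinearGroup ι F) : Matrix ι ι F) =
        Matrix.diagonal (fun k => if k = i then s else if k = j then s⁻¹ else 1))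
    (hconj : ∀ (i j : ι) (hij : i ≠ j) (s : F) (hs : s ≠ 0) (a b : ι) (hab : a ≠ b) (t : F),
      (hE i j s : Matrix.SpecialLinearGroup ι F) * tv a b t * (hE i j s)⁻¹ =
        tv a b ((if a = i then s else if a = j then s⁻¹ else 1) *
          (if b = i then s else if b = j then s⁻¹ else 1)⁻¹ * t))
    (hnu : ∀ (p : Pts ι) (t : F),
      (nu0 p : Matrix.SpecialLinearGroup ι F) * tv p.o0 p.o1 t * (nu0 p)⁻¹ = tv p.o1 p.o0 t ∧
        (nu0 p : Matrix.SpecialLinearGroup ι F) * tv p.o2 p.o3 t * (nu0 p)⁻¹ = tv p.o3 p.o2 t)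
    (p : Pts ι) (ζ : Fˣ) (hζ : ∀ x : Fˣ, x ∈ Subgroup.zpowers ζ) (c : Matrix.SpecialLinearGroup ι F)
    (Φ : Matrix.SpecialLinearGroup ι F →* G) (y : G) (R : ORel p (ζ : F) c Φ y) (t : F) :
    (Commute y (Φ (tv p.o0 p.o1 t)) ∧ Commute y (Φ (tv p.o1 p.o0 t))) ∧
      (Commute y (Φ (tv p.o2 p.o3 t)) ∧ Commute y (Φ (tv p.o3 p.o2 t))) := by
  obtain ⟨⟨h1, h2⟩, ⟨h3, h4⟩⟩ := ompb3_core hcoe hconj p (ζ : F) ζ.ne_zero Φ y R.ra R.rb
  have hU01 : ∀ t, Commute y (Φ (tv p.o0 p.o1 t)) := ompb4_core hconj p.o0 p.o1 p.h01 ζ hζ Φ y h1 h2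
  have hU23 : ∀ t, Commute y (Φ (tv p.o2 p.o3 t)) := ompb4_core hconj p.o2 p.o3 p.h23 ζ hζ Φ y h3 h4
  have hm1 : (-1 : F) ≠ 0 := neg_ne_zero.mpr one_ne_zero
  -- `hm 0 1` commutes with `tv 1 0 t` and with `tv 3 2 t`
  have hc10 : Commute (hm p.o0 p.o1 : Matrix.SpecialLinearGroup ι F) (tv p.o1 p.o0 t) := by
    have h := hconj p.o0 p.o1 p.h01 (-1) hm1 p.o1 p.o0 p.h01.symm t
    rw [if_neg p.h01.symm, if_pos rfl, if_pos rfl] at h
    have e : ((-1 : F))⁻¹ * ((-1 : F))⁻¹ * t = t := by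
      rw [inv_neg_one]
      ring
    rw [e] at h
    have h2 : (hm p.o0 p.o1 : Matrix.SpecialLinearGroup ι F) * tv p.o1 p.o0 t = tv p.o1 p.o0 t * hm p.o0 p.o1 := by
      show (hE p.o0 p.o1 (-1) : Matrix.SpecialLinearGroup ι F) * tv p.o1 p.o0 t = tv p.o1 p.o0 t * hE p.o0 p.o1 (-1)
      calc (hE p.o0 p.o1 (-1) : Matrix.SpecialLinearGroup ι F) * tv p.o1 p.o0 t
          = hE p.o0 p.o1 (-1) * tv p.o1 p.o0 t * (hE p.o0 p.o1 (-1))⁻¹ * hE p.o0 p.o1 (-1) := by group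
        _ = tv p.o1 p.o0 t * hE p.o0 p.o1 (-1) := by rw [h]
    exact h2
  have hc32 : Commute (hm p.o0 p.o1 : Matrix.SpecialLinearGroup ι F) (tv p.o3 p.o2 t) := by
    have h := hconj p.o0 p.o1 p.h01 (-1) hm1 p.o3 p.o2 p.h23.symm t
    rw [if_neg p.h03.symm, if_neg p.h13.symm, if_neg p.h02.symm, if_neg p.h12.symm, inv_one, one_mul, one_mul] at h
    have h2 : (hm p.o0 p.o1 : Matrix.SpecialLinearGroup ι F) * tv p.o3 p.o2 t = tv p.o3 p.o2 t * hm p.o0 p.o1 := by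
      show (hE p.o0 p.o1 (-1) : Matrix.SpecialLinearGroup ι F) * tv p.o3 p.o2 t = tv p.o3 p.o2 t * hE p.o0 p.o1 (-1)
      calc (hE p.o0 p.o1 (-1) : Matrix.SpecialLinearGroup ι F) * tv p.o3 p.o2 t
          = hE p.o0 p.o1 (-1) * tv p.o3 p.o2 t * (hE p.o0 p.o1 (-1))⁻¹ * hE p.o0 p.o1 (-1) := by group
        _ = tv p.o3 p.o2 t * hE p.o0 p.o1 (-1) := by rw [h]
    exact h2
  obtain ⟨e1, e2⟩ := hnu p t
  refine ⟨⟨hU01 t, ?_⟩, ⟨hU23 t, ?_⟩⟩
  · have := nu_stable p Φ y R.r1 (tv p.o0 p.o1 t) (hU01 t) (by rw [e1]; exact hc10)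
    rwa [e1] at this
  · have := nu_stable p Φ y R.r1 (tv p.o2 p.o3 t) (hU23 t) (by rw [e2]; exact hc32)
    rwa [e2] at this

/-- B7 [S-M]: core on the statements of E3 and E12 `nu0_conj_tv`. -/
theorem ompb7_core [Fintype F]
    (hcoe : ∀ (i j : ι) (hij : i ≠ j) (s : F) (hs : s ≠ 0),
      ((hE i j s : Matrix.SpecialLinearGroup ι F) : Matrix ι ι F) =
        Matrix.diagonal (fun k => if k = i then s else if k = j then s⁻¹ else 1))
    (hconj : ∀ (i j : ι) (hij : i ≠ j) (s : F) (hs : s ≠ 0) (a b : ι) (hab : a ≠ b) (t : F),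
      (hE i j s : Matrix.SpecialLinearGroup ι F) * tv a b t * (hE i j s)⁻¹ =
        tv a b ((if a = i then s else if a = j then s⁻¹ else 1) *
          (if b = i then s else if b = j then s⁻¹ else 1)⁻¹ * t))
    (hnu : ∀ (p : Pts ι) (t : F),
      (nu0 p : Matrix.SpecialLinearGroup ι F) * tv p.o0 p.o1 t * (nu0 p)⁻¹ = tv p.o1 p.o0 t ∧
        (nu0 p : Matrix.SpecialLinearGroup ι F) * tv p.o2 p.o3 t * (nu0 p)⁻¹ = tv p.o3 p.o2 t)
    (p : Pts ι) (ζ : Fˣ) (hζ : ∀ x : Fˣ, x ∈ Subgroup.zpowers ζ) (c : Matrix.SpecialLinearGroup ι F)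
    (hc : CoxHyp p c) (Φ : Matrix.SpecialLinearGroup ι F →* G) (y : G) (R : ORel p (ζ : F) c Φ y)
    (g : Matrix.SpecialLinearGroup ι F) (hg : Mv g p.o0 p.o1 p.o0 p.o1) : Commute y (Φ g) := by
  have hmem : ∀ x : Matrix.SpecialLinearGroup ι F,
      x ∈ (Subgroup.centralizer ({y} : Set G)).comap Φ ↔ Commute y (Φ x) := by
    intro x
    rw [Subgroup.mem_comap, Subgroup.mem_centralizer_iff]
    constructor
    · intro h
      exact h y rfl
    · intro h z hz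
      rw [Set.mem_singleton_iff] at hz
      rw [hz]
      exact h
  rw [← hmem]
  apply hc.2 _ ((hmem c).mpr R.r3)
  · intro t
    exact (hmem _).mpr (ompb6_core hcoe hconj hnu p ζ hζ c Φ y R t).2.1
  · intro t
    exact (hmem _).mpr (ompb6_core hcoe hconj hnu p ζ hζ c Φ y R t).2.2
  · exact hg

end B

end Cfsg.Agent.Lib.helper17.OMP
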