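import Mathlib
import Cfsg.Agent.Lib.helper17.OMP.Defs
import Cfsg.Agent.Lib.helper17.OMP.Defs2
import Cfsg.Agent.Lib.Helper22.CTATVAPI
import Cfsg.Agent.Lib.Helper26.OMPE5
import Cfsg.Agent.Lib.Helper11.OMPE1
import Cfsg.Agent.Lib.Helper11.OMPE6

/-!
# Project OMP (designer helper17), row E12 (helper16), VERBATIM: `Mv_wE21`, `Mv_sgE`, `Mv_nu0`, `nu0_conj_tv`.
Self-contained on E1 E5 E6 (no E3 / E7 / E8): extras `ompe12_hm_mulVec`, `ompe12_vecMul_hm` (the action of `h_ij(-1)` on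
arbitrary column / row vectors), `ompe12_conj_tv_neg` (conjugation of a transvection when BOTH the column and the row carry
the sign `-1`), `ompe12_nu0_mulVec_*`, `ompe12_vecMul_nu0_*`.
-/

set_option autoImplicit false
set_option linter.unusedVariables false

namespace Cfsg.Agent.Lib.helper17.OMP

open Matrix Cfsg.Agent.Lib.helper14.CTE Cfsg.Agent.Lib.helper14.CTA Cfsg.Agent.Lib.helper17.SLN Cfsg.Agent.Lib.Helper28.CTD
  Cfsg.Agent.Lib.helper3.STC Cfsg.Agent.Lib.Lead.STD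

universe u v w

section E

variable {F : Type u} [Field F] {ι : Type w} [Fintype ι] [DecidableEq ι]

/-- `h_ij(-1)` on an arbitrary column vector -/
theorem ompe12_hm_mulVec (i j : ι) (hij : i ≠ j) (v : ι → F) :
    (hm i j : Matrix.SpecialLinearGroup ι F).1 *ᵥ v = fun k => if k = i then -v i else if k = j then -v j else v k := by
  show ((tv i j (-1) * tv j i (-(-1 : F)⁻¹) * tv i j (-1) * (tv i j (-1) * tv j i 1 * tv i j (-1)) :
    Matrix.SpecialLinearGroup ι F) : Matrix ι ι F) *ᵥ v = _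
  rw [Matrix.SpecialLinearGroup.coe_mul, Matrix.SpecialLinearGroup.coe_mul, Matrix.SpecialLinearGroup.coe_mul,
    Matrix.SpecialLinearGroup.coe_mul, Matrix.SpecialLinearGroup.coe_mul, ← Matrix.mulVec_mulVec,
    ← Matrix.mulVec_mulVec, ← Matrix.mulVec_mulVec, ← Matrix.mulVec_mulVec, ← Matrix.mulVec_mulVec]
  have e1 : ∀ (t : F) (v : ι → F), ((tv i j t : Matrix.SpecialLinearGroup ι F) : Matrix ι ι F) *ᵥ v =
      v + Pi.single i (t * v j) := fun t v => tv_mulVec i j hij t v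
  have e2 : ∀ (t : F) (v : ι → F), ((tv j i t : Matrix.SpecialLinearGroup ι F) : Matrix ι ι F) *ᵥ v =
      v + Pi.single j (t * v i) := fun t v => tv_mulVec j i hij.symm t v
  rw [e1 (-1) v, e2 1, e1 (-1), e1 (-1), e2, e1 (-1)]
  have hinv : (-(-1 : F)⁻¹) = 1 := by rw [inv_neg_one, neg_neg]
  rw [hinv]
  ext k
  by_cases hki : k = i
  · subst hki
    simp [hij, hij.symm]
  · by_cases hkj : k = j
    · subst hkj
      simp [hij, hij.symm]
    · simp [hki, hkj]

/-- `h_ij(-1)` on an arbitrary row vector -/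
theorem ompe12_vecMul_hm (i j : ι) (hij : i ≠ j) (v : ι → F) :
    v ᵥ* (hm i j : Matrix.SpecialLinearGroup ι F).1 = fun k => if k = i then -v i else if k = j then -v j else v k := by
  show v ᵥ* ((tv i j (-1) * tv j i (-(-1 : F)⁻¹) * tv i j (-1) * (tv i j (-1) * tv j i 1 * tv i j (-1)) :
    Matrix.SpecialLinearGroup ι F) : Matrix ι ι F) = _
  rw [Matrix.SpecialLinearGroup.coe_mul, Matrix.SpecialLinearGroup.coe_mul, Matrix.SpecialLinearGroup.coe_mul,
    Matrix.SpecialLinearGroup.coe_mul, Matrix.SpecialLinearGroup.coe_mul, ← Matrix.vecMul_vecMul,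
    ← Matrix.vecMul_vecMul, ← Matrix.vecMul_vecMul, ← Matrix.vecMul_vecMul, ← Matrix.vecMul_vecMul]
  have e1 : ∀ (t : F) (v : ι → F), v ᵥ* ((tv i j t : Matrix.SpecialLinearGroup ι F) : Matrix ι ι F) =
      v + Pi.single j (t * v i) := fun t v => vecMul_tv i j hij t v
  have e2 : ∀ (t : F) (v : ι → F), v ᵥ* ((tv j i t : Matrix.SpecialLinearGroup ι F) : Matrix ι ι F) =
      v + Pi.single i (t * v j) := fun t v => vecMul_tv j i hij.symm t v
  have hinv : (-(-1 : F)⁻¹) = 1 := by rw [inv_neg_one, neg_neg]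
  rw [hinv, e1 (-1) v, e2 1, e1 (-1), e1 (-1), e2, e1 (-1)]
  ext k
  by_cases hki : k = i
  · subst hki
    simp [hij, hij.symm]
  · by_cases hkj : k = j
    · subst hkj
      simp [hij, hij.symm]
    · simp [hki, hkj]

/-- conjugating a transvection when the column `i` of `g` is `-e_a` and the row `c` of `g` is `-e_j` -/
theorem ompe12_conj_tv_neg (g : Matrix.SpecialLinearGroup ι F) (i j a c : ι) (hij : i ≠ j) (hac : a ≠ c)
    (h1 : g.1 *ᵥ Pi.single i 1 = Pi.single a (-1)) (h2 : Pi.single c 1 ᵥ* g.1 = Pi.single j (-1)) (x : F) :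
    g * tv i j x * g⁻¹ = tv a c x := by
  rw [mul_inv_eq_iff_eq_mul]
  apply Subtype.ext
  rw [Matrix.SpecialLinearGroup.coe_mul, Matrix.SpecialLinearGroup.coe_mul, tv_coe hij, tv_coe hac]
  unfold Matrix.transvection
  rw [mul_add, add_mul, mul_one, one_mul]
  congr 1
  ext p q
  have e1 : ∀ p, g.1 p i = if p = a then -1 else 0 := by
    intro p
    have := congrFun h1 p
    rw [Matrix.mulVec_single_one, Pi.single_apply] at this
    exact this
  have e2 : ∀ q, g.1 c q = if q = j then -1 else 0 := by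
    intro q
    have := congrFun h2 q
    rw [Matrix.single_one_vecMul, Pi.single_apply] at this
    exact this
  rw [ctatvapi_mul_single, ctatvapi_single_mul, e1, e2]
  by_cases hq : q = j
  · by_cases hp : p = a
    · rw [if_pos hq, if_pos hp, if_pos hp, if_pos hq]
      ring
    · rw [if_pos hq, if_neg hp, if_neg hp, zero_mul]
  · rw [if_neg hq, if_neg hq, mul_zero, ite_self]

/-- E12 [S-M], first statement, verbatim. -/
theorem Mv_wE21 (p : Pts ι) : Mv (wE p.o2 p.o1 : Matrix.SpecialLinearGroup ι F) p.o0 p.o1 p.o0 p.o2 := by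
  rw [Mv_iff]
  exact ⟨Mv1_wE_of_ne p.o2 p.o1 p.o0 p.h12.symm p.h02 p.h01, Mv1_wE p.o2 p.o1 p.h12.symm⟩

/-- E12 [S-M], second statement, verbatim. -/
theorem Mv_sgE (p : Pts ι) : Mv (sgE p : Matrix.SpecialLinearGroup ι F) p.o0 p.o1 p.o1 p.o2 := by
  rw [Mv_iff]
  unfold sgE
  constructor
  · exact (Mv1_wE_of_ne p.o2 p.o1 p.o0 p.h12.symm p.h02 p.h01).mul (Mv1_wE p.o1 p.o0 p.h01.symm)
  · exact (Mv1_wE p.o2 p.o1 p.h12.symm).mul (Mv1_wE_of_ne p.o1 p.o0 p.o2 p.h01.symm p.h12.symm p.h02.symm)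

/-- `ν₀` on a column vector -/
theorem ompe12_nu0_mulVec (p : Pts ι) (v : ι → F) :
    (nu0 p : Matrix.SpecialLinearGroup ι F).1 *ᵥ v =
      (wE p.o0 p.o1 : Matrix.SpecialLinearGroup ι F).1 *ᵥ ((wE p.o2 p.o3 : Matrix.SpecialLinearGroup ι F).1 *ᵥ
        ((hm p.o1 p.o2 : Matrix.SpecialLinearGroup ι F).1 *ᵥ v)) := by
  show ((wE p.o0 p.o1 * wE p.o2 p.o3 * hm p.o1 p.o2 : Matrix.SpecialLinearGroup ι F) : Matrix ι ι F) *ᵥ v = _
  rw [Matrix.SpecialLinearGroup.coe_mul, Matrix.SpecialLinearGroup.coe_mul, ← Matrix.mulVec_mulVec,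
    ← Matrix.mulVec_mulVec]

/-- `ν₀` on a row vector -/
theorem ompe12_vecMul_nu0 (p : Pts ι) (v : ι → F) :
    v ᵥ* (nu0 p : Matrix.SpecialLinearGroup ι F).1 =
      ((v ᵥ* (wE p.o0 p.o1 : Matrix.SpecialLinearGroup ι F).1) ᵥ* (wE p.o2 p.o3 : Matrix.SpecialLinearGroup ι F).1) ᵥ*
        (hm p.o1 p.o2 : Matrix.SpecialLinearGroup ι F).1 := by
  show v ᵥ* ((wE p.o0 p.o1 * wE p.o2 p.o3 * hm p.o1 p.o2 : Matrix.SpecialLinearGroup ι F) : Matrix ι ι F) = _
  rw [Matrix.SpecialLinearGroup.coe_mul, Matrix.SpecialLinearGroup.coe_mul, ← Matrix.vecMul_vecMul,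
    ← Matrix.vecMul_vecMul]

theorem ompe12_nu0_mulVec_o0 (p : Pts ι) :
    (nu0 p : Matrix.SpecialLinearGroup ι F).1 *ᵥ Pi.single p.o0 1 = Pi.single p.o1 (-1) := by
  rw [ompe12_nu0_mulVec, ompe12_hm_mulVec _ _ p.h12, ompe1_wE_mulVec _ _ p.h23, ompe1_wE_mulVec _ _ p.h01]
  ext k
  have := p.h01; have := p.h02; have := p.h03; have := p.h12; have := p.h13; have := p.h23
  have := p.h01.symm; have := p.h02.symm; have := p.h03.symm; have := p.h12.symm; have := p.h13.symm; have := p.h23.symm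
  by_cases h0 : k = p.o0
  · subst h0
    simp [Pi.single_apply, *]
  · by_cases h1 : k = p.o1
    · subst h1
      simp [Pi.single_apply, *]
    · simp [Pi.single_apply, *]

theorem ompe12_vecMul_nu0_o0 (p : Pts ι) :
    Pi.single p.o0 1 ᵥ* (nu0 p : Matrix.SpecialLinearGroup ι F).1 = Pi.single p.o1 (-1) := by
  rw [ompe12_vecMul_nu0, ompe1_vecMul_wE _ _ p.h01, ompe1_vecMul_wE _ _ p.h23, ompe12_vecMul_hm _ _ p.h12]
  ext k
  have := p.h01; have := p.h02; have := p.h03; have := p.h12; have := p.h13; have := p.h23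
  have := p.h01.symm; have := p.h02.symm; have := p.h03.symm; have := p.h12.symm; have := p.h13.symm; have := p.h23.symm
  by_cases h0 : k = p.o0
  · subst h0
    simp [Pi.single_apply, *]
  · by_cases h1 : k = p.o1
    · subst h1
      simp [Pi.single_apply, *]
    · simp [Pi.single_apply, *]

theorem ompe12_nu0_mulVec_o1 (p : Pts ι) :
    (nu0 p : Matrix.SpecialLinearGroup ι F).1 *ᵥ Pi.single p.o1 1 = Pi.single p.o0 (-1) := by
  rw [ompe12_nu0_mulVec, ompe12_hm_mulVec _ _ p.h12, ompe1_wE_mulVec _ _ p.h23, ompe1_wE_mulVec _ _ p.h01]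
  ext k
  have := p.h01; have := p.h02; have := p.h03; have := p.h12; have := p.h13; have := p.h23
  have := p.h01.symm; have := p.h02.symm; have := p.h03.symm; have := p.h12.symm; have := p.h13.symm; have := p.h23.symm
  by_cases h0 : k = p.o0
  · subst h0
    simp [Pi.single_apply, *]
  · by_cases h1 : k = p.o1
    · subst h1
      simp [Pi.single_apply, *]
    · simp [Pi.single_apply, *]

theorem ompe12_vecMul_nu0_o1 (p : Pts ι) :
    Pi.single p.o1 1 ᵥ* (nu0 p : Matrix.SpecialLinearGroup ι F).1 = Pi.single p.o0 (-1) := by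
  rw [ompe12_vecMul_nu0, ompe1_vecMul_wE _ _ p.h01, ompe1_vecMul_wE _ _ p.h23, ompe12_vecMul_hm _ _ p.h12]
  ext k
  have := p.h01; have := p.h02; have := p.h03; have := p.h12; have := p.h13; have := p.h23
  have := p.h01.symm; have := p.h02.symm; have := p.h03.symm; have := p.h12.symm; have := p.h13.symm; have := p.h23.symm
  by_cases h0 : k = p.o0
  · subst h0
    simp [Pi.single_apply, *]
  · by_cases h1 : k = p.o1
    · subst h1
      simp [Pi.single_apply, *]
    · simp [Pi.single_apply, *]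

theorem ompe12_nu0_mulVec_o2 (p : Pts ι) :
    (nu0 p : Matrix.SpecialLinearGroup ι F).1 *ᵥ Pi.single p.o2 1 = Pi.single p.o3 1 := by
  rw [ompe12_nu0_mulVec, ompe12_hm_mulVec _ _ p.h12, ompe1_wE_mulVec _ _ p.h23, ompe1_wE_mulVec _ _ p.h01]
  ext k
  have := p.h01; have := p.h02; have := p.h03; have := p.h12; have := p.h13; have := p.h23
  have := p.h01.symm; have := p.h02.symm; have := p.h03.symm; have := p.h12.symm; have := p.h13.symm; have := p.h23.symm
  by_cases h0 : k = p.o0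
  · subst h0
    simp [Pi.single_apply, *]
  · by_cases h1 : k = p.o1
    · subst h1
      simp [Pi.single_apply, *]
    · by_cases h2 : k = p.o2
      · subst h2
        simp [Pi.single_apply, *]
      · by_cases h3 : k = p.o3
        · subst h3
          simp [Pi.single_apply, *]
        · simp [Pi.single_apply, *]

theorem ompe12_vecMul_nu0_o2 (p : Pts ι) :
    Pi.single p.o2 1 ᵥ* (nu0 p : Matrix.SpecialLinearGroup ι F).1 = Pi.single p.o3 1 := by
  rw [ompe12_vecMul_nu0, ompe1_vecMul_wE _ _ p.h01, ompe1_vecMul_wE _ _ p.h23, ompe12_vecMul_hm _ _ p.h12]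
  ext k
  have := p.h01; have := p.h02; have := p.h03; have := p.h12; have := p.h13; have := p.h23
  have := p.h01.symm; have := p.h02.symm; have := p.h03.symm; have := p.h12.symm; have := p.h13.symm; have := p.h23.symm
  by_cases h0 : k = p.o0
  · subst h0
    simp [Pi.single_apply, *]
  · by_cases h1 : k = p.o1
    · subst h1
      simp [Pi.single_apply, *]
    · by_cases h2 : k = p.o2
      · subst h2
        simp [Pi.single_apply, *]
      · by_cases h3 : k = p.o3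
        · subst h3
          simp [Pi.single_apply, *]
        · simp [Pi.single_apply, *]

theorem ompe12_hm_mulVec_fst (i j : ι) (hij : i ≠ j) :
    (hm i j : Matrix.SpecialLinearGroup ι F).1 *ᵥ Pi.single i 1 = Pi.single i (-1) := by
  rw [ompe12_hm_mulVec i j hij]
  ext k
  by_cases hki : k = i
  · subst hki
    simp
  · by_cases hkj : k = j
    · subst hkj
      simp [hij, hij.symm, hki]
    · simp [hki, hkj]

theorem ompe12_hm_mulVec_snd (i j : ι) (hij : i ≠ j) :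
    (hm i j : Matrix.SpecialLinearGroup ι F).1 *ᵥ Pi.single j 1 = Pi.single j (-1) := by
  rw [ompe12_hm_mulVec i j hij]
  ext k
  by_cases hki : k = i
  · subst hki
    simp [hij, hij.symm]
  · by_cases hkj : k = j
    · subst hkj
      simp [hij, hij.symm, hki]
    · simp [hki, hkj]

theorem ompe12_vecMul_hm_fst (i j : ι) (hij : i ≠ j) :
    Pi.single i 1 ᵥ* (hm i j : Matrix.SpecialLinearGroup ι F).1 = Pi.single i (-1) := by
  rw [ompe12_vecMul_hm i j hij]
  ext k
  by_cases hki : k = i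
  · subst hki
    simp
  · by_cases hkj : k = j
    · subst hkj
      simp [hij, hij.symm, hki]
    · simp [hki, hkj]

theorem ompe12_vecMul_hm_snd (i j : ι) (hij : i ≠ j) :
    Pi.single j 1 ᵥ* (hm i j : Matrix.SpecialLinearGroup ι F).1 = Pi.single j (-1) := by
  rw [ompe12_vecMul_hm i j hij]
  ext k
  by_cases hki : k = i
  · subst hki
    simp [hij, hij.symm]
  · by_cases hkj : k = j
    · subst hkj
      simp [hij, hij.symm, hki]
    · simp [hki, hkj]

/-- `ν₀ * h_{01}(-1)` is the unsigned swap -/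
theorem Mv_nu0 (p : Pts ι) :
    Mv (nu0 p * hm p.o0 p.o1 : Matrix.SpecialLinearGroup ι F) p.o0 p.o1 p.o1 p.o0 := by
  have hs : ∀ (a : ι), (Pi.single a (-1) : ι → F) = -Pi.single a 1 := fun a => Pi.single_neg a 1
  refine ⟨?_, ?_, ?_, ?_⟩
  · show ((nu0 p * hm p.o0 p.o1 : Matrix.SpecialLinearGroup ι F) : Matrix ι ι F) *ᵥ Pi.single p.o0 1 = _
    rw [Matrix.SpecialLinearGroup.coe_mul, ← Matrix.mulVec_mulVec]
    show (nu0 p : Matrix.SpecialLinearGroup ι F).1 *ᵥ ((hm p.o0 p.o1 : Matrix.SpecialLinearGroup ι F).1 *ᵥ _) = _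
    rw [ompe12_hm_mulVec_fst _ _ p.h01, hs, Matrix.mulVec_neg, ompe12_nu0_mulVec_o0, hs, neg_neg]
  · show ((nu0 p * hm p.o0 p.o1 : Matrix.SpecialLinearGroup ι F) : Matrix ι ι F) *ᵥ Pi.single p.o1 1 = _
    rw [Matrix.SpecialLinearGroup.coe_mul, ← Matrix.mulVec_mulVec]
    show (nu0 p : Matrix.SpecialLinearGroup ι F).1 *ᵥ ((hm p.o0 p.o1 : Matrix.SpecialLinearGroup ι F).1 *ᵥ _) = _
    rw [ompe12_hm_mulVec_snd _ _ p.h01, hs, Matrix.mulVec_neg, ompe12_nu0_mulVec_o1, hs, neg_neg]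
  · show Pi.single p.o1 1 ᵥ* ((nu0 p * hm p.o0 p.o1 : Matrix.SpecialLinearGroup ι F) : Matrix ι ι F) = _
    rw [Matrix.SpecialLinearGroup.coe_mul, ← Matrix.vecMul_vecMul]
    show (_ ᵥ* (nu0 p : Matrix.SpecialLinearGroup ι F).1) ᵥ* (hm p.o0 p.o1 : Matrix.SpecialLinearGroup ι F).1 = _
    rw [ompe12_vecMul_nu0_o1, hs, Matrix.neg_vecMul, ompe12_vecMul_hm_fst _ _ p.h01, hs, neg_neg]
  · show Pi.single p.o0 1 ᵥ* ((nu0 p * hm p.o0 p.o1 : Matrix.SpecialLinearGroup ι F) : Matrix ι ι F) = _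
    rw [Matrix.SpecialLinearGroup.coe_mul, ← Matrix.vecMul_vecMul]
    show (_ ᵥ* (nu0 p : Matrix.SpecialLinearGroup ι F).1) ᵥ* (hm p.o0 p.o1 : Matrix.SpecialLinearGroup ι F).1 = _
    rw [ompe12_vecMul_nu0_o0, hs, Matrix.neg_vecMul, ompe12_vecMul_hm_snd _ _ p.h01, hs, neg_neg]

/-- `ν₀` flips the two `SL₂`s -/
theorem nu0_conj_tv (p : Pts ι) (t : F) :
    (nu0 p : Matrix.SpecialLinearGroup ι F) * tv p.o0 p.o1 t * (nu0 p)⁻¹ = tv p.o1 p.o0 t ∧
      (nu0 p : Matrix.SpecialLinearGroup ι F) * tv p.o2 p.o3 t * (nu0 p)⁻¹ = tv p.o3 p.o2 t := by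
  constructor
  · exact ompe12_conj_tv_neg (nu0 p) p.o0 p.o1 p.o1 p.o0 p.h01 p.h01.symm (ompe12_nu0_mulVec_o0 p)
      (ompe12_vecMul_nu0_o0 p) t
  · exact conj_tv (nu0 p) p.o2 p.o3 p.o3 p.o2 p.h23 p.h23.symm (ompe12_nu0_mulVec_o2 p) (ompe12_vecMul_nu0_o2 p) t

end E

end Cfsg.Agent.Lib.helper17.OMP
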