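import Mathlib
import Cfsg.Agent.Lib.Helper16.OMPB1
import Cfsg.Agent.Lib.Helper16.OMPE12
import Cfsg.Agent.Lib.Helper13.OMPE3

/-!
# Project OMP (designer helper17), block B (helper16), VERBATIM: B2 (second half) `hE_pow_card`, B3 `rel_split`, B4 `cent_upper`,
B6 `cent_L`, B7 `cent_blk` (wrappers of the cores of `Helper16.OMPB1` on E3 `hE_coe`, `hE_conj_tv` and E12 `nu0_conj_tv`).
-/

set_option autoImplicit false

namespace Cfsg.Agent.Lib.helper17.OMP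

open Matrix Cfsg.Agent.Lib.helper14.CTE Cfsg.Agent.Lib.helper14.CTA Cfsg.Agent.Lib.helper17.SLN Cfsg.Agent.Lib.Helper28.CTD
  Cfsg.Agent.Lib.helper3.STC Cfsg.Agent.Lib.Lead.STD

universe u v w

section B

variable {F : Type u} [Field F] {G : Type v} [Group G] {ι : Type w} [Fintype ι] [DecidableEq ι]

/-- B2 [S-M], second statement, verbatim. -/
theorem hE_pow_card [Fintype F] (i j : ι) (hij : i ≠ j) (s : F) (hs : s ≠ 0) :
    (hE i j s : Matrix.SpecialLinearGroup ι F) ^ (Fintype.card F - 1) = 1 :=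
  ompb2_hE_pow_card_core hE_coe i j hij s hs

/-- B3 [S-M], verbatim. -/
theorem rel_split [Fintype F] (p : Pts ι) (ζ : F) (hζ : ζ ≠ 0) (Φ : Matrix.SpecialLinearGroup ι F →* G) (y : G)
    (ra : Commute y (Φ (tv p.o0 p.o1 1 * hE p.o2 p.o3 ζ))) (rb : Commute y (Φ (tv p.o2 p.o3 1 * hE p.o0 p.o1 ζ))) :
    (Commute y (Φ (tv p.o0 p.o1 1)) ∧ Commute y (Φ (hE p.o0 p.o1 ζ))) ∧
      (Commute y (Φ (tv p.o2 p.o3 1)) ∧ Commute y (Φ (hE p.o2 p.o3 ζ))) :=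
  ompb3_core hE_coe hE_conj_tv p ζ hζ Φ y ra rb

/-- B4 [M], verbatim. -/
theorem cent_upper [Fintype F] (i j : ι) (hij : i ≠ j) (ζ : Fˣ) (hζ : ∀ x : Fˣ, x ∈ Subgroup.zpowers ζ)
    (Φ : Matrix.SpecialLinearGroup ι F →* G) (y : G)
    (h1 : Commute y (Φ (tv i j 1))) (h2 : Commute y (Φ (hE i j (ζ : F)))) (t : F) : Commute y (Φ (tv i j t)) :=
  ompb4_core hE_conj_tv i j hij ζ hζ Φ y h1 h2 t

/-- B6 [M], verbatim. -/
theorem cent_L [Fintype F] (p : Pts ι) (ζ : Fˣ) (hζ : ∀ x : Fˣ, x ∈ Subgroup.zpowers ζ) (c : Matrix.SpecialLinearGroup ι F)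
    (Φ : Matrix.SpecialLinearGroup ι F →* G) (y : G) (R : ORel p (ζ : F) c Φ y) (t : F) :
    (Commute y (Φ (tv p.o0 p.o1 t)) ∧ Commute y (Φ (tv p.o1 p.o0 t))) ∧
      (Commute y (Φ (tv p.o2 p.o3 t)) ∧ Commute y (Φ (tv p.o3 p.o2 t))) :=
  ompb6_core hE_coe hE_conj_tv nu0_conj_tv p ζ hζ c Φ y R t

/-- B7 [S-M], verbatim. -/
theorem cent_blk [Fintype F] (p : Pts ι) (ζ : Fˣ) (hζ : ∀ x : Fˣ, x ∈ Subgroup.zpowers ζ) (c : Matrix.SpecialLinearGroup ι F)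
    (hc : CoxHyp p c) (Φ : Matrix.SpecialLinearGroup ι F →* G) (y : G) (R : ORel p (ζ : F) c Φ y)
    (g : Matrix.SpecialLinearGroup ι F) (hg : Mv g p.o0 p.o1 p.o0 p.o1) : Commute y (Φ g) :=
  ompb7_core hE_coe hE_conj_tv nu0_conj_tv p ζ hζ c hc Φ y R g hg

end B

end Cfsg.Agent.Lib.helper17.OMP
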