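import Mathlib
import Cfsg.Agent.Lib.Helper16.OCount1
import Cfsg.Agent.Lib.Helper16.OKd
import Cfsg.Agent.Lib.Helper16.OSemi1

set_option autoImplicit false
set_option linter.unusedSectionVars false
set_option linter.unusedSimpArgs false
set_option linter.unusedVariables false
set_option linter.unusedTactic false

namespace Cfsg.Agent.Lib.Helper16.OSemi

open Matrix Module Polynomial Cfsg.Agent.Lib.Helper16.PSemi Cfsg.Agent.Lib.Helper16.RN
  Cfsg.Agent.Lib.Helper16.GUSemi Cfsg.Agent.Lib.Helper16.SpSemi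

universe u

variable {F : Type u} [Field F]

theorem exists_reindex_lin {ι : Type} [Fintype ι] [DecidableEq ι] (n : ℕ)
    (h : Fintype.card ι = n) :
    ∃ (R : Matrix ι ι F ≃ₐ[F] Matrix (Fin n) (Fin n) F) (Ψ : (ι → F) ≃ₗ[F] (Fin n → F)),
      (∀ a, R aᵀ = (R a)ᵀ) ∧ (∀ a, R.symm aᵀ = (R.symm a)ᵀ) ∧
      ∀ (A : Matrix ι ι F) (v : ι → F), (R A) *ᵥ (Ψ v) = Ψ (A *ᵥ v) := by
  refine ⟨Matrix.reindexAlgEquiv F F (Fintype.equivFinOfCardEq h),
    LinearEquiv.funCongrLeft F F (Fintype.equivFinOfCardEq h).symm, ?_, ?_, ?_⟩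
  · intro a
    rw [Matrix.coe_reindexAlgEquiv]
    rfl
  · intro a
    rw [Matrix.symm_reindexAlgEquiv, Matrix.coe_reindexAlgEquiv]
    rfl
  · intro A v
    rw [Matrix.coe_reindexAlgEquiv]
    show (A.submatrix _ _) *ᵥ (v ∘ _) = (A *ᵥ v) ∘ _
    rw [Matrix.submatrix_mulVec_equiv]
    congr 2
    funext x
    simp

theorem kd_reindex {ι : Type} [Fintype ι] [DecidableEq ι] {n : ℕ}
    (R : Matrix ι ι F ≃ₐ[F] Matrix (Fin n) (Fin n) F) (Ψ : (ι → F) ≃ₗ[F] (Fin n → F))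
    (hRΨ : ∀ (A : Matrix ι ι F) (v : ι → F), (R A) *ᵥ (Ψ v) = Ψ (A *ᵥ v))
    (A : Matrix ι ι F) (P : F[X]) :
    kd (R A) P = finrank F (LinearMap.ker (aeval (Matrix.toLin' A) P)) := by
  unfold kd
  symm
  apply finrank_ker_eq_of_equiv Ψ
  intro v
  rw [Matrix.toLin'_apply, Matrix.toLin'_apply, hRΨ]

/-- the polar Gram matrix is preserved by isometries. -/
theorem iso_gram_gen {ι : Type} [Fintype ι] [DecidableEq ι] (Q : QuadraticForm F (ι → F))
    (M : Matrix ι ι F) (hpol : ∀ x y : ι → F, QuadraticMap.polar Q x y = x ⬝ᵥ M *ᵥ y)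
    (A : Matrix ι ι F) (hA : ∀ v, Q (A *ᵥ v) = Q v) : Aᵀ * M * A = M := by
  have hpol' : ∀ x y : ι → F, x ⬝ᵥ (Aᵀ * M * A) *ᵥ y = x ⬝ᵥ M *ᵥ y := by
    intro x y
    rw [bilin_congr', ← hpol, ← hpol]
    exact polar_pres Q A hA x y
  ext k l
  have := hpol' (Pi.single k 1) (Pi.single l 1)
  rw [single_one_dotProduct, single_one_dotProduct, Matrix.mulVec_single_one,
    Matrix.mulVec_single_one] at this
  exact this

theorem o_conj_iff_gen [Fintype F] {p : ℕ} [Fact p.Prime] [CharP F p] {ι : Type} [Fintype ι]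
    [DecidableEq ι]
    (Q : QuadraticForm F (ι → F)) (hQ : (QuadraticMap.polarBilin Q).Nondegenerate)
    (A B : ↥(Cfsg.isometryGroup F ⇑Q)) (hodd : Odd (orderOf A)) (hA : (orderOf A).Coprime p) :
    IsConj A B ↔ IsConj ((A : Matrix.GeneralLinearGroup ι F) : Matrix ι ι F)
      ((B : Matrix.GeneralLinearGroup ι F) : Matrix ι ι F) := by
  constructor
  · intro h
    obtain ⟨c, hc⟩ := isConj_iff.mp h
    have h1 : c * A = B * c := by rw [← hc]; group
    have h2 : c.1.1 * A.1.1 = B.1.1 * c.1.1 := by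
      have := congrArg (fun x : ↥(Cfsg.isometryGroup F ⇑Q) => x.1.1) h1
      exact this
    exact ⟨c.1, h2⟩
  · rintro ⟨P, hP⟩
    have hP' : P.1 * A.1.1 = B.1.1 * P.1 := hP
    obtain ⟨N, hN⟩ : ∃ N, N = orderOf A := ⟨_, rfl⟩
    have hAN : A.1.1 ^ N = 1 := by
      have h1 : A ^ N = 1 := by rw [hN]; exact pow_orderOf_eq_one A
      have := congrArg (fun x : ↥(Cfsg.isometryGroup F ⇑Q) => x.1.1) h1
      simp only [Subgroup.coe_pow, Units.val_pow_eq_pow_val, OneMemClass.coe_one, Units.val_one] at this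
      exact this
    have hNF : (N : F) ≠ 0 := by
      intro h0
      rw [CharP.cast_eq_zero_iff F p] at h0
      rw [← hN] at hA
      have h1 : p ∣ Nat.gcd N p := Nat.dvd_gcd h0 dvd_rfl
      rw [hA] at h1
      exact (Fact.out : p.Prime).one_lt.ne' (Nat.dvd_one.mp h1)
    rw [← hN] at hodd
    obtain ⟨g, hg⟩ := o_conj_core Q hQ A.1.1 B.1.1 P.1 (iso_pres Q A) (iso_pres Q B) P.isUnit hP' N
      hodd hNF hAN
    apply isConj_iff.mpr
    refine ⟨g, ?_⟩
    rw [mul_inv_eq_iff_eq_mul]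
    apply Subtype.ext
    apply Units.ext
    exact hg

theorem even_sum_invariant {κ : Type*} [Fintype κ] [DecidableEq κ] (π : κ → κ)
    (hππ : ∀ k, π (π k) = k) (hfp : ∀ k, π k ≠ k) (a : κ → ℕ) (ha : ∀ k, a (π k) = a k) :
    Even (∑ k, a k) := by
  classical
  obtain ⟨e⟩ : Nonempty (κ ≃ Fin (Fintype.card κ)) := ⟨Fintype.equivFin κ⟩
  have hne : ∀ k, e k ≠ e (π k) := fun k h => hfp k (e.injective h).symm
  have hP : ∀ k, (e (π k) < e (π (π k))) ↔ ¬ (e k < e (π k)) := by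
    intro k
    rw [hππ]
    constructor
    · intro h h'
      exact lt_asymm h h'
    · intro h
      exact lt_of_le_of_ne (not_lt.mp h) (Ne.symm (hne k))
  rw [sum_invariant π (fun k => e k < e (π k)) hππ hP a ha]
  exact even_two_mul _

/-- termwise equality from termwise inequality and equality of sums -/
theorem eq_of_le_of_sum_eq {κ : Type*} [Fintype κ] (x y : κ → ℕ) (c d : ℕ)
    (hle : ∀ k, x k ≤ y k) (hcd : c ≤ d) (hsum : d + ∑ k, y k = c + ∑ k, x k) :
    ∀ k, y k = x k := by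
  classical
  have h1 : ∑ k, x k ≤ ∑ k, y k := Finset.sum_le_sum (fun k _ => hle k)
  have h2 : ∑ k, x k = ∑ k, y k := by omega
  intro k
  have := (Finset.sum_eq_sum_iff_of_le (fun k _ => hle k)).mp h2 k (Finset.mem_univ k)
  exact this.symm

end Cfsg.Agent.Lib.Helper16.OSemi
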