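import Mathlib
import Cfsg.Agent.Lib.Helper16.OMain0
import Cfsg.Agent.Lib.Helper16.OCombi
import Cfsg.Agent.Lib.Helper16.OEmbed
import Cfsg.Agent.Lib.Helper16.GUSemi1b

set_option autoImplicit false
set_option linter.unusedSectionVars false
set_option linter.unusedSimpArgs false
set_option linter.unusedVariables false
set_option linter.unusedTactic false

namespace Cfsg.Agent.Lib.Helper16.OSemi

open Matrix Module Polynomial Cfsg.Agent.Lib.Helper16.PSemi Cfsg.Agent.Lib.Helper16.RN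
  Cfsg.Agent.Lib.Helper16.GUSemi Cfsg.Agent.Lib.Helper16.SpSemi

universe u

variable {F : Type u} [Field F]

theorem fpf_of_kd_zero {ι : Type} [Fintype ι] [DecidableEq ι] (A : Matrix ι ι F)
    (h : finrank F (LinearMap.ker (aeval (Matrix.toLin' A) (X - 1 : F[X]))) = 0) :
    ∀ v, A *ᵥ v = v → v = 0 := by
  intro v hv
  have h1 : LinearMap.ker (aeval (Matrix.toLin' A) (X - 1 : F[X])) = ⊥ :=
    Submodule.finrank_eq_zero.mp h
  have h2 : v ∈ LinearMap.ker (aeval (Matrix.toLin' A) (X - 1 : F[X])) := by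
    rw [LinearMap.mem_ker, map_sub, aeval_X, map_one, LinearMap.sub_apply, Matrix.toLin'_apply, hv]
    exact sub_self _
  rw [h1] at h2
  exact (Submodule.mem_bot F).mp h2

theorem o_even_order_r_classes [Fintype F] {p q : ℕ} [Fact p.Prime] [CharP F p]
    (hF : Fintype.card F = q) (m r i t : ℕ) (hm : 1 ≤ m) (hr : r.Prime) (hr2 : r ≠ 2)
    (hrp : r ≠ p) (hi : i = orderOf (q : ZMod r)) (ht : t * i = r - 1)
    {κ₀ : Type} [Fintype κ₀] [DecidableEq κ₀] (Q : QuadraticForm F (κ₀ → F)) (st : ℤ)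
    (hst : st = 1 ∨ st = -1) (hcard₀ : Fintype.card κ₀ = 2 * m)
    (hQnd : (QuadraticMap.polarBilin Q).Nondegenerate) (hQtype : IsType (⇑Q) m st)
    (huniq : ∀ {ι : Type} [Fintype ι] [DecidableEq ι] (Qf : QuadraticForm F (ι → F)),
      (QuadraticMap.polarBilin Qf).Nondegenerate → Fintype.card ι = 2 * m → IsType (⇑Qf) m st →
      ∃ Φ : (κ₀ → F) ≃ₗ[F] (ι → F), ∀ v, Qf (Φ v) = Q v)
    (han : st = -1 → ∃ a c : F,
      ∀ z₁ z₂ : F, z₁ ^ 2 + a * z₁ * z₂ + c * z₂ ^ 2 = 0 → z₁ = 0 ∧ z₂ = 0)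
    (T : Prop) [Decidable T]
    (hTdef : T ↔ if st = 1 then ¬ (Even i ∧ Odd (2 * m / i)) else (Even i ∧ Odd (2 * m / i))) :
    Nat.card {C : ConjClasses ↥(Cfsg.isometryGroup F ⇑Q) //
      ∃ g : ↥(Cfsg.isometryGroup F ⇑Q), ConjClasses.mk g = C ∧ orderOf g = r}
      = if Odd i then Nat.choose (m / i + t / 2) (t / 2) - 1
          - (if T then 0 else if i ∣ m then Nat.choose (m / i + t / 2 - 1) (t / 2 - 1) else 0)
        else Nat.choose (2 * m / i + t) t - 1
          - (if T then 0 else if i ∣ 2 * m then Nat.choose (2 * m / i + t - 1) (t - 1) else 0) := by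
  classical
  have : Fact r.Prime := ⟨hr⟩
  have hr2' : 2 ≤ r := hr.two_le
  have hi0 : 0 < i := by
    rcases Nat.eq_zero_or_pos i with h | h
    · rw [h, mul_zero] at ht; omega
    · exact h
  have ht0 : 0 < t := by
    rcases Nat.eq_zero_or_pos t with h | h
    · rw [h, zero_mul] at ht; omega
    · exact h
  have hrF : (r : F) ≠ 0 := by
    intro h
    rw [CharP.cast_eq_zero_iff F p] at h
    exact hrp ((Nat.prime_dvd_prime_iff_eq Fact.out hr).mp h).symm
  have hrq : ¬ r ∣ Fintype.card F := by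
    intro h
    obtain ⟨k, hp, hk⟩ := FiniteField.card F p
    rw [hk] at h
    have := hr.dvd_of_dvd_pow h
    exact hrp ((Nat.prime_dvd_prime_iff_eq hr hp).mp this)
  have hrodd : Odd r := hr.odd_of_ne_two hr2
  have hx : ((Fintype.card F : ℕ) : ZMod r) = (q : ZMod r) := by rw [hF]
  have hT1 : T → ∀ s' : ℤ, (s' = 1 ∨ s' = -1) →
      ((Fintype.card F : ℕ) : ZMod r) ^ m = (s' : ZMod r) → s' = st := by
    intro hTT s' hs' hxs
    rw [hx] at hxs
    rcases hs' with rfl | rfl
    · rcases hst with rfl | rfl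
      · rfl
      · exfalso
        rw [hTdef, if_neg (by norm_num)] at hTT
        rw [Int.cast_one] at hxs
        exact nt_plus r _ i m hi hxs hTT
    · rcases hst with rfl | rfl
      · exfalso
        rw [hTdef, if_pos rfl] at hTT
        rw [Int.cast_neg, Int.cast_one] at hxs
        exact hTT (nt_minus r hr2 _ i m hi hxs)
      · rfl
  have hT2 : ((Fintype.card F : ℕ) : ZMod r) ^ m = (st : ZMod r) → T := by
    intro hxs
    rw [hx] at hxs
    rw [hTdef]
    rcases hst with rfl | rfl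
    · rw [if_pos rfl]
      rw [Int.cast_one] at hxs
      exact nt_plus r _ i m hi hxs
    · rw [if_neg (by norm_num)]
      rw [Int.cast_neg, Int.cast_one] at hxs
      exact nt_minus r hr2 _ i m hi hxs
  obtain ⟨n, hn⟩ : ∃ n, n = 2 * m := ⟨_, rfl⟩
  obtain ⟨κ, hκF, hκD, f, E, hEF, hEA, hEfin, ω, hκcard, hirr, hdeg, hcop, hprod, hf1, hω0, hωne,
    hωr, hreal, hclass, hdivsum⟩ := gl_order_r_param_all hF r i t hr hrp hi ht
  obtain ⟨hcoeff0, π, hππ, hπ⟩ :=
    exists_perm (RingHom.id F) (fun a => rfl) f r i hr.pos hirr hdeg hcop hprod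
  have hAdj : ∀ (n' : ℕ) (a : Matrix (Fin n') (Fin n') F),
      (trAdj n' F).adj a = (a.map ⇑(RingHom.id F))ᵀ := by
    intro n' a
    show aᵀ = (a.map ⇑(RingHom.id F))ᵀ
    congr 1
  have hkdual : ∀ (n' : ℕ) (g : GL (Fin n') F) (k : κ),
      kd (((trAdj n' F).adjU g)⁻¹).1 (f k) = kd g.1 (f (π k)) := by
    intro n' g k
    rw [kd_dual (RingHom.id F) (fun a => rfl) (trAdj n' F) rfl (hAdj n') g (f k)]
    exact kd_associated _ _ _ (hπ k)
  have hcard₀' : Fintype.card κ₀ = n := by rw [hcard₀, hn]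
  obtain ⟨R, Ψ, hRT, hRsT, hRΨ⟩ := exists_reindex_lin (F := F) (ι := κ₀) n hcard₀'
  have hω1 : ∀ k, ω k ≠ 1 := by
    intro k h1
    have h2 := hω0 k
    rw [h1] at h2
    have h3 : aeval (1 : E) (f k) = algebraMap F E (aeval (1 : F) (f k)) := by
      rw [← aeval_algebraMap_apply, map_one]
    rw [h3] at h2
    exact hf1 k ((map_eq_zero_iff _ (algebraMap F E).injective).mp h2)
  have hfix : ∀ k, π k = k ↔ Even i := by
    intro k
    rw [← nt_even r hr2 (q : ZMod r) i hi hi0,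
      ← dual_root_iff_id hF r hrp (f k) (hirr k).ne_zero i (hdeg k) hi (ω k) (hω0 k) (hωr k)
        (hω1 k)]
    constructor
    · intro h
      have h1 := hπ k
      rw [h] at h1
      exact aeval_zero_of_associated _ _ h1.symm (ω k) (hω0 k)
    · intro h
      by_contra hne
      exact hωne (π k) k hne (aeval_zero_of_associated _ _ (hπ k) (ω k) h)
  have hadjpow : ∀ (n' : ℕ) (g : GL (Fin n') F), g.1 ^ r = 1 →
      (((trAdj n' F).adjU g)⁻¹).1 ^ r = 1 := by
    intro n' g hg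
    have h1 : g ^ r = 1 := Units.ext (by rw [Units.val_pow_eq_pow_val, hg, Units.val_one])
    rw [← Units.val_pow_eq_pow_val, ← AdjData.adjU_inv, ← Units.val_one]
    congr 1
    have h2 : ∀ (x : GL (Fin n') F) (j : ℕ),
        ((trAdj n' F).adjU x) ^ j = (trAdj n' F).adjU (x ^ j) := by
      intro x j
      induction j with
      | zero => rw [pow_zero, pow_zero, AdjData.adjU_one]
      | succ j ih => rw [pow_succ, ih, pow_succ', AdjData.adjU_mul]
    rw [h2, inv_pow, h1, inv_one, AdjData.adjU_one]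
  obtain ⟨M, Mi, hMMi, hMiM, hMT, hpol⟩ := gram_data Q hQnd
  -- elements of O
  have hmatpow : ∀ (A : ↥(Cfsg.isometryGroup F ⇑Q)) (j : ℕ),
      ((A ^ j : ↥(Cfsg.isometryGroup F ⇑Q)) : GL κ₀ F).1 = A.1.1 ^ j := by
    intro A j
    rw [Subgroup.coe_pow, Units.val_pow_eq_pow_val]
  have hspr : ∀ A : ↥(Cfsg.isometryGroup F ⇑Q), A ^ r = 1 → (R A.1.1) ^ r = 1 := by
    intro A hA
    rw [← map_pow, ← hmatpow, hA]
    exact map_one R
  have hRSu : IsUnit (R M).det := by
    rw [← Matrix.isUnit_iff_isUnit_det]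
    apply IsUnit.of_mul_eq_one (R Mi)
    rw [← map_mul, hMMi, map_one]
  have hsp_dual : ∀ A : ↥(Cfsg.isometryGroup F ⇑Q), A ^ r = 1 →
      ∀ k, kd (R A.1.1) (f (π k)) = kd (R A.1.1) (f k) := by
    intro A hA k
    obtain ⟨g, hg⟩ := mkGL (R A.1.1) r hr.pos (hspr A hA)
    rw [← hg, ← hkdual n g k]
    have hX : (((trAdj n F).adjU g)⁻¹).1 * g.1ᵀ = 1 := by
      have h1 : ((trAdj n F).adjU g).1 = g.1ᵀ := by rw [AdjData.adjU_val]; rfl
      rw [← h1, ← Units.val_mul, inv_mul_cancel, Units.val_one]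
    have hJ : g.1ᵀ * R M * g.1 = R M := by
      have h2 := congrArg R (iso_gram_gen Q M hpol A.1.1 (iso_pres (⇑Q) A))
      rw [map_mul, map_mul, hRT] at h2
      rw [hg]
      exact h2
    symm
    apply kd_conj _ _ (R M) hRSu
    calc R M * g.1 = ((((trAdj n F).adjU g)⁻¹).1 * g.1ᵀ) * R M * g.1 := by rw [hX, one_mul]
      _ = (((trAdj n F).adjU g)⁻¹).1 * (g.1ᵀ * R M * g.1) := by simp only [mul_assoc]
      _ = (((trAdj n F).adjU g)⁻¹).1 * R M := by rw [hJ]
  -- realization
  have hreal' : ∀ a : {a : κ → ℕ // (i * ∑ k, a k ≤ n ∧ a ≠ 0 ∧ ∀ k, a (π k) = a k) ∧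
        (i * ∑ k, a k = n → T)},
      ∃ B : ↥(Cfsg.isometryGroup F ⇑Q), B ^ r = 1 ∧
        ∀ k, kd (R B.1.1) (f k) = i * a.1 k := by
    intro a
    obtain ⟨n'', hn''⟩ : ∃ n'', n'' = i * ∑ k, a.1 k := ⟨_, rfl⟩
    have hn''le : n'' ≤ n := by rw [hn'']; exact a.2.1.1
    have hSpos : 0 < ∑ k, a.1 k := by
      by_contra h0
      have h0' : ∑ k, a.1 k = 0 := by omega
      apply a.2.1.2.1
      funext k
      exact (Finset.sum_eq_zero_iff.mp h0') k (Finset.mem_univ k)
    have hn''pos : 0 < n'' := by rw [hn'']; exact Nat.mul_pos hi0 hSpos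
    have hn''even : Even n'' := by
      rw [hn'']
      by_cases hie : Even i
      · exact hie.mul_right _
      · have hπne : ∀ k, π k ≠ k := fun k h => hie ((hfix k).mp h)
        exact (even_sum_invariant π hππ hπne a.1 a.2.1.2.2).mul_left _
    obtain ⟨m'', hm''⟩ : ∃ m'', n'' = 2 * m'' := by
      obtain ⟨c, hc⟩ := hn''even
      exact ⟨c, by omega⟩
    have hm''1 : 1 ≤ m'' := by omega
    obtain ⟨g, hg, hgk⟩ := hreal n'' a.1 (by rw [hn''])
    have hconj : IsConj g ((trAdj n'' F).adjU g)⁻¹ := by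
      apply hclass n'' g _ hg (hadjpow n'' g hg)
      intro k
      rw [hkdual, hgk, hgk, a.2.1.2.2 k]
    obtain ⟨c, hc⟩ := isConj_iff.mp hconj
    have hc1 : (trAdj n'' F).adjU g * c * g = c := by
      have : c * g = ((trAdj n'' F).adjU g)⁻¹ * c := by rw [← hc]; group
      rw [mul_assoc, this, ← mul_assoc, mul_inv_cancel, one_mul]
    have hc2 : g.1ᵀ * c.1 * g.1 = c.1 := by
      have := congrArg Units.val hc1
      rw [Units.val_mul, Units.val_mul, AdjData.adjU_val] at this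
      exact this
    have hkd1 : kd g.1 (X - 1) = 0 := by
      have h1 := (hdivsum n'' g.1 hg).2
      have h2 : ∑ k, kd g.1 (f k) = n'' := by
        rw [Finset.sum_congr rfl (fun k _ => hgk k), ← Finset.mul_sum, hn'']
      omega
    have hfpf : ∀ v, g.1 *ᵥ v = v → v = 0 := fpf_of_kd_zero g.1 hkd1
    obtain ⟨B, hBr, ⟨J, hJinj, hJ⟩, ⟨κ₁, hκ₁F, J₂, hcard₁, hJ₂inj, hJ₂⟩⟩ :=
      realize_std r hr2 hrq hrF hm'' hm''1 g.1 c.1 hg c.isUnit hc2 hfpf (m - m'') m (by omega)
        Q st hst huniq han (fun hk0 => hT1 (a.2.2 (by omega)))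
    refine ⟨B, hBr, ?_⟩
    have hle : ∀ k, i * a.1 k ≤ kd (R B.1.1) (f k) := by
      intro k
      rw [kd_reindex R Ψ hRΨ, ← hgk k]
      unfold kd
      apply finrank_ker_le_of_inj J hJinj
      intro v
      rw [Matrix.toLin'_apply, Matrix.toLin'_apply]
      exact hJ v
    have hle1 : 2 * (m - m'') ≤ kd (R B.1.1) (X - 1) := by
      rw [kd_reindex R Ψ hRΨ]
      have hmaps : ∀ w, J₂ w ∈ LinearMap.ker (aeval (Matrix.toLin' B.1.1) (X - 1 : F[X])) := by
        intro w
        rw [LinearMap.mem_ker, map_sub, aeval_X, map_one, LinearMap.sub_apply,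
          Matrix.toLin'_apply, hJ₂ w]
        exact sub_self _
      have := LinearMap.finrank_le_finrank_of_injective
        (f := LinearMap.codRestrict _ J₂ hmaps) (by
          intro v w hvw
          apply hJ₂inj
          exact congrArg Subtype.val hvw)
      rw [Module.finrank_fintype_fun_eq_card, hcard₁] at this
      exact this
    have hsum := (hdivsum n (R B.1.1) (hspr B hBr)).2
    exact eq_of_le_of_sum_eq (fun k => i * a.1 k) (fun k => kd (R B.1.1) (f k))
      (2 * (m - m'')) (kd (R B.1.1) (X - 1)) hle hle1 (by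
        rw [hsum, ← Finset.mul_sum, ← hn'']; omega)
  choose rep hrep1 hrep2 using hreal'
  have hcop' : ∀ A : ↥(Cfsg.isometryGroup F ⇑Q), orderOf A = r → (orderOf A).Coprime p := by
    intro A hA
    rw [hA, Nat.coprime_primes hr Fact.out]
    exact hrp
  have hmatconj : ∀ A B : ↥(Cfsg.isometryGroup F ⇑Q), A ^ r = 1 → B ^ r = 1 →
      (∀ k, kd (R A.1.1) (f k) = kd (R B.1.1) (f k)) → IsConj A.1.1 B.1.1 := by
    intro A B hA hB hk
    obtain ⟨gA, hgA⟩ := mkGL (R A.1.1) r hr.pos (hspr A hA)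
    obtain ⟨gB, hgB⟩ := mkGL (R B.1.1) r hr.pos (hspr B hB)
    have h1 : IsConj gA gB := by
      apply hclass n gA gB (by rw [hgA]; exact hspr A hA) (by rw [hgB]; exact hspr B hB)
      intro k
      rw [hgA, hgB]; exact hk k
    obtain ⟨c, hc⟩ := isConj_iff.mp h1
    have h2 : c.1 * R A.1.1 = R B.1.1 * c.1 := by
      have : c * gA = gB * c := by rw [← hc]; group
      have := congrArg Units.val this
      rw [Units.val_mul, Units.val_mul, hgA, hgB] at this
      exact this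
    have h3 : R.symm c.1 * A.1.1 = B.1.1 * R.symm c.1 := by
      have := congrArg R.symm h2
      rw [map_mul, map_mul, AlgEquiv.symm_apply_apply, AlgEquiv.symm_apply_apply] at this
      exact this
    obtain ⟨u, hu⟩ := c.isUnit.map R.symm
    exact ⟨u, by show u.1 * A.1.1 = B.1.1 * u.1; rw [hu]; exact h3⟩
  have hpow_of_order : ∀ A : ↥(Cfsg.isometryGroup F ⇑Q), orderOf A = r → A ^ r = 1 := by
    intro A hA
    rw [← hA]; exact pow_orderOf_eq_one A
  have hone_kd : ∀ k, kd (R (1 : ↥(Cfsg.isometryGroup F ⇑Q)).1.1) (f k) = 0 := by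
    intro k
    have : R (1 : ↥(Cfsg.isometryGroup F ⇑Q)).1.1 = 1 := map_one R
    rw [this]
    exact kd_one_eq_zero (f k) (hf1 k)
  have hrep_ord : ∀ a, orderOf (rep a) = r := by
    intro a
    rw [orderOf_eq_prime_iff]
    refine ⟨hrep1 a, ?_⟩
    intro h1
    apply a.2.1.2.1
    funext k
    have h7 := hrep2 a k
    rw [h1, hone_kd k] at h7
    rcases Nat.eq_zero_or_pos (a.1 k) with h9 | h9
    · exact h9
    · exfalso
      have := Nat.mul_pos hi0 h9
      omega
  rw [PGLI.card_classes_of_reps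
    (fun g : ↥(Cfsg.isometryGroup F ⇑Q) => orderOf g = r)
    {a : κ → ℕ // (i * ∑ k, a k ≤ n ∧ a ≠ 0 ∧ ∀ k, a (π k) = a k) ∧ (i * ∑ k, a k = n → T)} rep]
  · have hfin : Finite {a : κ → ℕ // i * ∑ k, a k ≤ n ∧ a ≠ 0 ∧ ∀ k, a (π k) = a k} :=
      finite_tuples i n hi0 _
    rw [card_with_cond (fun a : κ → ℕ => i * ∑ k, a k ≤ n ∧ a ≠ 0 ∧ ∀ k, a (π k) = a k)
      (fun a => i * ∑ k, a k = n) T]
    have hAE : Nat.card {a : κ → ℕ // (i * ∑ k, a k ≤ n ∧ a ≠ 0 ∧ ∀ k, a (π k) = a k) ∧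
          i * ∑ k, a k = n}
        = Nat.card {a : κ → ℕ // i * ∑ k, a k = n ∧ ∀ k, a (π k) = a k} := by
      apply Nat.card_congr
      refine Equiv.subtypeEquivRight ?_
      intro a
      constructor
      · intro h; exact ⟨h.2, h.1.2.2⟩
      · intro h
        refine ⟨⟨h.1.le, ?_, h.2⟩, h.1⟩
        intro h0
        have h1 := h.1
        rw [h0] at h1
        simp at h1
        omega
    by_cases hodd : Odd i
    · rw [if_pos hodd]
      have hπne : ∀ k, π k ≠ k := by
        intro k h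
        have := (hfix k).mp h
        exact (Nat.not_even_iff_odd.mpr hodd) this
      rw [card_invariant_tuples π hππ hπne t i n hi0 hκcard, hAE,
        card_invariant_tuples_eq π hππ hπne t i n hi0 ht0 hκcard]
      have e1 : n / (2 * i) = m / i := by
        rw [hn, Nat.mul_div_mul_left _ _ (by norm_num : 0 < 2)]
      have e2 : (2 * i ∣ n) ↔ i ∣ m := by
        rw [hn]; exact Nat.mul_dvd_mul_iff_left (by norm_num)
      rw [e1]
      simp only [e2]
    · rw [if_neg hodd]
      have heven : Even i := Nat.not_odd_iff_even.mp hodd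
      have hπid : ∀ k, π k = k := fun k => (hfix k).mpr heven
      have h1 : Nat.card {a : κ → ℕ // i * ∑ k, a k ≤ n ∧ a ≠ 0 ∧ ∀ k, a (π k) = a k}
          = Nat.card {a : κ → ℕ // i * ∑ k, a k ≤ n ∧ a ≠ 0} := by
        apply Nat.card_congr
        exact ⟨fun a => ⟨a.1, a.2.1, a.2.2.1⟩, fun a => ⟨a.1, a.2.1, a.2.2, fun k => by rw [hπid]⟩,
          fun a => rfl, fun a => rfl⟩
      have h2 : Nat.card {a : κ → ℕ // i * ∑ k, a k = n ∧ ∀ k, a (π k) = a k}
          = Nat.card {a : κ → ℕ // i * ∑ k, a k = n} := by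
        apply Nat.card_congr
        exact ⟨fun a => ⟨a.1, a.2.1⟩, fun a => ⟨a.1, a.2, fun k => by rw [hπid]⟩,
          fun a => rfl, fun a => rfl⟩
      rw [h1, hAE, h2, PSemi.card_tuples t i n hi0 hκcard, card_tuples_eq t i n hi0 ht0 hκcard, hn]
  · exact hrep_ord
  · intro A hA
    have hAr := hpow_of_order A hA
    have hMr := hspr A hAr
    have hA1 : A ≠ 1 := by
      intro h
      rw [h, orderOf_one] at hA
      omega
    obtain ⟨a, ha⟩ : ∃ a : κ → ℕ, ∀ k, i * a k = kd (R A.1.1) (f k) :=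
      ⟨fun k => kd (R A.1.1) (f k) / i, fun k => Nat.mul_div_cancel' ((hdivsum n _ hMr).1 k)⟩
    have hsumg := (hdivsum n _ hMr).2
    have hsuma : i * ∑ k, a k = ∑ k, kd (R A.1.1) (f k) := by
      rw [Finset.mul_sum, Finset.sum_congr rfl (fun k _ => ha k)]
    have ha1 : i * ∑ k, a k ≤ n := by
      rw [hsuma]
      omega
    have ha2 : a ≠ 0 := by
      intro h0
      have h1 : ∑ k, kd (R A.1.1) (f k) = 0 := by
        apply Finset.sum_eq_zero
        intro k _
        rw [← ha k, h0]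
        simp
      rw [h1, add_zero] at hsumg
      apply hA1
      have h2 : LinearMap.ker (aeval (Matrix.toLin' (R A.1.1)) (X - 1 : F[X])) = ⊤ := by
        apply Submodule.eq_top_of_finrank_eq
        rw [Module.finrank_fintype_fun_eq_card, Fintype.card_fin]
        exact hsumg
      have h3 : aeval (Matrix.toLin' (R A.1.1)) (X - 1 : F[X]) = 0 := LinearMap.ker_eq_top.mp h2
      rw [map_sub, aeval_X, map_one, sub_eq_zero] at h3
      have h4 : R A.1.1 = 1 := by
        apply Matrix.toLin'.injective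
        rw [h3, Matrix.toLin'_one]
        rfl
      apply Subtype.ext
      apply Units.ext
      show A.1.1 = 1
      apply R.injective
      rw [h4, map_one]
    have ha3 : ∀ k, a (π k) = a k := by
      intro k
      have h1 := hsp_dual A hAr k
      rw [← ha, ← ha] at h1
      exact Nat.eq_of_mul_eq_mul_left hi0 h1
    have ha4 : i * ∑ k, a k = n → T := by
      intro heq
      apply hT2
      have hkd0 : kd (R A.1.1) (X - 1) = 0 := by
        rw [hsuma] at heq
        omega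
      rw [kd_reindex R Ψ hRΨ] at hkd0
      have hfpfA := fpf_of_kd_zero A.1.1 hkd0
      have hAr' : A.1.1 ^ r = 1 := by
        rw [← hmatpow, hAr]
        rfl
      exact type_of_fpf Q hQnd m hm hcard₀ st hQtype A.1.1 (iso_pres (⇑Q) A) r hAr' hfpfA hrq
    refine ⟨⟨a, ⟨ha1, ha2, ha3⟩, ha4⟩, ?_⟩
    rw [o_conj_iff_gen Q hQnd A _ (by rw [hA]; exact hrodd) (hcop' A hA)]
    apply hmatconj A _ hAr (hrep1 _)
    intro k
    rw [hrep2 ⟨a, ⟨ha1, ha2, ha3⟩, ha4⟩ k, ← ha k]
  · intro a a' hconj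
    have hord : orderOf (rep a) = r := hrep_ord a
    rw [o_conj_iff_gen Q hQnd (rep a) (rep a') (by rw [hord]; exact hrodd) (hcop' _ hord)] at hconj
    obtain ⟨u, hu⟩ := hconj
    have hu' : u.1 * (rep a).1.1 = (rep a').1.1 * u.1 := hu
    apply Subtype.ext
    funext k
    have h2 := kd_conj (R (rep a).1.1) (R (rep a').1.1) (R u.1)
      (by rw [← Matrix.isUnit_iff_isUnit_det]; exact u.isUnit.map R)
      (by rw [← map_mul, ← map_mul, hu']) (f k)
    rw [hrep2, hrep2] at h2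
    exact Nat.eq_of_mul_eq_mul_left hi0 h2

end Cfsg.Agent.Lib.Helper16.OSemi
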