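import Mathlib
import Cfsg.Agent.Lib.Helper16.OMain
import Cfsg.Agent.Lib.Helper16.OPlane

set_option autoImplicit false
set_option linter.unusedSectionVars false
set_option linter.unusedSimpArgs false
set_option linter.unusedVariables false
set_option linter.unusedTactic false

namespace Cfsg.Agent.Lib.Helper16.OSemi

open Matrix Module Polynomial

universe u

variable {F : Type u} [Field F]

theorem o_minus_order_r_classes [Fintype F] {p q : ℕ} [Fact p.Prime] [CharP F p]
    (hF : Fintype.card F = q) (m r i t : ℕ) (hm : 1 ≤ m) (a c : F)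
    (hac : ∀ z₁ z₂ : F, z₁ ^ 2 + a * z₁ * z₂ + c * z₂ ^ 2 = 0 → z₁ = 0 ∧ z₂ = 0)
    (hr : r.Prime) (hr2 : r ≠ 2)
    (hrp : r ≠ p) (hi : i = orderOf (q : ZMod r)) (ht : t * i = r - 1) :
    Nat.card {C : ConjClasses ↥(Cfsg.isometryGroup F (Cfsg.quadFormMinus (m - 1) F a c)) //
      ∃ g : ↥(Cfsg.isometryGroup F (Cfsg.quadFormMinus (m - 1) F a c)),
        ConjClasses.mk g = C ∧ orderOf g = r}
      = if Odd i then Nat.choose (m / i + t / 2) (t / 2) - 1
          - (if i ∣ m then Nat.choose (m / i + t / 2 - 1) (t / 2 - 1) else 0)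
        else Nat.choose (2 * m / i + t) t - 1
          - (if i ∣ 2 * m ∧ Even (2 * m / i) then Nat.choose (2 * m / i + t - 1) (t - 1)
              else 0) := by
  classical
  have hcard : Fintype.card ((Fin (m - 1) ⊕ Fin (m - 1)) ⊕ Fin 2) = 2 * m := by
    rw [Fintype.card_sum, Fintype.card_sum, Fintype.card_fin, Fintype.card_fin]
    omega
  have htype : IsType (⇑(qfMinus (m - 1) F a c)) m (-1) := by
    have := isType_minus (m - 1) a c hac
    rw [show m - 1 + 1 = m by omega] at this
    exact this
  have hmain := o_even_order_r_classes hF m r i t hm hr hr2 hrp hi ht (qfMinus (m - 1) F a c) (-1)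
    (Or.inr rfl) hcard (qfMinus_nondeg (m - 1) a c hac) htype
    (fun {ι} _ _ Qf hnd hcard' htype' => to_std_minus Qf hnd m hm hcard' htype' a c hac)
    (fun _ => ⟨a, c, hac⟩) (Even i ∧ Odd (2 * m / i)) (by rw [if_neg (by norm_num)])
  have hgoal : (if Odd i then Nat.choose (m / i + t / 2) (t / 2) - 1
          - (if (Even i ∧ Odd (2 * m / i)) then 0
              else if i ∣ m then Nat.choose (m / i + t / 2 - 1) (t / 2 - 1) else 0)
        else Nat.choose (2 * m / i + t) t - 1
          - (if (Even i ∧ Odd (2 * m / i)) then 0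
              else if i ∣ 2 * m then Nat.choose (2 * m / i + t - 1) (t - 1) else 0))
      = if Odd i then Nat.choose (m / i + t / 2) (t / 2) - 1
          - (if i ∣ m then Nat.choose (m / i + t / 2 - 1) (t / 2 - 1) else 0)
        else Nat.choose (2 * m / i + t) t - 1
          - (if i ∣ 2 * m ∧ Even (2 * m / i) then Nat.choose (2 * m / i + t - 1) (t - 1)
              else 0) := by
    by_cases hodd : Odd i
    · rw [if_pos hodd, if_pos hodd]
      have : ¬ (Even i ∧ Odd (2 * m / i)) := fun h => (Nat.not_even_iff_odd.mpr hodd) h.1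
      rw [if_neg this]
    · rw [if_neg hodd, if_neg hodd]
      have heven : Even i := Nat.not_odd_iff_even.mp hodd
      by_cases ho : Odd (2 * m / i)
      · rw [if_pos ⟨heven, ho⟩, if_neg (fun h => (Nat.not_even_iff_odd.mpr ho) h.2)]
      · have h1 : ¬ (Even i ∧ Odd (2 * m / i)) := fun h => ho h.2
        have he : Even (2 * m / i) := Nat.not_odd_iff_even.mp ho
        rw [if_neg h1]
        by_cases hd : i ∣ 2 * m
        · rw [if_pos hd, if_pos ⟨hd, he⟩]
        · rw [if_neg hd, if_neg (fun h => hd h.1)]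
  rw [← hgoal]
  exact hmain

end Cfsg.Agent.Lib.Helper16.OSemi
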