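import Mathlib
import Cfsg.Prelude.Def_KGroupFacts

/-!
# Project ONM, piece DSURJ / RESTRICT : the derived subgroup of the preimage of a perfect subgroup

Pure group theory: for `σ : Γ →* G` surjective with central kernel and `S ≤ G` perfect,
`D = ⁅S.comap σ, S.comap σ⁆` maps onto `S`, is perfect, and `σ` restricted to `D` is a stem extension of `S`.
-/

set_option autoImplicit false
set_option linter.unusedVariables false

namespace Cfsg.Agent.Lib.helper17.ONM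

open scoped commutatorElement

universe u v

/-- DSURJ: it maps onto `S` (`Subgroup.map_commutator`, `Subgroup.map_comap_eq_self_of_surjective`) -/
theorem onm_dsurj {Γ : Type*} {G : Type*} [Group Γ] [Group G] (σ : Γ →* G)
    (hs : Function.Surjective σ) (S : Subgroup G) (hperf : S ≤ ⁅S, S⁆) :
    ∀ n ∈ S, ∃ d ∈ ⁅S.comap σ, S.comap σ⁆, σ d = n := by
  intro n hn
  have h1 : (⁅S.comap σ, S.comap σ⁆).map σ = ⁅S, S⁆ := by
    rw [Subgroup.map_commutator, Subgroup.map_comap_eq_self_of_surjective hs]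
  have h2 : n ∈ (⁅S.comap σ, S.comap σ⁆).map σ := by
    rw [h1]
    exact hperf hn
  obtain ⟨d, hd, hdn⟩ := Subgroup.mem_map.mp h2
  exact ⟨d, hd, hdn⟩

/-- central factors do not change a commutator -/
theorem onmrestrict_comm_central {Γ : Type*} [Group Γ] (d₁ d₂ k₁ k₂ : Γ)
    (hk₁ : k₁ ∈ Subgroup.center Γ) (hk₂ : k₂ ∈ Subgroup.center Γ) :
    d₁ * k₁ * (d₂ * k₂) * (d₁ * k₁)⁻¹ * (d₂ * k₂)⁻¹ = d₁ * d₂ * d₁⁻¹ * d₂⁻¹ := by
  rw [Subgroup.mem_center_iff] at hk₁ hk₂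
  have e1 : k₁ * (d₂ * k₂) * k₁⁻¹ = d₂ * k₂ := by
    rw [← hk₁ (d₂ * k₂), mul_inv_cancel_right]
  have e2 : k₂ * d₁⁻¹ * k₂⁻¹ = d₁⁻¹ := by
    rw [← hk₂ d₁⁻¹, mul_inv_cancel_right]
  calc d₁ * k₁ * (d₂ * k₂) * (d₁ * k₁)⁻¹ * (d₂ * k₂)⁻¹
      = d₁ * (k₁ * (d₂ * k₂) * k₁⁻¹) * d₁⁻¹ * (d₂ * k₂)⁻¹ := by group
    _ = d₁ * d₂ * (k₂ * d₁⁻¹ * k₂⁻¹) * d₂⁻¹ := by rw [e1]; group
    _ = d₁ * d₂ * d₁⁻¹ * d₂⁻¹ := by rw [e2]

/-- the derived subgroup of the preimage of a perfect subgroup is perfect when the kernel is central -/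
theorem onmrestrict_perfect {Γ : Type*} {G : Type*} [Group Γ] [Group G] (σ : Γ →* G)
    (hs : Function.Surjective σ) (hc : σ.ker ≤ Subgroup.center Γ) (S : Subgroup G)
    (hperf : S ≤ ⁅S, S⁆) :
    ⁅S.comap σ, S.comap σ⁆ ≤ ⁅⁅S.comap σ, S.comap σ⁆, ⁅S.comap σ, S.comap σ⁆⁆ := by
  -- every element of `P` is `d * k` with `d ∈ D`, `k` central
  have hdec : ∀ x ∈ S.comap σ, ∃ d ∈ ⁅S.comap σ, S.comap σ⁆, ∃ k ∈ Subgroup.center Γ,
      x = d * k := by
    intro x hx
    obtain ⟨d, hd, hdx⟩ := onm_dsurj σ hs S hperf (σ x) hx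
    refine ⟨d, hd, d⁻¹ * x, hc ?_, by group⟩
    rw [MonoidHom.mem_ker, map_mul, map_inv, hdx, inv_mul_cancel]
  rw [Subgroup.commutator_le]
  intro x hx y hy
  obtain ⟨d₁, hd₁, k₁, hk₁, rfl⟩ := hdec x hx
  obtain ⟨d₂, hd₂, k₂, hk₂, rfl⟩ := hdec y hy
  have e : ⁅d₁ * k₁, d₂ * k₂⁆ = ⁅d₁, d₂⁆ := by
    rw [commutatorElement_def, commutatorElement_def]
    exact onmrestrict_comm_central d₁ d₂ k₁ k₂ hk₁ hk₂
  rw [e]
  exact Subgroup.commutator_mem_commutator hd₁ hd₂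

/-- RESTRICT: `D = ⁅S.comap σ, S.comap σ⁆` with `σ` restricted to it is a stem extension of `S`
(surjective by DSURJ; kernel `D ⊓ ker σ` central; `S.comap σ = D ⊔ ker σ` and `ker σ` central give
`D = ⁅D, D⁆`, so the kernel lies in the commutator subgroup of `D`); its kernel has order dividing `n` by `hM`,
and dividing `Nat.card σ.ker`, so it is trivial -/
theorem onm_restrict {Γ : Type u} {G : Type v} [Group Γ] [Group G] [Finite Γ] (σ : Γ →* G)
    (hs : Function.Surjective σ) (hc : σ.ker ≤ Subgroup.center Γ) (S : Subgroup G) (hperf : S ≤ ⁅S, S⁆)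
    (n : ℕ) (hn : 0 < n)
    (hM : ∀ (Δ : Type u) [Group Δ] [Finite Δ] (τ : Δ →* S), Cfsg.IsStemExtension τ →
      ∃ π : Multiplicative (ZMod n) →* τ.ker, Function.Surjective π)
    (hcop : Nat.Coprime n (Nat.card σ.ker)) :
    ∀ w ∈ ⁅S.comap σ, S.comap σ⁆, σ w = 1 → w = 1 := by
  classical
  set D : Subgroup Γ := ⁅S.comap σ, S.comap σ⁆ with hD
  have hDP : D ≤ S.comap σ := Subgroup.commutator_le_self _
  -- the restriction
  let τ : ↥D →* ↥S := (σ.comp D.subtype).codRestrict S (fun w => hDP w.2)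
  have hτ : ∀ w : ↥D, ((τ w : ↥S) : G) = σ (w : Γ) := fun w => rfl
  have hstem : Cfsg.IsStemExtension τ := by
    refine ⟨?_, ?_, ?_⟩
    · rintro ⟨s, hsS⟩
      obtain ⟨d, hd, hds⟩ := onm_dsurj σ hs S hperf s hsS
      exact ⟨⟨d, hd⟩, Subtype.ext hds⟩
    · intro w hw
      rw [MonoidHom.mem_ker] at hw
      have hwk : (w : Γ) ∈ σ.ker := by
        rw [MonoidHom.mem_ker, ← hτ, hw]
        rfl
      have hwc := hc hwk
      rw [Subgroup.mem_center_iff] at hwc ⊢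
      intro g
      exact Subtype.ext (hwc (g : Γ))
    · intro w _
      -- `D` is perfect
      have hw : (w : Γ) ∈ ⁅D, D⁆ := onmrestrict_perfect σ hs hc S hperf w.2
      have hmap : (commutator ↥D).map D.subtype = ⁅D, D⁆ := by
        rw [commutator_def, Subgroup.map_commutator, ← MonoidHom.range_eq_map, Subgroup.range_subtype]
      rw [← hmap] at hw
      obtain ⟨w', hw', hww⟩ := Subgroup.mem_map.mp hw
      have : w' = w := Subtype.ext hww
      rw [← this]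
      exact hw'
  obtain ⟨π, hπ⟩ := hM ↥D τ hstem
  -- the order of the kernel divides `n`
  have hcardZ : Nat.card (Multiplicative (ZMod n)) = n := Nat.card_zmod n
  have h1 : Nat.card τ.ker ∣ n := by
    have := Subgroup.card_dvd_of_surjective π hπ
    rwa [hcardZ] at this
  -- the kernel embeds into `σ.ker`
  let ι : τ.ker →* σ.ker :=
    { toFun := fun w => ⟨((w : ↥D) : Γ), by
        have hw := w.2
        rw [MonoidHom.mem_ker] at hw ⊢
        rw [← hτ, hw]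
        rfl⟩
      map_one' := rfl
      map_mul' := fun _ _ => rfl }
  have hι : Function.Injective ι := by
    intro a b hab
    have h3 : ((a : ↥D) : Γ) = ((b : ↥D) : Γ) := congrArg (fun x : ↥σ.ker => (x : Γ)) hab
    exact Subtype.ext (Subtype.ext h3)
  have h2 : Nat.card τ.ker ∣ Nat.card σ.ker := Subgroup.card_dvd_of_injective ι hι
  have h4 : Nat.card τ.ker = 1 := Nat.eq_one_of_dvd_coprimes hcop h1 h2
  have h5 : τ.ker = ⊥ := Subgroup.card_eq_one.mp h4
  intro w hw hσw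
  have hmem : (⟨w, hw⟩ : ↥D) ∈ τ.ker := by
    rw [MonoidHom.mem_ker]
    exact Subtype.ext hσw
  rw [h5, Subgroup.mem_bot] at hmem
  exact congrArg Subtype.val hmem

end Cfsg.Agent.Lib.helper17.ONM
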