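import Mathlib
import Cfsg.Agent.Lib.Helper16.OMain

set_option autoImplicit false
set_option linter.unusedSectionVars false
set_option linter.unusedSimpArgs false
set_option linter.unusedVariables false
set_option linter.unusedTactic false

namespace Cfsg.Agent.Lib.Helper16.OSemi

open Matrix Module Polynomial

universe u

variable {F : Type u} [Field F]

theorem o_plus_order_r_classes [Fintype F] {p q : ℕ} [Fact p.Prime] [CharP F p]
    (hF : Fintype.card F = q) (m r i t : ℕ) (hm : 1 ≤ m) (hr : r.Prime) (hr2 : r ≠ 2)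
    (hrp : r ≠ p) (hi : i = orderOf (q : ZMod r)) (ht : t * i = r - 1) :
    Nat.card {C : ConjClasses ↥(Cfsg.isometryGroup F (Cfsg.quadFormPlus m F)) //
      ∃ g : ↥(Cfsg.isometryGroup F (Cfsg.quadFormPlus m F)), ConjClasses.mk g = C ∧ orderOf g = r}
      = if Odd i then Nat.choose (m / i + t / 2) (t / 2) - 1
        else Nat.choose (2 * m / i + t) t - 1
          - (if i ∣ 2 * m ∧ Odd (2 * m / i) then Nat.choose (2 * m / i + t - 1) (t - 1) else 0) := by
  classical
  have hmain := o_even_order_r_classes hF m r i t hm hr hr2 hrp hi ht (qfPlus m F) 1 (Or.inl rfl)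
    (card_plus_index m) (qfPlus_nondeg m F) (isType_plus m)
    (fun {ι} _ _ Qf hnd hcard htype => to_std_plus Qf hnd m hm hcard htype)
    (fun h => absurd h (by norm_num)) (¬ (Even i ∧ Odd (2 * m / i))) (by rw [if_pos rfl])
  have hgoal : (if Odd i then Nat.choose (m / i + t / 2) (t / 2) - 1
          - (if ¬ (Even i ∧ Odd (2 * m / i)) then 0
              else if i ∣ m then Nat.choose (m / i + t / 2 - 1) (t / 2 - 1) else 0)
        else Nat.choose (2 * m / i + t) t - 1
          - (if ¬ (Even i ∧ Odd (2 * m / i)) then 0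
              else if i ∣ 2 * m then Nat.choose (2 * m / i + t - 1) (t - 1) else 0))
      = if Odd i then Nat.choose (m / i + t / 2) (t / 2) - 1
        else Nat.choose (2 * m / i + t) t - 1
          - (if i ∣ 2 * m ∧ Odd (2 * m / i) then Nat.choose (2 * m / i + t - 1) (t - 1)
              else 0) := by
    by_cases hodd : Odd i
    · rw [if_pos hodd, if_pos hodd]
      have : ¬ (Even i ∧ Odd (2 * m / i)) := fun h => (Nat.not_even_iff_odd.mpr hodd) h.1
      rw [if_pos this, Nat.sub_zero]
    · rw [if_neg hodd, if_neg hodd]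
      have heven : Even i := Nat.not_odd_iff_even.mp hodd
      by_cases ho : Odd (2 * m / i)
      · have h1 : ¬ ¬ (Even i ∧ Odd (2 * m / i)) := fun h => h ⟨heven, ho⟩
        rw [if_neg h1]
        by_cases hd : i ∣ 2 * m
        · rw [if_pos hd, if_pos ⟨hd, ho⟩]
        · rw [if_neg hd, if_neg (fun h => hd h.1)]
      · have h1 : ¬ (Even i ∧ Odd (2 * m / i)) := fun h => ho h.2
        rw [if_pos h1, if_neg (fun h => ho h.2)]
  rw [← hgoal]
  exact hmain

end Cfsg.Agent.Lib.Helper16.OSemi
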