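import Mathlib
import Cfsg.Agent.Lib.Helper19.ORE.Defs
import Cfsg.Agent.Lib.helper14.RuG

/-!
# ORE row H2: `regu_sol` (adaptor of helper14's factorisation into two regular unipotents)
-/

set_option autoImplicit false

namespace Cfsg.Agent.Lib.Helper19.ORE

open Polynomial Module

universe u v

section
variable {F : Type u} [Field F] {V : Type v} [AddCommGroup V] [Module F V]

open Cfsg.Agent.Lib.helper14.RuF Cfsg.Agent.Lib.helper14.RuG

/-- powers of `u⁻¹ - 1` in terms of powers of `u - 1`. -/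
theorem oreh2_inv_sub_one_pow {R : Type*} [Ring R] (a b : R) (hab : a * b = 1) (hba : b * a = 1)
    (k : ℕ) : (b - 1) ^ k = (-b) ^ k * (a - 1) ^ k := by
  have h1 : b - 1 = (-b) * (a - 1) := by
    rw [mul_sub, neg_mul, hba, mul_one]
    abel
  have hc : Commute (-b) (a - 1) := by
    have : Commute b a := by
      unfold Commute SemiconjBy
      rw [hab, hba]
    exact (this.neg_left).sub_right (Commute.one_right _)
  rw [h1, hc.mul_pow]

/-- the inverse of a regular unipotent endomorphism is regular unipotent. -/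
theorem oreh2_regU_inv (a b : Module.End F V) (hab : a * b = 1) (hba : b * a = 1)
    (ha : RegU a) : RegU b := by
  obtain ⟨h1, h2⟩ := ha
  refine ⟨?_, ?_⟩
  · rw [oreh2_inv_sub_one_pow a b hab hba, h1, mul_zero]
  · intro h0
    apply h2
    rw [oreh2_inv_sub_one_pow b a hba hab, h0, mul_zero]

/-- two regular unipotent endomorphisms are conjugate. -/
theorem oreh2_conj [FiniteDimensional F V] (hpos : 0 < finrank F V) (a b : Module.End F V)
    (ha : RegU a) (hb : RegU b) :
    ∃ y : V ≃ₗ[F] V, ∀ x, y (a x) = b (y x) := by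
  classical
  obtain ⟨ha1, ha2⟩ := ha
  obtain ⟨hb1, hb2⟩ := hb
  set n := finrank F V with hn
  haveI : Nonempty (Fin n) := ⟨⟨0, hpos⟩⟩
  obtain ⟨x0, hx0⟩ : ∃ x0, ((a - 1) ^ (n - 1)) x0 ≠ 0 := by
    by_contra hcon
    push Not at hcon
    exact ha2 (LinearMap.ext hcon)
  obtain ⟨y0, hy0⟩ : ∃ y0, ((b - 1) ^ (n - 1)) y0 ≠ 0 := by
    by_contra hcon
    push Not at hcon
    exact hb2 (LinearMap.ext hcon)
  have hax : ((a - 1) ^ n) x0 = 0 := by rw [ha1, LinearMap.zero_apply]
  have hby : ((b - 1) ^ n) y0 = 0 := by rw [hb1, LinearMap.zero_apply]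
  have hlia := li_pow (a - 1) n x0 hax hx0
  have hlib := li_pow (b - 1) n y0 hby hy0
  set ba : Basis (Fin n) F V :=
    basisOfLinearIndependentOfCardEqFinrank hlia (by simp [hn]) with hbadef
  set bb : Basis (Fin n) F V :=
    basisOfLinearIndependentOfCardEqFinrank hlib (by simp [hn]) with hbbdef
  have hba : ∀ j : Fin n, ba j = ((a - 1) ^ (j : ℕ)) x0 := by
    intro j
    rw [hbadef, coe_basisOfLinearIndependentOfCardEqFinrank]
  have hbb : ∀ j : Fin n, bb j = ((b - 1) ^ (j : ℕ)) y0 := by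
    intro j
    rw [hbbdef, coe_basisOfLinearIndependentOfCardEqFinrank]
  set y : V ≃ₗ[F] V := ba.equiv bb (Equiv.refl _) with hy
  have hyb : ∀ j : Fin n, y (ba j) = bb j := by
    intro j
    rw [hy, Basis.equiv_apply, Equiv.refl_apply]
  -- `y ∘ (a - 1) = (b - 1) ∘ y`
  have hN : (y : V →ₗ[F] V) ∘ₗ (a - 1) = (b - 1) ∘ₗ (y : V →ₗ[F] V) := by
    apply ba.ext
    intro j
    simp only [LinearMap.comp_apply, LinearEquiv.coe_coe]
    rw [hyb, hba, hbb, ← Module.End.mul_apply, ← pow_succ', ← Module.End.mul_apply, ← pow_succ']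
    by_cases hj : (j : ℕ) + 1 < n
    · have := hyb ⟨(j : ℕ) + 1, hj⟩
      rw [hba, hbb] at this
      exact this
    · have hj' : (j : ℕ) + 1 = n := by
        have := j.2
        omega
      rw [hj', hax, hby, map_zero]
  refine ⟨y, fun x => ?_⟩
  have h := congrArg (fun f : V →ₗ[F] V => f x) hN
  simp only [LinearMap.comp_apply, LinearEquiv.coe_coe, LinearMap.sub_apply,
    Module.End.one_apply, map_sub] at h
  exact sub_left_injective h

/-- a unipotent endomorphism has determinant 1. -/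
theorem oreh2_det_unip [FiniteDimensional F V] (a : Module.End F V) (k : ℕ)
    (ha : (a - 1) ^ k = 0) : LinearMap.det a = 1 := by
  have hnil : IsNilpotent (1 - a) := by
    refine ⟨k, ?_⟩
    have : (1 - a) = -(a - 1) := by abel
    rw [this, neg_pow, ha, mul_zero]
  have h1 := hnil.charpoly_eq_X_pow_finrank
  have h2 := LinearMap.eval_charpoly (1 - a) (1 : F)
  rw [h1] at h2
  simp only [eval_pow, eval_X, one_pow, map_one] at h2
  rw [h2]
  congr 1
  abel

end

section
variable {F : Type u} [Field F]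

open Cfsg.Agent.Lib.helper14.RuF Cfsg.Agent.Lib.helper14.RuG

/-- **H2** (adaptor of the landed S2522 machinery). -/
theorem regu_sol [Fintype F] (hF : 4 ≤ Fintype.card F) {V : Type v} [AddCommGroup V] [Module F V]
    [FiniteDimensional F V] (S : V ≃ₗ[F] V) (h1 : 1 ≤ finrank F V)
    (hdet : LinearEquiv.det S = 1) (hns : 2 ≤ finrank F V → NonScalar S) :
    ∃ (E₃ : Fˣ) (N : ℕ), SolP S 1 E₃ ((X - 1) ^ N) := by
  classical
  have hK : (4 : Cardinal.{u}) ≤ Cardinal.mk F := by
    rw [Cardinal.mk_fintype]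
    exact_mod_cast hF
  obtain ⟨n, hn⟩ : ∃ n, finrank F V = n + 1 := ⟨finrank F V - 1, by omega⟩
  have hdet' : LinearMap.det (S : V →ₗ[F] V) = 1 := by
    rw [← LinearEquiv.coe_det, hdet, Units.val_one]
  have hns' : 1 ≤ n → ¬ ∃ c : F, (S : V →ₗ[F] V) = c • 1 := by
    intro h1n
    rintro ⟨c, hc⟩
    apply hns (by omega)
    refine ⟨c, fun x => ?_⟩
    have := congrArg (fun f : V →ₗ[F] V => f x) hc
    simpa using this
  obtain ⟨A₀, B₀, hAB, hRA, hRB⟩ := main_T hK n V hn (S : V →ₗ[F] V) hdet' hns'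
  -- `A₀` is a unit
  have hnilA : IsNilpotent (A₀ - 1) := ⟨_, hRA.1⟩
  have hunit : IsUnit A₀ := by
    have := hnilA.isUnit_add_one
    rwa [sub_add_cancel] at this
  obtain ⟨uA, huA⟩ := hunit
  set Ai : Module.End F V := ((uA⁻¹ : (Module.End F V)ˣ) : Module.End F V) with hAi
  have hAAi : A₀ * Ai = 1 := by rw [← huA, hAi, Units.mul_inv]
  have hAiA : Ai * A₀ = 1 := by rw [← huA, hAi, Units.inv_mul]
  have hRAi : RegU Ai := oreh2_regU_inv A₀ Ai hAAi hAiA hRA
  -- the equivalence `A = A₀⁻¹`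
  set A : V ≃ₗ[F] V := LinearMap.GeneralLinearGroup.generalLinearEquiv F V uA⁻¹ with hA
  have hAcoe : (A : V →ₗ[F] V) = Ai := by
    ext x
    rfl
  obtain ⟨y, hy⟩ := oreh2_conj (by omega) Ai B₀ hRAi hRB
  have hAiS : Ai * (S : V →ₗ[F] V) = B₀ := by
    rw [hAB, ← mul_assoc, hAiA, one_mul]
  refine ⟨LinearEquiv.det y, finrank F V, A, y, ?_, ?_, rfl, ?_⟩
  · -- `A * S = y * A * y⁻¹`
    apply LinearEquiv.ext
    intro x
    have h1 : (A * S) x = B₀ x := by
      have := congrArg (fun f : V →ₗ[F] V => f x) hAiS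
      simp only [Module.End.mul_apply, LinearEquiv.coe_coe] at this
      rw [LinearEquiv.mul_apply]
      have h2 : A (S x) = Ai (S x) := by rw [← hAcoe]; rfl
      rw [h2, this]
    have h3 : (y * A * y⁻¹) x = B₀ x := by
      rw [LinearEquiv.mul_apply, LinearEquiv.mul_apply]
      have h4 : A (y⁻¹ x) = Ai (y⁻¹ x) := by rw [← hAcoe]; rfl
      rw [h4, hy]
      congr 1
      change y (y.symm x) = x
      exact y.apply_symm_apply x
    rw [h1, h3]
  · apply Units.ext
    rw [LinearEquiv.coe_det, hAcoe, Units.val_one]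
    exact oreh2_det_unip Ai _ hRAi.1
  · rw [hAcoe, map_pow, map_sub, aeval_X, map_one]
    exact hRAi.1

end

end Cfsg.Agent.Lib.Helper19.ORE
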