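import Mathlib
import Cfsg.Agent.Lib.Helper19.ORE.Defs
import Cfsg.Agent.Lib.Helper16.OREH2

/-!
# ORE row H3: core of `big_nonscalar` (Part I assembly), with the rows `peel`, `split_det`,
`block_lu` taken as hypotheses (for `X₁ = F`).
-/

set_option autoImplicit false

namespace Cfsg.Agent.Lib.Helper19.ORE

open Polynomial Module

universe u v

section
variable {F : Type u} [Field F]

/-- own copy of `line_sol` (row C3): on a line, determinant 1 is solved by scalars. -/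
theorem oreh3_line_sol {V : Type v} [AddCommGroup V] [Module F V] (g : V ≃ₗ[F] V)
    (h1 : finrank F V = 1) (hdet : LinearEquiv.det g = 1) (a e : Fˣ) :
    SolP g a e (X - C (a : F)) := by
  haveI : FiniteDimensional F V := Module.finite_of_finrank_pos (by omega)
  have hdet' : LinearMap.det (g : V →ₗ[F] V) = 1 := by
    rw [← LinearEquiv.coe_det, hdet, Units.val_one]
  have hg1 : (g : V →ₗ[F] V) = 1 :=
    Cfsg.Agent.Lib.helper14.RuF.eq_one_of_finrank_one h1 _ hdet'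
  have hgx : ∀ x, g x = x := by
    intro x
    have := congrArg (fun f : V →ₗ[F] V => f x) hg1
    simpa using this
  refine ⟨LinearEquiv.smulOfUnit a, LinearEquiv.smulOfUnit e, ?_, ?_, ?_, ?_⟩
  · apply LinearEquiv.ext
    intro x
    rw [LinearEquiv.mul_apply, LinearEquiv.mul_apply, LinearEquiv.mul_apply, hgx]
    have h2 : (LinearEquiv.smulOfUnit e : V ≃ₗ[F] V)⁻¹ x = (e⁻¹ : Fˣ) • x := rfl
    rw [h2]
    change a • x = e • (a • ((e⁻¹ : Fˣ) • x))
    rw [smul_comm a, smul_smul, mul_inv_cancel, one_smul]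
  · apply Units.ext
    rw [LinearEquiv.coe_det]
    have : ((LinearEquiv.smulOfUnit a : V ≃ₗ[F] V) : V →ₗ[F] V) = (a : F) • (1 : V →ₗ[F] V) := by
      ext x
      rfl
    rw [this, LinearMap.det_smul, h1, pow_one, map_one, mul_one]
  · apply Units.ext
    rw [LinearEquiv.coe_det]
    have : ((LinearEquiv.smulOfUnit e : V ≃ₗ[F] V) : V →ₗ[F] V) = (e : F) • (1 : V →ₗ[F] V) := by
      ext x
      rfl
    rw [this, LinearMap.det_smul, h1, pow_one, map_one, mul_one]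
  · rw [map_sub, aeval_X, aeval_C]
    ext x
    simp only [LinearMap.sub_apply, LinearEquiv.coe_coe, Module.algebraMap_end_apply,
      LinearMap.zero_apply]
    exact sub_self _

theorem oreh3_solP_zero {V : Type v} [AddCommGroup V] [Module F V] {g : V ≃ₗ[F] V}
    {D E : Fˣ} {p : F[X]} (hg : SolP g D E p) : SolP g D E 0 := by
  obtain ⟨A, y, h1, h2, h3, _⟩ := hg
  exact ⟨A, y, h1, h2, h3, by simp⟩

/-- dimension count for a block form with first block a line. -/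
theorem oreh3_finrank {V : Type v} {X₂ : Type v} [AddCommGroup V] [Module F V]
    [AddCommGroup X₂] [Module F X₂] [FiniteDimensional F V] [FiniteDimensional F X₂]
    {g : V ≃ₗ[F] V} {g₁ : F ≃ₗ[F] F} {g₂ : X₂ ≃ₗ[F] X₂} (h : Split g g₁ g₂) :
    finrank F V = 1 + finrank F X₂ := by
  obtain ⟨e, _, _, _⟩ := h
  rw [e.finrank_eq, Module.finrank_prod, Module.finrank_self]

theorem oreh3_one_sol (a e : Fˣ) : SolP (1 : F ≃ₗ[F] F) a e (X - C (a : F)) :=
  oreh3_line_sol 1 (Module.finrank_self F) (map_one _) a e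

/-- **H3 core**: Part I with `peel`, `split_det`, `block_lu` (at `X₁ = F`) as hypotheses. -/
theorem oreh3_core [Fintype F] (hF : 4 ≤ Fintype.card F)
    (hpeel : ∀ (V : Type v) [AddCommGroup V] [Module F V] [FiniteDimensional F V]
      (g : V ≃ₗ[F] V), NonScalar g →
      ∃ (w : Module.Dual F V) (S : LinearMap.ker w ≃ₗ[F] LinearMap.ker w),
        Split g (1 : F ≃ₗ[F] F) S ∧ (3 ≤ finrank F V → NonScalar S))
    (hsd : ∀ (V : Type v) (X₂ : Type v) [AddCommGroup V] [Module F V]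
      [AddCommGroup X₂] [Module F X₂] [FiniteDimensional F V] [FiniteDimensional F X₂]
      (g : V ≃ₗ[F] V) (g₁ : F ≃ₗ[F] F) (g₂ : X₂ ≃ₗ[F] X₂), Split g g₁ g₂ →
      LinearEquiv.det g = LinearEquiv.det g₁ * LinearEquiv.det g₂)
    (hlu : ∀ (V : Type v) (X₂ : Type v) [AddCommGroup V] [Module F V]
      [AddCommGroup X₂] [Module F X₂] [FiniteDimensional F V] [FiniteDimensional F X₂]
      (g : V ≃ₗ[F] V) (g₁ : F ≃ₗ[F] F) (g₂ : X₂ ≃ₗ[F] X₂), Split g g₁ g₂ →
      ∀ (D₁ E₁ D₂ E₂ : Fˣ) (p₁ p₂ : F[X]), SolP g₁ D₁ E₁ p₁ → SolP g₂ D₂ E₂ p₂ →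
      IsCoprime p₁ p₂ → SolP g (D₁ * D₂) (E₁ * E₂) (p₁ * p₂))
    {V : Type v} [AddCommGroup V]
    [Module F V] [FiniteDimensional F V] (g : V ≃ₗ[F] V) (h2 : 2 ≤ finrank F V)
    (hdet : LinearEquiv.det g = 1) (hns : NonScalar g) : SolP g 1 1 0 := by
  classical
  have hK : (4 : Cardinal.{u}) ≤ Cardinal.mk F := by
    rw [Cardinal.mk_fintype]
    exact_mod_cast hF
  -- `b` with `b ≠ 1`, `b ≠ b⁻¹`
  obtain ⟨t, ht⟩ := Cfsg.Agent.Lib.helper14.RuA.exists_avoid hK ({0, 1, -1} : Finset F) (by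
    refine le_trans (Finset.card_insert_le _ _) ?_
    have := Finset.card_insert_le (1 : F) ({-1} : Finset F)
    simp only [Finset.card_singleton] at this
    omega)
  simp only [Finset.mem_insert, Finset.mem_singleton, not_or] at ht
  obtain ⟨ht0, ht1, htm1⟩ := ht
  set b : Fˣ := Units.mk0 t ht0 with hb
  have hbt : (b : F) = t := rfl
  have hbinv : ((b⁻¹ : Fˣ) : F) = t⁻¹ := by rw [Units.val_inv_eq_inv_val, hbt]
  have hb1 : t - 1 ≠ 0 := sub_ne_zero.mpr ht1
  have hbi1 : t⁻¹ - 1 ≠ 0 := by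
    intro h
    apply ht1
    have := sub_eq_zero.mp h
    rw [inv_eq_one] at this
    exact this
  have hbbi : t - t⁻¹ ≠ 0 := by
    intro h
    have h3 : t * t = 1 := by
      have := sub_eq_zero.mp h
      nth_rewrite 2 [this]
      exact mul_inv_cancel₀ ht0
    have h4 : (t - 1) * (t + 1) = 0 := by ring_nf; rw [sq, h3]; ring
    rcases mul_eq_zero.mp h4 with h5 | h5
    · exact hb1 h5
    · exact htm1 (eq_neg_of_add_eq_zero_left h5)
  have hcop_b_bi : IsCoprime (X - C (b : F)) (X - C ((b⁻¹ : Fˣ) : F)) := by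
    apply Polynomial.isCoprime_X_sub_C_of_isUnit_sub
    rw [hbt, hbinv]
    exact (isUnit_iff_ne_zero).mpr hbbi
  have hcop_b_1 : IsCoprime (X - C (b : F)) (X - 1 : F[X]) := by
    rw [← C_1]
    apply Polynomial.isCoprime_X_sub_C_of_isUnit_sub
    rw [hbt]
    exact (isUnit_iff_ne_zero).mpr hb1
  have hcop_bi_1 : IsCoprime (X - C ((b⁻¹ : Fˣ) : F)) (X - 1 : F[X]) := by
    rw [← C_1]
    apply Polynomial.isCoprime_X_sub_C_of_isUnit_sub
    rw [hbinv]
    exact (isUnit_iff_ne_zero).mpr hbi1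
  -- first peel
  obtain ⟨w₁, S₁, hsp₁, hns₁⟩ := hpeel V g hns
  have hfr₁ := oreh3_finrank hsp₁
  have hdet₁ : LinearEquiv.det S₁ = 1 := by
    have := hsd V _ g 1 S₁ hsp₁
    rw [hdet, map_one, one_mul] at this
    exact this.symm
  by_cases h3 : 3 ≤ finrank F V
  · -- second peel
    obtain ⟨w₂, S₂, hsp₂, hns₂⟩ := hpeel _ S₁ (hns₁ h3)
    have hfr₂ := oreh3_finrank hsp₂
    have hdet₂ : LinearEquiv.det S₂ = 1 := by
      have := hsd _ _ S₁ 1 S₂ hsp₂
      rw [hdet₁, map_one, one_mul] at this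
      exact this.symm
    obtain ⟨E₃, N, hS₂⟩ := regu_sol hF S₂ (by omega) hdet₂ (fun h => hns₂ (by omega))
    have hS₁ := hlu _ _ S₁ 1 S₂ hsp₂ _ _ _ _ _ _ (oreh3_one_sol b⁻¹ 1) hS₂
      (hcop_bi_1.pow_right)
    have hg := hlu _ _ g 1 S₁ hsp₁ _ _ _ _ _ _ (oreh3_one_sol b E₃⁻¹) hS₁
      (IsCoprime.mul_right hcop_b_bi hcop_b_1.pow_right)
    have hD : b * (b⁻¹ * 1) = 1 := by rw [mul_one, mul_inv_cancel]
    have hE : E₃⁻¹ * (1 * E₃) = 1 := by rw [one_mul, inv_mul_cancel]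
    rw [hD, hE] at hg
    exact oreh3_solP_zero hg
  · have hV2 : finrank F V = 2 := by omega
    have hS₁ := oreh3_line_sol S₁ (by omega) hdet₁ b⁻¹ 1
    have hg := hlu _ _ g 1 S₁ hsp₁ _ _ _ _ _ _ (oreh3_one_sol b 1) hS₁ hcop_b_bi
    have hD : b * b⁻¹ = 1 := mul_inv_cancel b
    rw [hD, one_mul] at hg
    exact oreh3_solP_zero hg

end

end Cfsg.Agent.Lib.Helper19.ORE
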