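import Mathlib
import Cfsg.Agent.Lib.Helper19.ORE.Defs
import Cfsg.Agent.Lib.Helper16.OREH3core
import Cfsg.Agent.Lib.Helper25.OREH1
import Cfsg.Agent.Lib.Helper13.OREA3
import Cfsg.Agent.Lib.Helper13.OREB2

/-!
# ORE row H3: `big_nonscalar` (Part I assembly) = `oreh3_core` + rows H1 `peel`, A3 `split_det`,
B2 `block_lu`.
-/

set_option autoImplicit false

namespace Cfsg.Agent.Lib.Helper19.ORE

open Polynomial Module

universe u v

section General
variable {F : Type u} [Field F]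

/-- **H3** (Part I). -/
theorem big_nonscalar [Fintype F] (hF : 4 ≤ Fintype.card F) {V : Type v} [AddCommGroup V]
    [Module F V] [FiniteDimensional F V] (g : V ≃ₗ[F] V) (h2 : 2 ≤ finrank F V)
    (hdet : LinearEquiv.det g = 1) (hns : NonScalar g) : SolP g 1 1 0 :=
  oreh3_core hF (fun _ _ _ _ g hg => peel g hg)
    (fun _ _ _ _ _ _ _ _ _ _ _ h => split_det h)
    (fun _ _ _ _ _ _ _ _ _ _ _ h _ _ _ _ _ _ h₁ h₂ hp => block_lu h h₁ h₂ hp)
    g h2 hdet hns

end General

end Cfsg.Agent.Lib.Helper19.ORE
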