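import Mathlib
import Cfsg.Agent.Lib.Helper13.OTS.Defs
import Cfsg.Agent.Lib.Helper13.OTSMAXELcore
import Cfsg.Agent.Lib.Helper20.OTSFORMEX
import Cfsg.Agent.Lib.helper8.OTSQS2TY

/-!
# Project OTS (designer helper13), row DISTEL, second copy `otsdistel_h16_q_distel` (helper16; same statement as `q_distel`, which helper13 landed in Helper13/OTSMAXEL.lean) of helper13's `otsdistel_core`
on FORMEX (helper20) and QS2TY (helper8).
-/

set_option autoImplicit false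
set_option linter.unusedVariables false

namespace Cfsg.Agent.Lib.Helper13.OTS

open Polynomial Module Cfsg.Agent.Lib.Helper13.S5955 Cfsg.Agent.Lib.helper15.S5972

theorem otsdistel_h16_q_distel {F : Type*} [Field F] [Fintype F] {p : ℕ} [Fact p.Prime] [CharP F p]
    {ι : Type} [Fintype ι] [DecidableEq ι] (Qs : QuadraticForm F (ι → F)) (d : ℕ) (ε : ℤ)
    (hs : QStd Qs d ε) (r : ℕ) [Fact r.Prime] (hrp : r ≠ p) (hr2 : r ≠ 2) (i : ℕ)
    (hi : i = orderOf ((Fintype.card F : ℕ) : ZMod r)) (hie : Even i)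
    (hex : i + FMin i i d ε ≤ 2 * d) :
    ∃ y : Module.End F (ι → F), QCtx r Qs y ∧ y ≠ 1 ∧
      finrank F (fixS y) + i * min ((r - 1) / i) ((2 * d - FMin i i d ε) / i) = 2 * d ∧
      ∀ W : Submodule F (ι → F), SInv y W → QTS Qs W → W ≤ fixS y :=
  otsdistel_core Qs d ε hs r hrp hr2 i hi hie hex
    (fun k₀ s₀ hs₀ hk₀ => q_form_ex k₀ s₀ hs₀ hk₀)
    (fun h κ _ _ y hy hfix Q₀ hQ₀ k₀ hκ s₀ hs₀1 hs₀ =>
      qs2_ty r hrp hr2 y hy hfix Q₀ hQ₀ k₀ hκ s₀ hs₀1 hs₀ i hi)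

end Cfsg.Agent.Lib.Helper13.OTS
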