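import Mathlib
import Cfsg.Agent.Lib.Helper13.OTS.Defs
import Cfsg.Agent.Lib.Helper16.OTSTYTOP
import Cfsg.Agent.Lib.helper17.OTSQOCTX
import Cfsg.Agent.Lib.helper17.OTSTYSUM
import Cfsg.Agent.Lib.Helper21.OTSWITT
import Cfsg.Agent.Lib.Helper21.OTSTYCLASS
import Cfsg.Agent.Lib.helper17.ONENDPERPS
import Cfsg.Agent.Lib.Helper16.SpinE3
import Cfsg.Agent.Lib.Helper16.StabRefl
import Cfsg.Agent.Lib.Helper16.OCount1
import Cfsg.Agent.Lib.helper6.Quad
import Cfsg.Agent.Lib.Helper24.S5972TWONEC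

/-!
# Project OTS (designer helper13), row TWONEC, second copy (helper16): `otstwonec_h16_q_two_nec_plus` has exactly the
statement of `q_two_nec_plus`.  Abstract twin of helper24's `o_two_nec`: `x = r_{v₁} r_{v₂}` with `Qs v₁ = Qs v₂ = 1`,
`v₁ ⟂ v₂`; the plane `P = ⟨v₁, v₂⟩` is anisotropic (`q ≡ 3 (mod 4)`), so `P^⊥` has type `-1` and Witt index `d - 2`.
-/

set_option autoImplicit false
set_option linter.unusedVariables false
set_option maxHeartbeats 800000

namespace Cfsg.Agent.Lib.Helper13.OTS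

open Polynomial Module Cfsg.Agent.Lib.Helper13.S5955 Cfsg.Agent.Lib.helper15.S5972

theorem otstwonec_h16_q_two_nec_plus {F : Type*} [Field F] [Fintype F] (hq : Fintype.card F % 4 = 3) {ι : Type} [Fintype ι]
    [DecidableEq ι] (Qs : QuadraticForm F (ι → F)) (d : ℕ) (hs : QStd Qs d 1) (hd : 2 ≤ d) :
    ∃ x : GL ι F, x ∈ Cfsg.Geo.omegaGL (⇑Qs) ∧ x ^ 2 = 1 ∧
      (∀ z : F, (x : Matrix ι ι F) ≠ z • (1 : Matrix ι ι F)) ∧
      ¬ ∃ W : Submodule F (ι → F), finrank F W = d - 1 ∧ (∀ w ∈ W, Qs w = 0) ∧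
        W.map (Matrix.toLin' (x : Matrix ι ι F)) ≤ W := by
  classical
  have hoddq : Odd (Fintype.card F) := by
    rw [Nat.odd_iff]
    omega
  have h2 : (2 : F) ≠ 0 := Cfsg.Agent.Lib.Helper16.OSemi.two_ne_zero_of_odd_card hoddq
  obtain ⟨htop, hfr, hndp⟩ := q_ty_top Qs d 1 hs
  have hnd := hs.nd
  have hp : ∀ a b, QuadraticMap.polar (⇑Qs) a b = qB Qs a b := fun _ _ => rfl
  have hsymm : ∀ u v, qB Qs u v = qB Qs v u := fun u v => QuadraticMap.polar_comm Qs u v
  have hself : ∀ v, qB Qs v v = 2 * Qs v := by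
    intro v
    rw [← hp, QuadraticMap.polar_self, two_smul, two_mul]
  -- the first vector
  have hT : (⊤ : Submodule F (ι → F)) ⊓ Cfsg.Agent.Lib.Helper16.CDG.perp Qs ⊤ = ⊥ := by
    rw [eq_bot_iff]
    rintro x ⟨_, hx⟩
    rw [SetLike.mem_coe, Cfsg.Agent.Lib.Helper16.CDG.mem_perp] at hx
    have hx0 : x = 0 := hndp x (fun v => by
      rw [QuadraticMap.polar_comm]
      exact hx v Submodule.mem_top)
    rw [hx0]
    exact Submodule.zero_mem _
  obtain ⟨v₁, _, hQ1⟩ := Cfsg.Agent.Lib.Helper16.exists_repr h2 Qs ⊤ hT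
    (by rw [finrank_top, hfr]; omega) 1 one_ne_zero
  have hv10 : v₁ ≠ 0 := by
    rintro rfl
    rw [map_zero] at hQ1
    exact zero_ne_one hQ1
  have h11 : qB Qs v₁ v₁ = 2 := by rw [hself, hQ1, mul_one]
  -- the second vector
  have hL : Submodule.span F {v₁} ⊓ Cfsg.Agent.Lib.Helper16.CDG.perp Qs (Submodule.span F {v₁}) = ⊥ := by
    rw [eq_bot_iff]
    rintro x ⟨hx1, hx2⟩
    obtain ⟨a, rfl⟩ := Submodule.mem_span_singleton.mp hx1
    rw [SetLike.mem_coe, Cfsg.Agent.Lib.Helper16.CDG.mem_perp] at hx2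
    have h := hx2 v₁ (Submodule.mem_span_singleton_self v₁)
    rw [hp, map_smul, smul_eq_mul, h11] at h
    have ha : a = 0 := (mul_eq_zero.mp h).resolve_right h2
    rw [ha, zero_smul]
    exact Submodule.zero_mem _
  have hX := Cfsg.Agent.Lib.Helper16.perp_nondeg Qs hnd _ hL
  have hXdim : finrank F ↥(Cfsg.Agent.Lib.Helper16.CDG.perp Qs (Submodule.span F {v₁})) = 2 * d - 1 := by
    have h1 := LinearMap.BilinForm.finrank_orthogonal hnd (Submodule.span F {v₁})
    rw [finrank_span_singleton hv10, hfr] at h1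
    exact h1
  obtain ⟨v₂, hv₂X, hQ2⟩ := Cfsg.Agent.Lib.Helper16.exists_repr h2 Qs _ hX
    (by rw [hXdim]; omega) 1 one_ne_zero
  have h12 : qB Qs v₁ v₂ = 0 := by
    rw [Cfsg.Agent.Lib.Helper16.CDG.mem_perp] at hv₂X
    exact hv₂X v₁ (Submodule.mem_span_singleton_self v₁)
  have h21 : qB Qs v₂ v₁ = 0 := by rw [hsymm, h12]
  have h22 : qB Qs v₂ v₂ = 2 := by rw [hself, hQ2, mul_one]
  have hQab : ∀ a b : F, Qs (a • v₁ + b • v₂) = 0 → a = 0 ∧ b = 0 := by
    intro a b hab
    have h := hself (a • v₁ + b • v₂)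
    rw [hab, mul_zero] at h
    simp only [map_add, map_smul, LinearMap.add_apply, LinearMap.smul_apply, smul_eq_mul, h11, h12,
      h21, h22] at h
    apply s5972twonec_sumsq hq
    have h3 : (2 : F) * (a * a + b * b) = 0 := by linear_combination h
    exact (mul_eq_zero.mp h3).resolve_left h2
  have hvs : ∀ v ∈ [v₁, v₂], Qs v ≠ 0 := by
    intro v hv
    simp only [List.mem_cons, List.mem_nil_iff, or_false] at hv
    rcases hv with rfl | rfl
    · rw [hQ1]; exact one_ne_zero
    · rw [hQ2]; exact one_ne_zero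
  have hmem := Cfsg.Agent.Lib.Helper16.master_backward h2 Qs [v₁, v₂] hvs ⟨1, rfl⟩
    (by
      simp only [List.map_cons, List.map_nil, List.prod_cons, List.prod_nil, hQ1, hQ2, mul_one]
      exact ⟨1, (mul_one 1).symm⟩)
  obtain ⟨g, hg⟩ : ∃ g : ↥(Cfsg.isometryGroup F ⇑Qs),
      g = ([v₁, v₂].map (Cfsg.Agent.Lib.Helper16.reflG' Qs)).prod := ⟨_, rfl⟩
  rw [← hg] at hmem
  have hgcoe : (((g : GL ι F)) : Matrix ι ι F) =
      Cfsg.reflectionMatrix (⇑Qs) v₁ * Cfsg.reflectionMatrix (⇑Qs) v₂ := by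
    rw [hg, Cfsg.Agent.Lib.Helper16.prod_reflG'_coe Qs [v₁, v₂] hvs]
    simp only [List.map_cons, List.map_nil, List.prod_cons, List.prod_nil, mul_one]
  have hXf : ∀ w, Matrix.toLin' (((g : GL ι F)) : Matrix ι ι F) w =
      w - qB Qs v₂ w • v₂ - qB Qs v₁ w • v₁ := by
    intro w
    rw [Matrix.toLin'_apply, hgcoe, ← Matrix.mulVec_mulVec,
      Cfsg.Agent.Lib.helper6.reflectionMatrix_mulVec, Cfsg.Agent.Lib.helper6.reflectionMatrix_mulVec,
      hp, hp, hQ1, hQ2, inv_one, one_mul, one_mul, map_sub, map_smul, h12, smul_zero, sub_zero]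
  have hXX : ∀ w, Matrix.toLin' (((g : GL ι F)) : Matrix ι ι F)
      (Matrix.toLin' (((g : GL ι F)) : Matrix ι ι F) w) = w := by
    intro w
    rw [hXf, hXf w]
    simp only [map_sub, map_smul, smul_eq_mul, h11, h12, h21, h22]
    module
  -- the plane
  have hli : LinearIndependent F ![v₁, v₂] := by
    rw [LinearIndependent.pair_iff]
    intro s t hst
    have e1 : qB Qs v₁ (s • v₁ + t • v₂) = 0 := by rw [hst, map_zero]
    have e2 : qB Qs v₂ (s • v₁ + t • v₂) = 0 := by rw [hst, map_zero]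
    simp only [map_add, map_smul, smul_eq_mul, h11, h12, h21, h22, mul_zero, add_zero,
      zero_add] at e1 e2
    exact ⟨(mul_eq_zero.mp e1).resolve_right h2, (mul_eq_zero.mp e2).resolve_right h2⟩
  have hPdim : finrank F ↥(Submodule.span F {v₁, v₂}) = 2 := by
    have := finrank_span_eq_card hli
    rw [Fintype.card_fin] at this
    have hr : Set.range ![v₁, v₂] = {v₁, v₂} := by
      ext v
      simp
      exact or_comm
    rw [hr] at this
    exact this
  refine ⟨(g : GL ι F), Subgroup.mem_map.mpr ⟨g, hmem, rfl⟩, ?_, ?_, ?_⟩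
  · apply Units.ext
    rw [Units.val_pow_eq_pow_val, Units.val_one]
    apply Matrix.toLin'.injective
    apply LinearMap.ext
    intro w
    rw [pow_two, Matrix.toLin'_mul, LinearMap.comp_apply, hXX, Matrix.toLin'_one,
      LinearMap.id_apply]
  · intro z hz
    have hz' : ∀ w, Matrix.toLin' (((g : GL ι F)) : Matrix ι ι F) w = z • w := by
      intro w
      rw [hz, Matrix.toLin'_apply, Matrix.smul_mulVec, Matrix.one_mulVec]
    have hz1 : z = -1 := by
      have h3 := hXf v₁
      rw [hz', h21, h11, zero_smul, sub_zero] at h3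
      have h4 : (z + 1) • v₁ = 0 := by
        rw [add_smul, one_smul, h3]
        module
      rcases smul_eq_zero.mp h4 with h | h
      · exact eq_neg_of_add_eq_zero_left h
      · exact absurd h hv10
    have hall : ∀ w : ι → F, w ∈ Submodule.span F {v₁, v₂} := by
      intro w
      have h3 := hXf w
      rw [hz', hz1] at h3
      have h4 : w = (2 : F)⁻¹ • (qB Qs v₁ w • v₁ + qB Qs v₂ w • v₂) := by
        have h5 : (2 : F) • w = qB Qs v₁ w • v₁ + qB Qs v₂ w • v₂ := by
          have h6 : (-1 : F) • w = -w := by rw [neg_smul, one_smul]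
          rw [h6] at h3
          rw [two_smul]
          have h7 : w + w = w - (-w) := by abel
          rw [h7, h3]
          abel
        rw [← h5, smul_smul, inv_mul_cancel₀ h2, one_smul]
      rw [h4]
      apply Submodule.smul_mem
      apply Submodule.add_mem
      · exact Submodule.smul_mem _ _ (Submodule.subset_span (by simp))
      · exact Submodule.smul_mem _ _ (Submodule.subset_span (by simp))
    have htop' : (⊤ : Submodule F (ι → F)) ≤ Submodule.span F {v₁, v₂} := fun w _ => hall w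
    have h8 := Submodule.finrank_mono htop'
    rw [finrank_top, hfr, hPdim] at h8
    omega
  · rintro ⟨W, hWd, hWs, hWinv⟩
    have hperp : ∀ w ∈ W, qB Qs v₁ w = 0 ∧ qB Qs v₂ w = 0 := by
      intro w hw
      have hxw : Matrix.toLin' (((g : GL ι F)) : Matrix ι ι F) w ∈ W := hWinv ⟨w, hw, rfl⟩
      have hdiff : qB Qs v₁ w • v₁ + qB Qs v₂ w • v₂ ∈ W := by
        have := W.sub_mem hw hxw
        rw [hXf] at this
        convert this using 1
        module
      exact hQab _ _ (hWs _ hdiff)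
    have hPnd : SND (qB Qs) (Submodule.span F {v₁, v₂}) := by
      intro u hu hall
      obtain ⟨a, b, rfl⟩ := Submodule.mem_span_pair.mp hu
      have e1 := hall v₁ (Submodule.subset_span (by simp))
      have e2 := hall v₂ (Submodule.subset_span (by simp))
      simp only [map_add, map_smul, LinearMap.add_apply, LinearMap.smul_apply, smul_eq_mul, h11,
        h12, h21, h22, mul_zero, add_zero, zero_add] at e1 e2
      have ha : a = 0 := (mul_eq_zero.mp e1).resolve_right h2
      have hb : b = 0 := (mul_eq_zero.mp e2).resolve_right h2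
      rw [ha, hb, zero_smul, zero_smul, add_zero]
    have hPev : Even (finrank F ↥(Submodule.span F {v₁, v₂})) := ⟨1, by rw [hPdim]⟩
    have hPty : QTy Qs (Submodule.span F {v₁, v₂}) (-1) := by
      rcases q_ty_class Qs _ hPnd hPev with ⟨⟨U, hUP, hUts, hUd⟩, _⟩ | ⟨_, h, _⟩
      · exfalso
        have hU1 : finrank F U = 1 := by omega
        have hUne : U ≠ ⊥ := by
          intro h
          rw [h, finrank_bot] at hU1
          omega
        obtain ⟨u, hu, hu0⟩ := Submodule.exists_mem_ne_zero_of_ne_bot hUne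
        obtain ⟨a, b, rfl⟩ := Submodule.mem_span_pair.mp (hUP hu)
        obtain ⟨ha, hb⟩ := hQab a b (hUts _ hu)
        apply hu0
        rw [ha, hb, zero_smul, zero_smul, add_zero]
      · exact h
    have hTop : SND (qB Qs) (⊤ : Submodule F (ι → F)) :=
      fun u _ hall => hndp u (fun v => hall v Submodule.mem_top)
    obtain ⟨hdisj, hsup, hVnd, hVorth, hVdim⟩ :=
      Cfsg.Agent.Lib.Helper18.ONE.nd_perp_symm (qB Qs) hsymm ⊤ (Submodule.span F {v₁, v₂}) hTop
        le_top hPnd
    rw [finrank_top, hfr, hPdim] at hVdim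
    have hVev : Even (finrank F ↥((⊤ : Submodule F (ι → F)) ⊓
        (qB Qs).orthogonal (Submodule.span F {v₁, v₂}))) := ⟨d - 1, by omega⟩
    have hVty : QTy Qs ((⊤ : Submodule F (ι → F)) ⊓
        (qB Qs).orthogonal (Submodule.span F {v₁, v₂})) (-1) := by
      rcases q_ty_class Qs _ hVnd hVev with ⟨_, h⟩ | ⟨_, h, _⟩
      · exfalso
        have hsum := q_ty_sum Qs _ _ hPnd hVnd hVorth hPev hVev (-1) 1 hPty h
        rw [hsup] at hsum
        have hm : ((-1 : ℤ) * 1) = -1 := by norm_num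
        rw [hm] at hsum
        exact q_ty_uniq Qs ⊤ htop hsum
      · exact h
    have hWV : W ≤ (⊤ : Submodule F (ι → F)) ⊓ (qB Qs).orthogonal (Submodule.span F {v₁, v₂}) := by
      intro w hw
      refine Submodule.mem_inf.mpr ⟨Submodule.mem_top, ?_⟩
      rw [h5_mem_orth]
      intro u hu
      obtain ⟨a, b, rfl⟩ := Submodule.mem_span_pair.mp hu
      rw [map_add, map_smul, map_smul, LinearMap.add_apply, LinearMap.smul_apply,
        LinearMap.smul_apply, (hperp w hw).1, (hperp w hw).2, smul_zero, smul_zero, add_zero]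
    have hwitt := q_witt_le Qs _ hVnd hVev (-1) hVty (Or.inr rfl) W hWV hWs
    rw [hWd] at hwitt
    omega

end Cfsg.Agent.Lib.Helper13.OTS
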