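import Mathlib
import Cfsg.Agent.Lib.Helper24.P2P.Defs
import Cfsg.Agent.Lib.Helper25.CharBasic
import Cfsg.Agent.Lib.Helper25.CharLinear
import Cfsg.Agent.Lib.helper2.CharNat
import Cfsg.Agent.Lib.helper2.CharInd
import Cfsg.Agent.Lib.helper7.CharMul

/-!
# Project P2P (S4707), piece CUBE : `∑ χ³ = |G| (1 + m)`
-/

set_option autoImplicit false
set_option linter.unusedVariables false
set_option linter.unusedSectionVars false
set_option linter.style.haveILetI false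
open scoped ComplexConjugate
open Classical

namespace Cfsg.Agent.Lib.Helper24.P2P

open MulAction Cfsg.Agent.Lib.helper6.PermChar Cfsg.Agent.Lib.Lead.W2P Cfsg.Agent.Lib.Helper25

universe u v

section generic

variable {G : Type u} [Group G] [Fintype G]

/-- `∑ φ conj ψ = |G| ⟨φ, ψ⟩` -/
theorem p2pcube_sum (φ ψ : G → ℂ) :
    ∑ g : G, φ g * conj (ψ g) = (Nat.card G : ℂ) * Cfsg.classInner φ ψ := by
  unfold Cfsg.classInner
  have h0 : (Nat.card G : ℂ) ≠ 0 := by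
    have : 0 < Nat.card G := Nat.card_pos
    exact_mod_cast this.ne'
  rw [← mul_assoc, mul_inv_cancel₀ h0, one_mul]

theorem cube_sum (χ θ : Cfsg.IrrCharacter G)
    (hreal : ∀ g : G, conj ((χ : G → ℂ) g) = (χ : G → ℂ) g)
    (hne : χ ≠ trivIrr G) (hθne : θ ≠ trivIrr G) (hχθ : θ ≠ χ)
    (hid : ∀ g : G, (χ : G → ℂ) g ^ 2 = 1 + (θ : G → ℂ) g + (χ : G → ℂ) g * (θ : G → ℂ) g) :
    ∃ m : ℕ, ∑ g : G, (χ : G → ℂ) g ^ 3 = (Nat.card G : ℂ) * (1 + (m : ℂ)) := by
  have hχc := Cfsg.Agent.Lib.helper2.isCharacter_of_irr χ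
  have hθc := Cfsg.Agent.Lib.helper2.isCharacter_of_irr θ
  have hprod : Cfsg.IsCharacter G ((χ : G → ℂ) * (θ : G → ℂ)) :=
    Cfsg.Agent.Lib.helper7.h7_isCharacter_mul hχc hθc
  obtain ⟨m, hm⟩ := Cfsg.Agent.Lib.helper2.classInner_character_nat hprod hθc
  refine ⟨m, ?_⟩
  -- the inner products involved
  have i1 : Cfsg.classInner (χ : G → ℂ) (trivIrr G : G → ℂ) = 0 := by
    rw [irr_classInner, if_neg hne]
  have i2 : Cfsg.classInner (θ : G → ℂ) (χ : G → ℂ) = 0 := by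
    rw [irr_classInner, if_neg hχθ]
  have i3 : Cfsg.classInner (θ : G → ℂ) (trivIrr G : G → ℂ) = 0 := by
    rw [irr_classInner, if_neg hθne]
  have i4 : Cfsg.classInner (θ : G → ℂ) (θ : G → ℂ) = 1 := by
    rw [irr_classInner, if_pos rfl]
  have i5 : Cfsg.classInner (θ : G → ℂ) ((χ : G → ℂ) * (θ : G → ℂ)) = (m : ℂ) := by
    rw [Cfsg.Agent.Lib.helper2.classInner_conj_symm, hm, Complex.conj_natCast]
  -- pointwise expansion
  have hpt : ∀ g : G, (χ : G → ℂ) g ^ 3 =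
      (χ : G → ℂ) g * conj ((trivIrr G : G → ℂ) g) + (θ : G → ℂ) g * conj ((χ : G → ℂ) g) +
      ((θ : G → ℂ) g * conj ((trivIrr G : G → ℂ) g) + (θ : G → ℂ) g * conj ((θ : G → ℂ) g) +
        (θ : G → ℂ) g * conj (((χ : G → ℂ) * (θ : G → ℂ)) g)) := by
    intro g
    have hsq : conj ((χ : G → ℂ) g ^ 2) = (χ : G → ℂ) g ^ 2 := by
      rw [map_pow, hreal g]
    have e1 : (θ : G → ℂ) g * conj ((trivIrr G : G → ℂ) g) + (θ : G → ℂ) g * conj ((θ : G → ℂ) g) +
        (θ : G → ℂ) g * conj (((χ : G → ℂ) * (θ : G → ℂ)) g) =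
        (θ : G → ℂ) g * conj ((χ : G → ℂ) g ^ 2) := by
      rw [hid g, trivIrr_apply, Pi.mul_apply]
      simp only [map_add, map_one, map_mul]
      ring
    rw [e1, hsq, trivIrr_apply, map_one, hreal g]
    have := hid g
    linear_combination (χ : G → ℂ) g * this
  rw [Finset.sum_congr rfl (fun g _ => hpt g)]
  simp only [Finset.sum_add_distrib]
  rw [p2pcube_sum, p2pcube_sum, p2pcube_sum, p2pcube_sum, p2pcube_sum, i1, i2, i3, i4, i5]
  ring

end generic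

end Cfsg.Agent.Lib.Helper24.P2P
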