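import Mathlib
import Cfsg.Agent.Lib.Helper16.PGLInv4

set_option autoImplicit false
set_option linter.unusedSectionVars false
set_option linter.unusedSimpArgs false
set_option linter.unusedVariables false

namespace Cfsg.Agent.Lib.Helper16.PGLI

open Matrix Module

variable {F : Type*} [Field F] {n : ℕ}

theorem pgl_involution_classes [Fintype F] (hodd : Odd (Fintype.card F)) (hn : 2 ≤ n) :
    Nat.card {C : ConjClasses (GL (Fin n) F ⧸ Subgroup.center (GL (Fin n) F)) //
      ∃ g : GL (Fin n) F ⧸ Subgroup.center (GL (Fin n) F), ConjClasses.mk g = C ∧ orderOf g = 2}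
      = n / 2 + (if Even n then 1 else 0) := by
  classical
  have hn0 : 0 < n := by omega
  have hchar : ringChar F ≠ 2 := by
    intro h
    rw [FiniteField.even_card_iff_char_two] at h
    rw [Nat.odd_iff] at hodd
    omega
  have h2 : (2 : F) ≠ 0 := Ring.two_ne_zero hchar
  obtain ⟨lam₀, hlam₀⟩ := FiniteField.exists_nonsquare hchar
  have hlam₀0 : lam₀ ≠ 0 := by
    rintro rfl
    exact hlam₀ ⟨0, by rw [mul_zero]⟩
  have hE : ∀ h : Even n, ∃ E : GL (Fin n) F, E.1 * E.1 = lam₀ • 1 := by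
    intro h
    obtain ⟨E, hE⟩ := exists_sq_eq (F := F) lam₀ h
    refine ⟨⟨E, lam₀⁻¹ • E, ?_, ?_⟩, hE⟩
    · rw [Matrix.mul_smul, hE, smul_smul, inv_mul_cancel₀ hlam₀0, one_smul]
    · rw [Matrix.smul_mul, hE, smul_smul, inv_mul_cancel₀ hlam₀0, one_smul]
  obtain ⟨rep, hrep1, hrep2⟩ : ∃ rep : Fin (n / 2) ⊕ {u : Unit // Even n} → GL (Fin n) F,
      (∀ b : Fin (n / 2), (rep (Sum.inl b)).1 = stdDiag F n (b.val + 1)) ∧
      (∀ u : {u : Unit // Even n}, (rep (Sum.inr u)).1 * (rep (Sum.inr u)).1 = lam₀ • 1) :=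
    ⟨Sum.elim (fun b => ⟨stdDiag F n (b.val + 1), stdDiag F n (b.val + 1), stdDiag_sq _,
      stdDiag_sq _⟩) (fun u => (hE u.2).choose), fun b => rfl, fun u => (hE u.2).choose_spec⟩
  rw [card_classes_of_reps (fun x => orderOf x = 2) (Fin (n / 2) ⊕ {u : Unit // Even n})
    (fun t => QuotientGroup.mk (rep t))]
  · rw [Nat.card_sum, Nat.card_eq_fintype_card, Fintype.card_fin]
    congr 1
    by_cases h : Even n
    · rw [if_pos h]
      have : Unique {u : Unit // Even n} := ⟨⟨⟨(), h⟩⟩, fun u => Subtype.ext rfl⟩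
      exact Nat.card_unique
    · rw [if_neg h]
      have : IsEmpty {u : Unit // Even n} := ⟨fun u => h u.2⟩
      exact Nat.card_of_isEmpty
  · rintro (b | u)
    · show orderOf (QuotientGroup.mk (rep (Sum.inl b))) = 2
      rw [orderOf_mk_eq_two_iff, hrep1]
      have hb := b.2
      refine ⟨fun c => stdDiag_not_scalar h2 _ (by omega) (by omega) c, 1, ?_⟩
      rw [one_smul]; exact stdDiag_sq _
    · show orderOf (QuotientGroup.mk (rep (Sum.inr u))) = 2
      rw [orderOf_mk_eq_two_iff]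
      refine ⟨?_, lam₀, hrep2 u⟩
      intro c hc
      have h3 := hrep2 u
      rw [hc, Matrix.smul_mul, Matrix.mul_smul, mul_one, smul_smul] at h3
      exact hlam₀ ⟨c, (smul_one_inj hn0 _ _ h3).symm⟩
  · intro gbar hg
    obtain ⟨g, rfl⟩ := QuotientGroup.mk_surjective gbar
    rw [orderOf_mk_eq_two_iff] at hg
    obtain ⟨hns, lam, hlam⟩ := hg
    by_cases hsq : IsSquare lam
    · obtain ⟨μ, hμ⟩ := hsq
      have hμ0 : μ ≠ 0 := by
        rintro rfl
        rw [mul_zero] at hμ
        rw [hμ, zero_smul] at hlam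
        have h3 : (1 : Matrix (Fin n) (Fin n) F) = 0 := by
          have h4 : (g * g).1 = 0 := hlam
          have h5 := congrArg (fun M => M * ((g * g)⁻¹).1) h4
          simp only [zero_mul] at h5
          rw [← Units.val_mul, mul_inv_cancel, Units.val_one] at h5
          exact h5
        have : Nontrivial (Matrix (Fin n) (Fin n) F) := by
          have : Nonempty (Fin n) := ⟨⟨0, hn0⟩⟩
          infer_instance
        exact one_ne_zero h3
      rw [hμ] at hlam
      obtain ⟨s, Q, ζ, hs1, hs2, hQ, hζ, hgQ⟩ := square_case h2 g.1 μ hμ0 hlam hns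
      refine ⟨Sum.inl ⟨s - 1, by omega⟩, ?_⟩
      rw [isConj_mk_iff hn0, hrep1]
      refine ⟨Q, ζ, hQ, hζ, ?_⟩
      have : (s - 1 + 1) = s := by omega
      simp only [this]
      exact hgQ
    · have heven := even_of_nonsquare g.1 lam hsq hlam
      refine ⟨Sum.inr ⟨(), heven⟩, ?_⟩
      rw [isConj_mk_iff hn0]
      exact nonsquare_case h2 g.1 _ lam lam₀ hsq hlam₀ hlam (hrep2 _)
  · intro t t' hconj
    rw [isConj_mk_iff hn0] at hconj
    obtain ⟨Q, ζ, hQ, hζ, hgQ⟩ := hconj
    rcases t with b | u <;> rcases t' with b' | u'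
    · rw [hrep1, hrep1] at hgQ
      have hb := b.2
      have hb' := b'.2
      have := stdDiag_unique hn0 h2 _ _ (by omega) (by omega) Q ζ hQ hgQ
      congr 1
      apply Fin.ext
      omega
    · exfalso
      have h3 := sq_rel hn0 _ _ Q ζ 1 lam₀ hQ hgQ (by rw [hrep1, one_smul]; exact stdDiag_sq _)
        (hrep2 u')
      apply hlam₀
      refine ⟨ζ⁻¹, ?_⟩
      field_simp
      linear_combination -h3
    · exfalso
      have h3 := sq_rel hn0 _ _ Q ζ lam₀ 1 hQ hgQ (hrep2 u)
        (by rw [hrep1, one_smul]; exact stdDiag_sq _)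
      apply hlam₀
      refine ⟨ζ, ?_⟩
      rw [h3, mul_one]
    · congr 1
      exact Subtype.ext rfl

end Cfsg.Agent.Lib.Helper16.PGLI
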