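import Mathlib
import Cfsg.Agent.Lib.Helper16.PGUr1
import Cfsg.Agent.Lib.Helper16.GUSemi9

set_option autoImplicit false
set_option linter.unusedSectionVars false
set_option linter.unusedSimpArgs false
set_option linter.unusedVariables false
set_option linter.unusedTactic false

namespace Cfsg.Agent.Lib.Helper16.PGUR

open Matrix Module Cfsg.Agent.Lib.Helper16.PGLR Cfsg.Agent.Lib.Helper16.RN

variable {K : Type*} [Field K] {n q r : ℕ}

theorem adjU_pow' (Ad : AdjData (Fin n) K) (x : GL (Fin n) K) (j : ℕ) :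
    (Ad.adjU x) ^ j = Ad.adjU (x ^ j) := by
  induction j with
  | zero => rw [pow_zero, pow_zero, Ad.adjU_one]
  | succ j ih => rw [pow_succ, ih, pow_succ', Ad.adjU_mul]

theorem exists_gu_pow_eq [Fintype K] (hK : Fintype.card K = q ^ 2) (hr : r.Prime) (lam : K)
    (hlam1 : lam ^ (q + 1) = 1) (hnp : ∀ b : K, b ^ r ≠ lam) (hrn : r ∣ n) :
    ∃ E : ↥(Cfsg.GU n K q), E.1.1 ^ r = lam • 1 := by
  obtain ⟨σ, Ad, θ₀, hσ, hσσ, hθ₀, hAdσ, hAdj, hGU⟩ := FCR.gu_data n hK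
  obtain ⟨E0, hE0⟩ := PGLR.exists_pow_eq (F := K) (n := n) r hr.pos lam hrn
  have hlam0 : lam ≠ 0 := by
    rintro rfl
    rw [zero_pow (by omega)] at hlam1
    exact zero_ne_one hlam1
  obtain ⟨s, hs⟩ : ∃ s, r = s + 1 := ⟨r - 1, by have := hr.two_le; omega⟩
  obtain ⟨E, hE⟩ : ∃ E : GL (Fin n) K, E.1 = E0 := by
    refine ⟨⟨E0, lam⁻¹ • E0 ^ s, ?_, ?_⟩, rfl⟩
    · rw [Matrix.mul_smul, ← pow_succ', ← hs, hE0, smul_smul, inv_mul_cancel₀ hlam0, one_smul]
    · rw [Matrix.smul_mul, ← pow_succ, ← hs, hE0, smul_smul, inv_mul_cancel₀ hlam0, one_smul]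
  have hEr : E.1 ^ r = lam • 1 := by rw [hE]; exact hE0
  have hE'r : ((Ad.adjU E)⁻¹).1 ^ r = lam • 1 := by
    rw [← Units.val_pow_eq_pow_val, inv_pow, adjU_pow']
    have h1 : (Ad.adjU (E ^ r)).1 = (lam ^ q) • 1 := by
      rw [Ad.adjU_val, Units.val_pow_eq_pow_val, hEr, Ad.smul', Ad.one', hAdσ, hσ]
    have h2 : ((Ad.adjU (E ^ r))⁻¹).1 * (Ad.adjU (E ^ r)).1 = 1 := by
      rw [← Units.val_mul, inv_mul_cancel, Units.val_one]
    rw [h1, Matrix.mul_smul, mul_one] at h2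
    have h3 : lam * lam ^ q = 1 := by rw [← pow_succ']; exact hlam1
    have h4 := congrArg (fun M => lam • M) h2
    simp only [smul_smul, h3, one_smul] at h4
    exact h4
  obtain ⟨Q, hQ, hQE⟩ := PGLR.conj_of_pow_nonpower r hr lam hnp E.1 ((Ad.adjU E)⁻¹).1 hEr hE'r
  have hconj : IsConj E (Ad.adjU E)⁻¹ := by
    obtain ⟨c, hc⟩ := (Matrix.isUnit_iff_isUnit_det _).mpr hQ
    apply isConj_iff.mpr
    refine ⟨c⁻¹, ?_⟩
    apply Units.ext
    show (c⁻¹).1 * E.1 * (c⁻¹⁻¹).1 = ((Ad.adjU E)⁻¹).1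
    rw [inv_inv, mul_assoc, hc, hQE, ← mul_assoc, ← hc, ← Units.val_mul, inv_mul_cancel,
      Units.val_one, one_mul]
  obtain ⟨B, hB⟩ := GUSemi.conj_into_gu_of_dual hK σ Ad hσ hAdj E hconj
  refine ⟨B, ?_⟩
  obtain ⟨d, hd⟩ := isConj_iff.mp hB
  rw [← hd, ← Units.val_pow_eq_pow_val, conj_pow, Units.val_mul, Units.val_mul,
    Units.val_pow_eq_pow_val, hEr, Matrix.mul_smul, mul_one, Matrix.smul_mul, ← Units.val_mul,
    mul_inv_cancel, Units.val_one]

theorem pgu_order_r_classes [Fintype K] (hK : Fintype.card K = q ^ 2) (hn : 3 ≤ n) (hr : r.Prime)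
    (hr2 : r ≠ 2) (hrq : r ∣ q + 1) :
    Nat.card {C : ConjClasses (↥(Cfsg.GU n K q) ⧸ Subgroup.center ↥(Cfsg.GU n K q)) //
      ∃ g : ↥(Cfsg.GU n K q) ⧸ Subgroup.center ↥(Cfsg.GU n K q),
        ConjClasses.mk g = C ∧ orderOf g = r}
      = ((n + r - 1).choose (r - 1) - r - (if r ∣ n then 1 else 0)) / r
        + r * (if r ∣ n then 1 else 0) := by
  classical
  have hn0 : 0 < n := by omega
  have hn1 : 1 ≤ n := by omega
  have : NeZero r := ⟨hr.ne_zero⟩
  have : Fact r.Prime := ⟨hr⟩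
  have hr2' : 2 ≤ r := hr.two_le
  obtain ⟨γ, hγ1, hγne, hcos1, hcos2, ζ, hζ, hζq⟩ := exists_mu_data hK r hr hr2 hrq
  have hnorm0 : ∀ x : K, x ^ (q + 1) = 1 → x ≠ 0 := by
    rintro x hx rfl
    rw [zero_pow (by omega)] at hx
    exact zero_ne_one hx
  have hγ0 : γ ≠ 0 := hnorm0 γ hγ1
  have hζ1 : ζ ^ r = 1 := hζ.pow_eq_one
  have hevq : ∀ k : ZMod r, ev ζ k ^ (q + 1) = 1 := by
    intro k
    unfold ev
    rw [← pow_mul, mul_comm, pow_mul, hζq, one_pow]
  have hnp : ∀ j, 0 < j → j < r → ∀ b : K, b ^ r ≠ γ ^ j := by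
    intro j hj0 hjr b hb
    have hb0 : b ≠ 0 := by
      rintro rfl
      rw [zero_pow hr.ne_zero] at hb
      exact pow_ne_zero _ hγ0 hb.symm
    have := hcos2 j 0 hjr hr.pos b hb0 (by rw [pow_zero, mul_one]; exact hb.symm)
    omega
  obtain ⟨lab, hlab⟩ : ∃ lab : MS r n → (Fin n → ZMod r), ∀ m j, cnt (lab m) j = m.1 j :=
    ⟨fun m => (exists_labelling m.1 m.2.1).choose, fun m => (exists_labelling m.1 m.2.1).choose_spec⟩
  have hE : ∀ j : Fin (r - 1), r ∣ n →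
      ∃ E : ↥(Cfsg.GU n K q), E.1.1 ^ r = (γ ^ (j.val + 1)) • 1 := by
    intro j h
    have hj := j.2
    exact exists_gu_pow_eq hK hr (γ ^ (j.val + 1))
      (by rw [← pow_mul, mul_comm, pow_mul, hγ1, one_pow])
      (hnp (j.val + 1) (by omega) (by omega)) h
  have hDgU : ∀ f : Fin n → ZMod r, ∃ U : ↥(Cfsg.GU n K q), U.1.1 = Dg ζ f := by
    intro f
    exact ⟨Cfsg.Agent.S0783.diagGU (fun i => ev ζ (f i)) (fun i => hevq (f i)), rfl⟩
  obtain ⟨rep, hrep1, hrep2⟩ : ∃ rep : AddAction.orbitRel.Quotient (ZMod r) (MS r n) ⊕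
      {j : Fin (r - 1) // r ∣ n} → ↥(Cfsg.GU n K q),
      (∀ o, (rep (Sum.inl o)).1.1 = Dg ζ (lab (Quotient.out o))) ∧
      (∀ u : {j : Fin (r - 1) // r ∣ n}, (rep (Sum.inr u)).1.1 ^ r = (γ ^ (u.1.val + 1)) • 1) :=
    ⟨Sum.elim (fun o => (hDgU (lab (Quotient.out o))).choose) (fun u => (hE u.1 u.2).choose),
      fun o => (hDgU (lab (Quotient.out o))).choose_spec, fun u => (hE u.1 u.2).choose_spec⟩
  rw [PGLI.card_classes_of_reps (fun x => orderOf x = r)
    (AddAction.orbitRel.Quotient (ZMod r) (MS r n) ⊕ {j : Fin (r - 1) // r ∣ n})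
    (fun t => QuotientGroup.mk (rep t))]
  · have hfin : Finite (MS r n) := ms_finite
    have hcardT2 : Nat.card {j : Fin (r - 1) // r ∣ n} = (r - 1) * (if r ∣ n then 1 else 0) := by
      by_cases h : r ∣ n
      · rw [if_pos h, mul_one]
        have : Nat.card {j : Fin (r - 1) // r ∣ n} = Nat.card (Fin (r - 1)) := by
          apply Nat.card_congr
          exact ⟨fun j => j.1, fun j => ⟨j, h⟩, fun j => rfl, fun j => rfl⟩
        rw [this, Nat.card_eq_fintype_card, Fintype.card_fin]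
      · rw [if_neg h, mul_zero]
        have : IsEmpty {j : Fin (r - 1) // r ∣ n} := ⟨fun u => h u.2⟩
        exact Nat.card_of_isEmpty
    rw [Nat.card_sum, hcardT2]
    apply final_arith r n _ (Nat.card (MS r n)) hr2' (by omega) _ ?_ (card_orbits (by omega))
      (card_ms (by omega))
    by_cases h : r ∣ n
    · right; rw [if_pos h]
    · left; rw [if_neg h]
  · rintro (o | u)
    · show orderOf (QuotientGroup.mk (rep (Sum.inl o))) = r
      rw [orderOf_mk_eq_prime_iff_gu hK hn1 hr, hrep1]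
      refine ⟨?_, 1, ?_⟩
      · intro c hc
        obtain ⟨j, hj⟩ := (Dg_scalar_iff ζ hζ hn0 _).mp ⟨c, hc⟩
        rw [hlab] at hj
        exact (Quotient.out o).2.2 j hj
      · rw [one_smul]; exact Dg_pow ζ hζ1 _
    · show orderOf (QuotientGroup.mk (rep (Sum.inr u))) = r
      rw [orderOf_mk_eq_prime_iff_gu hK hn1 hr]
      refine ⟨?_, _, hrep2 u⟩
      intro c hc
      have h3 := hrep2 u
      rw [hc, smul_pow, one_pow] at h3
      have hu := u.1.2
      exact hnp (u.1.val + 1) (by omega) (by omega) c (PGLI.smul_one_inj hn0 _ _ h3)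
  · intro gbar hg
    obtain ⟨g, rfl⟩ := QuotientGroup.mk_surjective gbar
    rw [orderOf_mk_eq_prime_iff_gu hK hn1 hr] at hg
    obtain ⟨hns, lam, hlam⟩ := hg
    have hlamq : lam ^ (q + 1) = 1 := by
      apply norm_of_scalar_gu hK hn1 (g ^ r) lam
      rw [← hlam]
      rfl
    have hlam0 : lam ≠ 0 := hnorm0 lam hlamq
    obtain ⟨j, hjr, c, hcq, hlamc⟩ := hcos1 lam hlamq
    have hc0 : c ≠ 0 := hnorm0 c hcq
    obtain ⟨a, ha⟩ : ∃ a, a = c⁻¹ • g.1.1 := ⟨_, rfl⟩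
    have haA : g.1.1 = c • a := by rw [ha, smul_smul, mul_inv_cancel₀ hc0, one_smul]
    have har : a ^ r = (γ ^ j) • 1 := by
      rw [ha, smul_pow, hlam, smul_smul, hlamc, inv_pow]
      congr 1
      field_simp
    have hans : ∀ c' : K, a ≠ c' • 1 := by
      intro c' hc'
      apply hns (c * c')
      rw [haA, hc', smul_smul]
    by_cases hj0 : j = 0
    · subst hj0
      rw [pow_zero, one_smul] at har
      obtain ⟨P, χ, hP, hχ, hPa⟩ := exists_diag a r hr.pos ζ hζ har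
      obtain ⟨f, hf⟩ : ∃ f : Fin n → ZMod r, ∀ i, ev ζ (f i) = χ i :=
        ⟨fun i => (ev_surj ζ hζ (χ i) (hχ i)).choose, fun i => (ev_surj ζ hζ (χ i) (hχ i)).choose_spec⟩
      have hPa' : a * P = P * Dg ζ f := by
        rw [hPa]; unfold Dg
        congr 2
        funext i
        exact (hf i).symm
      have hfns : ∀ j, cnt f j ≠ n := by
        intro j hj
        obtain ⟨c', hc'⟩ := (Dg_scalar_iff ζ hζ hn0 f).mpr ⟨j, hj⟩
        apply hans c'
        rw [hc', Matrix.mul_smul, mul_one] at hPa'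
        obtain ⟨u, rfl⟩ := (Matrix.isUnit_iff_isUnit_det P).mpr hP
        have h3 := congrArg (fun M => M * u.inv) hPa'
        simp only [mul_assoc, Matrix.smul_mul] at h3
        rw [Units.inv_eq_val_inv, Units.mul_inv, mul_one] at h3
        exact h3
      obtain ⟨m, hm⟩ : ∃ m : MS r n, m.1 = cnt f := ⟨⟨cnt f, sum_cnt f, hfns⟩, rfl⟩
      obtain ⟨o, ho⟩ : ∃ o : AddAction.orbitRel.Quotient (ZMod r) (MS r n), o = Quotient.mk'' m :=
        ⟨_, rfl⟩
      have hrel : Quotient.out o ∈ AddAction.orbit (ZMod r) m := by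
        have h1 : Quotient.mk'' (Quotient.out o) = (Quotient.mk'' m :
            AddAction.orbitRel.Quotient (ZMod r) (MS r n)) := by
          rw [← ho]; exact Quotient.out_eq o
        exact Quotient.exact h1
      obtain ⟨k, hk⟩ := hrel
      have hcnt : ∀ j, cnt (fun i => f i + k) j = cnt (lab (Quotient.out o)) j := by
        intro j
        rw [cnt_shift, hlab, ← hk]
        show cnt f (j - k) = (k +ᵥ m).1 j
        rw [ms_vadd_apply, hm]
      obtain ⟨Q', hQ', hQQ⟩ := Dg_conj_of_cnt ζ hζ _ _ hcnt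
      refine ⟨Sum.inl o, ?_⟩
      rw [isConj_mk_iff_gu hK hn1, hrep1]
      refine ⟨P * Q', c * (ev ζ k)⁻¹, ?_, ?_, ?_⟩
      · rw [Matrix.det_mul]; exact hP.mul hQ'
      · rw [mul_pow, inv_pow, hcq, hevq, inv_one, mul_one]
      · rw [haA, Matrix.smul_mul, ← mul_assoc, hPa', mul_assoc P, mul_assoc P, ← hQQ,
          ← smul_Dg ζ hζ1, Matrix.smul_mul, Matrix.mul_smul, smul_smul, mul_assoc c,
          inv_mul_cancel₀ (ev_ne_zero ζ hζ1 k), mul_one]
    · have hnpj : ∀ b : K, b ^ r ≠ γ ^ j := hnp j (by omega) hjr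
      have hrn : r ∣ n := dvd_of_nonpower r hr (γ ^ j) hnpj a har
      obtain ⟨u, hu⟩ : ∃ u : {j : Fin (r - 1) // r ∣ n}, u.1.val + 1 = j :=
        ⟨⟨⟨j - 1, by omega⟩, hrn⟩, by show j - 1 + 1 = j; omega⟩
      have hEu := hrep2 u
      rw [hu] at hEu
      obtain ⟨Q, hQ, hQa⟩ := conj_of_pow_nonpower r hr (γ ^ j) hnpj a _ har hEu
      refine ⟨Sum.inr u, ?_⟩
      rw [isConj_mk_iff_gu hK hn1]
      refine ⟨Q, c, hQ, hcq, ?_⟩
      rw [haA, Matrix.smul_mul, hQa]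
  · intro t t' hconj
    rw [isConj_mk_iff_gu hK hn1] at hconj
    obtain ⟨Q, ξ, hQ, hξq, hgQ⟩ := hconj
    have hξ : ξ ≠ 0 := hnorm0 ξ hξq
    rcases t with o | u <;> rcases t' with o' | u'
    · rw [hrep1, hrep1] at hgQ
      have h1 := pow_rel' hn0 _ _ Q ξ 1 1 hQ hgQ (by rw [one_smul]; exact Dg_pow ζ hζ1 _)
        (by rw [one_smul]; exact Dg_pow ζ hζ1 _)
      rw [mul_one] at h1
      obtain ⟨k, hk⟩ := ev_surj ζ hζ ξ h1.symm
      rw [← hk, ← Matrix.mul_smul, smul_Dg ζ hζ1] at hgQ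
      have hout : Quotient.out o = k +ᵥ Quotient.out o' := by
        apply Subtype.ext
        funext j
        rw [ms_vadd_apply, ← hlab, ← hlab, ← cnt_shift, ← mult_Dg ζ hζ, ← mult_Dg ζ hζ]
        exact mult_of_intertwine _ _ Q hQ hgQ _
      congr 1
      rw [← Quotient.out_eq o, ← Quotient.out_eq o']
      apply Quotient.sound
      exact ⟨k, hout.symm⟩
    · exfalso
      have h1 := pow_rel' hn0 _ _ Q ξ 1 _ hQ hgQ (by rw [hrep1, one_smul]; exact Dg_pow ζ hζ1 _)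
        (hrep2 u')
      have hu := u'.1.2
      apply hnp (u'.1.val + 1) (by omega) (by omega) ξ⁻¹
      rw [inv_pow]
      have hξr : ξ ^ r ≠ 0 := pow_ne_zero _ hξ
      field_simp
      exact h1
    · exfalso
      have h1 := pow_rel' hn0 _ _ Q ξ _ 1 hQ hgQ (hrep2 u)
        (by rw [hrep1, one_smul]; exact Dg_pow ζ hζ1 _)
      have hu := u.1.2
      apply hnp (u.1.val + 1) (by omega) (by omega) ξ
      rw [h1, mul_one]
    · have h1 := pow_rel' hn0 _ _ Q ξ _ _ hQ hgQ (hrep2 u) (hrep2 u')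
      have hu := u.1.2
      have hu' := u'.1.2
      have := hcos2 _ _ (by omega) (by omega) ξ hξ h1
      congr 1
      apply Subtype.ext
      apply Fin.ext
      omega

end Cfsg.Agent.Lib.Helper16.PGUR
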