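import Mathlib
import Cfsg.Agent.Lib.Helper16.PJord6

set_option autoImplicit false
set_option linter.unusedSectionVars false
set_option linter.unusedSimpArgs false
set_option linter.unusedVariables false
set_option linter.unusedTactic false

namespace Cfsg.Agent.Lib.Helper16.PJord

open Matrix Module Polynomial

theorem add_pow_char_pow_mat {F : Type*} [Field F] {p : ℕ} [Fact p.Prime] [CharP F p] {n : ℕ}
    (N : Matrix (Fin n) (Fin n) F) (k : ℕ) : (1 + N) ^ (p ^ k) = 1 + N ^ (p ^ k) := by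
  induction k with
  | zero => rw [pow_zero, pow_one, pow_one]
  | succ k ih =>
    rw [pow_succ, pow_mul, ih, add_pow_char_mat 1 _ (Commute.one_left _), one_pow, ← pow_mul]

theorem sub_pow_char_pow_mat {F : Type*} [Field F] {p : ℕ} [Fact p.Prime] [CharP F p] {n : ℕ}
    (g : Matrix (Fin n) (Fin n) F) (k : ℕ) : (g - 1) ^ (p ^ k) = g ^ (p ^ k) - 1 := by
  induction k with
  | zero => rw [pow_zero, pow_one, pow_one]
  | succ k ih =>
    rw [pow_succ, pow_mul, ih, sub_pow_char_mat _ 1 (Commute.one_right _), one_pow, ← pow_mul]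

theorem gl_p_power_classes {F : Type*} [Field F] [Fintype F] (p : ℕ) [Fact p.Prime] [CharP F p]
    (n : ℕ) :
    Nat.card {C : ConjClasses (Matrix.GeneralLinearGroup (Fin n) F) //
      ∃ g : Matrix.GeneralLinearGroup (Fin n) F, (∃ k : ℕ, orderOf g = p ^ k) ∧ ConjClasses.mk g = C} =
      Fintype.card (Nat.Partition n) := by
  classical
  have hp : p.Prime := Fact.out
  have hp2 : 2 ≤ p := hp.two_le
  have hq : 2 ≤ Fintype.card F := Fintype.one_lt_card
  have hnp : n ≤ p ^ n := (Nat.lt_pow_self hp2).le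
  have hreal : ∀ μ : Nat.Partition n,
      ∃ (g : GL (Fin n) F) (N : Matrix (Fin n) (Fin n) F), g.1 = 1 + N ∧ N ^ n = 0 ∧
        ∀ j, Nat.card {v : Fin n → F // (N ^ j) *ᵥ v = 0}
          = Fintype.card F ^ (μ.parts.map (min j)).sum := by
    intro μ
    obtain ⟨N, h1, h2, h3⟩ := exists_rep (F := F) n μ.parts μ.parts_sum
    have hle : ∀ a ∈ μ.parts, a ≤ n := by
      intro a ha
      have := Multiset.le_sum_of_mem ha
      rw [μ.parts_sum] at this
      exact this
    have hNn : N ^ n = 0 := h2 n hle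
    have hNp : N ^ (p ^ n) = 0 := by
      obtain ⟨d, hd⟩ := Nat.exists_eq_add_of_le hnp
      rw [hd, pow_add, hNn, zero_mul]
    have hpow : (1 + N) ^ (p ^ n) = 1 := by
      rw [add_pow_char_pow_mat, hNp, add_zero]
    have hpos : 0 < p ^ n := pow_pos hp.pos n
    obtain ⟨s, hs⟩ : ∃ s, p ^ n = s + 1 := ⟨p ^ n - 1, by omega⟩
    refine ⟨⟨1 + N, (1 + N) ^ s, ?_, ?_⟩, N, rfl, hNn, h1⟩
    · rw [← pow_succ', ← hs, hpow]
    · rw [← pow_succ, ← hs, hpow]
  choose rep Nrep hrep1 hrep2 hrep4 using hreal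
  have hcongr : Nat.card {C : ConjClasses (GL (Fin n) F) //
      ∃ g : GL (Fin n) F, (∃ k : ℕ, orderOf g = p ^ k) ∧ ConjClasses.mk g = C} =
      Nat.card {C : ConjClasses (GL (Fin n) F) //
      ∃ g : GL (Fin n) F, ConjClasses.mk g = C ∧ (∃ k : ℕ, orderOf g = p ^ k)} := by
    apply Nat.card_congr
    apply Equiv.subtypeEquivRight
    intro C
    constructor
    · rintro ⟨g, h1, h2⟩
      exact ⟨g, h2, h1⟩
    · rintro ⟨g, h1, h2⟩
      exact ⟨g, h2, h1⟩
  rw [hcongr, PGLI.card_classes_of_reps (fun g : GL (Fin n) F => ∃ k : ℕ, orderOf g = p ^ k)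
    (Nat.Partition n) rep, Nat.card_eq_fintype_card]
  · intro μ
    have h1 : (rep μ) ^ (p ^ n) = 1 := by
      apply Units.ext
      have hNp : Nrep μ ^ (p ^ n) = 0 := by
        obtain ⟨d, hd⟩ := Nat.exists_eq_add_of_le hnp
        rw [hd, pow_add, hrep2, zero_mul]
      rw [Units.val_pow_eq_pow_val, hrep1, add_pow_char_pow_mat, hNp, add_zero, Units.val_one]
    have h2 := orderOf_dvd_of_pow_eq_one h1
    obtain ⟨k, -, hk⟩ := (Nat.dvd_prime_pow hp).mp h2
    exact ⟨k, hk⟩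
  · rintro g ⟨k, hg⟩
    have hgp : g.1 ^ (p ^ k) = 1 := by
      rw [← Units.val_pow_eq_pow_val, ← hg, pow_orderOf_eq_one, Units.val_one]
    obtain ⟨N, hN⟩ : ∃ N : Matrix (Fin n) (Fin n) F, N = g.1 - 1 := ⟨_, rfl⟩
    have hgN : g.1 = 1 + N := by rw [hN]; abel
    have hNp : N ^ (p ^ k) = 0 := by
      rw [hN, sub_pow_char_pow_mat, hgp, sub_self]
    have hNm : N ^ (p ^ k + n) = 0 := by rw [pow_add, hNp, zero_mul]
    obtain ⟨s, hsum, hle, hpos, hcounts⟩ := exists_ker_counts_ms N (p ^ k) hNp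
    refine ⟨⟨s, fun {i} hi => hpos i hi, hsum⟩, ?_⟩
    have hN'm : Nrep ⟨s, fun {i} hi => hpos i hi, hsum⟩ ^ (p ^ k + n) = 0 := by
      rw [pow_add, hrep2, mul_zero]
    obtain ⟨Q, hQ⟩ := conj_of_ker_counts N (Nrep ⟨s, fun {i} hi => hpos i hi, hsum⟩) (p ^ k + n) hNm
      hN'm (fun j => by rw [hcounts j, hrep4])
    apply isConj_iff.mpr
    refine ⟨Q, ?_⟩
    apply mul_inv_eq_of_eq_mul
    apply Units.ext
    rw [Units.val_mul, Units.val_mul, hrep1, hgN, mul_add, add_mul, mul_one, one_mul, hQ]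
  · intro μ μ' hconj
    obtain ⟨c, hc⟩ := isConj_iff.mp hconj
    have h1 : c.1 * (rep μ).1 = (rep μ').1 * c.1 := by
      have := congrArg Units.val (eq_mul_of_mul_inv_eq hc)
      exact this
    rw [hrep1, hrep1, mul_add, add_mul, mul_one, one_mul] at h1
    have h2 : c.1 * Nrep μ = Nrep μ' * c.1 := add_left_cancel h1
    apply Nat.Partition.ext
    apply ms_eq_of_sum_min _ _ (fun a ha => μ.parts_pos ha) (fun a ha => μ'.parts_pos ha)
    intro j
    have h3 := card_ker_conj (Nrep μ) (Nrep μ') c h2 j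
    rw [hrep4, hrep4] at h3
    exact Nat.pow_right_injective hq h3

end Cfsg.Agent.Lib.Helper16.PJord
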