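import Cfsg.Agent.Lib.Helper29.PLKNP1
import Cfsg.Agent.Lib.Helper29.PLKNP2
import Cfsg.Agent.Lib.Helper24.PLKNP3

/-!
# PLK row NP4 (second-write, helper16): `plknp4_h16_psl_num`

EXACT statement of the Skel row `psl_num`, under an own name (the row and the verbatim name belong to
helper21).
-/

set_option autoImplicit false

namespace Cfsg.Agent.Lib.Helper1.PLK

open Cfsg.Agent.Lib.Helper29.GLK
open Cfsg.Agent.Lib.Helper1.SLK

/-- splitting off one summand and bounding the others uniformly -/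
theorem plknp4_h16_split {α : Type*} (Z : Finset α) (z0 : α) (hz0 : z0 ∈ Z) (f : α → ℕ)
    (A B : ℕ) (h0 : f z0 ≤ A) (hB : ∀ z ∈ Z, z ≠ z0 → f z ≤ B) :
    ∑ z ∈ Z, f z ≤ A + (Z.card - 1) * B := by
  classical
  rw [← Finset.add_sum_erase Z f hz0]
  have h1 : ∑ z ∈ Z.erase z0, f z ≤ (Z.erase z0).card * B := by
    calc ∑ z ∈ Z.erase z0, f z ≤ ∑ _z ∈ Z.erase z0, B :=
          Finset.sum_le_sum (fun z hz =>
            hB z (Finset.mem_of_mem_erase hz) (Finset.ne_of_mem_erase hz))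
      _ = (Z.erase z0).card * B := by simp
  rw [Finset.card_erase_of_mem hz0] at h1
  omega

/-- NP4, the cases `n ≤ 5` -/
theorem plknp4_h16_small (n q : ℕ) (K : ℕ → ℕ) (hn : 2 ≤ n) (hn5 : n ≤ 5) (hq : 2 ≤ q)
    (hK : ∀ m, K m ≤ cnt q m 1 m)
    {α : Type*} (Z : Finset α) (z0 : α) (hz0 : z0 ∈ Z) (m f : α → ℕ)
    (hcard : Z.card = Nat.gcd n (q - 1)) (hm0 : m z0 = 1)
    (hm : ∀ z ∈ Z, z ≠ z0 → 2 ≤ m z ∧ m z ∣ n)
    (hf : ∀ z ∈ Z, f z ≤ ubdN q K (n / m z)) :
    ∑ z ∈ Z, f z ≤ q ^ (n - 1) + 5 * q ^ (n - 2) := by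
  have hU1 := ubdN_one q K hq hK
  have hU2 := ubdN_two q K hq hK
  have h0 : f z0 ≤ ubdN q K n := by
    have := hf z0 hz0
    rwa [hm0, Nat.div_one] at this
  have hdn : Z.card ≤ n := by
    rw [hcard]; exact Nat.le_of_dvd (by omega) (Nat.gcd_dvd_left _ _)
  interval_cases n
  · -- n = 2
    have hB : ∀ z ∈ Z, z ≠ z0 → f z ≤ 1 := by
      intro z hz hne
      obtain ⟨h2, hd⟩ := hm z hz hne
      have hle : m z ≤ 2 := Nat.le_of_dvd (by norm_num) hd
      have hmz : m z = 2 := by omega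
      have := hf z hz
      rw [hmz] at this
      exact this.trans hU1
    have := plknp4_h16_split Z z0 hz0 f (q + 4) 1 (h0.trans hU2) hB
    norm_num
    omega
  · -- n = 3
    have hA := (ubdN_bounds 3 q K (by norm_num) hq hK).2 (le_refl _)
    have hB : ∀ z ∈ Z, z ≠ z0 → f z ≤ 1 := by
      intro z hz hne
      obtain ⟨h2, hd⟩ := hm z hz hne
      have hle : m z ≤ 3 := Nat.le_of_dvd (by norm_num) hd
      have hmz : m z = 3 := by
        rcases Nat.lt_or_ge (m z) 3 with h | h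
        · have h2' : m z = 2 := by omega
          rw [h2'] at hd
          omega
        · omega
      have := hf z hz
      rw [hmz] at this
      exact this.trans hU1
    have := plknp4_h16_split Z z0 hz0 f _ 1 (h0.trans hA) hB
    norm_num at this ⊢
    omega
  · -- n = 4
    have hA := (ubdN_bounds 4 q K (by norm_num) hq hK).2 (by norm_num)
    have hB : ∀ z ∈ Z, z ≠ z0 → f z ≤ q + 4 := by
      intro z hz hne
      obtain ⟨h2, hd⟩ := hm z hz hne
      have hle : m z ≤ 4 := Nat.le_of_dvd (by norm_num) hd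
      have := hf z hz
      have hmz : m z = 2 ∨ m z = 4 := by
        rcases Nat.lt_or_ge (m z) 3 with h | h
        · left; omega
        · rcases Nat.lt_or_ge (m z) 4 with h' | h'
          · have h3 : m z = 3 := by omega
            rw [h3] at hd
            omega
          · right; omega
      rcases hmz with hmz | hmz
      · rw [hmz] at this
        exact this.trans hU2
      · rw [hmz] at this
        exact (this.trans hU1).trans (by omega)
    have hs := plknp4_h16_split Z z0 hz0 f _ (q + 4) (h0.trans hA) hB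
    norm_num at hs ⊢
    rcases Nat.lt_or_ge q 4 with hq4 | hq4
    · interval_cases q
      · -- q = 2 : gcd 4 1 = 1
        have : Z.card = 1 := by rw [hcard]; rfl
        rw [this] at hs
        omega
      · -- q = 3 : gcd 4 2 = 2
        have : Z.card = 2 := by rw [hcard]; rfl
        rw [this] at hs
        omega
    · have h3 : (Z.card - 1) * (q + 4) ≤ 3 * (q + 4) :=
        Nat.mul_le_mul_right _ (by omega)
      nlinarith [hs, h3, hq4]
  · -- n = 5
    have hA := (ubdN_bounds 5 q K (by norm_num) hq hK).2 (by norm_num)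
    have hB : ∀ z ∈ Z, z ≠ z0 → f z ≤ 1 := by
      intro z hz hne
      obtain ⟨h2, hd⟩ := hm z hz hne
      have hle : m z ≤ 5 := Nat.le_of_dvd (by norm_num) hd
      have hmz : m z = 5 := by
        rcases Nat.lt_or_ge (m z) 5 with h | h
        · have h2' : m z = 2 ∨ m z = 3 ∨ m z = 4 := by omega
          rcases h2' with h2' | h2' | h2' <;> rw [h2'] at hd <;> omega
        · omega
      have := hf z hz
      rw [hmz] at this
      exact this.trans hU1
    have hs := plknp4_h16_split Z z0 hz0 f _ 1 (h0.trans hA) hB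
    norm_num at hs ⊢
    have hq3 : 8 ≤ q ^ 3 := by
      calc 8 = 2 ^ 3 := by norm_num
        _ ≤ q ^ 3 := Nat.pow_le_pow_left hq 3
    omega

/-- NP4, the case `6 ≤ n` -/
theorem plknp4_h16_large (n q : ℕ) (K : ℕ → ℕ) (hn : 6 ≤ n) (hq : 2 ≤ q)
    (hK : ∀ m, K m ≤ cnt q m 1 m)
    {α : Type*} (Z : Finset α) (z0 : α) (hz0 : z0 ∈ Z) (m f : α → ℕ)
    (hcard : Z.card = Nat.gcd n (q - 1)) (hm0 : m z0 = 1)
    (hm : ∀ z ∈ Z, z ≠ z0 → 2 ≤ m z ∧ m z ∣ n)
    (hf : ∀ z ∈ Z, f z ≤ ubdN q K (n / m z)) :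
    ∑ z ∈ Z, f z ≤ q ^ (n - 1) + 5 * q ^ (n - 2) := by
  have hU1 := ubdN_one q K hq hK
  have h0 : f z0 ≤ ubdN q K n := by
    have := hf z0 hz0
    rwa [hm0, Nat.div_one] at this
  have hA := (ubdN_bounds n q K (by omega) hq hK).2 (by omega)
  have hdq : Z.card ≤ q - 1 := by
    rw [hcard]; exact Nat.le_of_dvd (by omega) (Nat.gcd_dvd_right _ _)
  have hq1 : 1 ≤ q := by omega
  set P := q ^ (n / 2 - 1) with hP
  have hP1 : 1 ≤ P := Nat.one_le_pow _ _ (by omega)
  have hB : ∀ z ∈ Z, z ≠ z0 → 2 * f z ≤ 5 * P := by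
    intro z hz hne
    obtain ⟨h2, hd⟩ := hm z hz hne
    have hle : m z ≤ n := Nat.le_of_dvd (by omega) hd
    have hk1 : 1 ≤ n / m z := Nat.div_pos hle (by omega)
    have hk2 : n / m z ≤ n / 2 := Nat.div_le_div_left h2 (by norm_num)
    have := hf z hz
    rcases Nat.lt_or_ge (n / m z) 2 with hk | hk
    · have hk' : n / m z = 1 := by omega
      rw [hk'] at this
      have : f z ≤ 1 := this.trans hU1
      omega
    · have hb := (ubdN_bounds (n / m z) q K hk hq hK).1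
      have hpow : q ^ (n / m z - 1) ≤ P :=
        Nat.pow_le_pow_right hq1 (by omega)
      omega
  have hs := plknp4_h16_split Z z0 hz0 (fun z => 2 * f z) (2 * (q ^ (n - 1) + 3 * q ^ (n - 2)))
    (5 * P) (by show 2 * f z0 ≤ _; omega) hB
  rw [← Finset.mul_sum] at hs
  -- q ^ (n - 2) = P * q ^ e with 2 ≤ e
  have he : n - 2 = (n / 2 - 1) + (n - 2 - (n / 2 - 1)) := by omega
  have hpow : q ^ (n - 2) = P * q ^ (n - 2 - (n / 2 - 1)) := by
    rw [hP, ← pow_add, ← he]
  have hq2 : q ^ 2 ≤ q ^ (n - 2 - (n / 2 - 1)) :=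
    Nat.pow_le_pow_right hq1 (by omega)
  have hqq : 2 * q ≤ q ^ 2 := by nlinarith
  have h5 : (Z.card - 1) * (5 * P) ≤ q * (5 * P) := Nat.mul_le_mul_right _ (by omega)
  have h6 : q * (5 * P) ≤ 4 * q ^ (n - 2) := by
    rw [hpow]
    have : P * (2 * q) ≤ P * q ^ (n - 2 - (n / 2 - 1)) :=
      Nat.mul_le_mul_left _ (hqq.trans hq2)
    nlinarith [this]
  omega

/-- NP4 [M-L], second-write: the final count. -/
theorem plknp4_h16_psl_num (n q : ℕ) (K : ℕ → ℕ) (hn : 2 ≤ n) (hq : 2 ≤ q)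
    (hK : ∀ m, K m ≤ cnt q m 1 m)
    {α : Type*} (Z : Finset α) (z0 : α) (hz0 : z0 ∈ Z) (m f : α → ℕ)
    (hcard : Z.card = Nat.gcd n (q - 1)) (hm0 : m z0 = 1)
    (hm : ∀ z ∈ Z, z ≠ z0 → 2 ≤ m z ∧ m z ∣ n)
    (hf : ∀ z ∈ Z, f z ≤ ubdN q K (n / m z)) :
    ∑ z ∈ Z, f z ≤ q ^ (n - 1) + 5 * q ^ (n - 2) := by
  rcases Nat.lt_or_ge n 6 with h | h
  · exact plknp4_h16_small n q K hn (by omega) hq hK Z z0 hz0 m f hcard hm0 hm hf
  · exact plknp4_h16_large n q K h hq hK Z z0 hz0 m f hcard hm0 hm hf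

end Cfsg.Agent.Lib.Helper1.PLK
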