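import Mathlib
import Cfsg.Agent.Lib.Helper18.PRL.Defs
import Cfsg.Agent.Lib.Helper20.PRLGENK
import Cfsg.Agent.Lib.Helper21.MaxClassP
import Cfsg.Agent.Lib.Helper5.PGroup
import Cfsg.Agent.Lib.Helper5.FqA
import Cfsg.Agent.Lib.Helper1.Nilp

/-!
# Project PRL, piece B4 : the groups of maximal class of order 81
-/

set_option autoImplicit false

namespace Cfsg.Agent.Lib.Helper18.PRL

open scoped commutatorElement

universe u

section three
variable {G : Type u} [Group G] [Finite G] {n : ℕ}

/-- PRL-B4 -/
theorem rank_two_or_core_free (h : MC 3 G 4) :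
    (∀ H : Subgroup G, ∃ T : Finset G, T.card ≤ 2 ∧ Subgroup.closure (T : Set G) = H) ∨
      ∃ K : Subgroup G, Nat.card K = 9 ∧ K.normalCore = ⊥ := by
  classical
  have hp3 : Fact (Nat.Prime 3) := ⟨Nat.prime_three⟩
  have hcard : Nat.card G = 3 ^ 4 := h.1
  have hP : IsPGroup 3 G := IsPGroup.of_card hcard
  by_cases hall : ∀ H : Subgroup G, (frattini ↥H).index ≤ 3 ^ 2
  · left
    intro H
    exact two_gen_of_frattini hP H (hall H)
  · right
    rw [not_forall] at hall
    obtain ⟨H, hH⟩ := hall
    rw [not_le] at hH
    have hHp : IsPGroup 3 ↥H := hP.to_subgroup H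
    obtain ⟨k, hk⟩ := hHp.exists_card_eq
    have hk4 : k ≤ 4 := by
      have h1 : Nat.card ↥H ∣ Nat.card G := Subgroup.card_subgroup_dvd_card H
      rw [hk, hcard] at h1
      exact (Nat.pow_dvd_pow_iff_le_right (by norm_num)).mp h1
    have hdvd : (frattini ↥H).index ∣ 3 ^ k := hk ▸ Subgroup.index_dvd_card (frattini ↥H)
    obtain ⟨m, hmk, hm⟩ := (Nat.dvd_prime_pow Nat.prime_three).mp hdvd
    have hm3 : 3 ≤ m := by
      rw [hm] at hH
      by_contra hlt
      have : m ≤ 2 := by omega
      have := Nat.pow_le_pow_right (by norm_num : 0 < 3) this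
      omega
    -- `H` is not the whole group
    have hk3 : k = 3 := by
      by_contra hne
      have hk4' : k = 4 := by omega
      have hHtop : H = ⊤ := by
        apply Subgroup.eq_top_of_card_eq
        rw [hk, hk4', hcard]
      have e1 : (frattini ↥H).index = (frattini G).index := by
        subst hHtop
        exact Cfsg.Agent.Lib.Helper5.Fq.frattini_index_equiv Subgroup.topEquiv
      have h2 := (Cfsg.Agent.S0012.result 3 hP).1
      have h3 := Subgroup.index_dvd_of_le h2
      have h4 := (Cfsg.Agent.Lib.Helper21.mc_p_index 3 4 G (by norm_num) h.1 h.2).1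
      rw [h4, ← e1] at h3
      have := Nat.le_of_dvd (by norm_num) h3
      omega
    subst hk3
    have hm3' : m = 3 := by omega
    subst hm3'
    -- the Frattini subgroup of `H` is trivial
    have hfr : frattini ↥H = ⊥ := by
      have h1 := Subgroup.card_mul_index (frattini ↥H)
      rw [hm, hk] at h1
      have h2 : Nat.card ↥(frattini ↥H) = 1 := by
        have : Nat.card ↥(frattini ↥H) * 3 ^ 3 = 1 * 3 ^ 3 := by rw [h1, one_mul]
        exact Nat.eq_of_mul_eq_mul_right (by norm_num) this
      exact Subgroup.card_eq_one.mp h2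
    -- `H` is abelian
    have hHcomm : ∀ a b : G, a ∈ H → b ∈ H → a * b = b * a := by
      intro a b ha hb
      have h1 := (Cfsg.Agent.S0012.result 3 hHp).1
      rw [hfr, le_bot_iff] at h1
      have h2 : ⁅(⟨a, ha⟩ : ↥H), (⟨b, hb⟩ : ↥H)⁆ ∈ commutator ↥H :=
        Subgroup.commutator_mem_commutator (Subgroup.mem_top _) (Subgroup.mem_top _)
      rw [h1, Subgroup.mem_bot, commutatorElement_eq_one_iff_mul_comm] at h2
      exact congrArg Subtype.val h2
    -- the index of `H`
    have hidx : H.index = 3 := by
      have h1 := Subgroup.card_mul_index H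
      rw [hk, hcard] at h1
      have : 3 ^ 3 * H.index = 3 ^ 3 * 3 := by rw [h1]; norm_num
      exact Nat.eq_of_mul_eq_mul_left (by norm_num) this
    -- the centre
    have hZ : Nat.card (Subgroup.center G) = 3 :=
      (Cfsg.Agent.Lib.Helper21.mc_center_card 3 4 (by norm_num) G h.1 h.2).1
    have hZH : Subgroup.center G ≤ H := by
      by_contra hnot
      have hlt : H < H ⊔ Subgroup.center G := by
        apply lt_of_le_of_ne le_sup_left
        intro he
        apply hnot
        rw [he]
        exact le_sup_right
      have htop : H ⊔ Subgroup.center G = ⊤ := by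
        have h1 := Subgroup.relIndex_mul_index (le_of_lt hlt)
        rw [hidx] at h1
        have h2 : (H ⊔ Subgroup.center G).index ∣ 3 := Dvd.intro_left _ h1
        rcases (Nat.dvd_prime Nat.prime_three).mp h2 with h3 | h3
        · exact Subgroup.index_eq_one.mp h3
        · exfalso
          rw [h3] at h1
          have h4 : H.relIndex (H ⊔ Subgroup.center G) = 1 := by omega
          have := Subgroup.relIndex_eq_one.mp h4
          exact absurd (le_antisymm this le_sup_left) (ne_of_gt hlt)
      -- then `H` is central
      have hHc : H ≤ Subgroup.center G := by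
        intro a ha
        rw [Subgroup.mem_center_iff]
        intro g
        have hg : g ∈ H ⊔ Subgroup.center G := by rw [htop]; exact Subgroup.mem_top g
        have hcl : H ⊔ Subgroup.center G ≤ Subgroup.centralizer {a} := by
          apply sup_le
          · intro b hb
            rw [Subgroup.mem_centralizer_singleton_iff]
            exact hHcomm b a hb ha
          · intro b hb
            rw [Subgroup.mem_centralizer_singleton_iff]
            exact (Subgroup.mem_center_iff.mp hb a).symm
        have := hcl hg
        rw [Subgroup.mem_centralizer_singleton_iff] at this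
        exact this
      have := Subgroup.card_le_of_le hHc
      rw [hk, hZ] at this
      omega
    -- a nontrivial central element
    have hZnt : Nontrivial ↥(Subgroup.center G) := by
      rw [← Finite.one_lt_card_iff_nontrivial, hZ]
      norm_num
    obtain ⟨⟨z, hzZ⟩, hz1⟩ := exists_ne (1 : ↥(Subgroup.center G))
    have hz1' : z ≠ 1 := fun e => hz1 (Subtype.ext e)
    have hzH : z ∈ H := hZH hzZ
    have hznot : (⟨z, hzH⟩ : ↥H) ∉ frattini ↥H := by
      rw [hfr, Subgroup.mem_bot]
      intro e
      exact hz1' (congrArg Subtype.val e)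
    rw [Cfsg.Agent.Lib.Helper5.h5_mem_frattini_iff] at hznot
    rw [not_forall] at hznot
    obtain ⟨M, hM⟩ := hznot
    rw [Classical.not_imp] at hM
    obtain ⟨hMco, hzM⟩ := hM
    have hMidx : M.index = 3 := Cfsg.Agent.Lib.Helper5.h5_pgroup_coatom_index hHp hMco
    have hMcard : Nat.card ↥M = 9 := by
      have h1 := Subgroup.card_mul_index M
      rw [hMidx, hk] at h1
      have : Nat.card ↥M * 3 = 9 * 3 := by rw [h1]; norm_num
      exact Nat.eq_of_mul_eq_mul_right (by norm_num) this
    refine ⟨M.map H.subtype, ?_, ?_⟩
    · rw [Subgroup.card_map_of_injective H.subtype_injective, hMcard]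
    · by_contra hne
      have hnil : Group.IsNilpotent G := hP.isNilpotent
      have h1 := Cfsg.Agent.Lib.Helper1.normal_inf_center_ne_bot (M.map H.subtype).normalCore hne
      obtain ⟨⟨w, hw⟩, hw1'⟩ := (Subgroup.ne_bot_iff_exists_ne_one).mp h1
      have hw1 : w ≠ 1 := fun e => hw1' (Subtype.ext e)
      have hwK : w ∈ M.map H.subtype := Subgroup.normalCore_le _ hw.1
      have hwZ : w ∈ Subgroup.center G := hw.2
      -- `w` generates the centre
      have hgen : Subgroup.zpowers (⟨w, hwZ⟩ : ↥(Subgroup.center G)) = ⊤ := by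
        exact zpowers_eq_top_of_prime_card (p := 3) hZ (fun e => hw1 (congrArg Subtype.val e))
      have hzmem : (⟨z, hzZ⟩ : ↥(Subgroup.center G)) ∈
          Subgroup.zpowers (⟨w, hwZ⟩ : ↥(Subgroup.center G)) := by
        rw [hgen]; exact Subgroup.mem_top _
      obtain ⟨i, hi⟩ := Subgroup.mem_zpowers_iff.mp hzmem
      have hzw : w ^ i = z := by
        have := congrArg Subtype.val hi
        simpa using this
      have hzK : z ∈ M.map H.subtype := by
        rw [← hzw]
        exact Subgroup.zpow_mem _ hwK i
      obtain ⟨y, hyM, hyz⟩ := hzK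
      apply hzM
      have : y = ⟨z, hzH⟩ := Subtype.ext hyz
      rw [← this]
      exact hyM

end three

end Cfsg.Agent.Lib.Helper18.PRL
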