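import Mathlib
import Cfsg.Agent.Lib.Helper18.PRL.Defs
import Cfsg.Agent.Lib.Helper18.PRLCUBE
import Cfsg.Agent.Lib.Helper16.PRLU1
import Cfsg.Agent.Lib.Helper12.PRLG1a
import Cfsg.Agent.Lib.Helper11.PRLUNI

/-!
# Project PRL, piece CS : the cube relation modulo `Z_{j-3}`
-/

set_option autoImplicit false

namespace Cfsg.Agent.Lib.Helper18.PRL

open scoped commutatorElement

universe u


/-- commutator with a member of `Z_{k+1}` lies in `Z_k` (either order) -/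
theorem prlcs_comm_mem {X : Type*} [Group X] (k : ℕ) (a b : X) (hb : b ∈ Z X (k + 1)) :
    ⁅a, b⁆ ∈ Z X k ∧ ⁅b, a⁆ ∈ Z X k := by
  have h1 : ⁅b, a⁆ ∈ Z X k := Subgroup.mem_upperCentralSeries_succ_iff.mp hb a
  refine ⟨?_, h1⟩
  have h2 : ⁅a, b⁆ = ⁅b, a⁆⁻¹ := (commutatorElement_inv b a).symm
  rw [h2]
  exact Subgroup.inv_mem _ h1

section three
variable {G : Type u} [Group G] [Finite G] {n : ℕ}

/-- PRL-CS -/
theorem cube_step (h : MC 3 G n) (hn : 5 ≤ n) (hyp : Hyp G n (G1 G)) (s : G) (hs : s ∉ G1 G)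
    (j : ℕ) (hj : 4 ≤ j) (hj' : j ≤ n - 1) (x : G) (hx1 : x ∈ G1 G) (hx : x ∈ Z G j) :
    x ^ 3 * ⁅s, x⁆ ^ 3 * ⁅s, ⁅s, x⁆⁆ ∈ Z G (j - 3) := by
  have : Fact (Nat.Prime 3) := ⟨Nat.prime_three⟩
  have hn4 : 4 ≤ n := by omega
  have hidx : (G1 G).index = 3 := G1_index h hn4
  have hus : Unif G n s := unif_of_notMem h hn4 (G1 G) hidx hyp s hs hs
  have hsx : s * x ∉ G1 G := by
    intro hmem
    apply hs
    have := Subgroup.mul_mem _ hmem (Subgroup.inv_mem _ hx1)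
    rwa [mul_inv_cancel_right] at this
  have husx : Unif G n (s * x) := unif_of_notMem h hn4 (G1 G) hidx hyp (s * x) hsx hsx
  have h1le : Z G 1 ≤ Z G (j - 3) := Subgroup.upperCentralSeries_mono G (by omega)
  have hs3 : s ^ 3 ∈ Z G 1 := (unif_cent h hn4 s hus).2
  have hsx3 : (s * x) ^ 3 ∈ Z G 1 := (unif_cent h hn4 (s * x) husx).2
  have hs3c : s ^ 3 ∈ Subgroup.center G := by
    have : Z G 1 = Subgroup.center G := Subgroup.upperCentralSeries_one G
    rw [← this]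
    exact hs3
  -- levels
  have e1 : j = (j - 1) + 1 := by omega
  have e2 : j - 1 = (j - 2) + 1 := by omega
  have e3 : j - 2 = (j - 3) + 1 := by omega
  have hy : ⁅s, x⁆ ∈ Z G (j - 1) := by
    rw [e1] at hx
    exact (prlcs_comm_mem (j - 1) s x hx).1
  have hz : ⁅s, ⁅s, x⁆⁆ ∈ Z G (j - 2) := by
    rw [e2] at hy
    exact (prlcs_comm_mem (j - 2) s _ hy).1
  have hz' : ⁅s, ⁅s, x⁆⁆ ∈ Z G ((j - 3) + 1) := by rw [← e3]; exact hz
  have : (Z G (j - 3)).Normal := by unfold Z; infer_instance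
  apply cube_rel (Z G (j - 3)) s x hs3c (h1le hs3) (h1le hsx3)
  · have := hyp (j - 1) (by omega) (by omega) x hx1 _ hy
    have e4 : j - 1 - 2 = j - 3 := by omega
    rw [e4] at this
    exact this
  · exact (prlcs_comm_mem (j - 3) x _ hz').1
  · exact (prlcs_comm_mem (j - 3) _ _ hz').1

end three

end Cfsg.Agent.Lib.Helper18.PRL
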