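import Mathlib
import Cfsg.Agent.Lib.helper2.PT.Defs
import Cfsg.Agent.Lib.Helper24.FongCover3
import Cfsg.Agent.Lib.Helper26.FongPSolv5

/-!
PT-BigBlock (project S4642 of helper2): a block over an invariant character of a normal
`p'`-subgroup with Sylow defect groups and a character of degree prime to `p`.
-/

set_option autoImplicit false
set_option linter.style.haveILetI false
set_option linter.unusedSectionVars false
set_option linter.unusedVariables false

namespace Cfsg.Agent.Lib.Helper16.PT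

open Cfsg Cfsg.Agent.Lib.helper2.PT
open Cfsg.Agent.Lib.Helper24 Cfsg.Agent.Lib.Helper25 Cfsg.Agent.Lib.Helper11
open Cfsg.Agent.Lib.helper2 Cfsg.Agent.Lib.helper7 Cfsg.Agent.Lib.Helper26

universe u

theorem bigBlock : BigBlockProp.{u} := by
  intro p hp M hM H _ _ K₀ hK₀ _ hcop θ₀ hinv
  classical
  have hPr := hM.2.1.isPrime
  obtain ⟨hθdvd, hθpos, -⟩ := h7_charDegree_props θ₀
  have hpK : ¬ p ∣ Nat.card K₀ := fun h =>
    (Nat.Prime.coprime_iff_not_dvd hp.out).mp hcop.symm h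
  have hc0 : IsPBlock M ({θ₀} : Set (IrrCharacter K₀)) := by
    refine ⟨θ₀, ?_⟩
    symm
    rw [← Cfsg.Agent.S0914.result p M hM θ₀]
    intro h
    exact hpK (dvd_trans h (Nat.div_dvd_of_dvd hθdvd))
  have hinv0 : fc_inv K₀ ({θ₀} : Set (IrrCharacter K₀)) := by
    intro g θ' hθ'
    rw [Set.mem_singleton_iff] at hθ' ⊢
    subst hθ'
    apply Subtype.ext
    funext n
    rw [fr_cj_val, cj_apply]
    exact hinv g n ⟨g * n * g⁻¹, hK₀.conj_mem n n.2 g⟩ rfl
  obtain ⟨B₁, hB₁, ⟨χ, hχB, θ, hθ, hne⟩, hbig⟩ := fc_exists_big_block hM K₀ _ hc0 hinv0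
  rw [Set.mem_singleton_iff] at hθ
  rw [hθ] at hne
  haveI : Fintype (IrrCharacter H) := Fintype.ofFinite _
  -- the defect of `B₁` is the full `p`-part of `|H|`
  have hidx : K₀.index.factorization p = (Nat.card H).factorization p := by
    have h1 : Nat.card H = Nat.card K₀ * K₀.index := (Subgroup.card_mul_index K₀).symm
    rw [h1, Nat.factorization_mul Nat.card_pos.ne' (Subgroup.index_ne_zero_of_finite),
      Finsupp.add_apply, Nat.factorization_eq_zero_of_not_dvd hpK, zero_add]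
  have hge : (Nat.card H).factorization p ≤ blockDefect p B₁ := by
    rw [← hidx]
    exact le_trans (Nat.le_add_left _ _) hbig
  unfold blockDefect at hge
  have hne' : ((fun ψ : IrrCharacter H => (charDegree (ψ : H → ℂ)).factorization p) '' B₁).Nonempty :=
    ⟨_, χ, hχB, rfl⟩
  obtain ⟨ξ₀, hξB, hξ⟩ := Nat.sInf_mem hne'
  obtain ⟨hξdvd, hξpos, -⟩ := h7_charDegree_props ξ₀
  have hle : (charDegree (ξ₀ : H → ℂ)).factorization p ≤ (Nat.card H).factorization p := by
    exact (Nat.factorization_le_iff_dvd hξpos.ne' Nat.card_pos.ne').mpr hξdvd p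
  have hzero : (charDegree (ξ₀ : H → ℂ)).factorization p = 0 := by
    simp only at hξ
    rw [← hξ] at hge
    omega
  have hdegξ : ¬ p ∣ charDegree (ξ₀ : H → ℂ) := by
    intro h
    have := (hp.out.factorization_pos_of_dvd hξpos.ne' h)
    omega
  obtain ⟨χ₀, rfl⟩ := hB₁
  have hsame : SameBlock M (χ : H → ℂ) (ξ₀ : H → ℂ) :=
    h7_sameBlock_trans hPr (h7_sameBlock_symm hχB) hξB
  have hover : ξ₀ ∈ h7_over K₀ ({θ₀} : Set (IrrCharacter K₀)) :=
    fc_over_closed hM K₀ _ hc0 hinv0 χ ξ₀ hsame ⟨θ₀, rfl, hne⟩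
  obtain ⟨θ', hθ', hne''⟩ := hover
  rw [Set.mem_singleton_iff] at hθ'
  subst hθ'
  refine ⟨ξ₀, hne'', hdegξ, ?_⟩
  exact (fps_defect_sylow p M hM (blockOf M (ξ₀ : H → ℂ)) ⟨ξ₀, rfl⟩ ξ₀
    (h7_sameBlock_refl hPr _) hdegξ).1

end Cfsg.Agent.Lib.Helper16.PT
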