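import Mathlib
import Cfsg.Agent.Lib.helper2.PT.Defs2
import Cfsg.Agent.Lib.helper2.GN4

/-!
PT-TD1 (project S4642 of helper2): an `H`-invariant irreducible character of `L₀` extending an
`H`-invariant irreducible character `θ₀` of the normal `p'`-subgroup `K₀` of `p`-power index
in `L₀` (canonical extension).
-/

set_option autoImplicit false
set_option linter.style.haveILetI false
set_option linter.unusedSectionVars false
set_option linter.unusedVariables false

namespace Cfsg.Agent.Lib.Helper16.PT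

open scoped ComplexConjugate
open Cfsg Cfsg.Agent.Lib.helper2.PT
open Cfsg.Agent.Lib.helper2 Cfsg.Agent.Lib.helper7 Cfsg.Agent.Lib.Helper25

universe u

/-- canonical extension from a normal subgroup of order prime to its index, invariant under
automorphisms (copy of `helper2.gn_canon` with the coprimality hypothesis only) -/
theorem td1_canon {G : Type*} [Group G] [Finite G] (N : Subgroup G) [hN : N.Normal]
    (hcopN : Nat.Coprime N.index (Nat.card N)) (ϑ : N → ℂ)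
    (hϑ : Cfsg.IsIrrCharacter N ϑ)
    (hinv : ∀ (g : G) (n : N), ϑ ⟨g * n * g⁻¹, hN.conj_mem (n : G) n.2 g⟩ = ϑ n) :
    ∃ χ : G → ℂ, Cfsg.IsIrrCharacter G χ ∧ (∀ n : N, χ n = ϑ n) ∧
      ∀ α : G ≃* G, (∀ n : N, ∃ h : α n ∈ N, ϑ ⟨α n, h⟩ = ϑ n) → ∀ g, χ (α g) = χ g := by
  classical
  haveI : Fintype G := Fintype.ofFinite G
  obtain ⟨d, -, hd1, hd2⟩ := irr_degree_dvd_card (⟨ϑ, hϑ⟩ : Cfsg.IrrCharacter N)
  have hdet := gc_detOrder_dvd hϑ
  have hcop : Nat.Coprime N.index (Cfsg.detOrder ϑ * d) :=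
    Nat.Coprime.mul_right (Nat.Coprime.coprime_dvd_right hdet hcopN)
      (Nat.Coprime.coprime_dvd_right hd2 hcopN)
  obtain ⟨χ, ⟨hχirr, hχres, hχdet⟩, huniq⟩ := Cfsg.Agent.S0867.result N ϑ hϑ hinv d hd1 hcop
  refine ⟨χ, hχirr, hχres, ?_⟩
  intro α hα g
  have h1 : Cfsg.IsIrrCharacter G (fun g => χ (α g)) :=
    bg_irr_comp_surjective α.toMonoidHom α.surjective hχirr
  have h2 : ∀ n : N, (fun g => χ (α g)) n = ϑ n := by
    intro n
    obtain ⟨h, hh⟩ := hα n
    show χ (α n) = ϑ n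
    rw [← hh]
    exact hχres ⟨α n, h⟩
  have h3 : Nat.Coprime N.index (Cfsg.detOrder (fun g => χ (α g))) := by
    rw [gn_detOrder_comp α hχirr, hχdet]
    exact Nat.Coprime.coprime_dvd_right hdet hcopN
  exact congrFun (huniq _ h1 h2 h3) g

theorem td1 : TD1Prop.{u} := by
  intro p hp H _ _ K₀ L₀ _ S θ₀ hinv
  classical
  haveI hnK : K₀.Normal := S.nK
  haveI hnL : L₀.Normal := S.nL
  haveI : Fintype L₀ := Fintype.ofFinite _
  haveI : Fintype (K₀.subgroupOf L₀) := Fintype.ofFinite _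
  haveI hN : (K₀.subgroupOf L₀).Normal := Subgroup.normal_subgroupOf
  -- the transported character
  let e : K₀.subgroupOf L₀ ≃* K₀ := Subgroup.subgroupOfEquivOfLe S.le
  have hϑ : IsIrrCharacter (K₀.subgroupOf L₀) (fun n => (θ₀ : K₀ → ℂ) (e n)) :=
    bg_irr_comp_surjective e.toMonoidHom e.surjective θ₀.2
  have hcard : Nat.card (K₀.subgroupOf L₀) = Nat.card K₀ := Nat.card_congr e.toEquiv
  have hcopN : Nat.Coprime (K₀.subgroupOf L₀).index (Nat.card (K₀.subgroupOf L₀)) := by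
    obtain ⟨k, hk⟩ := S.pow
    have h1 : (K₀.subgroupOf L₀).index = K₀.relIndex L₀ := rfl
    rw [h1, hk, hcard]
    exact Nat.Coprime.pow_left k S.cop.symm
  have hinv' : ∀ (g : L₀) (n : K₀.subgroupOf L₀),
      (fun n => (θ₀ : K₀ → ℂ) (e n)) ⟨g * n * g⁻¹, hN.conj_mem (n : L₀) n.2 g⟩ =
        (fun n => (θ₀ : K₀ → ℂ) (e n)) n := by
    intro g n
    exact hinv (g : H) (e n) (e ⟨g * n * g⁻¹, hN.conj_mem (n : L₀) n.2 g⟩) rfl
  obtain ⟨χ, hχirr, hχres, hχinv⟩ := td1_canon (K₀.subgroupOf L₀) hcopN _ hϑ hinv'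
  refine ⟨⟨χ, hχirr⟩, ?_, ?_⟩
  · intro k
    have := hχres ⟨⟨(k : H), S.le k.2⟩, k.2⟩
    show χ ⟨(k : H), S.le k.2⟩ = (θ₀ : K₀ → ℂ) k
    rw [this]
    congr 1
  · intro g l l' hl
    have hα := hχinv (MulAut.conjNormal g : L₀ ≃* L₀) ?_ l
    · have hl' : l' = (MulAut.conjNormal g : L₀ ≃* L₀) l := by
        apply Subtype.ext
        rw [hl, MulAut.conjNormal_apply]
      show χ l' = χ l
      rw [hl', hα]
    · intro n
      have hmem : (MulAut.conjNormal g : L₀ ≃* L₀) n ∈ K₀.subgroupOf L₀ := by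
        rw [Subgroup.mem_subgroupOf, MulAut.conjNormal_apply]
        exact hnK.conj_mem _ n.2 g
      refine ⟨hmem, ?_⟩
      refine hinv g (e n) (e ⟨_, hmem⟩) ?_
      show (((MulAut.conjNormal g : L₀ ≃* L₀) n : L₀) : H) = g * ((n : L₀) : H) * g⁻¹
      rw [MulAut.conjNormal_apply]

end Cfsg.Agent.Lib.Helper16.PT
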