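import Mathlib
import Cfsg.Prelude.Def_LieTypeDatum
import Cfsg.Agent.Lib.Helper16.PU15

set_option autoImplicit false
set_option linter.unusedSectionVars false
set_option linter.unusedVariables false

namespace Cfsg.Agent.Lib.Helper16.PU

open Matrix Cfsg.Agent.Lib.Helper16.PG

universe u w

section
variable {n : ℕ} {F : Type u} [Field F] {q : ℕ} {F₀ : Type w} [Field F₀] [Algebra F₀ F]

/-- conjugacy of graph automorphisms under the inner-diagonal group, in matrix terms. -/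
theorem conjU_iff [Fintype F] (hF : Fintype.card F = q ^ 2) (hn : 3 ≤ n) (σ : F ≃+* F)
    (X X' : ↥(simU n F q)) :
    Cfsg.IsConjUnder (Cfsg.inndiagPSU n F q) (PhiU n F q X * fieldU n q σ) (PhiU n F q X' * fieldU n q σ) ↔
      ∃ (Y : ↥(simU n F q)) (c : Fˣ), (Y.1 : Matrix (Fin n) (Fin n) F) * (X.1 : Matrix (Fin n) (Fin n) F) =
        (c : F) • ((X'.1 : Matrix (Fin n) (Fin n) F) * (Y.1 : Matrix (Fin n) (Fin n) F).map ⇑σ) := by
  have key : ∀ Y : ↥(simU n F q),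
      (PhiU n F q X' * fieldU n q σ = PhiU n F q Y * (PhiU n F q X * fieldU n q σ) * (PhiU n F q Y)⁻¹) ↔
      ∃ c : Fˣ, (Y.1 : Matrix (Fin n) (Fin n) F) * (X.1 : Matrix (Fin n) (Fin n) F) =
        (c : F) • ((X'.1 : Matrix (Fin n) (Fin n) F) * (Y.1 : Matrix (Fin n) (Fin n) F).map ⇑σ) := by
    intro Y
    have h1 : (PhiU n F q X' * fieldU n q σ) * PhiU n F q Y = PhiU n F q (X' * barS σ Y) * fieldU n q σ := by
      rw [mul_assoc, field_conj, ← mul_assoc, ← map_mul]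
      rfl
    have h2 : PhiU n F q Y * (PhiU n F q X * fieldU n q σ) = PhiU n F q (Y * X) * fieldU n q σ := by
      rw [← mul_assoc, ← map_mul]
    rw [eq_mul_inv_iff_mul_eq, h1, h2, mul_left_inj, eq_comm, PhiU_eq_iff hF hn]
    rfl
  unfold Cfsg.IsConjUnder
  rw [inndiagU_eq_range hF (by omega : 1 ≤ n)]
  constructor
  · rintro ⟨h, ⟨Y, rfl⟩, hh⟩
    exact ⟨Y, (key Y).mp hh⟩
  · rintro ⟨Y, hY⟩
    exact ⟨PhiU n F q Y, ⟨Y, rfl⟩, (key Y).mpr hY⟩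

/-- a conjugating similitude between two graph automorphisms descends to a similarity of the `F₀`-forms. -/
theorem descend_conj [Fintype F] [Fintype F₀] (hF : Fintype.card F = q ^ 2) (hF₀ : Fintype.card F₀ = q)
    (σ : F ≃+* F) (hσ : ∀ a, σ a = a ^ q) (X k X' k' : GL (Fin n) F)
    (hk : (X : Matrix (Fin n) (Fin n) F) * (k : Matrix (Fin n) (Fin n) F).map ⇑σ = k)
    (hk' : (X' : Matrix (Fin n) (Fin n) F) * (k' : Matrix (Fin n) (Fin n) F).map ⇑σ = k')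
    (M₀ M₀' : Matrix (Fin n) (Fin n) F₀) (e e' : F) (he : e ≠ 0) (he' : e' ≠ 0)
    (hM : (k : Matrix (Fin n) (Fin n) F)ᵀ * (k : Matrix (Fin n) (Fin n) F).map ⇑σ =
      e • M₀.map (algebraMap F₀ F))
    (hM' : (k' : Matrix (Fin n) (Fin n) F)ᵀ * (k' : Matrix (Fin n) (Fin n) F).map ⇑σ =
      e' • M₀'.map (algebraMap F₀ F))
    (hM₀ : M₀ ≠ 0)
    (Y : GL (Fin n) F) (hY : Y ∈ simU n F q) (c : Fˣ)
    (hc : (Y : Matrix (Fin n) (Fin n) F) * (X : Matrix (Fin n) (Fin n) F) =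
      (c : F) • ((X' : Matrix (Fin n) (Fin n) F) * (Y : Matrix (Fin n) (Fin n) F).map ⇑σ)) :
    ∃ (y : GL (Fin n) F₀) (r : F₀ˣ), (y : Matrix (Fin n) (Fin n) F₀)ᵀ * M₀' * (y : Matrix (Fin n) (Fin n) F₀) =
      (r : F₀) • M₀ := by
  set K := (k : Matrix (Fin n) (Fin n) F) with hK
  set Ki := ((k⁻¹ : GL (Fin n) F) : Matrix (Fin n) (Fin n) F) with hKi
  set Kb := K.map ⇑σ with hKb
  set Kbi := Ki.map ⇑σ with hKbi
  have hKKi : K * Ki = 1 := gl_mul_inv k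
  have hKiK : Ki * K = 1 := gl_inv_mul k
  have hKbKbi : Kb * Kbi = 1 := map_mul_inv σ k
  have hKbiKb : Kbi * Kb = 1 := map_inv_mul σ k
  have hX : (X : Matrix (Fin n) (Fin n) F) = K * Kbi := X_eq_of_hk σ X k hk
  set K' := (k' : Matrix (Fin n) (Fin n) F) with hK'
  set Ki' := ((k'⁻¹ : GL (Fin n) F) : Matrix (Fin n) (Fin n) F) with hKi'
  set Kb' := K'.map ⇑σ with hKb'
  set Kbi' := Ki'.map ⇑σ with hKbi'
  have hKKi' : K' * Ki' = 1 := gl_mul_inv k'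
  have hKiK' : Ki' * K' = 1 := gl_inv_mul k'
  have hKbKbi' : Kb' * Kbi' = 1 := map_mul_inv σ k'
  have hKbiKb' : Kbi' * Kb' = 1 := map_inv_mul σ k'
  have hX' : (X' : Matrix (Fin n) (Fin n) F) = K' * Kbi' := X_eq_of_hk σ X' k' hk'
  set Y₀ : GL (Fin n) F := k'⁻¹ * Y * k with hY₀
  have hY₀val : (Y₀ : Matrix (Fin n) (Fin n) F) = Ki' * (Y : Matrix (Fin n) (Fin n) F) * K := by
    rw [hY₀, Units.val_mul, Units.val_mul]
  have hY₀bar : (Y₀ : Matrix (Fin n) (Fin n) F).map ⇑σ = ((c : F)⁻¹) • (Y₀ : Matrix (Fin n) (Fin n) F) := by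
    rw [hY₀val, Matrix.map_mul, Matrix.map_mul]
    have h1 : (Y : Matrix (Fin n) (Fin n) F) * (K * Kbi) =
        (c : F) • (K' * Kbi' * (Y : Matrix (Fin n) (Fin n) F).map ⇑σ) := by
      rw [← hX, ← hX']; exact hc
    have h2 : Ki' * ((Y : Matrix (Fin n) (Fin n) F) * (K * Kbi)) * Kb =
        Ki' * ((c : F) • (K' * Kbi' * (Y : Matrix (Fin n) (Fin n) F).map ⇑σ)) * Kb := by rw [h1]
    have h3 : Ki' * ((Y : Matrix (Fin n) (Fin n) F) * (K * Kbi)) * Kb =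
        Ki' * (Y : Matrix (Fin n) (Fin n) F) * K := by
      calc Ki' * ((Y : Matrix (Fin n) (Fin n) F) * (K * Kbi)) * Kb
          = Ki' * (Y : Matrix (Fin n) (Fin n) F) * K * (Kbi * Kb) := by simp only [Matrix.mul_assoc]
        _ = _ := by rw [hKbiKb, Matrix.mul_one]
    have h4 : Ki' * ((c : F) • (K' * Kbi' * (Y : Matrix (Fin n) (Fin n) F).map ⇑σ)) * Kb =
        (c : F) • (Kbi' * (Y : Matrix (Fin n) (Fin n) F).map ⇑σ * Kb) := by
      rw [Matrix.mul_smul, Matrix.smul_mul]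
      congr 1
      calc Ki' * (K' * Kbi' * (Y : Matrix (Fin n) (Fin n) F).map ⇑σ) * Kb
          = (Ki' * K') * Kbi' * (Y : Matrix (Fin n) (Fin n) F).map ⇑σ * Kb := by simp only [Matrix.mul_assoc]
        _ = _ := by rw [hKiK', Matrix.one_mul]
    rw [h3, h4] at h2
    rw [h2, smul_smul, inv_mul_cancel₀ c.ne_zero, one_smul]
  obtain ⟨d, y, hdy⟩ := semifixed_descend hF hF₀ σ hσ Y₀ _ hY₀bar
  set Yt := (y : Matrix (Fin n) (Fin n) F₀).map (algebraMap F₀ F) with hYt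
  have hYval : (Y : Matrix (Fin n) (Fin n) F) = (d : F) • (K' * Yt * Ki) := by
    have h1 : K' * (Y₀ : Matrix (Fin n) (Fin n) F) * Ki = (Y : Matrix (Fin n) (Fin n) F) := by
      rw [hY₀val]
      calc K' * (Ki' * (Y : Matrix (Fin n) (Fin n) F) * K) * Ki
          = (K' * Ki') * (Y : Matrix (Fin n) (Fin n) F) * (K * Ki) := by simp only [Matrix.mul_assoc]
        _ = _ := by rw [hKKi, hKKi', Matrix.one_mul, Matrix.mul_one]
    rw [← h1, hdy, Matrix.mul_smul, Matrix.smul_mul]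
  obtain ⟨lam, hlam⟩ := (mem_simU_iff_mat σ hσ Y).mp hY
  set Mt := M₀.map (algebraMap F₀ F) with hMt
  set Mt' := M₀'.map (algebraMap F₀ F) with hMt'
  have hYtbar : Yt.map ⇑σ = Yt := mapI_bar hF₀ σ hσ _
  have h5 : Ytᵀ * Mt' * Yt = (((lam : F) * e) / ((d : F) * σ d * e')) • Mt := by
    have h6 : (Y : Matrix (Fin n) (Fin n) F).map ⇑σ = σ (d : F) • (Kb' * Yt * Kbi) := by
      rw [hYval]
      ext i j
      simp only [Matrix.map_apply, Matrix.smul_apply, smul_eq_mul, map_mul]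
      congr 1
      have := congrFun (congrFun (show (K' * Yt * Ki).map ⇑σ = Kb' * Yt * Kbi by
        rw [Matrix.map_mul, Matrix.map_mul, hYtbar]) i) j
      rw [Matrix.map_apply] at this
      exact this
    rw [h6, hYval, Matrix.transpose_smul, Matrix.transpose_mul, Matrix.transpose_mul, Matrix.smul_mul,
      Matrix.mul_smul, smul_smul] at hlam
    have h7 : Kᵀ * (Kiᵀ * (Ytᵀ * K'ᵀ) * (Kb' * Yt * Kbi)) * Kb = Ytᵀ * (K'ᵀ * Kb') * Yt := by
      have h8 : Kᵀ * Kiᵀ = 1 := by rw [← Matrix.transpose_mul, hKiK, Matrix.transpose_one]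
      calc Kᵀ * (Kiᵀ * (Ytᵀ * K'ᵀ) * (Kb' * Yt * Kbi)) * Kb
          = (Kᵀ * Kiᵀ) * Ytᵀ * (K'ᵀ * Kb') * Yt * (Kbi * Kb) := by simp only [Matrix.mul_assoc]
        _ = _ := by rw [h8, hKbiKb, Matrix.one_mul, Matrix.mul_one]
    have h9 : Kᵀ * (((d : F) * σ (d : F)) • (Kiᵀ * (Ytᵀ * K'ᵀ) * (Kb' * Yt * Kbi))) * Kb =
        Kᵀ * ((lam : F) • (1 : Matrix (Fin n) (Fin n) F)) * Kb := by rw [hlam]
    rw [Matrix.mul_smul, Matrix.smul_mul, h7, Matrix.mul_smul, Matrix.mul_one, Matrix.smul_mul, hM, hM',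
      Matrix.mul_smul, Matrix.smul_mul, smul_smul, smul_smul] at h9
    have hd0 : (d : F) * σ (d : F) ≠ 0 := mul_ne_zero d.ne_zero ((map_ne_zero σ).mpr d.ne_zero)
    have h10 : Ytᵀ * Mt' * Yt = (((d : F) * σ (d : F) * e')⁻¹ * ((lam : F) * e)) • Mt := by
      rw [← smul_smul, ← h9, smul_smul, inv_mul_cancel₀ (mul_ne_zero hd0 he'), one_smul]
    rw [h10]
    congr 1
    field_simp
  -- the multiplier lies in F₀
  obtain ⟨i₀, j₀, hij⟩ : ∃ i j, M₀ i j ≠ 0 := by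
    by_contra hcon
    push Not at hcon
    apply hM₀
    ext i j
    exact hcon i j
  set N₀ := (y : Matrix (Fin n) (Fin n) F₀)ᵀ * M₀' * (y : Matrix (Fin n) (Fin n) F₀) with hN₀
  have hN₀map : N₀.map (algebraMap F₀ F) = Ytᵀ * Mt' * Yt := by
    rw [hN₀, Matrix.map_mul, Matrix.map_mul, Matrix.transpose_map]
  set r := ((lam : F) * e) / ((d : F) * σ d * e') with hr
  set c₀ := N₀ i₀ j₀ / M₀ i₀ j₀ with hc₀
  have hr_eq : r = algebraMap F₀ F c₀ := by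
    have h11 := congrFun (congrFun (hN₀map.trans h5) i₀) j₀
    rw [Matrix.map_apply, Matrix.smul_apply, hMt, Matrix.map_apply, smul_eq_mul] at h11
    rw [hc₀, map_div₀, h11]
    have : algebraMap F₀ F (M₀ i₀ j₀) ≠ 0 := by rw [Ne, map_eq_zero]; exact hij
    field_simp
  have hr0 : r ≠ 0 := by
    rw [hr]
    exact div_ne_zero (mul_ne_zero lam.ne_zero he)
      (mul_ne_zero (mul_ne_zero d.ne_zero ((map_ne_zero σ).mpr d.ne_zero)) he')
  have hc₀0 : c₀ ≠ 0 := by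
    intro h0
    rw [hr_eq, h0, map_zero] at hr0
    exact hr0 rfl
  refine ⟨y, Units.mk0 c₀ hc₀0, ?_⟩
  rw [Units.val_mk0]
  have hinj : Function.Injective (fun M : Matrix (Fin n) (Fin n) F₀ => M.map (algebraMap F₀ F)) := by
    intro A B hAB
    ext i j
    have := congrFun (congrFun hAB i) j
    simp only [Matrix.map_apply] at this
    exact (algebraMap F₀ F).injective this
  apply hinj
  show N₀.map (algebraMap F₀ F) = (c₀ • M₀).map (algebraMap F₀ F)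
  rw [hN₀map, h5, hr_eq]
  ext i j
  rw [Matrix.smul_apply, Matrix.map_apply, Matrix.smul_apply, hMt, Matrix.map_apply, smul_eq_mul, smul_eq_mul,
    map_mul]

/-- a similarity of the `F₀`-forms gives a conjugating similitude between the graph automorphisms. -/
theorem conj_of_descend [Fintype F₀] (hF₀ : Fintype.card F₀ = q)
    (σ : F ≃+* F) (hσ : ∀ a, σ a = a ^ q) (X k X' k' : GL (Fin n) F)
    (hk : (X : Matrix (Fin n) (Fin n) F) * (k : Matrix (Fin n) (Fin n) F).map ⇑σ = k)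
    (hk' : (X' : Matrix (Fin n) (Fin n) F) * (k' : Matrix (Fin n) (Fin n) F).map ⇑σ = k')
    (M₀ M₀' : Matrix (Fin n) (Fin n) F₀) (e e' : F) (he : e ≠ 0) (he' : e' ≠ 0)
    (hM : (k : Matrix (Fin n) (Fin n) F)ᵀ * (k : Matrix (Fin n) (Fin n) F).map ⇑σ =
      e • M₀.map (algebraMap F₀ F))
    (hM' : (k' : Matrix (Fin n) (Fin n) F)ᵀ * (k' : Matrix (Fin n) (Fin n) F).map ⇑σ =
      e' • M₀'.map (algebraMap F₀ F))
    (y : GL (Fin n) F₀) (r : F₀ˣ)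
    (hy : (y : Matrix (Fin n) (Fin n) F₀)ᵀ * M₀' * (y : Matrix (Fin n) (Fin n) F₀) = (r : F₀) • M₀) :
    ∃ Y : GL (Fin n) F, Y ∈ simU n F q ∧
      (Y : Matrix (Fin n) (Fin n) F) * (X : Matrix (Fin n) (Fin n) F) =
        (X' : Matrix (Fin n) (Fin n) F) * (Y : Matrix (Fin n) (Fin n) F).map ⇑σ := by
  set K := (k : Matrix (Fin n) (Fin n) F) with hK
  set Ki := ((k⁻¹ : GL (Fin n) F) : Matrix (Fin n) (Fin n) F) with hKi
  set Kb := K.map ⇑σ with hKb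
  set Kbi := Ki.map ⇑σ with hKbi
  have hKKi : K * Ki = 1 := gl_mul_inv k
  have hKiK : Ki * K = 1 := gl_inv_mul k
  have hKbKbi : Kb * Kbi = 1 := map_mul_inv σ k
  have hKbiKb : Kbi * Kb = 1 := map_inv_mul σ k
  have hX : (X : Matrix (Fin n) (Fin n) F) = K * Kbi := X_eq_of_hk σ X k hk
  set K' := (k' : Matrix (Fin n) (Fin n) F) with hK'
  set Ki' := ((k'⁻¹ : GL (Fin n) F) : Matrix (Fin n) (Fin n) F) with hKi'
  set Kb' := K'.map ⇑σ with hKb'
  set Kbi' := Ki'.map ⇑σ with hKbi'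
  have hKbKbi' : Kb' * Kbi' = 1 := map_mul_inv σ k'
  have hKbiKb' : Kbi' * Kb' = 1 := map_inv_mul σ k'
  have hX' : (X' : Matrix (Fin n) (Fin n) F) = K' * Kbi' := X_eq_of_hk σ X' k' hk'
  set Yt := (y : Matrix (Fin n) (Fin n) F₀).map (algebraMap F₀ F) with hYt
  have hYtbar : Yt.map ⇑σ = Yt := mapI_bar hF₀ σ hσ _
  set Mt := M₀.map (algebraMap F₀ F) with hMt
  set Mt' := M₀'.map (algebraMap F₀ F) with hMt'
  have hyt : Ytᵀ * Mt' * Yt = algebraMap F₀ F (r : F₀) • Mt := by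
    have h1 := congrArg (fun M : Matrix (Fin n) (Fin n) F₀ => M.map (algebraMap F₀ F)) hy
    simp only [Matrix.map_mul, Matrix.transpose_map] at h1
    rw [h1]
    ext i j
    simp [hMt, Matrix.map_apply, Matrix.smul_apply]
  set Y : GL (Fin n) F := k' * mapI n F₀ F y * k⁻¹ with hYdef
  have hYval : (Y : Matrix (Fin n) (Fin n) F) = K' * Yt * Ki := by
    rw [hYdef, Units.val_mul, Units.val_mul, mapI_val]
  have hYbar : (Y : Matrix (Fin n) (Fin n) F).map ⇑σ = Kb' * Yt * Kbi := by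
    rw [hYval, Matrix.map_mul, Matrix.map_mul, hYtbar]
  refine ⟨Y, ?_, ?_⟩
  · rw [mem_simU_iff_mat σ hσ]
    have hr0 : algebraMap F₀ F (r : F₀) ≠ 0 := by
      rw [Ne, map_eq_zero]; exact r.ne_zero
    have hne : e' * algebraMap F₀ F (r : F₀) * e⁻¹ ≠ 0 :=
      mul_ne_zero (mul_ne_zero he' hr0) (inv_ne_zero he)
    refine ⟨Units.mk0 _ hne, ?_⟩
    rw [Units.val_mk0, hYbar, hYval, Matrix.transpose_mul, Matrix.transpose_mul]
    have h8 : Kiᵀ * Kᵀ = 1 := by rw [← Matrix.transpose_mul, hKKi, Matrix.transpose_one]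
    calc Kiᵀ * (Ytᵀ * K'ᵀ) * (Kb' * Yt * Kbi)
        = Kiᵀ * (Ytᵀ * (K'ᵀ * Kb') * Yt) * Kbi := by simp only [Matrix.mul_assoc]
      _ = Kiᵀ * (Ytᵀ * (e' • Mt') * Yt) * Kbi := by rw [hM']
      _ = e' • (Kiᵀ * (Ytᵀ * Mt' * Yt) * Kbi) := by
          simp only [Matrix.mul_smul, Matrix.smul_mul]
      _ = e' • (Kiᵀ * (algebraMap F₀ F (r : F₀) • Mt) * Kbi) := by rw [hyt]
      _ = (e' * algebraMap F₀ F (r : F₀) * e⁻¹) • (Kiᵀ * (e • Mt) * Kbi) := by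
          simp only [Matrix.mul_smul, Matrix.smul_mul, smul_smul]
          congr 1
          field_simp
      _ = (e' * algebraMap F₀ F (r : F₀) * e⁻¹) • (Kiᵀ * (Kᵀ * Kb) * Kbi) := by rw [hM]
      _ = (e' * algebraMap F₀ F (r : F₀) * e⁻¹) • ((Kiᵀ * Kᵀ) * (Kb * Kbi)) := by
          simp only [Matrix.mul_assoc]
      _ = _ := by rw [h8, hKbKbi, Matrix.one_mul]
  · rw [hYbar, hYval, hX, hX']
    calc K' * Yt * Ki * (K * Kbi) = K' * Yt * (Ki * K) * Kbi := by simp only [Matrix.mul_assoc]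
      _ = K' * (Kbi' * Kb') * Yt * Kbi := by rw [hKiK, hKbiKb', Matrix.mul_one, Matrix.mul_one]
      _ = _ := by simp only [Matrix.mul_assoc]

/-- conjugacy of graph automorphisms of `PSU_n` under the inner-diagonal group is similarity of the `F₀`-forms. -/
theorem conjU_iff_forms [Fintype F] [Fintype F₀] (hF : Fintype.card F = q ^ 2) (hF₀ : Fintype.card F₀ = q)
    (hn : 3 ≤ n) (σ : F ≃+* F) (hσ : ∀ a, σ a = a ^ q) (X X' : ↥(simU n F q)) (k k' : GL (Fin n) F)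
    (hk : (X.1 : Matrix (Fin n) (Fin n) F) * (k : Matrix (Fin n) (Fin n) F).map ⇑σ = k)
    (hk' : (X'.1 : Matrix (Fin n) (Fin n) F) * (k' : Matrix (Fin n) (Fin n) F).map ⇑σ = k')
    (M₀ M₀' : Matrix (Fin n) (Fin n) F₀) (e e' : F) (he : e ≠ 0) (he' : e' ≠ 0)
    (hM : (k : Matrix (Fin n) (Fin n) F)ᵀ * (k : Matrix (Fin n) (Fin n) F).map ⇑σ =
      e • M₀.map (algebraMap F₀ F))
    (hM' : (k' : Matrix (Fin n) (Fin n) F)ᵀ * (k' : Matrix (Fin n) (Fin n) F).map ⇑σ =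
      e' • M₀'.map (algebraMap F₀ F))
    (hM₀ : M₀ ≠ 0) :
    Cfsg.IsConjUnder (Cfsg.inndiagPSU n F q) (PhiU n F q X * fieldU n q σ) (PhiU n F q X' * fieldU n q σ) ↔
      ∃ (y : GL (Fin n) F₀) (r : F₀ˣ),
        (y : Matrix (Fin n) (Fin n) F₀)ᵀ * M₀' * (y : Matrix (Fin n) (Fin n) F₀) = (r : F₀) • M₀ := by
  rw [conjU_iff hF hn]
  constructor
  · rintro ⟨Y, c, hc⟩
    exact descend_conj hF hF₀ σ hσ X.1 k X'.1 k' hk hk' M₀ M₀' e e' he he' hM hM' hM₀ Y.1 Y.2 c hc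
  · rintro ⟨y, r, hy⟩
    obtain ⟨Y, hY, hYX⟩ := conj_of_descend hF₀ σ hσ X.1 k X'.1 k' hk hk' M₀ M₀' e e' he he' hM hM' y r hy
    exact ⟨⟨Y, hY⟩, 1, by rw [Units.val_one, one_smul]; exact hYX⟩

end

end Cfsg.Agent.Lib.Helper16.PU
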