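import Mathlib
import Cfsg.Prelude.Def_LieTypeDatum
import Cfsg.Agent.Lib.Helper16.PU16
import Cfsg.Agent.Lib.Helper16.UExist
import Cfsg.Agent.Lib.Helper16.PG11

set_option autoImplicit false
set_option linter.unusedSectionVars false
set_option linter.unusedVariables false

namespace Cfsg.Agent.Lib.Helper16.PU

open Matrix Cfsg.Agent.Lib.Helper16.PG

universe u w

section
variable {n : ℕ} {F : Type u} [Field F] {q : ℕ} {F₀ : Type w} [Field F₀] [Algebra F₀ F]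

theorem map_alg_injective :
    Function.Injective (fun M : Matrix (Fin n) (Fin n) F₀ => M.map (algebraMap F₀ F)) := by
  intro A B hAB
  ext i j
  have := congrFun (congrFun hAB i) j
  simp only [Matrix.map_apply] at this
  exact (algebraMap F₀ F).injective this

theorem gl_ne_zero (hn : 1 ≤ n) (U : GL (Fin n) F₀) : ∃ i j, (U : Matrix (Fin n) (Fin n) F₀) i j ≠ 0 := by
  by_contra hcon
  push Not at hcon
  have h0 : (U : Matrix (Fin n) (Fin n) F₀) = 0 := by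
    ext i j; exact hcon i j
  have h1 := gl_mul_inv U
  rw [h0, Matrix.zero_mul] at h1
  have := congrFun (congrFun h1 ⟨0, by omega⟩) ⟨0, by omega⟩
  simp at this

/-- the `F₀`-form attached to an involutory graph automorphism in normal form. -/
theorem form_of_graph [Fintype F] [Fintype F₀] (hF : Fintype.card F = q ^ 2) (hF₀ : Fintype.card F₀ = q)
    (hn : 1 ≤ n) (σ : F ≃+* F) (hσ : ∀ a, σ a = a ^ q) (X : GL (Fin n) F) (hX : X ∈ simU n F q)
    (hXX : (X : Matrix (Fin n) (Fin n) F) * (X : Matrix (Fin n) (Fin n) F).map ⇑σ = 1) :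
    ∃ (k : GL (Fin n) F) (U : GL (Fin n) F₀) (e : F) (c : F₀ˣ), e ≠ 0 ∧
      (X : Matrix (Fin n) (Fin n) F) * (k : Matrix (Fin n) (Fin n) F).map ⇑σ = k ∧
      (k : Matrix (Fin n) (Fin n) F)ᵀ * (k : Matrix (Fin n) (Fin n) F).map ⇑σ =
        e • (U : Matrix (Fin n) (Fin n) F₀).map (algebraMap F₀ F) ∧
      (U : Matrix (Fin n) (Fin n) F₀)ᵀ = (c : F₀) • (U : Matrix (Fin n) (Fin n) F₀) := by
  obtain ⟨k, hk⟩ := hilbert90 hF σ hσ (X : Matrix (Fin n) (Fin n) F) hXX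
  obtain ⟨lam, hlam⟩ := (mem_simU_iff_mat σ hσ X).mp hX
  set K := (k : Matrix (Fin n) (Fin n) F) with hK
  set Ki := ((k⁻¹ : GL (Fin n) F) : Matrix (Fin n) (Fin n) F) with hKi
  set Kb := K.map ⇑σ with hKb
  set Kbi := Ki.map ⇑σ with hKbi
  have hKKi : K * Ki = 1 := gl_mul_inv k
  have hKiK : Ki * K = 1 := gl_inv_mul k
  have hKbKbi : Kb * Kbi = 1 := map_mul_inv σ k
  have hKbiKb : Kbi * Kb = 1 := map_inv_mul σ k
  set Xm := (X : Matrix (Fin n) (Fin n) F) with hXm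
  have hKbb : Kb.map ⇑σ = K := map_map_bar hF σ hσ K
  have hKb' : Kb = Xm.map ⇑σ * K := by
    have h1 := congrArg (fun M : Matrix (Fin n) (Fin n) F => M.map ⇑σ) hk
    simp only [Matrix.map_mul, hKbb] at h1
    exact h1.symm
  set M := Kᵀ * Kb with hM
  have hMbar : M.map ⇑σ = Kbᵀ * K := by
    rw [hM, Matrix.map_mul, hKbb, ← Matrix.transpose_map]
  have hMT : Mᵀ = Kbᵀ * K := by
    rw [hM, Matrix.transpose_mul, Matrix.transpose_transpose]
  have hM1 : M = (lam : F) • (Kbᵀ * K) := by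
    calc M = (Xm * Kb)ᵀ * (Xm.map ⇑σ * K) := by rw [hk, ← hKb']
      _ = Kbᵀ * (Xmᵀ * Xm.map ⇑σ) * K := by
          rw [Matrix.transpose_mul]; simp only [Matrix.mul_assoc]
      _ = _ := by rw [hlam, Matrix.mul_smul, Matrix.mul_one, Matrix.smul_mul]
  have hMbar' : M.map ⇑σ = ((lam : F)⁻¹) • M := by
    rw [hMbar, hM1, smul_smul, inv_mul_cancel₀ lam.ne_zero, one_smul]
  set Mg : GL (Fin n) F := ⟨M, Kbi * Kiᵀ, by
      have h8 : Kᵀ * Kiᵀ = 1 := by rw [← Matrix.transpose_mul, hKiK, Matrix.transpose_one]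
      calc Kᵀ * Kb * (Kbi * Kiᵀ) = Kᵀ * (Kb * Kbi) * Kiᵀ := by simp only [Matrix.mul_assoc]
        _ = 1 := by rw [hKbKbi, Matrix.mul_one, h8], by
      have h8 : Kiᵀ * Kᵀ = 1 := by rw [← Matrix.transpose_mul, hKKi, Matrix.transpose_one]
      calc Kbi * Kiᵀ * (Kᵀ * Kb) = Kbi * (Kiᵀ * Kᵀ) * Kb := by simp only [Matrix.mul_assoc]
        _ = 1 := by rw [h8, Matrix.mul_one, hKbiKb]⟩ with hMg
  have hMgval : (Mg : Matrix (Fin n) (Fin n) F) = M := rfl
  obtain ⟨d, U, hdU⟩ := semifixed_descend (F₀ := F₀) hF hF₀ σ hσ Mg ((lam : F)⁻¹) (by rw [hMgval]; exact hMbar')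
  rw [hMgval] at hdU
  set Ut := (U : Matrix (Fin n) (Fin n) F₀).map (algebraMap F₀ F) with hUt
  have hUtT : Utᵀ = ((lam : F)⁻¹) • Ut := by
    have h1 : (d : F) • Utᵀ = (d : F) • (((lam : F)⁻¹) • Ut) := by
      rw [← Matrix.transpose_smul, ← hdU, hMT, ← hMbar, hMbar', hdU, smul_comm]
    exact smul_right_injective _ d.ne_zero h1
  obtain ⟨i₀, j₀, hij⟩ := gl_ne_zero hn U
  set c₀ := (U : Matrix (Fin n) (Fin n) F₀) j₀ i₀ / (U : Matrix (Fin n) (Fin n) F₀) i₀ j₀ with hc₀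
  have hlam_eq : (lam : F)⁻¹ = algebraMap F₀ F c₀ := by
    have h11 := congrFun (congrFun hUtT i₀) j₀
    rw [Matrix.transpose_apply, Matrix.smul_apply, hUt, Matrix.map_apply, Matrix.map_apply, smul_eq_mul] at h11
    rw [hc₀, map_div₀, h11]
    have : algebraMap F₀ F ((U : Matrix (Fin n) (Fin n) F₀) i₀ j₀) ≠ 0 := by rw [Ne, map_eq_zero]; exact hij
    field_simp
  have hc₀0 : c₀ ≠ 0 := by
    intro h0
    rw [h0, map_zero] at hlam_eq
    exact inv_ne_zero lam.ne_zero hlam_eq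
  refine ⟨k, U, (d : F), Units.mk0 c₀ hc₀0, d.ne_zero, hk, hdU, ?_⟩
  rw [Units.val_mk0]
  apply map_alg_injective (F := F)
  show ((U : Matrix (Fin n) (Fin n) F₀)ᵀ).map (algebraMap F₀ F) =
    (c₀ • (U : Matrix (Fin n) (Fin n) F₀)).map (algebraMap F₀ F)
  rw [Matrix.transpose_map, ← hUt, hUtT, hlam_eq]
  ext i j
  rw [Matrix.smul_apply, Matrix.map_apply, Matrix.smul_apply, hUt, Matrix.map_apply, smul_eq_mul, smul_eq_mul,
    map_mul]

/-- every `ε`-symmetric invertible form over `F₀` arises from an involutory graph automorphism in normal form. -/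
theorem exists_graph_of_form [Fintype F] [Fintype F₀] (hF : Fintype.card F = q ^ 2) (hF₀ : Fintype.card F₀ = q)
    (hn : 1 ≤ n) (σ : F ≃+* F) (hσ : ∀ a, σ a = a ^ q) (U : GL (Fin n) F₀) (c : F₀ˣ)
    (hU : (U : Matrix (Fin n) (Fin n) F₀)ᵀ = (c : F₀) • (U : Matrix (Fin n) (Fin n) F₀)) :
    ∃ (X : ↥(simU n F q)) (k : GL (Fin n) F) (e : F), e ≠ 0 ∧
      (X.1 : Matrix (Fin n) (Fin n) F) * (X.1 : Matrix (Fin n) (Fin n) F).map ⇑σ = 1 ∧
      (X.1 : Matrix (Fin n) (Fin n) F) * (k : Matrix (Fin n) (Fin n) F).map ⇑σ = k ∧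
      (k : Matrix (Fin n) (Fin n) F)ᵀ * (k : Matrix (Fin n) (Fin n) F).map ⇑σ =
        e • (U : Matrix (Fin n) (Fin n) F₀).map (algebraMap F₀ F) := by
  have hc := transpose_scalar_cases U hn c hU
  set cF := algebraMap F₀ F (c : F₀) with hcF
  have hcF2 : cF * cF = 1 := by
    rcases hc with h | h <;> rw [hcF, h] <;> simp
  have hcF0 : cF ≠ 0 := by
    intro h0
    rw [h0, mul_zero] at hcF2
    exact zero_ne_one hcF2
  obtain ⟨e, he0, he⟩ : ∃ e : F, e ≠ 0 ∧ σ e = cF * e := by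
    rcases hc with h | h
    · exact ⟨1, one_ne_zero, by rw [hcF, h]; simp⟩
    · obtain ⟨a, ha0, ha⟩ := exists_skew hF σ hσ
      exact ⟨a, ha0, by rw [hcF, h, ha]; simp⟩
  set Ut := (U : Matrix (Fin n) (Fin n) F₀).map (algebraMap F₀ F) with hUt
  have hUtbar : Ut.map ⇑σ = Ut := mapI_bar hF₀ σ hσ _
  have hUtT : Utᵀ = cF • Ut := by
    rw [hUt, ← Matrix.transpose_map, hU]
    ext i j
    simp [hcF]
  set N := e • Ut with hN
  have hNbar : N.map ⇑σ = (cF * e) • Ut := by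
    ext i j
    have := congrFun (congrFun hUtbar i) j
    rw [Matrix.map_apply] at this
    rw [hN, Matrix.map_apply, Matrix.smul_apply, Matrix.smul_apply, smul_eq_mul, smul_eq_mul, map_mul, he, this]
  have hNT : Nᵀ = cF • N := by
    rw [hN, Matrix.transpose_smul, hUtT, smul_comm]
  have hNherm : (N.map ⇑σ)ᵀ = N := by
    rw [hNbar, Matrix.transpose_smul, hUtT, smul_smul, hN]
    congr 1
    linear_combination e * hcF2
  have hNunit : IsUnit N := by
    rw [Matrix.isUnit_iff_isUnit_det, hN, Matrix.det_smul, isUnit_iff_ne_zero]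
    have h1 : Ut.det ≠ 0 := by
      have h2 : Ut = ((mapI n F₀ F U : GL (Fin n) F) : Matrix (Fin n) (Fin n) F) := (mapI_val U).symm
      rw [h2]
      have h3 := (Matrix.isUnit_iff_isUnit_det _).mp (mapI n F₀ F U).isUnit
      exact isUnit_iff_ne_zero.mp h3
    exact mul_ne_zero (pow_ne_zero _ he0) h1
  have hσne : (σ : F →+* F) ≠ RingHom.id F := by
    obtain ⟨θ, hθ⟩ := exists_moved hF σ hσ
    intro h
    apply hθ
    have := RingHom.congr_fun h θ
    simpa using this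
  obtain ⟨Q, hQ⟩ := Cfsg.Agent.Lib.Helper16.RN.exists_herm_congr (σ : F →+* F) hσne
    (fun x => by simpa using bar_bar hF σ hσ x) N (by simpa using hNherm) hNunit
  simp only [RingEquiv.coe_toRingHom] at hQ
  have hQunit : IsUnit Q := (Matrix.isUnit_iff_isUnit_det Q).mpr (Matrix.isUnit_det_of_left_inverse hQ)
  set Qg : GL (Fin n) F := hQunit.unit with hQg
  have hQgval : (Qg : Matrix (Fin n) (Fin n) F) = Q := IsUnit.unit_spec hQunit
  set Qi := ((Qg⁻¹ : GL (Fin n) F) : Matrix (Fin n) (Fin n) F) with hQi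
  set Qb := Q.map ⇑σ with hQb
  set Qbi := Qi.map ⇑σ with hQbi
  have hQQi : Q * Qi = 1 := by rw [← hQgval]; exact gl_mul_inv Qg
  have hQiQ : Qi * Q = 1 := by rw [← hQgval]; exact gl_inv_mul Qg
  have hQbQbi : Qb * Qbi = 1 := by rw [hQb, ← hQgval]; exact map_mul_inv σ Qg
  have hQbiQb : Qbi * Qb = 1 := by rw [hQb, ← hQgval]; exact map_inv_mul σ Qg
  have hQbib : Qbi.map ⇑σ = Qi := map_map_bar hF σ hσ Qi
  have hNeq : N = Qbiᵀ * Qi := by
    have h1 : Qbiᵀ * (Qbᵀ * N * Q) * Qi = Qbiᵀ * Qi := by rw [hQ, Matrix.mul_one]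
    have h2 : Qbiᵀ * Qbᵀ = 1 := by rw [← Matrix.transpose_mul, hQbQbi, Matrix.transpose_one]
    have h3 : Qbiᵀ * (Qbᵀ * N * Q) * Qi = (Qbiᵀ * Qbᵀ) * N * (Q * Qi) := by simp only [Matrix.mul_assoc]
    rw [h3, h2, hQQi, Matrix.one_mul, Matrix.mul_one] at h1
    exact h1
  have hQ2 : Qᵀ * N * Qb = cF • 1 := by
    have h1 := congrArg Matrix.transpose hQ
    rw [Matrix.transpose_mul, Matrix.transpose_mul, Matrix.transpose_transpose, Matrix.transpose_one, hNT,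
      Matrix.smul_mul, Matrix.mul_smul, ← Matrix.mul_assoc] at h1
    have h2 : cF • (cF • (Qᵀ * N * Qb)) = cF • (1 : Matrix (Fin n) (Fin n) F) := by rw [h1]
    rw [smul_smul, hcF2, one_smul] at h2
    exact h2
  set kg : GL (Fin n) F := (mapGL n σ Qg)⁻¹ with hkg
  have hkgval : (kg : Matrix (Fin n) (Fin n) F) = Qbi := by
    rw [hkg, mapGL_inv_val]
  set Xg : GL (Fin n) F := (mapGL n σ Qg)⁻¹ * Qg with hXg
  have hXgval : (Xg : Matrix (Fin n) (Fin n) F) = Qbi * Q := by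
    rw [hXg, Units.val_mul, mapGL_inv_val, hQgval]
  have hXgbar : (Xg : Matrix (Fin n) (Fin n) F).map ⇑σ = Qi * Qb := by
    rw [hXgval, Matrix.map_mul, hQbib]
  have hXmem : Xg ∈ simU n F q := by
    rw [mem_simU_iff_mat σ hσ]
    refine ⟨Units.mk0 cF hcF0, ?_⟩
    rw [Units.val_mk0, hXgbar, hXgval, Matrix.transpose_mul, ← hQ2, hNeq]
    simp only [Matrix.mul_assoc]
  refine ⟨⟨Xg, hXmem⟩, kg, e, he0, ?_, ?_, ?_⟩
  · show (Xg : Matrix (Fin n) (Fin n) F) * (Xg : Matrix (Fin n) (Fin n) F).map ⇑σ = 1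
    rw [hXgbar, hXgval]
    calc Qbi * Q * (Qi * Qb) = Qbi * (Q * Qi) * Qb := by simp only [Matrix.mul_assoc]
      _ = 1 := by rw [hQQi, Matrix.mul_one, hQbiQb]
  · show (Xg : Matrix (Fin n) (Fin n) F) * (kg : Matrix (Fin n) (Fin n) F).map ⇑σ = kg
    rw [hkgval, hQbib, hXgval, Matrix.mul_assoc, hQQi, Matrix.mul_one]
  · rw [hkgval, hQbib, ← hNeq]

end

end Cfsg.Agent.Lib.Helper16.PU
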