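import Mathlib
import Cfsg.Prelude.Def_LieTypeDatum
import Cfsg.Agent.Lib.Helper16.PU17
import Cfsg.Agent.Lib.Helper16.PG11

set_option autoImplicit false
set_option linter.unusedSectionVars false
set_option linter.unusedVariables false

namespace Cfsg.Agent.Lib.Helper16.PU

open Matrix Cfsg.Agent.Lib.Helper16.PG

universe u w

section
variable {n : ℕ} {F : Type u} [Field F] {q : ℕ} {F₀ : Type w} [Field F₀] [Algebra F₀ F]

/-- the data linking a graph automorphism `Φ(X) ∘ bar` of `PSU_n(F)` with the form `U` over `F₀`. -/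
def GData (σ : F ≃+* F) (X : ↥(simU n F q)) (U : GL (Fin n) F₀) : Prop :=
  ∃ (k : GL (Fin n) F) (e : F), e ≠ 0 ∧
    (X.1 : Matrix (Fin n) (Fin n) F) * (k : Matrix (Fin n) (Fin n) F).map ⇑σ = k ∧
    (k : Matrix (Fin n) (Fin n) F)ᵀ * (k : Matrix (Fin n) (Fin n) F).map ⇑σ =
      e • (U : Matrix (Fin n) (Fin n) F₀).map (algebraMap F₀ F)

theorem bar_order_two [Fintype F] (hF : Fintype.card F = q ^ 2) (σ : F ≃+* F) (hσ : ∀ a, σ a = a ^ q) :
    orderOf σ = 2 := by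
  apply orderOf_eq_prime
  · ext x
    show σ ((σ ^ 1) x) = x
    rw [pow_one]; exact bar_bar hF σ hσ x
  · intro h
    obtain ⟨θ, hθ⟩ := exists_moved hF σ hσ
    rw [h] at hθ
    exact hθ rfl

theorem PhiU_innerDiag [Fintype F] (hF : Fintype.card F = q ^ 2) (hn : 1 ≤ n) (X : ↥(simU n F q)) :
    Cfsg.IsInnerDiagonalAutPSU (PhiU n F q X) := by
  have h1 : PhiU n F q X ∈ (PhiU n F q).range := ⟨X, rfl⟩
  rw [← inndiagU_eq_range hF hn] at h1
  obtain ⟨σ, hσ⟩ := exists_bar hF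
  rw [isInnerDiagU_iff]
  obtain ⟨ν, g, hg, hX⟩ := simU_factor hF σ hσ hn X.1 X.2
  have hgs : g ∈ simU n F q := GU_le_simU hg
  have hνs : scalG (Fin n) ν ∈ simU n F q := scalG_mem_simU σ hσ ν
  refine ⟨⟨g, hgs⟩, hg, ?_⟩
  have h2 : X = ⟨scalG (Fin n) ν, hνs⟩ * ⟨g, hgs⟩ := Subtype.ext hX
  rw [h2, map_mul, PhiU_scal, one_mul]

/-- `Φ(X) ∘ bar` with `X X̄ = 1` is an involutory graph automorphism. -/
theorem graphU_isGraph [Fintype F] (hF : Fintype.card F = q ^ 2) (hn : 3 ≤ n) (σ : F ≃+* F)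
    (hσ : ∀ a, σ a = a ^ q) (X : ↥(simU n F q))
    (hXX : (X.1 : Matrix (Fin n) (Fin n) F) * (X.1 : Matrix (Fin n) (Fin n) F).map ⇑σ = 1) :
    Cfsg.IsGraphAutClassPSU (PhiU n F q X * fieldU n q σ) ∧ orderOf (PhiU n F q X * fieldU n q σ) = 2 := by
  constructor
  · refine ⟨hn, PhiU n F q X, fieldU n q σ, σ, ?_, PhiU_innerDiag hF (by omega) X,
      (isFieldAutU_iff σ _).mpr rfl, rfl⟩
    rw [bar_order_two hF σ hσ]
    exact even_two
  · apply orderOf_eq_prime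
    · rw [pow_two]
      have hσσ : σ.trans σ = RingEquiv.refl F := by
        ext x
        exact bar_bar hF σ hσ x
      have h1 : (PhiU n F q X * fieldU n q σ) * (PhiU n F q X * fieldU n q σ) =
          PhiU n F q (X * barS σ X) * fieldU n q (σ.trans σ) := by
        rw [fieldU_mul, map_mul]
        calc (PhiU n F q X * fieldU n q σ) * (PhiU n F q X * fieldU n q σ)
            = PhiU n F q X * (fieldU n q σ * PhiU n F q X) * fieldU n q σ := by group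
          _ = PhiU n F q X * (PhiU n F q (barS σ X) * fieldU n q σ) * fieldU n q σ := by
              rw [field_conj]; rfl
          _ = PhiU n F q X * PhiU n F q (barS σ X) * (fieldU n q σ * fieldU n q σ) := by group
      have h2 : X * barS σ X = 1 := by
        apply Subtype.ext
        apply Units.ext
        show ((X.1 * (barS σ X).1 : GL (Fin n) F) : Matrix (Fin n) (Fin n) F) = 1
        rw [Units.val_mul, barS_val]
        exact hXX
      rw [h1, h2, map_one, hσσ, fieldU_refl, one_mul]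
    · intro h
      have h3 : fieldU n q σ = PhiU n F q X⁻¹ := by
        rw [map_inv]
        exact eq_inv_of_mul_eq_one_right h
      have h4 := fieldU_eq_PhiU hF hn σ _ h3
      obtain ⟨θ, hθ⟩ := exists_moved hF σ hσ
      rw [h4] at hθ
      exact hθ rfl

/-- from `PSU_n(F)` to `PSL_n(F₀)`. -/
theorem psu_to_psl [Fintype F] [Fintype F₀] (hF : Fintype.card F = q ^ 2) (hF₀ : Fintype.card F₀ = q)
    (σ : F ≃+* F) (hσ : ∀ a, σ a = a ^ q) (γ : MulAut (Cfsg.PSU n F q))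
    (hγ : Cfsg.IsGraphAutClassPSU γ) (hγ2 : orderOf γ = 2) :
    ∃ (X : ↥(simU n F q)) (U : GL (Fin n) F₀), γ = PhiU n F q X * fieldU n q σ ∧ GData σ X U ∧
      Cfsg.IsGraphAutClassPSL (Phi n F₀ U⁻¹ * iota n F₀) ∧ orderOf (Phi n F₀ U⁻¹ * iota n F₀) = 2 := by
  have hn : 3 ≤ n := hγ.1
  obtain ⟨X, hX, hXX⟩ := graph_normal_form hF σ hσ γ hγ hγ2
  obtain ⟨k, U, e, c, he, hk, hM, hU⟩ := form_of_graph (F₀ := F₀) hF hF₀ (by omega) σ hσ X.1 X.2 hXX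
  exact ⟨X, U, hX, ⟨k, e, he, hk, hM⟩, graph_isGraphAut hn _, graph_order_two hn U c hU⟩

/-- from `PSL_n(F₀)` to `PSU_n(F)`. -/
theorem psl_to_psu [Fintype F] [Fintype F₀] (hF : Fintype.card F = q ^ 2) (hF₀ : Fintype.card F₀ = q)
    (σ : F ≃+* F) (hσ : ∀ a, σ a = a ^ q)
    (γL : MulAut (Matrix.ProjectiveSpecialLinearGroup (Fin n) F₀))
    (hγL : Cfsg.IsGraphAutClassPSL γL) (hγL2 : orderOf γL = 2) :
    ∃ (X : ↥(simU n F q)) (U : GL (Fin n) F₀), γL = Phi n F₀ U⁻¹ * iota n F₀ ∧ GData σ X U ∧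
      Cfsg.IsGraphAutClassPSU (PhiU n F q X * fieldU n q σ) ∧ orderOf (PhiU n F q X * fieldU n q σ) = 2 := by
  have hn : 3 ≤ n := hγL.1
  obtain ⟨U, rfl⟩ := graph_of_isGraphAut γL hγL
  have hsq : (Phi n F₀ U⁻¹ * iota n F₀) * (Phi n F₀ U⁻¹ * iota n F₀) = 1 := by
    rw [← pow_two, ← hγL2]; exact pow_orderOf_eq_one _
  rw [graph_sq_eq_one_iff, inv_inv] at hsq
  obtain ⟨c, hU⟩ := hsq
  obtain ⟨X, k, e, he, hXX, hk, hM⟩ := exists_graph_of_form (F := F) hF hF₀ (by omega) σ hσ U c hU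
  obtain ⟨h1, h2⟩ := graphU_isGraph hF hn σ hσ X hXX
  exact ⟨X, U, rfl, ⟨k, e, he, hk, hM⟩, h1, h2⟩

/-- the centralizers correspond. -/
theorem cent_transfer [Fintype F] [Fintype F₀] (hF : Fintype.card F = q ^ 2) (hF₀ : Fintype.card F₀ = q)
    (hn : 3 ≤ n) (σ : F ≃+* F) (hσ : ∀ a, σ a = a ^ q) (X : ↥(simU n F q)) (U : GL (Fin n) F₀)
    (hD : GData σ X U) :
    Nonempty (↥(Cfsg.inndiagPSU n F q ⊓ Subgroup.centralizer {PhiU n F q X * fieldU n q σ}) ≃*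
      ↥(Cfsg.inndiagPSL n F₀ ⊓ Subgroup.centralizer {Phi n F₀ U⁻¹ * iota n F₀})) := by
  obtain ⟨k, e, he, hk, hM⟩ := hD
  obtain ⟨e1⟩ := cent_graphU hF hF₀ hn σ hσ X k hk (U : Matrix (Fin n) (Fin n) F₀) e he hM
  obtain ⟨e2⟩ := cent_graph_equiv (U⁻¹ : GL (Fin n) F₀)
  rw [inv_inv] at e2
  exact ⟨e1.trans e2.symm⟩

/-- the conjugacy relations correspond. -/
theorem conj_transfer [Fintype F] [Fintype F₀] (hF : Fintype.card F = q ^ 2) (hF₀ : Fintype.card F₀ = q)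
    (hn : 3 ≤ n) (σ : F ≃+* F) (hσ : ∀ a, σ a = a ^ q) (X X' : ↥(simU n F q)) (U U' : GL (Fin n) F₀)
    (hD : GData σ X U) (hD' : GData σ X' U') :
    Cfsg.IsConjUnder (Cfsg.inndiagPSU n F q) (PhiU n F q X * fieldU n q σ) (PhiU n F q X' * fieldU n q σ) ↔
      Cfsg.IsConjUnder (Cfsg.inndiagPSL n F₀) (Phi n F₀ U⁻¹ * iota n F₀) (Phi n F₀ U'⁻¹ * iota n F₀) := by
  obtain ⟨k, e, he, hk, hM⟩ := hD
  obtain ⟨k', e', he', hk', hM'⟩ := hD'
  have hU0 : (U : Matrix (Fin n) (Fin n) F₀) ≠ 0 := by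
    obtain ⟨i, j, hij⟩ := gl_ne_zero (by omega : 1 ≤ n) U
    intro h0
    rw [h0] at hij
    exact hij rfl
  rw [conjU_iff_forms hF hF₀ hn σ hσ X X' k k' hk hk' (U : Matrix (Fin n) (Fin n) F₀)
    (U' : Matrix (Fin n) (Fin n) F₀) e e' he he' hM hM' hU0, isConj_graph_iff, inv_inv, inv_inv]
  constructor
  · rintro ⟨y, r, hy⟩
    refine ⟨y⁻¹, r, ?_⟩
    set Y := (y : Matrix (Fin n) (Fin n) F₀) with hY
    set Yi := ((y⁻¹ : GL (Fin n) F₀) : Matrix (Fin n) (Fin n) F₀) with hYi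
    have h1 : Y * Yi = 1 := gl_mul_inv y
    have h2 : Yiᵀ * Yᵀ = 1 := by rw [← Matrix.transpose_mul, h1, Matrix.transpose_one]
    have h3 : Yiᵀ * (Yᵀ * (U' : Matrix (Fin n) (Fin n) F₀) * Y) * Yi =
        Yiᵀ * ((r : F₀) • (U : Matrix (Fin n) (Fin n) F₀)) * Yi := by rw [hy]
    have h4 : Yiᵀ * (Yᵀ * (U' : Matrix (Fin n) (Fin n) F₀) * Y) * Yi =
        (Yiᵀ * Yᵀ) * (U' : Matrix (Fin n) (Fin n) F₀) * (Y * Yi) := by simp only [Matrix.mul_assoc]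
    rw [h4, h1, h2, Matrix.one_mul, Matrix.mul_one, Matrix.mul_smul, Matrix.smul_mul] at h3
    exact h3
  · rintro ⟨k₀, c, hk₀⟩
    refine ⟨k₀⁻¹, c, ?_⟩
    set Y := (k₀ : Matrix (Fin n) (Fin n) F₀) with hY
    set Yi := ((k₀⁻¹ : GL (Fin n) F₀) : Matrix (Fin n) (Fin n) F₀) with hYi
    have h1 : Y * Yi = 1 := gl_mul_inv k₀
    have h2 : Yiᵀ * Yᵀ = 1 := by rw [← Matrix.transpose_mul, h1, Matrix.transpose_one]
    rw [hk₀, Matrix.mul_smul, Matrix.smul_mul]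
    congr 1
    calc Yiᵀ * (Yᵀ * (U : Matrix (Fin n) (Fin n) F₀) * Y) * Yi
        = (Yiᵀ * Yᵀ) * (U : Matrix (Fin n) (Fin n) F₀) * (Y * Yi) := by simp only [Matrix.mul_assoc]
      _ = _ := by rw [h1, h2, Matrix.one_mul, Matrix.mul_one]

end

end Cfsg.Agent.Lib.Helper16.PU
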