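import Mathlib
import Cfsg.Prelude.Def_LieTypeDatum
import Cfsg.Agent.Lib.Helper16.PU18
import Cfsg.Agent.Lib.Helper16.PG27
import Cfsg.Agent.Lib.Helper16.PG19
import Cfsg.Agent.Lib.Helper16.PG14
import Cfsg.Agent.Lib.Helper16.FieldExt

set_option autoImplicit false
set_option linter.unusedSectionVars false
set_option linter.unusedVariables false

namespace Cfsg.Agent.Lib.Helper16.PU

open Matrix Cfsg.Agent.Lib.Helper16.PG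

universe u w

section
variable {n : ℕ} {F : Type u} [Field F] {q : ℕ}

/-- `PSU_n(q)`, `n` odd: involutory graph automorphisms. -/
theorem graphU_odd_dim [Fintype F] (hF : Fintype.card F = q ^ 2) (hn : 3 ≤ n) {m : ℕ} (hnm : n = 2 * m + 1)
    (F₀ : Type w) [Field F₀] [Fintype F₀] (hF₀ : Fintype.card F₀ = q)
    (γ γ' : MulAut (Cfsg.PSU n F q)) (hγ : Cfsg.IsGraphAutClassPSU γ) (hγ2 : orderOf γ = 2)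
    (hγ' : Cfsg.IsGraphAutClassPSU γ') (hγ'2 : orderOf γ' = 2) :
    Nonempty (↥(Cfsg.inndiagPSU n F q ⊓ Subgroup.centralizer {γ}) ≃* Cfsg.PGO F₀ (Cfsg.quadFormOdd m F₀)) ∧
      Cfsg.IsConjUnder (Cfsg.inndiagPSU n F q) γ γ' := by
  obtain ⟨alg, -⟩ := Cfsg.Agent.Lib.Helper16.exists_algebra_of_card hF hF₀
  let _ := alg
  obtain ⟨σ, hσ⟩ := exists_bar hF
  obtain ⟨X, U, rfl, hD, hL, hL2⟩ := psu_to_psl (F₀ := F₀) hF hF₀ σ hσ γ hγ hγ2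
  obtain ⟨X', U', rfl, hD', hL', hL2'⟩ := psu_to_psl (F₀ := F₀) hF hF₀ σ hσ γ' hγ' hγ'2
  obtain ⟨⟨e⟩, hconj⟩ := graph_odd_dim hn hnm _ _ hL hL2 hL' hL2'
  obtain ⟨e1⟩ := cent_transfer hF hF₀ hn σ hσ X U hD
  exact ⟨⟨e1.trans e⟩, (conj_transfer hF hF₀ hn σ hσ X X' U U' hD hD').mpr hconj⟩

/-- `PSU_n(q)`, `n` even, `q` odd: involutory graph automorphisms. -/
theorem graphU_classes_odd [Fintype F] (hodd : Odd q) (hF : Fintype.card F = q ^ 2) {m : ℕ} (hm : 2 ≤ m)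
    (hnm : n = 2 * m) (F₀ : Type w) [Field F₀] [Fintype F₀] (hF₀ : Fintype.card F₀ = q) :
    ∃ (γ₁ γ₂ γ₃ : MulAut (Cfsg.PSU n F q)) (a b : F₀),
      (∀ z₁ z₂ : F₀, z₁ ^ 2 + a * z₁ * z₂ + b * z₂ ^ 2 = 0 → z₁ = 0 ∧ z₂ = 0) ∧
      Cfsg.IsGraphAutClassPSU γ₁ ∧ orderOf γ₁ = 2 ∧ Cfsg.IsGraphAutClassPSU γ₂ ∧ orderOf γ₂ = 2 ∧
      Cfsg.IsGraphAutClassPSU γ₃ ∧ orderOf γ₃ = 2 ∧
      ¬ Cfsg.IsConjUnder (Cfsg.inndiagPSU n F q) γ₁ γ₂ ∧ ¬ Cfsg.IsConjUnder (Cfsg.inndiagPSU n F q) γ₁ γ₃ ∧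
      ¬ Cfsg.IsConjUnder (Cfsg.inndiagPSU n F q) γ₂ γ₃ ∧
      (∀ γ : MulAut (Cfsg.PSU n F q), Cfsg.IsGraphAutClassPSU γ → orderOf γ = 2 →
        Cfsg.IsConjUnder (Cfsg.inndiagPSU n F q) γ₁ γ ∨ Cfsg.IsConjUnder (Cfsg.inndiagPSU n F q) γ₂ γ ∨
          Cfsg.IsConjUnder (Cfsg.inndiagPSU n F q) γ₃ γ) ∧
      Nonempty (↥(Cfsg.inndiagPSU n F q ⊓ Subgroup.centralizer {γ₁}) ≃* Cfsg.PGSp m F₀) ∧
      Nonempty (↥(Cfsg.inndiagPSU n F q ⊓ Subgroup.centralizer {γ₂}) ≃*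
        Cfsg.PGO F₀ (Cfsg.quadFormPlus m F₀)) ∧
      Nonempty (↥(Cfsg.inndiagPSU n F q ⊓ Subgroup.centralizer {γ₃}) ≃*
        Cfsg.PGO F₀ (Cfsg.quadFormMinus (m - 1) F₀ a b)) := by
  obtain ⟨alg, -⟩ := Cfsg.Agent.Lib.Helper16.exists_algebra_of_card hF hF₀
  let _ := alg
  obtain ⟨σ, hσ⟩ := exists_bar hF
  have hn : 3 ≤ n := by omega
  have hoddF₀ : Odd (Fintype.card F₀) := by rw [hF₀]; exact hodd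
  obtain ⟨γ₁, γ₂, γ₃, a, b, hab, h1, h12, h2, h22, h3, h32, hn12, hn13, hn23, hall, ⟨c1⟩, ⟨c2⟩, ⟨c3⟩⟩ :=
    graph_classes_odd (F := F₀) (n := n) hoddF₀ hm hnm
  obtain ⟨X₁, U₁, rfl, hD₁, hG₁, hO₁⟩ := psl_to_psu (F := F) hF hF₀ σ hσ γ₁ h1 h12
  obtain ⟨X₂, U₂, rfl, hD₂, hG₂, hO₂⟩ := psl_to_psu (F := F) hF hF₀ σ hσ γ₂ h2 h22
  obtain ⟨X₃, U₃, rfl, hD₃, hG₃, hO₃⟩ := psl_to_psu (F := F) hF hF₀ σ hσ γ₃ h3 h32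
  obtain ⟨e1⟩ := cent_transfer hF hF₀ hn σ hσ X₁ U₁ hD₁
  obtain ⟨e2⟩ := cent_transfer hF hF₀ hn σ hσ X₂ U₂ hD₂
  obtain ⟨e3⟩ := cent_transfer hF hF₀ hn σ hσ X₃ U₃ hD₃
  refine ⟨PhiU n F q X₁ * fieldU n q σ, PhiU n F q X₂ * fieldU n q σ, PhiU n F q X₃ * fieldU n q σ, a, b, hab,
    hG₁, hO₁, hG₂, hO₂, hG₃, hO₃, ?_, ?_, ?_, ?_, ⟨e1.trans c1⟩, ⟨e2.trans c2⟩, ⟨e3.trans c3⟩⟩
  · exact fun h => hn12 ((conj_transfer hF hF₀ hn σ hσ X₁ X₂ U₁ U₂ hD₁ hD₂).mp h)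
  · exact fun h => hn13 ((conj_transfer hF hF₀ hn σ hσ X₁ X₃ U₁ U₃ hD₁ hD₃).mp h)
  · exact fun h => hn23 ((conj_transfer hF hF₀ hn σ hσ X₂ X₃ U₂ U₃ hD₂ hD₃).mp h)
  · intro γ hγ hγ2
    obtain ⟨X, U, rfl, hD, hL, hL2⟩ := psu_to_psl (F₀ := F₀) hF hF₀ σ hσ γ hγ hγ2
    rcases hall _ hL hL2 with h | h | h
    · left; exact (conj_transfer hF hF₀ hn σ hσ X₁ X U₁ U hD₁ hD).mpr h
    · right; left; exact (conj_transfer hF hF₀ hn σ hσ X₂ X U₂ U hD₂ hD).mpr h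
    · right; right; exact (conj_transfer hF hF₀ hn σ hσ X₃ X U₃ U hD₃ hD).mpr h

/-- `PSU_n(q)`, `n` even, `q` even: involutory graph automorphisms. -/
theorem graphU_classes_even [Fintype F] [CharP F 2] (hF : Fintype.card F = q ^ 2) {m : ℕ} (hm : 2 ≤ m)
    (hnm : n = 2 * m) (F₀ : Type w) [Field F₀] [Fintype F₀] (hF₀ : Fintype.card F₀ = q) :
    ∃ (γ₁ γ₃ : MulAut (Cfsg.PSU n F q)) (t : ↥(Matrix.symplecticGroup (Fin m) F₀)),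
      Cfsg.IsTransvection (t : Matrix (Fin m ⊕ Fin m) (Fin m ⊕ Fin m) F₀) ∧
      Cfsg.IsGraphAutClassPSU γ₁ ∧ orderOf γ₁ = 2 ∧ Cfsg.IsGraphAutClassPSU γ₃ ∧ orderOf γ₃ = 2 ∧
      ¬ Cfsg.IsConjUnder (Cfsg.inndiagPSU n F q) γ₁ γ₃ ∧
      (∀ γ : MulAut (Cfsg.PSU n F q), Cfsg.IsGraphAutClassPSU γ → orderOf γ = 2 →
        Cfsg.IsConjUnder (Cfsg.inndiagPSU n F q) γ₁ γ ∨ Cfsg.IsConjUnder (Cfsg.inndiagPSU n F q) γ₃ γ) ∧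
      Nonempty (↥(Cfsg.inndiagPSU n F q ⊓ Subgroup.centralizer {γ₁}) ≃*
        ↥(Matrix.symplecticGroup (Fin m) F₀)) ∧
      Nonempty (↥(Cfsg.inndiagPSU n F q ⊓ Subgroup.centralizer {γ₃}) ≃*
        ↥(Subgroup.centralizer ({t} : Set ↥(Matrix.symplecticGroup (Fin m) F₀)))) := by
  obtain ⟨alg, -⟩ := Cfsg.Agent.Lib.Helper16.exists_algebra_of_card hF hF₀
  let _ := alg
  obtain ⟨σ, hσ⟩ := exists_bar hF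
  have hn : 3 ≤ n := by omega
  have hchar : CharP F₀ 2 := (algebraMap F₀ F).charP (algebraMap F₀ F).injective 2
  obtain ⟨γ₁, γ₃, t, ht, h1, h12, h3, h32, hn13, hall, ⟨c1⟩, ⟨c3⟩⟩ :=
    graph_classes_even (F := F₀) (n := n) hm hnm
  obtain ⟨X₁, U₁, rfl, hD₁, hG₁, hO₁⟩ := psl_to_psu (F := F) hF hF₀ σ hσ γ₁ h1 h12
  obtain ⟨X₃, U₃, rfl, hD₃, hG₃, hO₃⟩ := psl_to_psu (F := F) hF hF₀ σ hσ γ₃ h3 h32
  obtain ⟨e1⟩ := cent_transfer hF hF₀ hn σ hσ X₁ U₁ hD₁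
  obtain ⟨e3⟩ := cent_transfer hF hF₀ hn σ hσ X₃ U₃ hD₃
  refine ⟨PhiU n F q X₁ * fieldU n q σ, PhiU n F q X₃ * fieldU n q σ, t, ht,
    hG₁, hO₁, hG₃, hO₃, ?_, ?_, ⟨e1.trans c1⟩, ⟨e3.trans c3⟩⟩
  · exact fun h => hn13 ((conj_transfer hF hF₀ hn σ hσ X₁ X₃ U₁ U₃ hD₁ hD₃).mp h)
  · intro γ hγ hγ2
    obtain ⟨X, U, rfl, hD, hL, hL2⟩ := psu_to_psl (F₀ := F₀) hF hF₀ σ hσ γ hγ hγ2
    rcases hall _ hL hL2 with h | h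
    · left; exact (conj_transfer hF hF₀ hn σ hσ X₁ X U₁ U hD₁ hD).mpr h
    · right; exact (conj_transfer hF hF₀ hn σ hσ X₃ X U₃ U hD₃ hD).mpr h

end

end Cfsg.Agent.Lib.Helper16.PU
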