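import Mathlib
import Cfsg.Agent.Lib.Helper16.PlusFam

set_option autoImplicit false
set_option linter.unusedSectionVars false
set_option linter.unusedSimpArgs false

namespace Cfsg.Agent.Lib.Helper16

open Module Matrix
open scoped commutatorElement

variable {F : Type*} [Field F] {m : ℕ}

def sigS (m : ℕ) : Equiv.Perm (Fin m ⊕ Fin m) := Equiv.sumComm (Fin m) (Fin m)

def sigP (m : ℕ) : Equiv.Perm (Fin m ⊕ Fin m) := Equiv.sumCongr Fin.revPerm Fin.revPerm

def sigTfun (m k : ℕ) (x : Fin m ⊕ Fin m) : Fin m ⊕ Fin m :=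
  if Sum.elim (fun j : Fin m => (j : ℕ)) (fun j : Fin m => (j : ℕ)) x < k then x.swap else x

theorem sigTfun_invol (m k : ℕ) : Function.Involutive (sigTfun m k) := by
  intro x
  rcases x with j | j
  · unfold sigTfun
    by_cases h : (j : ℕ) < k
    · simp [h]
    · simp [h]
  · unfold sigTfun
    by_cases h : (j : ℕ) < k
    · simp [h]
    · simp [h]

def sigT (m k : ℕ) : Equiv.Perm (Fin m ⊕ Fin m) := (sigTfun_invol m k).toPerm

theorem sigS_pres (v : Fin m ⊕ Fin m → F) :
    Cfsg.quadFormPlus m F (v ∘ sigS m) = Cfsg.quadFormPlus m F v := by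
  unfold Cfsg.quadFormPlus sigS
  apply Finset.sum_congr rfl
  intro i _
  simp [mul_comm]

theorem sigP_pres (v : Fin m ⊕ Fin m → F) :
    Cfsg.quadFormPlus m F (v ∘ sigP m) = Cfsg.quadFormPlus m F v := by
  unfold Cfsg.quadFormPlus sigP
  simp only [Function.comp_apply, Equiv.sumCongr_apply, Sum.map_inl, Sum.map_inr]
  exact Equiv.sum_comp Fin.revPerm (fun i => v (Sum.inl i) * v (Sum.inr i))

theorem sigT_pres (k : ℕ) (v : Fin m ⊕ Fin m → F) :
    Cfsg.quadFormPlus m F (v ∘ sigT m k) = Cfsg.quadFormPlus m F v := by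
  unfold Cfsg.quadFormPlus
  apply Finset.sum_congr rfl
  intro i _
  show v (sigTfun m k (Sum.inl i)) * v (sigTfun m k (Sum.inr i)) = _
  unfold sigTfun
  by_cases h : (i : ℕ) < k
  · simp [h, mul_comm]
  · simp [h]

theorem sig_identity (k : ℕ) (hm : m = 2 * k) (x : Fin m ⊕ Fin m) :
    sigP m (sigT m k x) = sigT m k (sigP m (sigS m x)) := by
  show sigP m (sigTfun m k x) = sigTfun m k (sigP m (sigS m x))
  rcases x with j | j
  · unfold sigTfun sigP sigS
    have hj := j.isLt
    by_cases h : (j : ℕ) < k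
    · have h' : ¬ ((Fin.rev j : Fin m) : ℕ) < k := by
        rw [Fin.val_rev]; omega
      simp [h, h']
      omega
    · have h' : ((Fin.rev j : Fin m) : ℕ) < k := by
        rw [Fin.val_rev]; omega
      simp [h, h']
      omega
  · unfold sigTfun sigP sigS
    have hj := j.isLt
    by_cases h : (j : ℕ) < k
    · have h' : ¬ ((Fin.rev j : Fin m) : ℕ) < k := by
        rw [Fin.val_rev]; omega
      simp [h, h']
      omega
    · have h' : ((Fin.rev j : Fin m) : ℕ) < k := by
        rw [Fin.val_rev]; omega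
      simp [h, h']
      omega

theorem swap_mem_omega (k : ℕ) (hm : m = 2 * k) :
    permIso (Cfsg.quadFormPlus m F) (sigS m) sigS_pres ∈ Cfsg.Omega F (Cfsg.quadFormPlus m F) := by
  set S := permIso (Cfsg.quadFormPlus m F) (sigS m) sigS_pres with hS
  set P := permIso (Cfsg.quadFormPlus m F) (sigP m) sigP_pres with hP
  set T := permIso (Cfsg.quadFormPlus m F) (sigT m k) (sigT_pres k) with hT
  have key : T * P = S * P * T := by
    apply iso_ext'
    rw [iso_mul_coe, iso_mul_coe, iso_mul_coe, Matrix.ext_iff_mulVec]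
    intro v
    rw [← Matrix.mulVec_mulVec, ← Matrix.mulVec_mulVec, ← Matrix.mulVec_mulVec,
      hS, hP, hT, permIso_mulVec, permIso_mulVec, permIso_mulVec, permIso_mulVec, permIso_mulVec]
    funext x
    simp only [Function.comp_apply]
    rw [sig_identity k hm x]
  have h2 : S = ⁅T, P⁆ := by
    rw [commutatorElement_def, key]
    group
  rw [h2]
  exact Subgroup.commutator_mem_commutator (Subgroup.mem_top _) (Subgroup.mem_top _)

end Cfsg.Agent.Lib.Helper16
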