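import Mathlib
import Cfsg.Agent.Lib.Helper18.REELA.Defs
import Cfsg.Agent.Lib.Helper16.O9HKSUP

/-!
# Project REE, block LA (designer helper18), row LA04 `la_split`: second-written core (helper16)
on the STATEMENT of LA03 `la_charpoly`, via the landed O9H rows `ker_sup` / `ker_dim_one`.
-/

set_option autoImplicit false

namespace Cfsg.Agent.Lib.helper7.REE

open Matrix Polynomial

universe v

section finite

variable {K : Type v} [Field K]

/-- the splitting from the factorisation of the characteristic polynomial -/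
theorem reela04_h16_split (M : GL (Fin 7) K) (p : K[X]) (hp : Irreducible p)
    (hdeg : p.natDegree = 6) (hχ : (M : Matrix (Fin 7) (Fin 7) K).charpoly = (X - 1) * p) :
    LaSplit (laHom (Fin 7) K M) p := by
  have hX1 : (X - 1 : K[X]) = X - C 1 := by rw [map_one]
  -- `p(1) ≠ 0`
  have hev : p.eval 1 ≠ 0 := by
    intro h0
    have hroot : (X - C (1 : K)) ∣ p := Polynomial.dvd_iff_isRoot.mpr h0
    obtain ⟨c, hc⟩ := hroot
    have hXnu : ¬ IsUnit (X - C (1 : K)) := Polynomial.not_isUnit_X_sub_C 1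
    have hcu : IsUnit c := (hp.isUnit_or_isUnit hc).resolve_left hXnu
    obtain ⟨a, ha0, rfl⟩ := Polynomial.isUnit_iff.mp hcu
    have : p.natDegree = 1 := by
      rw [hc, Polynomial.natDegree_mul_C (ha0.ne_zero), Polynomial.natDegree_X_sub_C]
    omega
  have hcop : IsCoprime (X - 1 : K[X]) p := by
    rw [hX1]
    rw [(Polynomial.irreducible_X_sub_C (1 : K)).coprime_iff_not_dvd]
    intro hd
    exact hev (Polynomial.dvd_iff_isRoot.mp hd)
  have hχ' : (M : Matrix (Fin 7) (Fin 7) K).charpoly = (X - 1) ^ 1 * p := by rw [pow_one]; exact hχ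
  obtain ⟨h1, -, h3⟩ := Cfsg.Agent.Lib.Helper16.O9H.ker_dim_one M 1 p hev hχ'
  have hcompl := Cfsg.Agent.Lib.Helper16.O9H.ker_sup M (X - 1) p hcop hχ
  have hae : aeval (Matrix.toLin' (M : Matrix (Fin 7) (Fin 7) K)) (X - 1 : K[X]) =
      Matrix.toLin' (M : Matrix (Fin 7) (Fin 7) K) - 1 := by
    rw [map_sub, aeval_X, map_one]
  refine ⟨hp, ?_, ?_, ?_⟩
  · rw [laHom_apply, ← hae]
    rw [pow_one] at h1
    exact h1
  · rw [laHom_apply]
    exact h3
  · rw [laHom_apply, ← hae]
    exact hcompl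

variable [Fintype K]

/-- LA04 from the statement of LA03 -/
theorem reela04_h16_core (l : ℕ) (hl : l.Prime)
    (h03 : ∀ M : Matrix (Fin 7) (Fin 7) K, M ^ l = 1 → M ≠ 1 →
      ∃ p : K[X], Irreducible p ∧ p.Monic ∧ p.natDegree = 6 ∧ M.charpoly = (X - 1) * p)
    (M : GL (Fin 7) K) (hM : orderOf M = l) :
    ∃ p : K[X], p.natDegree = 6 ∧ LaSplit (laHom (Fin 7) K M) p := by
  have hMl : (M : Matrix (Fin 7) (Fin 7) K) ^ l = 1 := by
    rw [← Units.val_pow_eq_pow_val, ← hM, pow_orderOf_eq_one]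
    rfl
  have hM1 : (M : Matrix (Fin 7) (Fin 7) K) ≠ 1 := by
    intro h
    have : M = 1 := Units.ext h
    rw [this, orderOf_one] at hM
    exact hl.one_lt.ne' hM.symm
  obtain ⟨p, hp, -, hdeg, hχ⟩ := h03 _ hMl hM1
  exact ⟨p, hdeg, reela04_h16_split M p hp hdeg hχ⟩

end finite

end Cfsg.Agent.Lib.helper7.REE
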