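import Mathlib
import Cfsg.Agent.Lib.helper7.REE.Defs
import Cfsg.Agent.Lib.helper4.REEG5A

/-!
# Project RES (designer lead), row T2 `two_case` (helper16): core on the statements of
V4 `four_conj` (RES), G5D `NV_basic` (clause 2), G4I `A1_basic` (clauses 2, 3).
`syl2_card` (G5A, helper4) is on main and cited by name.
-/

set_option autoImplicit false

namespace Cfsg.Agent.Lib.Lead.RES

open Matrix Cfsg.Agent.Lib.helper8 Cfsg.Agent.Lib.helper7.REE

universe u v

section generic

variable {G : Type u} [Group G]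

/-- a subgroup `S` all of whose elements conjugate `A` into itself normalises `A` -/
theorem rest2_le_normalizer (S A : Subgroup G) (h : ∀ s ∈ S, ∀ x ∈ A, s * x * s⁻¹ ∈ A) :
    S ≤ Subgroup.normalizer (A : Set G) := by
  intro s hs
  rw [Subgroup.mem_normalizer_iff]
  intro x
  constructor
  · exact h s hs x
  · intro hx
    have := h s⁻¹ (S.inv_mem hs) _ hx
    rw [inv_inv] at this
    have e : s⁻¹ * (s * x * s⁻¹) * s = x := by group
    rwa [e] at this

end generic

variable {G : Type u} [Group G] [Finite G] {K : Type v} [Field K] [Fintype K] {m : ℕ}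

theorem rest2_core (R : ReeAx G K m)
    (hV4 : ∀ Q : Subgroup G, Nat.card Q = 4 → (∀ x ∈ Q, x * x = 1) →
      ∃ g : G, ∀ x : G, x ∈ Q ↔ g * x * g⁻¹ ∈ R.V)
    (hNV : ∀ g ∈ Subgroup.normalizer (R.V : Set G), ∀ a ∈ R.A1, g * a * g⁻¹ ∈ R.A1)
    (hA1c : IsCyclic R.A1) (hA1card : 4 * Nat.card R.A1 = qq m + 1)
    (S Q : Subgroup G) (hQS : Q ≤ S) (hne : Q ≠ ⊥) (hQ : IsPGroup 2 Q)
    (hnorm : ∀ s ∈ S, ∀ x ∈ Q, s * x * s⁻¹ ∈ Q)
    (hcent : ∀ s ∈ S, (∀ x ∈ Q, s * x = x * s) → s ∈ Q) :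
    ∃ A : Subgroup G, S ≤ Subgroup.normalizer (A : Set G) ∧
      ((∃ P : Sylow 2 G, A = P) ∨ (IsCyclic A ∧ Nat.card A = (qq m + 1) / 4)) := by
  obtain ⟨P, hQP⟩ := hQ.exists_le_sylow
  obtain ⟨hexp, -, -⟩ := R.syl2 P
  have hP8 : Nat.card (P : Subgroup G) = 8 := (ReeAx.syl2_card R).1 P
  have hdvd : Nat.card Q ∣ 2 ^ 3 := by
    have := Subgroup.card_dvd_of_le hQP
    rw [hP8] at this
    exact this
  obtain ⟨k, hk3, hk⟩ := (Nat.dvd_prime_pow Nat.prime_two).mp hdvd
  have hQ1 : Nat.card Q ≠ 1 := by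
    intro h
    exact hne (Subgroup.card_eq_one.mp h)
  have hk0 : k ≠ 0 := by
    rintro rfl
    exact hQ1 (by rw [hk]; rfl)
  have hcases : k = 1 ∨ k = 2 ∨ k = 3 := by omega
  rcases hcases with rfl | rfl | rfl
  · -- `|Q| = 2`
    refine ⟨P, ?_, Or.inl ⟨P, rfl⟩⟩
    have hk2 : Nat.card Q = 2 := by rw [hk]; rfl
    obtain ⟨a, ha1, hauniq⟩ := (Nat.card_eq_two_iff' (1 : Q)).mp hk2
    have hSQ : S ≤ Q := by
      intro s hs
      apply hcent s hs
      intro x hx
      by_cases hx1 : x = 1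
      · rw [hx1, mul_one, one_mul]
      · have e1 : (⟨x, hx⟩ : Q) = a := hauniq _ (fun h => hx1 (congrArg Subtype.val h))
        have hc : s * x * s⁻¹ ∈ Q := hnorm s hs x hx
        have hc1 : (⟨s * x * s⁻¹, hc⟩ : Q) ≠ 1 := by
          intro h
          have h' : s * x * s⁻¹ = 1 := congrArg Subtype.val h
          apply hx1
          have : x = s⁻¹ * (s * x * s⁻¹) * s := by group
          rw [this, h']
          group
        have e2 : (⟨s * x * s⁻¹, hc⟩ : Q) = a := hauniq _ hc1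
        have e3 : s * x * s⁻¹ = x := by
          have := e2.trans e1.symm
          exact congrArg Subtype.val this
        calc s * x = (s * x * s⁻¹) * s := by group
          _ = x * s := by rw [e3]
    exact (hSQ.trans hQP).trans Subgroup.le_normalizer
  · -- `|Q| = 4`
    have hk4 : Nat.card Q = 4 := by rw [hk]; rfl
    have hexpQ : ∀ x ∈ Q, x * x = 1 := fun x hx => hexp x (hQP hx)
    obtain ⟨g, hg⟩ := hV4 Q hk4 hexpQ
    -- `g s g⁻¹` normalises `V`
    have hgs : ∀ s ∈ S, g * s * g⁻¹ ∈ Subgroup.normalizer (R.V : Set G) := by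
      have hS' : (S.map (MulAut.conj g).toMonoidHom) ≤ Subgroup.normalizer (R.V : Set G) := by
        apply rest2_le_normalizer
        rintro _ ⟨s, hs, rfl⟩ v hv
        have h1 : g⁻¹ * v * g ∈ Q := by
          rw [hg]
          have : g * (g⁻¹ * v * g) * g⁻¹ = v := by group
          rw [this]; exact hv
        have h2 : s * (g⁻¹ * v * g) * s⁻¹ ∈ Q := hnorm s hs _ h1
        rw [hg] at h2
        have e : (MulAut.conj g).toMonoidHom s * v * ((MulAut.conj g).toMonoidHom s)⁻¹ =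
            g * (s * (g⁻¹ * v * g) * s⁻¹) * g⁻¹ := by
          simp only [MulEquiv.coe_toMonoidHom, MulAut.conj_apply]
          group
        rw [e]; exact h2
      intro s hs
      apply hS'
      exact ⟨s, hs, by simp [MulAut.conj_apply]⟩
    set f : G →* G := (MulAut.conj g⁻¹).toMonoidHom with hf
    have hfinj : Function.Injective f := (MulAut.conj g⁻¹).injective
    have hfa : ∀ x, f x = g⁻¹ * x * g := by
      intro x
      simp [hf, MulAut.conj_apply]
    refine ⟨R.A1.map f, ?_, Or.inr ⟨?_, ?_⟩⟩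
    · apply rest2_le_normalizer
      rintro s hs _ ⟨a, ha, rfl⟩
      refine ⟨(g * s * g⁻¹) * a * (g * s * g⁻¹)⁻¹, hNV _ (hgs s hs) a ha, ?_⟩
      rw [hfa, hfa]
      group
    · haveI := hA1c
      exact isCyclic_of_surjective (f.subgroupMap R.A1) (f.subgroupMap_surjective R.A1)
    · rw [Subgroup.card_map_of_injective hfinj]
      omega
  · -- `|Q| = 8`
    have hk8 : Nat.card Q = 8 := by rw [hk]; rfl
    have hQeq : Q = (P : Subgroup G) := Subgroup.eq_of_le_of_card_ge hQP (by rw [hP8, hk8])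
    refine ⟨P, ?_, Or.inl ⟨P, rfl⟩⟩
    rw [← hQeq]
    exact rest2_le_normalizer S Q hnorm

end Cfsg.Agent.Lib.Lead.RES
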