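import Mathlib
import Cfsg.Agent.Lib.helper7.REE.Defs
import Cfsg.Agent.Lib.Helper13.REEG4I
import Cfsg.Agent.Lib.Helper29.REEG5D
import Cfsg.Agent.Lib.Helper28.RSSV2
import Cfsg.Agent.Lib.Helper16.REST2core

/-!
# Project RES (designer lead), row T2 `two_case` (helper16): verbatim wrapper of `rest2_core`
on the landed rows RSS V2 `rss_four` (helper28; gives the statement of RES V4 `four_conj`),
G5D `NV_basic` (helper29 on helper26's core), G4I `A1_basic` (helper13).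
-/

set_option autoImplicit false

namespace Cfsg.Agent.Lib.Lead.RES

open Matrix Cfsg.Agent.Lib.helper8 Cfsg.Agent.Lib.helper7.REE

universe u v

variable {G : Type u} [Group G] [Finite G] {K : Type v} [Field K] [Fintype K] {m : ℕ}

/-- the statement of V4 `four_conj`, from helper28's landed `rss_four` -/
theorem rest2_four (R : ReeAx G K m) (Q : Subgroup G) (hcard : Nat.card Q = 4)
    (hexp : ∀ x ∈ Q, x * x = 1) : ∃ g : G, ∀ x : G, x ∈ Q ↔ g * x * g⁻¹ ∈ R.V := by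
  obtain ⟨g, hg⟩ := ReeAx.rss_four R Q hcard hexp
  refine ⟨g, fun x => ?_⟩
  rw [← hg, Subgroup.mem_map]
  constructor
  · intro hx
    exact ⟨x, hx, by simp [MulAut.conj_apply]⟩
  · rintro ⟨y, hy, hyx⟩
    have : y = x := by
      have h1 : g * y * g⁻¹ = g * x * g⁻¹ := by simpa [MulAut.conj_apply] using hyx
      have h2 : y = g⁻¹ * (g * y * g⁻¹) * g := by group
      rw [h2, h1]
      group
    rw [← this]
    exact hy

/-- T2. -/
theorem two_case (R : ReeAx G K m) (S Q : Subgroup G) (hQS : Q ≤ S) (hne : Q ≠ ⊥) (hQ : IsPGroup 2 Q)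
    (hnorm : ∀ s ∈ S, ∀ x ∈ Q, s * x * s⁻¹ ∈ Q)
    (hcent : ∀ s ∈ S, (∀ x ∈ Q, s * x = x * s) → s ∈ Q) :
    ∃ A : Subgroup G, S ≤ Subgroup.normalizer (A : Set G) ∧
      ((∃ P : Sylow 2 G, A = P) ∨ (IsCyclic A ∧ Nat.card A = (qq m + 1) / 4)) :=
  rest2_core R (fun Q hcard hexp => rest2_four R Q hcard hexp) (ReeAx.NV_basic R).2.1
    (ReeAx.A1_basic R).2.1 (ReeAx.A1_basic R).2.2.1 S Q hQS hne hQ hnorm hcent

end Cfsg.Agent.Lib.Lead.RES
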