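import Mathlib
import Cfsg.Agent.Lib.helper8.RSM.Defs
import Cfsg.Agent.Lib.Helper5.StemQ
import Cfsg.Agent.Lib.helper4.RSMC1
import Cfsg.Agent.Lib.helper2.RSMC7
import Cfsg.Agent.Lib.Helper24.RSMA9
import Cfsg.Agent.Lib.helper8.RSMB2

/-!
# Project RSM (designer helper8), row E7 `E_kill`: second-written core (helper16) on the STATEMENTS
of C3 `x_comm_U2`, D4 `U2_abelian`, D7 `U3_central`, E4 `proj_mul`, E6 `proj_conj`
(landed C1 `x_basic`, C7 `h0_pow_conj`, A9 `gen_weights`, B2 `invol_kill_left` are cited by name).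
-/

set_option autoImplicit false

namespace Cfsg.Agent.Lib.helper8.RSM

open Cfsg.Agent.Lib.Helper5.Stem
open scoped commutatorElement

universe u v w

variable {G : Type u} [Group G] {K : Type v} [Field K] [Fintype K] {m : ℕ}
variable {Γ : Type w} [Group Γ] {σ : Γ →* G}

/-- `N (-1) = 1` -/
theorem rsme7_h16_nrm_neg_one : nrm m (-1 : K) = 1 := by
  unfold nrm
  have h1 : Odd (3 ^ m) := Odd.pow (by decide)
  rw [h1.neg_one_pow]
  norm_num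

/-- reduction: the commutator of lifts of `x t a b` and `x 0 u v` is the commutator of lifts of
`x t 0 0` and `x 0 u 0` -/
theorem rsme7_h16_red (RU : ReeU G K m) (hs : Function.Surjective σ)
    (hD4 : ∀ g g' : Γ, RU.InU2 (σ g) → RU.InU2 (σ g') → g * g' = g' * g)
    (hD7 : ∀ g w : Γ, RU.InU (σ g) → RU.InU3 (σ w) → g * w = w * g)
    (g w : Γ) (t a b u v : K) (hg : σ g = RU.x t a b) (hw : σ w = RU.x 0 u v) :
    ⁅g, w⁆ = bet hs (RU.x t 0 0) (RU.x 0 u 0) := by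
  obtain ⟨-, -, -, h4, h5, -, -⟩ := x_basic RU
  unfold bet
  set X := Function.surjInv hs (RU.x t 0 0) with hX
  set V := Function.surjInv hs (RU.x 0 u 0) with hV
  have hσX : σ X = RU.x t 0 0 := Function.surjInv_eq hs _
  have hσV : σ V = RU.x 0 u 0 := Function.surjInv_eq hs _
  set P := X⁻¹ * g with hP
  set Q := V⁻¹ * w with hQ
  have hσP : σ P = RU.x 0 a b := by
    rw [hP, map_mul, map_inv, hσX, hg, h4 t a b]
    group
  have hσQ : σ Q = RU.x 0 0 v := by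
    rw [hQ, map_mul, map_inv, hσV, hw, h5 u v]
    group
  have eg : g = X * P := by rw [hP]; group
  have ew : w = V * Q := by rw [hQ]; group
  have hPV : P * V = V * P := hD4 P V ⟨a, b, hσP⟩ ⟨u, 0, hσV⟩
  have hQX : Commute Q X := (hD7 X Q ⟨t, 0, 0, hσX⟩ ⟨v, hσQ⟩).symm
  have hQP : Commute Q P := (hD7 P Q ⟨0, a, b, hσP⟩ ⟨v, hσQ⟩).symm
  have c1 : Commute Q (P⁻¹ * X⁻¹) := (hQP.inv_right).mul_right (hQX.inv_right)
  rw [eg, ew]
  calc ⁅X * P, V * Q⁆ = X * P * V * (Q * (P⁻¹ * X⁻¹)) * Q⁻¹ * V⁻¹ := by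
        rw [commutatorElement_def]; group
    _ = X * P * V * ((P⁻¹ * X⁻¹) * Q) * Q⁻¹ * V⁻¹ := by rw [c1.eq]
    _ = X * (P * V) * P⁻¹ * X⁻¹ * V⁻¹ := by group
    _ = X * (V * P) * P⁻¹ * X⁻¹ * V⁻¹ := by rw [hPV]
    _ = ⁅X, V⁆ := by rw [commutatorElement_def]; group

/-- E7 from the statements of C3, D4, D7, E4, E6 -/
theorem rsme7_h16_core (RU : ReeU G K m) (hs : Function.Surjective σ)
    (hcen : σ.ker ≤ Subgroup.center Γ) (H0 : Γ) (hH0 : σ H0 = RU.h0)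
    (hC3 : ∀ t u v u' v' : K, ⁅RU.x t u v, RU.x 0 u' v'⁆ = RU.x 0 0 (t * u'))
    (hD4 : ∀ g g' : Γ, RU.InU2 (σ g) → RU.InU2 (σ g') → g * g' = g' * g)
    (hD7 : ∀ g w : Γ, RU.InU (σ g) → RU.InU3 (σ w) → g * w = w * g)
    (hE4 : ∀ w w' : Γ, RU.InU2 (σ w) → RU.InU2 (σ w') →
      proj H0 m (w * w') = proj H0 m w * proj H0 m w')
    (hE6 : ∀ (i : ℕ) (w : Γ), RU.InU2 (σ w) →
      proj H0 m (H0 ^ i * w * (H0 ^ i)⁻¹) = proj H0 m w)
    (g w : Γ) (hg : RU.InU (σ g)) (hw : RU.InU2 (σ w)) : proj H0 m ⁅g, w⁆ = 1 := by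
  obtain ⟨t, a, b, hga⟩ := hg
  obtain ⟨u, v, hwa⟩ := hw
  rw [rsme7_h16_red RU hs hD4 hD7 g w t a b u v hga hwa]
  -- the bi-additive map
  set B : K → K → Γ := fun t u => proj H0 m (bet hs (RU.x t 0 0) (RU.x 0 u 0)) with hB
  have hbet : ∀ t u : K, ∀ X V : Γ, σ X = RU.x t 0 0 → σ V = RU.x 0 u 0 →
      bet hs (RU.x t 0 0) (RU.x 0 u 0) = ⁅X, V⁆ := by
    intro t u X V hX hV
    rw [← hX, ← hV, bet_eq hs hcen]
  -- commutators of lifts lie over `U₃`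
  have hover : ∀ t u : K, ∀ X V : Γ, σ X = RU.x t 0 0 → σ V = RU.x 0 u 0 →
      σ ⁅X, V⁆ = RU.x 0 0 (t * u) := by
    intro t u X V hX hV
    rw [map_commutatorElement, hX, hV, hC3]
  have hl : ∀ t t' u : K, B (t + t') u = B t u * B t' u := by
    intro t t' u
    obtain ⟨X, hX⟩ := hs (RU.x t 0 0)
    obtain ⟨X', hX'⟩ := hs (RU.x t' 0 0)
    obtain ⟨V, hV⟩ := hs (RU.x 0 u 0)
    have hXX' : σ (X * X') = RU.x (t + t') (0 + 0 - t * (t' ^ 3 ^ m) ^ 3)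
        (0 + 0 - t' * 0 - t ^ 2 * (t' ^ 3 ^ m) ^ 3 + t * t' * (t' ^ 3 ^ m) ^ 3) := by
      rw [map_mul, hX, hX', RU.x_mul]
    have e1 : ⁅X * X', V⁆ = bet hs (RU.x (t + t') 0 0) (RU.x 0 u 0) :=
      rsme7_h16_red RU hs hD4 hD7 (X * X') V (t + t') _ _ u 0 hXX' hV
    have o1 := hover t u X V hX hV
    have o2 := hover t' u X' V hX' hV
    -- `⁅X', V⁆` commutes with `X`
    have c1 : X * ⁅X', V⁆ = ⁅X', V⁆ * X := hD7 X ⁅X', V⁆ ⟨t, 0, 0, hX⟩ ⟨_, o2⟩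
    have e2 : ⁅X * X', V⁆ = ⁅X, V⁆ * ⁅X', V⁆ := by
      have c2 : ⁅X', V⁆ * ⁅X, V⁆ = ⁅X, V⁆ * ⁅X', V⁆ :=
        hD4 _ _ ⟨0, _, o2⟩ ⟨0, _, o1⟩
      calc ⁅X * X', V⁆ = (X * ⁅X', V⁆) * X⁻¹ * ⁅X, V⁆ := by
            rw [commutatorElement_def, commutatorElement_def, commutatorElement_def]; group
        _ = (⁅X', V⁆ * X) * X⁻¹ * ⁅X, V⁆ := by rw [c1]
        _ = ⁅X', V⁆ * ⁅X, V⁆ := by group
        _ = ⁅X, V⁆ * ⁅X', V⁆ := c2
    show proj H0 m (bet hs (RU.x (t + t') 0 0) (RU.x 0 u 0)) =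
      proj H0 m (bet hs (RU.x t 0 0) (RU.x 0 u 0)) * proj H0 m (bet hs (RU.x t' 0 0) (RU.x 0 u 0))
    rw [← e1, e2, hbet t u X V hX hV, hbet t' u X' V hX' hV]
    exact hE4 _ _ ⟨0, _, o1⟩ ⟨0, _, o2⟩
  have hneg : ∀ t u : K, B (-t) u = B t u := by
    intro t u
    obtain ⟨X, hX⟩ := hs (RU.x t 0 0)
    obtain ⟨V, hV⟩ := hs (RU.x 0 u 0)
    obtain ⟨-, -, -, -, ha, -⟩ := gen_weights RU.hm RU.hK RU.a0 RU.a0_gen
    set i := (3 ^ (2 * m + 1) - 1) / 2 with hi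
    have hconj : ∀ t u v : K, RU.h0 ^ i * RU.x t u v * (RU.h0 ^ i)⁻¹ = RU.x (-t) u (-v) := by
      intro t u v
      rw [h0_pow_conj, ha, rsme7_h16_nrm_neg_one]
      apply rsmc1_congr RU <;> ring
    have hTX : σ (H0 ^ i * X * (H0 ^ i)⁻¹) = RU.x (-t) 0 0 := by
      rw [map_mul, map_mul, map_inv, map_pow, hH0, hX, hconj]
      apply rsmc1_congr RU <;> ring
    have hTV : σ (H0 ^ i * V * (H0 ^ i)⁻¹) = RU.x 0 u 0 := by
      rw [map_mul, map_mul, map_inv, map_pow, hH0, hV, hconj]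
      apply rsmc1_congr RU <;> ring
    have o1 := hover t u X V hX hV
    have e1 : H0 ^ i * ⁅X, V⁆ * (H0 ^ i)⁻¹ = ⁅H0 ^ i * X * (H0 ^ i)⁻¹, H0 ^ i * V * (H0 ^ i)⁻¹⁆ := by
      rw [commutatorElement_def, commutatorElement_def]; group
    show proj H0 m (bet hs (RU.x (-t) 0 0) (RU.x 0 u 0)) =
      proj H0 m (bet hs (RU.x t 0 0) (RU.x 0 u 0))
    rw [hbet (-t) u _ _ hTX hTV, ← e1, hE6 i _ ⟨0, _, o1⟩, hbet t u X V hX hV]
  exact invol_kill_left RU.hK B hl hneg t u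

end Cfsg.Agent.Lib.helper8.RSM
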