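import Mathlib
import Cfsg.Agent.Lib.helper8.RSM.Defs

/-!
# Project RSM (designer helper8), row G2 `e8_gens` (helper16): the `E₈` lemma.
An automorphism `c` of order dividing 7 acting without fixed points on an elementary abelian
group `S` of order 8 satisfies `c³ = 1 + c` or `c⁵ = 1 + c` on `S`; in the second case
`c⁻¹` satisfies the first relation.
-/

set_option autoImplicit false

namespace Cfsg.Agent.Lib.helper8.RSM

universe u

section aut

variable {G : Type u} [Group G]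

/-- powers of `c` preserve `S` -/
theorem rsmg2_pow_mem (S : Subgroup G) (c : MulAut G) (hcS : ∀ x ∈ S, c x ∈ S) (i : ℕ) :
    ∀ x ∈ S, (c ^ i) x ∈ S := by
  induction i with
  | zero => intro x hx; simpa using hx
  | succ n ih =>
    intro x hx
    rw [pow_succ', MulAut.mul_apply]
    exact hcS _ (ih x hx)

theorem rsmg2_pow_add (c : MulAut G) (i j : ℕ) (x : G) : (c ^ i) ((c ^ j) x) = (c ^ (i + j)) x := by
  rw [pow_add, MulAut.mul_apply]

theorem rsmg2_pow_seven (c : MulAut G) (hc7 : c ^ 7 = 1) (i : ℕ) (x : G) :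
    (c ^ (i + 7)) x = (c ^ i) x := by
  rw [pow_add, hc7, mul_one]

/-- elements of a group of exponent 2 commute -/
theorem rsmg2_comm (S : Subgroup G) (hexp : ∀ x ∈ S, x * x = 1) (x y : G) (hx : x ∈ S)
    (hy : y ∈ S) : x * y = y * x := by
  have h1 := hexp (x * y) (S.mul_mem hx hy)
  have h2 := hexp x hx
  have h3 := hexp y hy
  calc x * y = x * y * ((y * x) * (y * x)⁻¹) := by group
    _ = (x * y * (y * x)) * (y * x)⁻¹ := by group
    _ = (x * (y * y) * x) * (y * x)⁻¹ := by group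
    _ = (y * x)⁻¹ := by rw [h3, mul_one, h2, one_mul]
    _ = (y * x)⁻¹ * ((x * y) * (x * y)) := by rw [h1, mul_one]
    _ = y * x := by
      have : (y * x)⁻¹ * ((x * y) * (x * y)) = x⁻¹ * (y⁻¹ * x * y) * (x * y) := by group
      rw [this]
      have hxi : x⁻¹ = x := inv_eq_of_mul_eq_one_right h2
      have hyi : y⁻¹ = y := inv_eq_of_mul_eq_one_right h3
      rw [hxi, hyi]
      calc x * (y * x * y) * (x * y) = (x * y) * (x * y) * (x * y) := by group
        _ = x * y := by rw [h1, one_mul]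
        _ = y * x := by
          have h4 : (x * y) * (x * y) = 1 := h1
          have h5 : x * y = (x * y)⁻¹ := (inv_eq_of_mul_eq_one_right h4).symm
          rw [h5, mul_inv_rev, hxi, hyi]

/-- if a power `c ^ d` with `d` prime to 7 fixes `e`, so does `c` -/
theorem rsmg2_fix_of_pow (c : MulAut G) (hc7 : c ^ 7 = 1) (d : ℕ) (hd : Nat.Coprime d 7) (e : G)
    (h : (c ^ d) e = e) : c e = e := by
  obtain ⟨t, -, ht⟩ := Nat.exists_mul_mod_eq_one_of_coprime hd (by norm_num)
  have h1 : ∀ n : ℕ, ((c ^ d) ^ n) e = e := by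
    intro n
    induction n with
    | zero => simp
    | succ n ih => rw [pow_succ, MulAut.mul_apply, h, ih]
  have h2 : (c ^ d) ^ t = c := by
    rw [← pow_mul]
    have h3 : d * t = 7 * (d * t / 7) + 1 := by
      have := Nat.div_add_mod (d * t) 7
      omega
    rw [h3, pow_add, pow_mul, hc7, one_pow, one_mul, pow_one]
  have := h1 t
  rwa [h2] at this

variable [Finite G]

/-- the orbit of a non-identity element is `S ∖ 1` -/
theorem rsmg2_orbit (S : Subgroup G) (h8 : Nat.card S = 8) (c : MulAut G) (hc7 : c ^ 7 = 1)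
    (hcS : ∀ x ∈ S, c x ∈ S) (hfix : ∀ x ∈ S, c x = x → x = 1) (e : G) (he : e ∈ S)
    (he1 : e ≠ 1) : ∀ y ∈ S, y ≠ 1 → ∃ i : ℕ, i < 7 ∧ y = (c ^ i) e := by
  classical
  have hmem := rsmg2_pow_mem S c hcS
  have hne : ∀ i : ℕ, (c ^ i) e ≠ 1 := by
    intro i h
    apply he1
    have : (c ^ i) e = (c ^ i) 1 := by rw [h, map_one]
    exact (c ^ i).injective this
  -- injectivity
  have hinj : ∀ i j : ℕ, i ≤ j → j < 7 → (c ^ i) e = (c ^ j) e → i = j := by
    intro i j hij hj h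
    by_contra hne'
    have hd : 0 < j - i := by omega
    have h1 : (c ^ i) ((c ^ (j - i)) e) = (c ^ i) e := by
      rw [rsmg2_pow_add, h]
      congr 2
      omega
    have h2 : (c ^ (j - i)) e = e := (c ^ i).injective h1
    have hcop : Nat.Coprime (j - i) 7 := by
      have h7 : Nat.Prime 7 := by norm_num
      rw [Nat.coprime_comm, h7.coprime_iff_not_dvd]
      intro hdvd
      have := Nat.le_of_dvd hd hdvd
      omega
    exact he1 (hfix e he (rsmg2_fix_of_pow c hc7 _ hcop e h2))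
  let f : Fin 7 → {x : ↥S // x ≠ 1} := fun i =>
    ⟨⟨(c ^ (i : ℕ)) e, hmem i e he⟩, fun h => hne i (congrArg Subtype.val h)⟩
  have hf : Function.Injective f := by
    intro i j hij
    have h1 : (c ^ (i : ℕ)) e = (c ^ (j : ℕ)) e := by
      have := congrArg (fun z : {x : ↥S // x ≠ 1} => ((z : ↥S) : G)) hij
      exact this
    apply Fin.ext
    rcases le_total (i : ℕ) (j : ℕ) with hle | hle
    · exact hinj _ _ hle j.2 h1
    · exact (hinj _ _ hle i.2 h1.symm).symm
  have hcard : Nat.card {x : ↥S // x ≠ 1} = 7 := by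
    haveI : Fintype ↥S := Fintype.ofFinite _
    rw [Nat.card_eq_fintype_card, Fintype.card_subtype_compl, Fintype.card_subtype_eq,
      ← Nat.card_eq_fintype_card, h8]
  have hbij : Function.Bijective f := by
    apply hf.bijective_of_nat_card_le
    rw [hcard]
    simp
  intro y hy hy1
  obtain ⟨i, hi⟩ := hbij.2 ⟨⟨y, hy⟩, fun h => hy1 (congrArg Subtype.val h)⟩
  refine ⟨i, i.2, ?_⟩
  have := congrArg (fun z : {x : ↥S // x ≠ 1} => ((z : ↥S) : G)) hi
  exact this.symm

/-- `c² = 1 + c` on `S` is impossible -/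
theorem rsmg2_case_two (S : Subgroup G) (hexp : ∀ x ∈ S, x * x = 1) (c : MulAut G)
    (hc7 : c ^ 7 = 1) (hcS : ∀ x ∈ S, c x ∈ S) (hfix : ∀ x ∈ S, c x = x → x = 1) (e : G)
    (he : e ∈ S) (he1 : e ≠ 1) (h2 : ∀ x ∈ S, (c ^ 2) x = x * c x) : False := by
  have hcomm := rsmg2_comm S hexp
  -- `c³ = 1` on `S`
  have h3 : ∀ x ∈ S, (c ^ 3) x = x := by
    intro x hx
    have hcx := hcS x hx
    calc (c ^ 3) x = c ((c ^ 2) x) := by rw [pow_succ', MulAut.mul_apply]
      _ = c (x * c x) := by rw [h2 x hx]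
      _ = c x * c (c x) := by rw [map_mul]
      _ = c x * (c ^ 2) x := by rw [pow_two, MulAut.mul_apply]
      _ = c x * (x * c x) := by rw [h2 x hx]
      _ = c x * (c x * x) := by rw [hcomm x (c x) hx hcx]
      _ = (c x * c x) * x := by rw [mul_assoc]
      _ = x := by rw [hexp _ hcx, one_mul]
  have h7 : (c ^ 7) e = c e := by
    have : (c ^ 7) e = c ((c ^ 3) ((c ^ 3) e)) := by
      rw [rsmg2_pow_add, show (7 : ℕ) = 1 + (3 + 3) from rfl, pow_add c 1, MulAut.mul_apply, pow_one]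
    rw [this, h3 e he, h3 e he]
  rw [hc7] at h7
  exact he1 (hfix e he h7.symm)

/-- the dichotomy `c³ = 1 + c` or `c⁵ = 1 + c` on `S` -/
theorem rsmg2_dichotomy (S : Subgroup G) (h8 : Nat.card S = 8) (hexp : ∀ x ∈ S, x * x = 1)
    (c : MulAut G) (hc7 : c ^ 7 = 1) (hcS : ∀ x ∈ S, c x ∈ S)
    (hfix : ∀ x ∈ S, c x = x → x = 1) :
    ∃ e ∈ S, e ≠ 1 ∧ ((∀ x ∈ S, (c ^ 3) x = x * c x) ∨ (∀ x ∈ S, (c ^ 5) x = x * c x)) := by
  have hcomm := rsmg2_comm S hexp
  have hmem := rsmg2_pow_mem S c hcS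
  -- a non-identity element
  obtain ⟨e, he, he1⟩ : ∃ e ∈ S, e ≠ 1 := by
    have hnt : Nontrivial ↥S := by
      rw [← Finite.one_lt_card_iff_nontrivial, h8]
      norm_num
    obtain ⟨x, hx⟩ := exists_ne (1 : ↥S)
    exact ⟨x, x.2, fun h => hx (Subtype.ext h)⟩
  refine ⟨e, he, he1, ?_⟩
  have hce := hcS e he
  have hy : e * c e ∈ S := S.mul_mem he hce
  have hy1 : e * c e ≠ 1 := by
    intro h
    have : c e = e := by
      have h' : e * c e = e * e := by rw [h, hexp e he]
      exact mul_left_cancel h'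
    exact he1 (hfix e he this)
  obtain ⟨i, hi7, hi⟩ := rsmg2_orbit S h8 c hc7 hcS hfix e he he1 _ hy hy1
  -- the relation holds on all of `S`
  have hall : ∀ x ∈ S, (c ^ i) x = x * c x := by
    intro x hx
    by_cases hx1 : x = 1
    · rw [hx1]; simp
    · obtain ⟨j, -, hj⟩ := rsmg2_orbit S h8 c hc7 hcS hfix e he he1 x hx hx1
      rw [hj, rsmg2_pow_add, add_comm, ← rsmg2_pow_add, ← hi, map_mul]
      congr 1
      have h1 : c ((c ^ j) e) = (c ^ 1) ((c ^ j) e) := by rw [pow_one]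
      have h2 : (c ^ j) (c e) = (c ^ j) ((c ^ 1) e) := by rw [pow_one]
      rw [h1, h2, rsmg2_pow_add, rsmg2_pow_add, add_comm]
  have hcase2 := rsmg2_case_two S hexp c hc7 hcS hfix e he he1
  interval_cases i
  · -- `i = 0`
    exfalso
    have h := hall e he
    simp only [pow_zero, MulAut.one_apply] at h
    have h' : c e = 1 := by
      have : e * 1 = e * c e := by rw [mul_one]; exact h
      exact (mul_left_cancel this).symm
    apply he1
    have : c e = c 1 := by rw [h', map_one]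
    exact c.injective this
  · -- `i = 1`
    exfalso
    have h := hall e he
    simp only [pow_one] at h
    apply he1
    have : 1 * c e = e * c e := by rw [one_mul]; exact h
    exact (mul_right_cancel this).symm
  · exact (hcase2 hall).elim
  · exact Or.inl hall
  · -- `i = 4`
    exfalso
    apply hcase2
    intro x hx
    have hcx := hcS x hx
    have hccx := hcS _ hcx
    have h8' : (c ^ 4) ((c ^ 4) x) = c x := by
      rw [rsmg2_pow_add, show (4 + 4 : ℕ) = 1 + 7 from rfl, rsmg2_pow_seven c hc7, pow_one]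
    have h9 : (c ^ 4) ((c ^ 4) x) = x * (c ^ 2) x := by
      rw [hall x hx, map_mul, hall x hx, hall (c x) hcx, pow_two, MulAut.mul_apply]
      calc x * c x * (c x * c (c x)) = x * ((c x * c x) * c (c x)) := by group
        _ = x * c (c x) := by rw [hexp _ hcx, one_mul]
    have h10 : c x = x * (c ^ 2) x := h8'.symm.trans h9
    calc (c ^ 2) x = (x * x) * (c ^ 2) x := by rw [hexp x hx, one_mul]
      _ = x * (x * (c ^ 2) x) := by rw [mul_assoc]
      _ = x * c x := by rw [← h10]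
  · exact Or.inr hall
  · -- `i = 6`
    exfalso
    apply hcase2
    intro x hx
    have hcx := hcS x hx
    have h7 : c ((c ^ 6) x) = x := by
      have : c ((c ^ 6) x) = (c ^ 7) x := by
        rw [show (7 : ℕ) = 1 + 6 from rfl, pow_add c 1, MulAut.mul_apply, pow_one]
      rw [this, hc7, MulAut.one_apply]
    have h8' : c ((c ^ 6) x) = c x * (c ^ 2) x := by
      rw [hall x hx, map_mul, pow_two, MulAut.mul_apply]
    have h9 : x = c x * (c ^ 2) x := h7.symm.trans h8'
    calc (c ^ 2) x = (c x * c x) * (c ^ 2) x := by rw [hexp _ hcx, one_mul]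
      _ = c x * (c x * (c ^ 2) x) := by rw [mul_assoc]
      _ = c x * x := by rw [← h9]
      _ = x * c x := hcomm _ _ hcx hx

/-- the generators in the case `c³ = 1 + c` -/
theorem rsmg2_gens (S : Subgroup G) (h8 : Nat.card S = 8) (hexp : ∀ x ∈ S, x * x = 1)
    (c : MulAut G) (hc7 : c ^ 7 = 1) (hcS : ∀ x ∈ S, c x ∈ S)
    (hfix : ∀ x ∈ S, c x = x → x = 1) (e : G) (he : e ∈ S) (he1 : e ≠ 1)
    (h3 : ∀ x ∈ S, (c ^ 3) x = x * c x) :
    ∃ e1 e2 e3 : G, e1 * e2 = e2 * e1 ∧ e1 * e3 = e3 * e1 ∧ e2 * e3 = e3 * e2 ∧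
      c e1 = e2 ∧ c e2 = e3 ∧ c e3 = e1 * e2 ∧ Subgroup.closure {e1, e2, e3} = S := by
  have hcomm := rsmg2_comm S hexp
  have h1S : c e ∈ S := hcS e he
  have h2S : c (c e) ∈ S := hcS _ h1S
  have hc3 : c (c (c e)) = e * c e := by
    have : c (c (c e)) = (c ^ 3) e := by
      rw [show (3 : ℕ) = 1 + (1 + 1) from rfl, pow_add c 1, pow_add c 1, MulAut.mul_apply,
        MulAut.mul_apply, pow_one]
    rw [this, h3 e he]
  refine ⟨e, c e, c (c e), hcomm _ _ he h1S, hcomm _ _ he h2S, hcomm _ _ h1S h2S, rfl, rfl, hc3, ?_⟩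
  apply le_antisymm
  · rw [Subgroup.closure_le]
    intro x hx
    simp only [Set.mem_insert_iff, Set.mem_singleton_iff] at hx
    rcases hx with rfl | rfl | rfl
    · exact he
    · exact h1S
    · exact h2S
  · intro y hy
    set C := Subgroup.closure ({e, c e, c (c e)} : Set G) with hC
    have m1 : e ∈ C := Subgroup.subset_closure (by simp)
    have m2 : c e ∈ C := Subgroup.subset_closure (by simp)
    have m3 : c (c e) ∈ C := Subgroup.subset_closure (by simp)
    by_cases hy1 : y = 1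
    · rw [hy1]; exact C.one_mem
    · obtain ⟨i, hi7, hi⟩ := rsmg2_orbit S h8 c hc7 hcS hfix e he he1 y hy hy1
      have p0 : (c ^ 0) e = e := by simp
      have p1 : (c ^ 1) e = c e := by simp
      have p2 : (c ^ 2) e = c (c e) := by rw [pow_two, MulAut.mul_apply]
      have p3 : (c ^ 3) e = e * c e := h3 e he
      have p4 : (c ^ 4) e = c e * c (c e) := by
        rw [show (4 : ℕ) = 1 + 3 from rfl, pow_add c 1, MulAut.mul_apply, pow_one, p3, map_mul]
      have p5 : (c ^ 5) e = c (c e) * (e * c e) := by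
        rw [show (5 : ℕ) = 1 + 4 from rfl, pow_add c 1, MulAut.mul_apply, pow_one, p4, map_mul, hc3]
      have p6 : (c ^ 6) e = (e * c e) * (c e * c (c e)) := by
        rw [show (6 : ℕ) = 1 + 5 from rfl, pow_add c 1, MulAut.mul_apply, pow_one, p5, map_mul,
          map_mul, hc3]
      rw [hi]
      interval_cases i
      · rw [p0]; exact m1
      · rw [p1]; exact m2
      · rw [p2]; exact m3
      · rw [p3]; exact C.mul_mem m1 m2
      · rw [p4]; exact C.mul_mem m2 m3
      · rw [p5]; exact C.mul_mem m3 (C.mul_mem m1 m2)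
      · rw [p6]; exact C.mul_mem (C.mul_mem m1 m2) (C.mul_mem m2 m3)

end aut

/-- G2 [L]. -/
theorem e8_gens {G : Type u} [Group G] [Finite G] (S : Sylow 2 G) (h8 : Nat.card S = 8)
    (hexp : ∀ x ∈ S, x * x = 1) (g : G) (hg7 : g ^ 7 = 1) (hgS : ∀ x ∈ S, g * x * g⁻¹ ∈ S)
    (hfix : ∀ x ∈ S, g * x * g⁻¹ = x → x = 1) :
    ∃ e1 e2 e3 a : G, e1 * e2 = e2 * e1 ∧ e1 * e3 = e3 * e1 ∧ e2 * e3 = e3 * e2 ∧
      a * e1 * a⁻¹ = e2 ∧ a * e2 * a⁻¹ = e3 ∧ a * e3 * a⁻¹ = e1 * e2 ∧
      Subgroup.closure {e1, e2, e3} = (S : Subgroup G) := by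
  set c : MulAut G := MulAut.conj g with hc
  have hca : ∀ x, c x = g * x * g⁻¹ := fun x => by rw [hc, MulAut.conj_apply]
  have hc7 : c ^ 7 = 1 := by rw [hc, ← map_pow, hg7, map_one]
  have hcS : ∀ x ∈ (S : Subgroup G), c x ∈ (S : Subgroup G) := fun x hx => by
    rw [hca]; exact hgS x hx
  have hcfix : ∀ x ∈ (S : Subgroup G), c x = x → x = 1 := fun x hx h => by
    rw [hca] at h; exact hfix x hx h
  have h8' : Nat.card (S : Subgroup G) = 8 := h8
  have hexp' : ∀ x ∈ (S : Subgroup G), x * x = 1 := hexp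
  obtain ⟨e, he, he1, h3 | h5⟩ := rsmg2_dichotomy (S : Subgroup G) h8' hexp' c hc7 hcS hcfix
  · obtain ⟨e1, e2, e3, k1, k2, k3, k4, k5, k6, k7⟩ :=
      rsmg2_gens (S : Subgroup G) h8' hexp' c hc7 hcS hcfix e he he1 h3
    refine ⟨e1, e2, e3, g, k1, k2, k3, ?_, ?_, ?_, k7⟩
    · rw [← hca]; exact k4
    · rw [← hca]; exact k5
    · rw [← hca]; exact k6
  · -- pass to `c⁻¹`
    have hcomm := rsmg2_comm (S : Subgroup G) hexp'
    have hmem := rsmg2_pow_mem (S : Subgroup G) c hcS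
    have hinv : c⁻¹ = c ^ 6 := by
      apply inv_eq_of_mul_eq_one_right
      rw [← pow_succ', hc7]
    have hd7 : (c⁻¹) ^ 7 = 1 := by rw [inv_pow, hc7, inv_one]
    have hdS : ∀ x ∈ (S : Subgroup G), (c⁻¹) x ∈ (S : Subgroup G) := fun x hx => by
      rw [hinv]; exact hmem 6 x hx
    have hdfix : ∀ x ∈ (S : Subgroup G), (c⁻¹) x = x → x = 1 := fun x hx h => by
      apply hcfix x hx
      have : c ((c⁻¹) x) = c x := by rw [h]
      rw [← MulAut.mul_apply, mul_inv_cancel, MulAut.one_apply] at this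
      exact this.symm
    have hd3 : ∀ x ∈ (S : Subgroup G), ((c⁻¹) ^ 3) x = x * (c⁻¹) x := by
      intro x hx
      have hy : (c ^ 6) x ∈ (S : Subgroup G) := hmem 6 x hx
      have e1 : ((c⁻¹) ^ 3) x = (c ^ 4) x := by
        have : (c⁻¹) ^ 3 = c ^ 4 := by
          rw [hinv, ← pow_mul]
          have : c ^ (6 * 3) = c ^ (4 + 7 + 7) := by norm_num
          rw [this, pow_add, pow_add, hc7, mul_one, mul_one]
        rw [this]
      have e2 : (c ^ 5) ((c ^ 6) x) = (c ^ 4) x := by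
        rw [rsmg2_pow_add, show (5 + 6 : ℕ) = 4 + 7 from rfl, rsmg2_pow_seven c hc7]
      have e3 : c ((c ^ 6) x) = x := by
        have : c ((c ^ 6) x) = (c ^ 7) x := by
          rw [show (7 : ℕ) = 1 + 6 from rfl, pow_add c 1, MulAut.mul_apply, pow_one]
        rw [this, hc7, MulAut.one_apply]
      rw [e1, ← e2, h5 _ hy, e3, hinv]
      exact hcomm _ _ hy hx
    obtain ⟨e1, e2, e3, k1, k2, k3, k4, k5, k6, k7⟩ :=
      rsmg2_gens (S : Subgroup G) h8' hexp' c⁻¹ hd7 hdS hdfix e he he1 hd3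
    have hda : ∀ x, (c⁻¹) x = g⁻¹ * x * g⁻¹⁻¹ := fun x => by
      rw [hc, ← map_inv, MulAut.conj_apply]
    refine ⟨e1, e2, e3, g⁻¹, k1, k2, k3, ?_, ?_, ?_, k7⟩
    · rw [← hda]; exact k4
    · rw [← hda]; exact k5
    · rw [← hda]; exact k6

end Cfsg.Agent.Lib.helper8.RSM
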