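import Mathlib
import Cfsg.Agent.Lib.Helper16.RegNorm

set_option autoImplicit false
set_option linter.unusedSectionVars false
set_option linter.unusedSimpArgs false
set_option linter.unusedVariables false

namespace Cfsg.Agent.Lib.Helper16.RN

open Matrix Module

variable {ι : Type*} [Fintype ι] [DecidableEq ι] {F : Type*} [Field F]

/-- the adjoint on units. -/
def adjU (adj : Matrix ι ι F →ₗ[F] Matrix ι ι F)
    (hmul : ∀ a b, adj (a * b) = adj b * adj a) (hone : adj 1 = 1) (x : (Matrix ι ι F)ˣ) :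
    (Matrix ι ι F)ˣ :=
  ⟨adj x.1, adj x.inv, by rw [← hmul, x.inv_val, hone], by rw [← hmul, x.val_inv, hone]⟩

theorem adjU_val (adj : Matrix ι ι F →ₗ[F] Matrix ι ι F)
    (hmul : ∀ a b, adj (a * b) = adj b * adj a) (hone : adj 1 = 1) (x : (Matrix ι ι F)ˣ) :
    (adjU adj hmul hone x).1 = adj x.1 := rfl

theorem adjU_mul (adj : Matrix ι ι F →ₗ[F] Matrix ι ι F)
    (hmul : ∀ a b, adj (a * b) = adj b * adj a) (hone : adj 1 = 1) (x y : (Matrix ι ι F)ˣ) :
    adjU adj hmul hone (x * y) = adjU adj hmul hone y * adjU adj hmul hone x :=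
  Units.ext (hmul x.1 y.1)

theorem adjU_one (adj : Matrix ι ι F →ₗ[F] Matrix ι ι F)
    (hmul : ∀ a b, adj (a * b) = adj b * adj a) (hone : adj 1 = 1) :
    adjU adj hmul hone 1 = 1 :=
  Units.ext hone

theorem adjU_inv (adj : Matrix ι ι F →ₗ[F] Matrix ι ι F)
    (hmul : ∀ a b, adj (a * b) = adj b * adj a) (hone : adj 1 = 1) (x : (Matrix ι ι F)ˣ) :
    adjU adj hmul hone x⁻¹ = (adjU adj hmul hone x)⁻¹ := by
  apply eq_inv_of_mul_eq_one_left
  rw [← adjU_mul, mul_inv_cancel, adjU_one]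

theorem adjU_adjU (adj : Matrix ι ι F →ₗ[F] Matrix ι ι F)
    (hmul : ∀ a b, adj (a * b) = adj b * adj a) (hone : adj 1 = 1)
    (hinv : ∀ a, adj (adj a) = a) (x : (Matrix ι ι F)ˣ) :
    adjU adj hmul hone (adjU adj hmul hone x) = x :=
  Units.ext (hinv x.1)

/-- Lemma A: the Gram element `adj x * x` of an intertwiner commutes with `U₀`. -/
theorem gram_commute (adj : Matrix ι ι F →ₗ[F] Matrix ι ι F)
    (hmul : ∀ a b, adj (a * b) = adj b * adj a) (hone : adj 1 = 1)
    (U₀ U x : (Matrix ι ι F)ˣ) (hU₀ : U₀ * adjU adj hmul hone U₀ = 1)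
    (hU : U * adjU adj hmul hone U = 1) (hx : x * U₀ = U * x) :
    (adjU adj hmul hone x * x) * U₀ = U₀ * (adjU adj hmul hone x * x) := by
  have h1 := congrArg (adjU adj hmul hone) hx
  rw [adjU_mul, adjU_mul] at h1
  have e0 : adjU adj hmul hone U₀ = U₀⁻¹ := eq_inv_of_mul_eq_one_right hU₀
  have e1 : adjU adj hmul hone U = U⁻¹ := eq_inv_of_mul_eq_one_right hU
  rw [e0, e1] at h1
  have h2 : adjU adj hmul hone x * U = U₀ * adjU adj hmul hone x := by
    have := congrArg (fun t => U₀ * t * U) h1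
    simp only [mul_assoc, inv_mul_cancel, mul_one, mul_inv_cancel_left] at this
    exact this
  rw [mul_assoc, hx, ← mul_assoc, h2, mul_assoc]

end Cfsg.Agent.Lib.Helper16.RN

namespace Cfsg.Agent.Lib.Helper16.RN

open Matrix Module

variable {ι : Type*} [Fintype ι] [DecidableEq ι] {F : Type*} [Field F]

theorem adjU_gram (adj : Matrix ι ι F →ₗ[F] Matrix ι ι F)
    (hmul : ∀ a b, adj (a * b) = adj b * adj a) (hone : adj 1 = 1)
    (hinv : ∀ a, adj (adj a) = a) (x : (Matrix ι ι F)ˣ) :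
    adjU adj hmul hone (adjU adj hmul hone x * x) = adjU adj hmul hone x * x := by
  rw [adjU_mul, adjU_adjU adj hmul hone hinv]

/-- Lemma C1. -/
theorem norm_rel_of_conj (adj : Matrix ι ι F →ₗ[F] Matrix ι ι F)
    (hmul : ∀ a b, adj (a * b) = adj b * adj a) (hone : adj 1 = 1)
    (k : ℕ) (s : Matrix ι ι F) (hcard : Fintype.card ι = k + 1) (hnil : s ^ (k + 1) = 0)
    (v : ι → F) (hv : (s ^ k) *ᵥ v ≠ 0) (hs : adj s = -s)
    (U₀ : (Matrix ι ι F)ˣ) (hcomm : ∀ g : Matrix ι ι F, Commute g U₀.1 → Commute g s)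
    (U U' x x' y : (Matrix ι ι F)ˣ) (hx : x * U₀ = U * x) (hx' : x' * U₀ = U' * x')
    (hy : y * adjU adj hmul hone y = 1) (hyU : y * U = U' * y)
    (c c' : Fin (k + 1) → F) (hc : (adjU adj hmul hone x * x).1 = Psi k s c)
    (hc' : (adjU adj hmul hone x' * x').1 = Psi k s c') :
    ∃ e : F, e ≠ 0 ∧ c 0 = e * c' 0 * e := by
  have hne : Nonempty ι := by
    rw [← Fintype.card_pos_iff, hcard]; omega
  obtain ⟨z, hz⟩ : ∃ z, z = x'⁻¹ * y * x := ⟨_, rfl⟩
  have hzU : z * U₀ = U₀ * z := by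
    have h1 : x'⁻¹ * U' = U₀ * x'⁻¹ := by
      have := congrArg (fun t => x'⁻¹ * t * x'⁻¹) hx'
      simp only [mul_assoc, mul_inv_cancel, mul_one, inv_mul_cancel_left] at this
      exact this.symm
    rw [hz, mul_assoc, mul_assoc, hx, ← mul_assoc y, hyU, mul_assoc, ← mul_assoc x'⁻¹, h1]
    simp only [mul_assoc]
  have hzs : Commute z.1 s := hcomm z.1 (congrArg Units.val hzU)
  obtain ⟨e, he⟩ := exists_Psi_of_commute k s hcard hnil v hv z.1 hzs
  have he0 : e 0 ≠ 0 := by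
    intro h0
    apply Psi_not_isUnit k s hnil e h0
    rw [← he]
    exact z.isUnit
  have hadjy : adjU adj hmul hone y * y = 1 := by
    have : adjU adj hmul hone y = y⁻¹ := eq_inv_of_mul_eq_one_right hy
    rw [this, inv_mul_cancel]
  have hxz : x' * z = y * x := by
    rw [hz]; group
  have hkey : adjU adj hmul hone z * (adjU adj hmul hone x' * x') * z
      = adjU adj hmul hone x * x := by
    have h1 : adjU adj hmul hone z * (adjU adj hmul hone x' * x') * z
        = adjU adj hmul hone (x' * z) * (x' * z) := by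
      rw [adjU_mul]; simp only [mul_assoc]
    rw [h1, hxz, adjU_mul, mul_assoc, ← mul_assoc (adjU adj hmul hone y), hadjy, one_mul]
  have hkey' : adj z.1 * (adjU adj hmul hone x' * x').1 * z.1 = (adjU adj hmul hone x * x).1 :=
    congrArg Units.val hkey
  rw [hc', hc, he, adj_Psi_skew adj hmul hone k s hs] at hkey'
  obtain ⟨f, hf⟩ := exists_Psi_of_commute k s hcard hnil v hv
    (Psi k s (fun i => (-1) ^ (i : ℕ) * e i) * Psi k s c')
    ((Psi_commute k s _).mul_left (Psi_commute k s _))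
  rw [hf] at hkey'
  have h1 := Psi_mul_coeff0 k s hnil v hv _ _ _ hf
  have h2 := Psi_mul_coeff0 k s hnil v hv _ _ _ hkey'
  refine ⟨e 0, he0, ?_⟩
  rw [h2, h1]
  simp

end Cfsg.Agent.Lib.Helper16.RN

namespace Cfsg.Agent.Lib.Helper16.RN

open Matrix Module

variable {ι : Type*} [Fintype ι] [DecidableEq ι] {F : Type*} [Field F]

/-- Lemma C2. -/
theorem conj_of_norm_rel (p : ℕ) [Fact p.Prime] [CharP F p] (hp : p ≠ 2)
    (adj : Matrix ι ι F →ₗ[F] Matrix ι ι F)
    (hmul : ∀ a b, adj (a * b) = adj b * adj a) (hone : adj 1 = 1)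
    (hinv : ∀ a, adj (adj a) = a)
    (k : ℕ) (s : Matrix ι ι F) (hcard : Fintype.card ι = k + 1) (hnil : s ^ (k + 1) = 0)
    (v : ι → F) (hv : (s ^ k) *ᵥ v ≠ 0) (hs : adj s = -s)
    (U₀ : (Matrix ι ι F)ˣ) (hU₀ : U₀ * adjU adj hmul hone U₀ = 1)
    (hcomm : ∀ g : Matrix ι ι F, Commute g U₀.1 ↔ Commute g s)
    (U U' x x' : (Matrix ι ι F)ˣ) (hU : U * adjU adj hmul hone U = 1)
    (hU' : U' * adjU adj hmul hone U' = 1) (hx : x * U₀ = U * x) (hx' : x' * U₀ = U' * x')
    (c c' : Fin (k + 1) → F) (hc : (adjU adj hmul hone x * x).1 = Psi k s c)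
    (hc' : (adjU adj hmul hone x' * x').1 = Psi k s c')
    (a : F) (ha : a ≠ 0) (hca : c 0 = c' 0 * a ^ 2) :
    ∃ y : (Matrix ι ι F)ˣ, y * adjU adj hmul hone y = 1 ∧ y * U = U' * y := by
  have hne : Nonempty ι := by
    rw [← Fintype.card_pos_iff, hcard]; omega
  obtain ⟨h, hh⟩ : ∃ h, h = adjU adj hmul hone x * x := ⟨_, rfl⟩
  obtain ⟨h', hh'⟩ : ∃ h', h' = adjU adj hmul hone x' * x' := ⟨_, rfl⟩
  rw [← hh] at hc
  rw [← hh'] at hc'
  have hhU : h * U₀ = U₀ * h := by rw [hh]; exact gram_commute adj hmul hone U₀ U x hU₀ hU hx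
  have hh'U : h' * U₀ = U₀ * h' := by
    rw [hh']; exact gram_commute adj hmul hone U₀ U' x' hU₀ hU' hx'
  have hhs : Commute h.1 s := (hcomm h.1).mp (congrArg Units.val hhU)
  have hh's : Commute h'.1 s := (hcomm h'.1).mp (congrArg Units.val hh'U)
  have hh'inv_s : Commute (h'⁻¹).1 s := hh's.units_inv_left
  have hCC : ∀ g g' : Matrix ι ι F, Commute g s → Commute g' s → Commute g g' :=
    commute_of_commute k s hcard hnil v hv
  obtain ⟨w, hw⟩ : ∃ w, w = h * h'⁻¹ := ⟨_, rfl⟩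
  have hws : Commute w.1 s := by
    rw [hw]
    exact hhs.mul_left hh'inv_s
  obtain ⟨d, hd⟩ := exists_Psi_of_commute k s hcard hnil v hv w.1 hws
  have hwh' : w * h' = h := by rw [hw]; group
  have hc'0 : c' 0 ≠ 0 := by
    intro h0
    apply Psi_not_isUnit k s hnil c' h0
    rw [← hc']
    exact h'.isUnit
  have hd0 : d 0 = a ^ 2 := by
    have h1 : Psi k s d * Psi k s c' = Psi k s c := by
      rw [← hd, ← hc', ← hc, ← Units.val_mul, hwh']
    have h2 := Psi_mul_coeff0 k s hnil v hv _ _ _ h1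
    rw [hca] at h2
    apply mul_right_cancel₀ hc'0
    rw [← h2]; ring
  have hadjh : adjU adj hmul hone h = h := by rw [hh]; exact adjU_gram adj hmul hone hinv x
  have hadjh' : adjU adj hmul hone h' = h' := by rw [hh']; exact adjU_gram adj hmul hone hinv x'
  have hadjw : adj w.1 = w.1 := by
    have : adjU adj hmul hone w = w := by
      rw [hw, adjU_mul, adjU_inv, hadjh, hadjh']
      apply Units.ext
      exact (hCC _ _ hh'inv_s hhs).eq
    exact congrArg Units.val this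
  rw [hd] at hadjw
  obtain ⟨z₀, hz₀s, hz₀adj, hz₀sq⟩ :=
    exists_norm_root p hp k s hnil adj hmul hone d a ha hd0 hadjw
  have hz₀u : IsUnit z₀ := by
    have h1 : IsUnit (z₀ * z₀) := by rw [hz₀sq, ← hd]; exact w.isUnit
    rw [Matrix.isUnit_iff_isUnit_det, Matrix.det_mul] at h1
    exact (Matrix.isUnit_iff_isUnit_det _).mpr (isUnit_of_mul_isUnit_left h1)
  obtain ⟨Z, hZ⟩ := hz₀u
  have hZZ : Z * Z = w := Units.ext (by rw [Units.val_mul, hZ, hz₀sq, hd])
  have hZadj : adjU adj hmul hone Z = Z := Units.ext (by rw [adjU_val, hZ, hz₀adj])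
  have hZU : Z * U₀ = U₀ * Z := Units.ext ((hcomm Z.1).mpr (by rw [hZ]; exact hz₀s)).eq
  have hZh' : Z * h' = h' * Z := Units.ext (hCC _ _ (by rw [hZ]; exact hz₀s) hh's).eq
  refine ⟨x' * Z * x⁻¹, ?_, ?_⟩
  · have h1 : adjU adj hmul hone (x' * Z * x⁻¹) * (x' * Z * x⁻¹) = 1 := by
      rw [adjU_mul, adjU_mul, adjU_inv, hZadj]
      have h3 : Z * adjU adj hmul hone x' * (x' * Z) = h := by
        calc Z * adjU adj hmul hone x' * (x' * Z) = Z * h' * Z := by rw [hh']; group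
          _ = (Z * Z) * h' := by rw [mul_assoc, ← hZh', ← mul_assoc]
          _ = h := by rw [hZZ, hwh']
      calc (adjU adj hmul hone x)⁻¹ * (Z * adjU adj hmul hone x') * (x' * Z * x⁻¹)
          = (adjU adj hmul hone x)⁻¹ * (Z * adjU adj hmul hone x' * (x' * Z)) * x⁻¹ := by group
        _ = (adjU adj hmul hone x)⁻¹ * h * x⁻¹ := by rw [h3]
        _ = 1 := by rw [hh]; group
    have : adjU adj hmul hone (x' * Z * x⁻¹) = (x' * Z * x⁻¹)⁻¹ := eq_inv_of_mul_eq_one_left h1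
    rw [this, mul_inv_cancel]
  · have h1 : x⁻¹ * U = U₀ * x⁻¹ := by
      have := congrArg (fun t => x⁻¹ * t * x⁻¹) hx
      simp only [mul_assoc, mul_inv_cancel, mul_one, inv_mul_cancel_left] at this
      exact this.symm
    calc x' * Z * x⁻¹ * U = x' * Z * (x⁻¹ * U) := by group
      _ = x' * Z * (U₀ * x⁻¹) := by rw [h1]
      _ = x' * (Z * U₀) * x⁻¹ := by group
      _ = x' * (U₀ * Z) * x⁻¹ := by rw [hZU]
      _ = (x' * U₀) * Z * x⁻¹ := by group
      _ = U' * (x' * Z * x⁻¹) := by rw [hx']; group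

end Cfsg.Agent.Lib.Helper16.RN
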