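import Mathlib
import Cfsg.Agent.Lib.Helper16.RegUnip
import Cfsg.Agent.Lib.Helper16.RegSp

set_option autoImplicit false
set_option linter.unusedSectionVars false
set_option linter.unusedSimpArgs false
set_option linter.unusedVariables false

namespace Cfsg.Agent.Lib.Helper16.RN

open Matrix Module

variable {F : Type*} [Field F] {m : ℕ}

def cornerB (F : Type*) [Field F] (m : ℕ) : Matrix (Fin m) (Fin m) F :=
  Matrix.of fun j i => if (j : ℕ) = 0 ∧ (i : ℕ) = 0 then 1 else 0

theorem cornerB_transpose : (cornerB F m)ᵀ = cornerB F m := by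
  ext i j
  simp [cornerB, and_comm]

def regS (F : Type*) [Field F] (m : ℕ) : Matrix (Fin m ⊕ Fin m) (Fin m ⊕ Fin m) F :=
  Matrix.fromBlocks (shiftN F m) (cornerB F m) 0 (-(shiftN F m)ᵀ)

theorem regS_adj : spAdj F m (regS F m) = - regS F m := by
  rw [spAdj_apply]
  unfold regS Matrix.J
  simp only [Matrix.fromBlocks_transpose, Matrix.fromBlocks_neg, Matrix.fromBlocks_multiply,
    cornerB_transpose]
  simp

theorem regS_pow (j : ℕ) : ∃ X : Matrix (Fin m) (Fin m) F,
    regS F m ^ j = Matrix.fromBlocks (shiftN F m ^ j) X 0 ((-(shiftN F m)ᵀ) ^ j) := by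
  induction j with
  | zero =>
    refine ⟨0, ?_⟩
    rw [pow_zero, pow_zero, pow_zero, Matrix.fromBlocks_one]
  | succ j ih =>
    obtain ⟨X, hX⟩ := ih
    refine ⟨shiftN F m ^ j * cornerB F m + X * (-(shiftN F m)ᵀ), ?_⟩
    rw [pow_succ, hX]
    unfold regS
    rw [Matrix.fromBlocks_multiply]
    simp only [Matrix.mul_zero, Matrix.zero_mul, add_zero, zero_add, ← pow_succ]

theorem regS_nil : regS F m ^ (2 * m) = 0 := by
  obtain ⟨X, hX⟩ := regS_pow (F := F) (m := m) m
  have h1 : (-(shiftN F m)ᵀ) ^ m = 0 := by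
    rw [neg_pow, ← Matrix.transpose_pow, shiftN_pow_self, Matrix.transpose_zero, mul_zero]
  rw [shiftN_pow_self, h1] at hX
  rw [two_mul, pow_add, hX, Matrix.fromBlocks_multiply]
  simp

theorem shiftN_transpose_mulVec_lt (y : Fin m → F) (i : Fin m) (hi : (i : ℕ) + 1 < m) :
    ((shiftN F m)ᵀ *ᵥ y) i = y ⟨(i : ℕ) + 1, hi⟩ := by
  rw [Matrix.mulVec, dotProduct, Finset.sum_eq_single (⟨(i : ℕ) + 1, hi⟩ : Fin m)]
  · simp [shiftN]
  · intro l _ hl
    have : ¬ ((l : ℕ) = (i : ℕ) + 1) := by
      intro h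
      apply hl
      apply Fin.ext
      simp only
      omega
    simp [shiftN, this]
  · intro h; exact absurd (Finset.mem_univ _) h

theorem cornerB_mulVec_zero (y : Fin m → F) (i : Fin m) (hi : (i : ℕ) = 0) :
    (cornerB F m *ᵥ y) i = y i := by
  rw [Matrix.mulVec, dotProduct, Finset.sum_eq_single i]
  · simp [cornerB, hi]
  · intro l _ hl
    have : ¬ ((l : ℕ) = 0) := by
      intro h
      apply hl
      apply Fin.ext
      omega
    simp [cornerB, this]
  · intro h; exact absurd (Finset.mem_univ _) h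

theorem cornerB_mulVec_pos (y : Fin m → F) (i : Fin m) (hi : (i : ℕ) ≠ 0) :
    (cornerB F m *ᵥ y) i = 0 := by
  rw [Matrix.mulVec, dotProduct]
  apply Finset.sum_eq_zero
  intro l _
  simp [cornerB, hi]

theorem regS_ker (hm : 1 ≤ m) :
    LinearMap.ker (Matrix.mulVecLin (regS F m))
      = Submodule.span F {(Sum.elim (Pi.single (⟨m - 1, by omega⟩ : Fin m) (1 : F)) 0 :
          Fin m ⊕ Fin m → F)} := by
  apply le_antisymm
  · intro v hv
    rw [LinearMap.mem_ker, Matrix.mulVecLin_apply] at hv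
    unfold regS at hv
    rw [Matrix.fromBlocks_mulVec] at hv
    have h1 : ∀ i : Fin m, (shiftN F m *ᵥ (v ∘ Sum.inl) + cornerB F m *ᵥ (v ∘ Sum.inr)) i = 0 := by
      intro i
      have := congrFun hv (Sum.inl i)
      simpa using this
    have h2 : ∀ i : Fin m, ((shiftN F m)ᵀ *ᵥ (v ∘ Sum.inr)) i = 0 := by
      intro i
      have := congrFun hv (Sum.inr i)
      simp only [Sum.elim_inr, Matrix.zero_mulVec, zero_add, Matrix.neg_mulVec, Pi.neg_apply,
        Pi.zero_apply, neg_eq_zero] at this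
      exact this
    have hy : ∀ j : Fin m, (j : ℕ) ≠ 0 → v (Sum.inr j) = 0 := by
      intro j hj
      obtain ⟨j', hj'⟩ : ∃ j', (j : ℕ) = j' + 1 := ⟨(j : ℕ) - 1, by omega⟩
      have hlt : j' + 1 < m := by have := j.2; omega
      have := h2 ⟨j', by omega⟩
      rw [shiftN_transpose_mulVec_lt _ _ hlt] at this
      have e : (⟨j' + 1, hlt⟩ : Fin m) = j := Fin.ext hj'.symm
      rw [e] at this
      exact this
    have hy0 : ∀ j : Fin m, v (Sum.inr j) = 0 := by
      intro j
      by_cases hj : (j : ℕ) = 0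
      · have := h1 j
        rw [Pi.add_apply, shiftN_mulVec_zero _ j hj, cornerB_mulVec_zero _ j hj, zero_add] at this
        exact this
      · exact hy j hj
    have hx : ∀ j : Fin m, (j : ℕ) + 1 < m → v (Sum.inl j) = 0 := by
      intro j hj
      have := h1 ⟨(j : ℕ) + 1, hj⟩
      rw [Pi.add_apply, shiftN_mulVec_succ _ _ (j : ℕ) rfl, cornerB_mulVec_pos _ _ (by simp),
        add_zero] at this
      exact this
    rw [Submodule.mem_span_singleton]
    refine ⟨v (Sum.inl ⟨m - 1, by omega⟩), ?_⟩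
    funext i
    rcases i with i | i
    · simp only [Pi.smul_apply, Sum.elim_inl, smul_eq_mul]
      by_cases hi : (i : ℕ) + 1 < m
      · rw [hx i hi]
        have : i ≠ (⟨m - 1, by omega⟩ : Fin m) := by
          intro h
          have := congrArg Fin.val h
          simp only at this
          omega
        rw [Pi.single_eq_of_ne this, mul_zero]
      · have : i = (⟨m - 1, by omega⟩ : Fin m) := by
          apply Fin.ext
          have := i.2
          simp only
          omega
        rw [this, Pi.single_eq_same, mul_one]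
    · simp only [Pi.smul_apply, Sum.elim_inr, Pi.zero_apply, smul_zero]
      exact (hy0 i).symm
  · rw [Submodule.span_singleton_le_iff_mem, LinearMap.mem_ker, Matrix.mulVecLin_apply]
    unfold regS
    rw [Matrix.fromBlocks_mulVec]
    funext i
    rcases i with i | i
    · simp only [Sum.elim_inl, Pi.add_apply, Pi.zero_apply]
      have e1 : (Sum.elim (Pi.single (⟨m - 1, by omega⟩ : Fin m) (1 : F)) (0 : Fin m → F)) ∘ Sum.inr
          = 0 := by
        funext j; rfl
      have e2 : (Sum.elim (Pi.single (⟨m - 1, by omega⟩ : Fin m) (1 : F)) (0 : Fin m → F)) ∘ Sum.inl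
          = Pi.single (⟨m - 1, by omega⟩ : Fin m) (1 : F) := by
        funext j; rfl
      rw [e1, e2, Matrix.mulVec_zero, Pi.zero_apply, add_zero]
      by_cases hi : (i : ℕ) = 0
      · exact shiftN_mulVec_zero _ i hi
      · obtain ⟨i', hi'⟩ : ∃ i', (i : ℕ) = i' + 1 := ⟨(i : ℕ) - 1, by omega⟩
        rw [shiftN_mulVec_succ _ i i' hi']
        have : (⟨i', by omega⟩ : Fin m) ≠ (⟨m - 1, by omega⟩ : Fin m) := by
          intro h
          have := congrArg Fin.val h
          simp only at this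
          have := i.2
          omega
        rw [Pi.single_eq_of_ne this]
    · simp only [Sum.elim_inr, Pi.add_apply, Pi.zero_apply]
      have e1 : (Sum.elim (Pi.single (⟨m - 1, by omega⟩ : Fin m) (1 : F)) (0 : Fin m → F)) ∘ Sum.inr
          = 0 := by
        funext j; rfl
      rw [e1, Matrix.mulVec_zero, Matrix.zero_mulVec]
      simp

theorem regS_rank (hm : 1 ≤ m) : (regS F m).rank = 2 * m - 1 := by
  have h1 := LinearMap.finrank_range_add_finrank_ker (Matrix.mulVecLin (regS F m))
  rw [regS_ker hm, finrank_span_singleton, Module.finrank_fintype_fun_eq_card, Fintype.card_sum,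
    Fintype.card_fin] at h1
  · have : (regS F m).rank = finrank F (LinearMap.range (Matrix.mulVecLin (regS F m))) := rfl
    omega
  · intro h
    have := congrFun h (Sum.inl ⟨m - 1, by omega⟩)
    simp at this

theorem cayley_sp (s : Matrix (Fin m ⊕ Fin m) (Fin m ⊕ Fin m) F) (n : ℕ)
    (hs : spAdj F m s = -s) (hnil : s ^ n = 0) (h2 : (2 : F) ≠ 0) :
    ∃ u : Matrix (Fin m ⊕ Fin m) (Fin m ⊕ Fin m) F,
      u * spAdj F m u = 1 ∧ (u - 1) ^ n = 0 ∧ (u - 1).rank = s.rank := by
  have hsn : IsNilpotent s := ⟨n, hnil⟩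
  obtain ⟨ua, hua⟩ := hsn.isUnit_one_sub
  obtain ⟨ub, hub⟩ := hsn.isUnit_one_add
  set a := 1 - s with ha
  set b := 1 + s with hb
  set D : Matrix (Fin m ⊕ Fin m) (Fin m ⊕ Fin m) F := (ua⁻¹).1 with hD
  set D' : Matrix (Fin m ⊕ Fin m) (Fin m ⊕ Fin m) F := (ub⁻¹).1 with hD'
  have haD : a * D = 1 := by rw [← hua]; exact ua.mul_inv
  have hDa : D * a = 1 := by rw [← hua]; exact ua.inv_mul
  have hbD' : b * D' = 1 := by rw [← hub]; exact ub.mul_inv
  have hD'b : D' * b = 1 := by rw [← hub]; exact ub.inv_mul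
  have hab : a * b = b * a := by
    rw [ha, hb]; noncomm_ring
  have hadja : spAdj F m a = b := by
    rw [ha, hb, map_sub, spAdj_one, hs]; abel
  have hadjb : spAdj F m b = a := by
    rw [ha, hb, map_add, spAdj_one, hs]; abel
  have hadjD : spAdj F m D = D' := by
    have h1 : spAdj F m D * b = 1 := by rw [← hadja, ← spAdj_mul, haD, spAdj_one]
    calc spAdj F m D = spAdj F m D * (b * D') := by rw [hbD', mul_one]
      _ = (spAdj F m D * b) * D' := by rw [Matrix.mul_assoc]
      _ = D' := by rw [h1, one_mul]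
  have hbD : b * D = D * b := by
    calc b * D = (D * a) * b * D := by rw [hDa, one_mul]
      _ = D * (a * b) * D := by simp only [Matrix.mul_assoc]
      _ = D * (b * a) * D := by rw [hab]
      _ = D * b * (a * D) := by simp only [Matrix.mul_assoc]
      _ = D * b := by rw [haD, mul_one]
  have hD'a : D' * a = a * D' := by
    calc D' * a = D' * a * (b * D') := by rw [hbD', mul_one]
      _ = D' * (a * b) * D' := by simp only [Matrix.mul_assoc]
      _ = D' * (b * a) * D' := by rw [hab]
      _ = (D' * b) * a * D' := by simp only [Matrix.mul_assoc]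
      _ = a * D' := by rw [hD'b, one_mul]
  refine ⟨b * D, ?_, ?_, ?_⟩
  · rw [spAdj_mul, hadjD, hadjb]
    calc b * D * (D' * a) = D * b * (a * D') := by rw [hbD, hD'a]
      _ = D * (b * a) * D' := by simp only [Matrix.mul_assoc]
      _ = D * (a * b) * D' := by rw [hab]
      _ = (D * a) * (b * D') := by simp only [Matrix.mul_assoc]
      _ = 1 := by rw [hDa, hbD', mul_one]
  · have h1 : b * D - 1 = (2 : F) • (s * D) := by
      have : b * D - 1 = b * D - a * D := by rw [haD]
      rw [this, ← sub_mul, ha, hb, two_smul, ← add_mul]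
      congr 1
      abel
    have hsD : Commute s D := by
      have h3 : s = b - 1 := by rw [hb]; abel
      show s * D = D * s
      rw [h3, sub_mul, mul_sub, hbD, one_mul, mul_one]
    rw [h1, smul_pow, hsD.mul_pow, hnil, zero_mul, smul_zero]
  · have h1 : b * D - 1 = s * ((2 : F) • D) := by
      have : b * D - 1 = b * D - a * D := by rw [haD]
      rw [this, ← sub_mul, ha, hb, Matrix.mul_smul, two_smul, ← add_mul]
      congr 1
      abel
    rw [h1]
    apply Matrix.rank_mul_eq_left_of_isUnit_det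
    rw [Matrix.det_smul]
    apply IsUnit.mul
    · exact (IsUnit.mk0 _ h2).pow _
    · exact (Matrix.isUnit_iff_isUnit_det _).mp ⟨ua⁻¹, rfl⟩

theorem exists_reg_unip_sp (h2 : (2 : F) ≠ 0) (hm : 1 ≤ m) :
    ∃ u : Matrix.symplecticGroup (Fin m) F,
      ((u : Matrix (Fin m ⊕ Fin m) (Fin m ⊕ Fin m) F) - 1) ^ (2 * m) = 0 ∧
      ((u : Matrix (Fin m ⊕ Fin m) (Fin m ⊕ Fin m) F) - 1).rank = 2 * m - 1 := by
  obtain ⟨u, hu1, hu2, hu3⟩ := cayley_sp (regS F m) (2 * m) regS_adj regS_nil h2
  refine ⟨⟨u, (mem_sp_iff_adj u).mpr hu1⟩, hu2, ?_⟩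
  rw [← regS_rank (F := F) hm]
  exact hu3

end Cfsg.Agent.Lib.Helper16.RN
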