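import Mathlib
import Cfsg.Agent.Lib.Helper16.RegClass
import Cfsg.Agent.Lib.Helper16.RegSpExist

set_option autoImplicit false
set_option linter.unusedSectionVars false
set_option linter.unusedSimpArgs false
set_option linter.unusedVariables false

namespace Cfsg.Agent.Lib.Helper16.RN

open Matrix Module

variable {F : Type*} [Field F] {m : ℕ}

theorem sp_reg_data (h2 : (2 : F) ≠ 0) (U : Matrix (Fin m ⊕ Fin m) (Fin m ⊕ Fin m) F)
    (hUV : U * spAdj F m U = 1) (k : ℕ) (hk : 2 * m = k + 1)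
    (hnil : (U - 1) ^ (2 * m) = 0) (hreg : (U - 1).rank = 2 * m - 1) :
    (U - spAdj F m U) ^ (k + 1) = 0 ∧ (U - spAdj F m U).rank = k ∧
      spAdj F m (U - spAdj F m U) = -(U - spAdj F m U) ∧
      (∀ g : Matrix (Fin m ⊕ Fin m) (Fin m ⊕ Fin m) F, Commute g U ↔ Commute g (U - spAdj F m U)) := by
  classical
  set V := spAdj F m U with hV
  have hVU : V * U = 1 := mul_eq_one_comm.mp hUV
  set N := U - 1 with hN
  set s := U - V with hs
  have hcard : Fintype.card (Fin m ⊕ Fin m) = k + 1 := by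
    rw [Fintype.card_sum, Fintype.card_fin]; omega
  have hsadj : spAdj F m s = -s := by
    rw [hs, map_sub, ← hV, spAdj_spAdj]; abel
  set E := (U + 1) * V with hE
  have hsEN : s = E * N := by
    rw [hE, hN, hs]
    have h1 : (U + 1) * V * (U - 1) = (U + 1) * (V * U - V) := by
      rw [Matrix.mul_assoc, mul_sub, mul_one]
    rw [h1, hVU, mul_sub, mul_one, add_mul, hUV, one_mul]
    abel
  have hcommUV : Commute U V := by
    show U * V = V * U
    rw [hUV, hVU]
  have hcommEN : Commute E N := by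
    rw [hE, hN]
    apply Commute.mul_left
    · exact ((Commute.refl U).add_left (Commute.one_left U)).sub_right (Commute.one_right _)
    · exact (hcommUV.symm).sub_right (Commute.one_right _)
  have hnil_s : s ^ (k + 1) = 0 := by
    rw [hsEN, hcommEN.mul_pow, ← hk, hnil, mul_zero]
  have hEunit : IsUnit E.det := by
    have hNnil : IsNilpotent N := ⟨2 * m, hnil⟩
    have h2M : IsUnit ((2 : F) • (1 : Matrix (Fin m ⊕ Fin m) (Fin m ⊕ Fin m) F)) := by
      have := (IsUnit.mk0 _ h2).map (algebraMap F (Matrix (Fin m ⊕ Fin m) (Fin m ⊕ Fin m) F))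
      rwa [Algebra.algebraMap_eq_smul_one] at this
    have hU1 : IsUnit (U + 1) := by
      have : U + 1 = (2 : F) • (1 : Matrix (Fin m ⊕ Fin m) (Fin m ⊕ Fin m) F) + N := by
        rw [hN, two_smul]; abel
      rw [this]
      exact hNnil.isUnit_add_left_of_commute h2M ((Commute.one_right _).smul_right _)
    have hVunit : IsUnit V := ⟨⟨V, U, hVU, hUV⟩, rfl⟩
    exact (Matrix.isUnit_iff_isUnit_det _).mp (hU1.mul hVunit)
  have hrank_s : s.rank = k := by
    rw [hsEN, Matrix.rank_mul_eq_right_of_isUnit_det _ _ hEunit, hreg]; omega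
  refine ⟨hnil_s, hrank_s, hsadj, ?_⟩
  obtain ⟨v, hv⟩ := exists_cyclic k s hcard hnil_s hrank_s
  have hUs : Commute U s := by
    rw [hs]
    exact (Commute.refl U).sub_right hcommUV
  intro g
  constructor
  · intro hgU
    have hgV : g * V = V * g := by
      calc g * V = V * (U * g) * V := by
            rw [← Matrix.mul_assoc V U, hVU, one_mul]
        _ = V * (g * U) * V := by rw [hgU.eq]
        _ = V * g := by rw [Matrix.mul_assoc, Matrix.mul_assoc, hUV, mul_one]
    show g * s = s * g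
    rw [hs, mul_sub, sub_mul, hgU.eq, hgV]
  · intro hgs
    obtain ⟨c, hc⟩ := exists_Psi_of_commute k s hcard hnil_s v hv g hgs
    rw [hc]
    exact (Psi_commute_of k s c U hUs).symm

/-- a symplectic matrix as a unit of the matrix ring. -/
noncomputable def spUnit (u : Matrix.symplecticGroup (Fin m) F) :
    (Matrix (Fin m ⊕ Fin m) (Fin m ⊕ Fin m) F)ˣ :=
  ⟨u.1, spAdj F m u.1, (mem_sp_iff_adj u.1).mp u.2, mul_eq_one_comm.mp ((mem_sp_iff_adj u.1).mp u.2)⟩

theorem spUnit_val (u : Matrix.symplecticGroup (Fin m) F) : (spUnit u).1 = u.1 := rfl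

theorem spUnit_adj (u : Matrix.symplecticGroup (Fin m) F) :
    spUnit u * adjU (spAdj F m) spAdj_mul spAdj_one (spUnit u) = 1 :=
  Units.ext ((mem_sp_iff_adj u.1).mp u.2)

theorem spUnit_mul (u w : Matrix.symplecticGroup (Fin m) F) : spUnit (u * w) = spUnit u * spUnit w :=
  Units.ext rfl

/-- the similitude `diag(a,1)`. -/
noncomputable def simU (a : Fˣ) : (Matrix (Fin m ⊕ Fin m) (Fin m ⊕ Fin m) F)ˣ :=
  ⟨Matrix.fromBlocks ((a : F) • 1) 0 0 1, Matrix.fromBlocks (((a⁻¹ : Fˣ) : F) • 1) 0 0 1, by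
    rw [Matrix.fromBlocks_multiply]
    simp [← Matrix.fromBlocks_one], by
    rw [Matrix.fromBlocks_multiply]
    simp [← Matrix.fromBlocks_one]⟩

theorem simU_gram (a : Fˣ) :
    (adjU (spAdj F m) spAdj_mul spAdj_one (simU a) * simU a).1
      = (a : F) • (1 : Matrix (Fin m ⊕ Fin m) (Fin m ⊕ Fin m) F) := by
  show spAdj F m (Matrix.fromBlocks ((a : F) • 1) 0 0 1) * Matrix.fromBlocks ((a : F) • 1) 0 0 1 = _
  rw [spAdj_apply]
  unfold Matrix.J
  simp only [Matrix.fromBlocks_transpose, Matrix.fromBlocks_neg, Matrix.fromBlocks_multiply]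
  rw [← Matrix.fromBlocks_one, Matrix.fromBlocks_smul]
  simp

end Cfsg.Agent.Lib.Helper16.RN
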