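import Mathlib
import Cfsg.Agent.Lib.Helper16.RegSpData

set_option autoImplicit false
set_option linter.unusedSectionVars false
set_option linter.unusedSimpArgs false
set_option linter.unusedVariables false

namespace Cfsg.Agent.Lib.Helper16.RN

open Matrix Module

variable {F : Type*} [Field F] {m : ℕ}

theorem sp_reg_classes [Fintype F] (hodd : Odd (Fintype.card F)) (hm : 1 ≤ m) :
    Nat.card {C : ConjClasses ↥(Matrix.symplecticGroup (Fin m) F) //
      ∃ u : Matrix.symplecticGroup (Fin m) F, ConjClasses.mk u = C ∧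
        ((u : Matrix (Fin m ⊕ Fin m) (Fin m ⊕ Fin m) F) - 1) ^ (2 * m) = 0 ∧
        ((u : Matrix (Fin m ⊕ Fin m) (Fin m ⊕ Fin m) F) - 1).rank = 2 * m - 1} = 2 := by
  classical
  have h2 : (2 : F) ≠ 0 := by
    intro h
    have : CharP F 2 := CharTwo.of_one_ne_zero_of_two_eq_zero one_ne_zero h
    have h3 : (2 : ℕ) ∣ Fintype.card F := by
      rw [← CharP.cast_eq_zero_iff F 2, Nat.cast_card_eq_zero]
    rw [Nat.odd_iff] at hodd
    omega
  obtain ⟨p, hpF⟩ := CharP.exists F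
  have hpprime : p.Prime := by
    rcases CharP.char_is_prime_or_zero F p with h | h
    · exact h
    · exfalso
      subst h
      have : CharZero F := CharP.charP_to_charZero F
      exact not_finite F
  have : Fact p.Prime := ⟨hpprime⟩
  have hp2 : p ≠ 2 := by
    rintro rfl
    exact h2 (by exact_mod_cast CharP.cast_eq_zero F 2)
  obtain ⟨k, hk⟩ : ∃ k, 2 * m = k + 1 := ⟨2 * m - 1, by omega⟩
  have hcard : Fintype.card (Fin m ⊕ Fin m) = k + 1 := by
    rw [Fintype.card_sum, Fintype.card_fin]; omega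
  obtain ⟨u₀, hu₀nil, hu₀reg⟩ := exists_reg_unip_sp (F := F) h2 hm
  obtain ⟨hs_nil, hs_rank, hs_adj, hs_comm⟩ :=
    sp_reg_data h2 u₀.1 ((mem_sp_iff_adj u₀.1).mp u₀.2) k hk hu₀nil hu₀reg
  set s := u₀.1 - spAdj F m u₀.1 with hs
  obtain ⟨v, hv⟩ := exists_cyclic k s hcard hs_nil hs_rank
  set U₀ := spUnit u₀ with hU₀
  have hcomm : ∀ g : Matrix (Fin m ⊕ Fin m) (Fin m ⊕ Fin m) F, Commute g U₀.1 ↔ Commute g s :=
    hs_comm
  have hne : Nonempty (Fin m ⊕ Fin m) := by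
    rw [← Fintype.card_pos_iff, hcard]; omega
  have hnil0 : (u₀.1 - 1) ^ (k + 1) = 0 := by rw [← hk]; exact hu₀nil
  have hrank0 : (u₀.1 - 1).rank = k := by rw [hu₀reg]; omega
  have hex : ∀ C : {C : ConjClasses ↥(Matrix.symplecticGroup (Fin m) F) //
      ∃ u : Matrix.symplecticGroup (Fin m) F, ConjClasses.mk u = C ∧
        ((u : Matrix (Fin m ⊕ Fin m) (Fin m ⊕ Fin m) F) - 1) ^ (2 * m) = 0 ∧
        ((u : Matrix (Fin m ⊕ Fin m) (Fin m ⊕ Fin m) F) - 1).rank = 2 * m - 1},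
      ∃ (u : Matrix.symplecticGroup (Fin m) F) (x : (Matrix (Fin m ⊕ Fin m) (Fin m ⊕ Fin m) F)ˣ)
        (c : Fin (k + 1) → F), ConjClasses.mk u = C.1 ∧ x * U₀ = spUnit u * x ∧
        (adjU (spAdj F m) spAdj_mul spAdj_one x * x).1 = Psi k s c ∧ c 0 ≠ 0 := by
    rintro ⟨C, u, hu, hnil, hrank⟩
    have hrank' : (u.1 - 1).rank = k := by rw [hrank]; omega
    have hnil' : (u.1 - 1) ^ (k + 1) = 0 := by rw [← hk]; exact hnil
    obtain ⟨x, hxu, hxN⟩ :=
      exists_intertwiner k (u₀.1 - 1) (u.1 - 1) hcard hnil0 hrank0 hnil' hrank'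
    obtain ⟨X, hX⟩ := hxu
    have hXU : X * U₀ = spUnit u * X := by
      apply Units.ext
      show X.1 * u₀.1 = u.1 * X.1
      rw [hX]
      have h3 := hxN
      rw [mul_sub, sub_mul, mul_one, one_mul] at h3
      exact sub_left_inj.mp h3
    have hg := gram_commute (spAdj F m) spAdj_mul spAdj_one U₀ (spUnit u) X (spUnit_adj u₀)
      (spUnit_adj u) hXU
    have hgs : Commute (adjU (spAdj F m) spAdj_mul spAdj_one X * X).1 s :=
      (hcomm _).mp (congrArg Units.val hg)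
    obtain ⟨c, hc⟩ := exists_Psi_of_commute k s hcard hs_nil v hv _ hgs
    refine ⟨u, X, c, hu, hXU, hc, ?_⟩
    intro h0
    apply Psi_not_isUnit k s hs_nil c h0
    rw [← hc]
    exact Units.isUnit _
  choose uC xC cC hmk hxC hcC hc0 using hex
  set H : Subgroup Fˣ := (powMonoidHom 2 : Fˣ →* Fˣ).range with hH
  let ψ : {C : ConjClasses ↥(Matrix.symplecticGroup (Fin m) F) //
      ∃ u : Matrix.symplecticGroup (Fin m) F, ConjClasses.mk u = C ∧
        ((u : Matrix (Fin m ⊕ Fin m) (Fin m ⊕ Fin m) F) - 1) ^ (2 * m) = 0 ∧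
        ((u : Matrix (Fin m ⊕ Fin m) (Fin m ⊕ Fin m) F) - 1).rank = 2 * m - 1} → Fˣ ⧸ H :=
    fun C => QuotientGroup.mk (Units.mk0 (cC C 0) (hc0 C))
  have hψ : Function.Bijective ψ := by
    constructor
    · intro C C' hCC'
      have h1 : (Units.mk0 (cC C 0) (hc0 C))⁻¹ * Units.mk0 (cC C' 0) (hc0 C') ∈ H :=
        QuotientGroup.eq.mp hCC'
      obtain ⟨b, hb⟩ := h1
      have hb' : cC C' 0 = cC C 0 * (b : F) ^ 2 := by
        have h3 := congrArg Units.val hb
        simp only [powMonoidHom_apply, Units.val_pow_eq_pow_val, Units.val_mul,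
          Units.val_inv_eq_inv_val, Units.val_mk0] at h3
        rw [h3]
        field_simp [hc0 C]
      obtain ⟨y, hy1, hy2⟩ := conj_of_norm_rel p hp2 (spAdj F m) spAdj_mul spAdj_one spAdj_spAdj
        k s hcard hs_nil v hv hs_adj U₀ (spUnit_adj u₀) hcomm (spUnit (uC C')) (spUnit (uC C))
        (xC C') (xC C) (spUnit_adj _) (spUnit_adj _) (hxC C') (hxC C) (cC C') (cC C) (hcC C')
        (hcC C) (b : F) b.ne_zero hb'
      have hconj : IsConj (uC C') (uC C) := by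
        apply isConj_iff.mpr
        refine ⟨⟨y.1, (mem_sp_iff_adj _).mpr (congrArg Units.val hy1)⟩, ?_⟩
        apply mul_inv_eq_of_eq_mul
        apply Subtype.ext
        exact congrArg Units.val hy2
      apply Subtype.ext
      rw [← hmk C, ← hmk C']
      exact (ConjClasses.mk_eq_mk_iff_isConj.mpr hconj).symm
    · intro t
      obtain ⟨a, rfl⟩ := QuotientGroup.mk_surjective t
      obtain ⟨Xa, hXa⟩ : ∃ Xa, Xa = simU (F := F) (m := m) a := ⟨_, rfl⟩
      obtain ⟨σ, hσ⟩ : ∃ σ, σ = adjU (spAdj F m) spAdj_mul spAdj_one Xa * Xa := ⟨_, rfl⟩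
      have hσval : σ.1 = (a : F) • (1 : Matrix (Fin m ⊕ Fin m) (Fin m ⊕ Fin m) F) := by
        rw [hσ, hXa]; exact simU_gram a
      have hσc : ∀ g : (Matrix (Fin m ⊕ Fin m) (Fin m ⊕ Fin m) F)ˣ, σ * g = g * σ := by
        intro g
        apply Units.ext
        rw [Units.val_mul, Units.val_mul, hσval, Matrix.smul_mul, Matrix.mul_smul, one_mul, mul_one]
      obtain ⟨Ua, hUa⟩ : ∃ Ua, Ua = Xa * U₀ * Xa⁻¹ := ⟨_, rfl⟩
      have hadjXa : adjU (spAdj F m) spAdj_mul spAdj_one Xa = σ * Xa⁻¹ := by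
        rw [hσ]; group
      have hadjU₀ : adjU (spAdj F m) spAdj_mul spAdj_one U₀ = U₀⁻¹ :=
        eq_inv_of_mul_eq_one_right (spUnit_adj u₀)
      have hUa_sp : Ua * adjU (spAdj F m) spAdj_mul spAdj_one Ua = 1 := by
        rw [hUa, adjU_mul, adjU_mul, adjU_inv, hadjXa, hadjU₀]
        have h3 : (σ * Xa⁻¹)⁻¹ * (U₀⁻¹ * (σ * Xa⁻¹)) = Xa * U₀⁻¹ * Xa⁻¹ := by
          have h4 : U₀⁻¹ * (σ * Xa⁻¹) = σ * (U₀⁻¹ * Xa⁻¹) := by
            rw [← mul_assoc, ← hσc U₀⁻¹, mul_assoc]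
          rw [h4]; group
        rw [h3]; group
      obtain ⟨ua, hua⟩ : ∃ ua : Matrix.symplecticGroup (Fin m) F, spUnit ua = Ua :=
        ⟨⟨Ua.1, (mem_sp_iff_adj _).mpr (congrArg Units.val hUa_sp)⟩, Units.ext rfl⟩
      have hXaUa : Xa * U₀ = spUnit ua * Xa := by
        rw [hua, hUa]; group
      have hconjN : ua.1 - 1 = Xa.1 * (u₀.1 - 1) * (Xa⁻¹).1 := by
        have h3 : ua.1 = Xa.1 * u₀.1 * (Xa⁻¹).1 := by
          have := congrArg Units.val hua
          rw [hUa] at this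
          exact this
        rw [h3, mul_sub, sub_mul, mul_one, Units.mul_inv]
      have hua_nil : (ua.1 - 1) ^ (2 * m) = 0 := by
        rw [hconjN, Units.conj_pow, hu₀nil, mul_zero, zero_mul]
      have hua_rank : (ua.1 - 1).rank = 2 * m - 1 := by
        rw [hconjN, Matrix.rank_mul_eq_left_of_isUnit_det _ _
          ((Matrix.isUnit_iff_isUnit_det _).mp (Xa⁻¹).isUnit),
          Matrix.rank_mul_eq_right_of_isUnit_det _ _
          ((Matrix.isUnit_iff_isUnit_det _).mp Xa.isUnit), hu₀reg]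
      refine ⟨⟨ConjClasses.mk ua, ua, rfl, hua_nil, hua_rank⟩, ?_⟩
      obtain ⟨Ca, hCa⟩ : ∃ Ca : {C : ConjClasses ↥(Matrix.symplecticGroup (Fin m) F) //
          ∃ u : Matrix.symplecticGroup (Fin m) F, ConjClasses.mk u = C ∧
            ((u : Matrix (Fin m ⊕ Fin m) (Fin m ⊕ Fin m) F) - 1) ^ (2 * m) = 0 ∧
            ((u : Matrix (Fin m ⊕ Fin m) (Fin m ⊕ Fin m) F) - 1).rank = 2 * m - 1},
          Ca = ⟨ConjClasses.mk ua, ua, rfl, hua_nil, hua_rank⟩ := ⟨_, rfl⟩
      rw [← hCa]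
      show QuotientGroup.mk (Units.mk0 (cC Ca 0) (hc0 Ca)) = QuotientGroup.mk a
      rw [QuotientGroup.eq]
      have hconj : IsConj ua (uC Ca) := by
        have h3 : Ca.1 = ConjClasses.mk ua := by rw [hCa]
        have h4 := hmk Ca
        rw [h3] at h4
        exact (ConjClasses.mk_eq_mk_iff_isConj.mp h4).symm
      obtain ⟨g, hg⟩ := isConj_iff.mp hconj
      have hgU : spUnit g * spUnit ua = spUnit (uC Ca) * spUnit g := by
        rw [← spUnit_mul, ← spUnit_mul]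
        congr 1
        exact eq_mul_of_mul_inv_eq hg
      have hca : (adjU (spAdj F m) spAdj_mul spAdj_one Xa * Xa).1
          = Psi k s ((a : F) • Pi.single 0 1) := by
        rw [← hσ, hσval, Psi_smul, Psi_single]
      obtain ⟨e, he0, he⟩ := norm_rel_of_conj (spAdj F m) spAdj_mul spAdj_one k s hcard hs_nil v hv
        hs_adj U₀ (fun g hg => (hcomm g).mp hg) (spUnit ua) (spUnit (uC Ca)) Xa (xC Ca) (spUnit g)
        hXaUa (hxC Ca) (spUnit_adj g) hgU ((a : F) • Pi.single 0 1) (cC Ca) hca (hcC Ca)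
      refine ⟨Units.mk0 e he0, ?_⟩
      apply Units.ext
      simp only [powMonoidHom_apply, Units.val_pow_eq_pow_val, Units.val_mul,
        Units.val_inv_eq_inv_val, Units.val_mk0]
      simp only [Pi.smul_apply, Pi.single_eq_same, smul_eq_mul, mul_one] at he
      rw [he]
      field_simp [hc0 Ca]
  rw [Nat.card_eq_of_bijective ψ hψ]
  have hidx : Nat.card (Fˣ ⧸ H) = H.index := rfl
  rw [hidx, hH, IsCyclic.index_powMonoidHom_range, Nat.card_units, Nat.card_eq_fintype_card]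
  obtain ⟨t, ht⟩ := hodd
  rw [ht]
  have : 2 * t + 1 - 1 = 2 * t := by omega
  rw [this]
  simp

end Cfsg.Agent.Lib.Helper16.RN
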