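import Mathlib

set_option autoImplicit false

namespace Cfsg.Agent.Lib.Helper20.S3571
open Equiv

/-- C7: a prime dividing `C(m,u)` divides one of `m, m-1, …, m-u+1`. -/
theorem exists_lt_dvd_sub {m u r : ℕ} (hr : r.Prime) (hu : u ≤ m) (h : r ∣ m.choose u) :
    ∃ i < u, r ∣ m - i := by
  have h1 : r ∣ m.descFactorial u := by
    rw [Nat.descFactorial_eq_factorial_mul_choose]
    exact Dvd.dvd.mul_left h _
  rw [Nat.descFactorial_eq_prod_range] at h1
  obtain ⟨i, hi, hd⟩ := (Prime.dvd_finsetProd_iff (Nat.Prime.prime hr) _).1 h1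
  exact ⟨i, Finset.mem_range.1 hi, hd⟩

end Cfsg.Agent.Lib.Helper20.S3571
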