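import Mathlib

set_option autoImplicit false

namespace Cfsg.Agent.Lib.Helper20.S3571
open Equiv

/-- C7b: if every prime factor of `m ≥ 5` is `≤ 2` then `4 ∣ m`. -/
theorem four_dvd_of_two_power {m : ℕ} (hm : 5 ≤ m) (h : ∀ s : ℕ, s.Prime → s ∣ m → s ≤ 2) :
    4 ∣ m := by
  have hm0 : m ≠ 0 := by omega
  have h2 : ∀ s : ℕ, s.Prime → s ∣ m → s = 2 := fun s hs hd =>
    le_antisymm (h s hs hd) hs.two_le
  have h3 : m = 2 ^ m.factorization 2 := by
    conv_lhs => rw [← Nat.prod_factorization_pow_eq_self hm0]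
    rw [Finsupp.prod]
    have hsupp : m.factorization.support ⊆ {2} := by
      intro s hs
      rw [Nat.support_factorization, Nat.mem_primeFactors] at hs
      rw [Finset.mem_singleton]
      exact h2 s hs.1 hs.2.1
    rw [Finset.prod_subset hsupp]
    · simp
    · intro x hx hx'
      rw [Finsupp.notMem_support_iff] at hx'
      rw [hx', pow_zero]
  have h4 : 2 ≤ m.factorization 2 := by
    by_contra hlt
    have : m.factorization 2 ≤ 1 := by omega
    have h5 : 2 ^ m.factorization 2 ≤ 2 ^ 1 := Nat.pow_le_pow_right (by norm_num) this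
    omega
  rw [h3]
  exact pow_dvd_pow 2 h4

end Cfsg.Agent.Lib.Helper20.S3571
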