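import Mathlib

set_option autoImplicit false

namespace Cfsg.Agent.Lib.Helper20.S3571
open Equiv

/-- C9: an element of order dividing the prime `r` stabilising `W`, `|Wᶜ| < r`, fixes `Wᶜ`
pointwise. -/
theorem fixed_of_mem_stabilizer (m : ℕ) (W : Finset (Fin m)) (g : Perm (Fin m))
    (hg : ∀ x, x ∈ W ↔ g x ∈ W) (r : ℕ) (hr : r.Prime) (hgr : g ^ r = 1)
    (hu : m - W.card < r) : ∀ x, x ∉ W → g x = x := by
  intro x hx
  by_contra hne
  have hper : Function.IsPeriodicPt g r x := by
    have h1 : (g ^ r) x = x := by rw [hgr]; rfl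
    rw [Function.IsPeriodicPt, Function.IsFixedPt, ← Equiv.Perm.coe_pow]
    exact h1
  have hdvd := hper.minimalPeriod_dvd
  have hmp : Function.minimalPeriod g x = r := by
    rcases (Nat.dvd_prime hr).1 hdvd with h1 | h1
    · exact absurd (Function.minimalPeriod_eq_one_iff_isFixedPt.1 h1) hne
    · exact h1
  have hiter : ∀ i : ℕ, g^[i] x ∉ W := by
    intro i
    induction i with
    | zero => simpa using hx
    | succ i ih =>
      rw [Function.iterate_succ_apply']
      exact fun h => ih ((hg _).2 h)
  have hinj : Set.InjOn (fun i : ℕ => g^[i] x) (Finset.range r : Set ℕ) := by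
    intro i hi j hj hij
    rw [Finset.coe_range] at hi hj
    rw [← hmp] at hi hj
    exact Function.iterate_injOn_Iio_minimalPeriod hi hj hij
  have hcard : (Finset.range r).card ≤ (Finset.univ \ W).card := by
    apply Finset.card_le_card_of_injOn (fun i : ℕ => g^[i] x)
    · intro i _
      rw [Finset.mem_coe, Finset.mem_sdiff]
      exact ⟨Finset.mem_univ _, hiter i⟩
    · exact hinj
  rw [Finset.card_range, Finset.card_sdiff_of_subset (Finset.subset_univ W), Finset.card_univ,
    Fintype.card_fin] at hcard
  omega

end Cfsg.Agent.Lib.Helper20.S3571
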