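import Mathlib

set_option autoImplicit false

namespace Cfsg.Agent.Lib.Helper20.S3571
open Equiv

/-- C9b: conjugation preserves the number of fixed points. -/
theorem card_fixed_conj (m : ℕ) (a x : Perm (Fin m)) :
    (Finset.univ.filter (fun y => (x * a * x⁻¹) y = y)).card =
      (Finset.univ.filter (fun y => a y = y)).card := by
  symm
  apply Finset.card_bij (fun y _ => x y)
  · intro y hy
    rw [Finset.mem_filter] at hy ⊢
    refine ⟨Finset.mem_univ _, ?_⟩
    simp [Perm.mul_apply, hy.2]
  · intro y _ z _ hyz
    exact x.injective hyz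
  · intro y hy
    rw [Finset.mem_filter] at hy
    refine ⟨x⁻¹ y, ?_, by simp⟩
    rw [Finset.mem_filter]
    refine ⟨Finset.mem_univ _, ?_⟩
    have := hy.2
    simp only [Perm.mul_apply] at this
    apply x.injective
    rw [this]; simp

end Cfsg.Agent.Lib.Helper20.S3571
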