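import Mathlib
import Cfsg.Agent.Lib.helper3.S5953.Defs2
import Cfsg.Agent.Lib.Helper21.S5955N9

/-!
# Project S5953, row N9 (TRANSPORT, helper16): what reindexing transports.
-/

set_option autoImplicit false

namespace Cfsg.Agent.Lib.helper3.S5953

open Module

/-- pushing invariant / totally isotropic / fixed subspaces along an intertwining isometry -/
theorem s5953n9_push {F : Type*} [Field F] {q : ℕ} {ι ι' : Type*} [Fintype ι] [Fintype ι']
    (ψ : (ι → F) ≃ₗ[F] (ι' → F))
    (hψ : ∀ u v, hermI ι' F q (ψ u) (ψ v) = hermI ι F q u v)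
    (y : Module.End F (ι → F)) (y' : Module.End F (ι' → F)) (hint : ∀ u, ψ (y u) = y' (ψ u))
    (W : Submodule F (ι → F)) :
    (HInv y W → HInv y' (W.map (ψ : (ι → F) →ₗ[F] (ι' → F)))) ∧
    (HTI q W → HTI q (W.map (ψ : (ι → F) →ₗ[F] (ι' → F)))) ∧
    finrank F (W.map (ψ : (ι → F) →ₗ[F] (ι' → F))) = finrank F W ∧
    (W ≤ fixS y → W.map (ψ : (ι → F) →ₗ[F] (ι' → F)) ≤ fixS y') := by
  refine ⟨?_, ?_, ?_, ?_⟩
  · intro hW w' hw'
    obtain ⟨w, hw, rfl⟩ := hw'
    refine ⟨y w, hW w hw, ?_⟩
    exact hint w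
  · intro hW u' hu' v' hv'
    obtain ⟨u, hu, rfl⟩ := hu'
    obtain ⟨v, hv, rfl⟩ := hv'
    show hermI ι' F q (ψ u) (ψ v) = 0
    rw [hψ]
    exact hW u hu v hv
  · exact LinearEquiv.finrank_map_eq ψ W
  · intro hW w' hw'
    obtain ⟨w, hw, rfl⟩ := hw'
    have h1 := hW hw
    rw [Cfsg.Agent.Lib.Helper13.S5955.s5955n9_mem_fixS] at h1
    show (ψ : (ι → F) →ₗ[F] (ι' → F)) w ∈ fixS y'
    rw [Cfsg.Agent.Lib.Helper13.S5955.s5955n9_mem_fixS]
    show y' (ψ w) = ψ w
    rw [← hint, h1]

theorem s5953n9_reX_apply' {F : Type*} [Field F] {ι ι' : Type*} (e : ι ≃ ι')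
    (y : Module.End F (ι → F)) (u' : ι' → F) :
    reX e y u' = reidx e (y ((reidx e).symm u')) := by
  simp [reX, LinearEquiv.conj_apply]

theorem s5953n9_reX_pow {F : Type*} [Field F] {ι ι' : Type*} (e : ι ≃ ι')
    (y : Module.End F (ι → F)) (k : ℕ) : reX e y ^ k = reX e (y ^ k) := by
  induction k with
  | zero =>
    rw [pow_zero, pow_zero]
    ext u' : 1
    rw [s5953n9_reX_apply']
    simp
  | succ k ih =>
    rw [pow_succ, pow_succ, ih]
    ext u' : 1
    rw [Module.End.mul_apply, s5953n9_reX_apply', s5953n9_reX_apply', s5953n9_reX_apply',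
      Module.End.mul_apply, LinearEquiv.symm_apply_apply]

theorem s5953n9_reX_smul_one {F : Type*} [Field F] {ι ι' : Type*} (e : ι ≃ ι') (c : F) :
    reX e (c • (1 : Module.End F (ι → F))) = c • (1 : Module.End F (ι' → F)) := by
  ext u' : 1
  rw [s5953n9_reX_apply']
  simp

theorem s5953n9_reX_inj {F : Type*} [Field F] {ι ι' : Type*} (e : ι ≃ ι')
    (y y' : Module.End F (ι → F)) (h : reX e y = reX e y') : y = y' :=
  (reidx e).conj.injective h

/-- N9 [M] TRANSPORT: what reindexing to `Fin n` transports. -/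
theorem transport {F : Type*} [Field F] {q r n : ℕ} {ι : Type*} [Fintype ι] [DecidableEq ι]
    (e : ι ≃ Fin n) {z : F} (y : Module.End F (ι → F)) (hy : HCtx q r z y) :
    HCtx q r z (reX e y) ∧ finrank F (fixS (reX e y)) = finrank F (fixS y) ∧
      (∀ c : F, reX e y = c • 1 ↔ y = c • 1) ∧
      (∀ m, HTId q (reX e y) m ↔ HTId q y m) ∧
      ((∀ W, HInv y W → HTI q W → W ≤ fixS y) →
        ∀ W, HInv (reX e y) W → HTI q W → W ≤ fixS (reX e y)) ∧
      LinearMap.det (reX e y) = LinearMap.det y := by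
  -- the two intertwining isometries
  have hφ : ∀ u v, hermI (Fin n) F q (reidx e u) (reidx e v) = hermI ι F q u v :=
    fun u v => hermI_reidx q e u v
  have hφs : ∀ u' v', hermI ι F q ((reidx e).symm u') ((reidx e).symm v') =
      hermI (Fin n) F q u' v' := by
    intro u' v'
    rw [← hφ, LinearEquiv.apply_symm_apply, LinearEquiv.apply_symm_apply]
  have hint : ∀ u, reidx e (y u) = reX e y (reidx e u) := fun u => (reX_apply e y u).symm
  have hints : ∀ u', (reidx e).symm (reX e y u') = y ((reidx e).symm u') := by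
    intro u'
    rw [s5953n9_reX_apply', LinearEquiv.symm_apply_apply]
  have hmapmap : ∀ W' : Submodule F (Fin n → F),
      (W'.map ((reidx (F := F) e).symm.toLinearMap)).map
        ((reidx (F := F) e).toLinearMap) = W' := by
    intro W'
    rw [← Submodule.map_comp]
    have : ((reidx (F := F) e).toLinearMap) ∘ₗ
        ((reidx (F := F) e).symm.toLinearMap) = LinearMap.id := by
      ext u' : 1
      simp
    rw [this, Submodule.map_id]
  have hmapmap' : ∀ W : Submodule F (ι → F),
      (W.map ((reidx (F := F) e).toLinearMap)).map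
        ((reidx (F := F) e).symm.toLinearMap) = W := by
    intro W
    rw [← Submodule.map_comp]
    have : ((reidx (F := F) e).symm.toLinearMap) ∘ₗ
        ((reidx (F := F) e).toLinearMap) = LinearMap.id := by
      ext u : 1
      simp
    rw [this, Submodule.map_id]
  refine ⟨⟨?_, ?_, hy.ne⟩, ?_, ?_, ?_, ?_, ?_⟩
  · intro u' v'
    rw [s5953n9_reX_apply', s5953n9_reX_apply', hφ, hy.pres, hφs]
  · rw [s5953n9_reX_pow, hy.pow, s5953n9_reX_smul_one]
  · -- fixed spaces
    have h1 := (s5953n9_push (q := q) (reidx e) hφ y (reX e y) hint (fixS y)).2.2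
    have h2 := (s5953n9_push (q := q) (reidx e).symm hφs (reX e y) y hints (fixS (reX e y))).2.2
    have le1 := h1.2 le_rfl
    have le2 := h2.2 le_rfl
    have d1 := Submodule.finrank_mono le1
    have d2 := Submodule.finrank_mono le2
    rw [h1.1] at d1
    rw [h2.1] at d2
    omega
  · intro c
    constructor
    · intro h
      apply s5953n9_reX_inj e
      rw [h, s5953n9_reX_smul_one]
    · intro h
      rw [h, s5953n9_reX_smul_one]
  · intro m
    constructor
    · rintro ⟨W', hW', hti, hd⟩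
      obtain ⟨p1, p2, p3, _⟩ := s5953n9_push (q := q) (reidx e).symm hφs (reX e y) y hints W'
      exact ⟨_, p1 hW', p2 hti, by rw [p3, hd]⟩
    · rintro ⟨W, hW, hti, hd⟩
      obtain ⟨p1, p2, p3, _⟩ := s5953n9_push (q := q) (reidx e) hφ y (reX e y) hint W
      exact ⟨_, p1 hW, p2 hti, by rw [p3, hd]⟩
  · intro hall W' hW' hti
    obtain ⟨p1, p2, _, _⟩ := s5953n9_push (q := q) (reidx e).symm hφs (reX e y) y hints W'
    have hle := hall _ (p1 hW') (p2 hti)
    have := (s5953n9_push (q := q) (reidx e) hφ y (reX e y) hint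
      (W'.map ((reidx (F := F) e).symm.toLinearMap))).2.2.2 hle
    rwa [hmapmap] at this
  · show LinearMap.det ((reidx e).conj y) = LinearMap.det y
    rw [LinearEquiv.conj_apply]
    exact LinearMap.det_conj y (reidx e)

end Cfsg.Agent.Lib.helper3.S5953
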