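import Mathlib
import Cfsg.Agent.Lib.helper3.S5953.Defs2
import Cfsg.Agent.Lib.Helper16.S5953N9
import Cfsg.Agent.Lib.Helper26.S5953N45
import Cfsg.Agent.Lib.helper7.S5953N6
import Cfsg.Agent.Lib.Helper9.S5953N7

/-!
# Project S5953, row N12 (DISTEL2) (helper16): `r ∣ q + 1`, the diagonal isometry
`diag(ζ, ζ⁻¹, …, ζ^k, ζ^(-k), 1, …, 1)`; on N4 core, N5, N6, N7, N9.
-/

set_option autoImplicit false

namespace Cfsg.Agent.Lib.helper3.S5953

open Module

/-- the exponents `1, r-1, 2, r-2, …` -/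
def s5953n12_e (r a : ℕ) : ℕ := if a % 2 = 0 then a / 2 + 1 else r - (a / 2 + 1)

theorem s5953n12_e_bounds (r k a : ℕ) (h2k : 2 * k + 1 ≤ r) (ha : a < 2 * k) :
    0 < s5953n12_e r a ∧ s5953n12_e r a < r := by
  unfold s5953n12_e
  split_ifs with h <;> constructor <;> omega

theorem s5953n12_e_inj (r k a b : ℕ) (h2k : 2 * k + 1 ≤ r) (ha : a < 2 * k) (hb : b < 2 * k)
    (h : s5953n12_e r a = s5953n12_e r b) : a = b := by
  unfold s5953n12_e at h
  split_ifs at h with h1 h2 h2 <;> omega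

theorem s5953n12_prod {F : Type*} [Field F] (ζ : F) (r : ℕ) (hζ : ζ ^ r = 1) (k : ℕ)
    (h2k : 2 * k + 1 ≤ r) : ∏ a ∈ Finset.range (2 * k), ζ ^ s5953n12_e r a = 1 := by
  induction k with
  | zero => simp
  | succ k ih =>
    have e1 : 2 * (k + 1) = 2 * k + 1 + 1 := by ring
    rw [e1, Finset.prod_range_succ, Finset.prod_range_succ, ih (by omega), one_mul, ← pow_add]
    have h1 : s5953n12_e r (2 * k) = k + 1 := by
      unfold s5953n12_e
      rw [if_pos (by omega)]
      omega
    have h2 : s5953n12_e r (2 * k + 1) = r - (k + 1) := by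
      unfold s5953n12_e
      rw [if_neg (by omega)]
      have : (2 * k + 1) / 2 = k := by omega
      rw [this]
    rw [h1, h2]
    have : k + 1 + (r - (k + 1)) = r := by omega
    rw [this, hζ]

/-- a scalar operator of norm one and order dividing `r` on the one-dimensional standard space -/
theorem s5953n12_block {F : Type*} [Field F] {q r : ℕ} (s : F) (hs1 : s ^ (q + 1) = 1)
    (hsr : s ^ r = 1) (hs : s ≠ 1) :
    HCtx q r 1 (s • (1 : Module.End F (Fin 1 → F))) ∧
      fixS (s • (1 : Module.End F (Fin 1 → F))) = ⊥ ∧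
      ∀ U : Submodule F (Fin 1 → F), HInv (s • (1 : Module.End F (Fin 1 → F))) U → U = ⊥ ∨ U = ⊤ := by
  refine ⟨⟨?_, ?_, one_ne_zero⟩, ?_, ?_⟩
  · intro u v
    show hermI (Fin 1) F q (s • u) (s • v) = hermI (Fin 1) F q u v
    rw [hermI_smul_left, hermI_smul_right, ← mul_assoc, ← pow_succ', hs1, one_mul]
  · rw [smul_pow, one_pow, hsr]
  · rw [eq_bot_iff]
    intro v hv
    rw [Cfsg.Agent.Lib.Helper13.S5955.s5955n9_mem_fixS] at hv
    have hv' : s • v = v := hv
    have h1 : (s - 1) • v = 0 := by rw [sub_smul, one_smul, hv', sub_self]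
    rcases smul_eq_zero.1 h1 with h | h
    · exact absurd (sub_eq_zero.1 h) hs
    · rw [h]; exact Submodule.zero_mem _
  · intro U _
    have hfr : finrank F (Fin 1 → F) = 1 := Module.finrank_fin_fun F
    have hle : finrank F U ≤ 1 := by
      have hle' := Submodule.finrank_le U
      rw [hfr] at hle'
      exact hle'
    rcases Nat.eq_zero_or_pos (finrank F U) with h0 | h1
    · left
      exact Submodule.finrank_eq_zero.1 h0
    · right
      apply Submodule.eq_top_of_finrank_eq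
      omega

theorem distel_two {F : Type*} [Field F] [Fintype F] {p : ℕ} [Fact p.Prime] [CharP F p] {q : ℕ}
    (hF : Fintype.card F = q ^ 2) (r : ℕ) [Fact r.Prime] (hrp : r ≠ p) (hr2 : r ≠ 2)
    (hrq : r ∣ q + 1) (n : ℕ) (hn : 2 ≤ n) :
    ∃ y : Module.End F (Fin n → F), HCtx q r 1 y ∧ LinearMap.det y = 1 ∧ (∀ z : F, y ≠ z • 1) ∧
      finrank F (fixS y) + 2 * min ((r - 1) / 2) (n / 2) = n ∧
      ∀ W : Submodule F (Fin n → F), HInv y W → HTI q W → W ≤ fixS y := by
  classical
  have hr : r.Prime := Fact.out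
  have hr3 : 3 ≤ r := by
    have := hr.two_le
    omega
  have hq0 : q ≠ 0 := by
    rintro rfl
    rw [zero_pow (by norm_num)] at hF
    exact Fintype.card_ne_zero hF
  -- the root of unity
  have hcard : Fintype.card Fˣ = q ^ 2 - 1 := by rw [Fintype.card_units, hF]
  have hdvd : r ∣ Fintype.card Fˣ := by
    rw [hcard]
    have : q ^ 2 - 1 = (q - 1) * (q + 1) := by
      obtain ⟨m, rfl⟩ : ∃ m, q = m + 1 := ⟨q - 1, by omega⟩
      simp only [Nat.add_sub_cancel]
      ring_nf
      omega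
    rw [this]
    exact dvd_mul_of_dvd_right hrq _
  obtain ⟨g, hg⟩ := exists_prime_orderOf_dvd_card r hdvd
  set ζ : F := (g : F) with hζdef
  have hζ : IsPrimitiveRoot ζ r := by
    have h1 : orderOf ζ = r := by rw [hζdef, orderOf_units, hg]
    rw [← h1]
    exact IsPrimitiveRoot.orderOf _
  have hζr : ζ ^ r = 1 := hζ.pow_eq_one
  have hζq : ζ ^ (q + 1) = 1 := by
    obtain ⟨t, ht⟩ := hrq
    rw [ht, pow_mul, hζr, one_pow]
  -- sizes
  set k : ℕ := min ((r - 1) / 2) (n / 2) with hk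
  have hk1 : 1 ≤ k := by
    rw [hk]
    apply le_min <;> omega
  have h2k : 2 * k + 1 ≤ r := by
    have : k ≤ (r - 1) / 2 := min_le_left _ _
    omega
  have h2kn : 2 * k ≤ n := by
    have : k ≤ n / 2 := min_le_right _ _
    omega
  -- the blocks
  set s : Fin (2 * k) → F := fun a => ζ ^ s5953n12_e r a with hs
  have hsb : ∀ a : Fin (2 * k), 0 < s5953n12_e r a ∧ s5953n12_e r a < r :=
    fun a => s5953n12_e_bounds r k a h2k a.2
  have hs1 : ∀ a, s a ≠ 1 := fun a => hζ.pow_ne_one_of_pos_of_lt (hsb a).1.ne' (hsb a).2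
  have hsq : ∀ a, s a ^ (q + 1) = 1 := by
    intro a
    show (ζ ^ _) ^ (q + 1) = 1
    rw [← pow_mul, mul_comm, pow_mul, hζq, one_pow]
  have hsr : ∀ a, s a ^ r = 1 := by
    intro a
    show (ζ ^ _) ^ r = 1
    rw [← pow_mul, mul_comm, pow_mul, hζr, one_pow]
  have hsinj : ∀ a b : Fin (2 * k), s a = s b → a = b := by
    intro a b hab
    have := hζ.pow_inj (hsb a).2 (hsb b).2 hab
    exact Fin.ext (s5953n12_e_inj r k a b h2k a.2 b.2 this)
  set y : Fin (2 * k) → Module.End F (Fin 1 → F) := fun a => s a • 1 with hy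
  have hblock := fun a => s5953n12_block (q := q) (r := r) (s a) (hsq a) (hsr a) (hs1 a)
  have hyctx : ∀ a, HCtx q r 1 (y a) := fun a => (hblock a).1
  have hyfix : ∀ a, fixS (y a) = ⊥ := fun a => (hblock a).2.1
  have hyirr : ∀ a, ∀ U : Submodule F (Fin 1 → F), HInv (y a) U → U = ⊥ ∨ U = ⊤ :=
    fun a => (hblock a).2.2
  have hydist : ∀ a b, a ≠ b →
      ¬ ∃ φ : (Fin 1 → F) ≃ₗ[F] (Fin 1 → F), ∀ v, φ (y a v) = y b (φ v) := by
    rintro a b hab ⟨φ, hφ⟩
    apply hab
    apply hsinj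
    have h1 := hφ (fun _ => 1)
    have h2 : y a (fun _ => (1 : F)) = s a • (fun _ => (1 : F)) := rfl
    have h3 : y b (φ (fun _ => (1 : F))) = s b • φ (fun _ => (1 : F)) := rfl
    rw [h2, h3, map_smul] at h1
    have hne : φ (fun _ => (1 : F)) ≠ 0 := by
      intro h0
      have : (fun _ : Fin 1 => (1 : F)) = 0 := φ.injective (by rw [h0, map_zero])
      have := congrFun this 0
      simp at this
    have h4 : (s a - s b) • φ (fun _ => (1 : F)) = 0 := by rw [sub_smul, h1, sub_self]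
    rcases smul_eq_zero.1 h4 with h | h
    · exact sub_eq_zero.1 h
    · exact absurd h hne
  set w : ℕ := n - 2 * k with hw
  set Y : Module.End F (BIdx (2 * k) (Fin 1) (Fin w) → F) := bsumX (Fin w) y with hY
  have hYctx : HCtx q r 1 Y := s5953n4_core (Or.inl rfl) one_ne_zero y hyctx
  have hYfix : finrank F (fixS Y) = w := by
    rw [hY, (bsum_fix (ω := Fin w) y hyfix).1, Fintype.card_fin]
  have hYdet : LinearMap.det Y = 1 := by
    rw [hY, bsum_det (ω := Fin w) y]
    have h1 : ∀ a, LinearMap.det (y a) = s a := by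
      intro a
      show LinearMap.det (s a • (1 : Module.End F (Fin 1 → F))) = s a
      rw [LinearMap.det_smul, Module.finrank_fin_fun, pow_one, map_one, mul_one]
    simp only [h1]
    show ∏ a : Fin (2 * k), ζ ^ s5953n12_e r (a : ℕ) = 1
    rw [Fin.prod_univ_eq_prod_range (fun a => ζ ^ s5953n12_e r a) (2 * k)]
    exact s5953n12_prod ζ r hζr k h2k
  have hYdist : ∀ W : Submodule F (BIdx (2 * k) (Fin 1) (Fin w) → F), HInv Y W → HTI q W →
      W ≤ fixS Y := fun W hW hti =>
    bsum_dist (ω := Fin w) hq0 hr.pos y hyctx hyfix hyirr hydist W hW hti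
  have hYns : ∀ c : F, Y ≠ c • 1 := by
    intro c hc
    have hval : ∀ a : Fin (2 * k), s a = c := by
      intro a
      have h1 := congrFun (congrArg (fun f : Module.End F (BIdx (2 * k) (Fin 1) (Fin w) → F) =>
        f (fun _ => 1)) hc) (Sum.inl (a, 0))
      have h2 : Y (fun _ => (1 : F)) (Sum.inl (a, 0)) = s a := by
        rw [hY, bsumX_inl]
        show (s a • (1 : Module.End F (Fin 1 → F))) (fun _ => (1 : F)) 0 = s a
        simp
      have h3 : (c • (1 : Module.End F (BIdx (2 * k) (Fin 1) (Fin w) → F))) (fun _ => (1 : F))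
          (Sum.inl (a, 0)) = c := by simp
      rw [← h2, ← h3]
      exact h1
    have h01 : (⟨0, by omega⟩ : Fin (2 * k)) = ⟨1, by omega⟩ :=
      hsinj _ _ (by rw [hval, hval])
    have := congrArg Fin.val h01
    simp at this
  -- reindex
  have hcardI : Fintype.card (BIdx (2 * k) (Fin 1) (Fin w)) = n := by
    simp only [BIdx, Fintype.card_sum, Fintype.card_prod, Fintype.card_fin]
    omega
  set e := Fintype.equivFinOfCardEq hcardI with he
  obtain ⟨t1, t2, t3, _, t5, t6⟩ := transport (q := q) (r := r) e Y hYctx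
  refine ⟨reX e Y, t1, by rw [t6, hYdet], ?_, ?_, t5 hYdist⟩
  · intro c hc
    exact hYns c ((t3 c).1 hc)
  · rw [t2, hYfix]
    omega

end Cfsg.Agent.Lib.helper3.S5953
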