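import Mathlib
import Cfsg.Agent.Lib.helper3.S5953.Defs2
import Cfsg.Agent.Lib.Helper21.S5955N9

/-!
# Project S5953, row N8 (POWIRR, helper16): powers prime to `r` of an irreducible fixed-point-free isometry of order `r`.
-/

set_option autoImplicit false

namespace Cfsg.Agent.Lib.helper3.S5953

open Module

/-- N8 [M] POWIRR: powers prime to `r` of an irreducible fixed-point-free isometry of order `r`
are again such (transplant Helper21 `S5955N9`). -/
theorem pow_irr {F : Type*} [Field F] {q : ℕ} {ι : Type*} [Fintype ι] {r : ℕ} [Fact r.Prime]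
    {y : Module.End F (ι → F)} (hy : HCtx q r 1 y) (hfix : fixS y = ⊥)
    (hirr : ∀ U : Submodule F (ι → F), HInv y U → U = ⊥ ∨ U = ⊤) (l : ℕ) (hl : ¬ r ∣ l) :
    HCtx q r 1 (y ^ l) ∧ fixS (y ^ l) = ⊥ ∧
      ∀ U : Submodule F (ι → F), HInv (y ^ l) U → U = ⊥ ∨ U = ⊤ := by
  have hyr : y ^ r = 1 := by rw [hy.pow, one_smul]
  obtain ⟨l', hl'⟩ := Cfsg.Agent.Lib.Helper13.S5955.s5955n9_root y hyr l hl
  refine ⟨⟨?_, ?_, one_ne_zero⟩, ?_, ?_⟩
  · have hk : ∀ k : ℕ, ∀ u v, hermI ι F q ((y ^ k) u) ((y ^ k) v) = hermI ι F q u v := by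
      intro k
      induction k with
      | zero => intro u v; simp
      | succ k ih =>
        intro u v
        rw [pow_succ, Module.End.mul_apply, Module.End.mul_apply, ih, hy.pres]
    exact hk l
  · rw [← pow_mul, mul_comm, pow_mul, hyr, one_pow, one_smul]
  · rw [eq_bot_iff]
    intro v hv
    rw [Cfsg.Agent.Lib.Helper13.S5955.s5955n9_mem_fixS] at hv
    have h1 : y v = v := by
      have := Cfsg.Agent.Lib.Helper13.S5955.s5955n9_pow_fix (y ^ l) v hv l'
      rwa [hl'] at this
    rw [← hfix, Cfsg.Agent.Lib.Helper13.S5955.s5955n9_mem_fixS]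
    exact h1
  · intro U hU
    apply hirr U
    intro w hw
    have := Cfsg.Agent.Lib.Helper24.el_pow_mem hU l' hw
    rwa [hl'] at this

end Cfsg.Agent.Lib.helper3.S5953
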