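import Mathlib
import Cfsg.Agent.Lib.helper3.S5953.Defs
import Cfsg.Agent.Lib.Helper16.S5953X134

/-!
# Project S5953, row R6 (TWOSUFF) core (helper16): sufficiency for `r = 2` in matrix form,
with the statements of R1–R5 as hypotheses.
-/

set_option autoImplicit false

namespace Cfsg.Agent.Lib.helper3.S5953

open Module

theorem s5953r6_core {F : Type*} [Field F] [Fintype F] {q : ℕ}
    (h2 : (2 : F) ≠ 0) (n m : ℕ) (hn : 0 < n) (hmn : 2 * m ≤ n)
    (hcond : 2 * m < n ∨ padicValNat 2 (q + 1) ≤ padicValNat 2 n)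
    (hR1 : ∀ z : F, z ^ (q + 1) = 1 →
      (∃ w : F, w ^ (q + 1) = 1 ∧ w ^ 2 = z) ∨ (∃ μ : F, μ ^ (q + 1) = -1 ∧ μ ^ 2 = z))
    (hR2 : ∀ {y : Module.End F (Fin n → F)}, HCtx q 2 1 y → ∀ m : ℕ,
      (2 * m < n ∨ (2 * m = n ∧ Even (finrank F (LinearMap.ker (y + 1))))) → HTId q y m)
    (hR3 : ∀ {z : F} {x : Module.End F (Fin n → F)}, HCtx q 2 z x → ∀ μ : F,
      μ ^ (q + 1) = -1 → μ ^ 2 = z → ∀ m : ℕ, 2 * m ≤ n → HTId q x m)
    (hR4 : ∀ y : Module.End F (Fin n → F), y ^ 2 = 1 →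
      LinearMap.det y = (-1) ^ (finrank F (LinearMap.ker (y + 1))))
    (hR5 : ∀ w : F, w ^ (q + 1) = 1 → w ^ n = -1 → padicValNat 2 n < padicValNat 2 (q + 1))
    (x : Matrix.SpecialLinearGroup (Fin n) F) (hx : x ∈ Cfsg.SU n F q) (z : F)
    (hz : ((x ^ 2 : Matrix.SpecialLinearGroup (Fin n) F) : Matrix (Fin n) (Fin n) F) =
      z • (1 : Matrix (Fin n) (Fin n) F)) :
    ∃ W : Submodule F (Fin n → F), Module.finrank F ↥W = m ∧
      (∀ u ∈ W, ∀ v ∈ W, Cfsg.hermForm n F q u v = 0) ∧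
      W.map (Matrix.toLin' (x : Matrix (Fin n) (Fin n) F)) ≤ W := by
  classical
  haveI : Nonempty (Fin n) := ⟨⟨0, hn⟩⟩
  obtain ⟨hctx, hinv⟩ := std_ctx hn x hx z hz
  set X : Module.End F (Fin n → F) := Matrix.toLin' (x : Matrix (Fin n) (Fin n) F) with hX
  have hz1 : z ^ (q + 1) = 1 := z_norm hctx
  -- from `HTId` of something with the same invariant subspaces to the conclusion
  have fin : ∀ y : Module.End F (Fin n → F), (∀ W, HInv y W ↔ HInv X W) → HTId q y m →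
      ∃ W : Submodule F (Fin n → F), Module.finrank F ↥W = m ∧
        (∀ u ∈ W, ∀ v ∈ W, Cfsg.hermForm n F q u v = 0) ∧ W.map X ≤ W := by
    rintro y hy ⟨W, hW, hti, hd⟩
    exact ⟨W, hd, hti, (hinv W).1 ((hy W).1 hW)⟩
  rcases hR1 z hz1 with ⟨w, hw, hwz⟩ | ⟨μ, hμ, hμz⟩
  · obtain ⟨hy, hyinv, _⟩ := scale_ctx hctx w hw hwz
    apply fin (w⁻¹ • X) hyinv
    apply hR2 hy m
    rcases hcond with hlt | hval
    · exact Or.inl hlt
    · by_cases hlt : 2 * m < n
      · exact Or.inl hlt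
      · right
        refine ⟨by omega, ?_⟩
        by_contra hodd
        rw [Nat.not_even_iff_odd] at hodd
        have hy2 : (w⁻¹ • X) ^ 2 = 1 := by rw [hy.pow, one_smul]
        have hdet := hR4 (w⁻¹ • X) hy2
        rw [hodd.neg_one_pow, LinearMap.det_smul, Module.finrank_fin_fun] at hdet
        have hdX : LinearMap.det X = 1 := by
          rw [hX, LinearMap.det_toLin']
          exact x.det_coe
        rw [hdX, mul_one, inv_pow] at hdet
        have hwn : w ^ n = -1 := by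
          have h1 : (w ^ n)⁻¹⁻¹ = (-1 : F)⁻¹ := by rw [hdet]
          rw [inv_inv] at h1
          rw [h1, inv_neg, inv_one]
        have := hR5 w hw hwn
        omega
  · exact fin X (fun W => Iff.rfl) (hR3 hctx μ hμ hμz m hmn)

end Cfsg.Agent.Lib.helper3.S5953
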