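import Mathlib
import Cfsg.Agent.Lib.Helper16.S5953R6core
import Cfsg.Agent.Lib.Helper16.S5953R3core
import Cfsg.Agent.Lib.helper23.S5953NS1
import Cfsg.Agent.Lib.helper23.S5953X2
import Cfsg.Agent.Lib.helper17.S5953R2
import Cfsg.Agent.Lib.helper7.S5953R4

/-!
# Project S5953, row R6 (TWOSUFF) (helper16): sufficiency for `r = 2`; the assembly of R1 (two_dich),
R2 (invol_suff), R3 (my core `s5953r3h16_core`), R4 (invol_det), R5 (two_arith) through `s5953r6_core`.
-/

set_option autoImplicit false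

namespace Cfsg.Agent.Lib.helper3.S5953

open Module

theorem two_suff {F : Type*} [Field F] [Fintype F] {q : ℕ} (hF : Fintype.card F = q ^ 2)
    (h2 : (2 : F) ≠ 0) (n m : ℕ) (hn : 0 < n) (hmn : 2 * m ≤ n)
    (hcond : 2 * m < n ∨ padicValNat 2 (q + 1) ≤ padicValNat 2 n)
    (x : Matrix.SpecialLinearGroup (Fin n) F) (hx : x ∈ Cfsg.SU n F q) (z : F)
    (hz : ((x ^ 2 : Matrix.SpecialLinearGroup (Fin n) F) : Matrix (Fin n) (Fin n) F) =
      z • (1 : Matrix (Fin n) (Fin n) F)) :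
    ∃ W : Submodule F (Fin n → F), Module.finrank F ↥W = m ∧
      (∀ u ∈ W, ∀ v ∈ W, Cfsg.hermForm n F q u v = 0) ∧
      W.map (Matrix.toLin' (x : Matrix (Fin n) (Fin n) F)) ≤ W :=
  s5953r6_core h2 n m hn hmn hcond (fun z hz => two_dich hF h2 z hz)
    (fun h m hm => invol_suff hF h2 h m hm)
    (fun h μ hμ hμz m hm => s5953r3h16_core hF h2 h μ hμ hμz m hm)
    (fun y hy => invol_det h2 y hy) (fun w hw hwn => two_arith h2 q n hn w hw hwn) x hx z hz

end Cfsg.Agent.Lib.helper3.S5953
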