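import Mathlib
import Cfsg.Agent.Lib.helper3.S5953.Defs
import Cfsg.Agent.Lib.Lead.Unitary
import Cfsg.Agent.Lib.Helper16.S5953X134

/-!
# Project S5953, rows X5 (DETN1), X6 (REALIZE), X7 (REALIZE1) (helper16)
-/

set_option autoImplicit false

namespace Cfsg.Agent.Lib.helper3.S5953

open Module

/-- X5 [M] DETN1: the determinant of an isometry has norm one (`Lead/Unitary.preserves_iff`). -/
theorem det_n1 {F : Type*} [Field F] [Fintype F] {q n : ℕ} (hF : Fintype.card F = q ^ 2)
    {y : Module.End F (Fin n → F)}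
    (h : ∀ u v, hermI (Fin n) F q (y u) (y v) = hermI (Fin n) F q u v) :
    (LinearMap.det y) ^ (q + 1) = 1 := by
  classical
  obtain ⟨σ, hσ⟩ := Cfsg.Agent.Lib.Lead.exists_frob hF
  set M : Matrix (Fin n) (Fin n) F := LinearMap.toMatrix' y with hM
  have hy : Matrix.toLin' M = y := by rw [hM, Matrix.toLin'_toMatrix']
  have hpres : ∀ u v, Cfsg.hermForm n F q (M.mulVec u) (M.mulVec v) = Cfsg.hermForm n F q u v := by
    intro u v
    have := h u v
    rw [← hy, Matrix.toLin'_apply, Matrix.toLin'_apply] at this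
    exact this
  have h1 := (Cfsg.Agent.Lib.Lead.preserves_iff σ hσ M).1 hpres
  have h2 := congrArg Matrix.det h1
  rw [Matrix.det_mul, Matrix.det_transpose, Matrix.det_one] at h2
  have h3 : (M.map σ).det = σ M.det := by
    rw [RingHom.map_det]
    rfl
  rw [h3, hσ] at h2
  have hdet : LinearMap.det y = M.det := by rw [← hy, LinearMap.det_toLin']
  rw [hdet, pow_succ, mul_comm]
  exact h2

/-- X6 [S-M] REALIZE: an isometry of determinant one is `toLin'` of an element of `SU n F q`. -/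
theorem realize {F : Type*} [Field F] {q n r : ℕ} {z : F} (y : Module.End F (Fin n → F))
    (h : HCtx q r z y) (hdet : LinearMap.det y = 1) :
    ∃ x : Matrix.SpecialLinearGroup (Fin n) F, x ∈ Cfsg.SU n F q ∧
      Matrix.toLin' (x : Matrix (Fin n) (Fin n) F) = y ∧
      ((x ^ r : Matrix.SpecialLinearGroup (Fin n) F) : Matrix (Fin n) (Fin n) F) =
        z • (1 : Matrix (Fin n) (Fin n) F) := by
  classical
  set M : Matrix (Fin n) (Fin n) F := LinearMap.toMatrix' y with hM
  have hy : Matrix.toLin' M = y := by rw [hM, Matrix.toLin'_toMatrix']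
  have hMdet : M.det = 1 := by rw [← LinearMap.det_toLin', hy, hdet]
  obtain ⟨x, hx⟩ : ∃ x : Matrix.SpecialLinearGroup (Fin n) F,
      (x : Matrix (Fin n) (Fin n) F) = M := ⟨⟨M, hMdet⟩, rfl⟩
  refine ⟨x, ?_, by rw [hx, hy], ?_⟩
  · apply mem_su_of_pres
    intro u v
    rw [hx, hy]
    exact h.pres u v
  · rw [Matrix.SpecialLinearGroup.coe_pow, hx]
    have h1 : Matrix.toLin' (M ^ r) = Matrix.toLin' (z • (1 : Matrix (Fin n) (Fin n) F)) := by
      rw [Matrix.toLin'_pow, hy, h.pow]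
      apply LinearMap.ext
      intro u
      rw [Matrix.toLin'_apply, Matrix.smul_mulVec, Matrix.one_mulVec]
      rfl
    exact Matrix.toLin'.injective h1

/-- X7 [M] REALIZE1: `gcd(r, q + 1) = 1`: an isometry `y ≠ 1` with `y ^ r = 1` is `toLin'` of a
non-scalar element of `SU n F q` (X5 + X6). -/
theorem realize_one {F : Type*} [Field F] [Fintype F] {q n : ℕ} (hF : Fintype.card F = q ^ 2)
    {r : ℕ} [Fact r.Prime] (hcop : ¬ r ∣ q + 1) (y : Module.End F (Fin n → F))
    (h : HCtx q r 1 y) (hy : y ≠ 1) :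
    ∃ x : Matrix.SpecialLinearGroup (Fin n) F, x ∈ Cfsg.SU n F q ∧
      Matrix.toLin' (x : Matrix (Fin n) (Fin n) F) = y ∧
      ((x ^ r : Matrix.SpecialLinearGroup (Fin n) F) : Matrix (Fin n) (Fin n) F) =
        (1 : F) • (1 : Matrix (Fin n) (Fin n) F) ∧
      ∀ z : F, (x : Matrix (Fin n) (Fin n) F) ≠ z • (1 : Matrix (Fin n) (Fin n) F) := by
  classical
  have hr : r.Prime := Fact.out
  have hcop' : Nat.Coprime r (q + 1) := (Nat.Prime.coprime_iff_not_dvd hr).2 hcop
  have hyr : y ^ r = 1 := by rw [h.pow, one_smul]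
  have hd1 : (LinearMap.det y) ^ r = 1 := by rw [← map_pow, hyr, map_one]
  have hd2 := det_n1 hF h.pres
  have hdet : LinearMap.det y = 1 := by
    have := pow_gcd_eq_one.2 ⟨hd1, hd2⟩
    rw [Nat.Coprime] at hcop'
    rwa [hcop', pow_one] at this
  obtain ⟨x, hxSU, hxy, hxr⟩ := realize y h hdet
  refine ⟨x, hxSU, hxy, hxr, ?_⟩
  intro z hz
  apply hy
  -- `y = z • 1`
  have hyz : y = z • (1 : Module.End F (Fin n → F)) := by
    rw [← hxy, hz]
    apply LinearMap.ext
    intro u
    rw [Matrix.toLin'_apply, Matrix.smul_mulVec, Matrix.one_mulVec]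
    rfl
  rcases Nat.eq_zero_or_pos n with hn | hn
  · subst hn
    apply LinearMap.ext
    intro u
    exact Subsingleton.elim _ _
  haveI : Nonempty (Fin n) := ⟨⟨0, hn⟩⟩
  have hz0 : z ≠ 0 := by
    rintro rfl
    rw [zero_smul] at hyz
    rw [hyz, zero_pow hr.ne_zero] at hyr
    have := congrFun (congrArg (fun f : Module.End F (Fin n → F) => f (Pi.single ⟨0, hn⟩ 1)) hyr)
      ⟨0, hn⟩
    simp at this
  have hctx : HCtx q 1 z y := ⟨h.pres, by rw [pow_one, hyz], hz0⟩
  have hz1 : z ^ (q + 1) = 1 := z_norm hctx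
  have hz2 : z ^ r = 1 := by
    rw [hyz, smul_pow, one_pow] at hyr
    have := congrFun (congrArg (fun f : Module.End F (Fin n → F) => f (Pi.single ⟨0, hn⟩ 1)) hyr)
      ⟨0, hn⟩
    simpa using this
  have hz : z = 1 := by
    have := pow_gcd_eq_one.2 ⟨hz2, hz1⟩
    rw [Nat.Coprime] at hcop'
    rwa [hcop', pow_one] at this
  rw [hyz, hz, one_smul]

end Cfsg.Agent.Lib.helper3.S5953
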