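import Mathlib
import Cfsg.Agent.Lib.Helper13.S5955.Defs2
import Cfsg.Agent.Lib.helper3.C3OCWQ
import Cfsg.Agent.Lib.Lead.S5955T3
import Cfsg.Agent.Lib.Helper16.S5955R2

/-!
# S5955 row R3, second copy (helper16): an isometry with `x * x = -1` over a finite field, `m` even.

If `-1` is a square in `F` this is row R2.  Otherwise `x` has no eigenvector; Chevalley-Warning on the
quadric `B(v, x v)` gives a totally isotropic invariant plane `U = span {v, x v}`, which is peeled
off (row T3 at `r = 4`), and one goes on by induction.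
-/

set_option autoImplicit false

namespace Cfsg.Agent.Lib.Helper13.S5955

open Polynomial Module

/-- the quadric `B(v, x v)` has a non-trivial zero on a subspace of dimension `> 2` -/
theorem s5955r3h16_cw {F : Type*} [Field F] [Fintype F] {V : Type*} [AddCommGroup V]
    [Module F V] [FiniteDimensional F V] (B : LinearMap.BilinForm F V) (x : Module.End F V)
    (N : Submodule F V) (hN : 2 < finrank F N) : ∃ v ∈ N, v ≠ 0 ∧ B v (x v) = 0 := by
  let β : Unit → N →ₗ[F] N →ₗ[F] F := fun _ => (B.compl₂ x).compl₁₂ N.subtype N.subtype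
  obtain ⟨y, hy0, hy⟩ := Cfsg.Agent.Lib.Helper10.C3O.cw_quad β (fun _ => 0)
    (by rw [Fintype.card_unit]; omega)
  refine ⟨y.1, y.2, fun h => hy0 (Subtype.ext h), ?_⟩
  have h1 := hy ()
  simpa [β] using h1

/-- the induction: totally isotropic invariant subspaces of every even dimension `2 k` with
`4 k ≤ dim N` in an invariant non-degenerate `N`, when `-1` is not a square -/
theorem s5955r3h16_ind {F : Type*} [Field F] [Fintype F] {V : Type*} [AddCommGroup V]
    [Module F V] [FiniteDimensional F V] (h2 : (2 : F) ≠ 0) {B : LinearMap.BilinForm F V}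
    {x : Module.End F V} (h : SCtx 4 B x) (hx : x * x = -1) (hns : ∀ c : F, c * c ≠ -1) :
    ∀ (k : ℕ) (N : Submodule F V), SInv x N → SND B N → 4 * k ≤ finrank F N →
      ∃ W : Submodule F V, W ≤ N ∧ SInv x W ∧ STI B W ∧ finrank F W = 2 * k := by
  have hxx : ∀ v, x (x v) = -v := fun v => by
    have := LinearMap.congr_fun hx v
    simpa using this
  have h4F : ((4 : ℕ) : F) ≠ 0 := by
    have : ((4 : ℕ) : F) = 2 * 2 := by norm_num
    rw [this]
    exact mul_ne_zero h2 h2
  intro k
  induction k with
  | zero =>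
    intro N _ _ _
    refine ⟨⊥, bot_le, ?_, ?_, by simp⟩
    · intro w hw
      rw [Submodule.mem_bot] at hw
      rw [hw, map_zero]
      exact Submodule.zero_mem _
    · intro u hu v _
      rw [Submodule.mem_bot] at hu
      rw [hu, map_zero, LinearMap.zero_apply]
  | succ k ih =>
    intro N hN hNnd hk
    obtain ⟨v, hvN, hv0, hv⟩ := s5955r3h16_cw B x N (by omega)
    set U : Submodule F V := Submodule.span F {v, x v} with hUdef
    have hvU : v ∈ U := Submodule.subset_span (by simp)
    have hxvU : x v ∈ U := Submodule.subset_span (by simp)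
    have hUN : U ≤ N := by
      rw [hUdef, Submodule.span_le]
      intro w hw
      rcases hw with rfl | hw
      · exact hvN
      · rw [Set.mem_singleton_iff] at hw
        rw [hw]
        exact hN v hvN
    have hUinv : SInv x U := by
      intro w hw
      rw [hUdef, Submodule.mem_span_pair] at hw
      obtain ⟨a, b, rfl⟩ := hw
      rw [map_add, map_smul, map_smul, hxx]
      exact U.add_mem (U.smul_mem a hxvU) (U.smul_mem b (U.neg_mem hvU))
    have hUti : STI B U := by
      intro u hu w hw
      rw [hUdef, Submodule.mem_span_pair] at hu hw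
      obtain ⟨a, b, rfl⟩ := hu
      obtain ⟨a', b', rfl⟩ := hw
      have h1 : B v v = 0 := h.alt v
      have h3 : B (x v) (x v) = 0 := h.alt _
      have h4 : B (x v) v = 0 := by rw [s5955t2_skew B h.alt, hv, neg_zero]
      simp only [map_add, map_smul, LinearMap.add_apply, LinearMap.smul_apply, h1, h3, h4, hv,
        smul_zero, add_zero]
    have hUdim : finrank F U = 2 := by
      have hli : LinearIndependent F ![v, x v] := by
        rw [LinearIndependent.pair_iff' hv0]
        intro a ha
        have h5 : x (x v) = (a * a) • v := by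
          rw [← ha, map_smul, ← ha, smul_smul]
        rw [hxx] at h5
        have h6 : (a * a + 1) • v = 0 := by
          rw [add_smul, one_smul, ← h5, neg_add_cancel]
        rcases smul_eq_zero.mp h6 with h7 | h7
        · exact hns a (eq_neg_of_add_eq_zero_left h7)
        · exact hv0 h7
      have h8 := finrank_span_eq_card hli
      rw [Matrix.range_cons_cons_empty, Fintype.card_fin] at h8
      exact h8
    obtain ⟨N', hN'N, hN'inv, hN'nd, horth, hdisj, hdim⟩ :=
      peel_ti (r := 4) h4F h N U hN hNnd hUN hUinv hUti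
    rw [hUdim] at hdim
    obtain ⟨W', hW'N', hW'inv, hW'ti, hW'dim⟩ := ih N' hN'inv hN'nd (by omega)
    refine ⟨U ⊔ W', sup_le hUN (hW'N'.trans hN'N), ?_, ?_, ?_⟩
    · intro w hw
      obtain ⟨u, hu, w', hw', rfl⟩ := Submodule.mem_sup.mp hw
      rw [map_add]
      exact Submodule.add_mem_sup (hUinv u hu) (hW'inv w' hw')
    · intro a ha b hb
      obtain ⟨u, hu, w', hw', rfl⟩ := Submodule.mem_sup.mp ha
      obtain ⟨u₂, hu₂, w₂, hw₂, rfl⟩ := Submodule.mem_sup.mp hb
      have e1 : B u u₂ = 0 := hUti u hu u₂ hu₂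
      have e2 : B u w₂ = 0 := horth u hu w₂ (hW'N' hw₂)
      have e3 : B w' u₂ = 0 := by
        rw [s5955t2_skew B h.alt, horth u₂ hu₂ w' (hW'N' hw'), neg_zero]
      have e4 : B w' w₂ = 0 := hW'ti w' hw' w₂ hw₂
      simp only [map_add, LinearMap.add_apply, e1, e2, e3, e4, add_zero]
    · have h9 := Submodule.finrank_sup_add_finrank_inf_eq U W'
      have h10 : U ⊓ W' = ⊥ := (hdisj.mono_right hW'N').eq_bot
      rw [h10, finrank_bot, add_zero, hUdim, hW'dim] at h9
      rw [h9]
      ring

/-- R3 (second copy, exact statement of `sqneg_suff_even`): an isometry with `x * x = -1` over a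
finite field, `m` even. -/
theorem s5955r3_h16_sqneg_suff_even {F : Type*} [Field F] [Fintype F] {V : Type*} [AddCommGroup V]
    [Module F V] [FiniteDimensional F V] (h2 : (2 : F) ≠ 0) {B : LinearMap.BilinForm F V}
    {x : Module.End F V} (h : SCtx 4 B x) (hx : x * x = -1)
    (d m : ℕ) (hV : finrank F V = 2 * d) (hm : m ≤ d) (hme : Even m) : TId B x m := by
  by_cases hsq : ∃ ι : F, ι * ι = -1
  · obtain ⟨ι, hι⟩ := hsq
    exact sqneg_suff_sq h2 h hx ι (by rw [pow_two]; exact hι) d m hV hm
  · have hsq' : ∀ c : F, c * c ≠ -1 := fun c hc => hsq ⟨c, hc⟩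
    obtain ⟨k, rfl⟩ := hme
    obtain ⟨W, -, hWinv, hWti, hWdim⟩ := s5955r3h16_ind h2 h hx hsq' k ⊤
      (fun w _ => Submodule.mem_top)
      (fun u _ hu => h.nd u (fun v => hu v Submodule.mem_top))
      (by rw [finrank_top, hV]; omega)
    exact ⟨W, hWinv, hWti, by rw [hWdim]; ring⟩

end Cfsg.Agent.Lib.Helper13.S5955
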