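import Mathlib
import Cfsg.Agent.Lib.Helper13.S5955.Defs2

/-!
# S5955 row R5 (helper16): `q ≡ 3 (mod 4)`, `m` odd: `J` has no invariant subspace of odd dimension.

`ψ = J|_W` has `ψ * ψ = -1`, so `(det ψ)^2 = (-1)^(dim W) = -1`, a square: `q % 4 ≠ 3`.
-/

set_option autoImplicit false

namespace Cfsg.Agent.Lib.Helper13.S5955

open Polynomial Module

/-- an endomorphism with square `-1` of a space of odd dimension makes `-1` a square -/
theorem s5955r5_isSquare {F : Type*} [Field F] {W : Type*} [AddCommGroup W] [Module F W]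
    [FiniteDimensional F W] (ψ : Module.End F W) (hψ : ψ * ψ = -1) (ho : Odd (finrank F W)) :
    IsSquare (-1 : F) := by
  refine ⟨LinearMap.det ψ, ?_⟩
  have h1 : LinearMap.det (ψ * ψ) = LinearMap.det ψ * LinearMap.det ψ := map_mul _ _ _
  rw [hψ] at h1
  have h2 : (-1 : Module.End F W) = (-1 : F) • (1 : Module.End F W) := by
    rw [neg_smul, one_smul]
  rw [h2, LinearMap.det_smul, ho.neg_one_pow, map_one, mul_one] at h1
  exact h1

theorem two_nec {F : Type*} [Field F] [Fintype F] (d m : ℕ) (hd : 1 ≤ d) (hmo : Odd m)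
    (hq : Fintype.card F % 4 = 3) :
    ∃ x : ↥(Matrix.symplecticGroup (Fin d) F),
      ((x ^ 2 : ↥(Matrix.symplecticGroup (Fin d) F)) :
        Matrix (Fin d ⊕ Fin d) (Fin d ⊕ Fin d) F) =
          (-1 : F) • (1 : Matrix (Fin d ⊕ Fin d) (Fin d ⊕ Fin d) F) ∧
      (∀ z : F, (x : Matrix (Fin d ⊕ Fin d) (Fin d ⊕ Fin d) F) ≠
        z • (1 : Matrix (Fin d ⊕ Fin d) (Fin d ⊕ Fin d) F)) ∧
      ¬ ∃ W : Submodule F (Fin d ⊕ Fin d → F), Module.finrank F ↥W = m ∧
        W.map (Matrix.toLin' (x : Matrix (Fin d ⊕ Fin d) (Fin d ⊕ Fin d) F)) ≤ W := by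
  classical
  refine ⟨⟨Matrix.J (Fin d) F, SymplecticGroup.J_mem (Fin d) F⟩, ?_, ?_, ?_⟩
  · rw [SubmonoidClass.coe_pow, pow_two]
    show Matrix.J (Fin d) F * Matrix.J (Fin d) F = _
    rw [Matrix.J_squared, neg_smul, one_smul]
  · intro z hz
    have hz' : Matrix.J (Fin d) F = z • (1 : Matrix (Fin d ⊕ Fin d) (Fin d ⊕ Fin d) F) := hz
    have h1 := congrFun (congrFun hz' (Sum.inl ⟨0, by omega⟩)) (Sum.inr ⟨0, by omega⟩)
    simp [Matrix.J, Matrix.fromBlocks_apply₁₂] at h1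
  · rintro ⟨W, hWm, hW⟩
    set φ : (Fin d ⊕ Fin d → F) →ₗ[F] (Fin d ⊕ Fin d → F) :=
      Matrix.toLin' (Matrix.J (Fin d) F) with hφ
    have hW' : ∀ w ∈ W, φ w ∈ W := by
      intro w hw
      exact hW (Submodule.mem_map_of_mem hw)
    have hφφ : φ * φ = -1 := by
      rw [hφ, Module.End.mul_eq_comp, ← Matrix.toLin'_mul, Matrix.J_squared, map_neg, Matrix.toLin'_one]
      rfl
    set ψ : Module.End F W := φ.restrict hW' with hψ
    have hψψ : ψ * ψ = -1 := by
      apply LinearMap.ext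
      intro w
      apply Subtype.ext
      have := LinearMap.congr_fun hφφ (w : Fin d ⊕ Fin d → F)
      simpa [hψ, LinearMap.restrict_apply] using this
    have hsq := s5955r5_isSquare ψ hψψ (by rw [hWm]; exact hmo)
    exact (FiniteField.isSquare_neg_one_iff.mp hsq) hq

end Cfsg.Agent.Lib.Helper13.S5955
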