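import Mathlib
import Cfsg.Agent.Lib.helper8.SylowBasic
import Cfsg.Agent.Lib.helper8.SimpleEmbed
import Cfsg.Agent.Lib.helper8.Parity
import Cfsg.Agent.Lib.helper23.OrdGen
import Cfsg.Agent.Lib.helper23.OrdGen3
import Cfsg.Agent.Lib.Helper25.S496K1
import Cfsg.Agent.Lib.Helper18.ConjCount
import Cfsg.Agent.S0992
import Cfsg.Agent.S1019

/-!
# S983 row N5460: no simple group of order 5460 = 2^2 * 3 * 5 * 7 * 13   (helper16)

`n_13 = 105` (`14` dies by K1), `|N(P)| = 52` contains a Sylow 2-subgroup `T` of `G`, a Klein four group (S0992).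
Every involution of `T` centralizes or inverts `P` (`|P| = 13`) and the product of two inverting ones centralizes:
some involution `t ∈ T` centralizes `P`.  `f = fix(t)` on `G / N(P)` (105 points) is `≡ 1 mod 13`, `4 ∣ 105 - f`, `f ≠ 105`:
`f ∈ {1, 53}`.  S1019: `f |cl(t)| = 105 m'`, `m' = |cl(t) ∩ N(P)| ≤ 52`, so `f = 1`; `52 ∣ |C(t)|` gives `|cl(t)| ∣ 105`, so
`m' = 1`: `t` is not fused to any other element of `T`, and the transfer lemma (`og_mem_commutator_of_fusion`, `S = T`)
puts `t` in `[T, T] = 1`.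
-/

set_option autoImplicit false

namespace Cfsg.Agent.Lib.helper3.S983

open Cfsg.Agent.Lib.helper8 Cfsg.Agent.Lib.helper23

/-- an involution normalizing a group of order 13 centralizes or inverts it -/
theorem s983n5460_conj_eq_or_inv {G : Type*} [Group G] (y a : G) (hy : orderOf y = 13)
    (ha : a * a = 1) (hn : a * y * a⁻¹ ∈ Subgroup.zpowers y) :
    a * y * a⁻¹ = y ∨ a * y * a⁻¹ = y⁻¹ := by
  obtain ⟨k, hk⟩ := Subgroup.mem_zpowers_iff.mp hn
  have hainv : a⁻¹ = a := inv_eq_of_mul_eq_one_left ha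
  have h1 : a * (a * y * a⁻¹) * a⁻¹ = y := by
    rw [hainv]
    calc a * (a * y * a) * a = (a * a) * y * (a * a) := by group
      _ = y := by rw [ha, one_mul, mul_one]
  have h2 : a * y ^ k * a⁻¹ = (a * y * a⁻¹) ^ k := (conj_zpow (a := a) (b := y) (i := k)).symm
  have h3 : y ^ (k * k) = y := by
    rw [zpow_mul, hk, ← h2, hk, h1]
  have h4 : y ^ (k * k - 1) = 1 := by
    rw [zpow_sub, zpow_one, h3, mul_inv_cancel]
  have h5 : (13 : ℤ) ∣ k * k - 1 := by
    have := (orderOf_dvd_iff_zpow_eq_one (x := y) (i := k * k - 1)).mpr h4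
    rw [hy] at this
    exact_mod_cast this
  have h6 : (13 : ℤ) ∣ (k - 1) * (k + 1) := by
    have e : (k - 1) * (k + 1) = k * k - 1 := by ring
    rw [e]; exact h5
  have hp : Prime (13 : ℤ) := Int.prime_iff_natAbs_prime.mpr (by norm_num)
  rcases hp.dvd_or_dvd h6 with h | h
  · left
    have h7 : y ^ (k - 1) = 1 := by
      apply (orderOf_dvd_iff_zpow_eq_one (x := y) (i := k - 1)).mp
      rw [hy]; exact_mod_cast h
    rw [← hk]
    have : y ^ k = y ^ (k - 1) * y := by rw [← zpow_add_one]; congr 1; ring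
    rw [this, h7, one_mul]
  · right
    have h7 : y ^ (k + 1) = 1 := by
      apply (orderOf_dvd_iff_zpow_eq_one (x := y) (i := k + 1)).mp
      rw [hy]; exact_mod_cast h
    rw [← hk]
    have : y ^ (k + 1) = y ^ k * y := zpow_add_one y k
    rw [this] at h7
    exact eq_inv_of_mul_eq_one_left h7

/-- in a Klein four subgroup normalizing `⟨y⟩`, `|y| = 13`, some involution centralizes `y` -/
theorem s983n5460_exists_invol {G : Type*} [Group G] (y : G) (hy : orderOf y = 13)
    (T : Subgroup G) [hT : IsKleinFour T]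
    (hTn : ∀ a ∈ T, a * y * a⁻¹ ∈ Subgroup.zpowers y) :
    ∃ t ∈ T, t ≠ 1 ∧ t * t = 1 ∧ t * y = y * t := by
  classical
  haveI : Finite T := IsKleinFour.instFinite
  haveI : Fintype T := Fintype.ofFinite T
  have hsq : ∀ a ∈ T, a * a = 1 := by
    intro a ha
    have h := Monoid.pow_exponent_eq_one (⟨a, ha⟩ : T)
    rw [IsKleinFour.exponent_two] at h
    have h' := congrArg Subtype.val h
    simpa [pow_two] using h'
  have hcard : 2 < Fintype.card T := by
    have := IsKleinFour.card_four' (G := T)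
    omega
  obtain ⟨x1, x2, x3, h12, h13, h23⟩ := Fintype.two_lt_card_iff.mp hcard
  -- two distinct non-identity elements
  obtain ⟨a, b, ha1, hb1, hab⟩ : ∃ a b : T, a ≠ 1 ∧ b ≠ 1 ∧ a ≠ b := by
    by_cases e1 : x1 = 1
    · refine ⟨x2, x3, ?_, ?_, h23⟩
      · rintro rfl; exact h12 e1
      · rintro rfl; exact h13 e1
    · by_cases e2 : x2 = 1
      · refine ⟨x1, x3, e1, ?_, h13⟩
        rintro rfl; exact h23 e2
      · exact ⟨x1, x2, e1, e2, h12⟩
  have haa := hsq a.1 a.2
  have hbb := hsq b.1 b.2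
  have ha1' : (a : G) ≠ 1 := fun h => ha1 (Subtype.ext h)
  have hb1' : (b : G) ≠ 1 := fun h => hb1 (Subtype.ext h)
  have hab' : (a : G) ≠ (b : G) := fun h => hab (Subtype.ext h)
  have hcomm : ∀ t : G, t * y * t⁻¹ = y → t * y = y * t := by
    intro t ht
    calc t * y = (t * y * t⁻¹) * t := by group
      _ = y * t := by rw [ht]
  rcases s983n5460_conj_eq_or_inv y a hy haa (hTn a a.2) with h | h
  · exact ⟨a, a.2, ha1', haa, hcomm _ h⟩
  rcases s983n5460_conj_eq_or_inv y b hy hbb (hTn b b.2) with h' | h'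
  · exact ⟨b, b.2, hb1', hbb, hcomm _ h'⟩
  -- both invert: the product centralizes
  have hmem : (a : G) * (b : G) ∈ T := T.mul_mem a.2 b.2
  refine ⟨(a : G) * (b : G), hmem, ?_, hsq _ hmem, ?_⟩
  · intro h1
    apply hab'
    have hbinv : (b : G)⁻¹ = (b : G) := inv_eq_of_mul_eq_one_left hbb
    calc (a : G) = (a : G) * (b : G) * (b : G)⁻¹ := by group
      _ = (b : G) := by rw [h1, one_mul, hbinv]
  · apply hcomm
    calc (a : G) * (b : G) * y * ((a : G) * (b : G))⁻¹
        = (a : G) * ((b : G) * y * (b : G)⁻¹) * (a : G)⁻¹ := by group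
      _ = (a : G) * y⁻¹ * (a : G)⁻¹ := by rw [h']
      _ = ((a : G) * y * (a : G)⁻¹)⁻¹ := by group
      _ = y := by rw [h, inv_inv]

theorem no_simple_5460 {G : Type*} [Group G] [Finite G] [IsSimpleGroup G] (hG : Nat.card G = 5460) : False := by
  classical
  have : Fact (Nat.Prime 13) := ⟨by norm_num⟩
  have : Fact (Nat.Prime 2) := ⟨by norm_num⟩
  have hG' : Nat.card G = 13 ^ 1 * 420 := by rw [hG]; norm_num
  have hnd : ¬ 13 ∣ 420 := by norm_num
  have hG2 : Nat.card G = 2 ^ 2 * 1365 := by rw [hG]; norm_num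
  have hnd2 : ¬ 2 ∣ 1365 := by norm_num
  have hnc : ¬ IsMulCommutative G := h8_not_comm_of_card (by rw [hG]; norm_num)
  have hmem := h8_nsylow_mem 13 1 420 hG' hnd
  have hne1 := h8_simple_nsylow_ne_one 13 1 420 hG' hnd (by norm_num) (by norm_num)
  obtain ⟨P⟩ : Nonempty (Sylow 13 G) := inferInstance
  obtain ⟨hP, hNn, hXn, r, hr12, hr1, hCr⟩ := og3_sylow_data 13 420 hG' hnd (by norm_num) P
  have hdiv : (Nat.divisors 420).filter (fun d => d % 13 = 1) = {1, 14, 105} := by decide
  rw [hdiv] at hmem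
  simp only [Finset.mem_insert, Finset.mem_singleton] at hmem
  have hn : Nat.card (Sylow 13 G) = 105 := by
    rcases hmem with h | h | h
    · exact absurd h hne1
    · exfalso
      have := (Cfsg.Agent.Lib.helper3.S496.np_succ 13 P hP h).2
      rw [hG] at this
      revert this
      decide
    · exact h
  set N := Subgroup.normalizer ((P : Subgroup G) : Set G) with hNdef
  set C := Subgroup.centralizer ((P : Subgroup G) : Set G) with hCdef
  rw [hn, hG] at hNn
  have hN : Nat.card N = 52 := by omega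
  have hidx : N.index = 105 := by
    rw [← hn]; exact (h8_nsylow_eq_index_normalizer 13 P).symm
  have hXc : Nat.card (G ⧸ N) = 105 := by rw [hXn, hn]
  have hNtop : N ≠ ⊤ := by
    intro h
    rw [h, Subgroup.index_top] at hidx
    omega
  -- a Sylow 2-subgroup of G inside N
  obtain ⟨K, hK⟩ := Sylow.exists_subgroup_card_pow_prime (G := N) 2 (n := 2) (by rw [hN]; norm_num)
  have hKm : Nat.card (K.map N.subtype) = 2 ^ 2 := by
    rw [Subgroup.card_map_of_injective N.subtype_injective]
    exact hK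
  obtain ⟨T, hKT⟩ := (IsPGroup.of_card hKm).exists_le_sylow
  have hTc : Nat.card (T : Subgroup G) = 2 ^ 2 := h8_sylow_card 2 2 1365 hG2 hnd2 T
  have hKTe : K.map N.subtype = (T : Subgroup G) := by
    apply Subgroup.eq_of_le_of_card_ge hKT
    rw [hKm, hTc]
  have hTN : (T : Subgroup G) ≤ N := by
    rw [← hKTe]; exact Subgroup.map_subtype_le K
  obtain ⟨hKl, -⟩ := Cfsg.Agent.S0992.result hnc (by rw [hG]; decide) (by rw [hG]; decide) T
  haveI : IsKleinFour ↥(T : Subgroup G) := hKl
  -- generator of P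
  haveI : IsCyclic (P : Subgroup G) := isCyclic_of_prime_card hP
  obtain ⟨y', hy'⟩ := IsCyclic.exists_generator (α := (P : Subgroup G))
  have hyo' : orderOf y' = 13 := by
    rw [orderOf_eq_card_of_forall_mem_zpowers hy', hP]
  have hyo : orderOf (y' : G) = 13 := by rw [Subgroup.orderOf_coe]; exact hyo'
  have hPz : (P : Subgroup G) = Subgroup.zpowers (y' : G) := by
    symm
    apply Subgroup.eq_of_le_of_card_ge
    · rw [Subgroup.zpowers_le]; exact y'.2
    · rw [Nat.card_zpowers, hyo, hP]
  have hTn : ∀ a ∈ (T : Subgroup G), a * (y' : G) * a⁻¹ ∈ Subgroup.zpowers (y' : G) := by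
    intro a ha
    have haN := hTN ha
    rw [← hPz]
    exact (Subgroup.mem_normalizer_iff.mp haN (y' : G)).mp y'.2
  obtain ⟨t, htT, ht1, htt, hty⟩ := s983n5460_exists_invol (y' : G) hyo (T : Subgroup G) hTn
  have htN : t ∈ N := hTN htT
  have ht2 : t ^ 2 = 1 := by rw [pow_two]; exact htt
  have htC : t ∈ C := by
    rw [hCdef, Subgroup.mem_centralizer_iff]
    intro x hx
    have hx' : x ∈ Subgroup.zpowers (y' : G) := by rw [← hPz]; exact hx
    obtain ⟨k, rfl⟩ := Subgroup.mem_zpowers_iff.mp hx'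
    have hc : Commute t (y' : G) := hty
    exact ((hc.zpow_right k).eq).symm
  -- the fixed point count
  set f := Nat.card (MulAction.fixedBy (G ⧸ N) t) with hf
  have hf13 : f ≡ 1 [MOD 13] := og2_card_fixedBy_modEq_one 13 P hP t htC
  have hf4 : 4 ∣ 105 - f := by
    have := h8_simple_involution_fixed (X := G ⧸ N) hnc t ht2
    rwa [hXc] at this
  have hfle : f ≤ 105 := by
    rw [← hXc]; exact Finite.card_subtype_le _
  have hfne : f ≠ 105 := by
    intro h
    have := og2_eq_one_of_card_fixedBy N hNtop t (by rw [hXc]; exact h)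
    exact ht1 this
  set L := Nat.card {g : G // IsConj t g} with hL
  set m' := Nat.card {g : G // IsConj t g ∧ g ∈ N} with hm'
  have h1019 : f * L = 105 * m' := by
    have := Cfsg.Agent.S1019.result N t htN
    rw [hidx] at this
    exact this
  have hm1 : 1 ≤ m' := by
    apply Nat.card_pos_iff.mpr
    exact ⟨⟨⟨t, IsConj.refl _, htN⟩⟩, inferInstance⟩
  have hm52 : m' ≤ 52 := by
    rw [← hN]
    apply Nat.card_le_card_of_injective
      (fun g : {g : G // IsConj t g ∧ g ∈ N} => (⟨g.1, g.2.2⟩ : N))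
    intro a b hab
    apply Subtype.ext
    exact congrArg (fun z : N => (z : G)) hab
  have hcls : L * Nat.card (Subgroup.centralizer ({t} : Set G)) = 5460 := by
    rw [← hG]
    exact Cfsg.Agent.Lib.Helper18.card_isConj_mul_card_centralizer t
  -- 52 divides |C(t)|
  have hPle : (P : Subgroup G) ≤ Subgroup.centralizer ({t} : Set G) := by
    intro x hx
    rw [Subgroup.mem_centralizer_iff]
    intro z hz
    rw [Set.mem_singleton_iff] at hz
    subst hz
    exact (Subgroup.mem_centralizer_iff.mp htC x hx).symm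
  have hTle : (T : Subgroup G) ≤ Subgroup.centralizer ({t} : Set G) := by
    intro x hx
    rw [Subgroup.mem_centralizer_iff]
    intro z hz
    rw [Set.mem_singleton_iff] at hz
    subst hz
    exact h8_comm_of_card_prime_sq 2 (T : Subgroup G) hTc z htT x hx
  have h13 : 13 ∣ Nat.card (Subgroup.centralizer ({t} : Set G)) := by
    have := Subgroup.card_dvd_of_le hPle
    rwa [hP] at this
  have h4 : 4 ∣ Nat.card (Subgroup.centralizer ({t} : Set G)) := by
    have := Subgroup.card_dvd_of_le hTle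
    rwa [hTc] at this
  have h52 : 52 ∣ Nat.card (Subgroup.centralizer ({t} : Set G)) := by
    have : Nat.Coprime 4 13 := by norm_num
    exact this.mul_dvd_of_dvd_of_dvd h4 h13
  obtain ⟨j, hj⟩ := h52
  rw [hj] at hcls
  have hLj : L * j = 105 := by
    have : L * (52 * j) = 52 * (L * j) := by ring
    omega
  have hf1 : f = 1 := by
    have hmod : f % 13 = 1 := hf13
    obtain ⟨q, hq⟩ := hf4
    have hcases : f = 1 ∨ f = 53 := by omega
    rcases hcases with h | h
    · exact h
    · exfalso
      rw [h] at h1019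
      have hdvd : 53 ∣ 105 * m' := ⟨L, h1019.symm⟩
      have hcop : Nat.Coprime 53 105 := by norm_num
      have := hcop.dvd_of_dvd_mul_left hdvd
      have := Nat.le_of_dvd (by omega) this
      omega
  rw [hf1, one_mul] at h1019
  have hm'1 : m' = 1 := by
    rw [h1019] at hLj
    have : 105 * (m' * j) = 105 := by
      calc 105 * (m' * j) = 105 * m' * j := by ring
        _ = 105 := hLj
    have h1 : m' * j = 1 := by omega
    exact Nat.eq_one_of_mul_eq_one_right h1
  -- transfer with S = T
  have hTidx : Odd (T : Subgroup G).index := by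
    have := h8_sylow_index 2 2 1365 hG2 hnd2 T
    rw [this]; decide
  have huniq : ∀ g : G, IsConj t g → g ∈ N → g = t := by
    intro g hg hgN
    have hsub : Subsingleton {g : G // IsConj t g ∧ g ∈ N} :=
      (Nat.card_eq_one_iff_unique.mp hm'1).1
    have := Subsingleton.elim (⟨g, hg, hgN⟩ : {g : G // IsConj t g ∧ g ∈ N}) ⟨t, IsConj.refl _, htN⟩
    exact congrArg Subtype.val this
  have hfus : ∀ g : G, g⁻¹ * t * g ∈ (T : Subgroup G) →
      ∃ s ∈ (T : Subgroup G), g⁻¹ * t * g = s * t * s⁻¹ := by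
    intro g hg
    refine ⟨1, (T : Subgroup G).one_mem, ?_⟩
    have hconj : IsConj t (g⁻¹ * t * g) := by
      rw [isConj_iff]
      exact ⟨g⁻¹, by rw [inv_inv]⟩
    rw [huniq _ hconj (hTN hg)]
    simp
  have hcomm := og_mem_commutator_of_fusion hnc (T : Subgroup G) hTidx t htT ht2 hfus
  -- T is commutative: its commutator subgroup is trivial
  letI : CommGroup ↥(T : Subgroup G) :=
    { (inferInstance : Group ↥(T : Subgroup G)) with
      mul_comm := fun a b => Subtype.ext (h8_comm_of_card_prime_sq 2 (T : Subgroup G) hTc a a.2 b b.2) }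
  have hker := Abelianization.commutator_subset_ker (MonoidHom.id ↥(T : Subgroup G))
  have := hker hcomm
  rw [MonoidHom.mem_ker, MonoidHom.id_apply] at this
  exact ht1 (congrArg Subtype.val this)

end Cfsg.Agent.Lib.helper3.S983
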