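import Cfsg.Agent.Lib.helper7.SAP.Defs

/-!
Project SAP (designer helper7; S2284 + S2297), rows NT1 (`sap_real_ineq`) and NT2 (`sap_nat_ineq`), by helper16.
Adapted from Mathlib's `Bertrand.real_main_inequality` / `bertrand_main_inequality`: the extra factor `(2 x) ^ 2`
adds the concave term `2 * log (2 * x)`; check points `18` and `2048`.
-/

namespace Cfsg.Agent.Lib.helper7.SAP

universe u

open Equiv

section nt

open Real in
/-- NT1 [M-H]: adapt `Bertrand.real_main_inequality` (add the concave term `2 * log (2 * x)`;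
check points `18` and `2048`, `√(2 * 2048) = 64`). -/
theorem sap_real_ineq {x : ℝ} (hx : (2048 : ℝ) ≤ x) :
    x * (2 * x) ^ (√(2 * x) + 2) * 4 ^ (2 * x / 3) ≤ 4 ^ x := by
  let f : ℝ → ℝ := fun x => log x + √(2 * x) * log (2 * x) + 2 * log (2 * x) - log 4 / 3 * x
  have hf' : ∀ x, 0 < x → 0 < x * (2 * x) ^ (√(2 * x) + 2) / 4 ^ (x / 3) := fun x h =>
    div_pos (mul_pos h (rpow_pos_of_pos (mul_pos two_pos h) _)) (rpow_pos_of_pos four_pos _)
  have hf : ∀ x, 0 < x → f x = log (x * (2 * x) ^ (√(2 * x) + 2) / 4 ^ (x / 3)) := by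
    intro x h5
    have h6 := mul_pos (zero_lt_two' ℝ) h5
    have h7 := rpow_pos_of_pos h6 (√(2 * x) + 2)
    rw [log_div (mul_pos h5 h7).ne' (rpow_pos_of_pos four_pos _).ne', log_mul h5.ne' h7.ne',
      log_rpow h6, log_rpow zero_lt_four]
    show log x + √(2 * x) * log (2 * x) + 2 * log (2 * x) - log 4 / 3 * x = _
    ring
  have h5 : 0 < x := lt_of_lt_of_le (by norm_num1) hx
  rw [← div_le_one (rpow_pos_of_pos four_pos x), ← div_div_eq_mul_div, ← rpow_sub four_pos, ←
    mul_div 2 x, mul_div_left_comm, ← mul_one_sub, (by norm_num1 : (1 : ℝ) - 2 / 3 = 1 / 3),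
    mul_one_div, ← log_nonpos_iff (hf' x h5).le, ← hf x h5]
  have h : ConcaveOn ℝ (Set.Ioi 0.5) f := by
    apply ConcaveOn.sub
    · apply ConcaveOn.add
      · apply ConcaveOn.add
        · exact strictConcaveOn_log_Ioi.concaveOn.subset
            (Set.Ioi_subset_Ioi (by norm_num)) (convex_Ioi 0.5)
        convert!
          ((strictConcaveOn_sqrt_mul_log_Ioi.concaveOn.comp_linearMap ((2 : ℝ) • LinearMap.id)))
          using 1
        ext x
        simp only [Set.mem_Ioi, Set.mem_preimage, LinearMap.smul_apply,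
          LinearMap.id_coe, id_eq, smul_eq_mul]
        rw [← mul_lt_mul_iff_right₀ (two_pos)]
        norm_num1
        rfl
      · have hc : ConcaveOn ℝ (Set.Ioi (0.5 : ℝ)) (fun x : ℝ => log (2 * x)) := by
          have := (strictConcaveOn_log_Ioi.concaveOn.comp_linearMap ((2 : ℝ) • LinearMap.id))
          refine this.subset ?_ (convex_Ioi 0.5)
          intro a ha
          simp only [Set.mem_Ioi, Set.mem_preimage, LinearMap.smul_apply,
            LinearMap.id_coe, id_eq, smul_eq_mul] at ha ⊢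
          linarith
        exact hc.smul (by norm_num : (0 : ℝ) ≤ 2)
    apply ConvexOn.smul
    · refine div_nonneg (log_nonneg (by norm_num1)) (by norm_num1)
    · exact convexOn_id (convex_Ioi (0.5 : ℝ))
  suffices ∃ x1 x2, 0.5 < x1 ∧ x1 < x2 ∧ x2 ≤ x ∧ 0 ≤ f x1 ∧ f x2 ≤ 0 by
    obtain ⟨x1, x2, h1, h2, h0, h3, h4⟩ := this
    exact (h.right_le_of_le_left'' h1 ((h1.trans h2).trans_le h0) h2 h0 (h4.trans h3)).trans h4
  refine ⟨18, 2048, by norm_num1, by norm_num1, hx, ?_, ?_⟩
  · have : √(2 * 18 : ℝ) = 6 := (sqrt_eq_iff_mul_self_eq_of_pos (by norm_num1)).mpr (by norm_num1)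
    rw [hf _ (by norm_num1), log_nonneg_iff (by positivity), this, one_le_div (by norm_num1)]
    norm_num1
  · have : √(2 * 2048) = 64 :=
      (sqrt_eq_iff_mul_self_eq_of_pos (by norm_num1)).mpr (by norm_num1)
    rw [hf _ (by norm_num1), log_nonpos_iff (hf' _ (by norm_num1)).le, this,
        div_le_one (by positivity)]
    have e1 : (2048 : ℝ) = 2 ^ (11 : ℝ) := by
      rw [show (11 : ℝ) = ((11 : ℕ) : ℝ) by norm_num, rpow_natCast]; norm_num1
    have e2 : (2 * 2048 : ℝ) = 2 ^ (12 : ℝ) := by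
      rw [show (12 : ℝ) = ((12 : ℕ) : ℝ) by norm_num, rpow_natCast]; norm_num1
    have e4 : (4 : ℝ) = 2 ^ (2 : ℝ) := by
      rw [rpow_two]; norm_num1
    rw [e2, e1, e4, ← rpow_mul (by norm_num1), ← rpow_mul (by norm_num1), ← rpow_add (by norm_num1)]
    apply rpow_le_rpow_of_exponent_le
    all_goals norm_num1

/-- NT2 [S-M]: as `bertrand_main_inequality`. -/
theorem sap_nat_ineq {n : ℕ} (hn : 2048 ≤ n) :
    n * (2 * n) ^ (Nat.sqrt (2 * n) + 2) * 4 ^ (2 * n / 3) ≤ 4 ^ n := by
  rw [← @Nat.cast_le ℝ]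
  simp only [Nat.cast_mul, Nat.cast_pow, ← Real.rpow_natCast, Nat.cast_ofNat]
  refine _root_.trans ?_ (sap_real_ineq (by exact_mod_cast hn))
  gcongr
  · have n2_pos : 0 < 2 * n := by positivity
    exact mod_cast n2_pos
  · push_cast
    gcongr
    exact_mod_cast Real.nat_sqrt_le_real_sqrt
  · norm_num1
  · exact Nat.cast_div_le.trans (by norm_cast)

end nt

end Cfsg.Agent.Lib.helper7.SAP
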