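import Cfsg.Agent.Lib.helper7.SAP.Defs
import Cfsg.Agent.Lib.Helper13.SAPCarm

/-!
Project SAP (designer helper7; S2284 + S2297), rows SIX2 (`pres_A6`) and SIX3 (`pres_S6`), cores by helper16.

`A_6 = ⟨a, z | a^4, z^3, (z (a z a⁻¹)⁻¹)^2, (z a² z a⁻²)^2, a⁻¹ W⟩`, `a ↦ (0 1 2 3)(4 5)`, `z ↦ (0 4 5)`;
`S_6 = ⟨a, z | a^4, z^3, (z a z a⁻¹)^2, (z a² z a⁻²)^2, a⁻² W'⟩`, `a ↦ (0 1 2 3)`, `z ↦ (0 4 5)`.
The order bound is Carmichael's (helper13's landed `sap_h13_carmichael`) for the family `x_i = a^i z^(±1) a^-i`;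
rows SIX1 (`cyc4_carRel`) and ALT3 (`altgen` on `Fin 6`) enter as hypotheses.
-/

set_option autoImplicit false

namespace Cfsg.Agent.Lib.helper7.SAP

universe u

open Equiv

/-! ### the abstract families and relator lists -/

section abstract
variable {G : Type*} [Group G]

/-- the family `x_i = a^i z^((-1)^i) a^-i` (A-case) -/
def sapsix_xA (a z : G) : ZMod 4 → G :=
  ![z, a * z⁻¹ * a⁻¹, a ^ 2 * z * (a ^ 2)⁻¹, a ^ 3 * z⁻¹ * (a ^ 3)⁻¹]

/-- the family `x_i = a^i z a^-i` (S-case) -/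
def sapsix_xS (a z : G) : ZMod 4 → G :=
  ![z, a * z * a⁻¹, a ^ 2 * z * (a ^ 2)⁻¹, a ^ 3 * z * (a ^ 3)⁻¹]

/-- the word for `a` in the A-case -/
def sapsix_WA (a z : G) : G :=
  sapsix_xA a z 0 * (sapsix_xA a z 3)⁻¹ * sapsix_xA a z 2 * (sapsix_xA a z 1)⁻¹ * sapsix_xA a z 0

/-- the word for `a ^ 2` in the S-case -/
def sapsix_WS (a z : G) : G :=
  sapsix_xS a z 0 * sapsix_xS a z 1 * sapsix_xS a z 2 * (sapsix_xS a z 0)⁻¹ * (sapsix_xS a z 3)⁻¹ *
    sapsix_xS a z 1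

/-- the five relators of the A-case -/
def sapsix_relsA (a z : G) : List G :=
  [a ^ 4, z ^ 3, (z * (a * z * a⁻¹)⁻¹) ^ 2, (z * (a ^ 2 * z * (a ^ 2)⁻¹)) ^ 2, a⁻¹ * sapsix_WA a z]

/-- the five relators of the S-case -/
def sapsix_relsS (a z : G) : List G :=
  [a ^ 4, z ^ 3, (z * (a * z * a⁻¹)) ^ 2, (z * (a ^ 2 * z * (a ^ 2)⁻¹)) ^ 2, (a ^ 2)⁻¹ * sapsix_WS a z]

theorem sapsix_map_relsA {H : Type*} [Group H] (φ : G →* H) (a z : G) :
    (sapsix_relsA a z).map φ = sapsix_relsA (φ a) (φ z) := by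
  simp [sapsix_relsA, sapsix_WA, sapsix_xA, map_mul, map_inv, map_pow]

theorem sapsix_map_relsS {H : Type*} [Group H] (φ : G →* H) (a z : G) :
    (sapsix_relsS a z).map φ = sapsix_relsS (φ a) (φ z) := by
  simp [sapsix_relsS, sapsix_WS, sapsix_xS, map_mul, map_inv, map_pow]

end abstract

/-! ### the order bounds -/

theorem sapsix_conj_pow3 {G : Type*} [Group G] (g w : G) (h : w ^ 3 = 1) : (g * w * g⁻¹) ^ 3 = 1 := by
  rw [conj_pow, h, mul_one, mul_inv_cancel]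

/-- A-case: the abstract group has order at most `360` -/
theorem sapsix_boundA {G : Type} [Group G] (a z : G) (hgen : Subgroup.closure ({a, z} : Set G) = ⊤)
    (hrel : ∀ g ∈ sapsix_relsA a z, g = 1)
    (hSIX1 : ∀ (a : G) (x : ZMod 4 → G) (ε : ℤ), (ε = 1 ∨ ε = -1) →
      (∀ i, a * x i * a⁻¹ = x (i + 1) ^ ε) → (∀ i, x i ^ 3 = 1) →
      (x 0 * x 1) ^ 2 = 1 → (x 0 * x 2) ^ 2 = 1 → CarRel x) :
    Finite G ∧ Nat.card G ≤ 360 := by
  have h4 : a ^ 4 = 1 := hrel _ (by simp [sapsix_relsA])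
  have h3 : z ^ 3 = 1 := hrel _ (by simp [sapsix_relsA])
  have h01 : (z * (a * z * a⁻¹)⁻¹) ^ 2 = 1 := hrel _ (by simp [sapsix_relsA])
  have h02 : (z * (a ^ 2 * z * (a ^ 2)⁻¹)) ^ 2 = 1 := hrel _ (by simp [sapsix_relsA])
  have hW : a⁻¹ * sapsix_WA a z = 1 := hrel _ (by simp [sapsix_relsA])
  have h3i : z⁻¹ ^ 3 = 1 := by rw [inv_pow, h3, inv_one]
  have hc : CarRel (sapsix_xA a z) := by
    refine hSIX1 a (sapsix_xA a z) (-1) (Or.inr rfl) ?_ ?_ ?_ ?_
    · intro i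
      fin_cases i
      · show a * z * a⁻¹ = (a * z⁻¹ * a⁻¹) ^ (-1 : ℤ)
        simp [mul_assoc]
      · show a * (a * z⁻¹ * a⁻¹) * a⁻¹ = (a ^ 2 * z * (a ^ 2)⁻¹) ^ (-1 : ℤ)
        simp [pow_succ, mul_assoc]
      · show a * (a ^ 2 * z * (a ^ 2)⁻¹) * a⁻¹ = (a ^ 3 * z⁻¹ * (a ^ 3)⁻¹) ^ (-1 : ℤ)
        simp [pow_succ, mul_assoc]
      · show a * (a ^ 3 * z⁻¹ * (a ^ 3)⁻¹) * a⁻¹ = z ^ (-1 : ℤ)
        have e : a * (a ^ 3 * z⁻¹ * (a ^ 3)⁻¹) * a⁻¹ = a ^ 4 * z⁻¹ * (a ^ 4)⁻¹ := by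
          simp [pow_succ, mul_assoc]
        rw [e, h4]
        simp
    · intro i
      fin_cases i
      · exact h3
      · exact sapsix_conj_pow3 a z⁻¹ h3i
      · exact sapsix_conj_pow3 (a ^ 2) z h3
      · exact sapsix_conj_pow3 (a ^ 3) z⁻¹ h3i
    · show (z * (a * z⁻¹ * a⁻¹)) ^ 2 = 1
      have e : a * z⁻¹ * a⁻¹ = (a * z * a⁻¹)⁻¹ := by simp [mul_assoc]
      rw [e]
      exact h01
    · exact h02
  have hcar : Finite ↥(Subgroup.closure (Set.range (sapsix_xA a z))) ∧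
      2 * Nat.card ↥(Subgroup.closure (Set.range (sapsix_xA a z))) ≤ (4 + 2).factorial :=
    Cfsg.Agent.Lib.Helper13.SAPCarm.sap_h13_carmichael 4 (sapsix_xA a z) hc.1 hc.2
  obtain ⟨hfin, hcard⟩ := hcar
  have hx : ∀ i, sapsix_xA a z i ∈ Subgroup.closure (Set.range (sapsix_xA a z)) := fun i =>
    Subgroup.subset_closure ⟨i, rfl⟩
  have hz : z ∈ Subgroup.closure (Set.range (sapsix_xA a z)) := hx 0
  have ha : a ∈ Subgroup.closure (Set.range (sapsix_xA a z)) := by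
    have e : a = sapsix_WA a z := inv_mul_eq_one.mp hW
    have hWm : sapsix_WA a z ∈ Subgroup.closure (Set.range (sapsix_xA a z)) := by
      unfold sapsix_WA
      exact Subgroup.mul_mem _ (Subgroup.mul_mem _ (Subgroup.mul_mem _ (Subgroup.mul_mem _ (hx 0)
        (Subgroup.inv_mem _ (hx 3))) (hx 2)) (Subgroup.inv_mem _ (hx 1))) (hx 0)
    rwa [← e] at hWm
  have htop : Subgroup.closure (Set.range (sapsix_xA a z)) = ⊤ := by
    rw [eq_top_iff, ← hgen, Subgroup.closure_le]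
    intro g hg
    rcases hg with rfl | rfl
    · exact ha
    · exact hz
  rw [htop] at hfin hcard
  have hfinG : Finite G := Finite.of_equiv _ Subgroup.topEquiv.toEquiv
  refine ⟨hfinG, ?_⟩
  rw [Subgroup.card_top] at hcard
  have : (4 + 2).factorial = 720 := by decide
  omega

/-- S-case: the abstract group has order at most `720` -/
theorem sapsix_boundS {G : Type} [Group G] (a z : G) (hgen : Subgroup.closure ({a, z} : Set G) = ⊤)
    (hrel : ∀ g ∈ sapsix_relsS a z, g = 1)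
    (hSIX1 : ∀ (a : G) (x : ZMod 4 → G) (ε : ℤ), (ε = 1 ∨ ε = -1) →
      (∀ i, a * x i * a⁻¹ = x (i + 1) ^ ε) → (∀ i, x i ^ 3 = 1) →
      (x 0 * x 1) ^ 2 = 1 → (x 0 * x 2) ^ 2 = 1 → CarRel x)
    (hTR2 : ∀ (N : Subgroup G) [Finite N] (t : G), (∀ x ∈ N, t * x * t⁻¹ ∈ N) → t ^ 2 ∈ N →
      N ⊔ Subgroup.zpowers t = ⊤ → Finite G ∧ Nat.card G ≤ 2 * Nat.card N) :
    Finite G ∧ Nat.card G ≤ 720 := by
  have h4 : a ^ 4 = 1 := hrel _ (by simp [sapsix_relsS])
  have h3 : z ^ 3 = 1 := hrel _ (by simp [sapsix_relsS])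
  have h01 : (z * (a * z * a⁻¹)) ^ 2 = 1 := hrel _ (by simp [sapsix_relsS])
  have h02 : (z * (a ^ 2 * z * (a ^ 2)⁻¹)) ^ 2 = 1 := hrel _ (by simp [sapsix_relsS])
  have hW : (a ^ 2)⁻¹ * sapsix_WS a z = 1 := hrel _ (by simp [sapsix_relsS])
  have hconj : ∀ i, a * sapsix_xS a z i * a⁻¹ = sapsix_xS a z (i + 1) ^ (1 : ℤ) := by
    intro i
    fin_cases i
    · show a * z * a⁻¹ = (a * z * a⁻¹) ^ (1 : ℤ)
      simp
    · show a * (a * z * a⁻¹) * a⁻¹ = (a ^ 2 * z * (a ^ 2)⁻¹) ^ (1 : ℤ)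
      simp [pow_succ, mul_assoc]
    · show a * (a ^ 2 * z * (a ^ 2)⁻¹) * a⁻¹ = (a ^ 3 * z * (a ^ 3)⁻¹) ^ (1 : ℤ)
      simp [pow_succ, mul_assoc]
    · show a * (a ^ 3 * z * (a ^ 3)⁻¹) * a⁻¹ = z ^ (1 : ℤ)
      have e : a * (a ^ 3 * z * (a ^ 3)⁻¹) * a⁻¹ = a ^ 4 * z * (a ^ 4)⁻¹ := by
        simp [pow_succ, mul_assoc]
      rw [e, h4]
      simp
  have hc : CarRel (sapsix_xS a z) := by
    refine hSIX1 a (sapsix_xS a z) 1 (Or.inl rfl) hconj ?_ h01 h02
    intro i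
    fin_cases i
    · exact h3
    · exact sapsix_conj_pow3 a z h3
    · exact sapsix_conj_pow3 (a ^ 2) z h3
    · exact sapsix_conj_pow3 (a ^ 3) z h3
  have hcar : Finite ↥(Subgroup.closure (Set.range (sapsix_xS a z))) ∧
      2 * Nat.card ↥(Subgroup.closure (Set.range (sapsix_xS a z))) ≤ (4 + 2).factorial :=
    Cfsg.Agent.Lib.Helper13.SAPCarm.sap_h13_carmichael 4 (sapsix_xS a z) hc.1 hc.2
  obtain ⟨hfin, hcard⟩ := hcar
  have hx : ∀ i, sapsix_xS a z i ∈ Subgroup.closure (Set.range (sapsix_xS a z)) := fun i =>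
    Subgroup.subset_closure ⟨i, rfl⟩
  have hz : z ∈ Subgroup.closure (Set.range (sapsix_xS a z)) := hx 0
  have ha2 : a ^ 2 ∈ Subgroup.closure (Set.range (sapsix_xS a z)) := by
    have e : a ^ 2 = sapsix_WS a z := inv_mul_eq_one.mp hW
    have hWm : sapsix_WS a z ∈ Subgroup.closure (Set.range (sapsix_xS a z)) := by
      unfold sapsix_WS
      exact Subgroup.mul_mem _ (Subgroup.mul_mem _ (Subgroup.mul_mem _ (Subgroup.mul_mem _
        (Subgroup.mul_mem _ (hx 0) (hx 1)) (hx 2)) (Subgroup.inv_mem _ (hx 0)))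
        (Subgroup.inv_mem _ (hx 3))) (hx 1)
    rwa [← e] at hWm
  have hn : ∀ g ∈ Subgroup.closure (Set.range (sapsix_xS a z)),
      a * g * a⁻¹ ∈ Subgroup.closure (Set.range (sapsix_xS a z)) := by
    intro g hg
    induction hg using Subgroup.closure_induction with
    | mem g hg =>
      obtain ⟨i, rfl⟩ := hg
      rw [hconj i, zpow_one]
      exact hx _
    | one => simp
    | mul g h _ _ ihg ihh =>
      have e : a * (g * h) * a⁻¹ = (a * g * a⁻¹) * (a * h * a⁻¹) := by simp [mul_assoc]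
      rw [e]
      exact Subgroup.mul_mem _ ihg ihh
    | inv g _ ihg =>
      have e : a * g⁻¹ * a⁻¹ = (a * g * a⁻¹)⁻¹ := by simp [mul_assoc]
      rw [e]
      exact Subgroup.inv_mem _ ihg
  have hsup : Subgroup.closure (Set.range (sapsix_xS a z)) ⊔ Subgroup.zpowers a = ⊤ := by
    rw [eq_top_iff, ← hgen, Subgroup.closure_le]
    intro g hg
    rcases hg with rfl | rfl
    · exact Subgroup.mem_sup_right (Subgroup.mem_zpowers g)
    · exact Subgroup.mem_sup_left hz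
  obtain ⟨hfinG, hle⟩ := hTR2 (Subgroup.closure (Set.range (sapsix_xS a z))) a hn ha2 hsup
  refine ⟨hfinG, ?_⟩
  have : (4 + 2).factorial = 720 := by decide
  omega

/-! ### the concrete permutations of `Fin 6` -/

/-- `(0 1 2 3)(4 5)` -/
def sapsix_aA : Perm (Fin 6) := swap 0 1 * swap 1 2 * swap 2 3 * swap 4 5
/-- `(0 1 2 3)` -/
def sapsix_aS : Perm (Fin 6) := swap 0 1 * swap 1 2 * swap 2 3
/-- `(0 4 5)` -/
def sapsix_z : Perm (Fin 6) := c3 0 4 5

theorem sapsix_relsA_perm : ∀ g ∈ sapsix_relsA sapsix_aA sapsix_z, g = 1 := by decide +kernel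

theorem sapsix_relsS_perm : ∀ g ∈ sapsix_relsS sapsix_aS sapsix_z, g = 1 := by decide +kernel

theorem sapsix_xA_perm : sapsix_xA sapsix_aA sapsix_z 0 = c3 0 4 5 ∧
    sapsix_xA sapsix_aA sapsix_z 1 = c3 1 4 5 ∧ sapsix_xA sapsix_aA sapsix_z 2 = c3 2 4 5 ∧
    sapsix_xA sapsix_aA sapsix_z 3 = c3 3 4 5 := by decide +kernel

theorem sapsix_xS_perm : sapsix_xS sapsix_aS sapsix_z 0 = c3 0 4 5 ∧
    sapsix_xS sapsix_aS sapsix_z 1 = c3 1 4 5 ∧ sapsix_xS sapsix_aS sapsix_z 2 = c3 2 4 5 ∧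
    sapsix_xS sapsix_aS sapsix_z 3 = c3 3 4 5 := by decide +kernel

theorem sapsix_sign_aA : Perm.sign sapsix_aA = 1 := by decide
theorem sapsix_sign_aS : Perm.sign sapsix_aS = -1 := by decide
theorem sapsix_sign_z : Perm.sign sapsix_z = 1 := by decide

/-- the members of the families lie in the group generated by `a`, `z` -/
theorem sapsix_xA_mem {G : Type*} [Group G] (a z : G) (i : ZMod 4) :
    sapsix_xA a z i ∈ Subgroup.closure ({a, z} : Set G) := by
  have ha : a ∈ Subgroup.closure ({a, z} : Set G) := Subgroup.subset_closure (by simp)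
  have hz : z ∈ Subgroup.closure ({a, z} : Set G) := Subgroup.subset_closure (by simp)
  have hc : ∀ g w : G, g ∈ Subgroup.closure ({a, z} : Set G) → w ∈ Subgroup.closure ({a, z} : Set G) →
      g * w * g⁻¹ ∈ Subgroup.closure ({a, z} : Set G) := fun g w hg hw =>
    Subgroup.mul_mem _ (Subgroup.mul_mem _ hg hw) (Subgroup.inv_mem _ hg)
  fin_cases i
  · exact hz
  · exact hc a z⁻¹ ha (Subgroup.inv_mem _ hz)
  · exact hc (a ^ 2) z (Subgroup.pow_mem _ ha 2) hz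
  · exact hc (a ^ 3) z⁻¹ (Subgroup.pow_mem _ ha 3) (Subgroup.inv_mem _ hz)

theorem sapsix_xS_mem {G : Type*} [Group G] (a z : G) (i : ZMod 4) :
    sapsix_xS a z i ∈ Subgroup.closure ({a, z} : Set G) := by
  have ha : a ∈ Subgroup.closure ({a, z} : Set G) := Subgroup.subset_closure (by simp)
  have hz : z ∈ Subgroup.closure ({a, z} : Set G) := Subgroup.subset_closure (by simp)
  have hc : ∀ g w : G, g ∈ Subgroup.closure ({a, z} : Set G) → w ∈ Subgroup.closure ({a, z} : Set G) →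
      g * w * g⁻¹ ∈ Subgroup.closure ({a, z} : Set G) := fun g w hg hw =>
    Subgroup.mul_mem _ (Subgroup.mul_mem _ hg hw) (Subgroup.inv_mem _ hg)
  fin_cases i
  · exact hz
  · exact hc a z ha hz
  · exact hc (a ^ 2) z (Subgroup.pow_mem _ ha 2) hz
  · exact hc (a ^ 3) z (Subgroup.pow_mem _ ha 3) hz

/-- all `c3 y 4 5` lie in a subgroup containing the four with `y ≤ 3` -/
theorem sapsix_c3_mem (H : Subgroup (Perm (Fin 6))) (h0 : c3 (0 : Fin 6) 4 5 ∈ H) (h1 : c3 (1 : Fin 6) 4 5 ∈ H)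
    (h2 : c3 (2 : Fin 6) 4 5 ∈ H) (h3 : c3 (3 : Fin 6) 4 5 ∈ H) :
    Subgroup.closure (Set.range fun y : {y : Fin 6 // y ≠ 4 ∧ y ≠ 5} => c3 (y : Fin 6) 4 5) ≤ H := by
  rw [Subgroup.closure_le]
  rintro _ ⟨⟨y, hy4, hy5⟩, rfl⟩
  fin_cases y
  · exact h0
  · exact h1
  · exact h2
  · exact h3
  · exact absurd rfl hy4
  · exact absurd rfl hy5

theorem sapsix_closureA
    (hALT3 : Subgroup.closure (Set.range fun y : {y : Fin 6 // y ≠ 4 ∧ y ≠ 5} => c3 (y : Fin 6) 4 5) =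
      alternatingGroup (Fin 6)) :
    Subgroup.closure ({sapsix_aA, sapsix_z} : Set (Perm (Fin 6))) = alternatingGroup (Fin 6) := by
  apply le_antisymm
  · rw [Subgroup.closure_le]
    intro g hg
    rcases hg with rfl | rfl
    · exact Equiv.Perm.mem_alternatingGroup.mpr sapsix_sign_aA
    · exact Equiv.Perm.mem_alternatingGroup.mpr sapsix_sign_z
  · rw [← hALT3]
    obtain ⟨e0, e1, e2, e3⟩ := sapsix_xA_perm
    exact sapsix_c3_mem _ (e0 ▸ sapsix_xA_mem _ _ 0) (e1 ▸ sapsix_xA_mem _ _ 1) (e2 ▸ sapsix_xA_mem _ _ 2)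
      (e3 ▸ sapsix_xA_mem _ _ 3)

theorem sapsix_closureS
    (hALT3 : Subgroup.closure (Set.range fun y : {y : Fin 6 // y ≠ 4 ∧ y ≠ 5} => c3 (y : Fin 6) 4 5) =
      alternatingGroup (Fin 6)) :
    Subgroup.closure ({sapsix_aS, sapsix_z} : Set (Perm (Fin 6))) = ⊤ := by
  have hA : alternatingGroup (Fin 6) ≤ Subgroup.closure ({sapsix_aS, sapsix_z} : Set (Perm (Fin 6))) := by
    rw [← hALT3]
    obtain ⟨e0, e1, e2, e3⟩ := sapsix_xS_perm
    exact sapsix_c3_mem _ (e0 ▸ sapsix_xS_mem _ _ 0) (e1 ▸ sapsix_xS_mem _ _ 1) (e2 ▸ sapsix_xS_mem _ _ 2)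
      (e3 ▸ sapsix_xS_mem _ _ 3)
  have ha : sapsix_aS ∈ Subgroup.closure ({sapsix_aS, sapsix_z} : Set (Perm (Fin 6))) :=
    Subgroup.subset_closure (by simp)
  rw [eq_top_iff]
  intro σ _
  rcases Int.units_eq_one_or (Perm.sign σ) with h | h
  · exact hA (Equiv.Perm.mem_alternatingGroup.mpr h)
  · have h1 : σ * sapsix_aS⁻¹ ∈ alternatingGroup (Fin 6) := by
      rw [Equiv.Perm.mem_alternatingGroup, Perm.sign_mul, Perm.sign_inv, h, sapsix_sign_aS]
      decide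
    have := Subgroup.mul_mem _ (hA h1) ha
    rwa [inv_mul_cancel_right] at this

/-! ### the presented groups -/

theorem sapsix_range_fin2 {G : Type*} (f : Fin 2 → G) : Set.range f = {f 0, f 1} := by
  ext g
  simp [Fin.exists_fin_two, eq_comm]

/-- generic part: a list of relators `R wA wG` (natural in the group), a pair `a z` of permutations satisfying
them and generating `K`, and the order bound `card ≤ card K` give the presentation of `K`. -/
theorem sapsix_pres (R : ∀ {G : Type} [Group G], G → G → List G)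
    (hR : ∀ {G H : Type} [Group G] [Group H] (φ : G →* H) (a z : G), (R a z).map φ = R (φ a) (φ z))
    (a z : Perm (Fin 6)) (hperm : ∀ g ∈ R a z, g = 1) (K : Subgroup (Perm (Fin 6)))
    (hK : Subgroup.closure ({a, z} : Set (Perm (Fin 6))) = K)
    (hbound : ∀ {G : Type} [Group G] (a z : G), Subgroup.closure ({a, z} : Set G) = ⊤ →
      (∀ g ∈ R a z, g = 1) → Finite G ∧ Nat.card G ≤ Nat.card K) :
    ∃ rels : Finset (FreeGroup (Fin 2)), rels.card ≤ (R wA wG).length ∧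
      Nonempty (PresentedGroup (↑rels : Set (FreeGroup (Fin 2))) ≃* K) := by
  classical
  refine ⟨(R wA wG).toFinset, List.toFinset_card_le _, ?_⟩
  have hmem : ∀ r, r ∈ (↑(R wA wG).toFinset : Set (FreeGroup (Fin 2))) ↔ r ∈ R wA wG := by
    intro r
    simp
  -- the relators hold in the presented group
  have hP : ∀ g ∈ R (PresentedGroup.of (rels := (↑(R wA wG).toFinset : Set (FreeGroup (Fin 2)))) 0)
      (PresentedGroup.of 1), g = 1 := by
    have e := hR (PresentedGroup.mk (↑(R wA wG).toFinset : Set (FreeGroup (Fin 2)))) wA wG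
    intro g hg
    have hg' : g ∈ (R wA wG).map (PresentedGroup.mk (↑(R wA wG).toFinset : Set (FreeGroup (Fin 2)))) := by
      rw [e]
      exact hg
    obtain ⟨r, hr, rfl⟩ := List.mem_map.mp hg'
    exact PresentedGroup.one_of_mem ((hmem r).mpr hr)
  have hgenP : Subgroup.closure ({PresentedGroup.of (rels := (↑(R wA wG).toFinset : Set (FreeGroup (Fin 2)))) 0,
      PresentedGroup.of 1} : Set (PresentedGroup (↑(R wA wG).toFinset : Set (FreeGroup (Fin 2))))) = ⊤ := by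
    rw [← sapsix_range_fin2, PresentedGroup.closure_range_of]
  obtain ⟨hfin, hcard⟩ := hbound _ _ hgenP hP
  -- the homomorphism to the permutations
  have hlift : ∀ r ∈ (↑(R wA wG).toFinset : Set (FreeGroup (Fin 2))), FreeGroup.lift ![a, z] r = 1 := by
    intro r hr
    have e := hR (FreeGroup.lift ![a, z]) wA wG
    have h1 : FreeGroup.lift ![a, z] r ∈ (R wA wG).map (FreeGroup.lift ![a, z]) :=
      List.mem_map.mpr ⟨r, (hmem r).mp hr, rfl⟩
    rw [e] at h1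
    have ea : FreeGroup.lift ![a, z] wA = a := by simp [wA]
    have ez : FreeGroup.lift ![a, z] wG = z := by simp [wG]
    rw [ea, ez] at h1
    exact hperm _ h1
  let fP : PresentedGroup (↑(R wA wG).toFinset : Set (FreeGroup (Fin 2))) →* Perm (Fin 6) :=
    PresentedGroup.toGroup hlift
  have hf0 : fP (PresentedGroup.of 0) = a := by
    show PresentedGroup.toGroup hlift (PresentedGroup.of 0) = a
    rw [PresentedGroup.toGroup.of]
    rfl
  have hf1 : fP (PresentedGroup.of 1) = z := by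
    show PresentedGroup.toGroup hlift (PresentedGroup.of 1) = z
    rw [PresentedGroup.toGroup.of]
    rfl
  have hrange : fP.range = K := by
    rw [MonoidHom.range_eq_map, ← hgenP, MonoidHom.map_closure, ← hK]
    congr 1
    ext g
    simp [hf0, hf1, eq_comm]
  let f : PresentedGroup (↑(R wA wG).toFinset : Set (FreeGroup (Fin 2))) →* K :=
    fP.codRestrict K (fun x => hrange ▸ MonoidHom.mem_range.mpr ⟨x, rfl⟩)
  have hsurj : Function.Surjective f := by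
    intro y
    have hy : (y : Perm (Fin 6)) ∈ fP.range := hrange ▸ y.2
    obtain ⟨x, hx⟩ := MonoidHom.mem_range.mp hy
    exact ⟨x, Subtype.ext hx⟩
  have hbij : Function.Bijective f := hsurj.bijective_of_nat_card_le hcard
  exact ⟨MulEquiv.ofBijective f hbij⟩

theorem sapsix_card_A6 : Nat.card (alternatingGroup (Fin 6)) = 360 := by
  have h := two_mul_nat_card_alternatingGroup (α := Fin 6)
  rw [Nat.card_perm, Nat.card_fin] at h
  have : (6 : ℕ).factorial = 720 := by decide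
  omega

theorem sapsix_card_S6 : Nat.card (⊤ : Subgroup (Perm (Fin 6))) = 720 := by
  rw [Subgroup.card_top, Nat.card_perm, Nat.card_fin]
  decide

/-- SIX2 core: `pres_A6` from the statements of SIX1 (`cyc4_carRel`) and ALT3 (`altgen` at `Fin 6`, `4`, `5`) -/
theorem sapsix2_core
    (hSIX1 : ∀ {G : Type} [Group G] (a : G) (x : ZMod 4 → G) (ε : ℤ), (ε = 1 ∨ ε = -1) →
      (∀ i, a * x i * a⁻¹ = x (i + 1) ^ ε) → (∀ i, x i ^ 3 = 1) →
      (x 0 * x 1) ^ 2 = 1 → (x 0 * x 2) ^ 2 = 1 → CarRel x)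
    (hALT3 : Subgroup.closure (Set.range fun y : {y : Fin 6 // y ≠ 4 ∧ y ≠ 5} => c3 (y : Fin 6) 4 5) =
      alternatingGroup (Fin 6)) :
    ∃ rels : Finset (FreeGroup (Fin 2)), rels.card ≤ 7 ∧
      Nonempty (PresentedGroup (↑rels : Set (FreeGroup (Fin 2))) ≃* alternatingGroup (Fin 6)) := by
  obtain ⟨rels, hc, he⟩ := sapsix_pres (fun a z => sapsix_relsA a z)
    (fun φ a z => sapsix_map_relsA φ a z) sapsix_aA sapsix_z sapsix_relsA_perm
    (alternatingGroup (Fin 6)) (sapsix_closureA hALT3) (fun a z hgen hrel => by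
      obtain ⟨hf, hc⟩ := sapsix_boundA a z hgen hrel (fun a x ε => hSIX1 a x ε)
      exact ⟨hf, hc.trans sapsix_card_A6.ge⟩)
  exact ⟨rels, hc.trans (by simp [sapsix_relsA]), he⟩

/-- SIX3 core: `pres_S6` from the statements of SIX1, ALT3 and TR2 (`index_two_bound`) -/
theorem sapsix3_core
    (hSIX1 : ∀ {G : Type} [Group G] (a : G) (x : ZMod 4 → G) (ε : ℤ), (ε = 1 ∨ ε = -1) →
      (∀ i, a * x i * a⁻¹ = x (i + 1) ^ ε) → (∀ i, x i ^ 3 = 1) →
      (x 0 * x 1) ^ 2 = 1 → (x 0 * x 2) ^ 2 = 1 → CarRel x)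
    (hALT3 : Subgroup.closure (Set.range fun y : {y : Fin 6 // y ≠ 4 ∧ y ≠ 5} => c3 (y : Fin 6) 4 5) =
      alternatingGroup (Fin 6))
    (hTR2 : ∀ {G : Type} [Group G] (N : Subgroup G) [Finite N] (t : G), (∀ x ∈ N, t * x * t⁻¹ ∈ N) →
      t ^ 2 ∈ N → N ⊔ Subgroup.zpowers t = ⊤ → Finite G ∧ Nat.card G ≤ 2 * Nat.card N) :
    ∃ rels : Finset (FreeGroup (Fin 2)), rels.card ≤ 7 ∧
      Nonempty (PresentedGroup (↑rels : Set (FreeGroup (Fin 2))) ≃* Perm (Fin 6)) := by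
  obtain ⟨rels, hc, ⟨e⟩⟩ := sapsix_pres (fun a z => sapsix_relsS a z)
    (fun φ a z => sapsix_map_relsS φ a z) sapsix_aS sapsix_z sapsix_relsS_perm
    ⊤ (sapsix_closureS hALT3) (fun a z hgen hrel => by
      obtain ⟨hf, hc⟩ := sapsix_boundS a z hgen hrel (fun a x ε => hSIX1 a x ε)
        (fun N _ t => hTR2 N t)
      exact ⟨hf, hc.trans sapsix_card_S6.ge⟩)
  exact ⟨rels, hc.trans (by simp [sapsix_relsS]), ⟨e.trans Subgroup.topEquiv⟩⟩

end Cfsg.Agent.Lib.helper7.SAP
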