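import Cfsg.Agent.Lib.helper7.SAP.Defs
import Cfsg.Agent.Lib.Helper16.SAPSIXcore
import Cfsg.Agent.Lib.Helper10.SAPSIX1
import Cfsg.Agent.Lib.Helper10.SAPTR2
import Cfsg.Agent.Lib.Helper26.SAPALT3

/-!
Project SAP (designer helper7; S2284 + S2297), rows SIX2 (`pres_A6`) and SIX3 (`pres_S6`), by helper16:
the cores of `Cfsg.Agent.Lib.Helper16.SAPSIXcore` applied to the landed rows SIX1, ALT3, TR2.
-/

namespace Cfsg.Agent.Lib.helper7.SAP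

universe u

open Equiv

section small

/-- SIX2 [M-H]: `A_6 = ⟨a, z | a^4, z^3, (z (a z a⁻¹)⁻¹)^2, (z a² z a⁻²)^2, a⁻¹ W⟩` with
`a ↦ (0 1 2 3)(* *')`, `z ↦ (0 * *')` on `Pt 4 0`; `x_i = a^i z^(±1) a^-i` (SIX1, CAR3, ALT3). -/
theorem pres_A6 : ∃ rels : Finset (FreeGroup (Fin 2)), rels.card ≤ 7 ∧
    Nonempty (PresentedGroup (↑rels : Set (FreeGroup (Fin 2))) ≃* alternatingGroup (Fin 6)) :=
  sapsix2_core (fun a x ε => cyc4_carRel a x ε) (altgen (4 : Fin 6) 5 (by decide))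

/-- SIX3 [M-H]: `S_6 = ⟨a, z | a^4, z^3, (z a z a⁻¹)^2, (z a² z a⁻²)^2, a⁻² W⟩` with `a ↦ (0 1 2 3)`
(SIX1, CAR3, ALT3, TR2). -/
theorem pres_S6 : ∃ rels : Finset (FreeGroup (Fin 2)), rels.card ≤ 7 ∧
    Nonempty (PresentedGroup (↑rels : Set (FreeGroup (Fin 2))) ≃* Perm (Fin 6)) :=
  sapsix3_core (fun a x ε => cyc4_carRel a x ε) (altgen (4 : Fin 6) 5 (by decide))
    (fun N _ t => index_two_bound N t)

end small

end Cfsg.Agent.Lib.helper7.SAP
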