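import Mathlib
import Cfsg.Agent.Lib.Helper16.SL7Z1core
import Cfsg.Agent.Lib.Helper20.SL7Z0a
import Cfsg.Agent.Lib.Helper22.SL7Z0b

/-!
Project SL7 (designer helper1; skeleton 2, S2288), row Z1 `zform` (helper16): verbatim wrapper of `sl7z1_core` on the landed rows
Z0a (helper20) and Z0b (helper22).
-/

set_option autoImplicit false

namespace Cfsg.Agent.Lib.Helper1.SLN

open Matrix Equiv

universe u v w

section Z

variable {F : Type u} [Field F] {G : Type v} [Group G]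

/-- Z1 [M] -/
theorem zform (M : ℕ) (α : alternatingGroup (Fin (M + 4)) →* G)
    (β : Matrix.SpecialLinearGroup (Fin 3) F →* G) (h2c : α (c3 M) = β cM)
    (ν : alternatingGroup (Fin (M + 4)))
    (h0 : (ν : Equiv.Perm (Fin (M + 4))) (i0 M) = i1 M) (h1 : (ν : Equiv.Perm (Fin (M + 4))) (i1 M) = i0 M)
    (h2 : (ν : Equiv.Perm (Fin (M + 4))) (i2 M) = i2 M)
    (y : Matrix.SpecialLinearGroup (Fin 3) F)
    (hy : Subgroup.closure ({y, cM} : Set (Matrix.SpecialLinearGroup (Fin 3) F)) = ⊤)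
    (r1 : Commute (α ν * (β fM)⁻¹) (β y)) :
    (∀ A : Matrix.SpecialLinearGroup (Fin 3) F, α ν * β A * (α ν)⁻¹ = β (fM * A * fM⁻¹)) ∧
      ∀ A : Matrix.SpecialLinearGroup (Fin 3) F, Commute (α (ν * ν)) (β A) :=
  sl7z1_core M α β h2c ν fM_mul_self fM_inv fM_conj_cM (nu_conj_c3 M ν h0 h1 h2) y hy r1

end Z

end Cfsg.Agent.Lib.Helper1.SLN
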