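import Mathlib
import Cfsg.Agent.Lib.helper17.SLP.Defs
import Cfsg.Agent.Lib.helper17.SLN.Defs
import Cfsg.Agent.Lib.helper17.SLN.P1

/-!
Project SLN (designer helper17; S2290), row P4 (`words_of_glue`), by helper16: the 28 gluing words evaluate to `1`
in a group with `Glue`.
-/

set_option autoImplicit false

namespace Cfsg.Agent.Lib.helper17.SLN

open Cfsg.Agent.Lib.helper17.SLP

universe u v w v'

section P

variable {F : Type u} [Field F] {ι : Type w} [Fintype ι] [DecidableEq ι]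

theorem slnp4_xr_ne {G : Type v} [Group G] (p : Pts ι) (ν : alternatingGroup ι →* G)
    (φ : Matrix.SpecialLinearGroup (Fin 2) F →* G) (i j : ι) (hij : i ≠ j) (t : F) :
    xr p ν φ i j t = phiR p ν φ i j (xM t) := by
  unfold xr
  rw [if_neg hij]

theorem slnp4_cm_one {G : Type v} [Group G] (x y : G) (h : Commute x y) : cm x y = 1 :=
  (cm_eq_one_iff x y).mpr h

/-- the three words of `wordsStab` -/
theorem slnp4_stab {G : Type v} [Group G] (p : Pts ι) (ζ : Fˣ) (wN : alternatingGroup ι → FreeGroup (Fin 2))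
    (wL : Matrix.SpecialLinearGroup (Fin 2) F → FreeGroup (Fin 3)) (g : alternatingGroup ι)
    (hg : ((g : Equiv.Perm ι) p.o0 = p.o0 ∧ (g : Equiv.Perm ι) p.o1 = p.o1) ∨
        ((g : Equiv.Perm ι) p.o0 = p.o1 ∧ (g : Equiv.Perm ι) p.o1 = p.o0))
    (a b u h w : G) (ν : alternatingGroup ι →* G)
    (φ : Matrix.SpecialLinearGroup (Fin 2) F →* G)
    (hν : ∀ σ, ν σ = ev2 a b (wN σ)) (hφ : ∀ m, φ m = ev u h w (wL m)) (H : Glue p ζ ν φ) :
    ∀ r ∈ wordsStab p ζ wN wL g, ev5 a b u h w r = 1 := by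
  have key : ∀ m : Matrix.SpecialLinearGroup (Fin 2) F,
      ev5 a b u h w (Wc wN wL g m * (inL (wL (swIf p g m)))⁻¹) = 1 := by
    intro m
    rw [map_mul, map_inv, ev5_Wc wN wL a b u h w ν φ hν hφ, ev5_inL, ← hφ, mul_inv_eq_one]
    show ν g * φ m * (ν g)⁻¹ = φ (swIf p g m)
    rcases hg with ⟨h0, h1⟩ | ⟨h0, h1⟩
    · have hne : ¬ (g : Equiv.Perm ι) p.o0 = p.o1 := by
        rw [h0]
        exact p.h01
      unfold swIf
      rw [if_neg hne]
      exact H.stab1 g h0 h1 m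
    · unfold swIf
      rw [if_pos h0]
      exact H.stab2 g h0 h1 m
  intro r hr
  simp only [wordsStab, List.mem_cons, List.not_mem_nil, or_false] at hr
  rcases hr with rfl | rfl | rfl
  · exact key _
  · exact key _
  · exact key _

theorem words_of_glue (p : Pts ι) (ζ : Fˣ) (wN : alternatingGroup ι → FreeGroup (Fin 2))
    (wL : Matrix.SpecialLinearGroup (Fin 2) F → FreeGroup (Fin 3)) (g₁ g₂ c : alternatingGroup ι)
    (hg : ∀ g ∈ ({g₁, g₂} : Set (alternatingGroup ι)),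
      ((g : Equiv.Perm ι) p.o0 = p.o0 ∧ (g : Equiv.Perm ι) p.o1 = p.o1) ∨
        ((g : Equiv.Perm ι) p.o0 = p.o1 ∧ (g : Equiv.Perm ι) p.o1 = p.o0))
    (hc : (c : Equiv.Perm ι) = cyc3 p.o0 p.o2 p.o1)
    {G : Type v} [Group G] (a b u h w : G) (ν : alternatingGroup ι →* G)
    (φ : Matrix.SpecialLinearGroup (Fin 2) F →* G)
    (hν : ∀ σ, ν σ = ev2 a b (wN σ)) (hφ : ∀ m, φ m = ev u h w (wL m)) (H : Glue p ζ ν φ) :
    ∀ r ∈ wordsGlue p ζ wN wL g₁ g₂ c, ev5 a b u h w r = 1 := by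
  have hWr : ∀ i j m, ev5 a b u h w (Wr p wN wL i j m) = phiR p ν φ i j m :=
    fun i j m => ev5_Wr p wN wL a b u h w ν φ hν hφ i j m
  have x01 := slnp4_xr_ne p ν φ p.o0 p.o1 p.h01
  have x10 := slnp4_xr_ne p ν φ p.o1 p.o0 p.h01.symm
  have x02 := slnp4_xr_ne p ν φ p.o0 p.o2 p.h02
  have x20 := slnp4_xr_ne p ν φ p.o2 p.o0 p.h02.symm
  have x12 := slnp4_xr_ne p ν φ p.o1 p.o2 p.h12
  have x21 := slnp4_xr_ne p ν φ p.o2 p.o1 p.h12.symm
  intro r hr
  unfold wordsGlue at hr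
  simp only [List.mem_append] at hr
  rcases hr with ((((hr | hr) | hr) | hr) | hr) | hr
  · exact slnp4_stab p ζ wN wL g₁ (hg g₁ (by simp)) a b u h w ν φ hν hφ H r hr
  · exact slnp4_stab p ζ wN wL g₂ (hg g₂ (by simp)) a b u h w ν φ hν hφ H r hr
  · -- wordsDisj
    simp only [wordsDisj, List.mem_cons, List.not_mem_nil, or_false] at hr
    rcases hr with rfl | rfl | rfl | rfl | rfl | rfl | rfl | rfl | rfl <;>
      (rw [map_cm, hWr, hWr]; exact slnp4_cm_one _ _ (H.disj _ _))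
  · -- wordsTor
    simp only [wordsTor, List.mem_cons, List.not_mem_nil, or_false] at hr
    rcases hr with rfl | rfl | rfl | rfl | rfl | rfl
    · rw [map_cm, hWr, hWr]
      exact slnp4_cm_one _ _ H.T1
    · rw [map_cm, hWr, hWr]
      exact slnp4_cm_one _ _ H.T1'
    · simp only [map_mul, map_inv, hWr]
      rw [mul_inv_eq_one, ← x01, ← x01]
      exact H.T2
    · simp only [map_mul, map_inv, hWr]
      rw [mul_inv_eq_one, ← x01, ← x01]
      exact H.T3
    · simp only [map_mul, map_inv, hWr]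
      rw [mul_inv_eq_one, ← x10, ← x10]
      exact H.T2m
    · simp only [map_mul, map_inv, hWr]
      rw [mul_inv_eq_one, ← x10, ← x10]
      exact H.T3m
  · -- wordsCom
    simp only [wordsCom, List.mem_cons, List.not_mem_nil, or_false] at hr
    rcases hr with rfl | rfl | rfl | rfl | rfl | rfl
    · rw [map_mul, map_inv, map_cm, hWr, hWr, hWr, mul_inv_eq_one, ← x01, ← x12, ← x02]
      exact H.C1
    · rw [map_cm, hWr, hWr, ← x01, ← x02]
      exact slnp4_cm_one _ _ H.C2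
    · rw [map_cm, hWr, hWr, ← x01, ← x21]
      exact slnp4_cm_one _ _ H.C3
    · rw [map_mul, map_inv, map_cm, hWr, hWr, hWr, mul_inv_eq_one, ← x10, ← x02, ← x12]
      exact H.C1m
    · rw [map_cm, hWr, hWr, ← x10, ← x12]
      exact slnp4_cm_one _ _ H.C2m
    · rw [map_cm, hWr, hWr, ← x10, ← x20]
      exact slnp4_cm_one _ _ H.C3m
  · -- wordGen
    simp only [List.mem_cons, List.not_mem_nil, or_false] at hr
    subst hr
    unfold wordGen
    rw [map_mul, map_inv, map_mul, hWr, hWr, ev5_inN, ← hν, mul_inv_eq_one]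
    exact H.gen c hc

end P

end Cfsg.Agent.Lib.helper17.SLN
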