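import Cfsg.Agent.Lib.Helper26.SympRoot
import Cfsg.Agent.S0246
import Cfsg.Agent.Lib.helper6.SympBasis

set_option autoImplicit false
set_option linter.unusedSectionVars false
set_option linter.unusedVariables false

namespace Cfsg.Agent.Lib.Helper16.SPA

open Matrix Cfsg.Agent.Lib.helper6 Cfsg.Agent.Lib.helper6.SB Cfsg.Agent.Lib.Helper26

variable {F : Type*} [Field F] {m : ℕ}

/-- the quotient map `Sp → PSp`. -/
def mkP (m : ℕ) (F : Type*) [Field F] : ↥(Matrix.symplecticGroup (Fin m) F) →* Cfsg.PSp m F :=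
  QuotientGroup.mk' _

theorem mkP_surjective : Function.Surjective (mkP m F) := QuotientGroup.mk'_surjective _

theorem mkP_eq_iff (a b : ↥(Matrix.symplecticGroup (Fin m) F)) :
    mkP m F a = mkP m F b ↔ a⁻¹ * b ∈ Subgroup.center ↥(Matrix.symplecticGroup (Fin m) F) :=
  QuotientGroup.eq

theorem mkP_eq_cases (hm : 1 ≤ m) (a b : ↥(Matrix.symplecticGroup (Fin m) F))
    (h : mkP m F a = mkP m F b) : b = a ∨ b = a * Cfsg.Agent.S0246.negOne F m := by
  rw [mkP_eq_iff] at h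
  rcases Cfsg.Agent.S0246.center_cases hm _ h with h1 | h1
  · left
    have := congrArg (fun x => a * x) h1
    simpa using this
  · right
    have := congrArg (fun x => a * x) h1
    simpa using this

theorem negOne_mulVec (x : Fin m ⊕ Fin m → F) :
    (Cfsg.Agent.S0246.negOne F m).1 *ᵥ x = -x := by
  rw [Cfsg.Agent.S0246.negOne_coe, Matrix.neg_mulVec, Matrix.one_mulVec]

theorem negOne_eq_one_of_two (h2 : (2 : F) = 0) : Cfsg.Agent.S0246.negOne F m = 1 := by
  apply sp_ext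
  intro x
  rw [negOne_mulVec, sp_one_mulVec]
  have : x + x = 0 := by
    rw [← two_smul F x, h2, zero_smul]
  exact neg_eq_of_add_eq_zero_left this

/-- proportional vectors -/
def par {ι : Type*} (u v : ι → F) : Prop := ∃ c : F, c ≠ 0 ∧ v = c • u

theorem par_refl {ι : Type*} (u : ι → F) : par u u := ⟨1, one_ne_zero, (one_smul _ _).symm⟩

theorem par_symm {ι : Type*} {u v : ι → F} (h : par u v) : par v u := by
  obtain ⟨c, hc, rfl⟩ := h
  exact ⟨c⁻¹, inv_ne_zero hc, by rw [smul_smul, inv_mul_cancel₀ hc, one_smul]⟩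

theorem par_trans {ι : Type*} {u v w : ι → F} (h : par u v) (h' : par v w) : par u w := by
  obtain ⟨c, hc, rfl⟩ := h
  obtain ⟨d, hd, rfl⟩ := h'
  exact ⟨d * c, mul_ne_zero hd hc, by rw [smul_smul]⟩

theorem par_ne_zero {ι : Type*} {u v : ι → F} (h : par u v) (hu : u ≠ 0) : v ≠ 0 := by
  obtain ⟨c, hc, rfl⟩ := h
  exact smul_ne_zero hc hu

theorem par_smul {ι : Type*} (u : ι → F) {c : F} (hc : c ≠ 0) : par u (c • u) := ⟨c, hc, rfl⟩

/-- the image in `PSp` of the group of transvections with centre `p`. -/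
def Xb (p : Fin m ⊕ Fin m → F) : Subgroup (Cfsg.PSp m F) := (spRoot p).map (mkP m F)

theorem mem_Xb_iff (p : Fin m ⊕ Fin m → F) (x : Cfsg.PSp m F) :
    x ∈ Xb p ↔ ∃ c : F, x = mkP m F (spT m p c) := by
  unfold Xb
  rw [Subgroup.mem_map]
  constructor
  · rintro ⟨g, ⟨c, rfl⟩, rfl⟩
    exact ⟨c, rfl⟩
  · rintro ⟨c, rfl⟩
    exact ⟨_, ⟨c, rfl⟩, rfl⟩

theorem Xb_smul (p : Fin m ⊕ Fin m → F) {l : F} (hl : l ≠ 0) : Xb (l • p) = Xb p := by
  unfold Xb
  rw [spRoot_smul p hl]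

theorem Xb_eq_of_par {p q : Fin m ⊕ Fin m → F} (h : par p q) : Xb p = Xb q := by
  obtain ⟨c, hc, rfl⟩ := h
  exact (Xb_smul p hc).symm

theorem Xb_conj (g : ↥(Matrix.symplecticGroup (Fin m) F)) (p : Fin m ⊕ Fin m → F) :
    (Xb p).map (MulAut.conj (mkP m F g)).toMonoidHom = Xb (g.1 *ᵥ p) := by
  ext x
  rw [Subgroup.mem_map, mem_Xb_iff]
  constructor
  · rintro ⟨y, hy, rfl⟩
    rw [mem_Xb_iff] at hy
    obtain ⟨c, rfl⟩ := hy
    refine ⟨c, ?_⟩
    show mkP m F g * mkP m F (spT m p c) * (mkP m F g)⁻¹ = _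
    rw [← map_inv, ← map_mul, ← map_mul, spT_conj]
  · rintro ⟨c, rfl⟩
    refine ⟨mkP m F (spT m p c), (mem_Xb_iff _ _).mpr ⟨c, rfl⟩, ?_⟩
    show mkP m F g * mkP m F (spT m p c) * (mkP m F g)⁻¹ = _
    rw [← map_inv, ← map_mul, ← map_mul, spT_conj]

theorem exists_perp2 (hm : 2 ≤ m) (p q : Fin m ⊕ Fin m → F) :
    ∃ x : Fin m ⊕ Fin m → F, x ≠ 0 ∧ Cfsg.sympForm m F x p = 0 ∧ Cfsg.sympForm m F x q = 0 := by
  let f : (Fin m ⊕ Fin m → F) →ₗ[F] (Fin 2 → F) :=
    LinearMap.pi ![(sB m F).flip p, (sB m F).flip q]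
  have hlt : Module.finrank F (Fin 2 → F) < Module.finrank F (Fin m ⊕ Fin m → F) := by
    rw [Module.finrank_fin_fun, Module.finrank_pi]
    simp only [Fintype.card_sum, Fintype.card_fin]
    omega
  have hker : LinearMap.ker f ≠ ⊥ := LinearMap.ker_ne_bot_of_finrank_lt hlt
  obtain ⟨x, hx, hx0⟩ := Submodule.exists_mem_ne_zero_of_ne_bot hker
  refine ⟨x, hx0, ?_, ?_⟩
  · have := congrFun (LinearMap.mem_ker.mp hx) 0
    simpa [f, sB_apply] using this
  · have := congrFun (LinearMap.mem_ker.mp hx) 1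
    simpa [f, sB_apply] using this

theorem par_of_spT_eq {p q : Fin m ⊕ Fin m → F} (hp : p ≠ 0) (c : F)
    (h : spT m q c = spT m p 1) : par p q := by
  obtain ⟨x, hx⟩ := sympForm_nondeg m p hp
  have hx' : Cfsg.sympForm m F x p ≠ 0 := by
    rw [sympForm_swap]; exact neg_ne_zero.mpr hx
  have h1 := congrArg (fun g : ↥(Matrix.symplecticGroup (Fin m) F) => g.1 *ᵥ x) h
  simp only [spT_mulVec, one_mul] at h1
  have h2 : (c * Cfsg.sympForm m F x q) • q = Cfsg.sympForm m F x p • p := add_left_cancel h1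
  have h3 : p = ((Cfsg.sympForm m F x p)⁻¹ * (c * Cfsg.sympForm m F x q)) • q := by
    rw [mul_smul, h2, smul_smul, inv_mul_cancel₀ hx', one_smul]
  have h4 : (Cfsg.sympForm m F x p)⁻¹ * (c * Cfsg.sympForm m F x q) ≠ 0 := by
    intro h0
    rw [h0, zero_smul] at h3
    exact hp h3
  exact par_symm ⟨_, h4, h3⟩

theorem par_of_Xb_eq (hm : 2 ≤ m) {p q : Fin m ⊕ Fin m → F} (hp : p ≠ 0) (hq : q ≠ 0)
    (h : Xb p = Xb q) : par p q := by
  have h1 : mkP m F (spT m p 1) ∈ Xb q := by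
    rw [← h, mem_Xb_iff]; exact ⟨1, rfl⟩
  rw [mem_Xb_iff] at h1
  obtain ⟨c, hc⟩ := h1
  rcases mkP_eq_cases (by omega) _ _ hc with h2 | h2
  · exact par_of_spT_eq hp c h2
  · by_cases h20 : (2 : F) = 0
    · rw [negOne_eq_one_of_two h20, mul_one] at h2
      exact par_of_spT_eq hp c h2
    · exfalso
      obtain ⟨x, hx0, hxp, hxq⟩ := exists_perp2 hm p q
      have h3 := congrArg (fun g : ↥(Matrix.symplecticGroup (Fin m) F) => g.1 *ᵥ x) h2
      simp only [sp_mul_mulVec, spT_mulVec, negOne_mulVec, hxp, hxq, mul_zero, zero_smul, add_zero,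
        sympForm_neg_left, neg_zero] at h3
      have h4 : (2 : F) • x = 0 := by
        rw [two_smul]
        nth_rewrite 1 [h3]
        exact neg_add_cancel x
      rcases smul_eq_zero.mp h4 with h5 | h5
      · exact h20 h5
      · exact hx0 h5

theorem Xb_eq_iff_par (hm : 2 ≤ m) {p q : Fin m ⊕ Fin m → F} (hp : p ≠ 0) (hq : q ≠ 0) :
    Xb p = Xb q ↔ par p q := ⟨par_of_Xb_eq hm hp hq, Xb_eq_of_par⟩

/-- the two transvection subgroups commute elementwise. -/
def XComm (p q : Fin m ⊕ Fin m → F) : Prop := ∀ x ∈ Xb p, ∀ y ∈ Xb q, x * y = y * x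

theorem XComm_of_perp {p q : Fin m ⊕ Fin m → F} (h : Cfsg.sympForm m F p q = 0) : XComm p q := by
  intro x hx y hy
  rw [mem_Xb_iff] at hx hy
  obtain ⟨c, rfl⟩ := hx
  obtain ⟨d, rfl⟩ := hy
  rw [← map_mul, ← map_mul, spT_comm h]

theorem perp_of_XComm (hm : 1 ≤ m) {p q : Fin m ⊕ Fin m → F} (h : XComm p q) :
    Cfsg.sympForm m F p q = 0 := by
  have h1 := h (mkP m F (spT m p 1)) ((mem_Xb_iff _ _).mpr ⟨1, rfl⟩)
    (mkP m F (spT m q 1)) ((mem_Xb_iff _ _).mpr ⟨1, rfl⟩)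
  rw [← map_mul, ← map_mul] at h1
  set β := Cfsg.sympForm m F p q with hβ
  have hqp : Cfsg.sympForm m F q p = -β := by rw [sympForm_swap]
  have e1 : (spT m p 1 * spT m q 1).1 *ᵥ p = (1 - β ^ 2) • p + β • q := by
    rw [sp_mul_mulVec, spT_mulVec, spT_mulVec, sympForm_add_left, sympForm_smul_left,
      sympForm_self, hqp, ← hβ]
    simp only [one_mul, zero_add, mul_neg]
    rw [sub_smul, one_smul]
    have : (-(β * β)) • p = -((β ^ 2) • p) := by rw [← neg_smul]; congr 1; ring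
    rw [this]
    abel
  have e2 : (spT m q 1 * spT m p 1).1 *ᵥ p = p + β • q := by
    rw [sp_mul_mulVec, spT_mulVec, spT_mulVec, sympForm_self]
    simp only [mul_zero, zero_smul, add_zero, one_mul]
    rw [← hβ]
  by_contra hβ0
  have key : ∀ a b : F, a • p + b • q = 0 → a = 0 ∧ b = 0 := by
    intro a b hab
    have h3 := congrArg (fun v => Cfsg.sympForm m F v q) hab
    have h4 := congrArg (fun v => Cfsg.sympForm m F v p) hab
    simp only [sympForm_add_left, sympForm_smul_left, sympForm_self, sympForm_zero_left, mul_zero,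
      add_zero, zero_add, hqp, ← hβ] at h3 h4
    constructor
    · rcases mul_eq_zero.mp h3 with h5 | h5
      · exact h5
      · exact absurd h5 hβ0
    · rcases mul_eq_zero.mp h4 with h5 | h5
      · exact h5
      · exact absurd (neg_eq_zero.mp h5) hβ0
  rcases mkP_eq_cases hm _ _ h1 with h2 | h2
  · have h3 := congrArg (fun g : ↥(Matrix.symplecticGroup (Fin m) F) => g.1 *ᵥ p) h2
    simp only [e1, e2] at h3
    have h4 : (β ^ 2) • p + (0 : F) • q = 0 := by
      rw [zero_smul, add_zero]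
      have : p + β • q = p - (β ^ 2) • p + β • q := by rw [h3, sub_smul, one_smul]
      have h5 : (β ^ 2) • p = p + β • q - (p - (β ^ 2) • p + β • q) := by abel
      rw [h5, ← this, sub_self]
    exact hβ0 (pow_eq_zero_iff (two_ne_zero)|>.mp (key _ _ h4).1)
  · have h3 := congrArg (fun g : ↥(Matrix.symplecticGroup (Fin m) F) => g.1 *ᵥ p) h2
    simp only [sp_mul_mulVec, negOne_mulVec] at h3
    rw [← sp_mul_mulVec, ← sp_mul_mulVec] at h3
    rw [Matrix.mulVec_neg, e1, e2] at h3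
    have h4 : (2 - β ^ 2) • p + (2 * β) • q = 0 := by
      have : p + β • q + ((1 - β ^ 2) • p + β • q) = 0 := by rw [h3]; exact neg_add_cancel _
      rw [← this, sub_smul, sub_smul, one_smul, two_smul, mul_smul, two_smul]
      abel
    obtain ⟨h5, h6⟩ := key _ _ h4
    have h7 : (2 : F) = 0 := by
      rcases mul_eq_zero.mp h6 with h | h
      · exact h
      · exact absurd h hβ0
    rw [h7, zero_sub, neg_eq_zero] at h5
    exact hβ0 (pow_eq_zero_iff (two_ne_zero)|>.mp h5)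

theorem XComm_iff (hm : 1 ≤ m) (p q : Fin m ⊕ Fin m → F) :
    XComm p q ↔ Cfsg.sympForm m F p q = 0 := ⟨perp_of_XComm hm, XComm_of_perp⟩

end Cfsg.Agent.Lib.Helper16.SPA
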