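import Cfsg.Agent.Lib.Helper16.SPA1
import Cfsg.Agent.Lib.Helper16.AP4

set_option autoImplicit false
set_option linter.unusedSectionVars false
set_option linter.unusedVariables false

namespace Cfsg.Agent.Lib.Helper16.SPA

open Matrix Cfsg.Agent.Lib.helper6 Cfsg.Agent.Lib.helper6.SB Cfsg.Agent.Lib.Helper26
open Cfsg.Agent.Lib.Helper16.AP (IsUT IsUT_one IsUT_mul UT mem_UT_iff card_UT det_of_isUT triN)

universe u
variable {F : Type u} [Field F] {m : ℕ}

/-- standard basis vectors -/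
def bV (k : Fin m ⊕ Fin m) : Fin m ⊕ Fin m → F := Pi.single k 1

/-- the sign attached to a basis index -/
def eps (k : Fin m ⊕ Fin m) : F := Sum.elim (fun _ => 1) (fun _ => -1) k

theorem bV_apply (k a : Fin m ⊕ Fin m) : (bV k : Fin m ⊕ Fin m → F) a = if a = k then 1 else 0 := by
  unfold bV; rw [Pi.single_apply]

theorem bV_ne_zero (k : Fin m ⊕ Fin m) : (bV k : Fin m ⊕ Fin m → F) ≠ 0 := by
  intro h
  have := congrFun h k
  rw [bV_apply, if_pos rfl] at this
  exact one_ne_zero this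

theorem eps_mul_self (k : Fin m ⊕ Fin m) : (eps k : F) * eps k = 1 := by
  rcases k with j | j <;> simp [eps]

theorem eps_ne_zero (k : Fin m ⊕ Fin m) : (eps k : F) ≠ 0 := by
  rcases k with j | j <;> simp [eps]

theorem eps_swap (k : Fin m ⊕ Fin m) : (eps (Sum.swap k) : F) = - eps k := by
  rcases k with j | j <;> simp [eps]

theorem sympForm_bV_right (x : Fin m ⊕ Fin m → F) (l : Fin m ⊕ Fin m) :
    Cfsg.sympForm m F x (bV l) = eps l * x (Sum.swap l) := by
  unfold Cfsg.sympForm bV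
  rw [Matrix.mulVec_single_one]
  rcases l with j | j
  · simp [dotProduct, Fintype.sum_sum_type, Matrix.J, eps, Matrix.one_apply]
  · simp [dotProduct, Fintype.sum_sum_type, Matrix.J, eps, Matrix.one_apply]

theorem sympForm_bV_left (l : Fin m ⊕ Fin m) (x : Fin m ⊕ Fin m → F) :
    Cfsg.sympForm m F (bV l) x = - (eps l * x (Sum.swap l)) := by
  rw [sympForm_swap, sympForm_bV_right]

theorem sympForm_bV_bV (k l : Fin m ⊕ Fin m) :
    Cfsg.sympForm m F (bV k : Fin m ⊕ Fin m → F) (bV l) = if k = Sum.swap l then eps l else 0 := by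
  rw [sympForm_bV_right, bV_apply]
  by_cases h : Sum.swap l = k
  · rw [if_pos h, if_pos h.symm, mul_one]
  · rw [if_neg h, if_neg (fun h' => h h'.symm), mul_zero]

/-- the short root element attached to orthogonal vectors `u, v`. -/
def sR (u v : Fin m ⊕ Fin m → F) (c : F) : ↥(Matrix.symplecticGroup (Fin m) F) :=
  spT m (u + v) c * spT m u (-c) * spT m v (-c)

theorem sR_mulVec {u v : Fin m ⊕ Fin m → F} (huv : Cfsg.sympForm m F u v = 0) (c : F)
    (x : Fin m ⊕ Fin m → F) :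
    (sR u v c).1 *ᵥ x = x + c • (Cfsg.sympForm m F x u • v + Cfsg.sympForm m F x v • u) := by
  have hvu : Cfsg.sympForm m F v u = 0 := by rw [sympForm_swap, huv, neg_zero]
  unfold sR
  rw [sp_mul_mulVec, sp_mul_mulVec, spT_mulVec, spT_mulVec, spT_mulVec]
  simp only [sympForm_add_left, sympForm_add_right, sympForm_smul_left, sympForm_self, huv, hvu,
    mul_zero, add_zero, zero_add]
  module

theorem sR_zero {u v : Fin m ⊕ Fin m → F} : sR u v (0 : F) = 1 := by
  unfold sR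
  rw [neg_zero, spT_zero, spT_zero, spT_zero, mul_one, mul_one]

theorem sR_conj (g : ↥(Matrix.symplecticGroup (Fin m) F)) (u v : Fin m ⊕ Fin m → F) (c : F) :
    g * sR u v c * g⁻¹ = sR (g.1 *ᵥ u) (g.1 *ᵥ v) c := by
  unfold sR
  rw [← Matrix.mulVec_add, ← spT_conj, ← spT_conj, ← spT_conj]
  group


theorem mulVec_bV (M : Matrix (Fin m ⊕ Fin m) (Fin m ⊕ Fin m) F) (l a : Fin m ⊕ Fin m) :
    (M *ᵥ (bV l : Fin m ⊕ Fin m → F)) a = M a l := by
  unfold bV
  rw [Matrix.mulVec_single_one]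
  rfl

theorem sp_ext_basis {g h : ↥(Matrix.symplecticGroup (Fin m) F)}
    (H : ∀ l : Fin m ⊕ Fin m, g.1 *ᵥ (bV l : Fin m ⊕ Fin m → F) = h.1 *ᵥ bV l) : g = h := by
  apply Subtype.ext
  ext a l
  have := congrFun (H l) a
  rwa [mulVec_bV, mulVec_bV] at this

theorem toBlocks₂₁_mul' (M N : Matrix (Fin m ⊕ Fin m) (Fin m ⊕ Fin m) F) :
    (M * N).toBlocks₂₁ = M.toBlocks₂₁ * N.toBlocks₁₁ + M.toBlocks₂₂ * N.toBlocks₂₁ := by
  ext i j
  simp [Matrix.toBlocks₂₁, Matrix.toBlocks₁₁, Matrix.toBlocks₂₂, Matrix.mul_apply,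
    Fintype.sum_sum_type]

theorem toBlocks₁₁_mul' (M N : Matrix (Fin m ⊕ Fin m) (Fin m ⊕ Fin m) F) :
    (M * N).toBlocks₁₁ = M.toBlocks₁₁ * N.toBlocks₁₁ + M.toBlocks₁₂ * N.toBlocks₂₁ := by
  ext i j
  simp [Matrix.toBlocks₂₁, Matrix.toBlocks₁₁, Matrix.toBlocks₁₂, Matrix.mul_apply,
    Fintype.sum_sum_type]

/-- the block upper unitriangular condition -/
def IsU (M : Matrix (Fin m ⊕ Fin m) (Fin m ⊕ Fin m) F) : Prop :=
  M.toBlocks₂₁ = 0 ∧ IsUT M.toBlocks₁₁

theorem IsU_one : IsU (1 : Matrix (Fin m ⊕ Fin m) (Fin m ⊕ Fin m) F) := by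
  constructor
  · ext i j
    simp [Matrix.toBlocks₂₁]
  · have : (1 : Matrix (Fin m ⊕ Fin m) (Fin m ⊕ Fin m) F).toBlocks₁₁ = 1 := by
      ext i j
      simp [Matrix.toBlocks₁₁, Matrix.one_apply]
    rw [this]
    exact IsUT_one

theorem IsU_mul (M N : Matrix (Fin m ⊕ Fin m) (Fin m ⊕ Fin m) F) (hM : IsU M) (hN : IsU N) :
    IsU (M * N) := by
  constructor
  · rw [toBlocks₂₁_mul', hM.1, hN.1, zero_mul, mul_zero, add_zero]
  · rw [toBlocks₁₁_mul', hN.1, mul_zero, add_zero]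
    exact IsUT_mul _ _ hM.2 hN.2

variable [Fintype F]

/-- the standard unipotent subgroup of `Sp`. -/
def Usp (m : ℕ) (F : Type u) [Field F] [Fintype F] :
    Subgroup ↥(Matrix.symplecticGroup (Fin m) F) where
  carrier := {g | IsU g.1}
  mul_mem' := by
    intro a b ha hb
    exact IsU_mul _ _ ha hb
  one_mem' := IsU_one
  inv_mem' := by
    intro s hs
    classical
    have hpow : ∀ k : ℕ, IsU (s ^ k : ↥(Matrix.symplecticGroup (Fin m) F)).1 := by
      intro k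
      induction k with
      | zero => rw [pow_zero]; exact IsU_one
      | succ k ih => rw [pow_succ]; exact IsU_mul _ _ ih hs
    have h1 : s⁻¹ = s ^ (orderOf s - 1) := by
      rw [inv_eq_iff_mul_eq_one, ← pow_succ', Nat.sub_add_cancel (orderOf_pos s), pow_orderOf_eq_one]
    show IsU (s⁻¹ : ↥(Matrix.symplecticGroup (Fin m) F)).1
    rw [h1]
    exact hpow _

theorem mem_Usp_iff (g : ↥(Matrix.symplecticGroup (Fin m) F)) : g ∈ Usp m F ↔ IsU g.1 := Iff.rfl

theorem IsU_iff_cols (M : Matrix (Fin m ⊕ Fin m) (Fin m ⊕ Fin m) F) :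
    IsU M ↔ (∀ l a : Fin m, (M *ᵥ (bV (Sum.inl l) : Fin m ⊕ Fin m → F)) (Sum.inr a) = 0) ∧
      (∀ l a : Fin m, l < a → (M *ᵥ (bV (Sum.inl l) : Fin m ⊕ Fin m → F)) (Sum.inl a) = 0) ∧
      ∀ l : Fin m, (M *ᵥ (bV (Sum.inl l) : Fin m ⊕ Fin m → F)) (Sum.inl l) = 1 := by
  simp only [mulVec_bV]
  constructor
  · rintro ⟨h1, h2, h3⟩
    refine ⟨fun l a => ?_, fun l a hla => h2 a l hla, fun l => h3 l⟩
    have := congrFun (congrFun h1 a) l
    simpa [Matrix.toBlocks₂₁] using this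
  · rintro ⟨h1, h2, h3⟩
    refine ⟨?_, fun a l hla => h2 l a hla, fun l => h3 l⟩
    ext a l
    simpa [Matrix.toBlocks₂₁] using h1 l a

theorem pow_blocks (g : ↥(Matrix.symplecticGroup (Fin m) F)) (hg : IsU g.1) (k : ℕ) :
    (g ^ k : ↥(Matrix.symplecticGroup (Fin m) F)).1.toBlocks₂₁ = 0 ∧
      (g ^ k : ↥(Matrix.symplecticGroup (Fin m) F)).1.toBlocks₁₁ = g.1.toBlocks₁₁ ^ k := by
  induction k with
  | zero =>
    rw [pow_zero, pow_zero]
    refine ⟨IsU_one.1, ?_⟩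
    ext i j
    simp [Matrix.toBlocks₁₁, Matrix.one_apply]
  | succ k ih =>
    rw [pow_succ, pow_succ]
    constructor
    · show ((g ^ k : ↥(Matrix.symplecticGroup (Fin m) F)).1 * g.1).toBlocks₂₁ = 0
      rw [toBlocks₂₁_mul', ih.1, hg.1, zero_mul, mul_zero, add_zero]
    · show ((g ^ k : ↥(Matrix.symplecticGroup (Fin m) F)).1 * g.1).toBlocks₁₁ = _
      rw [toBlocks₁₁_mul', hg.1, mul_zero, add_zero, ih.2]

theorem isUT_pow_card (A : Matrix (Fin m) (Fin m) F) (hA : IsUT A) :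
    A ^ (Fintype.card F ^ triN m) = 1 := by
  let s : Matrix.SpecialLinearGroup (Fin m) F := ⟨A, det_of_isUT A hA⟩
  have hs : s ∈ UT m F := hA
  have h1 : (⟨s, hs⟩ : ↥(UT m F)) ^ Nat.card ↥(UT m F) = 1 := pow_card_eq_one'
  rw [card_UT] at h1
  have h2 := congrArg (fun x : ↥(UT m F) => ((x : Matrix.SpecialLinearGroup (Fin m) F) : Matrix (Fin m) (Fin m) F)) h1
  simpa using h2


omit [Fintype F] in
theorem fixE_inr (h : ↥(Matrix.symplecticGroup (Fin m) F))
    (hfix : ∀ j : Fin m, h.1 *ᵥ (bV (Sum.inl j) : Fin m ⊕ Fin m → F) = bV (Sum.inl j))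
    (x : Fin m ⊕ Fin m → F) (j : Fin m) : (h.1 *ᵥ x) (Sum.inr j) = x (Sum.inr j) := by
  have h1 := sp_form h x (bV (Sum.inl j))
  rw [hfix, sympForm_bV_right, sympForm_bV_right] at h1
  simpa [eps] using h1

omit [Fintype F] in
theorem fixE_of_inr_zero (h : ↥(Matrix.symplecticGroup (Fin m) F))
    (hfix : ∀ j : Fin m, h.1 *ᵥ (bV (Sum.inl j) : Fin m ⊕ Fin m → F) = bV (Sum.inl j))
    (v : Fin m ⊕ Fin m → F) (hv : ∀ j : Fin m, v (Sum.inr j) = 0) : h.1 *ᵥ v = v := by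
  funext a
  rcases a with i | i
  · have hent : ∀ j : Fin m, h.1 (Sum.inl i) (Sum.inl j) = if i = j then 1 else 0 := by
      intro j
      have := congrFun (hfix j) (Sum.inl i)
      rw [mulVec_bV, bV_apply] at this
      rw [this]
      simp
    simp only [Matrix.mulVec, dotProduct, Fintype.sum_sum_type, hv, mul_zero, Finset.sum_const_zero,
      add_zero, hent, ite_mul, one_mul, zero_mul, Finset.sum_ite_eq, Finset.mem_univ, if_true]
  · rw [fixE_inr h hfix, hv]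

omit [Fintype F] in
theorem fixE_pow_apply (h : ↥(Matrix.symplecticGroup (Fin m) F))
    (hfix : ∀ j : Fin m, h.1 *ᵥ (bV (Sum.inl j) : Fin m ⊕ Fin m → F) = bV (Sum.inl j))
    (x : Fin m ⊕ Fin m → F) (k : ℕ) :
    (h ^ k : ↥(Matrix.symplecticGroup (Fin m) F)).1 *ᵥ x = x + k • (h.1 *ᵥ x - x) := by
  have hd : h.1 *ᵥ (h.1 *ᵥ x - x) = h.1 *ᵥ x - x := by
    apply fixE_of_inr_zero h hfix
    intro j
    rw [Pi.sub_apply, fixE_inr h hfix, sub_self]
  induction k with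
  | zero => rw [pow_zero, sp_one_mulVec, zero_smul, add_zero]
  | succ k ih =>
    rw [pow_succ', sp_mul_mulVec, ih, Matrix.mulVec_add, Matrix.mulVec_smul, hd, succ_nsmul]
    abel

omit [Fintype F] in
theorem fixE_pow (h : ↥(Matrix.symplecticGroup (Fin m) F))
    (hfix : ∀ j : Fin m, h.1 *ᵥ (bV (Sum.inl j) : Fin m ⊕ Fin m → F) = bV (Sum.inl j))
    (p : ℕ) [CharP F p] : h ^ p = 1 := by
  apply sp_ext
  intro x
  rw [fixE_pow_apply h hfix, sp_one_mulVec]
  have : (p : ℕ) • (h.1 *ᵥ x - x) = 0 := by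
    rw [← Nat.cast_smul_eq_nsmul F, CharP.cast_eq_zero, zero_smul]
  rw [this, add_zero]

theorem Usp_isPGroup (p : ℕ) [Fact p.Prime] [CharP F p] : IsPGroup p ↥(Usp m F) := by
  obtain ⟨f, hp, hF⟩ := FiniteField.card F p
  intro g
  refine ⟨(f : ℕ) * triN m + 1, ?_⟩
  apply Subtype.ext
  rw [Subgroup.coe_pow, Subgroup.coe_one, pow_succ, pow_mul]
  have hg : IsU g.1.1 := g.2
  have hN : p ^ ((f : ℕ) * triN m) = Fintype.card F ^ triN m := by rw [hF, pow_mul]
  rw [hN]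
  obtain ⟨h1, h2⟩ := pow_blocks g.1 hg (Fintype.card F ^ triN m)
  rw [isUT_pow_card _ hg.2] at h2
  apply fixE_pow
  intro j
  funext a
  rw [mulVec_bV, bV_apply]
  rcases a with i | i
  · have := congrFun (congrFun h2 i) j
    simp only [Matrix.toBlocks₁₁, Matrix.of_apply, Matrix.one_apply] at this
    rw [this]
    simp
  · have := congrFun (congrFun h1 i) j
    simp only [Matrix.toBlocks₂₁, Matrix.of_apply, Matrix.zero_apply] at this
    rw [this]
    simp

theorem spT_e_mem_Usp (i : Fin m) (c : F) : spT m (bV (Sum.inl i) : Fin m ⊕ Fin m → F) c ∈ Usp m F := by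
  rw [mem_Usp_iff, IsU_iff_cols]
  have key : ∀ l : Fin m, (spT m (bV (Sum.inl i) : Fin m ⊕ Fin m → F) c).1 *ᵥ
      (bV (Sum.inl l) : Fin m ⊕ Fin m → F) = bV (Sum.inl l) := by
    intro l
    rw [spT_mulVec, sympForm_bV_bV]
    simp
  refine ⟨fun l a => ?_, fun l a hla => ?_, fun l => ?_⟩
  · rw [key, bV_apply]; simp
  · rw [key, bV_apply]
    rw [if_neg]
    intro h
    have := Sum.inl.inj h
    exact absurd this (ne_of_gt hla)
  · rw [key, bV_apply, if_pos rfl]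

omit [Fintype F] in
theorem sympForm_e_f (i j : Fin m) (hij : i ≠ j) :
    Cfsg.sympForm m F (bV (Sum.inl i) : Fin m ⊕ Fin m → F) (bV (Sum.inr j)) = 0 := by
  rw [sympForm_bV_bV, if_neg]
  intro h
  exact hij (Sum.inl.inj h)

omit [Fintype F] in
theorem sR_e_f_bV (i j : Fin m) (hij : i ≠ j) (c : F) (l : Fin m) :
    (sR (bV (Sum.inl i) : Fin m ⊕ Fin m → F) (bV (Sum.inr j)) c).1 *ᵥ
      (bV (Sum.inl l) : Fin m ⊕ Fin m → F) =
      bV (Sum.inl l) - (if l = j then c else 0) • bV (Sum.inl i) := by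
  rw [sR_mulVec (sympForm_e_f i j hij), sympForm_bV_bV, sympForm_bV_bV]
  by_cases hlj : l = j
  · subst hlj
    simp [eps, sub_eq_add_neg]
  · have : ¬ (Sum.inl l : Fin m ⊕ Fin m) = Sum.swap (Sum.inr j) := by
      intro h; exact hlj (Sum.inl.inj h)
    simp [this, hlj]

theorem sR_e_f_mem_Usp (i j : Fin m) (hij : i < j) (c : F) :
    sR (bV (Sum.inl i) : Fin m ⊕ Fin m → F) (bV (Sum.inr j)) c ∈ Usp m F := by
  rw [mem_Usp_iff, IsU_iff_cols]
  refine ⟨fun l a => ?_, fun l a hla => ?_, fun l => ?_⟩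
  · rw [sR_e_f_bV i j (ne_of_lt hij)]
    simp only [Pi.sub_apply, Pi.smul_apply, bV_apply, smul_eq_mul, reduceCtorEq, if_false, mul_zero,
      sub_zero]
  · rw [sR_e_f_bV i j (ne_of_lt hij)]
    simp only [Pi.sub_apply, Pi.smul_apply, bV_apply, smul_eq_mul]
    have h1 : ¬ (Sum.inl a : Fin m ⊕ Fin m) = Sum.inl l := by
      intro h; exact absurd (Sum.inl.inj h) (ne_of_gt hla)
    rw [if_neg h1, zero_sub, neg_eq_zero]
    by_cases hlj : l = j
    · have h2 : ¬ (Sum.inl a : Fin m ⊕ Fin m) = Sum.inl i := by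
        intro h
        have := Sum.inl.inj h
        subst this; subst hlj
        exact absurd hla (not_lt.mpr (le_of_lt hij))
      rw [if_neg h2, mul_zero]
    · rw [if_neg hlj, zero_mul]
  · rw [sR_e_f_bV i j (ne_of_lt hij)]
    simp only [Pi.sub_apply, Pi.smul_apply, bV_apply, smul_eq_mul]
    by_cases hlj : l = j
    · have h2 : ¬ (Sum.inl l : Fin m ⊕ Fin m) = Sum.inl i := by
        intro h
        have := Sum.inl.inj h
        subst this; subst hlj
        exact absurd hij (lt_irrefl _)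
      simp [h2]
    · simp [hlj]

end Cfsg.Agent.Lib.Helper16.SPA
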