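import Cfsg.Agent.Lib.Helper16.SPA3

set_option autoImplicit false
set_option linter.unusedSectionVars false
set_option linter.unusedVariables false

namespace Cfsg.Agent.Lib.Helper16.SPA

open Matrix Cfsg.Agent.Lib.helper6 Cfsg.Agent.Lib.helper6.SB Cfsg.Agent.Lib.Helper26

universe u
variable {F : Type u} [Field F] {m : ℕ}

/-- no conjugate product of order four. -/
def NoOrd4 {G : Type*} [Group G] (x : G) : Prop :=
  ∀ g : G, (x * (g * x * g⁻¹)) ^ 4 = 1 → (x * (g * x * g⁻¹)) ^ 2 = 1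

theorem NoOrd4_map {G : Type*} [Group G] (α : G ≃* G) (x : G) (h : NoOrd4 x) : NoOrd4 (α x) := by
  intro g hg
  have h1 := h (α.symm g) (by
    apply α.injective
    rw [map_pow, map_mul, map_mul, map_mul, map_inv, MulEquiv.apply_symm_apply, map_one]
    exact hg)
  have h2 := congrArg α h1
  rw [map_pow, map_mul, map_mul, map_mul, map_inv, MulEquiv.apply_symm_apply, map_one] at h2
  exact h2

theorem spT_sq_char2 (h2 : (2 : F) = 0) (p : Fin m ⊕ Fin m → F) (a : F) :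
    spT m p a * spT m p a = 1 := by
  rw [spT_mul, ← two_mul, h2, zero_mul, spT_zero]

/-- in characteristic two transvections satisfy `NoOrd4`. -/
theorem transvection_noOrd4 (h2 : (2 : F) = 0) (p : Fin m ⊕ Fin m → F) (a : F) :
    NoOrd4 (spT m p a) := by
  intro g hg
  rw [spT_conj] at hg ⊢
  set w := g.1 *ᵥ p with hw
  set β := Cfsg.sympForm m F p w with hβ
  by_cases hβ0 : β = 0
  · have hc := spT_comm hβ0 a a
    rw [pow_two]
    calc spT m p a * spT m w a * (spT m p a * spT m w a)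
        = spT m p a * (spT m w a * spT m p a) * spT m w a := by group
      _ = spT m p a * (spT m p a * spT m w a) * spT m w a := by rw [hc]
      _ = (spT m p a * spT m p a) * (spT m w a * spT m w a) := by group
      _ = 1 := by rw [spT_sq_char2 h2, spT_sq_char2 h2, one_mul]
  · by_cases ha : a = 0
    · subst ha
      rw [spT_zero, spT_zero, one_mul, one_pow]
    exfalso
    set s := a * β with hs
    have hwp : Cfsg.sympForm m F w p = -β := by rw [sympForm_swap]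
    obtain ⟨M, hMdef⟩ : ∃ M : ↥(Matrix.symplecticGroup (Fin m) F), M = spT m p a * spT m w a := ⟨_, rfl⟩
    rw [← hMdef] at hg
    have hM : ∀ x y : F, M.1 *ᵥ (x • p + y • w) =
        ((1 - s ^ 2) * x - s * y) • p + (s * x + y) • w := by
      intro x y
      rw [hMdef, sp_mul_mulVec, spT_mulVec, spT_mulVec]
      simp only [sympForm_add_left, sympForm_smul_left, sympForm_self, hwp, ← hβ, mul_zero, add_zero,
        zero_add]
      rw [hs]
      module
    have h4 : (M ^ 4).1 *ᵥ w = w := by rw [hg, sp_one_mulVec]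
    have e4 : M ^ 4 = M * (M * (M * M)) := by
      rw [pow_succ, pow_succ, pow_succ, pow_one]; group
    have hw0 : w = (0 : F) • p + (1 : F) • w := by rw [zero_smul, zero_add, one_smul]
    rw [e4, sp_mul_mulVec, sp_mul_mulVec, sp_mul_mulVec] at h4
    have h4' : M.1 *ᵥ (M.1 *ᵥ (M.1 *ᵥ (M.1 *ᵥ ((0 : F) • p + (1 : F) • w)))) = w := by
      rw [← hw0]; exact h4
    rw [hM, hM, hM, hM] at h4'
    have h5 := congrArg (fun v => Cfsg.sympForm m F v w) h4'
    simp only [sympForm_add_left, sympForm_smul_left, sympForm_self, ← hβ, mul_zero, add_zero] at h5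
    have h7 : s ^ 7 * β = 0 := by
      linear_combination h5 - (-2 * s + 5 * s ^ 3 - 3 * s ^ 5) * β * h2
    have hs0 : s ≠ 0 := mul_ne_zero ha hβ0
    exact mul_ne_zero (pow_ne_zero 7 hs0) hβ0 h7


theorem neg_eq_self_char2 (h2 : (2 : F) = 0) (x : F) : -x = x := by
  have : x + x = 0 := by rw [← two_mul, h2, zero_mul]
  exact neg_eq_of_add_eq_zero_left this

theorem sympForm_char2 (h2 : (2 : F) = 0) (u v : Fin m ⊕ Fin m → F) :
    Cfsg.sympForm m F u v = ∑ k, u (Sum.swap k) * v k := by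
  rw [sympForm_eq_sum, Fintype.sum_sum_type, Finset.sum_sub_distrib]
  simp only [Sum.swap_inl, Sum.swap_inr]
  rw [sub_eq_add_neg, neg_eq_self_char2 h2]

/-- permutation matrices -/
def permMat (π : (Fin m ⊕ Fin m) ≃ (Fin m ⊕ Fin m)) : Matrix (Fin m ⊕ Fin m) (Fin m ⊕ Fin m) F :=
  Matrix.of fun a b => if a = π b then 1 else 0

theorem permMat_mulVec (π : (Fin m ⊕ Fin m) ≃ (Fin m ⊕ Fin m)) (x : Fin m ⊕ Fin m → F) :
    (permMat π : Matrix (Fin m ⊕ Fin m) (Fin m ⊕ Fin m) F) *ᵥ x = fun a => x (π.symm a) := by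
  funext a
  simp only [permMat, Matrix.mulVec, dotProduct, Matrix.of_apply]
  rw [Finset.sum_eq_single (π.symm a)]
  · simp
  · intro b _ hb
    rw [if_neg, zero_mul]
    intro h
    apply hb
    rw [h, Equiv.symm_apply_apply]
  · intro h; exact absurd (Finset.mem_univ _) h

theorem permMat_mem (h2 : (2 : F) = 0) (π : (Fin m ⊕ Fin m) ≃ (Fin m ⊕ Fin m))
    (hπ : ∀ k, π (Sum.swap k) = Sum.swap (π k)) :
    (permMat π : Matrix (Fin m ⊕ Fin m) (Fin m ⊕ Fin m) F) ∈ Matrix.symplecticGroup (Fin m) F := by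
  rw [mem_symplecticGroup_iff_sympForm]
  intro u v
  rw [permMat_mulVec, permMat_mulVec, sympForm_char2 h2, sympForm_char2 h2]
  rw [← Equiv.sum_comp π]
  apply Finset.sum_congr rfl
  intro k _
  rw [← hπ, Equiv.symm_apply_apply, Equiv.symm_apply_apply]

theorem permMat_bV (π : (Fin m ⊕ Fin m) ≃ (Fin m ⊕ Fin m)) (k : Fin m ⊕ Fin m) :
    (permMat π : Matrix (Fin m ⊕ Fin m) (Fin m ⊕ Fin m) F) *ᵥ bV k = bV (π k) := by
  rw [permMat_mulVec]
  funext a
  rw [bV_apply, bV_apply]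
  by_cases h : a = π k
  · rw [if_pos h, if_pos (by rw [h, Equiv.symm_apply_apply])]
  · rw [if_neg h, if_neg]
    intro h'
    apply h
    rw [← h', Equiv.apply_symm_apply]

/-- the permutation `e₀ ↔ e₂, f₀ ↔ f₂, e₁ ↔ f₁`. -/
def piE (i0 i1 i2 : Fin m) : (Fin m ⊕ Fin m) ≃ (Fin m ⊕ Fin m) :=
  (Equiv.sumCongr (Equiv.swap i0 i2) (Equiv.swap i0 i2)).trans
    (Equiv.swap (Sum.inl i1) (Sum.inr i1))

theorem piE_swap (i0 i1 i2 : Fin m) (k : Fin m ⊕ Fin m) :
    piE i0 i1 i2 (Sum.swap k) = Sum.swap (piE i0 i1 i2 k) := by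
  unfold piE
  simp only [Equiv.trans_apply]
  have h1 : ∀ x : Fin m ⊕ Fin m, Equiv.swap (Sum.inl i1 : Fin m ⊕ Fin m) (Sum.inr i1) (Sum.swap x) =
      Sum.swap (Equiv.swap (Sum.inl i1 : Fin m ⊕ Fin m) (Sum.inr i1) x) := by
    intro x
    rcases x with j | j <;> by_cases hj : j = i1 <;> simp [Equiv.swap_apply_def, hj]
  have h2 : (Equiv.sumCongr (Equiv.swap i0 i2) (Equiv.swap i0 i2)) (Sum.swap k) =
      Sum.swap ((Equiv.sumCongr (Equiv.swap i0 i2) (Equiv.swap i0 i2)) k) := by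
    rcases k with j | j <;> rfl
  rw [h2, h1]

theorem piE_e0 (i0 i1 i2 : Fin m) (h01 : i0 ≠ i1) (h12 : i1 ≠ i2) :
    piE i0 i1 i2 (Sum.inl i0) = Sum.inl i2 := by
  unfold piE
  simp only [Equiv.trans_apply, Equiv.sumCongr_apply, Sum.map_inl, Equiv.swap_apply_left]
  rw [Equiv.swap_apply_of_ne_of_ne]
  · intro h; exact h12 (Sum.inl.inj h).symm
  · simp

theorem piE_e1 (i0 i1 i2 : Fin m) (h01 : i0 ≠ i1) (h12 : i1 ≠ i2) :
    piE i0 i1 i2 (Sum.inl i1) = Sum.inr i1 := by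
  unfold piE
  simp only [Equiv.trans_apply, Equiv.sumCongr_apply, Sum.map_inl]
  rw [Equiv.swap_apply_of_ne_of_ne (Ne.symm h01) h12, Equiv.swap_apply_left]

theorem zform {u v : Fin m ⊕ Fin m → F} (huv : Cfsg.sympForm m F u v = 0) (a b : F)
    (x : Fin m ⊕ Fin m → F) :
    (spT m u a * sR u v b).1 *ᵥ x = x + (b * Cfsg.sympForm m F x u) • v +
      (b * Cfsg.sympForm m F x v + a * Cfsg.sympForm m F x u) • u := by
  have hvu : Cfsg.sympForm m F v u = 0 := by rw [sympForm_swap, huv, neg_zero]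
  rw [sp_mul_mulVec, sR_mulVec huv, spT_mulVec]
  simp only [sympForm_add_left, sympForm_smul_left, sympForm_self, hvu, mul_zero, add_zero]
  module


theorem mixed_sq (h2 : (2 : F) = 0) (p0 p1 p2 q1 : Fin m ⊕ Fin m → F) (κ : F)
    (h01 : Cfsg.sympForm m F p0 p1 = 0) (h02 : Cfsg.sympForm m F p0 p2 = 0)
    (h12 : Cfsg.sympForm m F p1 p2 = 0) (h0q : Cfsg.sympForm m F p0 q1 = 0)
    (h2q : Cfsg.sympForm m F p2 q1 = 0) (h1q : Cfsg.sympForm m F p1 q1 = κ) (a b : F) :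
    ((spT m p0 a * sR p0 p1 b) * (spT m p2 a * sR p2 q1 b)) *
      ((spT m p0 a * sR p0 p1 b) * (spT m p2 a * sR p2 q1 b)) = sR p0 p2 (κ * b ^ 2) := by
  have h10 : Cfsg.sympForm m F p1 p0 = 0 := by rw [sympForm_swap, h01, neg_zero]
  have h20 : Cfsg.sympForm m F p2 p0 = 0 := by rw [sympForm_swap, h02, neg_zero]
  have h21 : Cfsg.sympForm m F p2 p1 = 0 := by rw [sympForm_swap, h12, neg_zero]
  have hq0 : Cfsg.sympForm m F q1 p0 = 0 := by rw [sympForm_swap, h0q, neg_zero]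
  have hq2 : Cfsg.sympForm m F q1 p2 = 0 := by rw [sympForm_swap, h2q, neg_zero]
  have hq1 : Cfsg.sympForm m F q1 p1 = -κ := by rw [sympForm_swap, h1q]
  have hZ := zform h01 a b
  have hZ' := zform h2q a b
  obtain ⟨Z, hZdef⟩ : ∃ Z : ↥(Matrix.symplecticGroup (Fin m) F), Z = spT m p0 a * sR p0 p1 b := ⟨_, rfl⟩
  obtain ⟨Z', hZ'def⟩ : ∃ Z : ↥(Matrix.symplecticGroup (Fin m) F), Z = spT m p2 a * sR p2 q1 b := ⟨_, rfl⟩
  rw [← hZdef] at hZ ⊢
  rw [← hZ'def] at hZ' ⊢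
  apply sp_ext
  intro x
  rw [sp_mul_mulVec (Z * Z') (Z * Z'), sp_mul_mulVec Z Z', sp_mul_mulVec Z Z', hZ' x, hZ, hZ', hZ,
    sR_mulVec h02]
  simp only [sympForm_add_left, sympForm_smul_left, sympForm_self, h01, h02, h12, h0q, h2q, h1q,
    h10, h20, h21, hq0, hq2, hq1, mul_zero, add_zero, zero_add, mul_neg, neg_zero]
  have key : ∀ A B : Fin m ⊕ Fin m → F, (∃ W : Fin m ⊕ Fin m → F, A = B + (2 : F) • W) → A = B := by
    rintro A B ⟨W, hW⟩
    rw [hW, h2, zero_smul, add_zero]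
  apply key
  refine ⟨(b * Cfsg.sympForm m F x p2) • q1 +
    (b * Cfsg.sympForm m F x q1 + a * Cfsg.sympForm m F x p2) • p2 +
    (b * Cfsg.sympForm m F x p0) • p1 +
    (b * Cfsg.sympForm m F x p1 + a * Cfsg.sympForm m F x p0 -
      2 * κ * b ^ 2 * Cfsg.sympForm m F x p2) • p0, ?_⟩
  module


theorem sR_sq_char2 (h2 : (2 : F) = 0) {u v : Fin m ⊕ Fin m → F}
    (huv : Cfsg.sympForm m F u v = 0) (c : F) : sR u v c * sR u v c = 1 := by
  have hvu : Cfsg.sympForm m F v u = 0 := by rw [sympForm_swap, huv, neg_zero]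
  apply sp_ext
  intro x
  rw [sp_mul_mulVec, sR_mulVec huv, sR_mulVec huv, sp_one_mulVec]
  simp only [sympForm_add_left, sympForm_smul_left, sympForm_self, huv, hvu, mul_zero, add_zero,
    zero_add]
  have : x + c • (Cfsg.sympForm m F x u • v + Cfsg.sympForm m F x v • u) +
      c • (Cfsg.sympForm m F x u • v + Cfsg.sympForm m F x v • u) =
      x + (2 : F) • (c • (Cfsg.sympForm m F x u • v + Cfsg.sympForm m F x v • u)) := by module
  rw [this, h2, zero_smul, add_zero]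

theorem sympForm_e_e (i j : Fin m) :
    Cfsg.sympForm m F (bV (Sum.inl i) : Fin m ⊕ Fin m → F) (bV (Sum.inl j)) = 0 := by
  rw [sympForm_bV_bV, if_neg (by simp)]

theorem mixed_fails (h2 : (2 : F) = 0) (hm : 3 ≤ m) (a b : F) (hb : b ≠ 0) :
    ¬ NoOrd4 (spT m (bV (Sum.inl ⟨0, by omega⟩) : Fin m ⊕ Fin m → F) a *
        sR (bV (Sum.inl ⟨0, by omega⟩) : Fin m ⊕ Fin m → F) (bV (Sum.inl ⟨1, by omega⟩)) b) := by
  intro h
  set i0 : Fin m := ⟨0, by omega⟩ with hi0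
  set i1 : Fin m := ⟨1, by omega⟩ with hi1
  set i2 : Fin m := ⟨2, by omega⟩ with hi2
  have h01 : i0 ≠ i1 := by intro h; have := congrArg Fin.val h; simp [hi0, hi1] at this
  have h12 : i1 ≠ i2 := by intro h; have := congrArg Fin.val h; simp [hi1, hi2] at this
  have h02 : i0 ≠ i2 := by intro h; have := congrArg Fin.val h; simp [hi0, hi2] at this
  let g : ↥(Matrix.symplecticGroup (Fin m) F) :=
    ⟨permMat (piE i0 i1 i2), permMat_mem h2 _ (piE_swap i0 i1 i2)⟩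
  have hg0 : g.1 *ᵥ (bV (Sum.inl i0) : Fin m ⊕ Fin m → F) = bV (Sum.inl i2) := by
    show (permMat (piE i0 i1 i2) : Matrix (Fin m ⊕ Fin m) (Fin m ⊕ Fin m) F) *ᵥ _ = _
    rw [permMat_bV, piE_e0 i0 i1 i2 h01 h12]
  have hg1 : g.1 *ᵥ (bV (Sum.inl i1) : Fin m ⊕ Fin m → F) = bV (Sum.inr i1) := by
    show (permMat (piE i0 i1 i2) : Matrix (Fin m ⊕ Fin m) (Fin m ⊕ Fin m) F) *ᵥ _ = _
    rw [permMat_bV, piE_e1 i0 i1 i2 h01 h12]
  have hconj : g * (spT m (bV (Sum.inl i0) : Fin m ⊕ Fin m → F) a *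
      sR (bV (Sum.inl i0) : Fin m ⊕ Fin m → F) (bV (Sum.inl i1)) b) * g⁻¹ =
      spT m (bV (Sum.inl i2) : Fin m ⊕ Fin m → F) a *
        sR (bV (Sum.inl i2) : Fin m ⊕ Fin m → F) (bV (Sum.inr i1)) b := by
    rw [← hg0, ← hg1, ← spT_conj, ← sR_conj]
    group
  have hκ : Cfsg.sympForm m F (bV (Sum.inl i1) : Fin m ⊕ Fin m → F) (bV (Sum.inr i1)) = -1 := by
    rw [sympForm_bV_bV]; simp [eps]
  have hsq := mixed_sq h2 (bV (Sum.inl i0) : Fin m ⊕ Fin m → F) (bV (Sum.inl i1)) (bV (Sum.inl i2))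
    (bV (Sum.inr i1)) (-1) (sympForm_e_e _ _) (sympForm_e_e _ _) (sympForm_e_e _ _)
    (sympForm_e_f _ _ h01) (sympForm_e_f _ _ (Ne.symm h12)) hκ a b
  have h4 := h g
  rw [hconj] at h4
  have e4 : ∀ M : ↥(Matrix.symplecticGroup (Fin m) F), M ^ 4 = (M * M) * (M * M) := by
    intro M; rw [pow_succ, pow_succ, pow_succ, pow_one]; group
  rw [e4, pow_two, hsq, sR_sq_char2 h2 (sympForm_e_e _ _)] at h4
  have h5 := h4 rfl
  have h6 := congrArg (fun M : ↥(Matrix.symplecticGroup (Fin m) F) =>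
    M.1 *ᵥ (bV (Sum.inr i0) : Fin m ⊕ Fin m → F)) h5
  simp only [sp_one_mulVec] at h6
  rw [sR_mulVec (sympForm_e_e _ _), sympForm_f_e, add_eq_left, sympForm_bV_bV,
    if_neg (by intro h; exact h02 (Sum.inr.inj h)), zero_smul, add_zero, one_smul] at h6
  rcases smul_eq_zero.mp h6 with h7 | h7
  · have : b ^ 2 = 0 := by
      have h8 : (-1 : F) * b ^ 2 = 0 := h7
      rcases mul_eq_zero.mp h8 with h9 | h9
      · exact absurd h9 (neg_ne_zero.mpr one_ne_zero)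
      · exact h9
    exact hb (pow_eq_zero_iff (two_ne_zero) |>.mp this)
  · exact bV_ne_zero _ h7

end Cfsg.Agent.Lib.Helper16.SPA
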