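import Cfsg.Agent.Lib.Helper16.SPA4
import Cfsg.Agent.Lib.Helper16.SympTrans

set_option autoImplicit false
set_option linter.unusedSectionVars false
set_option linter.unusedVariables false

namespace Cfsg.Agent.Lib.Helper16.SPA

open Matrix Cfsg.Agent.Lib.helper6 Cfsg.Agent.Lib.helper6.SB Cfsg.Agent.Lib.Helper26
open Cfsg.Agent.Lib.Helper16.AP (Zs mem_Zs_iff map_Zs)
open scoped Pointwise

universe u
variable {F : Type u} [Field F] {m : ℕ}

theorem negOne_ne_one (h2 : (2 : F) ≠ 0) (hm : 1 ≤ m) : Cfsg.Agent.S0246.negOne F m ≠ 1 := by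
  intro h
  have h1 := congrArg (fun g : ↥(Matrix.symplecticGroup (Fin m) F) =>
    g.1 *ᵥ (bV (Sum.inl ⟨0, hm⟩) : Fin m ⊕ Fin m → F)) h
  simp only [negOne_mulVec, sp_one_mulVec] at h1
  have h3 : (2 : F) • (bV (Sum.inl ⟨0, hm⟩) : Fin m ⊕ Fin m → F) = 0 := by
    rw [two_smul]
    nth_rewrite 1 [← h1]
    exact neg_add_cancel _
  rcases smul_eq_zero.mp h3 with h4 | h4
  · exact h2 h4
  · exact bV_ne_zero _ h4

theorem negOne_mul_self : Cfsg.Agent.S0246.negOne F m * Cfsg.Agent.S0246.negOne F m = 1 := by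
  apply sp_ext
  intro x
  rw [sp_mul_mulVec, negOne_mulVec, negOne_mulVec, neg_neg, sp_one_mulVec]

theorem negOne_pow_odd {n : ℕ} (hn : Odd n) :
    Cfsg.Agent.S0246.negOne F m ^ n = Cfsg.Agent.S0246.negOne F m := by
  obtain ⟨k, rfl⟩ := hn
  rw [pow_succ, pow_mul, pow_two, negOne_mul_self, one_pow, one_mul]

theorem map_Zs_le {G H : Type*} [Group G] [Group H] (f : G →* H) (K : Subgroup G) :
    (Zs K).map f ≤ Zs (K.map f) := by
  rintro _ ⟨y, hy, rfl⟩
  have hy : y ∈ Zs K := hy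
  rw [mem_Zs_iff] at hy ⊢
  refine ⟨Subgroup.mem_map_of_mem _ hy.1, ?_⟩
  rintro _ ⟨h, hh, rfl⟩
  rw [← map_mul, ← map_mul, hy.2 h hh]

theorem Zs_map_mkP_le (p : ℕ) [Fact p.Prime] [CharP F p] (hm : 1 ≤ m)
    (P : Subgroup ↥(Matrix.symplecticGroup (Fin m) F)) (hP : IsPGroup p ↥P) :
    Zs (P.map (mkP m F)) ≤ (Zs P).map (mkP m F) := by
  intro zb hzb
  rw [mem_Zs_iff] at hzb
  obtain ⟨⟨z, hz, rfl⟩, hc⟩ := hzb
  refine ⟨z, ?_, rfl⟩
  show z ∈ Zs P
  rw [mem_Zs_iff]
  refine ⟨hz, fun h hh => ?_⟩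
  have h1 := hc _ (Subgroup.mem_map_of_mem _ hh)
  rw [← map_mul, ← map_mul] at h1
  rcases mkP_eq_cases hm _ _ h1 with h2 | h2
  · exact h2.symm
  · by_cases h20 : (2 : F) = 0
    · rw [negOne_eq_one_of_two h20, mul_one] at h2
      exact h2.symm
    · exfalso
      set c := Cfsg.Agent.S0246.negOne F m with hc_def
      have hcc : ∀ y : ↥(Matrix.symplecticGroup (Fin m) F), Commute y c := fun y =>
        (Subgroup.mem_center_iff.mp Cfsg.Agent.S0246.negOne_mem_center y)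
      obtain ⟨k, hk⟩ := hP ⟨h, hh⟩
      have hk' : h ^ p ^ k = 1 := by
        have := congrArg Subtype.val hk
        simpa using this
      have hp2 : p ≠ 2 := by
        intro hp
        apply h20
        have := CharP.cast_eq_zero F p
        rw [hp] at this
        exact_mod_cast this
      have hodd : Odd (p ^ k) := Odd.pow ((Fact.out : p.Prime).odd_of_ne_two hp2)
      have e1 : z * h * z⁻¹ = h * c := by
        rw [h2]
        have := (hcc z).eq
        calc h * z * c * z⁻¹ = h * (z * c) * z⁻¹ := by group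
          _ = h * (c * z) * z⁻¹ := by rw [this]
          _ = h * c := by group
      have e2 : (z * h * z⁻¹) ^ p ^ k = 1 := by
        rw [conj_pow, hk']; group
      rw [e1, (hcc h).mul_pow, hk', one_mul, negOne_pow_odd hodd] at e2
      exact negOne_ne_one h20 hm e2

theorem mkP_injective_char2 (h2 : (2 : F) = 0) (hm : 1 ≤ m) : Function.Injective (mkP m F) := by
  intro a b hab
  rcases mkP_eq_cases hm _ _ hab with h | h
  · exact h.symm
  · rw [negOne_eq_one_of_two h2, mul_one] at h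
    exact h.symm

theorem NoOrd4_iff_of_bijective {G H : Type*} [Group G] [Group H] (f : G →* H)
    (hi : Function.Injective f) (hs : Function.Surjective f) (x : G) :
    NoOrd4 x ↔ NoOrd4 (f x) := by
  constructor
  · intro h g' hg'
    obtain ⟨g, rfl⟩ := hs g'
    rw [← map_inv, ← map_mul, ← map_mul, ← map_mul, ← map_pow] at hg' ⊢
    rw [← map_one f] at hg'
    rw [h g (hi hg'), map_one]
  · intro h g hg
    have h1 := h (f g) (by
      rw [← map_inv, ← map_mul, ← map_mul, ← map_mul, ← map_pow, hg, map_one])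
    rw [← map_inv, ← map_mul, ← map_mul, ← map_mul, ← map_pow, ← map_one f] at h1
    exact hi h1

theorem mkP_spT_injective (hm : 1 ≤ m) {q : Fin m ⊕ Fin m → F} (hq : q ≠ 0) (c d : F)
    (h : mkP m F (spT m q c) = mkP m F (spT m q d)) : c = d := by
  have key : spT m q d = spT m q c → c = d := by
    intro h1
    have h2 : spT m q (d - c) = 1 := by
      rw [sub_eq_add_neg, ← spT_mul, h1, ← spT_inv, mul_inv_cancel]
    have := (spT_eq_one_iff hq).mp h2
    exact (sub_eq_zero.mp this).symm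
  rcases mkP_eq_cases hm _ _ h with h1 | h1
  · exact key h1
  · by_cases h20 : (2 : F) = 0
    · rw [negOne_eq_one_of_two h20, mul_one] at h1
      exact key h1
    · exfalso
      have h3 := congrArg (fun g : ↥(Matrix.symplecticGroup (Fin m) F) => g.1 *ᵥ q) h1
      simp only [sp_mul_mulVec, spT_mulVec, negOne_mulVec, sympForm_self, mul_zero, zero_smul,
        add_zero, sympForm_neg_left, neg_zero] at h3
      have h4 : (2 : F) • q = 0 := by
        rw [two_smul]
        nth_rewrite 1 [h3]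
        exact neg_add_cancel q
      rcases smul_eq_zero.mp h4 with h5 | h5
      · exact h20 h5
      · exact hq h5

variable [Fintype F]

theorem card_Xb (hm : 1 ≤ m) {q : Fin m ⊕ Fin m → F} (hq : q ≠ 0) :
    Nat.card ↥(Xb q) = Fintype.card F := by
  rw [← Nat.card_eq_fintype_card]
  apply Nat.card_congr
  refine (Equiv.ofBijective (fun c : F => (⟨mkP m F (spT m q c), (mem_Xb_iff _ _).mpr ⟨c, rfl⟩⟩ : ↥(Xb q))) ⟨?_, ?_⟩).symm
  · intro c d hcd
    exact mkP_spT_injective hm hq c d (congrArg Subtype.val hcd)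
  · rintro ⟨x, hx⟩
    obtain ⟨c, rfl⟩ := (mem_Xb_iff _ _).mp hx
    exact ⟨c, rfl⟩


/-- the automorphism permutes the transvection subgroups. -/
def PermX (α : MulAut (Cfsg.PSp m F)) : Prop :=
  ∀ p : Fin m ⊕ Fin m → F, p ≠ 0 → ∃ q : Fin m ⊕ Fin m → F, q ≠ 0 ∧
    (Xb p).map α.toMonoidHom = Xb q

theorem sp_mulVec_ne_zero' (g : ↥(Matrix.symplecticGroup (Fin m) F)) {v : Fin m ⊕ Fin m → F}
    (hv : v ≠ 0) : g.1 *ᵥ v ≠ 0 := by
  intro h
  apply hv
  have := sp_inv_mulVec g v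
  rw [h, Matrix.mulVec_zero] at this
  exact this.symm

theorem aut_Xb_e0 (p : ℕ) [Fact p.Prime] [CharP F p] (hm : 2 ≤ m) (h4 : m = 2 → p ≠ 2)
    (α : MulAut (Cfsg.PSp m F)) :
    ∃ q : Fin m ⊕ Fin m → F, q ≠ 0 ∧
      (Xb (bV (Sum.inl ⟨0, by omega⟩) : Fin m ⊕ Fin m → F)).map α.toMonoidHom = Xb q := by
  obtain ⟨P₁, hU⟩ := (Usp_isPGroup (m := m) (F := F) p).exists_le_sylow
  set Pb : Sylow p (Cfsg.PSp m F) := P₁.mapSurjective mkP_surjective with hPb_def
  obtain ⟨xb, hx⟩ := MulAction.exists_smul_eq (Cfsg.PSp m F) Pb (α • Pb)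
  have h1 := congrArg (fun P : Sylow p (Cfsg.PSp m F) => P.toSubgroup) hx
  simp only [Sylow.coe_subgroup_smul, Sylow.pointwise_smul_def] at h1
  obtain ⟨x, rfl⟩ := mkP_surjective xb
  have hPb : (Pb : Subgroup (Cfsg.PSp m F)) = P₁.toSubgroup.map (mkP m F) := rfl
  have h2 : (Pb : Subgroup (Cfsg.PSp m F)).map (MulAut.conj (mkP m F x)).toMonoidHom =
      (Pb : Subgroup (Cfsg.PSp m F)).map α.toMonoidHom := h1
  set e0 : Fin m ⊕ Fin m → F := bV (Sum.inl ⟨0, by omega⟩) with he0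
  have hne : x.1 *ᵥ e0 ≠ 0 := sp_mulVec_ne_zero' x (bV_ne_zero _)
  refine ⟨x.1 *ᵥ e0, hne, ?_⟩
  have hle : (Xb e0).map α.toMonoidHom ≤ Xb (x.1 *ᵥ e0) := by
    rintro _ ⟨tb, htb, rfl⟩
    have htZ : tb ∈ Zs (Pb : Subgroup (Cfsg.PSp m F)) := by
      rw [hPb]
      apply map_Zs_le
      exact Subgroup.map_mono (spRoot_le_Zs p (by omega) P₁ hU) htb
    have h3 : α tb ∈ (Zs (Pb : Subgroup (Cfsg.PSp m F))).map α.toMonoidHom :=
      Subgroup.mem_map_of_mem _ htZ
    rw [map_Zs, ← h2, ← map_Zs] at h3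
    obtain ⟨yb, hyb, hyeq⟩ := h3
    rw [hPb] at hyb
    obtain ⟨y, hy, rfl⟩ := Zs_map_mkP_le p (by omega) P₁.toSubgroup P₁.2 hyb
    obtain ⟨a, b, hb2, rfl⟩ := Zs_sylow_form p hm P₁ hU y hy
    have hb0 : b = 0 := by
      by_cases h20 : (2 : F) = 0
      · by_contra hb
        have hp2 : p = 2 := by
          have h5 : ((2 : ℕ) : F) = 0 := by exact_mod_cast h20
          have h6 := (CharP.cast_eq_zero_iff F p 2).mp h5
          exact (Nat.prime_dvd_prime_iff_eq Fact.out Nat.prime_two).mp h6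
        have hm3 : 3 ≤ m := by
          by_contra hcon
          exact h4 (by omega) hp2
        obtain ⟨c, rfl⟩ := (mem_Xb_iff _ _).mp htb
        have n1 : NoOrd4 (spT m e0 c) := transvection_noOrd4 h20 _ _
        have n2 : NoOrd4 (mkP m F (spT m e0 c)) :=
          (NoOrd4_iff_of_bijective (mkP m F) (mkP_injective_char2 h20 (by omega)) mkP_surjective _).mp n1
        have n3 := NoOrd4_map α _ n2
        have hyeq' : α (mkP m F (spT m e0 c)) =
            mkP m F (x * (spT m e0 a * sR e0 (bV (Sum.inl ⟨1, by omega⟩)) b) * x⁻¹) := by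
          rw [map_mul, map_mul, map_inv]
          exact hyeq.symm
        rw [hyeq'] at n3
        have n4 := (NoOrd4_iff_of_bijective (mkP m F) (mkP_injective_char2 h20 (by omega))
          mkP_surjective _).mpr n3
        have n5 := NoOrd4_map (MulAut.conj x⁻¹) _ n4
        have : (MulAut.conj x⁻¹) (x * (spT m e0 a * sR e0 (bV (Sum.inl ⟨1, by omega⟩)) b) * x⁻¹) =
            spT m e0 a * sR e0 (bV (Sum.inl ⟨1, by omega⟩)) b := by
          rw [MulAut.conj_apply]; group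
        rw [this] at n5
        exact mixed_fails h20 hm3 a b hb n5
      · exact (mul_eq_zero.mp hb2).resolve_left h20
    subst hb0
    rw [sR_zero, mul_one] at hyeq
    rw [mem_Xb_iff]
    refine ⟨a, ?_⟩
    have : α tb = mkP m F x * mkP m F (spT m e0 a) * (mkP m F x)⁻¹ := hyeq.symm
    show α tb = _
    rw [this, ← map_inv, ← map_mul, ← map_mul, spT_conj]
  apply Subgroup.eq_of_le_of_card_ge hle
  rw [card_Xb (by omega) hne, Subgroup.card_map_of_injective α.injective, card_Xb (by omega) (bV_ne_zero _)]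

theorem permX_all (p : ℕ) [Fact p.Prime] [CharP F p] (hm : 2 ≤ m) (h4 : m = 2 → p ≠ 2)
    (α : MulAut (Cfsg.PSp m F)) : PermX α := by
  intro v hv
  obtain ⟨m', rfl⟩ : ∃ m', m = m' + 1 := ⟨m - 1, by omega⟩
  obtain ⟨g, hg⟩ := Cfsg.Agent.Lib.Helper16.sp_transitive m' (bV (Sum.inl ⟨0, by omega⟩)) v (bV_ne_zero _) hv
  have h1 : Xb v = (Xb (bV (Sum.inl ⟨0, by omega⟩) : Fin (m' + 1) ⊕ Fin (m' + 1) → F)).map
      (MulAut.conj (mkP (m' + 1) F g)).toMonoidHom := by
    rw [Xb_conj]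
    congr 1
    exact hg.symm
  obtain ⟨q, hq, hq'⟩ := aut_Xb_e0 p hm h4 (α * MulAut.conj (mkP (m' + 1) F g))
  refine ⟨q, hq, ?_⟩
  rw [h1, Subgroup.map_map]
  exact hq'

end Cfsg.Agent.Lib.Helper16.SPA
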