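import Cfsg.Agent.Lib.Helper16.SPA5

set_option autoImplicit false
set_option linter.unusedSectionVars false
set_option linter.unusedVariables false

namespace Cfsg.Agent.Lib.Helper16.SPA

open Matrix Cfsg.Agent.Lib.helper6 Cfsg.Agent.Lib.helper6.SB Cfsg.Agent.Lib.Helper26

universe u
variable {F : Type u} [Field F] {m : ℕ}

/-- a map on non-zero vectors preserving orthogonality and fixing the frame points. -/
structure PolarMap (φ : (Fin m ⊕ Fin m → F) → (Fin m ⊕ Fin m → F)) : Prop where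
  ne_zero : ∀ x, x ≠ 0 → φ x ≠ 0
  perp_iff : ∀ x y, x ≠ 0 → y ≠ 0 →
    (Cfsg.sympForm m F (φ x) (φ y) = 0 ↔ Cfsg.sympForm m F x y = 0)
  frame : ∀ k, par (bV k) (φ (bV k))

theorem sympForm_eq_sum_eps (u v : Fin m ⊕ Fin m → F) :
    Cfsg.sympForm m F u v = ∑ j, v j * (eps j * u (Sum.swap j)) := by
  rw [sympForm_eq_sum, Fintype.sum_sum_type]
  simp only [eps, Sum.elim_inl, Sum.elim_inr, Sum.swap_inl, Sum.swap_inr, one_mul, neg_mul, mul_neg,
    Finset.sum_neg_distrib]
  rw [Finset.sum_sub_distrib, sub_eq_add_neg]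
  congr 1
  · exact Finset.sum_congr rfl (fun i _ => mul_comm _ _)
  · congr 1
    exact Finset.sum_congr rfl (fun i _ => mul_comm _ _)

variable {φ : (Fin m ⊕ Fin m → F) → (Fin m ⊕ Fin m → F)}

theorem PolarMap.supp_iff (hφ : PolarMap φ) {x : Fin m ⊕ Fin m → F} (hx : x ≠ 0)
    (k : Fin m ⊕ Fin m) : φ x k = 0 ↔ x k = 0 := by
  obtain ⟨c, hc, hck⟩ := hφ.frame (Sum.swap k)
  have h1 := hφ.perp_iff x (bV (Sum.swap k)) hx (bV_ne_zero _)
  rw [hck, sympForm_smul_right, sympForm_bV_right, sympForm_bV_right, Sum.swap_swap] at h1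
  constructor
  · intro h
    have := h1.mp (by rw [h, mul_zero, mul_zero])
    rcases mul_eq_zero.mp this with h2 | h2
    · exact absurd h2 (eps_ne_zero _)
    · exact h2
  · intro h
    have := h1.mpr (by rw [h, mul_zero])
    rcases mul_eq_zero.mp this with h2 | h2
    · exact absurd h2 hc
    · rcases mul_eq_zero.mp h2 with h3 | h3
      · exact absurd h3 (eps_ne_zero _)
      · exact h3

/-- pairing with a vector supported on two coordinates. -/
theorem sympForm_supp2 (u z : Fin m ⊕ Fin m → F) (p q : Fin m ⊕ Fin m) (hpq : p ≠ q)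
    (hz : ∀ j, j ≠ p → j ≠ q → z j = 0) :
    Cfsg.sympForm m F u z = z p * (eps p * u (Sum.swap p)) + z q * (eps q * u (Sum.swap q)) := by
  rw [sympForm_eq_sum_eps]
  rw [← Finset.add_sum_erase Finset.univ _ (Finset.mem_univ p)]
  congr 1
  rw [← Finset.add_sum_erase _ _ (Finset.mem_erase.mpr ⟨Ne.symm hpq, Finset.mem_univ q⟩)]
  rw [Finset.sum_eq_zero, add_zero]
  intro j hj
  rw [Finset.mem_erase, Finset.mem_erase] at hj
  rw [hz j hj.2.1 hj.1, zero_mul]

/-- pairing with a vector supported on three coordinates. -/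
theorem sympForm_supp3 (u z : Fin m ⊕ Fin m → F) (p q r : Fin m ⊕ Fin m) (hpq : p ≠ q)
    (hpr : p ≠ r) (hqr : q ≠ r)
    (hz : ∀ j, j ≠ p → j ≠ q → j ≠ r → z j = 0) :
    Cfsg.sympForm m F u z = z p * (eps p * u (Sum.swap p)) + z q * (eps q * u (Sum.swap q)) +
      z r * (eps r * u (Sum.swap r)) := by
  rw [sympForm_eq_sum_eps]
  rw [← Finset.add_sum_erase Finset.univ _ (Finset.mem_univ p)]
  rw [← Finset.add_sum_erase _ _ (Finset.mem_erase.mpr ⟨Ne.symm hpq, Finset.mem_univ q⟩)]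
  rw [← Finset.add_sum_erase _ _ (Finset.mem_erase.mpr ⟨Ne.symm hqr,
    Finset.mem_erase.mpr ⟨Ne.symm hpr, Finset.mem_univ r⟩⟩)]
  rw [Finset.sum_eq_zero, add_zero, add_assoc]
  intro j hj
  rw [Finset.mem_erase, Finset.mem_erase, Finset.mem_erase] at hj
  rw [hz j hj.2.2.1 hj.2.1 hj.1, zero_mul]

/-- the ratio lemma. -/
theorem PolarMap.ratio (hφ : PolarMap φ) {x y : Fin m ⊕ Fin m → F} (hx : x ≠ 0) (hy : y ≠ 0)
    (k l : Fin m ⊕ Fin m) (hkl : k ≠ l) (hxk : x k ≠ 0) (h : x l * y k = y l * x k) :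
    φ x l * φ y k = φ y l * φ x k := by
  have hs : Sum.swap k ≠ Sum.swap l := fun h' => hkl (Sum.swap_leftInverse.injective h')  
  set z : Fin m ⊕ Fin m → F := (eps (Sum.swap l) * x l) • bV (Sum.swap k) -
    (eps (Sum.swap k) * x k) • bV (Sum.swap l) with hz
  have hzl : z (Sum.swap l) = -(eps (Sum.swap k) * x k) := by
    rw [hz]
    simp [bV_apply, hs, Ne.symm hs]
  have hz0 : z ≠ 0 := by
    intro h0
    rw [h0] at hzl
    have : eps (Sum.swap k) * x k = 0 := by
      have := hzl.symm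
      rwa [Pi.zero_apply, neg_eq_zero] at this
    rcases mul_eq_zero.mp this with h1 | h1
    · exact eps_ne_zero _ h1
    · exact hxk h1
  have hperp : ∀ u : Fin m ⊕ Fin m → F, Cfsg.sympForm m F u z =
      eps (Sum.swap l) * eps (Sum.swap k) * (x l * u k - x k * u l) := by
    intro u
    rw [hz, sympForm_sub_right, sympForm_smul_right, sympForm_smul_right, sympForm_bV_right,
      sympForm_bV_right, Sum.swap_swap, Sum.swap_swap]
    ring
  have hxz : Cfsg.sympForm m F x z = 0 := by rw [hperp]; ring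
  have hyz : Cfsg.sympForm m F y z = 0 := by rw [hperp, h]; ring
  have hxz' := (hφ.perp_iff x z hx hz0).mpr hxz
  have hyz' := (hφ.perp_iff y z hy hz0).mpr hyz
  have hsupp : ∀ j, j ≠ Sum.swap k → j ≠ Sum.swap l → φ z j = 0 := by
    intro j hjk hjl
    rw [hφ.supp_iff hz0, hz]
    simp [bV_apply, hjk, hjl]
  rw [sympForm_supp2 _ _ _ _ hs hsupp, Sum.swap_swap, Sum.swap_swap] at hxz' hyz'
  have hR : φ z (Sum.swap l) * eps (Sum.swap l) ≠ 0 := by
    apply mul_ne_zero _ (eps_ne_zero _)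
    rw [Ne, hφ.supp_iff hz0, hzl, neg_eq_zero]
    exact mul_ne_zero (eps_ne_zero _) hxk
  have : (φ z (Sum.swap l) * eps (Sum.swap l)) * (φ x l * φ y k - φ y l * φ x k) = 0 := by
    linear_combination (φ y k) * hxz' - (φ x k) * hyz'
  rcases mul_eq_zero.mp this with h1 | h1
  · exact absurd h1 hR
  · exact sub_eq_zero.mp h1


/-- the coordinate maps of a polar map. -/
noncomputable def tau (φ : (Fin m ⊕ Fin m → F) → (Fin m ⊕ Fin m → F)) (k l : Fin m ⊕ Fin m) (a : F) : F :=
  φ (bV k + a • bV l) l / φ (bV k + a • bV l) k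

theorem bk_add_apply_k (k l : Fin m ⊕ Fin m) (hkl : k ≠ l) (a : F) :
    (bV k + a • bV l : Fin m ⊕ Fin m → F) k = 1 := by
  simp [bV_apply, hkl]

theorem bk_add_apply_l (k l : Fin m ⊕ Fin m) (hkl : k ≠ l) (a : F) :
    (bV k + a • bV l : Fin m ⊕ Fin m → F) l = a := by
  simp [bV_apply, Ne.symm hkl]

theorem bk_add_ne_zero (k l : Fin m ⊕ Fin m) (hkl : k ≠ l) (a : F) :
    (bV k + a • bV l : Fin m ⊕ Fin m → F) ≠ 0 := by
  intro h
  have := congrFun h k
  rw [bk_add_apply_k k l hkl] at this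
  exact one_ne_zero this

theorem PolarMap.tau_spec (hφ : PolarMap φ) (k l : Fin m ⊕ Fin m) (hkl : k ≠ l)
    {x : Fin m ⊕ Fin m → F} (hx : x ≠ 0) (hxk : x k ≠ 0) :
    φ x l = φ x k * tau φ k l (x l / x k) := by
  unfold tau
  set y : Fin m ⊕ Fin m → F := bV k + (x l / x k) • bV l with hy
  have hy0 : y ≠ 0 := bk_add_ne_zero k l hkl _
  have hyk : y k = 1 := bk_add_apply_k k l hkl _
  have hyl : y l = x l / x k := bk_add_apply_l k l hkl _
  have h1 := hφ.ratio hx hy0 k l hkl hxk (by rw [hyk, hyl]; field_simp)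
  have h2 : φ y k ≠ 0 := by
    rw [Ne, hφ.supp_iff hy0, hyk]; exact one_ne_zero
  field_simp
  linear_combination h1

theorem PolarMap.tau_zero (hφ : PolarMap φ) (k l : Fin m ⊕ Fin m) (hkl : k ≠ l) :
    tau φ k l 0 = 0 := by
  unfold tau
  have h0 := bk_add_ne_zero (F := F) k l hkl 0
  have : φ (bV k + (0 : F) • bV l) l = 0 := by
    rw [hφ.supp_iff h0, bk_add_apply_l k l hkl]
  rw [this, zero_div]

theorem PolarMap.tau_ne_zero (hφ : PolarMap φ) (k l : Fin m ⊕ Fin m) (hkl : k ≠ l) {a : F}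
    (ha : a ≠ 0) : tau φ k l a ≠ 0 := by
  unfold tau
  have h0 := bk_add_ne_zero (F := F) k l hkl a
  apply div_ne_zero
  · rw [Ne, hφ.supp_iff h0, bk_add_apply_l k l hkl]; exact ha
  · rw [Ne, hφ.supp_iff h0, bk_add_apply_k k l hkl]; exact one_ne_zero

/-- the cocycle relation. -/
theorem PolarMap.tau_cocycle (hφ : PolarMap φ) (k l n : Fin m ⊕ Fin m) (hkl : k ≠ l) (hkn : k ≠ n)
    (hln : l ≠ n) {a : F} (ha : a ≠ 0) (c : F) :
    tau φ k n (a * c) = tau φ k l a * tau φ l n c := by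
  set x : Fin m ⊕ Fin m → F := bV k + a • bV l + (a * c) • bV n with hx
  have hxk : x k = 1 := by simp [hx, bV_apply, hkl, hkn]
  have hxl : x l = a := by simp [hx, bV_apply, Ne.symm hkl, hln]
  have hxn : x n = a * c := by simp [hx, bV_apply, Ne.symm hkn, Ne.symm hln]
  have hx0 : x ≠ 0 := by
    intro h
    have := congrFun h k
    rw [hxk] at this
    exact one_ne_zero this
  have h1 := hφ.tau_spec k n hkn hx0 (by rw [hxk]; exact one_ne_zero)
  have h2 := hφ.tau_spec k l hkl hx0 (by rw [hxk]; exact one_ne_zero)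
  have h3 := hφ.tau_spec l n hln hx0 (by rw [hxl]; exact ha)
  rw [hxk, hxn, div_one] at h1
  rw [hxk, hxl, div_one] at h2
  rw [hxl, hxn, mul_div_cancel_left₀ _ ha] at h3
  have hk : φ x k ≠ 0 := by
    rw [Ne, hφ.supp_iff hx0, hxk]; exact one_ne_zero
  have : φ x k * tau φ k n (a * c) = φ x k * (tau φ k l a * tau φ l n c) := by
    rw [← h1, h3, h2]; ring
  exact mul_left_cancel₀ hk this

/-- the additivity relation. -/
theorem PolarMap.tau_add (hφ : PolarMap φ) (k l n : Fin m ⊕ Fin m) (hkl : k ≠ l) (hkn : k ≠ n)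
    (hln : l ≠ n) (a c : F) :
    tau φ k l (a + c) = tau φ k l a + tau φ k n 1 * tau φ n l c := by
  have hskl : Sum.swap k ≠ Sum.swap l := fun h' => hkl (Sum.swap_leftInverse.injective h')
  have hskn : Sum.swap k ≠ Sum.swap n := fun h' => hkn (Sum.swap_leftInverse.injective h')
  have hsln : Sum.swap l ≠ Sum.swap n := fun h' => hln (Sum.swap_leftInverse.injective h')
  set u : Fin m ⊕ Fin m → F := bV k + a • bV l with hu
  set v : Fin m ⊕ Fin m → F := bV n + c • bV l with hv
  set w : Fin m ⊕ Fin m → F := bV k + bV n + (a + c) • bV l with hw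
  have huk : u k = 1 := bk_add_apply_k k l hkl a
  have hul : u l = a := bk_add_apply_l k l hkl a
  have hun : u n = 0 := by simp [hu, bV_apply, Ne.symm hkn, Ne.symm hln]
  have hvn : v n = 1 := bk_add_apply_k n l (Ne.symm hln) c
  have hvl : v l = c := bk_add_apply_l n l (Ne.symm hln) c
  have hvk : v k = 0 := by simp [hv, bV_apply, hkn, hkl]
  have hwk : w k = 1 := by simp [hw, bV_apply, hkn, hkl]
  have hwn : w n = 1 := by simp [hw, bV_apply, Ne.symm hkn, Ne.symm hln]
  have hwl : w l = a + c := by simp [hw, bV_apply, Ne.symm hkl, hln]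
  have hu0 : u ≠ 0 := bk_add_ne_zero k l hkl a
  have hv0 : v ≠ 0 := bk_add_ne_zero n l (Ne.symm hln) c
  have hw0 : w ≠ 0 := by
    intro h
    have := congrFun h k
    rw [hwk] at this
    exact one_ne_zero this
  set z : Fin m ⊕ Fin m → F := (-(eps (Sum.swap k) * a)) • bV (Sum.swap k) +
    (-(eps (Sum.swap n) * c)) • bV (Sum.swap n) + (eps (Sum.swap l) : F) • bV (Sum.swap l) with hz
  have hzl : z (Sum.swap l) = eps (Sum.swap l) := by
    simp [hz, bV_apply, Ne.symm hskl, hsln]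
  have hz0 : z ≠ 0 := by
    intro h0
    rw [h0] at hzl
    exact eps_ne_zero _ hzl.symm
  have hperp : ∀ y : Fin m ⊕ Fin m → F, Cfsg.sympForm m F y z = - a * y k - c * y n + y l := by
    intro y
    rw [hz, sympForm_add_right, sympForm_add_right, sympForm_smul_right, sympForm_smul_right,
      sympForm_smul_right, sympForm_bV_right, sympForm_bV_right, sympForm_bV_right, Sum.swap_swap,
      Sum.swap_swap, Sum.swap_swap]
    have e1 := eps_mul_self (F := F) (Sum.swap k)
    have e2 := eps_mul_self (F := F) (Sum.swap n)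
    have e3 := eps_mul_self (F := F) (Sum.swap l)
    linear_combination (-a * y k) * e1 + (-c * y n) * e2 + (y l) * e3
  have huz := (hφ.perp_iff u z hu0 hz0).mpr (by rw [hperp, huk, hun, hul]; ring)
  have hvz := (hφ.perp_iff v z hv0 hz0).mpr (by rw [hperp, hvk, hvn, hvl]; ring)
  have hwz := (hφ.perp_iff w z hw0 hz0).mpr (by rw [hperp, hwk, hwn, hwl]; ring)
  have hsupp : ∀ j, j ≠ Sum.swap k → j ≠ Sum.swap n → j ≠ Sum.swap l → φ z j = 0 := by
    intro j hjk hjn hjl
    rw [hφ.supp_iff hz0, hz]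
    simp [bV_apply, hjk, hjn, hjl]
  rw [sympForm_supp3 _ _ _ _ _ hskn hskl (Ne.symm hsln) hsupp, Sum.swap_swap, Sum.swap_swap,
    Sum.swap_swap] at huz hvz hwz
  have hR : φ z (Sum.swap l) * eps (Sum.swap l) ≠ 0 := by
    apply mul_ne_zero _ (eps_ne_zero _)
    rw [Ne, hφ.supp_iff hz0, hzl]
    exact eps_ne_zero _
  -- values of the images
  have hu_n : φ u n = 0 := by rw [hφ.supp_iff hu0, hun]
  have hv_k : φ v k = 0 := by rw [hφ.supp_iff hv0, hvk]
  have hu_l := hφ.tau_spec k l hkl hu0 (by rw [huk]; exact one_ne_zero)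
  have hv_l := hφ.tau_spec n l (Ne.symm hln) hv0 (by rw [hvn]; exact one_ne_zero)
  have hw_l := hφ.tau_spec k l hkl hw0 (by rw [hwk]; exact one_ne_zero)
  have hw_n := hφ.tau_spec k n hkn hw0 (by rw [hwk]; exact one_ne_zero)
  rw [huk, hul, div_one] at hu_l
  rw [hvn, hvl, div_one] at hv_l
  rw [hwk, hwl, div_one] at hw_l
  rw [hwk, hwn, div_one] at hw_n
  have hu_k : φ u k ≠ 0 := by rw [Ne, hφ.supp_iff hu0, huk]; exact one_ne_zero
  have hv_n : φ v n ≠ 0 := by rw [Ne, hφ.supp_iff hv0, hvn]; exact one_ne_zero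
  have hw_k : φ w k ≠ 0 := by rw [Ne, hφ.supp_iff hw0, hwk]; exact one_ne_zero
  rw [hu_n, hu_l] at huz
  rw [hv_k, hv_l] at hvz
  rw [hw_l, hw_n] at hwz
  set P := φ z (Sum.swap k) * eps (Sum.swap k) with hP
  set Q := φ z (Sum.swap n) * eps (Sum.swap n) with hQ
  set R := φ z (Sum.swap l) * eps (Sum.swap l) with hRdef
  have e1 : P + R * tau φ k l a = 0 := by
    have : φ u k * (P + R * tau φ k l a) = 0 := by rw [hP, hRdef]; linear_combination huz
    rcases mul_eq_zero.mp this with h | h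
    · exact absurd h hu_k
    · exact h
  have e2 : Q + R * tau φ n l c = 0 := by
    have : φ v n * (Q + R * tau φ n l c) = 0 := by rw [hQ, hRdef]; linear_combination hvz
    rcases mul_eq_zero.mp this with h | h
    · exact absurd h hv_n
    · exact h
  have e3 : P + Q * tau φ k n 1 + R * tau φ k l (a + c) = 0 := by
    have : φ w k * (P + Q * tau φ k n 1 + R * tau φ k l (a + c)) = 0 := by
      rw [hP, hQ, hRdef]; linear_combination hwz
    rcases mul_eq_zero.mp this with h | h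
    · exact absurd h hw_k
    · exact h
  have : R * (tau φ k l (a + c) - (tau φ k l a + tau φ k n 1 * tau φ n l c)) = 0 := by
    linear_combination e3 - e1 - (tau φ k n 1) * e2
  rcases mul_eq_zero.mp this with h | h
  · exact absurd h hR
  · exact sub_eq_zero.mp h


theorem PolarMap.tau_inv (hφ : PolarMap φ) (k l : Fin m ⊕ Fin m) (hkl : k ≠ l) {a : F}
    (ha : a ≠ 0) : tau φ k l a * tau φ l k a⁻¹ = 1 := by
  set x : Fin m ⊕ Fin m → F := bV k + a • bV l with hx
  have hxk : x k = 1 := bk_add_apply_k k l hkl a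
  have hxl : x l = a := bk_add_apply_l k l hkl a
  have hx0 : x ≠ 0 := bk_add_ne_zero k l hkl a
  have h1 := hφ.tau_spec k l hkl hx0 (by rw [hxk]; exact one_ne_zero)
  have h2 := hφ.tau_spec l k (Ne.symm hkl) hx0 (by rw [hxl]; exact ha)
  rw [hxk, hxl, div_one] at h1
  rw [hxk, hxl, one_div] at h2
  have hk : φ x k ≠ 0 := by rw [Ne, hφ.supp_iff hx0, hxk]; exact one_ne_zero
  have : φ x k * (tau φ k l a * tau φ l k a⁻¹) = φ x k * 1 := by
    rw [mul_one]
    nth_rewrite 2 [h2]
    rw [h1]; ring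
  exact mul_left_cancel₀ hk this

theorem eps_cases (k : Fin m ⊕ Fin m) : (eps k : F) = 1 ∨ (eps k : F) = -1 := by
  rcases k with j | j
  · left; rfl
  · right; rfl

theorem PolarMap.exists_semilinear [Finite F] (hm : 2 ≤ m) (hφ : PolarMap φ) :
    ∃ (σ : F ≃+* F) (lam : Fin m ⊕ Fin m → F) (μ : F), μ ≠ 0 ∧ (∀ k, lam k ≠ 0) ∧
      (∀ k, lam k * lam (Sum.swap k) = μ) ∧
      ∀ x, x ≠ 0 → par (fun k => lam k * σ (x k)) (φ x) := by
  classical
  set o : Fin m ⊕ Fin m := Sum.inl ⟨0, by omega⟩ with ho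
  set o1 : Fin m ⊕ Fin m := Sum.inl ⟨1, by omega⟩ with ho1
  set o2 : Fin m ⊕ Fin m := Sum.inr ⟨0, by omega⟩ with ho2
  have hoo1 : o ≠ o1 := by
    intro h; have := Sum.inl.inj h; simp at this
  have hoo2 : o ≠ o2 := by simp [ho, ho2]
  have ho1o2 : o1 ≠ o2 := by simp [ho1, ho2]
  obtain ⟨lam, hlam⟩ : ∃ lam : Fin m ⊕ Fin m → F, lam = fun k => if k = o then 1 else tau φ o k 1 :=
    ⟨_, rfl⟩
  have lam_o : lam o = 1 := by simp [hlam]
  have lam_ne_o : ∀ k, k ≠ o → lam k = tau φ o k 1 := by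
    intro k hk; simp [hlam, hk]
  have lam_ne : ∀ k, lam k ≠ 0 := by
    intro k
    by_cases hk : k = o
    · rw [hk, lam_o]; exact one_ne_zero
    · rw [lam_ne_o k hk]; exact hφ.tau_ne_zero o k (Ne.symm hk) one_ne_zero
  obtain ⟨sg, hsg⟩ : ∃ sg : F → F, sg = fun a => tau φ o o1 a / lam o1 := ⟨_, rfl⟩
  -- S1, S2
  have S1 : ∀ k l n : Fin m ⊕ Fin m, k ≠ l → k ≠ n → l ≠ n → ∀ a : F,
      tau φ k n a = tau φ k l a * tau φ l n 1 := by
    intro k l n hkl hkn hln a
    by_cases ha : a = 0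
    · rw [ha, hφ.tau_zero k n hkn, hφ.tau_zero k l hkl, zero_mul]
    · have := hφ.tau_cocycle k l n hkl hkn hln ha 1
      rwa [mul_one] at this
  have S2 : ∀ k l n : Fin m ⊕ Fin m, k ≠ l → k ≠ n → l ≠ n → ∀ c : F,
      tau φ k n c = tau φ k l 1 * tau φ l n c := by
    intro k l n hkl hkn hln c
    have := hφ.tau_cocycle k l n hkl hkn hln one_ne_zero c
    rwa [one_mul] at this
  have T0 : ∀ l, l ≠ o → ∀ a : F, tau φ o l a = lam l * sg a := by
    intro l hl a
    by_cases hl1 : l = o1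
    · rw [hl1, hsg]
      field_simp [lam_ne o1]
    · have h1 := S1 o o1 l hoo1 (Ne.symm hl) (Ne.symm hl1) a
      have h2 := S1 o o1 l hoo1 (Ne.symm hl) (Ne.symm hl1) 1
      rw [← lam_ne_o l hl, ← lam_ne_o o1 (Ne.symm hoo1)] at h2
      rw [h1, hsg]
      have := lam_ne o1
      field_simp
      rw [h2]; ring
  have T1 : ∀ k l, k ≠ o → l ≠ o → k ≠ l → ∀ a : F, tau φ k l a = lam l / lam k * sg a := by
    intro k l hk hl hkl a
    have h1 := S2 o k l (Ne.symm hk) (Ne.symm hl) hkl a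
    rw [T0 l hl, ← lam_ne_o k hk] at h1
    have := lam_ne k
    field_simp
    linear_combination -h1
  have sg_zero : sg 0 = 0 := by
    rw [hsg]; simp only; rw [hφ.tau_zero o o1 hoo1, zero_div]
  have sg_one : sg 1 = 1 := by
    rw [hsg]; simp only
    rw [← lam_ne_o o1 (Ne.symm hoo1), div_self (lam_ne o1)]
  have sg_mul : ∀ a c : F, sg (a * c) = sg a * sg c := by
    intro a c
    by_cases ha : a = 0
    · rw [ha, zero_mul, sg_zero, zero_mul]
    · have h1 := hφ.tau_cocycle o o1 o2 hoo1 hoo2 ho1o2 ha c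
      rw [T0 o2 (Ne.symm hoo2), T0 o1 (Ne.symm hoo1), T1 o1 o2 (Ne.symm hoo1) (Ne.symm hoo2) ho1o2] at h1
      have e1 := lam_ne o1
      have e2 := lam_ne o2
      have : lam o2 * sg (a * c) = lam o2 * (sg a * sg c) := by
        rw [h1]; field_simp
      exact mul_left_cancel₀ e2 this
  have sg_add : ∀ a c : F, sg (a + c) = sg a + sg c := by
    intro a c
    have h1 := hφ.tau_add o o1 o2 hoo1 hoo2 ho1o2 a c
    rw [T0 o1 (Ne.symm hoo1), T0 o1 (Ne.symm hoo1), T0 o2 (Ne.symm hoo2),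
      T1 o2 o1 (Ne.symm hoo2) (Ne.symm hoo1) (Ne.symm ho1o2), sg_one] at h1
    have e1 := lam_ne o1
    have e2 := lam_ne o2
    have : lam o1 * sg (a + c) = lam o1 * (sg a + sg c) := by
      rw [h1]; field_simp
    exact mul_left_cancel₀ e1 this
  let σ₀ : F →+* F :=
    { toFun := sg
      map_one' := sg_one
      map_mul' := sg_mul
      map_zero' := sg_zero
      map_add' := sg_add }
  have hinj : Function.Injective σ₀ := σ₀.injective
  have hbij : Function.Bijective σ₀ := ⟨hinj, Finite.injective_iff_surjective.mp hinj⟩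
  let σ : F ≃+* F := RingEquiv.ofBijective σ₀ hbij
  have hσ : ∀ a : F, σ a = sg a := fun a => rfl
  have sg_ne : ∀ a : F, a ≠ 0 → sg a ≠ 0 := by
    intro a ha
    rw [← hσ]
    exact (map_ne_zero σ).mpr ha
  have sg_div : ∀ a c : F, sg (a / c) = sg a / sg c := by
    intro a c
    rw [← hσ, ← hσ, ← hσ, map_div₀]
  have sg_neg : ∀ a : F, sg (-a) = - sg a := by
    intro a
    rw [← hσ, ← hσ, map_neg]
  have T2 : ∀ k, k ≠ o → ∀ a : F, tau φ k o a = 1 / lam k * sg a := by
    intro k hk a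
    by_cases ha : a = 0
    · rw [ha, hφ.tau_zero k o hk, sg_zero, mul_zero]
    · have h1 := hφ.tau_inv k o hk ha
      rw [T0 k hk] at h1
      have e1 := lam_ne k
      have e2 := sg_ne a⁻¹ (inv_ne_zero ha)
      have e3 : sg a * sg a⁻¹ = 1 := by rw [← sg_mul, mul_inv_cancel₀ ha, sg_one]
      have e4 : (lam k * sg a⁻¹) * (1 / lam k * sg a) = 1 := by
        rw [one_div]
        calc (lam k * sg a⁻¹) * ((lam k)⁻¹ * sg a) = (lam k * (lam k)⁻¹) * (sg a * sg a⁻¹) := by ring
          _ = 1 := by rw [mul_inv_cancel₀ e1, e3, mul_one]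
      calc tau φ k o a = tau φ k o a * ((lam k * sg a⁻¹) * (1 / lam k * sg a)) := by
            rw [e4, mul_one]
        _ = (tau φ k o a * (lam k * sg a⁻¹)) * (1 / lam k * sg a) := by ring
        _ = 1 / lam k * sg a := by rw [h1, one_mul]
  have T : ∀ k l, k ≠ l → ∀ a : F, tau φ k l a = lam l / lam k * sg a := by
    intro k l hkl a
    by_cases hk : k = o
    · subst hk
      rw [T0 l (Ne.symm hkl), lam_o, div_one]
    · by_cases hl : l = o
      · subst hl
        rw [T2 k hk, lam_o]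
      · exact T1 k l hk hl hkl a
  -- the description of `φ`
  have hdesc : ∀ x, x ≠ 0 → par (fun k => lam k * σ (x k)) (φ x) := by
    intro x hx
    obtain ⟨k, hk⟩ : ∃ k, x k ≠ 0 := by
      by_contra hcon
      push Not at hcon
      exact hx (funext hcon)
    have hφk : φ x k ≠ 0 := by rw [Ne, hφ.supp_iff hx]; exact hk
    refine ⟨φ x k / (lam k * sg (x k)), div_ne_zero hφk (mul_ne_zero (lam_ne k) (sg_ne _ hk)), ?_⟩
    funext j
    simp only [Pi.smul_apply, smul_eq_mul, hσ]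
    have e1 := lam_ne k
    have e2 := sg_ne _ hk
    by_cases hjk : j = k
    · rw [hjk]; field_simp
    · rw [hφ.tau_spec k j (Ne.symm hjk) hx hk, T k j (Ne.symm hjk), sg_div]
      field_simp
  refine ⟨σ, lam, lam o * lam (Sum.swap o), mul_ne_zero (lam_ne _) (lam_ne _), lam_ne, ?_, hdesc⟩
  have key : ∀ k l : Fin m ⊕ Fin m, k ≠ l → k ≠ Sum.swap l →
      lam k * lam (Sum.swap k) = lam l * lam (Sum.swap l) := by
    intro k l hkl hkl'
    have hs : Sum.swap k ≠ Sum.swap l := fun h' => hkl (Sum.swap_leftInverse.injective h')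
    set x : Fin m ⊕ Fin m → F := bV k + bV l with hx
    set y : Fin m ⊕ Fin m → F := (eps (Sum.swap k) : F) • bV (Sum.swap k) -
      (eps (Sum.swap l) : F) • bV (Sum.swap l) with hy
    have hxk : x k = 1 := by simp [hx, bV_apply, hkl]
    have hxl : x l = 1 := by simp [hx, bV_apply, Ne.symm hkl]
    have hysk : y (Sum.swap k) = eps (Sum.swap k) := by simp [hy, bV_apply, hs]
    have hysl : y (Sum.swap l) = - eps (Sum.swap l) := by simp [hy, bV_apply, Ne.symm hs]
    have hx0 : x ≠ 0 := by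
      intro h; have := congrFun h k; rw [hxk] at this; exact one_ne_zero this
    have hy0 : y ≠ 0 := by
      intro h; have := congrFun h (Sum.swap k); rw [hysk] at this; exact eps_ne_zero _ this
    have hxy : Cfsg.sympForm m F x y = 0 := by
      rw [hy, sympForm_sub_right, sympForm_smul_right, sympForm_smul_right, sympForm_bV_right,
        sympForm_bV_right, Sum.swap_swap, Sum.swap_swap, hxk, hxl]
      have e1 := eps_mul_self (F := F) (Sum.swap k)
      have e2 := eps_mul_self (F := F) (Sum.swap l)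
      linear_combination e1 - e2
    have h1 := (hφ.perp_iff x y hx0 hy0).mpr hxy
    obtain ⟨c1, hc1, hc1'⟩ := hdesc x hx0
    obtain ⟨c2, hc2, hc2'⟩ := hdesc y hy0
    rw [hc1', hc2', sympForm_smul_left, sympForm_smul_right] at h1
    have h2 : Cfsg.sympForm m F (fun k => lam k * σ (x k)) (fun k => lam k * σ (y k)) = 0 := by
      rcases mul_eq_zero.mp h1 with h | h
      · exact absurd h hc1
      · rcases mul_eq_zero.mp h with h' | h'
        · exact absurd h' hc2
        · exact h'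
    have hsupp : ∀ j, j ≠ Sum.swap k → j ≠ Sum.swap l → (fun k => lam k * σ (y k)) j = 0 := by
      intro j hjk hjl
      have : y j = 0 := by simp [hy, bV_apply, hjk, hjl]
      simp only [this, map_zero, mul_zero]
    rw [sympForm_supp2 _ _ _ _ hs hsupp] at h2
    simp only [Sum.swap_swap, hysk, hysl, hxk, hxl, hσ, sg_one, mul_one, sg_neg] at h2
    have e1 : sg (eps (Sum.swap k)) = eps (Sum.swap k) := by
      rcases eps_cases (F := F) (Sum.swap k) with h | h
      · rw [h, sg_one]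
      · rw [h, sg_neg, sg_one]
    have e2 : sg (eps (Sum.swap l)) = eps (Sum.swap l) := by
      rcases eps_cases (F := F) (Sum.swap l) with h | h
      · rw [h, sg_one]
      · rw [h, sg_neg, sg_one]
    rw [e1, e2] at h2
    have e3 := eps_mul_self (F := F) (Sum.swap k)
    have e4 := eps_mul_self (F := F) (Sum.swap l)
    linear_combination h2 - (lam (Sum.swap k) * lam k) * e3 + (lam (Sum.swap l) * lam l) * e4
  intro k
  by_cases hk : k = o
  · rw [hk]
  · by_cases hk' : k = Sum.swap o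
    · rw [hk', Sum.swap_swap, mul_comm]
    · exact key k o hk hk'

end Cfsg.Agent.Lib.Helper16.SPA
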