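import Cfsg.Agent.Lib.Helper16.SPA6

set_option autoImplicit false
set_option linter.unusedSectionVars false
set_option linter.unusedVariables false

namespace Cfsg.Agent.Lib.Helper16.SPA

open Matrix Cfsg.Agent.Lib.helper6 Cfsg.Agent.Lib.helper6.SB Cfsg.Agent.Lib.Helper26

universe u
variable {F : Type u} [Field F] {m : ℕ}

theorem J_map (σ : F ≃+* F) : (Matrix.J (Fin m) F).map σ = Matrix.J (Fin m) F := by
  ext i j
  rcases i with i | i <;> rcases j with j | j <;>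
    simp [Matrix.J, Matrix.one_apply, apply_ite σ]

theorem map_mem_sp (σ : F ≃+* F) (A : Matrix (Fin m ⊕ Fin m) (Fin m ⊕ Fin m) F)
    (hA : A ∈ Matrix.symplecticGroup (Fin m) F) : A.map σ ∈ Matrix.symplecticGroup (Fin m) F := by
  rw [SymplecticGroup.mem_iff] at hA ⊢
  have h1 : (A * Matrix.J (Fin m) F * Aᵀ).map σ = (Matrix.J (Fin m) F).map σ := by rw [hA]
  rw [Matrix.map_mul, Matrix.map_mul, J_map, Matrix.transpose_map] at h1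
  exact h1

theorem sympForm_comp (σ : F ≃+* F) (u v : Fin m ⊕ Fin m → F) :
    Cfsg.sympForm m F (σ ∘ u) (σ ∘ v) = σ (Cfsg.sympForm m F u v) := by
  rw [sympForm_eq_sum, sympForm_eq_sum, map_sum]
  apply Finset.sum_congr rfl
  intro i _
  simp only [Function.comp_apply, map_sub, map_mul]

/-- the field automorphism on `Sp`. -/
def fieldSp (m : ℕ) (σ : F ≃+* F) :
    ↥(Matrix.symplecticGroup (Fin m) F) ≃* ↥(Matrix.symplecticGroup (Fin m) F) where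
  toFun s := ⟨s.1.map σ, map_mem_sp σ s.1 s.2⟩
  invFun s := ⟨s.1.map σ.symm, map_mem_sp σ.symm s.1 s.2⟩
  left_inv s := by
    apply Subtype.ext
    ext i j
    simp
  right_inv s := by
    apply Subtype.ext
    ext i j
    simp
  map_mul' s t := by
    apply Subtype.ext
    show (s.1 * t.1).map σ = s.1.map σ * t.1.map σ
    exact Matrix.map_mul

theorem fieldSp_val (σ : F ≃+* F) (s : ↥(Matrix.symplecticGroup (Fin m) F)) :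
    (fieldSp m σ s).1 = s.1.map σ := rfl

theorem fieldSp_mulVec (σ : F ≃+* F) (s : ↥(Matrix.symplecticGroup (Fin m) F))
    (v : Fin m ⊕ Fin m → F) : (fieldSp m σ s).1 *ᵥ (σ ∘ v) = σ ∘ (s.1 *ᵥ v) := by
  funext i
  rw [fieldSp_val]
  exact ((σ : F →+* F).map_mulVec s.1 v i).symm

theorem conj_mem_sp (g : GL (Fin m ⊕ Fin m) F) (hg : g ∈ Cfsg.GSp m F)
    (A : Matrix (Fin m ⊕ Fin m) (Fin m ⊕ Fin m) F) (hA : A ∈ Matrix.symplecticGroup (Fin m) F) :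
    (g : Matrix (Fin m ⊕ Fin m) (Fin m ⊕ Fin m) F) * A *
      ((g⁻¹ : GL (Fin m ⊕ Fin m) F) : Matrix (Fin m ⊕ Fin m) (Fin m ⊕ Fin m) F) ∈
        Matrix.symplecticGroup (Fin m) F := by
  obtain ⟨c, hc⟩ := hg
  rw [mem_symplecticGroup_iff_sympForm] at hA ⊢
  intro u v
  have hgi : ∀ w : Fin m ⊕ Fin m → F, (g : Matrix (Fin m ⊕ Fin m) (Fin m ⊕ Fin m) F) *ᵥ
      (((g⁻¹ : GL (Fin m ⊕ Fin m) F) : Matrix (Fin m ⊕ Fin m) (Fin m ⊕ Fin m) F) *ᵥ w) = w := by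
    intro w
    rw [Matrix.mulVec_mulVec, ← Matrix.GeneralLinearGroup.coe_mul, mul_inv_cancel]
    simp
  rw [← Matrix.mulVec_mulVec, ← Matrix.mulVec_mulVec, ← Matrix.mulVec_mulVec, ← Matrix.mulVec_mulVec,
    hc, hA]
  have := hc (((g⁻¹ : GL (Fin m ⊕ Fin m) F) : Matrix (Fin m ⊕ Fin m) (Fin m ⊕ Fin m) F) *ᵥ u)
    (((g⁻¹ : GL (Fin m ⊕ Fin m) F) : Matrix (Fin m ⊕ Fin m) (Fin m ⊕ Fin m) F) *ᵥ v)
  rw [hgi, hgi] at this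
  exact this.symm

/-- conjugation by a similitude on `Sp`. -/
def conjSp (g : GL (Fin m ⊕ Fin m) F) (hg : g ∈ Cfsg.GSp m F) :
    ↥(Matrix.symplecticGroup (Fin m) F) ≃* ↥(Matrix.symplecticGroup (Fin m) F) where
  toFun s := ⟨(g : Matrix (Fin m ⊕ Fin m) (Fin m ⊕ Fin m) F) * s.1 *
    ((g⁻¹ : GL (Fin m ⊕ Fin m) F) : Matrix (Fin m ⊕ Fin m) (Fin m ⊕ Fin m) F), conj_mem_sp g hg s.1 s.2⟩
  invFun s := ⟨((g⁻¹ : GL (Fin m ⊕ Fin m) F) : Matrix (Fin m ⊕ Fin m) (Fin m ⊕ Fin m) F) * s.1 *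
    (((g⁻¹)⁻¹ : GL (Fin m ⊕ Fin m) F) : Matrix (Fin m ⊕ Fin m) (Fin m ⊕ Fin m) F),
    conj_mem_sp g⁻¹ (inv_mem hg) s.1 s.2⟩
  left_inv s := by
    apply Subtype.ext
    show ((g⁻¹ : GL (Fin m ⊕ Fin m) F) : Matrix (Fin m ⊕ Fin m) (Fin m ⊕ Fin m) F) *
      ((g : Matrix (Fin m ⊕ Fin m) (Fin m ⊕ Fin m) F) * s.1 *
        ((g⁻¹ : GL (Fin m ⊕ Fin m) F) : Matrix (Fin m ⊕ Fin m) (Fin m ⊕ Fin m) F)) *
      (((g⁻¹)⁻¹ : GL (Fin m ⊕ Fin m) F) : Matrix (Fin m ⊕ Fin m) (Fin m ⊕ Fin m) F) = s.1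
    rw [inv_inv]
    have h1 : ((g⁻¹ : GL (Fin m ⊕ Fin m) F) : Matrix (Fin m ⊕ Fin m) (Fin m ⊕ Fin m) F) *
        (g : Matrix (Fin m ⊕ Fin m) (Fin m ⊕ Fin m) F) = 1 := by
      rw [← Matrix.GeneralLinearGroup.coe_mul, inv_mul_cancel]; rfl
    calc _ = (((g⁻¹ : GL (Fin m ⊕ Fin m) F) : Matrix (Fin m ⊕ Fin m) (Fin m ⊕ Fin m) F) *
        (g : Matrix (Fin m ⊕ Fin m) (Fin m ⊕ Fin m) F)) * s.1 *
        (((g⁻¹ : GL (Fin m ⊕ Fin m) F) : Matrix (Fin m ⊕ Fin m) (Fin m ⊕ Fin m) F) *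
        (g : Matrix (Fin m ⊕ Fin m) (Fin m ⊕ Fin m) F)) := by
          simp only [Matrix.mul_assoc]
      _ = s.1 := by rw [h1, Matrix.one_mul, Matrix.mul_one]
  right_inv s := by
    apply Subtype.ext
    show (g : Matrix (Fin m ⊕ Fin m) (Fin m ⊕ Fin m) F) *
      (((g⁻¹ : GL (Fin m ⊕ Fin m) F) : Matrix (Fin m ⊕ Fin m) (Fin m ⊕ Fin m) F) * s.1 *
      (((g⁻¹)⁻¹ : GL (Fin m ⊕ Fin m) F) : Matrix (Fin m ⊕ Fin m) (Fin m ⊕ Fin m) F)) *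
      ((g⁻¹ : GL (Fin m ⊕ Fin m) F) : Matrix (Fin m ⊕ Fin m) (Fin m ⊕ Fin m) F) = s.1
    rw [inv_inv]
    have h1 : (g : Matrix (Fin m ⊕ Fin m) (Fin m ⊕ Fin m) F) *
        ((g⁻¹ : GL (Fin m ⊕ Fin m) F) : Matrix (Fin m ⊕ Fin m) (Fin m ⊕ Fin m) F) = 1 := by
      rw [← Matrix.GeneralLinearGroup.coe_mul, mul_inv_cancel]; rfl
    calc _ = ((g : Matrix (Fin m ⊕ Fin m) (Fin m ⊕ Fin m) F) *
        ((g⁻¹ : GL (Fin m ⊕ Fin m) F) : Matrix (Fin m ⊕ Fin m) (Fin m ⊕ Fin m) F)) * s.1 *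
        ((g : Matrix (Fin m ⊕ Fin m) (Fin m ⊕ Fin m) F) *
        ((g⁻¹ : GL (Fin m ⊕ Fin m) F) : Matrix (Fin m ⊕ Fin m) (Fin m ⊕ Fin m) F)) := by
          simp only [Matrix.mul_assoc]
      _ = s.1 := by rw [h1, Matrix.one_mul, Matrix.mul_one]
  map_mul' s t := by
    apply Subtype.ext
    show (g : Matrix (Fin m ⊕ Fin m) (Fin m ⊕ Fin m) F) * (s.1 * t.1) *
      ((g⁻¹ : GL (Fin m ⊕ Fin m) F) : Matrix (Fin m ⊕ Fin m) (Fin m ⊕ Fin m) F) =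
      ((g : Matrix (Fin m ⊕ Fin m) (Fin m ⊕ Fin m) F) * s.1 *
      ((g⁻¹ : GL (Fin m ⊕ Fin m) F) : Matrix (Fin m ⊕ Fin m) (Fin m ⊕ Fin m) F)) *
      ((g : Matrix (Fin m ⊕ Fin m) (Fin m ⊕ Fin m) F) * t.1 *
      ((g⁻¹ : GL (Fin m ⊕ Fin m) F) : Matrix (Fin m ⊕ Fin m) (Fin m ⊕ Fin m) F))
    have h1 : ((g⁻¹ : GL (Fin m ⊕ Fin m) F) : Matrix (Fin m ⊕ Fin m) (Fin m ⊕ Fin m) F) *
        (g : Matrix (Fin m ⊕ Fin m) (Fin m ⊕ Fin m) F) = 1 := by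
      rw [← Matrix.GeneralLinearGroup.coe_mul, inv_mul_cancel]; rfl
    calc _ = (g : Matrix (Fin m ⊕ Fin m) (Fin m ⊕ Fin m) F) * s.1 * 1 * t.1 *
        ((g⁻¹ : GL (Fin m ⊕ Fin m) F) : Matrix (Fin m ⊕ Fin m) (Fin m ⊕ Fin m) F) := by
          rw [Matrix.mul_one]; simp only [Matrix.mul_assoc]
      _ = _ := by rw [← h1]; simp only [Matrix.mul_assoc]

theorem conjSp_val (g : GL (Fin m ⊕ Fin m) F) (hg : g ∈ Cfsg.GSp m F)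
    (s : ↥(Matrix.symplecticGroup (Fin m) F)) :
    (conjSp g hg s).1 = (g : Matrix (Fin m ⊕ Fin m) (Fin m ⊕ Fin m) F) * s.1 *
      ((g⁻¹ : GL (Fin m ⊕ Fin m) F) : Matrix (Fin m ⊕ Fin m) (Fin m ⊕ Fin m) F) := rfl

theorem conjSp_mulVec (g : GL (Fin m ⊕ Fin m) F) (hg : g ∈ Cfsg.GSp m F)
    (s : ↥(Matrix.symplecticGroup (Fin m) F)) (v : Fin m ⊕ Fin m → F) :
    (conjSp g hg s).1 *ᵥ ((g : Matrix (Fin m ⊕ Fin m) (Fin m ⊕ Fin m) F) *ᵥ v) =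
      (g : Matrix (Fin m ⊕ Fin m) (Fin m ⊕ Fin m) F) *ᵥ (s.1 *ᵥ v) := by
  rw [conjSp_val, Matrix.mulVec_mulVec, Matrix.mulVec_mulVec]
  congr 1
  have h1 : ((g⁻¹ : GL (Fin m ⊕ Fin m) F) : Matrix (Fin m ⊕ Fin m) (Fin m ⊕ Fin m) F) *
      (g : Matrix (Fin m ⊕ Fin m) (Fin m ⊕ Fin m) F) = 1 := by
    rw [← Matrix.GeneralLinearGroup.coe_mul, inv_mul_cancel]; rfl
  rw [Matrix.mul_assoc, h1, Matrix.mul_one]

/-- the induced automorphism of `PSp`. -/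
noncomputable def liftP (e : ↥(Matrix.symplecticGroup (Fin m) F) ≃* ↥(Matrix.symplecticGroup (Fin m) F)) :
    MulAut (Cfsg.PSp m F) :=
  QuotientGroup.congr _ _ e (Subgroup.characteristic_iff_map_eq.mp Subgroup.centerCharacteristic e)

theorem liftP_mk (e : ↥(Matrix.symplecticGroup (Fin m) F) ≃* ↥(Matrix.symplecticGroup (Fin m) F))
    (s : ↥(Matrix.symplecticGroup (Fin m) F)) : liftP e (mkP m F s) = mkP m F (e s) :=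
  QuotientGroup.congr_mk _ _ e _ s

end Cfsg.Agent.Lib.Helper16.SPA
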