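import Cfsg.Agent.Lib.Helper16.SPA7

set_option autoImplicit false
set_option linter.unusedSectionVars false
set_option linter.unusedVariables false

namespace Cfsg.Agent.Lib.Helper16.SPA

open Matrix Cfsg.Agent.Lib.helper6 Cfsg.Agent.Lib.helper6.SB Cfsg.Agent.Lib.Helper26

universe u
variable {F : Type u} [Field F] {m : ℕ}

/-- the automorphism of `Sp` induced by the semilinear map `v ↦ g σ(v)`. -/
def iotaSp (g : GL (Fin m ⊕ Fin m) F) (hg : g ∈ Cfsg.GSp m F) (σ : F ≃+* F) :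
    ↥(Matrix.symplecticGroup (Fin m) F) ≃* ↥(Matrix.symplecticGroup (Fin m) F) :=
  (fieldSp m σ).trans (conjSp g hg)

theorem iotaSp_val (g : GL (Fin m ⊕ Fin m) F) (hg : g ∈ Cfsg.GSp m F) (σ : F ≃+* F)
    (s : ↥(Matrix.symplecticGroup (Fin m) F)) :
    (iotaSp g hg σ s).1 = (g : Matrix (Fin m ⊕ Fin m) (Fin m ⊕ Fin m) F) * s.1.map σ *
      ((g⁻¹ : GL (Fin m ⊕ Fin m) F) : Matrix (Fin m ⊕ Fin m) (Fin m ⊕ Fin m) F) := rfl

theorem iotaSp_mulVec (g : GL (Fin m ⊕ Fin m) F) (hg : g ∈ Cfsg.GSp m F) (σ : F ≃+* F)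
    (s : ↥(Matrix.symplecticGroup (Fin m) F)) (v : Fin m ⊕ Fin m → F) :
    (iotaSp g hg σ s).1 *ᵥ ((g : Matrix (Fin m ⊕ Fin m) (Fin m ⊕ Fin m) F) *ᵥ (σ ∘ v)) =
      (g : Matrix (Fin m ⊕ Fin m) (Fin m ⊕ Fin m) F) *ᵥ (σ ∘ (s.1 *ᵥ v)) := by
  show (conjSp g hg (fieldSp m σ s)).1 *ᵥ _ = _
  rw [conjSp_mulVec, fieldSp_mulVec]

theorem comp_add' (σ : F ≃+* F) (u v : Fin m ⊕ Fin m → F) : σ ∘ (u + v) = σ ∘ u + σ ∘ v := by
  funext i; simp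

theorem comp_smul' (σ : F ≃+* F) (a : F) (v : Fin m ⊕ Fin m → F) : σ ∘ (a • v) = σ a • (σ ∘ v) := by
  funext i; simp

theorem gl_surj (g : GL (Fin m ⊕ Fin m) F) (σ : F ≃+* F) (x : Fin m ⊕ Fin m → F) :
    ∃ v : Fin m ⊕ Fin m → F, x = (g : Matrix (Fin m ⊕ Fin m) (Fin m ⊕ Fin m) F) *ᵥ (σ ∘ v) := by
  refine ⟨σ.symm ∘ (((g⁻¹ : GL (Fin m ⊕ Fin m) F) : Matrix (Fin m ⊕ Fin m) (Fin m ⊕ Fin m) F) *ᵥ x), ?_⟩
  have : σ ∘ (σ.symm ∘ (((g⁻¹ : GL (Fin m ⊕ Fin m) F) : Matrix (Fin m ⊕ Fin m) (Fin m ⊕ Fin m) F) *ᵥ x)) =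
      ((g⁻¹ : GL (Fin m ⊕ Fin m) F) : Matrix (Fin m ⊕ Fin m) (Fin m ⊕ Fin m) F) *ᵥ x := by
    funext i; simp
  rw [this, Matrix.mulVec_mulVec, ← Matrix.GeneralLinearGroup.coe_mul, mul_inv_cancel]
  simp

theorem iotaSp_spT (g : GL (Fin m ⊕ Fin m) F) (hg : g ∈ Cfsg.GSp m F) (σ : F ≃+* F) (μ : F)
    (hμ0 : μ ≠ 0)
    (hμ : ∀ u v, Cfsg.sympForm m F ((g : Matrix (Fin m ⊕ Fin m) (Fin m ⊕ Fin m) F) *ᵥ u)
      ((g : Matrix (Fin m ⊕ Fin m) (Fin m ⊕ Fin m) F) *ᵥ v) = μ * Cfsg.sympForm m F u v)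
    (p : Fin m ⊕ Fin m → F) (c : F) :
    iotaSp g hg σ (spT m p c) =
      spT m ((g : Matrix (Fin m ⊕ Fin m) (Fin m ⊕ Fin m) F) *ᵥ (σ ∘ p)) (σ c / μ) := by
  apply sp_ext
  intro x
  obtain ⟨v, rfl⟩ := gl_surj g σ x
  rw [iotaSp_mulVec, spT_mulVec, spT_mulVec, hμ, sympForm_comp, comp_add', comp_smul',
    Matrix.mulVec_add, Matrix.mulVec_smul, map_mul]
  congr 2
  field_simp

theorem Xb_map_liftP (g : GL (Fin m ⊕ Fin m) F) (hg : g ∈ Cfsg.GSp m F) (σ : F ≃+* F)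
    (p : Fin m ⊕ Fin m → F) :
    (Xb p).map (liftP (iotaSp g hg σ)).toMonoidHom =
      Xb ((g : Matrix (Fin m ⊕ Fin m) (Fin m ⊕ Fin m) F) *ᵥ (σ ∘ p)) := by
  have hg' := hg
  obtain ⟨c0, hc0⟩ := hg'
  have hμ0 : (c0 : F) ≠ 0 := c0.ne_zero
  ext x
  rw [Subgroup.mem_map, mem_Xb_iff]
  constructor
  · rintro ⟨y, hy, rfl⟩
    obtain ⟨c, rfl⟩ := (mem_Xb_iff _ _).mp hy
    refine ⟨σ c / c0, ?_⟩
    show liftP _ (mkP m F (spT m p c)) = _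
    rw [liftP_mk, iotaSp_spT g hg σ c0 hμ0 hc0]
  · rintro ⟨c', rfl⟩
    refine ⟨mkP m F (spT m p (σ.symm (c' * c0))), (mem_Xb_iff _ _).mpr ⟨_, rfl⟩, ?_⟩
    show liftP _ (mkP m F (spT m p _)) = _
    rw [liftP_mk, iotaSp_spT g hg σ c0 hμ0 hc0]
    congr 2
    rw [RingEquiv.apply_symm_apply]
    field_simp

/-- an automorphism fixing every transvection subgroup is trivial. -/
theorem eq_one_of_fix_Xb [Fintype F] (hm : 2 ≤ m) (β : MulAut (Cfsg.PSp m F))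
    (h : ∀ x : Fin m ⊕ Fin m → F, x ≠ 0 → (Xb x).map β.toMonoidHom = Xb x) : β = 1 := by
  apply MulEquiv.ext
  intro y
  obtain ⟨s, rfl⟩ := mkP_surjective y
  obtain ⟨s', hs'⟩ := mkP_surjective (β (mkP m F s))
  show β (mkP m F s) = mkP m F s
  rw [← hs']
  have key : ∀ x : Fin m ⊕ Fin m → F, x ≠ 0 → par (s.1 *ᵥ x) (s'.1 *ᵥ x) := by
    intro x hx
    apply par_of_Xb_eq hm (sp_mulVec_ne_zero' s hx) (sp_mulVec_ne_zero' s' hx)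
    calc Xb (s.1 *ᵥ x) = (Xb (s.1 *ᵥ x)).map β.toMonoidHom := (h _ (sp_mulVec_ne_zero' s hx)).symm
      _ = ((Xb x).map (MulAut.conj (mkP m F s)).toMonoidHom).map β.toMonoidHom := by rw [Xb_conj]
      _ = ((Xb x).map β.toMonoidHom).map (MulAut.conj (mkP m F s')).toMonoidHom := by
          rw [Subgroup.map_map, Subgroup.map_map]
          congr 1
          apply MonoidHom.ext
          intro z
          show β ((MulAut.conj (mkP m F s)) z) = (MulAut.conj (mkP m F s')) (β z)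
          rw [MulAut.conj_apply, MulAut.conj_apply, map_mul, map_mul, map_inv, hs']
      _ = (Xb x).map (MulAut.conj (mkP m F s')).toMonoidHom := by rw [h x hx]
      _ = Xb (s'.1 *ᵥ x) := Xb_conj _ _
  have hscal : ∃ l : F, (s⁻¹ * s').1 = l • (1 : Matrix (Fin m ⊕ Fin m) (Fin m ⊕ Fin m) F) := by
    apply Cfsg.Agent.S0246.scalar_of_all_eigen
    intro u
    by_cases hu : u = 0
    · exact ⟨1, by rw [hu, Matrix.mulVec_zero, smul_zero]⟩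
    · obtain ⟨c, hc, hcu⟩ := key u hu
      refine ⟨c, ?_⟩
      rw [sp_mul_mulVec, hcu, Matrix.mulVec_smul, sp_inv_mulVec]
  obtain ⟨l, hl⟩ := hscal
  symm
  rw [mkP_eq_iff, Subgroup.mem_center_iff]
  intro t
  apply Subtype.ext
  show t.1 * (s⁻¹ * s').1 = (s⁻¹ * s').1 * t.1
  rw [hl]
  simp

end Cfsg.Agent.Lib.Helper16.SPA
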