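import Mathlib
import Cfsg.Agent.Lib.helper15.Sp4G4
import Cfsg.Agent.S0270
import Cfsg.Agent.S0269

set_option autoImplicit false
set_option linter.unusedSectionVars false
set_option linter.unusedVariables false

/-! `O_{p'}` of centralisers of field automorphisms of `PSp`, part 1: normal subgroups of `Sp`. -/

namespace Cfsg.Agent.Lib.Helper16.SPC

open Matrix Cfsg.Agent.Lib.helper6 Cfsg.Agent.Lib.Helper26 Cfsg.Agent.Lib.Helper16.SPA

universe u
variable {F : Type u} [Field F] {m : ℕ}

theorem spT_pow (p : Fin m ⊕ Fin m → F) (c : F) (k : ℕ) :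
    (spT m p c) ^ k = spT m p (k * c) := by
  induction k with
  | zero => rw [pow_zero, Nat.cast_zero, zero_mul, spT_zero]
  | succ k ih => rw [pow_succ, ih, spT_mul, Nat.cast_succ, add_mul, one_mul]

theorem spT_pow_char (r : ℕ) [CharP F r] (p : Fin m ⊕ Fin m → F) (c : F) :
    (spT m p c) ^ r = 1 := by
  rw [spT_pow, CharP.cast_eq_zero, zero_mul, spT_zero]

/-- the `r`-th power of every element of `Sp` lies in the commutator subgroup (characteristic `r`). -/
theorem pow_char_mem_commutator (r : ℕ) [CharP F r]
    (g : ↥(Matrix.symplecticGroup (Fin m) F)) :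
    g ^ r ∈ commutator ↥(Matrix.symplecticGroup (Fin m) F) := by
  set f : ↥(Matrix.symplecticGroup (Fin m) F) →* Abelianization ↥(Matrix.symplecticGroup (Fin m) F) :=
    (powMonoidHom r).comp Abelianization.of with hf
  have h1 : f = 1 := by
    apply MonoidHom.eq_of_eqOn_dense (Cfsg.Agent.S0765.result (F := F) m)
    rintro A ⟨w, c, hA⟩
    have hA' : A = spT m w c := Subtype.ext hA
    show Abelianization.of A ^ r = 1
    rw [← map_pow, hA', spT_pow_char, map_one]
  have h2 : Abelianization.of (g ^ r) = 1 := by
    have := congrArg (fun φ : ↥(Matrix.symplecticGroup (Fin m) F) →*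
      Abelianization ↥(Matrix.symplecticGroup (Fin m) F) => φ g) h1
    simp only [hf, MonoidHom.comp_apply, powMonoidHom_apply, MonoidHom.one_apply] at this
    rw [map_pow]; exact this
  rw [← Abelianization.ker_of]
  exact h2

/-- an element of order prime to the characteristic lies in the commutator subgroup. -/
theorem mem_commutator_of_coprime (r : ℕ) [CharP F r]
    (g : ↥(Matrix.symplecticGroup (Fin m) F)) (n : ℕ) (hn : Nat.Coprime n r) (hg : g ^ n = 1) :
    g ∈ commutator ↥(Matrix.symplecticGroup (Fin m) F) := by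
  have h1 := pow_char_mem_commutator r g
  have h2 : (n : ℤ) * Nat.gcdA n r + (r : ℤ) * Nat.gcdB n r = 1 := by
    have := Nat.gcd_eq_gcd_ab n r
    rw [hn] at this
    exact_mod_cast this.symm
  have h3 : g = (g ^ r) ^ (Nat.gcdB n r) := by
    have h4 : g ^ ((n : ℤ) * Nat.gcdA n r + (r : ℤ) * Nat.gcdB n r) = g := by rw [h2, zpow_one]
    rw [_root_.zpow_add, _root_.zpow_mul, _root_.zpow_mul, zpow_natCast, zpow_natCast, hg, _root_.one_zpow, one_mul] at h4
    exact h4.symm
  rw [h3]
  exact Subgroup.zpow_mem _ h1 _

section iwasawa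

open scoped LinearAlgebra.Projectivization
open Cfsg.Agent.S0270

set_option warn.classDefReducibility false
attribute [local instance] Cfsg.Agent.S0270.spAction

/-- a normal subgroup of `Sp` is central or contains the commutator subgroup. -/
theorem normal_le_center_or [Finite F] (hm : 1 ≤ m)
    (N : Subgroup ↥(Matrix.symplecticGroup (Fin m) F)) [hN : N.Normal] :
    N ≤ Subgroup.center ↥(Matrix.symplecticGroup (Fin m) F) ∨
      commutator ↥(Matrix.symplecticGroup (Fin m) F) ≤ N := by
  have := sp_preprimitive (F := F) (m := m) hm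
  by_cases hfix : MulAction.fixedPoints N (ℙ F (VV m F)) = Set.univ
  · left
    intro g hg
    apply central_of_fixes
    intro p
    have hp : p ∈ MulAction.fixedPoints N (ℙ F (VV m F)) := by rw [hfix]; trivial
    exact hp ⟨g, hg⟩
  · right
    exact iwasawa.commutator_le N hfix

end iwasawa

end Cfsg.Agent.Lib.Helper16.SPC
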