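import Mathlib
import Cfsg.Agent.Lib.Helper16.SPC1
import Cfsg.Agent.Lib.Helper16.OL16

set_option autoImplicit false
set_option linter.unusedSectionVars false
set_option linter.unusedVariables false

/-! `O_{p'}` of centralisers of field automorphisms of `PSp`, part 2: the subgroup `Sp(F₀)`. -/

namespace Cfsg.Agent.Lib.Helper16.SPC

open Matrix Cfsg.Agent.Lib.helper6 Cfsg.Agent.Lib.Helper26 Cfsg.Agent.Lib.Helper16.SPA
  Cfsg.Agent.Lib.Helper16.SPF Cfsg.Agent.Lib.helper15.SpAut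

universe u v
variable {F : Type u} [Field F] {m : ℕ} {F₀ : Type v} [Field F₀]

theorem map_mem_sp' (j : F₀ →+* F) (A : Matrix (Fin m ⊕ Fin m) (Fin m ⊕ Fin m) F₀)
    (hA : A ∈ Matrix.symplecticGroup (Fin m) F₀) :
    A.map ⇑j ∈ Matrix.symplecticGroup (Fin m) F := by
  rw [SymplecticGroup.mem_iff] at hA ⊢
  have := congrArg (fun M : Matrix (Fin m ⊕ Fin m) (Fin m ⊕ Fin m) F₀ => M.map ⇑j) hA
  simp only [Matrix.map_mul, Matrix.transpose_map, J_map' j] at this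
  exact this

/-- base change `Sp(F₀) → Sp(F)`. -/
noncomputable def inclSp (m : ℕ) (j : F₀ →+* F) :
    ↥(Matrix.symplecticGroup (Fin m) F₀) →* ↥(Matrix.symplecticGroup (Fin m) F) where
  toFun s := ⟨s.1.map ⇑j, map_mem_sp' j s.1 s.2⟩
  map_one' := by
    apply Subtype.ext
    show (1 : Matrix (Fin m ⊕ Fin m) (Fin m ⊕ Fin m) F₀).map ⇑j = 1
    rw [Matrix.map_one _ (map_zero j) (map_one j)]
  map_mul' a b := by
    apply Subtype.ext
    show (a.1 * b.1).map ⇑j = a.1.map ⇑j * b.1.map ⇑j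
    rw [Matrix.map_mul]

theorem inclSp_val (j : F₀ →+* F) (s : ↥(Matrix.symplecticGroup (Fin m) F₀)) :
    (inclSp m j s).1 = s.1.map ⇑j := rfl

theorem inclSp_injective (j : F₀ →+* F) : Function.Injective (inclSp m j) := by
  intro a b h
  apply Subtype.ext
  have h1 := congrArg Subtype.val h
  rw [inclSp_val, inclSp_val] at h1
  exact Matrix.map_injective j.injective h1

theorem comp_bV' (j : F₀ →+* F) (k : Fin m ⊕ Fin m) :
    ⇑j ∘ (bV k : Fin m ⊕ Fin m → F₀) = bV k := by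
  funext a
  rw [Function.comp_apply, bV_apply, bV_apply]
  split_ifs
  · exact map_one j
  · exact map_zero j

theorem inclSp_spT (j : F₀ →+* F) (p : Fin m ⊕ Fin m → F₀) (c : F₀) :
    inclSp m j (spT m p c) = spT m (⇑j ∘ p) (j c) := by
  apply Subtype.ext
  rw [inclSp_val]
  show (Cfsg.sympTransvection m p c).map ⇑j = Cfsg.sympTransvection m (⇑j ∘ p) (j c)
  unfold Cfsg.sympTransvection
  have h1 : Matrix.J (Fin m) F *ᵥ (⇑j ∘ p) = ⇑j ∘ (Matrix.J (Fin m) F₀ *ᵥ p) := by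
    rw [← J_map' j]
    funext i
    exact (j.map_mulVec (Matrix.J (Fin m) F₀) p i).symm
  rw [h1]
  ext a b
  simp [Matrix.map_apply, Matrix.add_apply, Matrix.one_apply, Matrix.vecMulVec_apply, apply_ite j]

theorem inclSp_spT_bV (j : F₀ →+* F) (k : Fin m ⊕ Fin m) (c : F₀) :
    inclSp m j (spT m (bV k) c) = spT m (bV k) (j c) := by
  rw [inclSp_spT, comp_bV']

/-- the inner automorphisms induced by `Sp(F₀)`. -/
noncomputable def LamSp (m : ℕ) (j : F₀ →+* F) :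
    ↥(Matrix.symplecticGroup (Fin m) F₀) →* MulAut (Cfsg.PSp m F) :=
  (MulAut.conj : Cfsg.PSp m F →* MulAut (Cfsg.PSp m F)).comp ((mkP m F).comp (inclSp m j))

theorem LamSp_apply (j : F₀ →+* F) (s : ↥(Matrix.symplecticGroup (Fin m) F₀)) :
    LamSp m j s = MulAut.conj (mkP m F (inclSp m j s)) := rfl

theorem LamSp_mem_Inn (j : F₀ →+* F) (s : ↥(Matrix.symplecticGroup (Fin m) F₀)) :
    LamSp m j s ∈ Cfsg.Inn (Cfsg.PSp m F) := ⟨_, rfl⟩

theorem LamSp_eq_LamS (j : F₀ →+* F) (s : ↥(Matrix.symplecticGroup (Fin m) F₀)) :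
    LamSp m j s = LamS m j (spToGSp m F₀ s) := by
  rw [LamSp_apply, conj_mk_eq_PhiS]
  unfold LamS
  rw [MonoidHom.comp_apply]
  congr 1
  apply Subtype.ext
  apply Units.ext
  rfl

theorem spToGSp_conjSp (H : ↥(Cfsg.GSp m F₀)) (t : ↥(Matrix.symplecticGroup (Fin m) F₀)) :
    spToGSp m F₀ (conjSp H.1 H.2 t) = H * spToGSp m F₀ t * H⁻¹ := by
  apply Subtype.ext
  apply Units.ext
  show (conjSp H.1 H.2 t).1 = _
  rw [conjSp_val]
  rfl

variable [Fintype F]

theorem conj_PSp_injective (hm : 2 ≤ m) :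
    Function.Injective (MulAut.conj : Cfsg.PSp m F →* MulAut (Cfsg.PSp m F)) := by
  rw [injective_iff_map_eq_one]
  intro k hk
  obtain ⟨s, rfl⟩ := mkP_surjective k
  rw [conj_mk_eq_PhiS, PhiS_eq_one_iff hm] at hk
  obtain ⟨c, hc⟩ := hk
  have hs : s.1 = (c : F) • (1 : Matrix (Fin m ⊕ Fin m) (Fin m ⊕ Fin m) F) := by
    have := congrArg (fun x : GL (Fin m ⊕ Fin m) F =>
      (x : Matrix (Fin m ⊕ Fin m) (Fin m ⊕ Fin m) F)) hc
    simp only [scalG_val] at this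
    exact this
  show (QuotientGroup.mk s : Cfsg.PSp m F) = 1
  rw [QuotientGroup.eq_one_iff, Subgroup.mem_center_iff]
  intro h
  apply Subtype.ext
  show h.1 * s.1 = s.1 * h.1
  rw [hs, Matrix.mul_smul, Matrix.smul_mul, Matrix.mul_one, Matrix.one_mul]

theorem LamSp_mem_centralizer (hm : 2 ≤ m) (σ : RingAut F) (j : F₀ →+* F)
    (hj : ∀ x, (∃ y, j y = x) ↔ σ x = x) (s : ↥(Matrix.symplecticGroup (Fin m) F₀)) :
    LamSp m j s ∈ Subgroup.centralizer {fieldSHom m F σ} := by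
  have h1 : LamSp m j s ∈ (LamS m j).range := by rw [LamSp_eq_LamS]; exact ⟨_, rfl⟩
  rw [LamS_range hm σ j hj] at h1
  exact h1.2

theorem center_of_LamSp_eq_one (hm : 2 ≤ m) (j : F₀ →+* F)
    (s : ↥(Matrix.symplecticGroup (Fin m) F₀)) (h : LamSp m j s = 1) :
    s ∈ Subgroup.center ↥(Matrix.symplecticGroup (Fin m) F₀) := by
  rw [LamSp_eq_LamS] at h
  have h1 : spToGSp m F₀ s ∈ (LamS m j).ker := h
  rw [LamS_ker hm j, Subgroup.mem_subgroupOf, Cfsg.Geo.mem_scalars_iff] at h1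
  obtain ⟨c, hc⟩ := h1
  have hs : s.1 = (c : F₀) • (1 : Matrix (Fin m ⊕ Fin m) (Fin m ⊕ Fin m) F₀) := hc
  rw [Subgroup.mem_center_iff]
  intro h
  apply Subtype.ext
  show h.1 * s.1 = s.1 * h.1
  rw [hs, Matrix.mul_smul, Matrix.smul_mul, Matrix.mul_one, Matrix.one_mul]

theorem LamSp_eq_one_of_center (hm : 2 ≤ m) (j : F₀ →+* F)
    (s : ↥(Matrix.symplecticGroup (Fin m) F₀))
    (h : s ∈ Subgroup.center ↥(Matrix.symplecticGroup (Fin m) F₀)) : LamSp m j s = 1 := by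
  rw [LamSp_eq_LamS]
  have h1 : spToGSp m F₀ s ∈ (LamS m j).ker := by
    rw [LamS_ker hm j, Subgroup.mem_subgroupOf, Cfsg.Geo.mem_scalars_iff]
    rcases Cfsg.Agent.S0246.center_cases (by omega) s h with h1 | h1
    · refine ⟨1, ?_⟩
      rw [h1, Units.val_one, one_smul]
      rfl
    · refine ⟨-1, ?_⟩
      rw [h1, Units.val_neg, Units.val_one, neg_smul, one_smul]
      exact Cfsg.Agent.S0246.negOne_coe
  exact h1

theorem LamS_ker_eq [Fintype F₀] (hm : 2 ≤ m) (j : F₀ →+* F) :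
    (LamS m j).ker = (PhiS m F₀).ker := by
  ext H
  rw [LamS_ker hm j, Subgroup.mem_subgroupOf, Cfsg.Geo.mem_scalars_iff, MonoidHom.mem_ker,
    PhiS_eq_one_iff hm]
  constructor
  · rintro ⟨c, hc⟩
    refine ⟨c, ?_⟩
    apply Units.ext
    rw [scalG_val]
    exact hc
  · rintro ⟨c, hc⟩
    refine ⟨c, ?_⟩
    have := congrArg (fun x : GL (Fin m ⊕ Fin m) F₀ =>
      (x : Matrix (Fin m ⊕ Fin m) (Fin m ⊕ Fin m) F₀)) hc
    simp only [scalG_val] at this
    exact this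

/-- the order of the range of `LamS`. -/
theorem card_range_LamS [Fintype F₀] (hm : 2 ≤ m) (j : F₀ →+* F) :
    Nat.card ↥(LamS m j).range = Nat.card ↥(Matrix.symplecticGroup (Fin m) F₀) := by
  rw [← card_range_PhiS (F := F₀) hm, ← Subgroup.index_ker, ← Subgroup.index_ker, LamS_ker_eq hm j]

end Cfsg.Agent.Lib.Helper16.SPC
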