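import Mathlib
import Cfsg.Agent.Lib.Helper16.SPC2

set_option autoImplicit false
set_option linter.unusedSectionVars false
set_option linter.unusedVariables false

/-! `O_{p'}` of centralisers of field automorphisms of `PSp`, part 3: normal `p'`-subgroups of the
centraliser of a standard field automorphism. -/

namespace Cfsg.Agent.Lib.Helper16.SPC

open Matrix Cfsg.Agent.Lib.helper6 Cfsg.Agent.Lib.Helper26 Cfsg.Agent.Lib.Helper16.SPA
  Cfsg.Agent.Lib.Helper16.SPF Cfsg.Agent.Lib.helper15.SpAut Cfsg.Agent.Lib.Lead.OA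

universe u v
variable {F : Type u} [Field F] {m : ℕ} {F₀ : Type v} [Field F₀]

theorem spT_eq_of_mkP_eq (hm : 2 ≤ m) (p q : Fin m ⊕ Fin m → F) (c d : F)
    (h : mkP m F (spT m p c) = mkP m F (spT m q d)) : spT m q d = spT m p c := by
  rcases mkP_eq_cases (by omega) _ _ h with h2 | h2
  · exact h2
  · by_cases h20 : (2 : F) = 0
    · rw [negOne_eq_one_of_two h20, mul_one] at h2
      exact h2
    · exfalso
      obtain ⟨x, hx0, hxp, hxq⟩ := exists_perp2 hm p q
      have h3 := congrArg (fun g : ↥(Matrix.symplecticGroup (Fin m) F) => g.1 *ᵥ x) h2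
      simp only [sp_mul_mulVec, spT_mulVec, negOne_mulVec, hxp, hxq, mul_zero, zero_smul, add_zero,
        sympForm_neg_left, neg_zero] at h3
      have h4 : (2 : F) • x = 0 := by
        rw [two_smul]
        nth_rewrite 1 [h3]
        exact neg_add_cancel x
      rcases smul_eq_zero.mp h4 with h5 | h5
      · exact h20 h5
      · exact hx0 h5

/-- the matrix `J` as an element of `Sp`. -/
noncomputable def Jsp (m : ℕ) (F : Type u) [Field F] : ↥(Matrix.symplecticGroup (Fin m) F) :=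
  ⟨Matrix.J (Fin m) F, SymplecticGroup.J_mem _ _⟩

theorem Jsp_sq : Jsp m F ^ 2 = Cfsg.Agent.S0246.negOne F m := by
  apply Subtype.ext
  rw [pow_two]
  show Matrix.J (Fin m) F * Matrix.J (Fin m) F = _
  rw [Matrix.J_squared, Cfsg.Agent.S0246.negOne_coe]

theorem Jsp_pow_four : Jsp m F ^ 4 = 1 := by
  have : Jsp m F ^ 4 = (Jsp m F ^ 2) ^ 2 := by rw [← pow_mul]
  rw [this, Jsp_sq, pow_two, negOne_mul_self]

theorem Jsp_not_center (hm : 1 ≤ m) (h2 : (2 : F) ≠ 0) :
    Jsp m F ∉ Subgroup.center ↥(Matrix.symplecticGroup (Fin m) F) := by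
  intro h
  have key : Matrix.J (Fin m) F (Sum.inl ⟨0, hm⟩) (Sum.inl ⟨0, hm⟩) = 0 := by
    simp [Matrix.J]
  rcases Cfsg.Agent.S0246.center_cases hm _ h with h1 | h1
  · have h3 := congrArg (fun g : ↥(Matrix.symplecticGroup (Fin m) F) =>
      g.1 (Sum.inl ⟨0, hm⟩) (Sum.inl ⟨0, hm⟩)) h1
    have h4 : (Jsp m F).1 = Matrix.J (Fin m) F := rfl
    simp only [h4, key] at h3
    have h5 : (1 : ↥(Matrix.symplecticGroup (Fin m) F)).1 (Sum.inl ⟨0, hm⟩) (Sum.inl ⟨0, hm⟩) = 1 := by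
      show (1 : Matrix (Fin m ⊕ Fin m) (Fin m ⊕ Fin m) F) _ _ = 1
      rw [Matrix.one_apply_eq]
    rw [h5] at h3
    exact zero_ne_one h3
  · have h3 := congrArg (fun g : ↥(Matrix.symplecticGroup (Fin m) F) =>
      g.1 (Sum.inl ⟨0, hm⟩) (Sum.inl ⟨0, hm⟩)) h1
    have h4 : (Jsp m F).1 = Matrix.J (Fin m) F := rfl
    simp only [h4, key] at h3
    have h5 : (Cfsg.Agent.S0246.negOne F m).1 (Sum.inl ⟨0, hm⟩) (Sum.inl ⟨0, hm⟩) = -1 := by
      rw [show (Cfsg.Agent.S0246.negOne F m).1 = -1 from Cfsg.Agent.S0246.negOne_coe,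
        Matrix.neg_apply, Matrix.one_apply_eq]
    rw [h5] at h3
    have : (1 : F) = 0 := by linear_combination h3
    exact one_ne_zero this

/-- an element of the commutator subgroup of `Sp(F₀)` which is not central but whose `p`-th power
is, for a prime `p` different from the characteristic dividing the order of `Sp(F₀)`. -/
theorem exists_p_elt [Fintype F₀] (hm : 1 ≤ m) (r : ℕ) [Fact r.Prime] [CharP F₀ r] (p : ℕ)
    (hp : p.Prime) (hpr : p ≠ r)
    (hpd : p ∣ Nat.card ↥(Matrix.symplecticGroup (Fin m) F₀)) :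
    ∃ y : ↥(Matrix.symplecticGroup (Fin m) F₀),
      y ∈ commutator ↥(Matrix.symplecticGroup (Fin m) F₀) ∧
      y ^ p ∈ Subgroup.center ↥(Matrix.symplecticGroup (Fin m) F₀) ∧
      y ∉ Subgroup.center ↥(Matrix.symplecticGroup (Fin m) F₀) := by
  have hr : r.Prime := Fact.out
  by_cases hp2 : p = 2
  · subst hp2
    have h2 : (2 : F₀) ≠ 0 := by
      intro h0
      have h1 : ((2 : ℕ) : F₀) = 0 := by exact_mod_cast h0
      rw [CharP.cast_eq_zero_iff F₀ r] at h1
      exact hpr ((Nat.prime_dvd_prime_iff_eq hr Nat.prime_two).mp h1).symm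
    refine ⟨Jsp m F₀, ?_, ?_, Jsp_not_center hm h2⟩
    · apply mem_commutator_of_coprime r _ 4 _ Jsp_pow_four
      have h1 : Nat.Coprime 2 r := (Nat.coprime_primes Nat.prime_two hr).mpr hpr
      have : (4 : ℕ) = 2 ^ 2 := by norm_num
      rw [this]
      exact Nat.Coprime.pow_left 2 h1
    · rw [Jsp_sq]
      exact Cfsg.Agent.S0246.negOne_mem_center
  · have : Fact p.Prime := ⟨hp⟩
    obtain ⟨y, hy⟩ := exists_prime_orderOf_dvd_card' p hpd
    have hyp : y ^ p = 1 := by rw [← hy]; exact pow_orderOf_eq_one y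
    refine ⟨y, ?_, ?_, ?_⟩
    · exact mem_commutator_of_coprime r y p ((Nat.coprime_primes hp hr).mpr hpr) hyp
    · rw [hyp]; exact Subgroup.one_mem _
    · intro hc
      rcases Cfsg.Agent.S0246.center_cases hm _ hc with h1 | h1
      · rw [h1, orderOf_one] at hy
        exact hp.one_lt.ne hy
      · have h3 : y ^ 2 = 1 := by rw [h1, pow_two, negOne_mul_self]
        have h4 := orderOf_dvd_of_pow_eq_one h3
        rw [hy] at h4
        exact hp2 ((Nat.prime_dvd_prime_iff_eq hp Nat.prime_two).mp h4)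

variable [Fintype F]

set_option maxHeartbeats 1600000 in
/-- a normal `p'`-subgroup of the centraliser of a field automorphism of order `p` is trivial when
`p` divides the order of the group of fixed points. -/
theorem pprime_trivialS [Fintype F₀] (hm : 2 ≤ m) (r : ℕ) [Fact r.Prime] [CharP F r]
    (j : F₀ →+* F) (σ : RingAut F) (hj : ∀ x, (∃ y, j y = x) ↔ σ x = x) (p : ℕ) (hp : p.Prime)
    (hpr : p ≠ r) (hord : orderOf σ = p) (k₀ : Fin m ⊕ Fin m)
    (hP : ∀ n : MulAut (Cfsg.PSp m F),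
      n (mkP m F (spT m (bV k₀) 1)) = mkP m F (spT m (bV k₀) 1) → PermX n)
    (A N' : Subgroup (MulAut (Cfsg.PSp m F))) (hInnA : Cfsg.Inn (Cfsg.PSp m F) ≤ A)
    (hNA : N' ≤ A ⊓ Subgroup.centralizer {fieldSHom m F σ})
    (hnorm : ∀ c ∈ A ⊓ Subgroup.centralizer {fieldSHom m F σ}, ∀ n ∈ N', c * n * c⁻¹ ∈ N')
    (hcop : (Nat.card N').Coprime p)
    (hpd : p ∣ Nat.card ↥(Cfsg.Inn (Cfsg.PSp m F) ⊓
      Subgroup.centralizer {fieldSHom m F σ})) : N' = ⊥ := by
  classical
  have hm1 : 1 ≤ m := by omega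
  have : CharP F₀ r := RingHom.charP j j.injective r
  have : Fact p.Prime := ⟨hp⟩
  set φ := fieldSHom m F σ with hφ
  have hInnN : (Cfsg.Inn (Cfsg.PSp m F)).Normal := inn_normal _
  have hLC : ∀ s : ↥(Matrix.symplecticGroup (Fin m) F₀),
      LamSp m j s ∈ A ⊓ Subgroup.centralizer {φ} := fun s =>
    ⟨hInnA (LamSp_mem_Inn j s), LamSp_mem_centralizer hm σ j hj s⟩
  -- Step 1
  set M : Subgroup ↥(Matrix.symplecticGroup (Fin m) F₀) := N'.comap (LamSp m j) with hM
  have hMN : M.Normal := by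
    constructor
    intro s hs t
    show LamSp m j (t * s * t⁻¹) ∈ N'
    rw [map_mul, map_mul, map_inv]
    exact hnorm _ (hLC t) _ hs
  have hpd' : p ∣ Nat.card ↥(Matrix.symplecticGroup (Fin m) F₀) := by
    rw [← card_range_LamS hm j]
    have hle : Cfsg.Inn (Cfsg.PSp m F) ⊓ Subgroup.centralizer {φ} ≤ (LamS m j).range := by
      rw [LamS_range hm σ j hj]
      exact inf_le_inf_right _ Inn_le_range_PhiS
    exact dvd_trans hpd (Subgroup.card_dvd_of_le hle)
  have hMc : M ≤ Subgroup.center ↥(Matrix.symplecticGroup (Fin m) F₀) := by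
    rcases normal_le_center_or hm1 M with h | h
    · exact h
    · exfalso
      obtain ⟨y, hyc, hyp, hyn⟩ := exists_p_elt hm1 r p hp hpr hpd'
      have h1 : LamSp m j y ∈ N' := h hyc
      have h2 : (LamSp m j y) ^ p = 1 := by
        rw [← map_pow]; exact LamSp_eq_one_of_center hm j _ hyp
      have h3 : LamSp m j y ≠ 1 := fun h0 => hyn (center_of_LamSp_eq_one hm j y h0)
      have h4 : orderOf (LamSp m j y) = p := orderOf_eq_prime h2 h3
      have h5 : p ∣ Nat.card N' := by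
        rw [← h4]
        have := orderOf_dvd_natCard (⟨LamSp m j y, h1⟩ : ↥N')
        rwa [Subgroup.orderOf_mk] at this
      exact hp.one_lt.ne' (Nat.Coprime.eq_one_of_dvd hcop.symm h5)
  -- Step 2
  have hND : ∀ n ∈ N', n ∈ (PhiS m F).range → n = 1 := by
    intro n hnN hnD
    have hnC : n ∈ Subgroup.centralizer {φ} := (hNA hnN).2
    have hnR : n ∈ (LamS m j).range := by rw [LamS_range hm σ j hj]; exact ⟨hnD, hnC⟩
    obtain ⟨H, rfl⟩ := hnR
    have h1 : PhiS m F₀ H = 1 := by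
      apply MulEquiv.ext
      intro y
      obtain ⟨t, rfl⟩ := mkP_surjective y
      rw [PhiS_mk, MulAut.one_apply]
      have hc : conjSp H.1 H.2 t * t⁻¹ ∈ M := by
        show LamSp m j (conjSp H.1 H.2 t * t⁻¹) ∈ N'
        rw [map_mul, map_inv, LamSp_eq_LamS j (conjSp H.1 H.2 t), spToGSp_conjSp, map_mul, map_mul,
          map_inv, ← LamSp_eq_LamS]
        have : LamS m j H * LamSp m j t * (LamS m j H)⁻¹ * (LamSp m j t)⁻¹ =
            LamS m j H * (LamSp m j t * (LamS m j H)⁻¹ * (LamSp m j t)⁻¹) := by group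
        rw [this]
        exact N'.mul_mem hnN (hnorm _ (hLC t) _ (N'.inv_mem hnN))
      have hc' := hMc hc
      have h3 : conjSp H.1 H.2 t = (conjSp H.1 H.2 t * t⁻¹) * t := by group
      rw [h3, map_mul]
      have h4 : mkP m F₀ (conjSp H.1 H.2 t * t⁻¹) = 1 := (QuotientGroup.eq_one_iff _).mpr hc'
      rw [h4, one_mul]
    have h2 : H ∈ (LamS m j).ker := by rw [LamS_ker_eq hm j]; exact h1
    exact h2
  -- Step 3
  have hcomm : ∀ n ∈ N', ∀ l ∈ Cfsg.Inn (Cfsg.PSp m F) ⊓ Subgroup.centralizer {φ},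
      n * l = l * n := by
    intro n hnN l hl
    have hlC : l ∈ A ⊓ Subgroup.centralizer {φ} := ⟨hInnA hl.1, hl.2⟩
    have he1 : n * l * n⁻¹ * l⁻¹ ∈ N' := by
      have h1 : n * l * n⁻¹ * l⁻¹ = n * (l * n⁻¹ * l⁻¹) := by group
      rw [h1]
      exact N'.mul_mem hnN (hnorm _ hlC _ (N'.inv_mem hnN))
    have he2 : n * l * n⁻¹ * l⁻¹ ∈ (PhiS m F).range := by
      apply Inn_le_range_PhiS
      exact Subgroup.mul_mem _ (hInnN.conj_mem l hl.1 n) (Subgroup.inv_mem _ hl.1)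
    have h3 := hND _ he1 he2
    calc n * l = (n * l * n⁻¹ * l⁻¹) * (l * n) := by group
      _ = l * n := by rw [h3, one_mul]
  -- Step 4
  rw [eq_bot_iff]
  intro n hnN
  rw [Subgroup.mem_bot]
  have hfix : ∀ s : ↥(Matrix.symplecticGroup (Fin m) F₀),
      n (mkP m F (inclSp m j s)) = mkP m F (inclSp m j s) := by
    intro s
    have h1 := hcomm n hnN (LamSp m j s) ⟨LamSp_mem_Inn j s, (hLC s).2⟩
    have h2 : MulAut.conj (n (mkP m F (inclSp m j s))) = MulAut.conj (mkP m F (inclSp m j s)) := by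
      rw [← conj_conj_aut, ← LamSp_apply, h1, mul_inv_cancel_right]
    exact conj_PSp_injective hm h2
  have hfixT : ∀ c : F₀, n (mkP m F (spT m (bV k₀) (j c))) = mkP m F (spT m (bV k₀) (j c)) := by
    intro c
    have := hfix (spT m (bV k₀) c)
    rwa [inclSp_spT_bV] at this
  have hPn : PermX n := hP n (by have := hfixT 1; rwa [map_one] at this)
  obtain ⟨g, τ, hgτ⟩ := (permX_iff hm n).mp hPn
  obtain ⟨c0, hc0⟩ := id g.2
  have hμ0 : (c0 : F) ≠ 0 := c0.ne_zero
  have key : ∀ c : F₀, spT m ((g.1 : Matrix (Fin m ⊕ Fin m) (Fin m ⊕ Fin m) F) *ᵥ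
      (bV k₀ : Fin m ⊕ Fin m → F)) (τ (j c) / (c0 : F)) = spT m (bV k₀) (j c) := by
    intro c
    have h1 := hfixT c
    rw [hgτ, ← liftP_iota_eq g.1 g.2 τ, liftP_mk, iotaSp_spT g.1 g.2 τ c0 hμ0 hc0, comp_bV] at h1
    exact (spT_eq_of_mkP_eq hm _ _ _ _ h1).symm
  have k1 := key 1
  rw [map_one, map_one] at k1
  obtain ⟨l, hl0, hl⟩ := par_of_spT_eq (bV_ne_zero k₀) _ k1
  rw [hl, spT_smul] at k1
  have k1' := Cfsg.Agent.Lib.helper15.Sp4G.spT_injective (bV_ne_zero k₀) _ _ k1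
  have hτfix : ∀ c : F₀, τ (j c) = j c := by
    intro c
    have kc := key c
    rw [hl, spT_smul] at kc
    have kc' := Cfsg.Agent.Lib.helper15.Sp4G.spT_injective (bV_ne_zero k₀) _ _ kc
    calc τ (j c) = τ (j c) * (l ^ 2 * (1 / (c0 : F))) := by rw [k1', mul_one]
      _ = l ^ 2 * (τ (j c) / (c0 : F)) := by ring
      _ = j c := kc'
  have hτmem : (τ : F ≃+* F) ∈ Subgroup.zpowers (σ : F ≃+* F) := by
    apply Cfsg.Agent.Lib.Helper16.OL.mem_zpowers_of_fix
    intro x hx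
    obtain ⟨y, rfl⟩ := (hj x).mpr hx
    exact hτfix y
  have hτp : τ ^ p = 1 := by
    obtain ⟨k, hk⟩ := Subgroup.mem_zpowers_iff.mp hτmem
    have hσp : σ ^ p = 1 := by rw [← hord]; exact pow_orderOf_eq_one σ
    rw [← hk, ← zpow_natCast, ← _root_.zpow_mul, mul_comm, _root_.zpow_mul, zpow_natCast, hσp,
      _root_.one_zpow]
  have hnp : n ^ p = 1 := by
    apply hND _ (N'.pow_mem hnN p)
    rw [hgτ]
    obtain ⟨g, hg⟩ := g
    rw [pow_PhiS_fieldS, hτp, map_one, mul_one]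
    exact ⟨_, rfl⟩
  have h1 : orderOf n ∣ p := orderOf_dvd_of_pow_eq_one hnp
  have h3 : orderOf n ∣ Nat.card N' := by
    have := orderOf_dvd_natCard (⟨n, hnN⟩ : ↥N')
    rwa [Subgroup.orderOf_mk] at this
  have h4 : orderOf n = 1 := Nat.Coprime.eq_one_of_dvd (Nat.Coprime.coprime_dvd_left h3 hcop) h1
  exact orderOf_eq_one_iff.mp h4

end Cfsg.Agent.Lib.Helper16.SPC
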