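import Mathlib
import Cfsg.Agent.Lib.Helper16.SPC3

set_option autoImplicit false
set_option linter.unusedSectionVars false
set_option linter.unusedVariables false

/-! `O_{p'}` of centralisers of field automorphisms of `PSp`, part 4: the criterion. -/

namespace Cfsg.Agent.Lib.Helper16.SPC

open Matrix Cfsg.Agent.Lib.helper6 Cfsg.Agent.Lib.Helper26 Cfsg.Agent.Lib.Helper16.SPA
  Cfsg.Agent.Lib.Helper16.SPF Cfsg.Agent.Lib.helper15.SpAut Cfsg.Agent.Lib.Lead.OA
  Cfsg.Agent.Lib.Helper16.OL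

universe u v
variable {F : Type u} [Field F] [Fintype F] {m : ℕ} {F₀ : Type v} [Field F₀]

set_option maxHeartbeats 1600000 in
/-- `O_{p'}` of the centraliser of a standard field automorphism of prime order `p`. -/
theorem core_fieldS [Fintype F₀] (hm : 2 ≤ m) (r : ℕ) [Fact r.Prime] [CharP F r]
    (j : F₀ →+* F) (σ : RingAut F) (hj : ∀ x, (∃ y, j y = x) ↔ σ x = x) (p : ℕ) (hp : p.Prime)
    (hpr : p ≠ r) (hord : orderOf σ = p) (k₀ : Fin m ⊕ Fin m)
    (hP : ∀ n : MulAut (Cfsg.PSp m F),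
      n (mkP m F (spT m (bV k₀) 1)) = mkP m F (spT m (bV k₀) 1) → PermX n)
    (A : Subgroup (MulAut (Cfsg.PSp m F))) (hInnA : Cfsg.Inn (Cfsg.PSp m F) ≤ A) :
    Cfsg.pPrimeCore p ↥(A ⊓ Subgroup.centralizer {fieldSHom m F σ}) ≠ ⊥ ↔
      Nat.Coprime p (Nat.card ↥(MonoidHom.eqLocus (fieldSHom m F σ).toMonoidHom
        (MonoidHom.id (Cfsg.PSp m F)))) := by
  classical
  have hinj := conj_PSp_injective (F := F) hm
  set φ := fieldSHom m F σ with hφ
  have hInnN : (Cfsg.Inn (Cfsg.PSp m F)).Normal := inn_normal _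
  rw [← card_inn_inf_centralizer hinj φ, pPrimeCore_ne_bot_iff]
  constructor
  · rintro ⟨N, hN1, hN2, hN3⟩
    by_contra hcop
    have hpd : p ∣ Nat.card ↥(Cfsg.Inn (Cfsg.PSp m F) ⊓ Subgroup.centralizer {φ}) := by
      by_contra hnd
      exact hcop ((Nat.Prime.coprime_iff_not_dvd hp).mpr hnd)
    set N' : Subgroup (MulAut (Cfsg.PSp m F)) :=
      N.map (A ⊓ Subgroup.centralizer {φ}).subtype with hN'
    have hN'le : N' ≤ A ⊓ Subgroup.centralizer {φ} := by
      rintro _ ⟨n, -, rfl⟩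
      exact n.2
    have hN'norm : ∀ c ∈ A ⊓ Subgroup.centralizer {φ}, ∀ n ∈ N', c * n * c⁻¹ ∈ N' := by
      rintro c hc' _ ⟨n, hn', rfl⟩
      exact ⟨⟨c, hc'⟩ * n * ⟨c, hc'⟩⁻¹, hN1.conj_mem n hn' ⟨c, hc'⟩, rfl⟩
    have hN'card : (Nat.card N').Coprime p := by
      rw [hN', Subgroup.card_map_of_injective (Subgroup.subtype_injective _)]
      exact hN2
    have hbot := pprime_trivialS hm r j σ hj p hp hpr hord k₀ hP A N' hInnA hN'le hN'norm hN'card hpd
    apply hN3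
    rw [eq_bot_iff]
    intro n hn'
    have h1 : (A ⊓ Subgroup.centralizer {φ}).subtype n ∈ N' := ⟨n, hn', rfl⟩
    rw [hbot, Subgroup.mem_bot] at h1
    rw [Subgroup.mem_bot]
    exact Subtype.ext h1
  · intro hcop
    have hle : Cfsg.Inn (Cfsg.PSp m F) ⊓ Subgroup.centralizer {φ} ≤
        A ⊓ Subgroup.centralizer {φ} := inf_le_inf_right _ hInnA
    refine ⟨(Cfsg.Inn (Cfsg.PSp m F) ⊓ Subgroup.centralizer {φ}).subgroupOf
      (A ⊓ Subgroup.centralizer {φ}), ?_, ?_, ?_⟩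
    · constructor
      intro n hn' c
      rw [Subgroup.mem_subgroupOf] at hn' ⊢
      refine ⟨?_, ?_⟩
      · exact hInnN.conj_mem _ hn'.1 _
      · exact (Subgroup.centralizer {φ}).mul_mem ((Subgroup.centralizer {φ}).mul_mem c.2.2 hn'.2)
          ((Subgroup.centralizer {φ}).inv_mem c.2.2)
    · rw [Nat.card_congr (Subgroup.subgroupOfEquivOfLe hle).toEquiv]
      exact hcop.symm
    · -- non-triviality
      have hmem : LamSp m j (spT m (bV k₀ : Fin m ⊕ Fin m → F₀) 1) ∈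
          Cfsg.Inn (Cfsg.PSp m F) ⊓ Subgroup.centralizer {φ} :=
        ⟨LamSp_mem_Inn j _, LamSp_mem_centralizer hm σ j hj _⟩
      intro hbot
      have h1 : (⟨_, hle hmem⟩ : ↥(A ⊓ Subgroup.centralizer {φ})) ∈
          (Cfsg.Inn (Cfsg.PSp m F) ⊓ Subgroup.centralizer {φ}).subgroupOf
            (A ⊓ Subgroup.centralizer {φ}) := by
        rw [Subgroup.mem_subgroupOf]; exact hmem
      rw [hbot, Subgroup.mem_bot] at h1
      have h3 : LamSp m j (spT m (bV k₀ : Fin m ⊕ Fin m → F₀) 1) = 1 := congrArg Subtype.val h1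
      rw [LamSp_apply, inclSp_spT_bV, map_one] at h3
      have h4 : mkP m F (spT m (bV k₀) 1) = mkP m F (spT m (bV k₀) 0) := by
        rw [spT_zero, map_one]
        exact hinj (by rw [h3, map_one])
      exact one_ne_zero (mkP_spT_injective (by omega) (bV_ne_zero k₀) _ _ h4)

set_option maxHeartbeats 1600000 in
/-- `O_{p'}` of the centraliser of a conjugate of a standard field automorphism of prime order. -/
theorem core_field_conjS [Fintype F₀] (hm : 2 ≤ m) (r : ℕ) [Fact r.Prime] [CharP F r]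
    (j : F₀ →+* F) (σ : RingAut F) (hj : ∀ x, (∃ y, j y = x) ↔ σ x = x) (p : ℕ) (hp : p.Prime)
    (hpr : p ≠ r) (hord : orderOf σ = p) (k₀ : Fin m ⊕ Fin m)
    (hP : ∀ n : MulAut (Cfsg.PSp m F),
      n (mkP m F (spT m (bV k₀) 1)) = mkP m F (spT m (bV k₀) 1) → PermX n)
    (A : Subgroup (MulAut (Cfsg.PSp m F))) (hInnA : Cfsg.Inn (Cfsg.PSp m F) ≤ A)
    (α x : MulAut (Cfsg.PSp m F)) (hx : α * x * α⁻¹ = fieldSHom m F σ) :
    Cfsg.pPrimeCore p ↥(A ⊓ Subgroup.centralizer {x}) ≠ ⊥ ↔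
      Nat.Coprime p (Nat.card ↥(MonoidHom.eqLocus x.toMonoidHom
        (MonoidHom.id (Cfsg.PSp m F)))) := by
  have hInnN : (Cfsg.Inn (Cfsg.PSp m F)).Normal := inn_normal _
  have e := infCentConjEquiv A α x
  rw [pPrimeCore_ne_bot_congr p e, ← card_eqLocus_conj α x]
  have hInnA' := le_map_conj_of_normal _ A hInnA α
  have key := core_fieldS hm r j σ hj p hp hpr hord k₀ hP (A.map (MulAut.conj α).toMonoidHom) hInnA'
  rw [← hx] at key
  exact key

set_option maxHeartbeats 1600000 in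
/-- the criterion, for automorphisms permuting the transvection subgroups. -/
theorem core_not_inndiagS (hm : 2 ≤ m) (r : ℕ) [Fact r.Prime] [CharP F r] (k₀ : Fin m ⊕ Fin m)
    (hP : ∀ n : MulAut (Cfsg.PSp m F),
      n (mkP m F (spT m (bV k₀) 1)) = mkP m F (spT m (bV k₀) 1) → PermX n)
    (A : Subgroup (MulAut (Cfsg.PSp m F))) (hInnA : Cfsg.Inn (Cfsg.PSp m F) ≤ A) (p : ℕ)
    (hp : p.Prime) (hpr : p ≠ r) (x : MulAut (Cfsg.PSp m F)) (hord : orderOf x = p)
    (hxP : PermX x) (hnot : x ∉ (PhiS m F).range) :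
    Cfsg.pPrimeCore p ↥(A ⊓ Subgroup.centralizer {x}) ≠ ⊥ ↔
      (Cfsg.IsFieldAutClassPSp x ∧
        Nat.Coprime p (Nat.card ↥(MonoidHom.eqLocus x.toMonoidHom
          (MonoidHom.id (Cfsg.PSp m F))))) := by
  classical
  obtain ⟨g, σ, hx⟩ := (permX_iff hm x).mp hxP
  have hσne : σ ≠ 1 := by
    rintro rfl
    apply hnot
    rw [hx, map_one, mul_one]
    exact ⟨g, rfl⟩
  have hxp : (PhiS m F g * fieldSHom m F σ) ^ p = 1 := by
    rw [← hx, ← hord]; exact pow_orderOf_eq_one x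
  have hσp : σ ^ p = 1 := by
    have h1 := hxp
    obtain ⟨g, hg⟩ := g
    rw [pow_PhiS_fieldS] at h1
    exact (PhiS_fieldS_eq_one hm _ _ h1).1
  have hordσ : orderOf σ = p := by
    have hdvd := orderOf_dvd_of_pow_eq_one hσp
    rcases (Nat.dvd_prime hp).mp hdvd with h | h
    · exact absurd (orderOf_eq_one_iff.mp h) hσne
    · exact h
  obtain ⟨h, hh⟩ := field_conjS hm σ p hordσ hp.pos g hxp
  set α : MulAut (Cfsg.PSp m F) := (PhiS m F h)⁻¹ with hα
  have hx₀ : α * x * α⁻¹ = fieldSHom m F σ := by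
    rw [hx, hh, hα]
    group
  have hfield : Cfsg.IsFieldAutClassPSp x :=
    ⟨α, σ, hσne, (isStdField_iffS σ _).mpr hx₀⟩
  rw [and_iff_right hfield]
  set S : Subfield F := FixedPoints.subfield (Subgroup.zpowers σ) F with hS
  have hmem : ∀ y, y ∈ S ↔ σ y = y := fun y => Cfsg.Agent.Lib.Helper16.mem_fixed_iff σ y
  have : Fintype S := Fintype.ofFinite _
  have hj : ∀ y, (∃ z, S.subtype z = y) ↔ σ y = y := by
    intro y
    constructor
    · rintro ⟨z, rfl⟩
      exact (hmem _).mp z.2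
    · intro hy
      exact ⟨⟨y, (hmem y).mpr hy⟩, rfl⟩
  exact core_field_conjS hm r S.subtype σ hj p hp hpr hordσ k₀ hP A hInnA α x hx₀

end Cfsg.Agent.Lib.Helper16.SPC
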