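import Mathlib
import Cfsg.Agent.Lib.Helper16.SPC4

set_option autoImplicit false
set_option linter.unusedSectionVars false
set_option linter.unusedVariables false

/-! `O_{p'}` of centralisers of field automorphisms of `PSp`, part 5: S2730. -/

namespace Cfsg.Agent.Lib.Helper16.SPC

open Matrix Cfsg.Agent.Lib.helper6 Cfsg.Agent.Lib.Helper26 Cfsg.Agent.Lib.Helper16.SPA
  Cfsg.Agent.Lib.Helper16.SPF Cfsg.Agent.Lib.helper15.SpAut Cfsg.Agent.Lib.helper15.Sp4G

universe u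
variable {F : Type u} [Field F] [Fintype F]

theorem innerDiagonal_iffS {m : ℕ} (x : MulAut (Cfsg.PSp m F)) :
    Cfsg.IsInnerDiagonalAutPSp x ↔ x ∈ (PhiS m F).range := by
  constructor
  · rintro ⟨g, hg, h⟩
    rw [isInduced_iffS g hg, fieldSHom_refl, mul_one] at h
    exact ⟨⟨g, hg⟩, h.symm⟩
  · rintro ⟨g, rfl⟩
    refine ⟨g.1, g.2, ?_⟩
    rw [isInduced_iffS g.1 g.2, fieldSHom_refl, mul_one]

theorem two_eq_zero_of_charP2 [CharP F 2] : (2 : F) = 0 := by
  have := CharP.cast_eq_zero F 2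
  exact_mod_cast this

/-- in characteristic two, an automorphism of `PSp₄` fixing a transvection permutes the transvection
subgroups. -/
theorem permX_of_fix22 [CharP F 2] (n : MulAut (Cfsg.PSp 2 F))
    (hn : n (mkP 2 F (spT 2 (bV e1 : I4 → F) 1)) = mkP 2 F (spT 2 (bV e1 : I4 → F) 1)) :
    PermX n := by
  have : Fact (Nat.Prime 2) := ⟨Nat.prime_two⟩
  have h2 : (2 : F) = 0 := two_eq_zero_of_charP2
  by_contra hnp
  have h := (permX_or h2 2 n).resolve_left hnp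
  obtain ⟨q, hq, hq'⟩ := h (bV e1) (bV_ne_zero _)
  have h1 : (tauBar h2 * n) (mkP 2 F (spT 2 (bV e1 : I4 → F) 1)) ∈ Xb q := by
    rw [← hq']
    exact Subgroup.mem_map_of_mem _ ((mem_Xb_iff _ _).mpr ⟨1, rfl⟩)
  rw [MulAut.mul_apply, hn, tauBar_mk, tau_spT_e1, mem_Xb_iff] at h1
  obtain ⟨d, hd⟩ := h1
  exact sR_ne_spT 1 one_ne_zero q d (mkP_injective_char2 h2 (by omega) hd)

/-- in characteristic two, an automorphism of `PSp₄` of odd order permutes the transvection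
subgroups. -/
theorem permX_of_odd22 [CharP F 2] (x : MulAut (Cfsg.PSp 2 F)) (hodd : Odd (orderOf x)) :
    PermX x := by
  have : Fact (Nat.Prime 2) := ⟨Nat.prime_two⟩
  have h2 : (2 : F) = 0 := two_eq_zero_of_charP2
  let Γ : Subgroup (MulAut (Cfsg.PSp 2 F)) :=
    { carrier := {α | PermX α}
      mul_mem' := fun {a b} ha hb => permX_mul a b ha hb
      one_mem' := (permX_iff (le_refl 2) 1).mpr ⟨1, 1, by rw [map_one, map_one, mul_one]⟩
      inv_mem' := fun {a} ha => permX_inv (le_refl 2) a ha }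
  have hΓ : ∀ α, α ∈ Γ ↔ PermX α := fun α => Iff.rfl
  have hidx : Γ.index = 2 := by
    rw [Subgroup.index_eq_two_iff']
    refine ⟨tauBar h2, fun b => ?_⟩
    rw [hΓ, hΓ]
    have hnot : ¬ (PermX (tauBar h2 * b) ∧ PermX b) := by
      rintro ⟨h1, h3⟩
      apply tauBar_not_permX h2
      have := permX_mul _ _ h1 (permX_inv (le_refl 2) b h3)
      rwa [mul_inv_cancel_right] at this
    rcases permX_or h2 2 b with h | h
    · exact Or.inr ⟨h, fun h' => hnot ⟨h', h⟩⟩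
    · exact Or.inl ⟨h, fun h' => hnot ⟨h, h'⟩⟩
  have hsq : x ^ 2 ∈ Γ := Subgroup.sq_mem_of_index_two hidx x
  obtain ⟨k, hk⟩ := hodd
  have hx : x = (x ^ 2) ^ (k + 1) := by
    rw [← pow_mul]
    have : 2 * (k + 1) = orderOf x + 1 := by omega
    rw [this, pow_succ, pow_orderOf_eq_one, one_mul]
  rw [hx]
  exact Γ.pow_mem hsq _

set_option maxHeartbeats 1600000 in
theorem S2730_aux {r : ℕ} [Fact r.Prime] [CharP F r] {m : ℕ} (hm : 2 ≤ m)
    (A : Subgroup (MulAut (Cfsg.PSp m F)))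
    (hinn : ∀ k : Cfsg.PSp m F, MulAut.conj k ∈ A) {p : ℕ} (hp : p.Prime) (hpr : p ≠ r)
    (x : MulAut (Cfsg.PSp m F)) (hord : orderOf x = p)
    (hnot : ¬ Cfsg.IsInnerDiagonalAutPSp x) :
    Cfsg.pPrimeCore p ↥(A ⊓ Subgroup.centralizer {x}) ≠ ⊥ ↔
      (Cfsg.IsFieldAutClassPSp x ∧
        Nat.Coprime p (Nat.card ↥(MonoidHom.eqLocus x.toMonoidHom
          (MonoidHom.id (Cfsg.PSp m F))))) := by
  rw [innerDiagonal_iffS] at hnot
  have hInnA : Cfsg.Inn (Cfsg.PSp m F) ≤ A := by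
    rintro _ ⟨k, rfl⟩
    exact hinn k
  by_cases h4 : m = 2 ∧ r = 2
  · obtain ⟨rfl, rfl⟩ := h4
    have hodd : Odd (orderOf x) := by
      rw [hord]
      exact hp.odd_of_ne_two hpr
    exact core_not_inndiagS (le_refl 2) 2 e1 permX_of_fix22 A hInnA p hp hpr x hord
      (permX_of_odd22 x hodd) hnot
  · have h4' : m = 2 → r ≠ 2 := fun h1 h3 => h4 ⟨h1, h3⟩
    exact core_not_inndiagS hm r (Sum.inl ⟨0, by omega⟩) (fun n _ => permX_all r hm h4' n) A hInnA p hp hpr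
      x hord (permX_all r hm h4' x) hnot

end Cfsg.Agent.Lib.Helper16.SPC
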