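import Mathlib
import Cfsg.Agent.Lib.Helper16.SpCount2
import Cfsg.Agent.Lib.Helper19.SPD.Defs

/-!
# SPD (S5961) row EXIST (helper16): an element of `Sp_{2d}(q)` of order dividing `r` whose fixed space has codimension `cc i * j₀`.

`spdexist_real` is the realisation step of `Helper16.SpSemi.sp_order_r_classes` (SpCount2) as a standalone lemma.
-/

set_option autoImplicit false
set_option linter.unusedSectionVars false
set_option linter.unusedSimpArgs false
set_option linter.unusedVariables false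
set_option linter.unusedTactic false

namespace Cfsg.Agent.Lib.Helper19.SPD

open Matrix Module Polynomial Cfsg.Agent.Lib.Helper16.PSemi Cfsg.Agent.Lib.Helper16.RN
  Cfsg.Agent.Lib.Helper16.GUSemi Cfsg.Agent.Lib.Helper16.SpSemi

universe u

variable {F : Type u} [Field F]

/-- the reindexing `Fin m ⊕ Fin m ≃ Fin (m + m)` on matrices -/
noncomputable def spdexist_R (m : ℕ) (F : Type u) [Field F] :
    Matrix (Fin m ⊕ Fin m) (Fin m ⊕ Fin m) F ≃ₐ[F] Matrix (Fin (m + m)) (Fin (m + m)) F :=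
  Matrix.reindexAlgEquiv F F finSumFinEquiv

theorem spdexist_real [Fintype F] {p q : ℕ} [Fact p.Prime] [CharP F p]
    (hF : Fintype.card F = q) (m r i t : ℕ) (hr : r.Prime) (hr2 : r ≠ 2) (hrp : r ≠ p)
    (hi : i = orderOf (q : ZMod r)) (ht : t * i = r - 1) :
    ∃ (κ : Type u) (_ : Fintype κ) (_ : DecidableEq κ) (f : κ → F[X]) (π : κ → κ),
      Fintype.card κ = t ∧ (∀ k, π (π k) = k) ∧ (∀ k, π k = k ↔ Even i) ∧
      (∀ a : κ → ℕ, i * ∑ k, a k ≤ m + m → (∀ k, a (π k) = a k) →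
        ∃ B : Matrix.symplecticGroup (Fin m) F, B ^ r = 1 ∧
          ∀ k, kd (spdexist_R m F B.1) (f k) = i * a k) ∧
      (∀ g : Matrix (Fin (m + m)) (Fin (m + m)) F, g ^ r = 1 →
        kd g (X - 1) + ∑ k, kd g (f k) = m + m) := by
  classical
  have : Fact r.Prime := ⟨hr⟩
  have hr2' : 2 ≤ r := hr.two_le
  have hi0 : 0 < i := by
    rcases Nat.eq_zero_or_pos i with h | h
    · rw [h, mul_zero] at ht; omega
    · exact h
  have hrF : (r : F) ≠ 0 := by
    intro h
    rw [CharP.cast_eq_zero_iff F p] at h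
    exact hrp ((Nat.prime_dvd_prime_iff_eq Fact.out hr).mp h).symm
  have hrodd : Odd r := hr.odd_of_ne_two hr2
  obtain ⟨κ, hκF, hκD, f, E, hEF, hEA, hEfin, ω, hκcard, hirr, hdeg, hcop, hprod, hf1, hω0, hωne,
    hωr, hreal, hclass, hdivsum⟩ := gl_order_r_param hF (m + m) r i t hr hrp hi ht
  obtain ⟨hcoeff0, π, hππ, hπ⟩ :=
    exists_perm (RingHom.id F) (fun a => rfl) f r i hr.pos hirr hdeg hcop hprod
  obtain ⟨Ad, hAdσ, hAdj, hAdval⟩ : ∃ Ad : AdjData (Fin (m + m)) F, Ad.σ = RingHom.id F ∧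
      (∀ a, Ad.adj a = (a.map ⇑(RingHom.id F))ᵀ) ∧ ∀ a, Ad.adj a = aᵀ :=
    ⟨trAdj (m + m) F, rfl, fun a => by
      show aᵀ = (a.map ⇑(RingHom.id F))ᵀ
      congr 1, fun a => rfl⟩
  have hkdual : ∀ (g : GL (Fin (m + m)) F) (k : κ),
      kd ((Ad.adjU g)⁻¹).1 (f k) = kd g.1 (f (π k)) := by
    intro g k
    rw [kd_dual (RingHom.id F) (fun a => rfl) Ad hAdσ hAdj g (f k)]
    exact kd_associated _ _ _ (hπ k)
  obtain ⟨R, hRdef⟩ : ∃ R, R = spdexist_R m F := ⟨_, rfl⟩
  have hRT : ∀ a, R aᵀ = (R a)ᵀ := by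
    intro a
    rw [hRdef, spdexist_R, Matrix.coe_reindexAlgEquiv]
    rfl
  have hRsT : ∀ a, R.symm aᵀ = (R.symm a)ᵀ := by
    intro a
    rw [hRdef, spdexist_R, Matrix.symm_reindexAlgEquiv, Matrix.coe_reindexAlgEquiv]
    rfl
  have hω1 : ∀ k, ω k ≠ 1 := by
    intro k h1
    have h2 := hω0 k
    rw [h1] at h2
    have h3 : aeval (1 : E) (f k) = algebraMap F E (aeval (1 : F) (f k)) := by
      rw [← aeval_algebraMap_apply, map_one]
    rw [h3] at h2
    exact hf1 k ((map_eq_zero_iff _ (algebraMap F E).injective).mp h2)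
  have hfix : ∀ k, π k = k ↔ Even i := by
    intro k
    rw [← nt_even r hr2 (q : ZMod r) i hi hi0,
      ← dual_root_iff_id hF r hrp (f k) (hirr k).ne_zero i (hdeg k) hi (ω k) (hω0 k) (hωr k)
        (hω1 k)]
    constructor
    · intro h
      have h1 := hπ k
      rw [h] at h1
      exact aeval_zero_of_associated _ _ h1.symm (ω k) (hω0 k)
    · intro h
      by_contra hne
      exact hωne (π k) k hne (aeval_zero_of_associated _ _ (hπ k) (ω k) h)
  have hadjpow : ∀ g : GL (Fin (m + m)) F, g.1 ^ r = 1 → ((Ad.adjU g)⁻¹).1 ^ r = 1 := by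
    intro g hg
    have h1 : g ^ r = 1 := Units.ext (by rw [Units.val_pow_eq_pow_val, hg, Units.val_one])
    rw [← Units.val_pow_eq_pow_val, ← Ad.adjU_inv, ← Units.val_one]
    congr 1
    have h2 : ∀ (x : GL (Fin (m + m)) F) (j : ℕ), (Ad.adjU x) ^ j = Ad.adjU (x ^ j) := by
      intro x j
      induction j with
      | zero => rw [pow_zero, pow_zero, Ad.adjU_one]
      | succ j ih => rw [pow_succ, ih, pow_succ', Ad.adjU_mul]
    rw [h2, inv_pow, h1, inv_one, Ad.adjU_one]
  refine ⟨κ, hκF, hκD, f, π, hκcard, hππ, hfix, ?_, fun g hg => (hdivsum g hg).2⟩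
  intro a ha1 ha3
  obtain ⟨g, hg, hgk⟩ := hreal a ha1
  have hconj : IsConj g (Ad.adjU g)⁻¹ := by
    apply hclass g _ hg (hadjpow g hg)
    intro k
    rw [hkdual, hgk, hgk, ha3 k]
  obtain ⟨c, hc⟩ := isConj_iff.mp hconj
  have hc1 : Ad.adjU g * c * g = c := by
    have : c * g = (Ad.adjU g)⁻¹ * c := by rw [← hc]; group
    rw [mul_assoc, this, ← mul_assoc, mul_inv_cancel, one_mul]
  have hc2 : g.1ᵀ * c.1 * g.1 = c.1 := by
    have := congrArg Units.val hc1
    rw [Units.val_mul, Units.val_mul, Ad.adjU_val, hAdval] at this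
    exact this
  obtain ⟨G, hGdef⟩ : ∃ G, G = R.symm g.1 := ⟨_, rfl⟩
  obtain ⟨P, hPdef⟩ : ∃ P, P = R.symm c.1 := ⟨_, rfl⟩
  have hGP : Gᵀ * P * G = P := by
    have := congrArg R.symm hc2
    rw [map_mul, map_mul, hRsT, ← hGdef, ← hPdef] at this
    exact this
  have hGr : G ^ r = 1 := by rw [hGdef, ← map_pow, hg, map_one]
  have hPu : IsUnit P := by
    rw [hPdef]
    exact c.isUnit.map R.symm
  have hcard : Even (Fintype.card (Fin m ⊕ Fin m)) :=
    ⟨m, by rw [Fintype.card_sum, Fintype.card_fin]⟩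
  obtain ⟨H, halt, hHu, hHinv⟩ := exists_alt_invariant G P r hrodd hrF hGr hPu hGP hcard
  obtain ⟨Q, B, hQu, hQG⟩ := exists_sp_conj G H halt hHu hHinv
  obtain ⟨Qi, hQi⟩ := hQu.exists_right_inv
  have hBpow : ∀ j : ℕ, B.1 ^ j * Q = Q * G ^ j := by
    intro j
    induction j with
    | zero => rw [pow_zero, pow_zero, one_mul, mul_one]
    | succ j ih => rw [pow_succ, mul_assoc, ← hQG, ← mul_assoc, ih, mul_assoc, ← pow_succ]
  refine ⟨B, ?_, ?_⟩
  · apply Subtype.ext
    rw [SubmonoidClass.coe_pow]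
    have h1 := hBpow r
    rw [hGr, mul_one] at h1
    calc B.1 ^ r = B.1 ^ r * (Q * Qi) := by rw [hQi, mul_one]
      _ = (B.1 ^ r * Q) * Qi := by rw [mul_assoc]
      _ = 1 := by rw [h1, hQi]
  · intro k
    rw [← hgk k, ← hRdef]
    have hRG : R G = g.1 := by rw [hGdef, AlgEquiv.apply_symm_apply]
    rw [← hRG]
    symm
    apply kd_conj _ _ (R Q)
    · rw [← Matrix.isUnit_iff_isUnit_det]
      exact hQu.map R
    · rw [← map_mul, ← map_mul, hQG]

/-- the kernel dimension of `X - 1` for the reindexed matrix is the dimension of the fixed space -/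
theorem spdexist_kd_one (m : ℕ) (A : Matrix (Fin m ⊕ Fin m) (Fin m ⊕ Fin m) F) :
    kd (spdexist_R m F A) (X - 1) = Module.finrank F ↥(Fx (Matrix.toLin' A)) := by
  classical
  unfold kd Fx
  have e1 : aeval (Matrix.toLin' (spdexist_R m F A)) (X - 1 : F[X]) =
      Matrix.toLin' (spdexist_R m F (A - 1)) := by
    rw [map_sub, aeval_X, map_one, map_sub, map_one, map_sub, Matrix.toLin'_one]
    rfl
  have e2 : (Matrix.toLin' A - 1 : (Fin m ⊕ Fin m → F) →ₗ[F] (Fin m ⊕ Fin m → F)) =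
      Matrix.toLin' (A - 1) := by
    rw [map_sub, Matrix.toLin'_one]
    rfl
  rw [e1, e2]
  have h1 := LinearMap.finrank_range_add_finrank_ker (Matrix.toLin' (spdexist_R m F (A - 1)))
  have h2 := LinearMap.finrank_range_add_finrank_ker (Matrix.toLin' (A - 1))
  have h3 : Module.finrank F (LinearMap.range (Matrix.toLin' (spdexist_R m F (A - 1)))) =
      (spdexist_R m F (A - 1)).rank := rfl
  have h4 : Module.finrank F (LinearMap.range (Matrix.toLin' (A - 1))) = (A - 1).rank := rfl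
  have h5 : (spdexist_R m F (A - 1)).rank = (A - 1).rank := by
    unfold spdexist_R
    rw [Matrix.coe_reindexAlgEquiv]
    exact Matrix.rank_reindex _ _ _
  have h6 : Module.finrank F (Fin (m + m) → F) = m + m := by
    rw [Module.finrank_fintype_fun_eq_card, Fintype.card_fin]
  have h7 : Module.finrank F (Fin m ⊕ Fin m → F) = m + m := by
    rw [Module.finrank_fintype_fun_eq_card, Fintype.card_sum, Fintype.card_fin]
  omega

theorem exists_elt {d : ℕ} [Fintype F] {p q : ℕ} [Fact p.Prime] [CharP F p] (hq : Fintype.card F = q)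
    (r : ℕ) [Fact r.Prime] (hr2 : r ≠ 2) (hrp : r ≠ p) (i : ℕ) (hi : i = orderOf (q : ZMod r))
    (j₀ : ℕ) (hj : cc i * j₀ ≤ 2 * d) :
    ∃ x : ↥(Matrix.symplecticGroup (Fin d) F), x ^ r = 1 ∧
      Module.finrank F ↥(Fx (Matrix.toLin' (x : Matrix (Fin d ⊕ Fin d) (Fin d ⊕ Fin d) F))) = 2 * d - cc i * j₀ := by
  classical
  have hr : r.Prime := Fact.out
  have hp : p.Prime := Fact.out
  -- `i ∣ r - 1`
  have hqr : (q : ZMod r) ≠ 0 := by
    intro h0
    rw [ZMod.natCast_eq_zero_iff] at h0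
    obtain ⟨n, -, hn⟩ := FiniteField.card F p
    rw [hq] at hn
    rw [hn] at h0
    have := (Nat.prime_dvd_prime_iff_eq hr hp).mp (hr.dvd_of_dvd_pow h0)
    exact hrp this
  have hdvd : i ∣ r - 1 := by
    rw [hi]
    exact orderOf_dvd_of_pow_eq_one (ZMod.pow_card_sub_one_eq_one hqr)
  obtain ⟨t, ht'⟩ := hdvd
  have ht : t * i = r - 1 := by rw [ht', mul_comm]
  have hr2' : 2 ≤ r := hr.two_le
  have ht0 : 0 < t := by
    rcases Nat.eq_zero_or_pos t with h | h
    · rw [h, zero_mul] at ht; omega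
    · exact h
  obtain ⟨κ, hκF, hκD, f, π, hκcard, hππ, hfix, hreal, hsum⟩ :=
    spdexist_real hq d r i t hr hr2 hrp hi ht
  have hκne : Nonempty κ := by
    rw [← Fintype.card_pos_iff, hκcard]; exact ht0
  obtain ⟨k₀⟩ := hκne
  let a : κ → ℕ := fun k => if k = k₀ ∨ k = π k₀ then j₀ else 0
  have ha3 : ∀ k, a (π k) = a k := by
    intro k
    have h1 : (π k = k₀ ∨ π k = π k₀) ↔ (k = k₀ ∨ k = π k₀) := by
      constructor
      · rintro (h | h)
        · right; rw [← h, hππ]
        · left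
          have := congrArg π h
          rwa [hππ, hππ] at this
      · rintro (h | h)
        · right; rw [h]
        · left; rw [h, hππ]
    show (if π k = k₀ ∨ π k = π k₀ then j₀ else 0) = if k = k₀ ∨ k = π k₀ then j₀ else 0
    by_cases hk : k = k₀ ∨ k = π k₀
    · rw [if_pos hk, if_pos (h1.mpr hk)]
    · rw [if_neg hk, if_neg (fun h => hk (h1.mp h))]
  -- the sum of `a`
  have hsuma : i * ∑ k, a k = cc i * j₀ := by
    by_cases hev : Even i
    · have hπk : π k₀ = k₀ := (hfix k₀).mpr hev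
      have : ∑ k, a k = j₀ := by
        have h1 : ∀ k, a k = if k = k₀ then j₀ else 0 := by
          intro k
          show (if k = k₀ ∨ k = π k₀ then j₀ else 0) = _
          simp only [hπk, or_self]
        rw [Finset.sum_congr rfl (fun k _ => h1 k), Finset.sum_ite_eq' Finset.univ k₀]
        simp
      rw [this]
      unfold cc
      rw [if_pos hev]
    · have hπk : π k₀ ≠ k₀ := fun h => hev ((hfix k₀).mp h)
      have : ∑ k, a k = j₀ + j₀ := by
        have h1 : ∀ k, a k = (if k = k₀ then j₀ else 0) + (if k = π k₀ then j₀ else 0) := by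
          intro k
          show (if k = k₀ ∨ k = π k₀ then j₀ else 0) = _
          by_cases h1 : k = k₀
          · have h2 : k ≠ π k₀ := by rw [h1]; exact fun h => hπk h.symm
            rw [if_pos (Or.inl h1), if_pos h1, if_neg h2, add_zero]
          · by_cases h2 : k = π k₀
            · rw [if_pos (Or.inr h2), if_neg h1, if_pos h2, zero_add]
            · rw [if_neg (by tauto), if_neg h1, if_neg h2]
        rw [Finset.sum_congr rfl (fun k _ => h1 k), Finset.sum_add_distrib,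
          Finset.sum_ite_eq' Finset.univ k₀, Finset.sum_ite_eq' Finset.univ (π k₀)]
        simp
      rw [this]
      unfold cc
      rw [if_neg hev]
      ring
  have ha1 : i * ∑ k, a k ≤ d + d := by rw [hsuma]; omega
  obtain ⟨B, hBr, hBk⟩ := hreal a ha1 ha3
  refine ⟨B, hBr, ?_⟩
  have hBr' : (spdexist_R d F B.1) ^ r = 1 := by
    rw [← map_pow]
    have := congrArg Subtype.val hBr
    rw [SubmonoidClass.coe_pow] at this
    rw [this]
    exact map_one _
  have h1 := hsum _ hBr'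
  rw [Finset.sum_congr rfl (fun k _ => hBk k), ← Finset.mul_sum, hsuma, spdexist_kd_one] at h1
  omega

end Cfsg.Agent.Lib.Helper19.SPD
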