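import Cfsg.Agent.Lib.Helper16.SPA9
import Cfsg.Agent.Lib.Helper16.SC3
import Cfsg.Agent.Lib.Helper16.SemiFixed

set_option autoImplicit false
set_option linter.unusedSectionVars false
set_option linter.unusedVariables false

namespace Cfsg.Agent.Lib.Helper16.SPF

open Matrix Cfsg.Agent.Lib.helper6 Cfsg.Agent.Lib.helper6.SB Cfsg.Agent.Lib.Helper26
  Cfsg.Agent.Lib.Helper16.SPA

universe u
variable {F : Type u} [Field F] {m : ℕ}

/-- `liftP` as a homomorphism. -/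
noncomputable def liftPHom (m : ℕ) (F : Type u) [Field F] :
    MulAut ↥(Matrix.symplecticGroup (Fin m) F) →* MulAut (Cfsg.PSp m F) where
  toFun := liftP
  map_one' := by
    apply MulEquiv.ext
    intro y
    obtain ⟨s, rfl⟩ := mkP_surjective y
    rw [liftP_mk]
    rfl
  map_mul' a b := by
    apply MulEquiv.ext
    intro y
    obtain ⟨s, rfl⟩ := mkP_surjective y
    rw [liftP_mk]
    show _ = liftP a (liftP b (mkP m F s))
    rw [liftP_mk, liftP_mk]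
    rfl

theorem liftPHom_apply (e : MulAut ↥(Matrix.symplecticGroup (Fin m) F)) : liftPHom m F e = liftP e := rfl

theorem gl_inv_mul_val (g : GL (Fin m ⊕ Fin m) F) :
    ((g⁻¹ : GL (Fin m ⊕ Fin m) F) : Matrix (Fin m ⊕ Fin m) (Fin m ⊕ Fin m) F) *
      (g : Matrix (Fin m ⊕ Fin m) (Fin m ⊕ Fin m) F) = 1 := by
  rw [← Matrix.GeneralLinearGroup.coe_mul, inv_mul_cancel]; rfl

theorem gl_mul_inv_val (g : GL (Fin m ⊕ Fin m) F) :
    (g : Matrix (Fin m ⊕ Fin m) (Fin m ⊕ Fin m) F) *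
      ((g⁻¹ : GL (Fin m ⊕ Fin m) F) : Matrix (Fin m ⊕ Fin m) (Fin m ⊕ Fin m) F) = 1 := by
  rw [← Matrix.GeneralLinearGroup.coe_mul, mul_inv_cancel]; rfl

/-- conjugation by similitudes as a homomorphism. -/
noncomputable def conjSpHom (m : ℕ) (F : Type u) [Field F] :
    ↥(Cfsg.GSp m F) →* MulAut ↥(Matrix.symplecticGroup (Fin m) F) where
  toFun g := conjSp g.1 g.2
  map_one' := by
    apply MulEquiv.ext
    intro s
    apply Subtype.ext
    rw [conjSp_val]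
    show ((1 : GL (Fin m ⊕ Fin m) F) : Matrix (Fin m ⊕ Fin m) (Fin m ⊕ Fin m) F) * s.1 *
      (((1 : GL (Fin m ⊕ Fin m) F)⁻¹ : GL (Fin m ⊕ Fin m) F) : Matrix (Fin m ⊕ Fin m) (Fin m ⊕ Fin m) F) = s.1
    rw [inv_one, Units.val_one, Matrix.one_mul, Matrix.mul_one]
  map_mul' g h := by
    apply MulEquiv.ext
    intro s
    apply Subtype.ext
    rw [MulAut.mul_apply, conjSp_val, conjSp_val, conjSp_val]
    show ((g.1 * h.1 : GL (Fin m ⊕ Fin m) F) : Matrix (Fin m ⊕ Fin m) (Fin m ⊕ Fin m) F) * s.1 *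
      (((g.1 * h.1)⁻¹ : GL (Fin m ⊕ Fin m) F) : Matrix (Fin m ⊕ Fin m) (Fin m ⊕ Fin m) F) = _
    rw [_root_.mul_inv_rev, Units.val_mul, Units.val_mul]
    simp only [Matrix.mul_assoc]

/-- the inner-diagonal automorphism attached to a similitude. -/
noncomputable def PhiS (m : ℕ) (F : Type u) [Field F] : ↥(Cfsg.GSp m F) →* MulAut (Cfsg.PSp m F) :=
  (liftPHom m F).comp (conjSpHom m F)

theorem PhiS_mk (g : ↥(Cfsg.GSp m F)) (s : ↥(Matrix.symplecticGroup (Fin m) F)) :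
    PhiS m F g (mkP m F s) = mkP m F (conjSp g.1 g.2 s) := liftP_mk _ s

/-- entrywise field automorphisms of `Sp` as a homomorphism. -/
noncomputable def fieldSpHom (m : ℕ) (F : Type u) [Field F] :
    RingAut F →* MulAut ↥(Matrix.symplecticGroup (Fin m) F) where
  toFun σ := fieldSp m σ
  map_one' := by
    apply MulEquiv.ext
    intro s
    apply Subtype.ext
    rw [fieldSp_val]
    ext i j
    rfl
  map_mul' σ τ := by
    apply MulEquiv.ext
    intro s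
    apply Subtype.ext
    rw [MulAut.mul_apply, fieldSp_val, fieldSp_val, fieldSp_val]
    ext i j
    rfl

/-- the standard field automorphisms of `PSp`. -/
noncomputable def fieldSHom (m : ℕ) (F : Type u) [Field F] : RingAut F →* MulAut (Cfsg.PSp m F) :=
  (liftPHom m F).comp (fieldSpHom m F)

theorem fieldSHom_mk (σ : RingAut F) (s : ↥(Matrix.symplecticGroup (Fin m) F)) :
    fieldSHom m F σ (mkP m F s) = mkP m F (fieldSp m σ s) := liftP_mk _ s

theorem liftP_iota_eq (g : GL (Fin m ⊕ Fin m) F) (hg : g ∈ Cfsg.GSp m F) (σ : F ≃+* F) :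
    liftP (iotaSp g hg σ) = PhiS m F ⟨g, hg⟩ * fieldSHom m F σ := by
  apply MulEquiv.ext
  intro y
  obtain ⟨s, rfl⟩ := mkP_surjective y
  rw [liftP_mk, MulAut.mul_apply, fieldSHom_mk, PhiS_mk]
  rfl

/-- entrywise field automorphism on `GL`. -/
noncomputable def mapG (m : ℕ) (σ : F ≃+* F) : GL (Fin m ⊕ Fin m) F →* GL (Fin m ⊕ Fin m) F :=
  Matrix.GeneralLinearGroup.map (σ : F →+* F)

theorem mapG_val (σ : F ≃+* F) (X : GL (Fin m ⊕ Fin m) F) :
    ((mapG m σ X : GL (Fin m ⊕ Fin m) F) : Matrix (Fin m ⊕ Fin m) (Fin m ⊕ Fin m) F) =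
      (X : Matrix (Fin m ⊕ Fin m) (Fin m ⊕ Fin m) F).map ⇑σ := rfl

theorem mapG_inv_val (σ : F ≃+* F) (X : GL (Fin m ⊕ Fin m) F) :
    (((mapG m σ X)⁻¹ : GL (Fin m ⊕ Fin m) F) : Matrix (Fin m ⊕ Fin m) (Fin m ⊕ Fin m) F) =
      ((X⁻¹ : GL (Fin m ⊕ Fin m) F) : Matrix (Fin m ⊕ Fin m) (Fin m ⊕ Fin m) F).map ⇑σ := by
  rw [← map_inv, mapG_val]

theorem map_mulVec_comp (σ : F ≃+* F) (A : Matrix (Fin m ⊕ Fin m) (Fin m ⊕ Fin m) F)
    (v : Fin m ⊕ Fin m → F) : A.map ⇑σ *ᵥ (⇑σ ∘ v) = ⇑σ ∘ (A *ᵥ v) := by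
  funext i
  exact ((σ : F →+* F).map_mulVec A v i).symm

theorem comp_symm_comp (σ : F ≃+* F) (v : Fin m ⊕ Fin m → F) : ⇑σ ∘ (⇑σ.symm ∘ v) = v := by
  funext i; simp

theorem mapG_mem (σ : F ≃+* F) (X : GL (Fin m ⊕ Fin m) F) (hX : X ∈ Cfsg.GSp m F) :
    mapG m σ X ∈ Cfsg.GSp m F := by
  obtain ⟨c, hc⟩ := hX
  refine ⟨Units.map (σ : F →* F) c, fun u v => ?_⟩
  rw [mapG_val, ← comp_symm_comp σ u, ← comp_symm_comp σ v, map_mulVec_comp, map_mulVec_comp,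
    sympForm_comp, sympForm_comp, hc, map_mul]
  rfl

/-- entrywise field automorphism on `GSp`. -/
noncomputable def mapGSp (m : ℕ) (σ : F ≃+* F) : ↥(Cfsg.GSp m F) →* ↥(Cfsg.GSp m F) where
  toFun g := ⟨mapG m σ g.1, mapG_mem σ g.1 g.2⟩
  map_one' := Subtype.ext (map_one (mapG m σ))
  map_mul' g h := Subtype.ext (map_mul (mapG m σ) g.1 h.1)

theorem mapGSp_val (σ : F ≃+* F) (g : ↥(Cfsg.GSp m F)) : (mapGSp m σ g).1 = mapG m σ g.1 := rfl

theorem fieldS_PhiS (σ : RingAut F) (g : ↥(Cfsg.GSp m F)) :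
    fieldSHom m F σ * PhiS m F g = PhiS m F (mapGSp m σ g) * fieldSHom m F σ := by
  apply MulEquiv.ext
  intro y
  obtain ⟨s, rfl⟩ := mkP_surjective y
  rw [MulAut.mul_apply, MulAut.mul_apply, PhiS_mk, fieldSHom_mk, fieldSHom_mk, PhiS_mk]
  congr 1
  apply Subtype.ext
  rw [fieldSp_val, conjSp_val, conjSp_val, fieldSp_val, Matrix.map_mul, Matrix.map_mul, mapGSp_val,
    mapG_inv_val, mapG_val]


theorem comp_bV (σ : F ≃+* F) (k : Fin m ⊕ Fin m) :
    ⇑σ ∘ (bV k : Fin m ⊕ Fin m → F) = bV k := by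
  funext a
  rw [Function.comp_apply, bV_apply]
  split_ifs <;> simp

/-- a semilinear map fixing all points is a scalar and the field automorphism is trivial. -/
theorem semi_fix_all (hm : 1 ≤ m) (g : GL (Fin m ⊕ Fin m) F) (σ : F ≃+* F)
    (h : ∀ p : Fin m ⊕ Fin m → F, p ≠ 0 →
      ∃ c : F, (g : Matrix (Fin m ⊕ Fin m) (Fin m ⊕ Fin m) F) *ᵥ (⇑σ ∘ p) = c • p) :
    σ = RingEquiv.refl F ∧ ∃ c : F, (g : Matrix (Fin m ⊕ Fin m) (Fin m ⊕ Fin m) F) = c • 1 := by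
  classical
  set M : Matrix (Fin m ⊕ Fin m) (Fin m ⊕ Fin m) F := (g : Matrix (Fin m ⊕ Fin m) (Fin m ⊕ Fin m) F) with hM
  have hdiag : ∀ a l, a ≠ l → M a l = 0 := by
    intro a l hal
    obtain ⟨c, hc⟩ := h (bV l) (bV_ne_zero l)
    rw [comp_bV] at hc
    have := congrFun hc a
    rw [mulVec_bV, Pi.smul_apply, bV_apply, if_neg hal, smul_zero] at this
    exact this
  have hmv : ∀ (v : Fin m ⊕ Fin m → F) (i : Fin m ⊕ Fin m), (M *ᵥ v) i = M i i * v i := by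
    intro v i
    rw [Matrix.mulVec, dotProduct]
    apply Finset.sum_eq_single i
    · intro j _ hji
      rw [hdiag i j (Ne.symm hji), zero_mul]
    · intro hi
      exact absurd (Finset.mem_univ i) hi
  have hne : ∀ k, M k k ≠ 0 := by
    intro k hk
    have h1 : M *ᵥ (bV k : Fin m ⊕ Fin m → F) = 0 := by
      funext i
      rw [hmv, Pi.zero_apply, bV_apply]
      by_cases hik : i = k
      · rw [hik, hk, zero_mul]
      · rw [if_neg hik, mul_zero]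
    have h2 : ((g⁻¹ : GL (Fin m ⊕ Fin m) F) : Matrix (Fin m ⊕ Fin m) (Fin m ⊕ Fin m) F) *ᵥ
        (M *ᵥ (bV k : Fin m ⊕ Fin m → F)) = bV k := by
      rw [Matrix.mulVec_mulVec, hM, gl_inv_mul_val, Matrix.one_mulVec]
    rw [h1, Matrix.mulVec_zero] at h2
    exact bV_ne_zero k h2.symm
  have hrel : ∀ k l, k ≠ l → ∀ a : F, M l l * σ a = M k k * a := by
    intro k l hkl a
    have hp : (bV k + a • bV l : Fin m ⊕ Fin m → F) ≠ 0 := by
      intro h0
      have := congrFun h0 k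
      rw [Pi.add_apply, Pi.smul_apply, bV_apply, bV_apply, if_pos rfl, if_neg hkl, smul_zero, add_zero,
        Pi.zero_apply] at this
      exact one_ne_zero this
    obtain ⟨c, hc⟩ := h _ hp
    have h1 := congrFun hc k
    have h2 := congrFun hc l
    rw [hmv, Function.comp_apply, Pi.smul_apply, Pi.add_apply, Pi.smul_apply, bV_apply, bV_apply,
      if_pos rfl, if_neg hkl, smul_zero, add_zero, map_one, mul_one, smul_eq_mul, mul_one] at h1
    rw [hmv, Function.comp_apply, Pi.smul_apply, Pi.add_apply, Pi.smul_apply, bV_apply, bV_apply,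
      if_pos rfl, if_neg (Ne.symm hkl), zero_add, smul_eq_mul, mul_one, smul_eq_mul] at h2
    rw [h2, h1]
  have heq : ∀ k l, M k k = M l l := by
    intro k l
    by_cases hkl : k = l
    · rw [hkl]
    · have := hrel k l hkl 1
      rw [map_one, mul_one, mul_one] at this
      exact this.symm
  let k₀ : Fin m ⊕ Fin m := Sum.inl ⟨0, hm⟩
  let l₀ : Fin m ⊕ Fin m := Sum.inr ⟨0, hm⟩
  refine ⟨?_, M k₀ k₀, ?_⟩
  · apply RingEquiv.ext
    intro a
    have := hrel k₀ l₀ (by simp [k₀, l₀]) a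
    rw [heq l₀ k₀] at this
    exact mul_left_cancel₀ (hne k₀) this
  · ext a l
    rw [Matrix.smul_apply, Matrix.one_apply, smul_eq_mul]
    by_cases hal : a = l
    · rw [if_pos hal, mul_one, hal]
      exact heq l k₀
    · rw [if_neg hal, mul_zero]
      exact hdiag a l hal

variable [Fintype F]

theorem comp_ne_zero (σ : F ≃+* F) {p : Fin m ⊕ Fin m → F} (hp : p ≠ 0) : ⇑σ ∘ p ≠ 0 := by
  intro h
  apply hp
  funext i
  have := congrFun h i
  rw [Function.comp_apply, Pi.zero_apply, map_eq_zero_iff σ σ.injective] at this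
  exact this

theorem gl_mulVec_ne_zero (g : GL (Fin m ⊕ Fin m) F) {p : Fin m ⊕ Fin m → F} (hp : p ≠ 0) :
    (g : Matrix (Fin m ⊕ Fin m) (Fin m ⊕ Fin m) F) *ᵥ p ≠ 0 := by
  intro h
  apply hp
  have h2 : ((g⁻¹ : GL (Fin m ⊕ Fin m) F) : Matrix (Fin m ⊕ Fin m) (Fin m ⊕ Fin m) F) *ᵥ
      ((g : Matrix (Fin m ⊕ Fin m) (Fin m ⊕ Fin m) F) *ᵥ p) = p := by
    rw [Matrix.mulVec_mulVec, gl_inv_mul_val, Matrix.one_mulVec]
  rw [h, Matrix.mulVec_zero] at h2
  exact h2.symm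

/-- the pairs `(g, σ)` inducing the trivial automorphism. -/
theorem PhiS_fieldS_eq_one (hm : 2 ≤ m) (g : ↥(Cfsg.GSp m F)) (σ : RingAut F)
    (h : PhiS m F g * fieldSHom m F σ = 1) :
    σ = 1 ∧ ∃ c : F, (g.1 : Matrix (Fin m ⊕ Fin m) (Fin m ⊕ Fin m) F) = c • 1 := by
  have h1 : liftP (iotaSp g.1 g.2 σ) = 1 := by rw [liftP_iota_eq]; exact h
  apply semi_fix_all (by omega) g.1 σ
  intro p hp
  have h2 := Xb_map_liftP g.1 g.2 σ p
  rw [h1] at h2
  have h3 : (Xb p).map (1 : MulAut (Cfsg.PSp m F)).toMonoidHom = Xb p := by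
    ext y
    rw [Subgroup.mem_map]
    constructor
    · rintro ⟨z, hz, rfl⟩; exact hz
    · intro hy; exact ⟨y, hy, rfl⟩
  rw [h3] at h2
  obtain ⟨c, hc0, hc⟩ := par_of_Xb_eq hm hp (gl_mulVec_ne_zero g.1 (comp_ne_zero σ hp)) h2
  exact ⟨c, hc⟩

/-- scalar similitudes. -/
noncomputable def scalGSp (m : ℕ) (c : Fˣ) : ↥(Cfsg.GSp m F) :=
  ⟨Units.map (Matrix.scalar (Fin m ⊕ Fin m) : F →+* Matrix (Fin m ⊕ Fin m) (Fin m ⊕ Fin m) F).toMonoidHom c, by
    refine ⟨c * c, fun u v => ?_⟩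
    show Cfsg.sympForm m F (Matrix.scalar (Fin m ⊕ Fin m) (c : F) *ᵥ u)
      (Matrix.scalar (Fin m ⊕ Fin m) (c : F) *ᵥ v) = _
    have hs : ∀ w : Fin m ⊕ Fin m → F, Matrix.scalar (Fin m ⊕ Fin m) (c : F) *ᵥ w = (c : F) • w := by
      intro w
      rw [Matrix.scalar_apply, ← Matrix.smul_one_eq_diagonal, Matrix.smul_mulVec, Matrix.one_mulVec]
    rw [hs, hs, sympForm_smul_left, sympForm_smul_right, Units.val_mul, mul_assoc]⟩

theorem scalGSp_val (c : Fˣ) :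
    ((scalGSp m c : ↥(Cfsg.GSp m F)).1 : Matrix (Fin m ⊕ Fin m) (Fin m ⊕ Fin m) F) = (c : F) • 1 := by
  show Matrix.scalar (Fin m ⊕ Fin m) (c : F) = _
  rw [Matrix.smul_one_eq_diagonal]
  rfl

end Cfsg.Agent.Lib.Helper16.SPF
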