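import Cfsg.Agent.Lib.Helper16.SPF9

set_option autoImplicit false
set_option linter.unusedSectionVars false
set_option linter.unusedVariables false

namespace Cfsg.Agent.Lib.Helper16.SPF

open Matrix Cfsg.Agent.Lib.helper6 Cfsg.Agent.Lib.helper6.SB Cfsg.Agent.Lib.Helper26
  Cfsg.Agent.Lib.Helper16.SPA Cfsg.Agent.Lib.Helper16.H9

universe u v
variable {F : Type u} [Field F] {m : ℕ} {F₀ : Type v} [Field F₀]

theorem muS_inclGSp (hm : 1 ≤ m) (j : F₀ →+* F) (H : ↥(Cfsg.GSp m F₀)) :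
    muS hm (inclGSp m j H) = Units.map j.toMonoidHom (muS hm H) := by
  apply muS_eq_of_matrix
  have := congrArg (fun M : Matrix (Fin m ⊕ Fin m) (Fin m ⊕ Fin m) F₀ => M.map ⇑j) (muS_matrix hm H)
  simp only [Matrix.map_mul, Matrix.transpose_map, map_smul_mat, J_map' j] at this
  rw [inclGSp_val, inclG_val]
  exact this

variable [Fintype F]

theorem comap_Inn_eqS (hm : 2 ≤ m) :
    (Cfsg.Inn (Cfsg.PSp m F)).comap (PhiS m F) =
      ((powMonoidHom 2 : Fˣ →* Fˣ).range).comap (muS (by omega : 1 ≤ m)) := by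
  have hm1 : 1 ≤ m := by omega
  ext g
  rw [Subgroup.mem_comap, Subgroup.mem_comap]
  constructor
  · rintro ⟨k, hk⟩
    obtain ⟨s, rfl⟩ := mkP_surjective k
    have h1 : PhiS m F g = PhiS m F ⟨spGL' s, spGL'_mem s⟩ := by
      rw [← conj_mk_eq_PhiS]; exact hk.symm
    obtain ⟨c, hc⟩ := (PhiS_eq_iff hm _ _).mp h1
    have hg : g = ⟨spGL' s, spGL'_mem s⟩ * ⟨scalG m c, scalG_mem c⟩ := Subtype.ext hc
    refine ⟨c, ?_⟩
    rw [hg, map_mul, muS_sp, muS_scal, one_mul]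
    show c ^ 2 = c * c
    rw [pow_two]
  · rintro ⟨c, hc⟩
    have hc' : c ^ 2 = muS hm1 g := hc
    set g' : ↥(Cfsg.GSp m F) := ⟨scalG m c⁻¹, scalG_mem _⟩ * g with hg'
    have hmu' : muS hm1 g' = 1 := by
      rw [hg', map_mul, muS_scal, ← hc', pow_two]
      group
    have hg'sp : (g'.1 : Matrix (Fin m ⊕ Fin m) (Fin m ⊕ Fin m) F) ∈ Matrix.symplecticGroup (Fin m) F := by
      rw [mem_symplecticGroup_iff_sympForm]
      intro u v
      rw [muS_spec hm1, hmu', Units.val_one, one_mul]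
    set s : ↥(Matrix.symplecticGroup (Fin m) F) := ⟨_, hg'sp⟩ with hs
    have hsg : (⟨spGL' s, spGL'_mem s⟩ : ↥(Cfsg.GSp m F)) = g' := Subtype.ext (Units.ext rfl)
    refine ⟨mkP m F s, ?_⟩
    show MulAut.conj (mkP m F s) = PhiS m F g
    rw [conj_mk_eq_PhiS, hsg, hg', map_mul, PhiS_scal, one_mul]

theorem sup_map_mu_comap (hm : 2 ≤ m) (σ : RingAut F) (j : F₀ →+* F)
    (hj : ∀ x, (∃ y, j y = x) ↔ σ x = x) :
    (powMonoidHom 2 : Fˣ →* Fˣ).range ⊔
      ((Subgroup.centralizer {fieldSHom m F σ}).comap (PhiS m F)).map (muS (by omega : 1 ≤ m)) =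
    (powMonoidHom 2 : Fˣ →* Fˣ).range ⊔ (Units.map j.toMonoidHom).range := by
  have hm1 : 1 ≤ m := by omega
  apply le_antisymm
  · apply sup_le le_sup_left
    rintro _ ⟨g, hg, rfl⟩
    have hg' : g ∈ (Subgroup.centralizer {fieldSHom m F σ}).comap (PhiS m F) := hg
    rw [comap_centralizer_fieldS hm σ j hj] at hg'
    obtain ⟨e, H, rfl⟩ := hg'
    rw [map_mul, muS_scal, muS_inclGSp]
    apply Subgroup.mul_mem_sup
    · exact ⟨e, by show e ^ 2 = e * e; rw [pow_two]⟩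
    · exact ⟨_, rfl⟩
  · apply sup_le le_sup_left
    refine le_trans ?_ le_sup_right
    rintro _ ⟨t, rfl⟩
    refine ⟨inclGSp m j (diagMu t), ?_, ?_⟩
    · show inclGSp m j (diagMu t) ∈ (Subgroup.centralizer {fieldSHom m F σ}).comap (PhiS m F)
      rw [comap_centralizer_fieldS hm σ j hj]
      refine ⟨1, diagMu t, ?_⟩
      have : (⟨scalG m (1 : Fˣ), scalG_mem 1⟩ : ↥(Cfsg.GSp m F)) = 1 := Subtype.ext (map_one (scalG m))
      rw [this, one_mul]
    · rw [muS_inclGSp, muS_diagMu]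

theorem splitClassCount_fieldS (hm : 2 ≤ m) (σ : RingAut F) (j : F₀ →+* F)
    (hj : ∀ x, (∃ y, j y = x) ↔ σ x = x) :
    Cfsg.splitClassCount (PhiS m F).range (Cfsg.Inn (Cfsg.PSp m F)) (fieldSHom m F σ) =
      Nat.gcd 2 (Units.map j.toMonoidHom).range.index := by
  rw [SC.splitClassCount_via_hom (PhiS m F) (muS (by omega : 1 ≤ m)) (muS_surjective _)
    ((powMonoidHom 2 : Fˣ →* Fˣ).range) _ Inn_le_range_PhiS (comap_Inn_eqS hm),
    sup_map_mu_comap hm σ j hj, SC.index_pow_sup]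

theorem index_units_embed [Fintype F₀] (j : F₀ →+* F) :
    (Units.map j.toMonoidHom).range.index = (Fintype.card F - 1) / (Fintype.card F₀ - 1) := by
  have hinj : Function.Injective (Units.map j.toMonoidHom) := by
    apply Units.map_injective
    exact j.injective
  have h1 : Nat.card (Units.map j.toMonoidHom).range = Nat.card F₀ˣ :=
    (Nat.card_congr (MonoidHom.ofInjective hinj).toEquiv).symm
  have h2 := Subgroup.card_mul_index (Units.map j.toMonoidHom).range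
  rw [h1, Nat.card_units, Nat.card_units, Nat.card_eq_fintype_card (α := F),
    Nat.card_eq_fintype_card (α := F₀)] at h2
  have hpos : 0 < Fintype.card F₀ - 1 := by
    have : 1 < Fintype.card F₀ := Fintype.one_lt_card
    omega
  rw [← h2, Nat.mul_div_cancel_left _ hpos]

theorem gcd_two_congr (a b : ℕ) (h : a % 2 = b % 2) : Nat.gcd 2 a = Nat.gcd 2 b := by
  rw [Nat.gcd_rec 2 a, Nat.gcd_rec 2 b, h]

theorem geom_parity_odd (q : ℕ) (hq : q % 2 = 1) (r : ℕ) :
    (∑ i ∈ Finset.range r, q ^ i) % 2 = r % 2 := by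
  induction r with
  | zero => simp
  | succ r ih =>
    rw [Finset.sum_range_succ]
    have h1 : q ^ r % 2 = 1 := by
      rw [Nat.pow_mod, hq, one_pow]; rfl
    omega

theorem geom_parity_even (q : ℕ) (hq : q % 2 = 0) (r : ℕ) :
    (∑ i ∈ Finset.range (r + 1), q ^ i) % 2 = 1 := by
  induction r with
  | zero => simp
  | succ r ih =>
    rw [Finset.sum_range_succ]
    have h1 : q ^ (r + 1) % 2 = 0 := by
      rw [Nat.pow_mod, hq, zero_pow (by omega)]; rfl
    omega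

theorem gcd_arith {p f r : ℕ} (hp : p.Prime) (hf : 1 ≤ f) (hr : r.Prime) (hrf : r ∣ f) :
    Nat.gcd 2 ((p ^ f - 1) / (p ^ (f / r) - 1)) = Nat.gcd (Nat.gcd 2 (p ^ f - 1)) r := by
  obtain ⟨k, rfl⟩ := hrf
  have hk : 1 ≤ k := by
    rcases Nat.eq_zero_or_pos k with h | h
    · rw [h, mul_zero] at hf; omega
    · exact h
  rw [Nat.mul_div_cancel_left k hr.pos]
  set q := p ^ k with hq
  have hq2 : 2 ≤ q := by
    calc 2 ≤ p := hp.two_le
      _ = p ^ 1 := (pow_one p).symm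
      _ ≤ p ^ k := Nat.pow_le_pow_right hp.pos hk
  have hpf : p ^ (r * k) = q ^ r := by rw [hq, ← pow_mul, mul_comm]
  rw [hpf, ← Nat.geomSum_eq hq2 r]
  rcases Nat.mod_two_eq_zero_or_one p with hp2 | hp2
  · -- p even
    have hqe : q % 2 = 0 := by rw [hq, Nat.pow_mod, hp2, zero_pow (by omega)]; rfl
    obtain ⟨r', rfl⟩ : ∃ r', r = r' + 1 := ⟨r - 1, by have := hr.pos; omega⟩
    have h1 := geom_parity_even q hqe r'
    have h2 : (q ^ (r' + 1) - 1) % 2 = 1 := by
      have h3 : q ^ (r' + 1) % 2 = 0 := by rw [Nat.pow_mod, hqe, zero_pow (by omega)]; rfl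
      have h4 : 1 ≤ q ^ (r' + 1) := Nat.one_le_pow _ _ (by omega)
      omega
    rw [gcd_two_congr _ 1 (by rw [h1]), gcd_two_congr (q ^ (r' + 1) - 1) 1 (by rw [h2])]
    simp
  · have hqo : q % 2 = 1 := by rw [hq, Nat.pow_mod, hp2, one_pow]; rfl
    have h1 := geom_parity_odd q hqo r
    have h2 : (q ^ r - 1) % 2 = 0 := by
      have h3 : q ^ r % 2 = 1 := by rw [Nat.pow_mod, hqo, one_pow]; rfl
      omega
    rw [gcd_two_congr _ r h1, gcd_two_congr (q ^ r - 1) 0 (by rw [h2])]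
    simp

end Cfsg.Agent.Lib.Helper16.SPF
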