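import Cfsg.Agent.Lib.Helper16.SPF10

set_option autoImplicit false
set_option linter.unusedSectionVars false
set_option linter.unusedVariables false

namespace Cfsg.Agent.Lib.Helper16.SPF

open Matrix Cfsg.Agent.Lib.helper6 Cfsg.Agent.Lib.helper6.SB Cfsg.Agent.Lib.Helper26
  Cfsg.Agent.Lib.Helper16.SPA Cfsg.Agent.Lib.Helper16.H9 Cfsg.Agent.Lib.Helper16.AP

universe u v
variable {F : Type u} [Field F] {m : ℕ} [Fintype F]

theorem S2712_aux {p f : ℕ} [Fact p.Prime] (hF : Fintype.card F = p ^ f) (hf : 1 ≤ f) (hm : 2 ≤ m)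
    (x : MulAut (Cfsg.PSp m F)) (hx : Cfsg.IsFieldAutClassPSp x) {r : ℕ} (hr : r.Prime)
    (hxr : orderOf x = r) (F₀ : Type v) [Field F₀] [Fintype F₀] (hF₀ : Fintype.card F₀ = p ^ (f / r)) :
    r ∣ f ∧ Nonempty (↥(Cfsg.inndiagPSp m F ⊓ Subgroup.centralizer {x}) ≃* Cfsg.PGSp m F₀) ∧
      Cfsg.splitClassCount (Cfsg.inndiagPSp m F) (Cfsg.Inn (Cfsg.PSp m F)) x =
        Nat.gcd (Nat.gcd 2 (p ^ f - 1)) r := by
  obtain ⟨α, σ, hσ, hstd⟩ := hx
  have hx₀ : α * x * α⁻¹ = fieldSHom m F σ := (isStdField_iffS σ _).mp hstd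
  have hN : ((PhiS m F).range).Normal := PhiS_range_normal hm
  have hord : orderOf (σ : RingAut F) = r := by
    rw [← orderOf_fieldS hm, ← hx₀, AF.orderOf_conj_eq, hxr]
  obtain ⟨-, hcard⟩ := galF_cyclic_card hF
  have hrf : r ∣ f := by
    have := orderOf_dvd_natCard (σ : RingAut F)
    rwa [hord, hcard] at this
  set F₀' : Subfield F := FixedPoints.subfield (Subgroup.zpowers σ) F with hF₀'def
  have hmem : ∀ y, y ∈ F₀' ↔ σ y = y := fun y => Cfsg.Agent.Lib.Helper16.mem_fixed_iff σ y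
  have hF' : Fintype.card F = (p ^ (f / r)) ^ r := by
    rw [hF, ← pow_mul, Nat.div_mul_cancel hrf]
  have hcard' : Nat.card F₀' = p ^ (f / r) := Cfsg.Agent.Lib.Helper16.fixed_card hr hF' σ hord
  have : Fintype F₀' := Fintype.ofFinite _
  have hcc : Fintype.card F₀ = Fintype.card F₀' := by
    rw [← Nat.card_eq_fintype_card (α := F₀'), hcard', hF₀]
  have e₀ : F₀ ≃+* F₀' := FiniteField.ringEquivOfCardEq hcc
  set j : F₀ →+* F := F₀'.subtype.comp e₀.toRingHom with hjdef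
  have hj : ∀ y, (∃ z, j z = y) ↔ (σ : RingAut F) y = y := by
    intro y
    constructor
    · rintro ⟨z, rfl⟩
      exact (hmem _).mp (e₀ z).2
    · intro hy
      refine ⟨e₀.symm ⟨y, (hmem y).mpr hy⟩, ?_⟩
      show ((e₀ (e₀.symm ⟨y, (hmem y).mpr hy⟩) : F₀') : F) = y
      rw [RingEquiv.apply_symm_apply]
  refine ⟨hrf, ?_, ?_⟩
  · rw [inndiag_eq_rangeS]
    have e₁ := SC.centralizerConjEquiv (PhiS m F).range α x
    rw [hx₀] at e₁
    exact ⟨e₁.trans (centFieldEquivS hm σ j hj)⟩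
  · rw [inndiag_eq_rangeS, ← SC.splitClassCount_conj _ _ Inn_le_range_PhiS α x, hx₀,
      splitClassCount_fieldS hm σ j hj, index_units_embed, hF₀, hF]
    exact gcd_arith (Fact.out) hf hr hrf

end Cfsg.Agent.Lib.Helper16.SPF
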