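import Cfsg.Agent.Lib.Helper16.SPF1
import Cfsg.Agent.Lib.Helper16.H9b

set_option autoImplicit false
set_option linter.unusedSectionVars false
set_option linter.unusedVariables false

namespace Cfsg.Agent.Lib.Helper16.SPF

open Matrix Cfsg.Agent.Lib.helper6 Cfsg.Agent.Lib.helper6.SB Cfsg.Agent.Lib.Helper26
  Cfsg.Agent.Lib.Helper16.SPA

universe u
variable {F : Type u} [Field F] {m : ℕ}

/-- the twisted partial norms of a matrix. -/
noncomputable def twG (σ : RingAut F) (g : GL (Fin m ⊕ Fin m) F) : ℕ → GL (Fin m ⊕ Fin m) F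
  | 0 => 1
  | k + 1 => g * mapG m σ (twG σ g k)

theorem twG_zero (σ : RingAut F) (g : GL (Fin m ⊕ Fin m) F) : twG σ g 0 = 1 := rfl

theorem twG_succ (σ : RingAut F) (g : GL (Fin m ⊕ Fin m) F) (k : ℕ) : twG σ g (k + 1) = g * mapG m σ (twG σ g k) := rfl


/-- the semilinear operator `v ↦ A σ(v)`. -/
def semiG (σ : RingAut F) (A : GL (Fin m ⊕ Fin m) F) (w : Fin m ⊕ Fin m → F) : Fin m ⊕ Fin m → F :=
  (A : Matrix (Fin m ⊕ Fin m) (Fin m ⊕ Fin m) F) *ᵥ (⇑σ ∘ w)

theorem semiG_add (σ : RingAut F) (A : GL (Fin m ⊕ Fin m) F) (u w : Fin m ⊕ Fin m → F) :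
    semiG σ A (u + w) = semiG σ A u + semiG σ A w := by
  unfold semiG
  rw [← Matrix.mulVec_add]
  congr 1
  funext i
  simp

theorem semiG_zero (σ : RingAut F) (A : GL (Fin m ⊕ Fin m) F) : semiG σ A 0 = 0 := by
  unfold semiG
  have : (⇑σ ∘ (0 : Fin m ⊕ Fin m → F)) = 0 := by
    funext i
    simp
  rw [this, Matrix.mulVec_zero]

theorem semiG_sum {ι : Type*} (σ : RingAut F) (A : GL (Fin m ⊕ Fin m) F) (s : Finset ι) (w : ι → Fin m ⊕ Fin m → F) :
    semiG σ A (∑ i ∈ s, w i) = ∑ i ∈ s, semiG σ A (w i) := by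
  classical
  induction s using Finset.induction_on with
  | empty => simp [semiG_zero]
  | insert a s ha ih => rw [Finset.sum_insert ha, Finset.sum_insert ha, semiG_add, ih]

/-- the iterates of the semilinear operator. -/
noncomputable def semiGK (σ : RingAut F) (A : GL (Fin m ⊕ Fin m) F) (k : ℕ) (w : Fin m ⊕ Fin m → F) : Fin m ⊕ Fin m → F :=
  (twG σ A k : Matrix (Fin m ⊕ Fin m) (Fin m ⊕ Fin m) F) *ᵥ (⇑(σ ^ k) ∘ w)

theorem semiK_zero (σ : RingAut F) (A : GL (Fin m ⊕ Fin m) F) (w : Fin m ⊕ Fin m → F) : semiGK σ A 0 w = w := by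
  unfold semiGK
  rw [twG_zero, pow_zero]
  have : (⇑(1 : RingAut F) ∘ w) = w := by
    funext i
    rfl
  rw [this, Units.val_one, Matrix.one_mulVec]

theorem semiG_semiK (σ : RingAut F) (A : GL (Fin m ⊕ Fin m) F) (k : ℕ) (w : Fin m ⊕ Fin m → F) :
    semiG σ A (semiGK σ A k w) = semiGK σ A (k + 1) w := by
  unfold semiG semiGK
  rw [twG_succ, Units.val_mul, mapG_val, ← Matrix.mulVec_mulVec]
  congr 1
  funext i
  rw [Function.comp_apply]
  have := RingHom.map_mulVec (σ : F ≃+* F).toRingHom (twG σ A k : Matrix (Fin m ⊕ Fin m) (Fin m ⊕ Fin m) F) (⇑(σ ^ k) ∘ w) i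
  rw [RingEquiv.toRingHom_eq_coe, RingHom.coe_coe] at this
  have hc : ⇑σ ∘ ⇑(σ ^ k) ∘ w = ⇑(σ ^ (k + 1)) ∘ w := by
    funext j
    rw [pow_succ']
    rfl
  rw [this, hc]

theorem semiGK_smul (σ : RingAut F) (A : GL (Fin m ⊕ Fin m) F) (k : ℕ) (c : F) (w : Fin m ⊕ Fin m → F) :
    semiGK σ A k (c • w) = (σ ^ k) c • semiGK σ A k w := by
  unfold semiGK
  rw [← Matrix.mulVec_smul]
  congr 1
  funext i
  simp

theorem semiK_of_one (σ : RingAut F) (A : GL (Fin m ⊕ Fin m) F) (r : ℕ) (hσr : σ ^ r = 1) (hA : twG σ A r = 1)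
    (w : Fin m ⊕ Fin m → F) : semiGK σ A r w = w := by
  unfold semiGK
  rw [hA, hσr, Units.val_one, Matrix.one_mulVec]
  rfl

/-- Hilbert 90 for `GL_n` and a cyclic group of field automorphisms. -/
theorem h90_G (σ : RingAut F) (r : ℕ) (hinj : ∀ i j, i < r → j < r → σ ^ i = σ ^ j → i = j) (hr0 : 0 < r)
    (hσr : σ ^ r = 1) (A : GL (Fin m ⊕ Fin m) F) (hA : twG σ A r = 1) :
    ∃ B : GL (Fin m ⊕ Fin m) F, A * mapG m σ B = B := by
  classical
  set P : (Fin m ⊕ Fin m → F) → (Fin m ⊕ Fin m → F) := fun v => ∑ i ∈ Finset.range r, semiGK σ A i v with hP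
  have hfix : ∀ v, semiG σ A (P v) = P v := by
    intro v
    rw [hP]
    simp only
    rw [semiG_sum]
    have h1 : ∀ i ∈ Finset.range r, semiG σ A (semiGK σ A i v) = semiGK σ A (i + 1) v :=
      fun i _ => semiG_semiK σ A i v
    rw [Finset.sum_congr rfl h1]
    have h2 := Finset.sum_range_succ' (fun i => semiGK σ A i v) r
    have h3 := Finset.sum_range_succ (fun i => semiGK σ A i v) r
    rw [h3, semiK_zero, semiK_of_one σ A r hσr hA] at h2
    exact (add_right_cancel h2).symm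
  have hspan : Submodule.span F (Set.range P) = ⊤ := by
    by_contra hne
    obtain ⟨u, hu0, hle⟩ := Submodule.exists_le_ker_of_lt_top _ (lt_top_iff_ne_top.mpr hne)
    apply hu0
    apply LinearMap.ext
    intro v
    have hd := Cfsg.Agent.Lib.Helper16.H9.dedekind_pow σ r hinj (fun i => u (semiGK σ A i v)) ?_ 0 hr0
    · have hd' : u (semiGK σ A 0 v) = 0 := hd
      rw [semiK_zero] at hd'
      rw [hd', LinearMap.zero_apply]
    · intro c
      have h1 : u (P (c • v)) = 0 := by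
        have : P (c • v) ∈ LinearMap.ker u := hle (Submodule.subset_span ⟨_, rfl⟩)
        exact this
      rw [hP] at h1
      simp only at h1
      rw [map_sum] at h1
      rw [← h1]
      apply Finset.sum_congr rfl
      intro i _
      rw [semiGK_smul, map_smul, smul_eq_mul, mul_comm]
  obtain ⟨b, hbsub, hbspan, hbli⟩ := exists_linearIndependent F (Set.range P)
  let bs : Module.Basis b F (Fin m ⊕ Fin m → F) := Module.Basis.mk hbli (by rw [Subtype.range_coe, hbspan, hspan])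
  have hfin : Finite b := Module.Finite.finite_basis bs
  have hft : Fintype b := Fintype.ofFinite b
  have hcard : Fintype.card b = Fintype.card (Fin m ⊕ Fin m) := by
    rw [← Module.finrank_eq_card_basis bs, Module.finrank_fintype_fun_eq_card]
  let e : (Fin m ⊕ Fin m) ≃ b := (Fintype.equivOfCardEq hcard).symm
  set M : Matrix (Fin m ⊕ Fin m) (Fin m ⊕ Fin m) F := Matrix.of fun i j => ((e j : b) : Fin m ⊕ Fin m → F) i with hM
  have hMunit : IsUnit M := by
    apply Matrix.linearIndependent_cols_iff_isUnit.mp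
    show LinearIndependent F (fun j => ((e j : b) : Fin m ⊕ Fin m → F))
    exact hbli.comp e e.injective
  have hefix : ∀ j, semiG σ A ((e j : b) : Fin m ⊕ Fin m → F) = ((e j : b) : Fin m ⊕ Fin m → F) := by
    intro j
    obtain ⟨v, hv⟩ := hbsub (e j).2
    rw [← hv]
    exact hfix v
  have hAM : (A : Matrix (Fin m ⊕ Fin m) (Fin m ⊕ Fin m) F) * M.map ⇑σ = M := by
    ext i j
    have := congrFun (hefix j) i
    unfold semiG at this
    rw [Matrix.mul_apply]
    rw [Matrix.mulVec, dotProduct] at this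
    exact this
  refine ⟨hMunit.unit, ?_⟩
  apply Units.ext
  rw [Units.val_mul, mapG_val, IsUnit.unit_spec]
  exact hAM




end Cfsg.Agent.Lib.Helper16.SPF
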