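import Cfsg.Agent.Lib.Helper16.SPF2
import Cfsg.Agent.Lib.Helper16.Symplectic

set_option autoImplicit false
set_option linter.unusedSectionVars false
set_option linter.unusedVariables false

namespace Cfsg.Agent.Lib.Helper16.SPF

open Matrix Cfsg.Agent.Lib.helper6 Cfsg.Agent.Lib.helper6.SB Cfsg.Agent.Lib.Helper26
  Cfsg.Agent.Lib.Helper16.SPA Cfsg.Agent.Lib.Helper16.H9

universe u
variable {F : Type u} [Field F] {m : ℕ}

/-- scalar matrices in `GL`. -/
noncomputable def scalG (m : ℕ) : Fˣ →* GL (Fin m ⊕ Fin m) F :=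
  Units.map (Matrix.scalar (Fin m ⊕ Fin m) : F →+* Matrix (Fin m ⊕ Fin m) (Fin m ⊕ Fin m) F).toMonoidHom

theorem scalG_val (c : Fˣ) :
    ((scalG m c : GL (Fin m ⊕ Fin m) F) : Matrix (Fin m ⊕ Fin m) (Fin m ⊕ Fin m) F) = (c : F) • 1 := by
  show Matrix.scalar (Fin m ⊕ Fin m) (c : F) = _
  rw [Matrix.smul_one_eq_diagonal]
  rfl

theorem scalG_comm (c : Fˣ) (g : GL (Fin m ⊕ Fin m) F) : scalG m c * g = g * scalG m c := by
  apply Units.ext
  rw [Units.val_mul, Units.val_mul, scalG_val, Matrix.smul_mul, Matrix.mul_smul, Matrix.one_mul, Matrix.mul_one]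

theorem scalG_injective (hm : 1 ≤ m) : Function.Injective (scalG m : Fˣ → GL (Fin m ⊕ Fin m) F) := by
  intro c d h
  apply Units.ext
  have h1 := congrArg (fun g : GL (Fin m ⊕ Fin m) F =>
    (g : Matrix (Fin m ⊕ Fin m) (Fin m ⊕ Fin m) F) (Sum.inl ⟨0, hm⟩) (Sum.inl ⟨0, hm⟩)) h
  simp only [scalG_val, Matrix.smul_apply, Matrix.one_apply_eq, smul_eq_mul, mul_one] at h1
  exact h1

theorem mapG_scalG (σ : RingAut F) (c : Fˣ) : mapG m σ (scalG m c) = scalG m (uσ σ c) := by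
  apply Units.ext
  rw [mapG_val, scalG_val, scalG_val, uσ_val]
  ext i j
  rw [Matrix.map_apply, Matrix.smul_apply, Matrix.smul_apply, smul_eq_mul, smul_eq_mul, map_mul]
  by_cases hij : i = j
  · subst hij
    rw [Matrix.one_apply_eq, map_one]
  · rw [Matrix.one_apply_ne hij, map_zero]

theorem mapG_one_aut (g : GL (Fin m ⊕ Fin m) F) : mapG m (1 : RingAut F) g = g := by
  apply Units.ext
  rw [mapG_val]
  ext i j
  rfl

theorem mapG_mul_aut (σ τ : RingAut F) (g : GL (Fin m ⊕ Fin m) F) :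
    mapG m (σ * τ) g = mapG m σ (mapG m τ g) := by
  apply Units.ext
  rw [mapG_val, mapG_val, mapG_val]
  ext i j
  rfl

theorem twG_add (σ : RingAut F) (g : GL (Fin m ⊕ Fin m) F) (j k : ℕ) :
    twG σ g (j + k) = twG σ g j * mapG m (σ ^ j) (twG σ g k) := by
  induction j with
  | zero => rw [Nat.zero_add, twG_zero, one_mul, pow_zero, mapG_one_aut]
  | succ j ih =>
    rw [Nat.add_right_comm, twG_succ, ih, map_mul, twG_succ, pow_succ', mapG_mul_aut, mul_assoc]

theorem twG_one (σ : RingAut F) (g : GL (Fin m ⊕ Fin m) F) : twG σ g 1 = g := by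
  rw [twG_succ, twG_zero, map_one, mul_one]

theorem twG_scalG (σ : RingAut F) (d : Fˣ) (k : ℕ) : twG σ (scalG m d) k = scalG m (nu σ d k) := by
  induction k with
  | zero => rw [twG_zero, nu_zero, map_one]
  | succ k ih => rw [twG_succ, ih, mapG_scalG, ← map_mul, nu_succ]

theorem twG_mul_scalG (σ : RingAut F) (g : GL (Fin m ⊕ Fin m) F) (e : Fˣ) (k : ℕ) :
    twG σ (g * scalG m e) k = twG σ g k * scalG m (nu σ e k) := by
  induction k with
  | zero => rw [twG_zero, twG_zero, nu_zero, map_one, mul_one]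
  | succ k ih =>
    rw [twG_succ, ih, map_mul, mapG_scalG, twG_succ, nu_succ, map_mul]
    calc g * scalG m e * (mapG m σ (twG σ g k) * scalG m (uσ σ (nu σ e k)))
        = g * (scalG m e * mapG m σ (twG σ g k)) * scalG m (uσ σ (nu σ e k)) := by simp only [mul_assoc]
      _ = _ := by rw [scalG_comm]; simp only [mul_assoc]

theorem scalG_mem (c : Fˣ) : scalG m c ∈ Cfsg.GSp m F := (scalGSp m c).2

theorem twG_mem (σ : RingAut F) (g : GL (Fin m ⊕ Fin m) F) (hg : g ∈ Cfsg.GSp m F) (k : ℕ) :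
    twG σ g k ∈ Cfsg.GSp m F := by
  induction k with
  | zero => rw [twG_zero]; exact one_mem _
  | succ k ih => rw [twG_succ]; exact mul_mem hg (mapG_mem σ _ ih)

theorem pow_PhiS_fieldS (σ : RingAut F) (g : GL (Fin m ⊕ Fin m) F) (hg : g ∈ Cfsg.GSp m F) (k : ℕ) :
    (PhiS m F ⟨g, hg⟩ * fieldSHom m F σ) ^ k =
      PhiS m F ⟨twG σ g k, twG_mem σ g hg k⟩ * fieldSHom m F (σ ^ k) := by
  induction k with
  | zero =>
    rw [pow_zero, pow_zero, map_one]
    have : (⟨twG σ g 0, twG_mem σ g hg 0⟩ : ↥(Cfsg.GSp m F)) = 1 := Subtype.ext (twG_zero σ g)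
    rw [this, map_one, one_mul]
  | succ k ih =>
    rw [pow_succ', ih, pow_succ', map_mul]
    have h1 : (⟨twG σ g (k + 1), twG_mem σ g hg (k + 1)⟩ : ↥(Cfsg.GSp m F)) =
        ⟨g, hg⟩ * mapGSp m σ ⟨twG σ g k, twG_mem σ g hg k⟩ := Subtype.ext (twG_succ σ g k)
    rw [h1, map_mul]
    calc PhiS m F ⟨g, hg⟩ * fieldSHom m F σ * (PhiS m F ⟨twG σ g k, twG_mem σ g hg k⟩ * fieldSHom m F (σ ^ k))
        = PhiS m F ⟨g, hg⟩ * (fieldSHom m F σ * PhiS m F ⟨twG σ g k, twG_mem σ g hg k⟩) *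
            fieldSHom m F (σ ^ k) := by simp only [mul_assoc]
      _ = _ := by rw [fieldS_PhiS]; simp only [mul_assoc]

end Cfsg.Agent.Lib.Helper16.SPF
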