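import Cfsg.Agent.Lib.Helper16.SPF3

set_option autoImplicit false
set_option linter.unusedSectionVars false
set_option linter.unusedVariables false

namespace Cfsg.Agent.Lib.Helper16.SPF

open Matrix Cfsg.Agent.Lib.helper6 Cfsg.Agent.Lib.helper6.SB Cfsg.Agent.Lib.Helper26
  Cfsg.Agent.Lib.Helper16.SPA Cfsg.Agent.Lib.Helper16.H9

universe u
variable {F : Type u} [Field F] {m : ℕ}

theorem gram_form (B M : Matrix (Fin m ⊕ Fin m) (Fin m ⊕ Fin m) F) (u v : Fin m ⊕ Fin m → F) :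
    u ⬝ᵥ ((Bᵀ * M * B) *ᵥ v) = (B *ᵥ u) ⬝ᵥ (M *ᵥ (B *ᵥ v)) := by
  rw [← Matrix.mulVec_mulVec, ← Matrix.mulVec_mulVec, Matrix.dotProduct_mulVec, Matrix.vecMul_transpose]

theorem gram_sympForm (B : Matrix (Fin m ⊕ Fin m) (Fin m ⊕ Fin m) F) (u v : Fin m ⊕ Fin m → F) :
    u ⬝ᵥ ((Bᵀ * Matrix.J (Fin m) F * B) *ᵥ v) = Cfsg.sympForm m F (B *ᵥ u) (B *ᵥ v) := by
  rw [gram_form]
  rfl

theorem entry_eq_form (A : Matrix (Fin m ⊕ Fin m) (Fin m ⊕ Fin m) F) (k l : Fin m ⊕ Fin m) :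
    A k l = (bV k : Fin m ⊕ Fin m → F) ⬝ᵥ (A *ᵥ bV l) := by
  unfold bV
  rw [Matrix.mulVec_single_one, single_one_dotProduct]
  rfl

theorem J_map' {K : Type*} [Field K] (f : K →+* F) :
    (Matrix.J (Fin m) K).map f = Matrix.J (Fin m) F := by
  ext i j
  rcases i with i | i <;> rcases j with j | j <;>
    simp [Matrix.J, Matrix.one_apply, apply_ite f]

/-- an invertible alternating matrix with entries in a subfield is congruent to `J` over that subfield. -/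
theorem subfield_congr_J (K : Subfield F) (A : Matrix (Fin m ⊕ Fin m) (Fin m ⊕ Fin m) F)
    (hfix : ∀ i j, A i j ∈ K) (halt : ∀ v : Fin m ⊕ Fin m → F, v ⬝ᵥ (A *ᵥ v) = 0)
    (hdet : A.det ≠ 0) :
    ∃ C : Matrix (Fin m ⊕ Fin m) (Fin m ⊕ Fin m) F, (∀ i j, C i j ∈ K) ∧ C.det ≠ 0 ∧
      Cᵀ * A * C = Matrix.J (Fin m) F := by
  classical
  set A₁ : Matrix (Fin m ⊕ Fin m) (Fin m ⊕ Fin m) K := fun i j => ⟨A i j, hfix i j⟩ with hA₁
  have hA₁map : A₁.map K.subtype = A := by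
    ext i j
    rfl
  set ω : LinearMap.BilinForm K (Fin m ⊕ Fin m → K) := Matrix.toBilin' A₁ with hω
  have hωapp : ∀ x y, ω x y = x ⬝ᵥ (A₁ *ᵥ y) := fun x y => Matrix.toBilin'_apply' A₁ x y
  have hAlt : ω.IsAlt := by
    intro x
    rw [hωapp]
    apply K.subtype_injective
    rw [map_zero, RingHom.map_dotProduct]
    have h1 : ⇑K.subtype ∘ (A₁ *ᵥ x) = A *ᵥ (⇑K.subtype ∘ x) := by
      funext i
      rw [Function.comp_apply, RingHom.map_mulVec, hA₁map]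
    rw [h1]
    exact halt _
  have hdet₁ : A₁.det ≠ 0 := by
    intro h0
    apply hdet
    rw [← hA₁map, ← RingHom.mapMatrix_apply, ← RingHom.map_det, h0, map_zero]
  have hnd : ω.Nondegenerate := by
    apply Matrix.Nondegenerate.toBilin'
    exact Matrix.nondegenerate_of_det_ne_zero hdet₁
  have hV : Module.finrank K (Fin m ⊕ Fin m → K) = 2 * m := by
    rw [Module.finrank_fintype_fun_eq_card, Fintype.card_sum, Fintype.card_fin]; ring
  obtain ⟨b, hb⟩ := symplectic_basis hV ω hAlt hnd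
  set C₁ : Matrix (Fin m ⊕ Fin m) (Fin m ⊕ Fin m) K := Matrix.of fun k i => b i k with hC₁
  have hcong : C₁ᵀ * A₁ * C₁ = Matrix.J (Fin m) K := by
    ext i j
    have h1 := congrFun (congrFun hb i) j
    rw [LinearMap.BilinForm.toMatrix_apply, hωapp] at h1
    rw [← h1, Matrix.mul_assoc, Matrix.mul_apply]
    simp only [dotProduct, Matrix.transpose_apply]
    congr 1
  have hcongF : (C₁.map K.subtype)ᵀ * A * C₁.map K.subtype = Matrix.J (Fin m) F := by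
    rw [← J_map' K.subtype, ← hcong, Matrix.map_mul, Matrix.map_mul, hA₁map, Matrix.transpose_map]
  refine ⟨C₁.map K.subtype, fun i j => (C₁ i j).2, ?_, hcongF⟩
  intro h0
  have := congrArg Matrix.det hcongF
  rw [Matrix.det_mul, Matrix.det_mul, h0, mul_zero] at this
  exact (Matrix.isUnit_det_J (Fin m) F).ne_zero this.symm


variable [Fintype F]

/-- Hilbert 90 for the conformal symplectic group. -/
theorem h90_GSp (hm : 1 ≤ m) (σ : RingAut F) (r : ℕ)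
    (hinj : ∀ i j, i < r → j < r → σ ^ i = σ ^ j → i = j) (hr0 : 0 < r) (hσr : σ ^ r = 1)
    (g : GL (Fin m ⊕ Fin m) F) (hg : g ∈ Cfsg.GSp m F) (hA : twG σ g r = 1) :
    ∃ h : GL (Fin m ⊕ Fin m) F, h ∈ Cfsg.GSp m F ∧ g * mapG m σ h = h := by
  classical
  obtain ⟨B, hB⟩ := h90_G σ r hinj hr0 hσr g hA
  obtain ⟨c, hc⟩ := hg
  set Bm : Matrix (Fin m ⊕ Fin m) (Fin m ⊕ Fin m) F := (B : Matrix (Fin m ⊕ Fin m) (Fin m ⊕ Fin m) F) with hBm
  set gm : Matrix (Fin m ⊕ Fin m) (Fin m ⊕ Fin m) F := (g : Matrix (Fin m ⊕ Fin m) (Fin m ⊕ Fin m) F) with hgm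
  have hBval : gm * Bm.map ⇑σ = Bm := by
    have := congrArg (fun x : GL (Fin m ⊕ Fin m) F => (x : Matrix (Fin m ⊕ Fin m) (Fin m ⊕ Fin m) F)) hB
    simp only [Units.val_mul, mapG_val] at this
    exact this
  set A' : Matrix (Fin m ⊕ Fin m) (Fin m ⊕ Fin m) F := Bmᵀ * Matrix.J (Fin m) F * Bm with hA'
  have hcol : ∀ k, gm *ᵥ (⇑σ ∘ (Bm *ᵥ (bV k : Fin m ⊕ Fin m → F))) = Bm *ᵥ bV k := by
    intro k
    rw [← map_mulVec_comp, comp_bV, Matrix.mulVec_mulVec, hBval]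
  have hent : ∀ k l, A' k l = Cfsg.sympForm m F (Bm *ᵥ bV k) (Bm *ᵥ bV l) := by
    intro k l
    rw [entry_eq_form A' k l, hA', gram_sympForm]
  have hσent : ∀ k l, A' k l = (c : F) * σ (A' k l) := by
    intro k l
    rw [hent]
    conv_lhs => rw [← hcol k, ← hcol l]
    rw [hc, sympForm_comp]
  have hBdet : Bm.det ≠ 0 := by
    have h1 : IsUnit Bm.det := (Matrix.isUnit_iff_isUnit_det _).mp B.isUnit
    exact h1.ne_zero
  have hdetA' : A'.det ≠ 0 := by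
    rw [hA', Matrix.det_mul, Matrix.det_mul, Matrix.det_transpose]
    exact mul_ne_zero (mul_ne_zero hBdet (Matrix.isUnit_det_J (Fin m) F).ne_zero) hBdet
  obtain ⟨k₀, l₀, hk₀⟩ : ∃ k₀ l₀, A' k₀ l₀ ≠ 0 := by
    by_contra hno
    push Not at hno
    apply hdetA'
    have : A' = 0 := by
      ext i j
      exact hno i j
    rw [this]
    have : Nonempty (Fin m ⊕ Fin m) := ⟨Sum.inl ⟨0, hm⟩⟩
    exact Matrix.det_zero
  set d : F := A' k₀ l₀ with hd
  have hdσ : σ d = (c : F)⁻¹ * d := by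
    have := hσent k₀ l₀
    rw [← hd] at this
    rw [eq_inv_mul_iff_mul_eq₀ c.ne_zero]
    exact this.symm
  set A : Matrix (Fin m ⊕ Fin m) (Fin m ⊕ Fin m) F := d⁻¹ • A' with hAdef
  set K : Subfield F := FixedPoints.subfield (Subgroup.zpowers (σ : F ≃+* F)) F with hK
  have hAK : ∀ i j, A i j ∈ K := by
    intro i j
    rw [hK, Cfsg.Agent.Lib.Helper16.mem_fixed_iff]
    have haσ : σ (A' i j) = (c : F)⁻¹ * A' i j := by
      rw [eq_inv_mul_iff_mul_eq₀ c.ne_zero]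
      exact (hσent i j).symm
    rw [hAdef, Matrix.smul_apply, smul_eq_mul, map_mul, map_inv₀, hdσ, haσ]
    have hc0 : (c : F) ≠ 0 := c.ne_zero
    field_simp
  have halt : ∀ v : Fin m ⊕ Fin m → F, v ⬝ᵥ (A *ᵥ v) = 0 := by
    intro v
    rw [hAdef, Matrix.smul_mulVec, dotProduct_smul, hA', gram_sympForm, sympForm_self, smul_zero]
  have hdetA : A.det ≠ 0 := by
    rw [hAdef, Matrix.det_smul]
    exact mul_ne_zero (pow_ne_zero _ (inv_ne_zero hk₀)) hdetA'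
  obtain ⟨C, hCK, hCdet, hCcong⟩ := subfield_congr_J K A hAK halt hdetA
  have hCσ : C.map ⇑σ = C := by
    ext i j
    rw [Matrix.map_apply]
    exact (Cfsg.Agent.Lib.Helper16.mem_fixed_iff (σ : F ≃+* F) (C i j)).mp (hCK i j)
  set Cg : GL (Fin m ⊕ Fin m) F := Matrix.GeneralLinearGroup.mkOfDetNeZero C hCdet with hCg
  have hCgval : (Cg : Matrix (Fin m ⊕ Fin m) (Fin m ⊕ Fin m) F) = C := rfl
  refine ⟨B * Cg, ⟨Units.mk0 d hk₀, ?_⟩, ?_⟩
  · intro u v
    rw [Units.val_mul, hCgval, ← gram_sympForm]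
    have hmat : (Bm * C)ᵀ * Matrix.J (Fin m) F * (Bm * C) = d • Matrix.J (Fin m) F := by
      have h1 : (Bm * C)ᵀ * Matrix.J (Fin m) F * (Bm * C) = Cᵀ * A' * C := by
        rw [hA', Matrix.transpose_mul]; simp only [Matrix.mul_assoc]
      rw [h1, ← hCcong, hAdef, Matrix.mul_smul, Matrix.smul_mul, smul_smul, mul_inv_cancel₀ hk₀, one_smul]
    rw [hmat, Matrix.smul_mulVec, dotProduct_smul, smul_eq_mul, Units.val_mk0]
    rfl
  · apply Units.ext
    rw [Units.val_mul, mapG_val, Units.val_mul, hCgval, Matrix.map_mul, hCσ, ← Matrix.mul_assoc]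
    show gm * Bm.map ⇑σ * C = Bm * C
    rw [hBval]

end Cfsg.Agent.Lib.Helper16.SPF
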