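import Cfsg.Agent.Lib.Helper16.SPF4
import Cfsg.Agent.Lib.Helper16.H9d

set_option autoImplicit false
set_option linter.unusedSectionVars false
set_option linter.unusedVariables false

namespace Cfsg.Agent.Lib.Helper16.SPF

open Matrix Cfsg.Agent.Lib.helper6 Cfsg.Agent.Lib.helper6.SB Cfsg.Agent.Lib.Helper26
  Cfsg.Agent.Lib.Helper16.SPA Cfsg.Agent.Lib.Helper16.H9

universe u
variable {F : Type u} [Field F] {m : ℕ}

theorem PhiS_scal (c : Fˣ) : PhiS m F ⟨scalG m c, scalG_mem c⟩ = 1 := by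
  apply MulEquiv.ext
  intro y
  obtain ⟨s, rfl⟩ := mkP_surjective y
  rw [PhiS_mk, MulAut.one_apply]
  congr 1
  apply Subtype.ext
  rw [conjSp_val]
  show ((scalG m c : GL (Fin m ⊕ Fin m) F) : Matrix (Fin m ⊕ Fin m) (Fin m ⊕ Fin m) F) * s.1 *
    (((scalG m c)⁻¹ : GL (Fin m ⊕ Fin m) F) : Matrix (Fin m ⊕ Fin m) (Fin m ⊕ Fin m) F) = s.1
  rw [← map_inv, scalG_val, scalG_val, Matrix.smul_mul, Matrix.mul_smul, Matrix.one_mul, Matrix.mul_one,
    smul_smul, Units.val_inv_eq_inv_val, inv_mul_cancel₀ c.ne_zero, one_smul]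

variable [Fintype F]

theorem PhiS_eq_one_iff (hm : 2 ≤ m) (g : ↥(Cfsg.GSp m F)) :
    PhiS m F g = 1 ↔ ∃ c : Fˣ, g.1 = scalG m c := by
  constructor
  · intro h
    have h1 : PhiS m F g * fieldSHom m F 1 = 1 := by rw [map_one, mul_one, h]
    obtain ⟨-, c, hc⟩ := PhiS_fieldS_eq_one hm g 1 h1
    have hc0 : c ≠ 0 := by
      intro h0
      rw [h0, zero_smul] at hc
      have h2 : IsUnit (g.1 : Matrix (Fin m ⊕ Fin m) (Fin m ⊕ Fin m) F).det :=
        (Matrix.isUnit_iff_isUnit_det _).mp g.1.isUnit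
      rw [hc] at h2
      have : Nonempty (Fin m ⊕ Fin m) := ⟨Sum.inl ⟨0, by omega⟩⟩
      rw [Matrix.det_zero] at h2
      exact not_isUnit_zero h2
    refine ⟨Units.mk0 c hc0, ?_⟩
    apply Units.ext
    rw [scalG_val, hc, Units.val_mk0]
  · rintro ⟨c, hc⟩
    have : g = ⟨scalG m c, scalG_mem c⟩ := Subtype.ext hc
    rw [this, PhiS_scal]

theorem fieldSHom_injective (hm : 2 ≤ m) : Function.Injective (fieldSHom m F) := by
  rw [injective_iff_map_eq_one]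
  intro τ hτ
  have h1 : PhiS m F 1 * fieldSHom m F τ = 1 := by rw [map_one, one_mul, hτ]
  exact (PhiS_fieldS_eq_one hm 1 τ h1).1

theorem orderOf_fieldS (hm : 2 ≤ m) (σ : RingAut F) : orderOf (fieldSHom m F σ) = orderOf σ :=
  orderOf_injective (fieldSHom m F) (fieldSHom_injective hm) σ

/-- in the coset of a field automorphism, the elements of the same order are conjugate to it. -/
theorem field_conjS (hm : 2 ≤ m) (σ : RingAut F) (r : ℕ) (hord : orderOf σ = r) (hr0 : 0 < r)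
    (g : ↥(Cfsg.GSp m F)) (hpow : (PhiS m F g * fieldSHom m F σ) ^ r = 1) :
    ∃ h : ↥(Cfsg.GSp m F), PhiS m F g * fieldSHom m F σ =
      PhiS m F h * fieldSHom m F σ * (PhiS m F h)⁻¹ := by
  have hσr : σ ^ r = 1 := by rw [← hord]; exact pow_orderOf_eq_one σ
  have hinj : ∀ i j, i < r → j < r → σ ^ i = σ ^ j → i = j := by
    intro i j hi hj hij
    rw [← hord] at hi hj
    exact pow_injOn_Iio_orderOf hi hj hij
  obtain ⟨g, hg⟩ := g
  rw [pow_PhiS_fieldS, hσr, map_one, mul_one, PhiS_eq_one_iff hm] at hpow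
  obtain ⟨c, hc⟩ := hpow
  have hc' : twG σ g r = scalG m c := hc
  have hfix : uσ σ c = c := by
    apply scalG_injective (m := m) (by omega)
    have e1 : twG σ g (r + 1) = g * scalG m (uσ σ c) := by rw [twG_succ, hc', mapG_scalG]
    have e2 : twG σ g (r + 1) = g * scalG m c := by
      rw [twG_add, hσr, mapG_one_aut, twG_one, hc', scalG_comm]
    exact mul_left_cancel (e1.symm.trans e2)
  obtain ⟨d, hd⟩ := Cfsg.Agent.Lib.Helper16.H9.norm_surj σ r hinj hr0 hσr c hfix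
  set g' := g * scalG m d⁻¹ with hg'
  have hg'mem : g' ∈ Cfsg.GSp m F := mul_mem hg (scalG_mem _)
  have hg'tw : twG σ g' r = 1 := by
    rw [hg', twG_mul_scalG, hc', ← map_mul, ← nuHom_apply, map_inv, nuHom_apply, hd, mul_inv_cancel,
      map_one]
  obtain ⟨B, hBmem, hB⟩ := h90_GSp (by omega) σ r hinj hr0 hσr g' hg'mem hg'tw
  refine ⟨⟨B, hBmem⟩, ?_⟩
  have hPg : PhiS m F ⟨g, hg⟩ = PhiS m F ⟨g', hg'mem⟩ := by
    have : (⟨g', hg'mem⟩ : ↥(Cfsg.GSp m F)) = ⟨g, hg⟩ * ⟨scalG m d⁻¹, scalG_mem _⟩ := rfl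
    rw [this, map_mul, PhiS_scal, mul_one]
  have hg'B : (⟨g', hg'mem⟩ : ↥(Cfsg.GSp m F)) = ⟨B, hBmem⟩ * (mapGSp m σ ⟨B, hBmem⟩)⁻¹ := by
    apply eq_mul_inv_of_mul_eq
    exact Subtype.ext hB
  have h2 : fieldSHom m F σ * (PhiS m F ⟨B, hBmem⟩)⁻¹ =
      PhiS m F (mapGSp m σ ⟨B, hBmem⟩)⁻¹ * fieldSHom m F σ := by
    rw [← map_inv, fieldS_PhiS, map_inv]
  rw [mul_assoc (PhiS m F ⟨B, hBmem⟩), h2, hPg, hg'B, map_mul, mul_assoc]

end Cfsg.Agent.Lib.Helper16.SPF
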