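import Cfsg.Agent.Lib.Helper16.SPF5

set_option autoImplicit false
set_option linter.unusedSectionVars false
set_option linter.unusedVariables false

namespace Cfsg.Agent.Lib.Helper16.SPF

open Matrix Cfsg.Agent.Lib.helper6 Cfsg.Agent.Lib.helper6.SB Cfsg.Agent.Lib.Helper26
  Cfsg.Agent.Lib.Helper16.SPA Cfsg.Agent.Lib.Helper16.H9

universe u
variable {F : Type u} [Field F] {m : ℕ}

theorem isStdField_iffS (σ : F ≃+* F) (β : MulAut (Cfsg.PSp m F)) :
    Cfsg.IsStdFieldAutPSp σ β ↔ β = fieldSHom m F σ := by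
  constructor
  · intro h
    apply MulEquiv.ext
    intro y
    obtain ⟨s, rfl⟩ := mkP_surjective y
    rw [fieldSHom_mk]
    exact h s (fieldSp m σ s) (fieldSp_val σ s)
  · rintro rfl s s' hs
    show fieldSHom m F σ (mkP m F s) = mkP m F s'
    rw [fieldSHom_mk]
    congr 1
    apply Subtype.ext
    rw [fieldSp_val, hs]

theorem isInduced_iffS (g : GL (Fin m ⊕ Fin m) F) (hg : g ∈ Cfsg.GSp m F) (σ : F ≃+* F)
    (β : MulAut (Cfsg.PSp m F)) :
    Cfsg.IsInducedBySemilinearPSp g σ β ↔ β = PhiS m F ⟨g, hg⟩ * fieldSHom m F σ := by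
  rw [← liftP_iota_eq]
  constructor
  · intro h
    apply MulEquiv.ext
    intro y
    obtain ⟨s, rfl⟩ := mkP_surjective y
    rw [liftP_mk]
    exact h s (iotaSp g hg σ s) (iotaSp_val g hg σ s)
  · rintro rfl s s' hs
    show liftP (iotaSp g hg σ) (mkP m F s) = mkP m F s'
    rw [liftP_mk]
    congr 1
    apply Subtype.ext
    rw [iotaSp_val, hs]

theorem fieldSHom_refl : fieldSHom m F (RingEquiv.refl F) = 1 := map_one (fieldSHom m F)

theorem inndiag_eq_rangeS : Cfsg.inndiagPSp m F = (PhiS m F).range := by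
  unfold Cfsg.inndiagPSp Cfsg.autSubgroupOf
  have : {β : MulAut (Cfsg.PSp m F) | Cfsg.IsInnerDiagonalAutPSp β} = ((PhiS m F).range : Set _) := by
    ext β
    constructor
    · rintro ⟨g, hg, h⟩
      rw [isInduced_iffS g hg, fieldSHom_refl, mul_one] at h
      exact ⟨⟨g, hg⟩, h.symm⟩
    · rintro ⟨g, rfl⟩
      refine ⟨g.1, g.2, ?_⟩
      rw [isInduced_iffS g.1 g.2, fieldSHom_refl, mul_one]
  rw [this, Subgroup.closure_eq]

theorem conj_mk_eq_PhiS (s : ↥(Matrix.symplecticGroup (Fin m) F)) :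
    MulAut.conj (mkP m F s) = PhiS m F ⟨spGL' s, spGL'_mem s⟩ := by
  apply MulEquiv.ext
  intro y
  obtain ⟨t, rfl⟩ := mkP_surjective y
  rw [PhiS_mk, MulAut.conj_apply, ← map_inv, ← map_mul, ← map_mul]
  congr 1

theorem Inn_le_range_PhiS : Cfsg.Inn (Cfsg.PSp m F) ≤ (PhiS m F).range := by
  rintro _ ⟨k, rfl⟩
  obtain ⟨s, rfl⟩ := mkP_surjective k
  exact ⟨_, (conj_mk_eq_PhiS s).symm⟩

theorem conj_conj_aut {G : Type*} [Group G] (α : MulAut G) (k : G) :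
    α * MulAut.conj k * α⁻¹ = MulAut.conj (α k) := by
  apply MulEquiv.ext
  intro z
  rw [MulAut.mul_apply, MulAut.mul_apply, MulAut.conj_apply, MulAut.conj_apply, map_mul, map_mul,
    MulAut.apply_inv_self, map_inv]

variable [Fintype F]

/-- in characteristic two every inner-diagonal automorphism is inner. -/
theorem range_PhiS_le_Inn_char2 (h2 : ringChar F = 2) : (PhiS m F).range ≤ Cfsg.Inn (Cfsg.PSp m F) := by
  rintro _ ⟨⟨g, hg⟩, rfl⟩
  obtain ⟨c, hc⟩ := id hg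
  obtain ⟨e, he⟩ := FiniteField.isSquare_of_char_two h2 (c : F)
  have he0 : e ≠ 0 := by
    intro h0
    rw [h0, mul_zero] at he
    exact c.ne_zero he
  set g' : GL (Fin m ⊕ Fin m) F := scalG m (Units.mk0 e he0)⁻¹ * g with hg'
  have hg'val : (g' : Matrix (Fin m ⊕ Fin m) (Fin m ⊕ Fin m) F) =
      e⁻¹ • (g : Matrix (Fin m ⊕ Fin m) (Fin m ⊕ Fin m) F) := by
    rw [hg', Units.val_mul, scalG_val, Matrix.smul_mul, Matrix.one_mul, Units.val_inv_eq_inv_val,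
      Units.val_mk0]
  have hg'sp : (g' : Matrix (Fin m ⊕ Fin m) (Fin m ⊕ Fin m) F) ∈ Matrix.symplecticGroup (Fin m) F := by
    rw [mem_symplecticGroup_iff_sympForm]
    intro u v
    rw [hg'val, Matrix.smul_mulVec, Matrix.smul_mulVec, sympForm_smul_left, sympForm_smul_right, hc, he]
    field_simp
  set s : ↥(Matrix.symplecticGroup (Fin m) F) := ⟨_, hg'sp⟩ with hs
  have hsg : spGL' s = g' := Units.ext rfl
  refine ⟨mkP m F s, ?_⟩
  rw [conj_mk_eq_PhiS]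
  have h3 : (⟨g, hg⟩ : ↥(Cfsg.GSp m F)) =
      ⟨scalG m (Units.mk0 e he0), scalG_mem _⟩ * ⟨spGL' s, spGL'_mem s⟩ := by
    apply Subtype.ext
    show g = scalG m (Units.mk0 e he0) * spGL' s
    rw [hsg, hg', ← mul_assoc, ← map_mul, mul_inv_cancel, map_one, one_mul]
  rw [h3, map_mul, PhiS_scal, one_mul]

theorem PhiS_range_normal (hm : 2 ≤ m) : ((PhiS m F).range).Normal := by
  constructor
  intro y hy α
  obtain ⟨p, hp⟩ := CharP.exists F
  have hprime : Fact p.Prime := ⟨CharP.char_is_prime F p⟩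
  by_cases hp2 : p = 2
  · have h2 : ringChar F = 2 := by rw [← hp2]; exact ringChar.eq F p
    obtain ⟨k, rfl⟩ := range_PhiS_le_Inn_char2 h2 hy
    rw [conj_conj_aut]
    exact Inn_le_range_PhiS ⟨_, rfl⟩
  · obtain ⟨g₀, hg₀, σ, hα⟩ := aut_eq_iota p hm (fun _ => hp2) α
    obtain ⟨g, rfl⟩ := hy
    rw [hα, liftP_iota_eq]
    refine ⟨⟨g₀, hg₀⟩ * mapGSp m σ g * ⟨g₀, hg₀⟩⁻¹, ?_⟩
    rw [map_mul, map_mul, map_inv, _root_.mul_inv_rev]
    have h1 := fieldS_PhiS (m := m) σ g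
    calc PhiS m F ⟨g₀, hg₀⟩ * PhiS m F (mapGSp m σ g) * (PhiS m F ⟨g₀, hg₀⟩)⁻¹
        = PhiS m F ⟨g₀, hg₀⟩ * (PhiS m F (mapGSp m σ g) * fieldSHom m F σ) * (fieldSHom m F σ)⁻¹ *
            (PhiS m F ⟨g₀, hg₀⟩)⁻¹ := by group
      _ = _ := by rw [← h1]; group

theorem S2713_aux (hm : 2 ≤ m) (x δ : MulAut (Cfsg.PSp m F)) (hx : Cfsg.IsFieldAutClassPSp x) {r : ℕ}
    (hr : r.Prime) (hxr : orderOf x = r) (hδ : δ ∈ Cfsg.inndiagPSp m F) :
    orderOf (δ * x) = r ↔ Cfsg.IsConjUnder (Cfsg.inndiagPSp m F) x (δ * x) := by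
  rw [inndiag_eq_rangeS] at hδ ⊢
  have hN : ((PhiS m F).range).Normal := PhiS_range_normal hm
  constructor
  · intro ho
    have hpow : (δ * x) ^ r = 1 := by rw [← ho]; exact pow_orderOf_eq_one _
    obtain ⟨α, σ, hσ, hstd⟩ := hx
    have hx₀ : α * x * α⁻¹ = fieldSHom m F σ := (isStdField_iffS σ _).mp hstd
    have hord : orderOf (σ : RingAut F) = r := by
      rw [← orderOf_fieldS hm, ← hx₀, AF.orderOf_conj_eq, hxr]
    apply coset_conj_transport (PhiS m F).range α x (fieldSHom m F σ) δ r hx₀ hδ hpow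
    rintro _ ⟨g, rfl⟩ hg
    obtain ⟨h, hh⟩ := field_conjS hm σ r hord hr.pos g hg
    exact ⟨PhiS m F h, ⟨h, rfl⟩, hh⟩
  · rintro ⟨h, hh, he⟩
    rw [he, AF.orderOf_conj_eq, hxr]

end Cfsg.Agent.Lib.Helper16.SPF
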