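import Cfsg.Agent.Lib.Helper16.SPF6

set_option autoImplicit false
set_option linter.unusedSectionVars false
set_option linter.unusedVariables false

namespace Cfsg.Agent.Lib.Helper16.SPF

open Matrix Cfsg.Agent.Lib.helper6 Cfsg.Agent.Lib.helper6.SB Cfsg.Agent.Lib.Helper26
  Cfsg.Agent.Lib.Helper16.SPA Cfsg.Agent.Lib.Helper16.H9

universe u v
variable {F : Type u} [Field F] {m : ℕ}

theorem sympForm_bV_entry (k l : Fin m ⊕ Fin m) :
    Cfsg.sympForm m F (bV k) (bV l) = Matrix.J (Fin m) F k l := by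
  rw [entry_eq_form (Matrix.J (Fin m) F) k l]
  rfl

/-- matrix form of membership in the conformal symplectic group. -/
theorem mem_GSp_iff (g : GL (Fin m ⊕ Fin m) F) :
    g ∈ Cfsg.GSp m F ↔ ∃ c : Fˣ, (g : Matrix (Fin m ⊕ Fin m) (Fin m ⊕ Fin m) F)ᵀ * Matrix.J (Fin m) F *
      (g : Matrix (Fin m ⊕ Fin m) (Fin m ⊕ Fin m) F) = (c : F) • Matrix.J (Fin m) F := by
  constructor
  · rintro ⟨c, hc⟩
    refine ⟨c, ?_⟩
    ext k l
    rw [entry_eq_form ((g : Matrix (Fin m ⊕ Fin m) (Fin m ⊕ Fin m) F)ᵀ * Matrix.J (Fin m) F *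
      (g : Matrix (Fin m ⊕ Fin m) (Fin m ⊕ Fin m) F)) k l, gram_sympForm, hc, Matrix.smul_apply,
      sympForm_bV_entry, smul_eq_mul]
  · rintro ⟨c, hc⟩
    refine ⟨c, fun u v => ?_⟩
    rw [← gram_sympForm, hc, Matrix.smul_mulVec, dotProduct_smul, smul_eq_mul]
    rfl

theorem gsp_exists (g : ↥(Cfsg.GSp m F)) : ∃ c : Fˣ, ∀ u v : Fin m ⊕ Fin m → F,
    Cfsg.sympForm m F ((g.1 : Matrix (Fin m ⊕ Fin m) (Fin m ⊕ Fin m) F) *ᵥ u)
      ((g.1 : Matrix (Fin m ⊕ Fin m) (Fin m ⊕ Fin m) F) *ᵥ v) = (c : F) * Cfsg.sympForm m F u v := g.2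

theorem mult_unique (hm : 1 ≤ m) (c c' : F)
    (h : ∀ u v : Fin m ⊕ Fin m → F, c * Cfsg.sympForm m F u v = c' * Cfsg.sympForm m F u v) : c = c' := by
  have := h (bV (Sum.inl ⟨0, hm⟩)) (bV (Sum.inr ⟨0, hm⟩))
  rw [sympForm_e_f'] at this
  simpa using this

theorem mult_unique' (hm : 1 ≤ m) (g : GL (Fin m ⊕ Fin m) F) (c c' : Fˣ)
    (h : ∀ u v : Fin m ⊕ Fin m → F, Cfsg.sympForm m F ((g : Matrix (Fin m ⊕ Fin m) (Fin m ⊕ Fin m) F) *ᵥ u)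
      ((g : Matrix (Fin m ⊕ Fin m) (Fin m ⊕ Fin m) F) *ᵥ v) = (c : F) * Cfsg.sympForm m F u v)
    (h' : ∀ u v : Fin m ⊕ Fin m → F, Cfsg.sympForm m F ((g : Matrix (Fin m ⊕ Fin m) (Fin m ⊕ Fin m) F) *ᵥ u)
      ((g : Matrix (Fin m ⊕ Fin m) (Fin m ⊕ Fin m) F) *ᵥ v) = (c' : F) * Cfsg.sympForm m F u v) : c = c' := by
  apply Units.ext
  apply mult_unique hm
  intro u v
  rw [← h, ← h']

/-- the multiplier of a similitude. -/
noncomputable def muS (hm : 1 ≤ m) : ↥(Cfsg.GSp m F) →* Fˣ where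
  toFun g := Classical.choose (gsp_exists g)
  map_one' := by
    apply mult_unique' hm 1 _ _ (Classical.choose_spec (gsp_exists (1 : ↥(Cfsg.GSp m F))))
    intro u v
    simp
  map_mul' g h := by
    apply mult_unique' hm (g.1 * h.1) _ _ (Classical.choose_spec (gsp_exists (g * h)))
    intro u v
    rw [Units.val_mul, ← Matrix.mulVec_mulVec, ← Matrix.mulVec_mulVec,
      Classical.choose_spec (gsp_exists g), Classical.choose_spec (gsp_exists h), Units.val_mul, mul_assoc]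

theorem muS_spec (hm : 1 ≤ m) (g : ↥(Cfsg.GSp m F)) (u v : Fin m ⊕ Fin m → F) :
    Cfsg.sympForm m F ((g.1 : Matrix (Fin m ⊕ Fin m) (Fin m ⊕ Fin m) F) *ᵥ u)
      ((g.1 : Matrix (Fin m ⊕ Fin m) (Fin m ⊕ Fin m) F) *ᵥ v) = (muS hm g : F) * Cfsg.sympForm m F u v :=
  Classical.choose_spec (gsp_exists g) u v

theorem muS_eq (hm : 1 ≤ m) (g : ↥(Cfsg.GSp m F)) (c : Fˣ)
    (hc : ∀ u v : Fin m ⊕ Fin m → F, Cfsg.sympForm m F ((g.1 : Matrix (Fin m ⊕ Fin m) (Fin m ⊕ Fin m) F) *ᵥ u)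
      ((g.1 : Matrix (Fin m ⊕ Fin m) (Fin m ⊕ Fin m) F) *ᵥ v) = (c : F) * Cfsg.sympForm m F u v) :
    muS hm g = c :=
  mult_unique' hm g.1 _ _ (muS_spec hm g) hc

theorem muS_matrix (hm : 1 ≤ m) (g : ↥(Cfsg.GSp m F)) :
    (g.1 : Matrix (Fin m ⊕ Fin m) (Fin m ⊕ Fin m) F)ᵀ * Matrix.J (Fin m) F *
      (g.1 : Matrix (Fin m ⊕ Fin m) (Fin m ⊕ Fin m) F) = (muS hm g : F) • Matrix.J (Fin m) F := by
  ext k l
  rw [entry_eq_form ((g.1 : Matrix (Fin m ⊕ Fin m) (Fin m ⊕ Fin m) F)ᵀ * Matrix.J (Fin m) F *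
    (g.1 : Matrix (Fin m ⊕ Fin m) (Fin m ⊕ Fin m) F)) k l, gram_sympForm, muS_spec hm, Matrix.smul_apply,
    sympForm_bV_entry, smul_eq_mul]

theorem muS_eq_of_matrix (hm : 1 ≤ m) (g : ↥(Cfsg.GSp m F)) (c : Fˣ)
    (hc : (g.1 : Matrix (Fin m ⊕ Fin m) (Fin m ⊕ Fin m) F)ᵀ * Matrix.J (Fin m) F *
      (g.1 : Matrix (Fin m ⊕ Fin m) (Fin m ⊕ Fin m) F) = (c : F) • Matrix.J (Fin m) F) : muS hm g = c := by
  apply muS_eq
  intro u v
  rw [← gram_sympForm, hc, Matrix.smul_mulVec, dotProduct_smul, smul_eq_mul]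
  rfl

theorem muS_scal (hm : 1 ≤ m) (c : Fˣ) : muS hm ⟨scalG m c, scalG_mem c⟩ = c * c := by
  apply muS_eq
  intro u v
  show Cfsg.sympForm m F (((scalG m c : GL (Fin m ⊕ Fin m) F) : Matrix (Fin m ⊕ Fin m) (Fin m ⊕ Fin m) F) *ᵥ u)
    (((scalG m c : GL (Fin m ⊕ Fin m) F) : Matrix (Fin m ⊕ Fin m) (Fin m ⊕ Fin m) F) *ᵥ v) = _
  rw [scalG_val, Matrix.smul_mulVec, Matrix.smul_mulVec, Matrix.one_mulVec, Matrix.one_mulVec,
    sympForm_smul_left, sympForm_smul_right, Units.val_mul, mul_assoc]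

theorem muS_sp (hm : 1 ≤ m) (s : ↥(Matrix.symplecticGroup (Fin m) F)) :
    muS hm ⟨spGL' s, spGL'_mem s⟩ = 1 := by
  apply muS_eq
  intro u v
  rw [Units.val_one, one_mul]
  exact sp_form s u v

theorem diagMu_ne (c : Fˣ) : ∀ k : Fin m ⊕ Fin m, (Sum.elim (fun _ => (c : F)) (fun _ => (1 : F)) k) ≠ 0 := by
  rintro (k | k) <;> simp

theorem diagMu_swap (c : Fˣ) : ∀ k : Fin m ⊕ Fin m,
    (Sum.elim (fun _ => (c : F)) (fun _ => (1 : F)) k) *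
      (Sum.elim (fun _ => (c : F)) (fun _ => (1 : F)) (Sum.swap k)) = (c : F) := by
  rintro (k | k) <;> simp

/-- the diagonal similitude with multiplier `c`. -/
noncomputable def diagMu (c : Fˣ) : ↥(Cfsg.GSp m F) :=
  ⟨diagGL (Sum.elim (fun _ => (c : F)) (fun _ => 1)) (diagMu_ne c),
    diagGL_mem _ _ (c : F) c.ne_zero (diagMu_swap c)⟩

theorem muS_diagMu (hm : 1 ≤ m) (c : Fˣ) : muS hm (diagMu (m := m) c) = c := by
  apply muS_eq
  intro u v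
  exact diagGL_sim _ (diagMu_ne c) (c : F) (diagMu_swap c) u v

theorem muS_surjective (hm : 1 ≤ m) : Function.Surjective (muS (F := F) (m := m) hm) :=
  fun c => ⟨diagMu c, muS_diagMu hm c⟩

end Cfsg.Agent.Lib.Helper16.SPF
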