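import Cfsg.Agent.Lib.Helper16.SPF7

set_option autoImplicit false
set_option linter.unusedSectionVars false
set_option linter.unusedVariables false

namespace Cfsg.Agent.Lib.Helper16.SPF

open Matrix Cfsg.Agent.Lib.helper6 Cfsg.Agent.Lib.helper6.SB Cfsg.Agent.Lib.Helper26
  Cfsg.Agent.Lib.Helper16.SPA Cfsg.Agent.Lib.Helper16.H9

universe u v
variable {F : Type u} [Field F] {m : ℕ} {F₀ : Type v} [Field F₀]

/-- base change of invertible matrices along a field embedding. -/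
noncomputable def inclG (m : ℕ) (j : F₀ →+* F) : GL (Fin m ⊕ Fin m) F₀ →* GL (Fin m ⊕ Fin m) F :=
  Matrix.GeneralLinearGroup.map j

theorem inclG_val (j : F₀ →+* F) (h : GL (Fin m ⊕ Fin m) F₀) :
    ((inclG m j h : GL (Fin m ⊕ Fin m) F) : Matrix (Fin m ⊕ Fin m) (Fin m ⊕ Fin m) F) =
      (h : Matrix (Fin m ⊕ Fin m) (Fin m ⊕ Fin m) F₀).map ⇑j := rfl

theorem map_smul_mat (j : F₀ →+* F) (c : F₀) (M : Matrix (Fin m ⊕ Fin m) (Fin m ⊕ Fin m) F₀) :
    (c • M).map ⇑j = j c • M.map ⇑j := by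
  ext a b
  simp

theorem inclG_mem (j : F₀ →+* F) (h : GL (Fin m ⊕ Fin m) F₀) (hh : h ∈ Cfsg.GSp m F₀) :
    inclG m j h ∈ Cfsg.GSp m F := by
  rw [mem_GSp_iff] at hh ⊢
  obtain ⟨c, hc⟩ := hh
  refine ⟨Units.map j.toMonoidHom c, ?_⟩
  have := congrArg (fun M : Matrix (Fin m ⊕ Fin m) (Fin m ⊕ Fin m) F₀ => M.map ⇑j) hc
  simp only [Matrix.map_mul, Matrix.transpose_map, map_smul_mat, J_map' j] at this
  rw [inclG_val]
  exact this

/-- base change of similitudes. -/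
noncomputable def inclGSp (m : ℕ) (j : F₀ →+* F) : ↥(Cfsg.GSp m F₀) →* ↥(Cfsg.GSp m F) where
  toFun h := ⟨inclG m j h.1, inclG_mem j h.1 h.2⟩
  map_one' := Subtype.ext (map_one (inclG m j))
  map_mul' g h := Subtype.ext (map_mul (inclG m j) g.1 h.1)

theorem inclGSp_val (j : F₀ →+* F) (h : ↥(Cfsg.GSp m F₀)) : (inclGSp m j h).1 = inclG m j h.1 := rfl

/-- the automorphisms induced by the similitudes over the subfield. -/
noncomputable def LamS (m : ℕ) (j : F₀ →+* F) : ↥(Cfsg.GSp m F₀) →* MulAut (Cfsg.PSp m F) :=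
  (PhiS m F).comp (inclGSp m j)

theorem mapG_inclG (j : F₀ →+* F) (σ : RingAut F) (hj : ∀ y, σ (j y) = j y) (h : GL (Fin m ⊕ Fin m) F₀) :
    mapG m σ (inclG m j h) = inclG m j h := by
  apply Units.ext
  rw [mapG_val, inclG_val]
  ext a b
  rw [Matrix.map_apply, Matrix.map_apply, hj]

variable [Fintype F]

theorem PhiS_eq_iff (hm : 2 ≤ m) (a b : ↥(Cfsg.GSp m F)) :
    PhiS m F a = PhiS m F b ↔ ∃ c : Fˣ, a.1 = b.1 * scalG m c := by
  constructor
  · intro h
    have h1 : PhiS m F (b⁻¹ * a) = 1 := by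
      rw [map_mul, map_inv, h, inv_mul_cancel]
    rw [PhiS_eq_one_iff hm] at h1
    obtain ⟨c, hc⟩ := h1
    refine ⟨c, ?_⟩
    have : scalG m c = b.1⁻¹ * a.1 := hc.symm
    rw [this, mul_inv_cancel_left]
  · rintro ⟨c, hc⟩
    have : a = b * ⟨scalG m c, scalG_mem c⟩ := Subtype.ext hc
    rw [this, map_mul, PhiS_scal, mul_one]

theorem mem_comap_centralizer_fieldS (hm : 2 ≤ m) (σ : RingAut F) (g : ↥(Cfsg.GSp m F)) :
    g ∈ (Subgroup.centralizer {fieldSHom m F σ}).comap (PhiS m F) ↔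
      ∃ c : Fˣ, mapG m σ g.1 = g.1 * scalG m c := by
  rw [Subgroup.mem_comap, Subgroup.mem_centralizer_iff]
  constructor
  · intro h
    have h1 := h _ (Set.mem_singleton _)
    rw [fieldS_PhiS, mul_left_inj] at h1
    exact (PhiS_eq_iff hm _ _).mp h1
  · intro h y hy
    rw [Set.mem_singleton_iff] at hy
    subst hy
    rw [fieldS_PhiS, mul_left_inj]
    exact (PhiS_eq_iff hm (mapGSp m σ g) g).mpr h

theorem J_inr_inl (hm : 1 ≤ m) :
    Matrix.J (Fin m) F (Sum.inr ⟨0, hm⟩) (Sum.inl ⟨0, hm⟩) = 1 := by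
  simp [Matrix.J]

/-- the similitudes commuting with a field automorphism modulo scalars. -/
theorem comap_centralizer_fieldS (hm : 2 ≤ m) (σ : RingAut F) (j : F₀ →+* F)
    (hj : ∀ x, (∃ y, j y = x) ↔ σ x = x) (g : ↥(Cfsg.GSp m F)) :
    g ∈ (Subgroup.centralizer {fieldSHom m F σ}).comap (PhiS m F) ↔
      ∃ (e : Fˣ) (H : ↥(Cfsg.GSp m F₀)), g = ⟨scalG m e, scalG_mem e⟩ * inclGSp m j H := by
  classical
  have hjfix : ∀ y, σ (j y) = j y := fun y => (hj _).mp ⟨y, rfl⟩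
  rw [mem_comap_centralizer_fieldS hm]
  constructor
  · rintro ⟨c, hc⟩
    have hg : (g.1 : Matrix (Fin m ⊕ Fin m) (Fin m ⊕ Fin m) F).map ⇑σ =
        (c : F) • (g.1 : Matrix (Fin m ⊕ Fin m) (Fin m ⊕ Fin m) F) := by
      have := congrArg (fun x : GL (Fin m ⊕ Fin m) F => (x : Matrix (Fin m ⊕ Fin m) (Fin m ⊕ Fin m) F)) hc
      simp only [mapG_val, Units.val_mul, scalG_val, Matrix.mul_smul, Matrix.mul_one] at this
      exact this
    set gm : Matrix (Fin m ⊕ Fin m) (Fin m ⊕ Fin m) F := (g.1 : Matrix (Fin m ⊕ Fin m) (Fin m ⊕ Fin m) F) with hgm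
    have hgdet : gm.det ≠ 0 := by
      have h1 : IsUnit gm.det := (Matrix.isUnit_iff_isUnit_det _).mp g.1.isUnit
      exact h1.ne_zero
    have hne : ∃ a b, gm a b ≠ 0 := by
      by_contra hcon
      push Not at hcon
      have : gm = 0 := by ext a b; exact hcon a b
      rw [this] at hgdet
      have : Nonempty (Fin m ⊕ Fin m) := ⟨Sum.inl ⟨0, by omega⟩⟩
      exact hgdet Matrix.det_zero
    obtain ⟨a₀, b₀, he⟩ := hne
    set e := gm a₀ b₀ with hedef
    have hσe : σ e = c * e := by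
      have := congrFun (congrFun hg a₀) b₀
      simpa using this
    have hfix : ∀ a b, ∃ y : F₀, j y = e⁻¹ * gm a b := by
      intro a b
      rw [hj, map_mul, map_inv₀, hσe]
      have := congrFun (congrFun hg a) b
      simp only [Matrix.map_apply, Matrix.smul_apply, smul_eq_mul] at this
      rw [this]
      have hc0 : (c : F) ≠ 0 := c.ne_zero
      field_simp
    choose H₀ hH₀ using hfix
    set Hm : Matrix (Fin m ⊕ Fin m) (Fin m ⊕ Fin m) F₀ := Matrix.of H₀ with hHm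
    have hHmap : Hm.map ⇑j = e⁻¹ • gm := by
      ext a b
      rw [Matrix.map_apply, Matrix.smul_apply, smul_eq_mul, ← hH₀ a b]
      rfl
    have hHdet : Hm.det ≠ 0 := by
      intro h0
      have h1 : (Hm.map ⇑j).det = 0 := by
        rw [← RingHom.mapMatrix_apply, ← RingHom.map_det, h0, map_zero]
      rw [hHmap, Matrix.det_smul] at h1
      rcases mul_eq_zero.mp h1 with h2 | h2
      · exact (pow_ne_zero _ (inv_ne_zero he)) h2
      · exact hgdet h2
    set Hg : GL (Fin m ⊕ Fin m) F₀ := Matrix.GeneralLinearGroup.mkOfDetNeZero Hm hHdet with hHg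
    have hHgval : (Hg : Matrix (Fin m ⊕ Fin m) (Fin m ⊕ Fin m) F₀) = Hm := rfl
    -- the multiplier
    have hmu := muS_matrix (by omega : 1 ≤ m) g
    rw [← hgm] at hmu
    set ν : F := e⁻¹ * e⁻¹ * (muS (by omega : 1 ≤ m) g : F) with hν
    have hν0 : ν ≠ 0 := mul_ne_zero (mul_ne_zero (inv_ne_zero he) (inv_ne_zero he)) (Units.ne_zero _)
    have hHJ : (Hm.map ⇑j)ᵀ * Matrix.J (Fin m) F * Hm.map ⇑j = ν • Matrix.J (Fin m) F := by
      rw [hHmap, Matrix.transpose_smul, Matrix.smul_mul, Matrix.smul_mul, Matrix.mul_smul, hmu, smul_smul,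
        smul_smul, hν]
    set k₁ : Fin m ⊕ Fin m := Sum.inr ⟨0, by omega⟩ with hk₁
    set k₂ : Fin m ⊕ Fin m := Sum.inl ⟨0, by omega⟩ with hk₂
    set c₀ : F₀ := (Hmᵀ * Matrix.J (Fin m) F₀ * Hm) k₁ k₂ with hc₀
    have hmapJ : (Hmᵀ * Matrix.J (Fin m) F₀ * Hm).map ⇑j = ν • Matrix.J (Fin m) F := by
      rw [Matrix.map_mul, Matrix.map_mul, Matrix.transpose_map, J_map' j, hHJ]
    have hjc₀ : j c₀ = ν := by
      have := congrFun (congrFun hmapJ k₁) k₂
      rw [Matrix.map_apply, Matrix.smul_apply, J_inr_inl (by omega : 1 ≤ m), smul_eq_mul, mul_one] at this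
      exact this
    have hc₀0 : c₀ ≠ 0 := by
      intro h0
      rw [h0, map_zero] at hjc₀
      exact hν0 hjc₀.symm
    have hHJ₀ : Hmᵀ * Matrix.J (Fin m) F₀ * Hm = c₀ • Matrix.J (Fin m) F₀ := by
      ext a b
      apply j.injective
      have h1 := congrFun (congrFun hmapJ a) b
      rw [Matrix.map_apply] at h1
      rw [h1, Matrix.smul_apply, Matrix.smul_apply, smul_eq_mul, smul_eq_mul, map_mul, hjc₀]
      congr 1
      have h2 := congrFun (congrFun (J_map' (m := m) j) a) b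
      rw [Matrix.map_apply] at h2
      exact h2.symm
    have hHmem : Hg ∈ Cfsg.GSp m F₀ := by
      rw [mem_GSp_iff]
      exact ⟨Units.mk0 c₀ hc₀0, hHJ₀⟩
    refine ⟨Units.mk0 e he, ⟨Hg, hHmem⟩, ?_⟩
    apply Subtype.ext
    apply Units.ext
    show gm = ((scalG m (Units.mk0 e he) * inclG m j Hg : GL (Fin m ⊕ Fin m) F) :
      Matrix (Fin m ⊕ Fin m) (Fin m ⊕ Fin m) F)
    rw [Units.val_mul, scalG_val, inclG_val, hHgval, hHmap, Matrix.smul_mul, Matrix.one_mul, smul_smul,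
      Units.val_mk0, mul_inv_cancel₀ he, one_smul]
  · rintro ⟨e, H, rfl⟩
    refine ⟨uσ σ e / e, ?_⟩
    show mapG m σ (scalG m e * inclG m j H.1) = scalG m e * inclG m j H.1 * scalG m (uσ σ e / e)
    rw [map_mul, mapG_scalG, mapG_inclG j σ hjfix, mul_assoc, ← scalG_comm, ← mul_assoc, ← map_mul,
      mul_div_cancel]

end Cfsg.Agent.Lib.Helper16.SPF
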