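import Cfsg.Agent.Lib.Helper16.SPF8

set_option autoImplicit false
set_option linter.unusedSectionVars false
set_option linter.unusedVariables false

namespace Cfsg.Agent.Lib.Helper16.SPF

open Matrix Cfsg.Agent.Lib.helper6 Cfsg.Agent.Lib.helper6.SB Cfsg.Agent.Lib.Helper26
  Cfsg.Agent.Lib.Helper16.SPA Cfsg.Agent.Lib.Helper16.H9

universe u v
variable {F : Type u} [Field F] {m : ℕ} {F₀ : Type v} [Field F₀] [Fintype F]

theorem LamS_range (hm : 2 ≤ m) (σ : RingAut F) (j : F₀ →+* F)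
    (hj : ∀ x, (∃ y, j y = x) ↔ σ x = x) :
    (LamS m j).range = (PhiS m F).range ⊓ Subgroup.centralizer {fieldSHom m F σ} := by
  ext y
  constructor
  · rintro ⟨H, rfl⟩
    refine ⟨⟨inclGSp m j H, rfl⟩, ?_⟩
    have : inclGSp m j H ∈ (Subgroup.centralizer {fieldSHom m F σ}).comap (PhiS m F) := by
      rw [comap_centralizer_fieldS hm σ j hj]
      refine ⟨1, H, ?_⟩
      have : (⟨scalG m (1 : Fˣ), scalG_mem 1⟩ : ↥(Cfsg.GSp m F)) = 1 := Subtype.ext (map_one (scalG m))
      rw [this, one_mul]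
    exact this
  · rintro ⟨⟨g, rfl⟩, hc⟩
    have hg : g ∈ (Subgroup.centralizer {fieldSHom m F σ}).comap (PhiS m F) := hc
    rw [comap_centralizer_fieldS hm σ j hj] at hg
    obtain ⟨e, H, rfl⟩ := hg
    refine ⟨H, ?_⟩
    rw [map_mul, PhiS_scal, one_mul]
    rfl

theorem LamS_ker (hm : 2 ≤ m) (j : F₀ →+* F) :
    (LamS m j).ker = (Cfsg.Geo.scalars (Fin m ⊕ Fin m) F₀).subgroupOf (Cfsg.GSp m F₀) := by
  ext H
  rw [MonoidHom.mem_ker, Subgroup.mem_subgroupOf, Cfsg.Geo.mem_scalars_iff]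
  unfold LamS
  rw [MonoidHom.comp_apply, PhiS_eq_one_iff hm]
  constructor
  · rintro ⟨c, hc⟩
    have hval : (H.1 : Matrix (Fin m ⊕ Fin m) (Fin m ⊕ Fin m) F₀).map ⇑j = (c : F) • 1 := by
      have := congrArg (fun x : GL (Fin m ⊕ Fin m) F => (x : Matrix (Fin m ⊕ Fin m) (Fin m ⊕ Fin m) F)) hc
      simp only [inclGSp_val, inclG_val, scalG_val] at this
      exact this
    set k₀ : Fin m ⊕ Fin m := Sum.inl ⟨0, by omega⟩ with hk₀
    set c₀ : F₀ := (H.1 : Matrix (Fin m ⊕ Fin m) (Fin m ⊕ Fin m) F₀) k₀ k₀ with hc₀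
    have hjc₀ : j c₀ = c := by
      have := congrFun (congrFun hval k₀) k₀
      rw [Matrix.map_apply, Matrix.smul_apply, Matrix.one_apply_eq, smul_eq_mul, mul_one] at this
      exact this
    have hc₀0 : c₀ ≠ 0 := by
      intro h0
      rw [h0, map_zero] at hjc₀
      exact c.ne_zero hjc₀.symm
    refine ⟨Units.mk0 c₀ hc₀0, ?_⟩
    ext a b
    apply j.injective
    have := congrFun (congrFun hval a) b
    rw [Matrix.map_apply] at this
    rw [this, Units.val_mk0, Matrix.smul_apply, Matrix.smul_apply, smul_eq_mul, smul_eq_mul, map_mul, hjc₀]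
    congr 1
    by_cases hab : a = b
    · rw [hab, Matrix.one_apply_eq, Matrix.one_apply_eq, map_one]
    · rw [Matrix.one_apply_ne hab, Matrix.one_apply_ne hab, map_zero]
  · rintro ⟨c, hc⟩
    refine ⟨Units.map j.toMonoidHom c, ?_⟩
    apply Units.ext
    rw [inclGSp_val, inclG_val, scalG_val, hc]
    ext a b
    rw [Matrix.map_apply, Matrix.smul_apply, Matrix.smul_apply, smul_eq_mul, smul_eq_mul, map_mul]
    congr 1
    by_cases hab : a = b
    · rw [hab, Matrix.one_apply_eq, Matrix.one_apply_eq, map_one]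
    · rw [Matrix.one_apply_ne hab, Matrix.one_apply_ne hab, map_zero]

/-- the centraliser of a field automorphism in the inner-diagonal group. -/
noncomputable def centFieldEquivS (hm : 2 ≤ m) (σ : RingAut F) (j : F₀ →+* F)
    (hj : ∀ x, (∃ y, j y = x) ↔ σ x = x) :
    ↥((PhiS m F).range ⊓ Subgroup.centralizer {fieldSHom m F σ}) ≃* Cfsg.PGSp m F₀ :=
  ((MulEquiv.subgroupCongr (LamS_range hm σ j hj).symm).trans
    (QuotientGroup.quotientKerEquivRange (LamS m j)).symm).trans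
    (QuotientGroup.quotientMulEquivOfEq (LamS_ker hm j))

end Cfsg.Agent.Lib.Helper16.SPF
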