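import Mathlib
import Cfsg.Agent.Lib.helper14.SQD.Defs
import Cfsg.Agent.Lib.Helper16.SQDG4core
import Cfsg.Agent.Lib.Helper27.SQDT3

/-!
# SQD row G4b (helper16): `card_levGrp` (verbatim; core + Helper27's T3b `card_uutGL`)
-/

set_option autoImplicit false

namespace Cfsg.Agent.Lib.helper14.SQD

open Cfsg Cfsg.Lie Matrix

universe u v

section G
variable {k : ℕ} {F : Type u} [Field F]

/-- G4b [E-M]. -/
theorem card_levGrp [Fintype F] (τ : F →+* F) :
    Nat.card (levGrp (k := k) τ) = Fintype.card F ^ (k * (k - 1) / 2) :=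
  card_levGrp_core (card_uutGL k) τ

end G

end Cfsg.Agent.Lib.helper14.SQD
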