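import Mathlib
import Cfsg.Prelude.Def_LieTypeChar
import Cfsg.Agent.Lib.helper14.SQD.Defs
import Cfsg.Agent.Lib.helper14.SQD.DefsU
import Cfsg.Agent.Lib.Helper24.SQD.DefsO
import Cfsg.Agent.Lib.Helper25.SQDOP2

/-!
Project SQD = S4625, row OM9 (`emb_lev_mem_iso_minus`, `emb_sieg_mem_iso_minus`), by helper16.
Route: `embGL 2 w` is an isometry of `quadFormMinus` as soon as `w` is an isometry of `quadFormPlus`
(`sqdom9_emb_iso`); the Levi elements are isometries of `quadFormPlus` (`sqdom9_lev_plus`, an own copy of OP1) and so are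
the Siegel elements (helper25's OP2).
-/

set_option autoImplicit false

namespace Cfsg.Agent.Lib.helper14.SQD

open Cfsg Cfsg.Lie Matrix

universe u v

/-- `quadFormMinus` in block coordinates -/
theorem sqdom9_qfm {k : ℕ} {F : Type u} [Field F] (a b : F) (v : (Fin k ⊕ Fin k) ⊕ Fin 2 → F) :
    quadFormMinus k F a b v = quadFormPlus k F (v ∘ Sum.inl) + omQ0 a b (v ∘ Sum.inr) := rfl

/-- an isometry of `quadFormPlus`, embedded, is an isometry of `quadFormMinus` -/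
theorem sqdom9_emb_iso {k : ℕ} {F : Type u} [Field F] (a b : F) (w : GL (Fin k ⊕ Fin k) F)
    (hw : w ∈ isometryGroup F (quadFormPlus k F)) :
    embGL 2 w ∈ isometryGroup F (quadFormMinus k F a b) := by
  rw [sqdop2_mem_iso] at hw ⊢
  intro v
  rw [embGL_coe, Matrix.fromBlocks_mulVec, sqdom9_qfm, sqdom9_qfm]
  have e1 : (Sum.elim ((w : Matrix (Fin k ⊕ Fin k) (Fin k ⊕ Fin k) F) *ᵥ (v ∘ Sum.inl) +
      (0 : Matrix (Fin k ⊕ Fin k) (Fin 2) F) *ᵥ (v ∘ Sum.inr))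
      ((0 : Matrix (Fin 2) (Fin k ⊕ Fin k) F) *ᵥ (v ∘ Sum.inl) + (1 : Matrix (Fin 2) (Fin 2) F) *ᵥ (v ∘ Sum.inr))) ∘ Sum.inl
      = (w : Matrix (Fin k ⊕ Fin k) (Fin k ⊕ Fin k) F) *ᵥ (v ∘ Sum.inl) := by
    funext i
    simp
  have e2 : (Sum.elim ((w : Matrix (Fin k ⊕ Fin k) (Fin k ⊕ Fin k) F) *ᵥ (v ∘ Sum.inl) +
      (0 : Matrix (Fin k ⊕ Fin k) (Fin 2) F) *ᵥ (v ∘ Sum.inr))
      ((0 : Matrix (Fin 2) (Fin k ⊕ Fin k) F) *ᵥ (v ∘ Sum.inl) + (1 : Matrix (Fin 2) (Fin 2) F) *ᵥ (v ∘ Sum.inr))) ∘ Sum.inr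
      = v ∘ Sum.inr := by
    funext i
    simp
  rw [e1, e2, hw]

/-- own copy of OP1: the Levi elements are isometries of `quadFormPlus` -/
theorem sqdom9_lev_plus {k : ℕ} {F : Type u} [Field F] (g : GL (Fin k) F) :
    levHom (RingHom.id F) g ∈ isometryGroup F (quadFormPlus k F) := by
  rw [sqdop2_mem_iso]
  intro v
  rw [levHom_coe, Matrix.fromBlocks_mulVec]
  have hq : ∀ u : Fin k ⊕ Fin k → F, quadFormPlus k F u = (u ∘ Sum.inl) ⬝ᵥ (u ∘ Sum.inr) := fun u => rfl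
  rw [hq, hq]
  have e1 : (Sum.elim ((g : Matrix (Fin k) (Fin k) F) *ᵥ (v ∘ Sum.inl) + (0 : Matrix (Fin k) (Fin k) F) *ᵥ (v ∘ Sum.inr))
      ((0 : Matrix (Fin k) (Fin k) F) *ᵥ (v ∘ Sum.inl) +
        tadj (RingHom.id F) ((g⁻¹ : GL (Fin k) F) : Matrix (Fin k) (Fin k) F) *ᵥ (v ∘ Sum.inr))) ∘ Sum.inl
      = (g : Matrix (Fin k) (Fin k) F) *ᵥ (v ∘ Sum.inl) := by
    funext i
    simp
  have e2 : (Sum.elim ((g : Matrix (Fin k) (Fin k) F) *ᵥ (v ∘ Sum.inl) + (0 : Matrix (Fin k) (Fin k) F) *ᵥ (v ∘ Sum.inr))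
      ((0 : Matrix (Fin k) (Fin k) F) *ᵥ (v ∘ Sum.inl) +
        tadj (RingHom.id F) ((g⁻¹ : GL (Fin k) F) : Matrix (Fin k) (Fin k) F) *ᵥ (v ∘ Sum.inr))) ∘ Sum.inr
      = tadj (RingHom.id F) ((g⁻¹ : GL (Fin k) F) : Matrix (Fin k) (Fin k) F) *ᵥ (v ∘ Sum.inr) := by
    funext i
    simp
  rw [e1, e2]
  have ht : tadj (RingHom.id F) ((g⁻¹ : GL (Fin k) F) : Matrix (Fin k) (Fin k) F) =
      ((g⁻¹ : GL (Fin k) F) : Matrix (Fin k) (Fin k) F)ᵀ := by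
    unfold tadj
    congr 1
  rw [ht]
  -- `(g x) ⬝ᵥ w = x ⬝ᵥ (gᵀ w)`
  have key : ∀ (A : Matrix (Fin k) (Fin k) F) (x w : Fin k → F), (A *ᵥ x) ⬝ᵥ w = x ⬝ᵥ (Aᵀ *ᵥ w) := by
    intro A x w
    rw [Matrix.dotProduct_mulVec, Matrix.vecMul_transpose]
  rw [key, Matrix.mulVec_mulVec, ← Matrix.transpose_mul]
  have hinv : ((g⁻¹ : GL (Fin k) F) : Matrix (Fin k) (Fin k) F) * (g : Matrix (Fin k) (Fin k) F) = 1 := by
    rw [← Units.val_mul, inv_mul_cancel, Units.val_one]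
  rw [hinv, Matrix.transpose_one, Matrix.one_mulVec]

section OM
variable {k : ℕ} {F : Type u} [Field F] (a b : F)

/-- OM9a [M]. As OP1 with one more block (`embGL_coe`). -/
theorem emb_lev_mem_iso_minus (g : GL (Fin k) F) :
    embGL 2 (levHom (RingHom.id F) g) ∈ isometryGroup F (quadFormMinus k F a b) :=
  sqdom9_emb_iso a b _ (sqdom9_lev_plus g)

/-- OM9b [E]. OM8 with `R = 0` (OM6b; `omC a b 0 S` by OA1: `omQ0 a b 0 = 0`). -/
theorem emb_sieg_mem_iso_minus [CharP F 2] (S : Matrix (Fin k) (Fin k) F) (hS : S ∈ altAdd k F) :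
    embGL 2 (siegHom (Multiplicative.ofAdd S)) ∈ isometryGroup F (quadFormMinus k F a b) :=
  sqdom9_emb_iso a b _ (sieg_mem_iso_plus S hS)

end OM

end Cfsg.Agent.Lib.helper14.SQD
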