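import Mathlib
import Cfsg.Prelude.Def_LieTypeChar
import Cfsg.Agent.Lib.helper14.SQD.Defs
import Cfsg.Agent.Lib.helper14.SQD.DefsU
import Cfsg.Agent.Lib.Helper24.SQD.DefsO
import Cfsg.Agent.Lib.Helper16.SQDOM9

/-!
Project SQD = S4625, row OM11 (`omGrp_le_range`), core by helper16: the statement with rows OM10b (`hsO_le_comm`) and
OG2 (`lev_le_comm`, instantiated at `φ = embGL 2`) as hypotheses; OW2 is proved here under an own name.
-/

set_option autoImplicit false

namespace Cfsg.Agent.Lib.helper14.SQD

open Cfsg Cfsg.Lie Matrix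

universe u v

/-- own copy of OW2 -/
theorem sqdom11_range {ι : Type} [Fintype ι] [DecidableEq ι] {F : Type u} [Field F] (Q : (ι → F) → F) :
    (omegaToGL F Q).range = ⁅isometryGroup F Q, isometryGroup F Q⁆ := by
  unfold omegaToGL
  rw [MonoidHom.range_comp, Subgroup.range_subtype]
  show Subgroup.map (isometryGroup F Q).subtype (commutator ↥(isometryGroup F Q)) = _
  rw [commutator_def, Subgroup.map_commutator, ← MonoidHom.range_eq_map, Subgroup.range_subtype]

theorem omGrp_le_range_core {k : ℕ} {F : Type u} [Field F] (a b : F)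
    (hOM10b : hsGrp (RingHom.id F) (omG0 a) (omC (k := k) a b) ≤
      ⁅isometryGroup F (quadFormMinus k F a b), isometryGroup F (quadFormMinus k F a b)⁆)
    (hOG2 : (levGrp (k := k) (RingHom.id F)).map (embGL 2) ≤
      ⁅isometryGroup F (quadFormMinus k F a b), isometryGroup F (quadFormMinus k F a b)⁆) :
    omGrp (k := k) a b ≤ (omegaToGL F (quadFormMinus k F a b)).range := by
  rw [sqdom11_range]
  unfold omGrp
  exact sup_le hOM10b hOG2

end Cfsg.Agent.Lib.helper14.SQD
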