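import Mathlib
import Cfsg.Prelude.Def_LieTypeChar
import Cfsg.Agent.Lib.helper14.SQD.Defs
import Cfsg.Agent.Lib.helper14.SQD.DefsU
import Cfsg.Agent.Lib.Helper24.SQD.DefsO
import Cfsg.Agent.Lib.Helper16.SQDOM9
import Cfsg.Agent.Lib.Helper16.SQDOM11core
import Cfsg.Agent.Lib.Helper22.SQDOM10B
import Cfsg.Agent.Lib.Helper26.SQDOG2

/-!
Project SQD = S4625, row OM11 (`omGrp_le_range`), by helper16: the core applied to the landed rows OM10b, OG2, OM9a.
-/

set_option autoImplicit false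

namespace Cfsg.Agent.Lib.helper14.SQD

open Cfsg Cfsg.Lie Matrix

universe u v

section OM
variable {k : ℕ} {F : Type u} [Field F] (a b : F)

/-- OM11 [E-M]. OW2; `sup_le`, OM10b, OG2 with `φ = embGL 2` (OM9a). -/
theorem omGrp_le_range [CharP F 2] (hk : 3 ≤ k) :
    omGrp (k := k) a b ≤ (omegaToGL F (quadFormMinus k F a b)).range :=
  omGrp_le_range_core a b (hsO_le_comm a b hk)
    (lev_le_comm (embGL 2) _ hk (RingHom.id F) (fun g => emb_lev_mem_iso_minus a b g))

end OM

end Cfsg.Agent.Lib.helper14.SQD
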