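import Mathlib
import Cfsg.Prelude.Def_ChevStructure
import Cfsg.Agent.Lib.helper14.SQD.Defs
import Cfsg.Agent.Lib.helper8.ChevTwU4
import Cfsg.Agent.Lib.Helper29.SQDX3

/-!
# SQD block TW (helper16), rows TW1 `pb_sq`, TW2 `fixUb_eq_closure`, TW3 `sqd_fixUb` (generic part)
-/

set_option autoImplicit false

namespace Cfsg.Agent.Lib.helper14.SQD

open Cfsg Cfsg.Lie Cfsg.Lie.ChevalleyDatum Matrix
open Cfsg.Agent.Lib.helper8

universe u

section TWgen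

variable {K : Type u} [Field K]

/-- a root element is an involution in characteristic 2 -/
theorem sqdtw1_xU_sq [CharP K 2] (D : ChevalleyDatum) (hB : H8Base.{u} D) (r : ℕ) (hr : r < D.nroots)
    (a : K) : (h8xU D hB r a) ^ 2 = 1 := by
  rw [sq, h8xU_add D hB r hr, CharTwo.add_self_eq_zero]
  exact Units.ext (by rw [h8xU_val, hB.zero]; rfl)

/-- the list version of TW1 -/
theorem sqdtw1_list [CharP K 2] (D : ChevalleyDatum) (hB : H8Base.{u} D) (hC : H8CommAll.{u} D)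
    (hBN : H8BN D) (hO2 : H8Ord2 D) (posi : ℕ → ℕ) (hK : H8Blk D posi) (i : ℕ) (t : ℕ → K) :
    ∀ L : List ℕ, (∀ r ∈ L, D.IsPosRoot r ∧ posi r = i) → (h8Pb D hB L t) ^ 2 = 1 := by
  intro L
  induction L with
  | nil =>
    intro _
    rw [h8Pb_nil, one_pow]
  | cons r L ih =>
    intro hL
    have hr := hL r List.mem_cons_self
    have hL' : ∀ s ∈ L, D.IsPosRoot s ∧ posi s = i :=
      fun s hs => hL s (List.mem_cons_of_mem _ hs)
    have hcomm : Commute (h8xU D hB r (t r)) (h8Pb D hB L t) := by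
      unfold h8Pb
      apply Commute.list_prod_right
      intro g hg
      rw [List.mem_map] at hg
      obtain ⟨s, hs, rfl⟩ := hg
      exact h8blk_commute D hB hC hBN hO2 posi hK r s hr.1 (hL' s hs).1
        (hr.2.trans (hL' s hs).2.symm) _ _
    rw [h8Pb_cons, hcomm.mul_pow, sqdtw1_xU_sq D hB r hr.1.1, ih hL', one_mul]

/-- TW1 [E-M]. -/
theorem pb_sq [CharP K 2] (D : ChevalleyDatum) (hB : H8Base.{u} D) (hC : H8CommAll.{u} D) (hBN : H8BN D)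
    (hO2 : H8Ord2 D) (posi : ℕ → ℕ) (hK : H8Blk D posi) (i : ℕ) (t : ℕ → K) :
    (h8Pb D hB (h8Lb D posi i) t) ^ 2 = 1 :=
  sqdtw1_list D hB hC hBN hO2 posi hK i t _ (fun r hr => (h8Lb_mem D posi i r).mp hr)

/-- TW2 [M]. -/
theorem fixUb_eq_closure (D : ChevalleyDatum) (hB : H8Base.{u} D) (hC : H8CommAll.{u} D) (hBN : H8BN D)
    (hO2 : H8Ord2 D) (posi : ℕ → ℕ) (hK : H8Blk D posi) (hR : H8BlkRead D posi)
    (σ τ π ϖ : ℕ → ℕ) (η : ℕ → ℤ) (hAut : H8Aut D σ τ π ϖ η) (f : K ≃+* K)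
    (hσp : ∀ r, D.IsPosRoot r → D.IsPosRoot (σ r) ∧ posi (σ r) = posi r)
    (M : ℕ) (hM : ∀ r, D.IsPosRoot r → posi r < M) :
    h8FixUb D posi σ τ π ϖ η hAut f 0 =
      Subgroup.closure {g : GL D.Idx K | ∃ i < M, ∃ t : ℕ → K,
        (∀ k ∈ h8Lb D posi i, h8tS τ η f t k = t k) ∧ g = h8Pb D hB (h8Lb D posi i) t} := by
  apply le_antisymm
  · intro g hg
    obtain ⟨hg1, hg2⟩ := (h8FixUb_mem D posi σ τ π ϖ η hAut f 0 g).mp hg
    exact h8tw_U_le D hB hC hBN hO2 posi hK hR σ τ π ϖ η hAut f hσp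
      (Subgroup.closure {g : GL D.Idx K | ∃ i < M, ∃ t : ℕ → K,
        (∀ k ∈ h8Lb D posi i, h8tS τ η f t k = t k) ∧ g = h8Pb D hB (h8Lb D posi i) t}) M hM
      (fun i hi t ht => Subgroup.subset_closure ⟨i, hi, t, ht, rfl⟩) M 0 (Nat.zero_add M) g hg1 hg2
  · rw [Subgroup.closure_le]
    rintro g ⟨i, _, t, ht, rfl⟩
    rw [SetLike.mem_coe, h8FixUb_mem]
    refine ⟨h8Pb_mem_Ub D hB posi 0 _ (fun r hr =>
      ⟨((h8Lb_mem D posi i r).mp hr).1, Nat.zero_le _⟩) t, ?_⟩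
    exact (h8Sig_fix_Pb_iff D hB hC hBN hO2 posi hK hR σ τ π ϖ η hAut f hσp i t).mpr ht

/-- TW3 [E]. -/
theorem sqd_fixUb [CharP K 2] (D : ChevalleyDatum) (hB : H8Base.{u} D) (hC : H8CommAll.{u} D) (hBN : H8BN D)
    (hO2 : H8Ord2 D) (posi : ℕ → ℕ) (hK : H8Blk D posi) (hR : H8BlkRead D posi)
    (σ τ π ϖ : ℕ → ℕ) (η : ℕ → ℤ) (hAut : H8Aut D σ τ π ϖ η) (f : K ≃+* K)
    (hσp : ∀ r, D.IsPosRoot r → D.IsPosRoot (σ r) ∧ posi (σ r) = posi r)
    (M : ℕ) (hM : ∀ r, D.IsPosRoot r → posi r < M) :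
    SqD (h8FixUb D posi σ τ π ϖ η hAut f 0) := by
  apply sqd_of_invol _ _
    (fixUb_eq_closure D hB hC hBN hO2 posi hK hR σ τ π ϖ η hAut f hσp M hM)
  rintro s ⟨i, _, t, _, rfl⟩
  exact pb_sq D hB hC hBN hO2 posi hK i t

end TWgen

end Cfsg.Agent.Lib.helper14.SQD
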