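import Mathlib
import Cfsg.Prelude.Def_ChevStructure
import Cfsg.Prelude.Def_LieTwisted
import Cfsg.Agent.Lib.helper14.SQD.Defs
import Cfsg.Agent.Lib.helper8.ChevTwD4U
import Cfsg.Agent.Lib.helper8.ChevTwE6U
import Cfsg.Agent.Lib.Helper16.SQDTW1

/-!
# SQD block TW (helper16), cores of TW6 `sqd_tw_d4` and TW7 `sqd_tw_e6` (statements of TW4 / TW5 as hypotheses)
-/

set_option autoImplicit false

namespace Cfsg.Agent.Lib.helper14.SQD

open Cfsg Cfsg.Lie Cfsg.Lie.ChevalleyDatum Matrix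
open Cfsg.Agent.Lib.helper8

universe u

section TWgrp

variable {K : Type u} [Field K]

/-- TW6 core: the statement of TW4 (`tw_d4_U_eq`) as a hypothesis. -/
theorem sqd_tw_d4_core
    (hTW4 : ∀ (hB : H8Base.{u} chevD4) (hC : H8CommAll.{u} chevD4)
      (hA : H8ReflAll chevD4) (hBN : H8BN chevD4) (hO2 : H8Ord2 chevD4) (q : ℕ) (f : K ≃+* K)
      (_ : ∀ t, f t = t ^ q) (_ : ∀ t, f (f (f t)) = t) (_ : (-1 : K) ^ q = -1),
      chevD4.posUnipotent K ⊓ twistedD4 K q =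
        h8FixUb chevD4 h8posiD4 h8sD4 h8tD4 h8pD4 h8qD4 h8eD4 (h8autD4 hA) f 0)
    [Fintype K] [CharP K 2] (q : ℕ) (hq : IsPrimePow q) (hKc : Fintype.card K = q ^ 3) :
    SqD (chevD4.posUnipotent K ⊓ twistedD4 K q) := by
  have hD : chevD4 ∈ [chevG2, chevB2, chevD4, chevF4, chevE6, chevE7, chevE8] := by simp
  have hB := h8base_all.{u} chevD4 hD
  have hA := h8reflAll chevD4 hD
  have hC := h8commAll.{u} chevD4 hD
  have hBN := h8bn_all chevD4 hD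
  obtain ⟨hO, hO2⟩ := h8ord_all chevD4 hD
  obtain ⟨f, hf, hfff3, hneg⟩ := h8frob_exists hq 3 (by norm_num) hKc
  have hfff : ∀ t, f (f (f t)) = t := fun t => hfff3 t
  have hσp : ∀ r, chevD4.IsPosRoot r →
      chevD4.IsPosRoot (h8sD4 r) ∧ h8posiD4 (h8sD4 r) = h8posiD4 r :=
    fun r hr => ⟨(h8uD4_sig1 r hr.1 hr).1, (h8uD4_sig1 r hr.1 hr).2.1⟩
  have hM : ∀ r, chevD4.IsPosRoot r → h8posiD4 r < 6 := fun r hr => (h8uD4_sig1 r hr.1 hr).2.2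
  rw [hTW4 hB hC hA hBN hO2 q f hf hfff hneg]
  exact sqd_fixUb chevD4 hB hC hBN hO2 h8posiD4 h8uD4_blk h8uD4_read h8sD4 h8tD4 h8pD4 h8qD4
    h8eD4 (h8autD4 hA) f hσp 6 hM

/-- TW7 core: the statement of TW5 (`tw_e6_U_eq`) as a hypothesis. -/
theorem sqd_tw_e6_core
    (hTW5 : ∀ (hB : H8Base.{u} chevE6) (hC : H8CommAll.{u} chevE6)
      (hA : H8ReflAll chevE6) (hBN : H8BN chevE6) (hO2 : H8Ord2 chevE6) (q : ℕ) (f : K ≃+* K)
      (_ : ∀ t, f t = t ^ q) (_ : ∀ t, f (f t) = t) (_ : (-1 : K) ^ q = -1),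
      chevE6.posUnipotent K ⊓ twistedE6 K q =
        h8FixUb chevE6 h8posiE6 h8sE6 h8tE6 h8pE6 h8qE6 h8eE6 (h8autE6 hA) f 0)
    [Fintype K] [CharP K 2] (q : ℕ) (hq : IsPrimePow q) (hKc : Fintype.card K = q ^ 2) :
    SqD (chevE6.posUnipotent K ⊓ twistedE6 K q) := by
  have hD : chevE6 ∈ [chevG2, chevB2, chevD4, chevF4, chevE6, chevE7, chevE8] := by simp
  have hB := h8base_all.{u} chevE6 hD
  have hA := h8reflAll chevE6 hD
  have hC := h8commAll.{u} chevE6 hD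
  have hBN := h8bn_all chevE6 hD
  obtain ⟨hO, hO2⟩ := h8ord_all chevE6 hD
  obtain ⟨f, hf, hff2, hneg⟩ := h8frob_exists hq 2 (by norm_num) hKc
  have hff : ∀ t, f (f t) = t := fun t => hff2 t
  have hσp : ∀ r, chevE6.IsPosRoot r →
      chevE6.IsPosRoot (h8sE6 r) ∧ h8posiE6 (h8sE6 r) = h8posiE6 r :=
    fun r hr => ⟨(h8uE6_sig1 r hr.1 hr).1, (h8uE6_sig1 r hr.1 hr).2.1⟩
  have hM : ∀ r, chevE6.IsPosRoot r → h8posiE6 r < 24 := fun r hr => (h8uE6_sig1 r hr.1 hr).2.2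
  rw [hTW5 hB hC hA hBN hO2 q f hf hff hneg]
  exact sqd_fixUb chevE6 hB hC hBN hO2 h8posiE6 h8uE6_blk h8uE6_read h8sE6 h8tE6 h8pE6 h8qE6
    h8eE6 (h8autE6 hA) f hσp 24 hM

end TWgrp

end Cfsg.Agent.Lib.helper14.SQD
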