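import Mathlib
import Cfsg.Prelude.Def_ChevStructure
import Cfsg.Prelude.Def_LieTwisted
import Cfsg.Agent.Lib.helper14.SQD.Defs
import Cfsg.Agent.Lib.helper8.ChevTwD4U
import Cfsg.Agent.Lib.helper8.ChevTwE6U
import Cfsg.Agent.Lib.Helper18.SQDX7
import Cfsg.Agent.Lib.Helper27.SQDX12
import Cfsg.Agent.S1066
import Cfsg.Agent.S1067

/-!
# SQD block TW (helper16), cores of the family targets FAM8 `good2_tw_d4` and FAM7 `good2_tw_e6`

Hypotheses: `SqD U¹` (rows TW6 / TW7), `q = 2 ^ e` (TW8), oddness of the cofactor (TW9 / TW10).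
-/

set_option autoImplicit false

namespace Cfsg.Agent.Lib.helper14.SQD

open Cfsg Cfsg.Lie Cfsg.Lie.ChevalleyDatum Matrix
open Cfsg.Agent.Lib.helper8

universe u

/-- FAM8 core -/
theorem good2_tw_d4_core {K : Type u} [Field K] [Fintype K] (q : ℕ) (hq : IsPrimePow q)
    (hK : Fintype.card K = q ^ 3)
    (hSq : SqD (chevD4.posUnipotent K ⊓ twistedD4 K q))
    (hpow : ∃ e, 1 ≤ e ∧ q = 2 ^ e)
    (hodd : ¬ 2 ∣ (q ^ 2 - 1) * (q ^ 6 - 1) * (q ^ 8 + q ^ 4 + 1)) :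
    Good2 (twistedD4 K q) := by
  obtain ⟨e, _, he⟩ := hpow
  have hU : Nat.card ↥(chevD4.posUnipotent K ⊓ twistedD4 K q) = 2 ^ (e * 12) := by
    rw [h8twD4_U_card hq hK, he, ← pow_mul]
  have hp : IsPGroup 2 ↥(chevD4.posUnipotent K ⊓ twistedD4 K q) := IsPGroup.of_card hU
  have hM : Nat.card ↥(twistedD4 K q) =
      2 ^ (e * 12) * ((q ^ 2 - 1) * (q ^ 6 - 1) * (q ^ 8 + q ^ 4 + 1)) := by
    rw [Cfsg.Agent.S1067.result hq hK, pow_mul, ← he]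
    ring
  exact good2_sub (twistedD4 K q) (chevD4.posUnipotent K ⊓ twistedD4 K q) inf_le_right (e * 12) _
    hp (le_of_eq hU.symm) hM hodd hSq

/-- FAM7 core -/
theorem good2_tw_e6_core {K : Type u} [Field K] [Fintype K] (q : ℕ) (hq : IsPrimePow q)
    (hK : Fintype.card K = q ^ 2)
    (hSq : SqD (chevE6.posUnipotent K ⊓ twistedE6 K q))
    (hpow : ∃ e, 1 ≤ e ∧ q = 2 ^ e)
    (hodd : ¬ 2 ∣ (q ^ 2 - 1) * (q ^ 5 + 1) * (q ^ 6 - 1) * (q ^ 8 - 1) * (q ^ 9 + 1) * (q ^ 12 - 1) ∧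
      ¬ 2 ∣ Nat.gcd 3 (q + 1)) :
    Good2 (twistedE6 K q) := by
  obtain ⟨e, _, he⟩ := hpow
  have hU : Nat.card ↥(chevE6.posUnipotent K ⊓ twistedE6 K q) = 2 ^ (e * 36) := by
    rw [h8twE6_U_card hq hK, he, ← pow_mul]
  have hp : IsPGroup 2 ↥(chevE6.posUnipotent K ⊓ twistedE6 K q) := IsPGroup.of_card hU
  have hd : Nat.gcd 3 (q + 1) * Nat.card ↥(twistedE6 K q) = (2 ^ e) ^ 36 *
      ((q ^ 2 - 1) * (q ^ 5 + 1) * (q ^ 6 - 1) * (q ^ 8 - 1) * (q ^ 9 + 1) * (q ^ 12 - 1)) := by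
    rw [Cfsg.Agent.S1066.result hq hK, ← he]
    ring
  obtain ⟨r, hr, hro⟩ := two_part_of_formula e 36 _ _ _ Nat.card_pos hd hodd.2 hodd.1
  exact good2_sub (twistedE6 K q) (chevE6.posUnipotent K ⊓ twistedE6 K q) inf_le_right (e * 36) r
    hp (le_of_eq hU.symm) hr hro hSq

end Cfsg.Agent.Lib.helper14.SQD
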