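import Mathlib
import Cfsg.Agent.Lib.Helper16.SQDTW6core
import Cfsg.Agent.Lib.Helper16.SQDTWFcore
import Cfsg.Agent.Lib.helper8.SQDTW4
import Cfsg.Agent.Lib.helper8.SQDTW5
import Cfsg.Agent.Lib.Helper20.SQDTW8
import Cfsg.Agent.Lib.Helper22.SQDTW10

/-!
# SQD block TW (helper16): rows TW6 `sqd_tw_d4`, TW7 `sqd_tw_e6` and the family targets FAM8 `good2_tw_d4`, FAM7 `good2_tw_e6` (verbatim)
-/

set_option autoImplicit false

namespace Cfsg.Agent.Lib.helper14.SQD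

open Cfsg Cfsg.Lie Cfsg.Lie.ChevalleyDatum Matrix
open Cfsg.Agent.Lib.helper8

universe u

section TWgrp

variable {K : Type u} [Field K]

/-- TW6 [M]. -/
theorem sqd_tw_d4 [Fintype K] [CharP K 2] (q : ℕ) (hq : IsPrimePow q) (hKc : Fintype.card K = q ^ 3) :
    SqD (chevD4.posUnipotent K ⊓ twistedD4 K q) :=
  sqd_tw_d4_core (fun hB hC hA hBN hO2 q f hf hfff hneg => tw_d4_U_eq hB hC hA hBN hO2 q f hf hfff hneg)
    q hq hKc

/-- TW7 [M]. -/
theorem sqd_tw_e6 [Fintype K] [CharP K 2] (q : ℕ) (hq : IsPrimePow q) (hKc : Fintype.card K = q ^ 2) :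
    SqD (chevE6.posUnipotent K ⊓ twistedE6 K q) :=
  sqd_tw_e6_core (fun hB hC hA hBN hO2 q f hf hff hneg => tw_e6_U_eq hB hC hA hBN hO2 q f hf hff hneg)
    q hq hKc

end TWgrp

/-- `q = 2 ^ e`, `1 ≤ e` is even and positive -/
theorem sqdtwf_even (q : ℕ) (h : ∃ e, 1 ≤ e ∧ q = 2 ^ e) : 2 ∣ q ∧ 0 < q := by
  obtain ⟨e, he, rfl⟩ := h
  exact ⟨dvd_pow_self 2 (by omega), pow_pos (by norm_num) e⟩

/-- FAM8 [M]. -/
theorem good2_tw_d4 {K : Type} [Field K] [Fintype K] [CharP K 2] (q : ℕ) (hq : IsPrimePow q)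
    (hK : Fintype.card K = q ^ 3) : Good2 (twistedD4 K q) := by
  have hpow := two_pow_of_card (K := K) q 3 (by norm_num) hK
  obtain ⟨h2, h0⟩ := sqdtwf_even q hpow
  exact good2_tw_d4_core q hq hK (sqd_tw_d4 q hq hK) hpow (odd_d4 q h2 h0)

/-- FAM7 [M]. -/
theorem good2_tw_e6 {K : Type} [Field K] [Fintype K] [CharP K 2] (q : ℕ) (hq : IsPrimePow q)
    (hK : Fintype.card K = q ^ 2) : Good2 (twistedE6 K q) := by
  have hpow := two_pow_of_card (K := K) q 2 (by norm_num) hK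
  obtain ⟨h2, h0⟩ := sqdtwf_even q hpow
  exact good2_tw_e6_core q hq hK (sqd_tw_e6 q hq hK) hpow (odd_e6 q h2 h0)

end Cfsg.Agent.Lib.helper14.SQD
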