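import Mathlib
import Cfsg.Prelude.Def_LieTypeChar
import Cfsg.Agent.Lib.helper14.SQD.Defs

/-!
# SQD row UFIN (helper16), core of FAM3 `good2_psu`: the statements of UE11 (`good2_psu_even`) and UO9 (`good2_psu_odd`) as hypotheses
-/

set_option autoImplicit false

namespace Cfsg.Agent.Lib.helper14.SQD

open Cfsg Cfsg.Lie Matrix

universe u

/-- a finite field of characteristic 2 with `q ^ n` elements (`n ≠ 0`) has `q = 2 ^ e`, `e ≥ 1` (the statement of row TW8, own copy) -/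
theorem sqdufin_two_pow {K : Type u} [Field K] [Fintype K] [CharP K 2] (q n : ℕ) (hn : n ≠ 0)
    (hK : Fintype.card K = q ^ n) : ∃ e, 1 ≤ e ∧ q = 2 ^ e := by
  obtain ⟨m, _, hm⟩ := FiniteField.card K 2
  have hdvd : q ∣ 2 ^ (m : ℕ) := by
    rw [← hm, hK]
    exact dvd_pow_self q hn
  obtain ⟨e, _, he⟩ := (Nat.dvd_prime_pow Nat.prime_two).1 hdvd
  refine ⟨e, ?_, he⟩
  by_contra h0
  have he0 : e = 0 := by omega
  rw [he0, pow_zero] at he
  have h1 : 1 < Fintype.card K := Fintype.one_lt_card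
  rw [hK, he, one_pow] at h1
  exact lt_irrefl _ h1

/-- FAM3 core -/
theorem good2_psu_core {F : Type} [Field F] [Fintype F] [CharP F 2]
    (hUE11 : ∀ e : ℕ, Fintype.card F = (2 ^ e) ^ 2 → ∀ k : ℕ, 1 ≤ k → Good2 (PSU (k + k) F (2 ^ e)))
    (hUO9 : ∀ e : ℕ, Fintype.card F = (2 ^ e) ^ 2 → ∀ k : ℕ, 1 ≤ k →
      Good2 (PSU (k + k + 1) F (2 ^ e)))
    (n q : ℕ) (hF : Fintype.card F = q ^ 2) (hn : 3 ≤ n) : Good2 (PSU n F q) := by
  obtain ⟨e, _, rfl⟩ := sqdufin_two_pow (K := F) q 2 (by norm_num) hF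
  rcases Nat.even_or_odd' n with ⟨k, rfl | rfl⟩
  · rw [two_mul]
    exact hUE11 e hF k (by omega)
  · rw [two_mul]
    exact hUO9 e hF k (by omega)

end Cfsg.Agent.Lib.helper14.SQD
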