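import Mathlib
import Cfsg.Agent.Lib.Helper16.OM38

set_option autoImplicit false
set_option linter.unusedSectionVars false
set_option linter.unusedVariables false

namespace Cfsg.Agent.Lib.Helper16.SS

open Matrix Module Cfsg.Agent.Lib.Lead Cfsg.Agent.Lib.Lead.OA Cfsg.Agent.Lib.Helper16
  Cfsg.Agent.Lib.Helper16.OA Cfsg.Agent.Lib.Helper16.OL Cfsg.Agent.Lib.Helper16.PSC
  Cfsg.Agent.Lib.Lead.OAP

universe u v

section grp

variable {G : Type*} [Group G]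

/-- if every element of `H` is a product of an element of `K` and an element commuting with `x`,
then `H`-conjugates of `x` are `K`-conjugates. -/
theorem conjUnder_of_cover (H K : Subgroup G) (x : G)
    (hcov : ∀ h ∈ H, ∃ k ∈ K, ∃ z : G, z * x = x * z ∧ h = k * z) (y : G)
    (hy : Cfsg.IsConjUnder H x y) : Cfsg.IsConjUnder K x y := by
  obtain ⟨h, hh, rfl⟩ := hy
  obtain ⟨k, hk, z, hz, rfl⟩ := hcov h hh
  refine ⟨k, hk, ?_⟩
  have : z * x * z⁻¹ = x := by rw [hz, mul_inv_cancel_right]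
  calc k * z * x * (k * z)⁻¹ = k * (z * x * z⁻¹) * k⁻¹ := by group
    _ = k * x * k⁻¹ := by rw [this]

theorem conjUnder_mono (H K : Subgroup G) (hKH : K ≤ H) (x y : G)
    (hy : Cfsg.IsConjUnder K x y) : Cfsg.IsConjUnder H x y := by
  obtain ⟨h, hh, rfl⟩ := hy
  exact ⟨h, hKH hh, rfl⟩

/-- a cover from a nonsquare element of a quotient in which nonsquares generate -/
theorem cover_of_nonsq (D K : Subgroup G) (hKD : K ≤ D)
    {A : Type*} [Group A] (hA : ∀ y : A, (∀ t, y ≠ t * t) → ∀ z, ∃ k : ℕ, z = y ^ k)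
    (φ : ↥D →* A) (hsurj : Function.Surjective φ) (hker : φ.ker = K.subgroupOf D)
    (δ₀ : G) (hδ₀D : δ₀ ∈ D) (hns : ∀ κ ∈ K, ∀ ε ∈ D, δ₀ ≠ κ * (ε * ε)) :
    ∀ δ ∈ D, ∃ κ ∈ K, ∃ k : ℕ, δ = κ * δ₀ ^ k := by
  set d₀ : ↥D := ⟨δ₀, hδ₀D⟩ with hd₀
  have hnsq : ∀ t, φ d₀ ≠ t * t := by
    intro t ht
    obtain ⟨ε, rfl⟩ := hsurj t
    have h1 : d₀ * (ε * ε)⁻¹ ∈ φ.ker := by
      rw [MonoidHom.mem_ker, map_mul, map_inv, map_mul, ht, mul_inv_cancel]
    rw [hker, Subgroup.mem_subgroupOf] at h1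
    apply hns _ h1 (ε : G) ε.2
    show δ₀ = ((d₀ * (ε * ε)⁻¹ : ↥D) : G) * ((ε : G) * (ε : G))
    rw [Subgroup.coe_mul, Subgroup.coe_inv, Subgroup.coe_mul]
    show δ₀ = δ₀ * _ * _
    group
  intro δ hδ
  obtain ⟨k, hk⟩ := hA (φ d₀) hnsq (φ ⟨δ, hδ⟩)
  have h1 : (⟨δ, hδ⟩ : ↥D) * (d₀ ^ k)⁻¹ ∈ φ.ker := by
    rw [MonoidHom.mem_ker, map_mul, map_inv, map_pow, hk, mul_inv_cancel]
  rw [hker, Subgroup.mem_subgroupOf] at h1
  refine ⟨_, h1, k, ?_⟩
  rw [Subgroup.coe_mul, Subgroup.coe_inv, Subgroup.coe_pow]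
  show δ = δ * (δ₀ ^ k)⁻¹ * δ₀ ^ k
  group

end grp

section lift

variable {ι : Type} [Fintype ι] [DecidableEq ι] {F : Type u} [Field F] [Fintype F]
variable (Q : QuadraticForm F (ι → F))

/-- an automorphism of odd order in the image of the similarity group lifts to an isometry of the
same odd order -/
theorem lift_odd_order (h2 : (2 : F) ≠ 0) (hQ : (QuadraticMap.polarBilin Q).Nondegenerate)
    (hn : 4 ≤ Fintype.card ι) (hne : ∃ v, Q v ≠ 0)
    (x : MulAut (Cfsg.POmega F (⇑Q : (ι → F) → F)))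
    (hx : x ∈ Cfsg.pgoAut F (⇑Q : (ι → F) → F)) (r : ℕ) (hrodd : Odd r) (hxr : x ^ r = 1) :
    ∃ h : ↥(Cfsg.isometryGroup F (⇑Q : (ι → F) → F)), c0 Q h = x ∧ h ^ r = 1 := by
  rw [pgoAut_eq] at hx
  obtain ⟨g₀, rfl⟩ := hx
  obtain ⟨k, hk⟩ := hrodd
  have h1 : g₀ ^ r ∈ (cHom (⇑Q : (ι → F) → F)).ker := by
    rw [MonoidHom.mem_ker, map_pow]; exact hxr
  obtain ⟨z, hz⟩ := scal_of_ker Q h2 hQ hn _ h1
  set μ : Fˣ := mult Q g₀ with hμ
  have hμr : μ ^ r = z * z := by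
    have : multHom Q hne (g₀ ^ r) = multHom Q hne (scalGO Q z) := by rw [hz]
    rw [map_pow] at this
    exact this.trans (mult_scalGO Q hne z)
  set w : Fˣ := z * (μ ^ k)⁻¹ with hw
  have hww : w * w = μ := by
    rw [hw]
    have : μ ^ r = μ ^ k * μ ^ k * μ := by rw [hk, pow_succ, two_mul, pow_add]
    calc z * (μ ^ k)⁻¹ * (z * (μ ^ k)⁻¹) = (z * z) * ((μ ^ k)⁻¹ * (μ ^ k)⁻¹) := by
          rw [mul_mul_mul_comm]
      _ = μ := by rw [← hμr, this]; group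
  set g₁ : ↥(GOq Q) := scalGO Q w⁻¹ * g₀ with hg₁
  have hg₁m : mult Q g₁ = 1 := by
    have : multHom Q hne g₁ = multHom Q hne (scalGO Q w⁻¹) * multHom Q hne g₀ := map_mul _ _ _
    show multHom Q hne g₁ = 1
    rw [this]
    show mult Q (scalGO Q w⁻¹) * μ = 1
    rw [mult_scalGO Q hne, ← hww]; group
  have hg₁iso := (mult_eq_one_iff Q hne g₁).mp hg₁m
  set h₁ : ↥(Cfsg.isometryGroup F (⇑Q : (ι → F) → F)) := ⟨(g₁ : GL ι F), hg₁iso⟩ with hh₁
  have hh₁g : isoToGO Q h₁ = g₁ := Subtype.ext rfl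
  have hc : c0 Q h₁ = cHom (⇑Q : (ι → F) → F) g₀ := by
    rw [c0_apply, hh₁g, hg₁, map_mul, scal_mem_ker Q h2 hQ hn, one_mul]
  have hker : h₁ ^ r ∈ (c0 Q).ker := by
    rw [MonoidHom.mem_ker, map_pow, hc]; exact hxr
  rcases (c0_ker_iff Q h2 hQ hn _).mp hker with h | h
  · exact ⟨h₁, hc, h⟩
  · refine ⟨negI Q * h₁, ?_, ?_⟩
    · rw [map_mul, hc]
      have : negI Q ∈ (c0 Q).ker := (c0_ker_iff Q h2 hQ hn _).mpr (Or.inr rfl)
      rw [MonoidHom.mem_ker.mp this, one_mul]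
    · have hcomm : Commute (negI Q) h₁ := by
        apply Subtype.ext
        apply Units.ext
        show ((negI Q : ↥(Cfsg.isometryGroup F (⇑Q : (ι → F) → F))) : GL ι F).val *
          (h₁ : GL ι F).val = (h₁ : GL ι F).val * ((negI Q : ↥(Cfsg.isometryGroup F (⇑Q : (ι → F) → F))) : GL ι F).val
        rw [negI_coe, neg_mul, one_mul, mul_neg, mul_one]
      rw [hcomm.mul_pow, h]
      have hnn : negI Q * negI Q = 1 := by
        apply Subtype.ext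
        apply Units.ext
        show ((negI Q : ↥(Cfsg.isometryGroup F (⇑Q : (ι → F) → F))) : GL ι F).val *
          ((negI Q : ↥(Cfsg.isometryGroup F (⇑Q : (ι → F) → F))) : GL ι F).val = 1
        rw [negI_coe, neg_mul_neg, one_mul]
      rw [hk, pow_succ, pow_mul, pow_two, hnn, one_pow, one_mul, hnn]

end lift

end Cfsg.Agent.Lib.Helper16.SS
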