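import Mathlib
import Cfsg.Agent.Lib.Helper16.OM38
import Cfsg.Agent.Lib.Helper16.GS6
import Cfsg.Agent.Lib.Helper16.OSemi1
import Cfsg.Agent.Lib.Helper16.SS1

set_option autoImplicit false
set_option linter.unusedSectionVars false
set_option linter.unusedVariables false

namespace Cfsg.Agent.Lib.Helper16.SS

open Matrix Module Cfsg.Agent.Lib.Lead Cfsg.Agent.Lib.Lead.OA Cfsg.Agent.Lib.Helper16
  Cfsg.Agent.Lib.Helper16.OA Cfsg.Agent.Lib.Helper16.OL Cfsg.Agent.Lib.Helper16.PSC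
  Cfsg.Agent.Lib.Lead.OAP Cfsg.Agent.Lib.Helper16.PG

universe u v

section alt

variable {ι : Type} [Fintype ι] [DecidableEq ι] {F : Type u} [Field F]

/-- an alternating invertible Gram matrix is the pull-back of the standard symplectic form. -/
theorem exists_sympl_equiv_idx {m : ℕ} (hcard : Fintype.card ι = 2 * m) (U Ui : Matrix ι ι F)
    (hUi : U * Ui = 1)
    (halt : ∀ v, bilM U v v = 0) :
    ∃ T : (ι → F) ≃ₗ[F] (Fin m ⊕ Fin m → F),
      ∀ u v, bilM U u v = Cfsg.sympForm m F (T u) (T v) := by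
  set ω : LinearMap.BilinForm F (ι → F) := Matrix.toBilin' U with hω
  have hωapp : ∀ u v, ω u v = bilM U u v := by
    intro u v
    rw [hω, Matrix.toBilin'_apply']
    rfl
  have hωalt : ω.IsAlt := by
    intro v
    rw [hωapp]; exact halt v
  have hleft : ∀ u, (∀ v, ω u v = 0) → u = 0 := by
    intro u hu
    have h3 : Matrix.vecMul u U = 0 := by
      funext j
      have := hu (Pi.single j 1)
      rw [hωapp] at this
      unfold bilM at this
      rw [Matrix.dotProduct_mulVec] at this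
      simpa using this
    have h4 : Matrix.vecMul (Matrix.vecMul u U) Ui = 0 := by
      rw [h3, Matrix.zero_vecMul]
    rw [Matrix.vecMul_vecMul, hUi, Matrix.vecMul_one] at h4
    exact h4
  have hωnd : ω.Nondegenerate := by
    refine ⟨hleft, ?_⟩
    intro v hv
    apply hleft
    intro u
    rw [← hωalt.neg_eq, hv u, neg_zero]
  have hV : finrank F (ι → F) = 2 * m := by
    rw [Module.finrank_fintype_fun_eq_card, hcard]
  obtain ⟨b, hb⟩ := symplectic_basis hV ω hωalt hωnd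
  refine ⟨b.equivFun, ?_⟩
  intro u v
  rw [← hωapp, LinearMap.BilinForm.apply_eq_dotProduct_toMatrix_mulVec b ω u v, hb]
  rfl

/-- the determinant of a similitude of an alternating form is a power of the multiplier -/
theorem det_sim_alt_idx {m : ℕ} (hcard : Fintype.card ι = 2 * m) (U Ui : Matrix ι ι F)
    (hUi : U * Ui = 1) (halt : ∀ v, bilM U v v = 0) (h : GL ι F) (c : Fˣ)
    (hc : (h : Matrix ι ι F)ᵀ * U * (h : Matrix ι ι F) = (c : F) • U) :
    Matrix.GeneralLinearGroup.det h = c ^ m := by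
  obtain ⟨T, hT⟩ := exists_sympl_equiv_idx hcard U Ui hUi halt
  obtain ⟨h', hh', hdet⟩ := GS.exists_conj_sim (bilM U) (Cfsg.sympForm m F) T.symm 1
    one_ne_zero (by
      intro u v
      rw [hT, LinearEquiv.apply_symm_apply, LinearEquiv.apply_symm_apply, one_mul]) h (c : F)
    ((GS.simM_iff_explicit _ _ _).mpr hc)
  rw [← hdet]
  apply GS.det_of_sympl_sim m h' c
  rw [GS.sympForm_eq_bilM] at hh'
  exact (GS.simM_iff_explicit _ _ _).mp hh'

end alt

section cent

variable {ι : Type} [Fintype ι] [DecidableEq ι] {F : Type u} [Field F] [Fintype F]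
variable (Q : QuadraticForm F (ι → F))

theorem isoPow_coe (g : ↥(Cfsg.isometryGroup F (⇑Q : (ι → F) → F))) (N : ℕ) :
    (((g ^ N : ↥(Cfsg.isometryGroup F (⇑Q : (ι → F) → F))) : GL ι F) : Matrix ι ι F) =
      ((g : GL ι F) : Matrix ι ι F) ^ N := by
  rw [Subgroup.coe_pow, Units.val_pow_eq_pow_val]

/-- Step B: twisting a similitude by an isometry to make it commute with a semisimple isometry of
odd order -/
theorem exists_sim_commute (hQ : (QuadraticMap.polarBilin Q).Nondegenerate)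
    (hne : ∃ v, Q v ≠ 0)
    (g : ↥(Cfsg.isometryGroup F (⇑Q : (ι → F) → F))) (N : ℕ) (hNodd : Odd N) (hN : (N : F) ≠ 0)
    (hgN : g ^ N = 1) (d₀ : ↥(GOq Q)) :
    ∃ o : ↥(Cfsg.isometryGroup F (⇑Q : (ι → F) → F)),
      ((isoToGO Q o)⁻¹ * d₀) * isoToGO Q g = isoToGO Q g * ((isoToGO Q o)⁻¹ * d₀) := by
  set G : ↥(GOq Q) := isoToGO Q g with hG
  set b : ↥(GOq Q) := d₀ * G * d₀⁻¹ with hb
  have hbm : mult Q b = 1 := by
    show multHom Q hne b = 1
    rw [hb, map_mul, map_mul, map_inv]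
    have : multHom Q hne G = 1 := mult_iso Q hne g
    rw [this, mul_one, mul_inv_cancel]
  have hbiso := (mult_eq_one_iff Q hne b).mp hbm
  have hAQ : ∀ x, Q (((g : GL ι F) : Matrix ι ι F) *ᵥ x) = Q x := (mem_iso_iff' _ _).mp g.2
  have hBQ : ∀ x, Q (((b : GL ι F) : Matrix ι ι F) *ᵥ x) = Q x := (mem_iso_iff' _ _).mp hbiso
  have hP : IsUnit (((d₀ : GL ι F)) : Matrix ι ι F) := (d₀ : GL ι F).isUnit
  have hPA : (((d₀ : GL ι F)) : Matrix ι ι F) * ((g : GL ι F) : Matrix ι ι F) =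
      ((b : GL ι F) : Matrix ι ι F) * (((d₀ : GL ι F)) : Matrix ι ι F) := by
    have h1 : d₀ * G = b * d₀ := by rw [hb]; group
    have h2 := congrArg (fun t : ↥(GOq Q) => ((t : GL ι F) : Matrix ι ι F)) h1
    exact h2
  have hAN : ((g : GL ι F) : Matrix ι ι F) ^ N = 1 := by
    rw [← isoPow_coe, hgN]; rfl
  obtain ⟨o, ho⟩ := OSemi.o_conj_core Q hQ _ _ _ hAQ hBQ hP hPA N hNodd hN hAN
  refine ⟨o, ?_⟩
  have hOG : isoToGO Q o * G = b * isoToGO Q o := by
    apply Subtype.ext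
    apply Units.ext
    exact ho
  have h3 : G = (isoToGO Q o)⁻¹ * (b * isoToGO Q o) := by rw [← hOG]; group
  conv_rhs => rw [h3, hb]
  group

/-- a fixed nonzero vector yields a fixed nonsingular vector -/
theorem exists_fixed_nonsing (hQ : (QuadraticMap.polarBilin Q).Nondegenerate)
    (A : Matrix ι ι F) (hAQ : ∀ x, Q (A *ᵥ x) = Q x) (N : ℕ) (hN : (N : F) ≠ 0)
    (hAN : A ^ N = 1) (v : ι → F) (hv : v ≠ 0) (hAv : A *ᵥ v = v) :
    ∃ a, A *ᵥ a = a ∧ Q a ≠ 0 := by
  obtain ⟨w, hw⟩ : ∃ w, QuadraticMap.polar Q v w ≠ 0 := by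
    by_contra hcon
    push Not at hcon
    apply hv
    apply hQ.1 v
    intro w
    exact hcon w
  have hAi : ∀ i : ℕ, ∀ x, Q ((A ^ i) *ᵥ x) = Q x := by
    intro i
    induction i with
    | zero => intro x; rw [pow_zero, Matrix.one_mulVec]
    | succ i ih => intro x; rw [pow_succ, ← Matrix.mulVec_mulVec, ih, hAQ]
  have hAiv : ∀ i : ℕ, (A ^ i) *ᵥ v = v := by
    intro i
    induction i with
    | zero => rw [pow_zero, Matrix.one_mulVec]
    | succ i ih => rw [pow_succ, ← Matrix.mulVec_mulVec, hAv, ih]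
  set w₁ : ι → F := ∑ i ∈ Finset.range N, (A ^ i) *ᵥ w with hw₁
  have hAw₁ : A *ᵥ w₁ = w₁ := by
    rw [hw₁, Matrix.mulVec_sum]
    have h1 : ∀ i ∈ Finset.range N, A *ᵥ ((A ^ i) *ᵥ w) = (A ^ (i + 1)) *ᵥ w := by
      intro i _
      rw [Matrix.mulVec_mulVec, pow_succ']
    rw [Finset.sum_congr rfl h1]
    have h2 := Finset.sum_range_succ (fun i => (A ^ i) *ᵥ w) N
    have h3 := Finset.sum_range_succ' (fun i => (A ^ i) *ᵥ w) N
    rw [h3] at h2
    simp only [hAN, pow_zero] at h2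
    exact add_right_cancel h2
  have hpol : QuadraticMap.polar Q v w₁ = (N : F) * QuadraticMap.polar Q v w := by
    have h1 : QuadraticMap.polar Q v w₁ = ∑ i ∈ Finset.range N, QuadraticMap.polar Q v ((A ^ i) *ᵥ w) := by
      rw [hw₁]
      exact map_sum (QuadraticMap.polarBilin Q v) _ _
    rw [h1]
    have h2 : ∀ i ∈ Finset.range N, QuadraticMap.polar Q v ((A ^ i) *ᵥ w) =
        QuadraticMap.polar Q v w := by
      intro i _
      conv_lhs => rw [← hAiv i]
      exact OSemi.polar_pres Q (A ^ i) (hAi i) v w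
    rw [Finset.sum_congr rfl h2, Finset.sum_const, Finset.card_range, nsmul_eq_mul]
  have hpol0 : QuadraticMap.polar Q v w₁ ≠ 0 := by
    rw [hpol]; exact mul_ne_zero hN hw
  by_contra hcon
  push Not at hcon
  apply hpol0
  unfold QuadraticMap.polar
  rw [hcon v hAv, hcon w₁ hAw₁, hcon (v + w₁) (by rw [Matrix.mulVec_add, hAv, hAw₁])]
  ring

set_option maxHeartbeats 1600000 in
/-- Step C, second case: a similitude commuting with an isometry of odd order without nonzero fixed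
vectors has `eps = 1` -/
theorem eps_one_of_no_fixed (h2 : (2 : F) ≠ 0) (hQ : (QuadraticMap.polarBilin Q).Nondegenerate)
    (hne : ∃ v, Q v ≠ 0) (m : ℕ) (hcard : Fintype.card ι = 2 * m)
    (g : ↥(Cfsg.isometryGroup F (⇑Q : (ι → F) → F))) (N : ℕ) (hNodd : Odd N)
    (hgN : g ^ N = 1)
    (hnofix : ∀ v, ((g : GL ι F) : Matrix ι ι F) *ᵥ v = v → v = 0)
    (s : ↥(GOq Q)) (hs : s * isoToGO Q g = isoToGO Q g * s) :
    eps Q hne m s = 1 := by
  obtain ⟨M, Mi, hMMi, hMiM, hMT, hpol⟩ := OSemi.gram_data Q hQ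
  set G : Matrix ι ι F := ((g : GL ι F) : Matrix ι ι F) with hG
  set Gi : Matrix ι ι F := (((g⁻¹ : ↥(Cfsg.isometryGroup F (⇑Q : (ι → F) → F))) : GL ι F) : Matrix ι ι F) with hGi
  set S : Matrix ι ι F := ((s : GL ι F) : Matrix ι ι F) with hS
  have hGGi : G * Gi = 1 := by
    rw [hG, hGi, ← iso_mul_coe, mul_inv_cancel]; rfl
  have hGiG : Gi * G = 1 := by
    rw [hG, hGi, ← iso_mul_coe, inv_mul_cancel]; rfl
  have hGQ : ∀ x, Q (G *ᵥ x) = Q x := (mem_iso_iff' _ _).mp g.2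
  have hGN : G ^ N = 1 := by
    rw [hG, ← isoPow_coe, hgN]; rfl
  have hSG : S * G = G * S := by
    have := congrArg (fun t : ↥(GOq Q) => ((t : GL ι F) : Matrix ι ι F)) hs
    exact this
  have hSGi : S * Gi = Gi * S := by
    calc S * Gi = Gi * (G * S) * Gi := by rw [← mul_assoc, hGiG, one_mul]
      _ = Gi * (S * G) * Gi := by rw [hSG]
      _ = Gi * S * (G * Gi) := by simp only [mul_assoc]
      _ = Gi * S := by rw [hGGi, mul_one]
  set J : Matrix ι ι F := G - Gi with hJ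
  have hSJ : S * J = J * S := by rw [hJ, mul_sub, sub_mul, hSG, hSGi]
  have hJinj : ∀ v, J *ᵥ v = 0 → v = 0 := by
    intro v hv
    have h1 : G *ᵥ v = Gi *ᵥ v := by
      rw [hJ, Matrix.sub_mulVec, sub_eq_zero] at hv; exact hv
    have h3 : (G * G) *ᵥ v = v := by
      rw [← Matrix.mulVec_mulVec, h1, Matrix.mulVec_mulVec, hGGi, Matrix.one_mulVec]
    have h4 : ∀ k : ℕ, ((G * G) ^ k) *ᵥ v = v := by
      intro k
      induction k with
      | zero => rw [pow_zero, Matrix.one_mulVec]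
      | succ k ih => rw [pow_succ, ← Matrix.mulVec_mulVec, h3, ih]
    obtain ⟨k, hk⟩ := hNodd
    apply hnofix
    have h5 : G ^ N = G * (G * G) ^ k := by
      rw [hk, pow_succ', ← pow_two, ← pow_mul]
    rw [h5] at hGN
    have h6 := congrArg (fun t : Matrix ι ι F => t *ᵥ v) hGN
    simp only [Matrix.one_mulVec] at h6
    rw [← Matrix.mulVec_mulVec, h4] at h6
    exact h6
  have hJdet : J.det ≠ 0 := by
    intro h0
    obtain ⟨v, hv0, hv⟩ := Matrix.exists_mulVec_eq_zero_iff.mpr h0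
    exact hv0 (hJinj v hv)
  set U : Matrix ι ι F := M * J with hU
  have hMdet : M.det ≠ 0 := by
    intro h0
    have := congrArg Matrix.det hMMi
    rw [Matrix.det_mul, h0, zero_mul, Matrix.det_one] at this
    exact zero_ne_one this
  have hUdet : IsUnit U.det := by
    rw [hU, Matrix.det_mul, isUnit_iff_ne_zero]
    exact mul_ne_zero hMdet hJdet
  have hUi : U * U⁻¹ = 1 := Matrix.mul_nonsing_inv U hUdet
  have hbil : ∀ u v, bilM U u v = QuadraticMap.polar Q u (J *ᵥ v) := by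
    intro u v
    unfold bilM
    rw [hpol, hU, Matrix.mulVec_mulVec]
  have hGipol : ∀ u v, QuadraticMap.polar Q u (Gi *ᵥ v) = QuadraticMap.polar Q (G *ᵥ u) v := by
    intro u v
    have := OSemi.polar_pres Q G hGQ u (Gi *ᵥ v)
    rw [Matrix.mulVec_mulVec, hGGi, Matrix.one_mulVec] at this
    exact this.symm
  have halt : ∀ v, bilM U v v = 0 := by
    intro v
    rw [hbil, hJ, Matrix.sub_mulVec]
    have h1 : QuadraticMap.polar Q v (G *ᵥ v - Gi *ᵥ v) =
        QuadraticMap.polar Q v (G *ᵥ v) - QuadraticMap.polar Q v (Gi *ᵥ v) :=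
      QuadraticMap.polar_sub_right _ _ _ _
    rw [h1, hGipol, QuadraticMap.polar_comm Q (G *ᵥ v) v, sub_self]
  have hsim : ∀ u v, bilM U (S *ᵥ u) (S *ᵥ v) = ((mult Q s : Fˣ) : F) * bilM U u v := by
    intro u v
    rw [hbil, hbil, Matrix.mulVec_mulVec, ← hSJ, ← Matrix.mulVec_mulVec]
    exact polar_sim Q s u (J *ᵥ v)
  have hc := (GS.simM_iff_explicit U S _).mp hsim
  have hdet := det_sim_alt_idx hcard U U⁻¹ hUi halt (s : GL ι F) (mult Q s) hc
  rw [eps_apply]
  have : detGO Q s = mult Q s ^ m := hdet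
  rw [this, mul_inv_cancel]

theorem reflG_congr (a b : ι → F) (ha : Q a ≠ 0) (hb : Q b ≠ 0) (hab : b = a) :
    reflG Q b hb = reflG Q a ha := by
  subst hab; rfl

set_option maxHeartbeats 1600000 in
/-- Steps B and C: a similitude with the multiplier of `d₀` and `eps = 1` centralising a semisimple
isometry of odd order -/
theorem exists_sim_centralizer (h2 : (2 : F) ≠ 0) (hQ : (QuadraticMap.polarBilin Q).Nondegenerate)
    (hne : ∃ v, Q v ≠ 0) (m : ℕ) (hcard : Fintype.card ι = 2 * m)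
    (g : ↥(Cfsg.isometryGroup F (⇑Q : (ι → F) → F))) (N : ℕ) (hNodd : Odd N) (hN : (N : F) ≠ 0)
    (hgN : g ^ N = 1) (d₀ : ↥(GOq Q)) (hd₀ : eps Q hne m d₀ = 1) :
    ∃ s : ↥(GOq Q), s * isoToGO Q g = isoToGO Q g * s ∧ mult Q s = mult Q d₀ ∧
      eps Q hne m s = 1 := by
  obtain ⟨o, ho⟩ := exists_sim_commute Q hQ hne g N hNodd hN hgN d₀
  set s₀ : ↥(GOq Q) := (isoToGO Q o)⁻¹ * d₀ with hs₀
  have hms₀ : mult Q s₀ = mult Q d₀ := by
    show multHom Q hne s₀ = multHom Q hne d₀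
    rw [hs₀, map_mul, map_inv]
    have : multHom Q hne (isoToGO Q o) = 1 := mult_iso Q hne o
    rw [this, inv_one, one_mul]
  have heps₀ : eps Q hne m s₀ = (isoDet (⇑Q) o)⁻¹ := by
    rw [hs₀, map_mul, map_inv, hd₀, mul_one, eps_iso]
  by_cases hfix : ∃ v, v ≠ 0 ∧ ((g : GL ι F) : Matrix ι ι F) *ᵥ v = v
  · obtain ⟨v, hv0, hv⟩ := hfix
    have hAQ : ∀ x, Q (((g : GL ι F) : Matrix ι ι F) *ᵥ x) = Q x := (mem_iso_iff' _ _).mp g.2
    have hAN : ((g : GL ι F) : Matrix ι ι F) ^ N = 1 := by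
      rw [← isoPow_coe, hgN]; rfl
    obtain ⟨a, hga, hQa⟩ := exists_fixed_nonsing Q hQ _ hAQ N hN hAN v hv0 hv
    rcases isoDet_pm' Q h2 hQ o with h1 | h1
    · exact ⟨s₀, ho, hms₀, by rw [heps₀, h1, inv_one]⟩
    · have hQa' : Q (((g : GL ι F) : Matrix ι ι F) *ᵥ a) ≠ 0 := by rw [hga]; exact hQa
      have hcomm : g * reflG Q a hQa = reflG Q a hQa * g := by
        have := refl_conj Q g a hQa hQa'
        rw [reflG_congr Q a _ hQa hQa' hga, mul_inv_eq_iff_eq_mul] at this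
        exact this
      have hcomm' : isoToGO Q g * isoToGO Q (reflG Q a hQa) =
          isoToGO Q (reflG Q a hQa) * isoToGO Q g := by
        rw [← map_mul, ← map_mul, hcomm]
      refine ⟨s₀ * isoToGO Q (reflG Q a hQa), ?_, ?_, ?_⟩
      · rw [mul_assoc, ← hcomm', ← mul_assoc, ho, mul_assoc]
      · show multHom Q hne (s₀ * isoToGO Q (reflG Q a hQa)) = _
        rw [map_mul]
        have : multHom Q hne (isoToGO Q (reflG Q a hQa)) = 1 := mult_iso Q hne _
        rw [this, mul_one]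
        exact hms₀
      · rw [map_mul, heps₀, h1, eps_iso, isoDet_reflG]
        simp
  · push Not at hfix
    refine ⟨s₀, ho, hms₀, ?_⟩
    apply eps_one_of_no_fixed Q h2 hQ hne m hcard g N hNodd hgN _ s₀ ho
    intro v hv
    by_contra hv0
    exact hfix v hv0 hv

end cent

end Cfsg.Agent.Lib.Helper16.SS
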