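import Mathlib
import Cfsg.Agent.Lib.Helper16.SS2

set_option autoImplicit false
set_option linter.unusedSectionVars false
set_option linter.unusedVariables false

namespace Cfsg.Agent.Lib.Helper16.SS

open Matrix Module Cfsg.Agent.Lib.Lead Cfsg.Agent.Lib.Lead.OA Cfsg.Agent.Lib.Helper16
  Cfsg.Agent.Lib.Helper16.OA Cfsg.Agent.Lib.Helper16.OL Cfsg.Agent.Lib.Helper16.PSC
  Cfsg.Agent.Lib.Lead.OAP Cfsg.Agent.Lib.Helper16.PG

universe u v

section glue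

variable {ι : Type} [Fintype ι] [DecidableEq ι] {F : Type u} [Field F] [Fintype F]
variable (Q : QuadraticForm F (ι → F))

/-- the centralising similitude, in terms of automorphisms -/
theorem exists_sigma (h2 : (2 : F) ≠ 0) (hQ : (QuadraticMap.polarBilin Q).Nondegenerate)
    (hn : 4 ≤ Fintype.card ι) (hne : ∃ v, Q v ≠ 0) (m : ℕ) (hcard : Fintype.card ι = 2 * m)
    (d₀ : ↥(GOq Q)) (hd₀e : eps Q hne m d₀ = 1)
    (x : MulAut (Cfsg.POmega F (⇑Q : (ι → F) → F)))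
    (hx : x ∈ Cfsg.pgoAut F (⇑Q : (ι → F) → F)) (r : ℕ) (hrodd : Odd r) (hrF : (r : F) ≠ 0)
    (hxr : x ^ r = 1) :
    ∃ (g : ↥(Cfsg.isometryGroup F (⇑Q : (ι → F) → F))) (s : ↥(GOq Q)), c0 Q g = x ∧ g ^ r = 1 ∧
      s * isoToGO Q g = isoToGO Q g * s ∧
      cHom (⇑Q : (ι → F) → F) s * x = x * cHom (⇑Q : (ι → F) → F) s ∧
      mult Q s = mult Q d₀ ∧ eps Q hne m s = 1 := by
  obtain ⟨g, hgx, hgr⟩ := lift_odd_order Q h2 hQ hn hne x hx r hrodd hxr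
  obtain ⟨s, hsg, hsm, hse⟩ := exists_sim_centralizer Q h2 hQ hne m hcard g r hrodd hrF hgr d₀ hd₀e
  refine ⟨g, s, hgx, hgr, hsg, ?_, hsm, hse⟩
  rw [← hgx, c0_apply, ← map_mul, ← map_mul, hsg]

theorem mult_mul_inv_sq (hne : ∃ v, Q v ≠ 0) (d s : ↥(GOq Q)) (hd : ¬ IsSquare (mult Q d : F))
    (hs : ¬ IsSquare (mult Q s : F)) : IsSquare (mult Q (d * s⁻¹) : F) := by
  rw [← sqSign_eq_one_iff, ← psi1_apply Q hne, map_mul, map_inv, psi1_apply, psi1_apply,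
    sqSign_neg_one_of_not hd, sqSign_neg_one_of_not hs]
  decide

/-- cover of the image of the similarity group by the image of the isometry group and the
centraliser -/
theorem pgo_cover (h2 : (2 : F) ≠ 0) (hQ : (QuadraticMap.polarBilin Q).Nondegenerate)
    (hn : 4 ≤ Fintype.card ι) (hne : ∃ v, Q v ≠ 0)
    (x : MulAut (Cfsg.POmega F (⇑Q : (ι → F) → F))) (s : ↥(GOq Q))
    (hsx : cHom (⇑Q : (ι → F) → F) s * x = x * cHom (⇑Q : (ι → F) → F) s)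
    (hs : ¬ IsSquare (mult Q s : F)) :
    ∀ h ∈ Cfsg.pgoAut F (⇑Q : (ι → F) → F), ∃ k ∈ Cfsg.poAut F (⇑Q : (ι → F) → F),
      ∃ z : MulAut (Cfsg.POmega F (⇑Q : (ι → F) → F)), z * x = x * z ∧ h = k * z := by
  intro h hh
  rw [pgoAut_eq] at hh
  obtain ⟨d, rfl⟩ := hh
  have hpo : ∀ d' : ↥(GOq Q), IsSquare (mult Q d' : F) →
      cHom (⇑Q : (ι → F) → F) d' ∈ Cfsg.poAut F (⇑Q : (ι → F) → F) := by
    intro d' hd'
    obtain ⟨z, o, rfl⟩ := iso_of_sq Q hne d' hd'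
    rw [cHom_scal_mul Q h2 hQ hn, poAut_eq]
    exact ⟨isoToGO Q o, o.2, rfl⟩
  by_cases hd : IsSquare (mult Q d : F)
  · exact ⟨_, hpo d hd, 1, by rw [one_mul, mul_one], by rw [mul_one]⟩
  · refine ⟨_, hpo (d * s⁻¹) (mult_mul_inv_sq Q hne d s hd hs), cHom (⇑Q : (ι → F) → F) s, hsx, ?_⟩
    rw [← map_mul, inv_mul_cancel_right]

/-- cover of the inner-diagonal group by the image of the special orthogonal group and the
centraliser -/
theorem D_cover_pso (h2 : (2 : F) ≠ 0) (hQ : (QuadraticMap.polarBilin Q).Nondegenerate)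
    (hn : 4 ≤ Fintype.card ι) (hne : ∃ v, Q v ≠ 0) (m : ℕ) (hcard : Fintype.card ι = 2 * m)
    (x : MulAut (Cfsg.POmega F (⇑Q : (ι → F) → F))) (s : ↥(GOq Q))
    (hsx : cHom (⇑Q : (ι → F) → F) s * x = x * cHom (⇑Q : (ι → F) → F) s)
    (hs : ¬ IsSquare (mult Q s : F)) (hse : eps Q hne m s = 1) :
    ∀ h ∈ (eps Q hne m).ker.map (cHom (⇑Q : (ι → F) → F)),
      ∃ k ∈ Cfsg.psoAut F (⇑Q : (ι → F) → F),
      ∃ z : MulAut (Cfsg.POmega F (⇑Q : (ι → F) → F)), z * x = x * z ∧ h = k * z := by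
  intro h hh
  obtain ⟨d, hd1, rfl⟩ := hh
  have hde : eps Q hne m d = 1 := MonoidHom.mem_ker.mp hd1
  have hpso : ∀ d' : ↥(GOq Q), IsSquare (mult Q d' : F) → eps Q hne m d' = 1 →
      cHom (⇑Q : (ι → F) → F) d' ∈ Cfsg.psoAut F (⇑Q : (ι → F) → F) := by
    intro d' hd' hd'e
    obtain ⟨z, o, rfl⟩ := iso_of_sq Q hne d' hd'
    rw [eps_scal_mul Q hne m hcard] at hd'e
    exact mem_pso_of Q h2 hQ hn z o hd'e
  by_cases hd : IsSquare (mult Q d : F)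
  · exact ⟨_, hpso d hd hde, 1, by rw [one_mul, mul_one], by rw [mul_one]⟩
  · refine ⟨_, hpso (d * s⁻¹) (mult_mul_inv_sq Q hne d s hd hs) ?_, cHom (⇑Q : (ι → F) → F) s, hsx, ?_⟩
    · rw [map_mul, map_inv, hde, hse, inv_one, mul_one]
    · rw [← map_mul, inv_mul_cancel_right]

/-- the image of a similarity with nonsquare multiplier is not an inner automorphism times a
square -/
theorem nonsq_ne_inn_mul_sq (hQ : (QuadraticMap.polarBilin Q).Nondegenerate)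
    (hn : 7 ≤ Fintype.card ι) (hne : ∃ v, Q v ≠ 0) (Y : ↥(GOq Q))
    (hY : ¬ IsSquare (mult Q Y : F)) :
    ∀ κ ∈ Cfsg.Inn (Cfsg.POmega F (⇑Q : (ι → F) → F)), ∀ e : ↥(GOq Q),
      cHom (⇑Q : (ι → F) → F) Y ≠
        κ * (cHom (⇑Q : (ι → F) → F) e * cHom (⇑Q : (ι → F) → F) e) := by
  intro κ hκ e heq
  rw [inn_eq'] at hκ
  obtain ⟨s, hs, rfl⟩ := hκ
  set X : ↥(GOq Q) := isoToGO Q s * (e * e) with hX
  have heq' : cHom (⇑Q : (ι → F) → F) Y = cHom (⇑Q : (ι → F) → F) X := by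
    rw [hX, map_mul, map_mul]
    exact heq
  have h1 : cHom (⇑Q : (ι → F) → F) (X⁻¹ * Y) = 1 := by
    rw [map_mul, map_inv, inv_mul_eq_one]
    exact heq'.symm
  obtain ⟨d, hd⟩ := cHom_ker_scalar Q hQ hn _ h1
  have h3 := mult_of_scalar Q hne _ d hd
  have hmX : multHom Q hne X = multHom Q hne e * multHom Q hne e := by
    rw [hX, map_mul, map_mul]
    show mult Q (isoToGO Q s) * _ = _
    rw [mult_iso Q hne, one_mul]
  have h4 : mult Q (X⁻¹ * Y) = (mult Q e * mult Q e)⁻¹ * mult Q Y := by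
    show multHom Q hne (X⁻¹ * Y) = _
    rw [map_mul, map_inv, hmX]
    rfl
  rw [h4] at h3
  apply hY
  refine ⟨((mult Q e : Fˣ) : F) * d, ?_⟩
  have hμ : ((mult Q e : Fˣ) : F) ≠ 0 := Units.ne_zero _
  rw [Units.val_mul, Units.val_inv_eq_inv_val, Units.val_mul] at h3
  field_simp at h3
  rw [h3]
  ring

theorem po_le_pgo : Cfsg.poAut F (⇑Q : (ι → F) → F) ≤ Cfsg.pgoAut F (⇑Q : (ι → F) → F) := by
  rw [poAut_eq, pgoAut_eq]
  rintro _ ⟨d, -, rfl⟩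
  exact ⟨d, rfl⟩

theorem commute_pow_of {G : Type*} [Group G] (z x : G) (h : z * x = x * z) (k : ℕ) :
    z ^ k * x = x * z ^ k := by
  have : Commute z x := h
  exact (this.pow_left k)

set_option maxHeartbeats 1600000 in
/-- class fusion when the inner-diagonal group modulo the inner automorphisms is generated by its
nonsquares (cyclic of order 2 or 4) -/
theorem fusion_cyclic (h2 : (2 : F) ≠ 0) (hQ : (QuadraticMap.polarBilin Q).Nondegenerate)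
    (hn : 7 ≤ Fintype.card ι) (hne : ∃ v, Q v ≠ 0) (m : ℕ) (hcard : Fintype.card ι = 2 * m)
    (D : Subgroup (MulAut (Cfsg.POmega F (⇑Q : (ι → F) → F))))
    (hD : D = (eps Q hne m).ker.map (cHom (⇑Q : (ι → F) → F)))
    {A : Type*} [Group A] (hA : ∀ y : A, (∀ t, y ≠ t * t) → ∀ z, ∃ k : ℕ, z = y ^ k)
    (φ : ↥D →* A) (hsurj : Function.Surjective φ)
    (hker : φ.ker = (Cfsg.Inn (Cfsg.POmega F (⇑Q : (ι → F) → F))).subgroupOf D)
    (d₀ : ↥(GOq Q)) (hd₀ : ¬ IsSquare (mult Q d₀ : F)) (hd₀e : eps Q hne m d₀ = 1)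
    (x : MulAut (Cfsg.POmega F (⇑Q : (ι → F) → F)))
    (hx : x ∈ Cfsg.pgoAut F (⇑Q : (ι → F) → F)) (r : ℕ) (hrodd : Odd r) (hrF : (r : F) ≠ 0)
    (hxr : x ^ r = 1) :
    (∀ y : MulAut (Cfsg.POmega F (⇑Q : (ι → F) → F)),
      (Cfsg.IsConjUnder (Cfsg.Inn (Cfsg.POmega F (⇑Q : (ι → F) → F))) x y ↔
        Cfsg.IsConjUnder D x y) ∧
      (Cfsg.IsConjUnder (Cfsg.psoAut F (⇑Q : (ι → F) → F)) x y ↔ Cfsg.IsConjUnder D x y)) ∧
    (∀ y : MulAut (Cfsg.POmega F (⇑Q : (ι → F) → F)),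
      Cfsg.IsConjUnder (Cfsg.poAut F (⇑Q : (ι → F) → F)) x y ↔
        Cfsg.IsConjUnder (Cfsg.pgoAut F (⇑Q : (ι → F) → F)) x y) := by
  have hn4 : 4 ≤ Fintype.card ι := by omega
  obtain ⟨g, s, hgx, hgr, hsg, hsx, hsm, hse⟩ :=
    exists_sigma Q h2 hQ hn4 hne m hcard d₀ hd₀e x hx r hrodd hrF hxr
  have hsns : ¬ IsSquare (mult Q s : F) := by rw [hsm]; exact hd₀
  have hInnD : Cfsg.Inn (Cfsg.POmega F (⇑Q : (ι → F) → F)) ≤ D := by
    rw [hD]; exact inn_le_D Q hne m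
  have hpsoD : Cfsg.psoAut F (⇑Q : (ι → F) → F) ≤ D := by
    rw [hD]; exact pso_le_D Q hne m
  have hσD : cHom (⇑Q : (ι → F) → F) s ∈ D := by
    rw [hD]; exact ⟨s, MonoidHom.mem_ker.mpr hse, rfl⟩
  have hns : ∀ κ ∈ Cfsg.Inn (Cfsg.POmega F (⇑Q : (ι → F) → F)), ∀ ε ∈ D,
      cHom (⇑Q : (ι → F) → F) s ≠ κ * (ε * ε) := by
    intro κ hκ ε hε
    rw [hD] at hε
    obtain ⟨e, -, rfl⟩ := hε
    exact nonsq_ne_inn_mul_sq Q hQ hn hne s hsns κ hκ e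
  have hcov := cover_of_nonsq D _ hInnD hA φ hsurj hker _ hσD hns
  have hcovInn : ∀ h ∈ D, ∃ k ∈ Cfsg.Inn (Cfsg.POmega F (⇑Q : (ι → F) → F)),
      ∃ z : MulAut (Cfsg.POmega F (⇑Q : (ι → F) → F)), z * x = x * z ∧ h = k * z := by
    intro h hh
    obtain ⟨κ, hκ, k, hk⟩ := hcov h hh
    exact ⟨κ, hκ, _, commute_pow_of _ _ hsx k, hk⟩
  have hcovPso : ∀ h ∈ D, ∃ k ∈ Cfsg.psoAut F (⇑Q : (ι → F) → F),
      ∃ z : MulAut (Cfsg.POmega F (⇑Q : (ι → F) → F)), z * x = x * z ∧ h = k * z := by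
    intro h hh
    obtain ⟨k, hk, z, hz, hkz⟩ := hcovInn h hh
    exact ⟨k, inn_le_pso Q hk, z, hz, hkz⟩
  refine ⟨fun y => ⟨⟨conjUnder_mono _ _ hInnD x y, conjUnder_of_cover _ _ x hcovInn y⟩,
    ⟨conjUnder_mono _ _ hpsoD x y, conjUnder_of_cover _ _ x hcovPso y⟩⟩, fun y => ?_⟩
  exact ⟨conjUnder_mono _ _ (po_le_pgo Q) x y,
    conjUnder_of_cover _ _ x (pgo_cover Q h2 hQ hn4 hne x s hsx hsns) y⟩

end glue

end Cfsg.Agent.Lib.Helper16.SS
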