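import Mathlib
import Cfsg.Agent.Lib.Helper16.SS3

set_option autoImplicit false
set_option linter.unusedSectionVars false
set_option linter.unusedVariables false

namespace Cfsg.Agent.Lib.Helper16.SS

open Matrix Module Cfsg.Agent.Lib.Lead Cfsg.Agent.Lib.Lead.OA Cfsg.Agent.Lib.Helper16
  Cfsg.Agent.Lib.Helper16.OA Cfsg.Agent.Lib.Helper16.OL Cfsg.Agent.Lib.Helper16.PSC
  Cfsg.Agent.Lib.Lead.OAP Cfsg.Agent.Lib.Helper16.PG Cfsg.Agent.Lib.helper6

universe u v

section rho

variable {ι : Type} [Fintype ι] [DecidableEq ι] {F : Type u} [Field F]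
variable (Q : QuadraticForm F (ι → F))

/-- the matrix of a product of reflections -/
noncomputable def rhoMat (us : List (ι → F)) : Matrix ι ι F :=
  (us.map (fun v => Cfsg.reflectionMatrix ⇑Q v)).prod

theorem rhoMat_nil : rhoMat Q [] = 1 := rfl

theorem rhoMat_cons (v : ι → F) (vs : List (ι → F)) :
    rhoMat Q (v :: vs) = Cfsg.reflectionMatrix ⇑Q v * rhoMat Q vs := by
  unfold rhoMat
  rw [List.map_cons, List.prod_cons]

theorem rhoMat_fix (us : List (ι → F)) (w : ι → F)
    (hw : ∀ u ∈ us, QuadraticMap.polar Q u w = 0) : rhoMat Q us *ᵥ w = w := by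
  induction us with
  | nil => rw [rhoMat_nil, Matrix.one_mulVec]
  | cons v vs ih =>
    rw [rhoMat_cons, ← Matrix.mulVec_mulVec, ih (fun u hu => hw u (List.mem_cons_of_mem _ hu)),
      reflectionMatrix_mulVec, hw v List.mem_cons_self, mul_zero, zero_smul, sub_zero]

theorem rhoMat_neg (h2 : (2 : F) ≠ 0) (us : List (ι → F)) (hQ : ∀ u ∈ us, Q u ≠ 0)
    (horth : us.Pairwise (fun u v => QuadraticMap.polar Q u v = 0)) (u : ι → F) (hu : u ∈ us) :
    rhoMat Q us *ᵥ u = -u := by
  induction us with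
  | nil => simp at hu
  | cons v vs ih =>
    rw [List.pairwise_cons] at horth
    rw [rhoMat_cons, ← Matrix.mulVec_mulVec]
    rcases List.mem_cons.mp hu with rfl | hu'
    · rw [rhoMat_fix Q vs u (fun u' hu' => by
        rw [QuadraticMap.polar_comm]; exact horth.1 u' hu'), reflectionMatrix_mulVec,
        QuadraticMap.polar_self]
      have hQu := hQ u List.mem_cons_self
      have : (Q u)⁻¹ * (2 * Q u) = 2 := by field_simp
      simp only [nsmul_eq_mul, Nat.cast_ofNat]
      rw [this, two_smul]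
      abel
    · rw [ih (fun u' hu'' => hQ u' (List.mem_cons_of_mem _ hu'')) horth.2 hu',
        reflectionMatrix_mulVec, QuadraticMap.polar_neg_right, horth.1 u hu', neg_zero, mul_zero,
        zero_smul, sub_zero]

theorem rhoMat_coe (us : List (ι → F)) (hQ : ∀ u ∈ us, Q u ≠ 0) :
    ((((us.map (reflG' Q)).prod : ↥(Cfsg.isometryGroup F ⇑Q)) : Matrix.GeneralLinearGroup ι F) :
      Matrix ι ι F) = rhoMat Q us := prod_reflG'_coe Q us hQ

end rho

end Cfsg.Agent.Lib.Helper16.SS
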