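import Mathlib

open Polynomial

namespace Cfsg.Agent.Lib.Helper16

theorem exists_irreducible_ker {F V : Type*} [Field F] [AddCommGroup V] [Module F V]
    [FiniteDimensional F V] [Nontrivial V] (f : Module.End F V) :
    ∃ g₀ : F[X], Irreducible g₀ ∧ ∃ v : V, v ≠ 0 ∧ aeval f g₀ v = 0 := by
  have hint : IsIntegral F f := Algebra.IsIntegral.isIntegral f
  have hmp := minpoly.aeval F f
  have hne := minpoly.ne_zero hint
  have hnu : ¬ IsUnit (minpoly F f) := minpoly.not_isUnit F f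
  obtain ⟨g₀, hirr, r, hr⟩ := WfDvdMonoid.exists_irreducible_factor hnu hne
  refine ⟨g₀, hirr, ?_⟩
  by_contra hcon
  push Not at hcon
  have hr0 : r ≠ 0 := by
    rintro rfl
    rw [mul_zero] at hr
    exact hne hr
  have hr1 : aeval f r = 0 := by
    ext w
    by_contra hw
    apply hcon (aeval f r w) hw
    rw [← Module.End.mul_apply, ← map_mul, ← hr, hmp]
    simp
  have hdeg := minpoly.degree_le_of_ne_zero F f hr0 hr1
  rw [hr, degree_mul] at hdeg
  have h0 : 0 < degree g₀ := degree_pos_of_irreducible hirr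
  have h1 : degree r ≠ ⊥ := by
    rwa [Ne, degree_eq_bot]
  have h2 : degree r < degree g₀ + degree r := by
    rw [degree_eq_natDegree hr0, degree_eq_natDegree hirr.ne_zero] at *
    have : 0 < natDegree g₀ := by exact_mod_cast h0
    exact_mod_cast (by omega : r.natDegree < g₀.natDegree + r.natDegree)
  exact absurd hdeg (not_le.mpr h2)

theorem exists_cyclic_embed {F V : Type*} [Field F] [AddCommGroup V] [Module F V]
    (f : Module.End F V) (g₀ : F[X]) [Fact (Irreducible g₀)] (v : V) (hv : v ≠ 0)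
    (hg : aeval f g₀ v = 0) :
    ∃ ψ : AdjoinRoot g₀ →ₗ[F] V, Function.Injective ψ ∧
      ∀ b, ψ (AdjoinRoot.root g₀ * b) = f (ψ b) := by
  let π : F[X] →ₗ[F] AdjoinRoot g₀ := (AdjoinRoot.mkₐ g₀).toLinearMap
  have hπ : ∀ q, π q = AdjoinRoot.mk g₀ q := fun q => rfl
  have hπs : Function.Surjective π := AdjoinRoot.mk_surjective
  let ψ₀ : F[X] →ₗ[F] V := (LinearMap.applyₗ v) ∘ₗ (aeval f).toLinearMap
  have hψ₀ : ∀ q, ψ₀ q = aeval f q v := fun q => rfl
  have hker : ∀ q, π q = 0 → ψ₀ q = 0 := by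
    intro q hq
    rw [hπ, AdjoinRoot.mk_eq_zero] at hq
    obtain ⟨s, rfl⟩ := hq
    rw [hψ₀, mul_comm, map_mul, Module.End.mul_apply, hg, map_zero]
  obtain ⟨s, hs⟩ := LinearMap.exists_rightInverse_of_surjective π (LinearMap.range_eq_top.mpr hπs)
  have hs' : ∀ b, π (s b) = b := fun b => by
    have := congrArg (fun l => l b) hs
    simpa using this
  let ψ : AdjoinRoot g₀ →ₗ[F] V := ψ₀ ∘ₗ s
  have hψ : ∀ q, ψ (π q) = ψ₀ q := by
    intro q
    have h1 : ψ₀ (s (π q) - q) = 0 := hker _ (by rw [map_sub, hs', sub_self])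
    rw [map_sub, sub_eq_zero] at h1
    exact h1
  have hmul : ∀ q r, ψ (π (q * r)) = aeval f q (ψ (π r)) := by
    intro q r
    rw [hψ, hψ, hψ₀, hψ₀, map_mul, Module.End.mul_apply]
  refine ⟨ψ, ?_, ?_⟩
  · rw [← LinearMap.ker_eq_bot, LinearMap.ker_eq_bot']
    intro b hb
    by_contra hb0
    obtain ⟨q, rfl⟩ := hπs b
    obtain ⟨r, hr⟩ := hπs (π q)⁻¹
    have h1 : π (r * q) = 1 := by
      rw [hπ, map_mul, ← hπ, ← hπ, hr, inv_mul_cancel₀ hb0]
    have h2 : ψ (π (r * q)) = 0 := by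
      rw [hmul, hb, map_zero]
    have h3 : ψ (π 1) = v := by
      rw [hψ, hψ₀, map_one, Module.End.one_apply]
    have h4 : π 1 = 1 := by rw [hπ, map_one]
    rw [h1, ← h4, h3] at h2
    exact hv h2
  · intro b
    obtain ⟨q, rfl⟩ := hπs b
    have : AdjoinRoot.root g₀ * π q = π (X * q) := by
      rw [hπ, hπ, map_mul, AdjoinRoot.mk_X]
    rw [this, hmul, aeval_X]

theorem exists_commuting_det {F V : Type*} [Field F] [Finite F] [AddCommGroup V] [Module F V]
    [FiniteDimensional F V] [Nontrivial V] (f : Module.End F V) (hf : f.IsSemisimple) (d : F) :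
    ∃ c : Module.End F V, c * f = f * c ∧ LinearMap.det c = d := by
  obtain ⟨g₀, hirr, v, hv, hg⟩ := exists_irreducible_ker f
  have : Fact (Irreducible g₀) := ⟨hirr⟩
  obtain ⟨ψ, hinj, hψ⟩ := exists_cyclic_embed f g₀ v hv hg
  have : Module.Finite F (AdjoinRoot g₀) := (AdjoinRoot.powerBasis hirr.ne_zero).finite
  have : Finite (AdjoinRoot g₀) := Module.finite_of_finite F
  obtain ⟨a, ha⟩ := FiniteField.norm_surjective F (AdjoinRoot g₀) d
  let L : Submodule F V := LinearMap.range ψ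
  let ψ' : AdjoinRoot g₀ ≃ₗ[F] L := LinearEquiv.ofInjective ψ hinj
  have hψ' : ∀ b, (ψ' b : V) = ψ b := fun b => rfl
  have hL : L ∈ Module.End.invtSubmodule f := by
    rw [Module.End.mem_invtSubmodule]
    rintro _ ⟨b, rfl⟩
    exact ⟨AdjoinRoot.root g₀ * b, hψ b⟩
  obtain ⟨M, hM, hLM⟩ := (Module.End.isSemisimple_iff.mp hf) L hL
  let e : (L × M) ≃ₗ[F] V := Submodule.prodEquivOfIsCompl L M hLM
  have he : ∀ l m, e (l, m) = (l : V) + (m : V) := fun l m => rfl
  let cL : L →ₗ[F] L := ψ'.toLinearMap ∘ₗ (Algebra.lmul F (AdjoinRoot g₀) a) ∘ₗ ψ'.symm.toLinearMap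
  have hcL : ∀ b, cL (ψ' b) = ψ' (a * b) := by
    intro b
    simp only [cL, LinearMap.comp_apply, LinearEquiv.coe_coe, LinearEquiv.symm_apply_apply]
    rfl
  let P : (L × M) →ₗ[F] (L × M) := LinearMap.prodMap cL LinearMap.id
  let c : V →ₗ[F] V := e.toLinearMap ∘ₗ P ∘ₗ e.symm.toLinearMap
  have hc : ∀ l m, c (e (l, m)) = (cL l : V) + (m : V) := by
    intro l m
    simp only [c, LinearMap.comp_apply, LinearEquiv.coe_coe, LinearEquiv.symm_apply_apply]
    rfl
  have hfL : ∀ l : L, f l ∈ L := fun l => (Module.End.mem_invtSubmodule f).mp hL l.2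
  have hfM : ∀ m : M, f m ∈ M := fun m => (Module.End.mem_invtSubmodule f).mp hM m.2
  have hkey : ∀ l : L, (cL ⟨f l, hfL l⟩ : V) = f (cL l) := by
    intro l
    obtain ⟨b, rfl⟩ := ψ'.surjective l
    have h1 : (⟨f (ψ' b), hfL (ψ' b)⟩ : L) = ψ' (AdjoinRoot.root g₀ * b) := by
      apply Subtype.ext
      show f (ψ' b : V) = (ψ' (AdjoinRoot.root g₀ * b) : V)
      rw [hψ', hψ', hψ]
    rw [h1, hcL, hcL, hψ', hψ', ← hψ, mul_left_comm]
  refine ⟨c, ?_, ?_⟩
  · apply LinearMap.ext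
    intro w
    obtain ⟨⟨l, m⟩, rfl⟩ := e.surjective w
    rw [Module.End.mul_apply, Module.End.mul_apply, hc, map_add]
    have h2 : f (e (l, m)) = e (⟨f l, hfL l⟩, ⟨f m, hfM m⟩) := by
      rw [he, he, map_add]
    rw [h2, hc, hkey]
  · have h1 : LinearMap.det c = LinearMap.det P := LinearMap.det_conj P e
    rw [h1, LinearMap.det_prodMap, LinearMap.det_id, mul_one]
    have h2 : LinearMap.det cL = LinearMap.det (Algebra.lmul F (AdjoinRoot g₀) a) :=
      LinearMap.det_conj _ ψ'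
    rw [h2, ← Algebra.norm_apply, ha]

end Cfsg.Agent.Lib.Helper16
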