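import Mathlib
import Cfsg.Agent.Lib.Helper16.SS5
import Cfsg.Agent.Lib.Helper16.SemisimpleCent
import Cfsg.Agent.Lib.Helper16.FCR1

set_option autoImplicit false
set_option linter.unusedSectionVars false
set_option linter.unusedVariables false

namespace Cfsg.Agent.Lib.Helper16.SS

open Matrix Module Polynomial Cfsg.Agent.Lib.Helper16

universe u v

section irr

variable {ι : Type} [Fintype ι] [DecidableEq ι] {F : Type u} [Field F]
variable (Q : QuadraticForm F (ι → F))

theorem aeval_comm_self {V : Type*} [AddCommGroup V] [Module F V] (t : Module.End F V) (q : F[X]) :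
    t * aeval t q = aeval t q * t := by
  have h1 : aeval t (X * q) = t * aeval t q := by rw [map_mul, aeval_X]
  have h2 : aeval t (q * X) = aeval t q * t := by rw [map_mul, aeval_X]
  rw [← h1, ← h2, mul_comm]

theorem polar_aeval_self_adj (t : Module.End F (ι → F))
    (hself : ∀ a b, QuadraticMap.polar Q (t a) b = QuadraticMap.polar Q a (t b)) (q : F[X])
    (a b : ι → F) :
    QuadraticMap.polar Q (aeval t q a) b = QuadraticMap.polar Q a (aeval t q b) := by
  induction q using Polynomial.induction_on generalizing a b with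
  | C c =>
    rw [aeval_C]
    show QuadraticMap.polar Q (c • a) b = QuadraticMap.polar Q a (c • b)
    rw [QuadraticMap.polar_smul_left, QuadraticMap.polar_smul_right]
  | add p q hp hq =>
    rw [map_add, LinearMap.add_apply, LinearMap.add_apply, QuadraticMap.polar_add_left,
      QuadraticMap.polar_add_right, hp, hq]
  | monomial n c ih =>
    have hcomm := aeval_comm_self t (C c * X ^ n)
    have h1 : aeval t (C c * X ^ (n + 1)) = aeval t (C c * X ^ n) * t := by
      rw [pow_succ, ← mul_assoc, map_mul (aeval t) (C c * X ^ n) X, aeval_X]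
    rw [h1, Module.End.mul_apply, Module.End.mul_apply, ih, hself]
    have h3 : t (aeval t (C c * X ^ n) b) = aeval t (C c * X ^ n) (t b) := by
      rw [← Module.End.mul_apply, hcomm, Module.End.mul_apply]
    rw [h3]

set_option maxHeartbeats 1600000 in
/-- an irreducible polynomial killing a nonsingular vector under a self-adjoint semisimple
operator -/
theorem exists_irred_nonsing [Finite F] (hQ : (QuadraticMap.polarBilin Q).Nondegenerate)
    (hne : ∃ v, Q v ≠ 0) (t : Module.End F (ι → F))
    (hself : ∀ a b, QuadraticMap.polar Q (t a) b = QuadraticMap.polar Q a (t b))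
    (hred : ∀ (q : F[X]) (k : ℕ), (aeval t q) ^ k = 0 → aeval t q = 0) :
    ∃ P : F[X], Irreducible P ∧ ∃ x : ι → F, Q x ≠ 0 ∧ aeval t P x = 0 := by
  classical
  have hnt : Nontrivial (ι → F) := by
    obtain ⟨v, hv⟩ := hne
    refine ⟨⟨v, 0, ?_⟩⟩
    rintro rfl
    exact hv (map_zero Q)
  obtain ⟨g₀, hirr, v, hv, hg⟩ := exists_irreducible_ker t
  refine ⟨g₀, hirr, ?_⟩
  by_contra hcon
  push Not at hcon
  have hcon' : ∀ x, aeval t g₀ x = 0 → Q x = 0 := by
    intro x hx
    by_contra h
    exact hcon x h hx
  set h : Module.End F (ι → F) := aeval t g₀ with hh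
  -- von Neumann regularity
  have hfin : Finite (Module.End F (ι → F)) := Module.finite_of_finite F
  obtain ⟨k, hk1, hk⟩ : ∃ k, 1 ≤ k ∧ h ^ k * h ^ k = h ^ k := by
    have hcomm : ∀ a ∈ ({h} : Set (Module.End F (ι → F))), ∀ b ∈ ({h} : Set (Module.End F (ι → F))),
        a * b = b * a := by
      intro a ha b hb
      rw [Set.mem_singleton_iff] at ha hb
      rw [ha, hb]
    let _ : CommRing (Subring.closure ({h} : Set (Module.End F (ι → F)))) :=
      Subring.closureCommRingOfComm hcomm
    have hfin' : Finite (Subring.closure ({h} : Set (Module.End F (ι → F)))) := Subtype.finite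
    obtain ⟨k, hk1, hk⟩ := FCR.exists_idem_pow
      (⟨h, Subring.subset_closure rfl⟩ : Subring.closure ({h} : Set (Module.End F (ι → F))))
    refine ⟨k, hk1, ?_⟩
    have := congrArg Subtype.val hk
    simpa using this
  have hz : h * (1 - h ^ k) = 0 := by
    have h1 : aeval t (g₀ * (1 - g₀ ^ k)) = h * (1 - h ^ k) := by
      rw [map_mul, map_sub, map_one, map_pow]
    rw [← h1]
    apply hred _ k
    rw [h1]
    have hc : Commute h (1 - h ^ k) := (Commute.one_right h).sub_right (Commute.pow_right rfl k)
    rw [hc.mul_pow]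
    have hidem : ∀ j : ℕ, 1 ≤ j → (1 - h ^ k) ^ j = 1 - h ^ k := by
      intro j hj
      induction j with
      | zero => omega
      | succ j ih =>
        rcases Nat.eq_zero_or_pos j with rfl | hj'
        · rw [pow_one]
        · rw [pow_succ, ih hj']
          rw [sub_mul, mul_sub, mul_sub, mul_one, one_mul, hk]
          abel
    rw [hidem k hk1, mul_sub, mul_one, hk, sub_self]
  have hz' : h = h * h * h ^ (k - 1) := by
    have h1 : h * h ^ k = h := by
      rw [mul_sub, mul_one, sub_eq_zero] at hz
      exact hz.symm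
    obtain ⟨j, rfl⟩ : ∃ j, k = j + 1 := ⟨k - 1, by omega⟩
    rw [Nat.add_sub_cancel, mul_assoc, ← pow_succ']
    exact h1.symm
  apply hv
  apply hQ.1 v
  intro w
  show QuadraticMap.polar Q v w = 0
  set uw : ι → F := (h ^ (k - 1)) w with huw
  set y : ι → F := w - h uw with hy
  have hhy : h y = 0 := by
    rw [hy, map_sub, sub_eq_zero]
    conv_lhs => rw [hz']
    rfl
  have hpol : QuadraticMap.polar Q v y = 0 := by
    unfold QuadraticMap.polar
    rw [hcon' v hg, hcon' y hhy, hcon' (v + y) (by rw [map_add, hhy, add_zero]; exact hg)]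
    ring
  have hpol2 : QuadraticMap.polar Q v (h uw) = 0 := by
    rw [← polar_aeval_self_adj Q t hself g₀ v uw]
    have : aeval t g₀ v = 0 := hg
    rw [this]
    exact QuadraticMap.polar_zero_left _ _
  have hw : w = y + h uw := by rw [hy]; abel
  rw [hw, QuadraticMap.polar_add_right, hpol, hpol2, add_zero]

end irr

end Cfsg.Agent.Lib.Helper16.SS
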