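import Mathlib
import Cfsg.Agent.Lib.Helper16.SS6

set_option autoImplicit false
set_option linter.unusedSectionVars false
set_option linter.unusedVariables false

namespace Cfsg.Agent.Lib.Helper16.SS

open Matrix Module Polynomial Cfsg.Agent.Lib.Helper16

universe u v

section cyc

variable {ι : Type} [Fintype ι] [DecidableEq ι] {F : Type u} [Field F]
variable (Q : QuadraticForm F (ι → F))

/-- the cyclic embedding with its defining formula -/
theorem cyclic_embed_mk {V : Type*} [AddCommGroup V] [Module F V]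
    (f : Module.End F V) (g₀ : F[X]) [Fact (Irreducible g₀)] (v : V) (hv : v ≠ 0)
    (hg : aeval f g₀ v = 0) :
    ∃ ψ : AdjoinRoot g₀ →ₗ[F] V, Function.Injective ψ ∧
      ∀ q : F[X], ψ (AdjoinRoot.mk g₀ q) = aeval f q v := by
  let π : F[X] →ₗ[F] AdjoinRoot g₀ := (AdjoinRoot.mkₐ g₀).toLinearMap
  have hπ : ∀ q, π q = AdjoinRoot.mk g₀ q := fun q => rfl
  have hπs : Function.Surjective π := AdjoinRoot.mk_surjective
  let ψ₀ : F[X] →ₗ[F] V := (LinearMap.applyₗ v) ∘ₗ (aeval f).toLinearMap
  have hψ₀ : ∀ q, ψ₀ q = aeval f q v := fun q => rfl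
  have hker : ∀ q, π q = 0 → ψ₀ q = 0 := by
    intro q hq
    rw [hπ, AdjoinRoot.mk_eq_zero] at hq
    obtain ⟨s, rfl⟩ := hq
    rw [hψ₀, mul_comm, map_mul, Module.End.mul_apply, hg, map_zero]
  obtain ⟨s, hs⟩ := LinearMap.exists_rightInverse_of_surjective π (LinearMap.range_eq_top.mpr hπs)
  have hs' : ∀ b, π (s b) = b := fun b => by
    have := congrArg (fun l => l b) hs
    simpa using this
  let ψ : AdjoinRoot g₀ →ₗ[F] V := ψ₀ ∘ₗ s
  have hψ : ∀ q, ψ (π q) = ψ₀ q := by
    intro q
    have h1 : ψ₀ (s (π q) - q) = 0 := hker _ (by rw [map_sub, hs', sub_self])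
    rw [map_sub, sub_eq_zero] at h1
    exact h1
  have hmul : ∀ q r, ψ (π (q * r)) = aeval f q (ψ (π r)) := by
    intro q r
    rw [hψ, hψ, hψ₀, hψ₀, map_mul, Module.End.mul_apply]
  refine ⟨ψ, ?_, fun q => hψ q⟩
  rw [← LinearMap.ker_eq_bot, LinearMap.ker_eq_bot']
  intro b hb
  by_contra hb0
  obtain ⟨q, rfl⟩ := hπs b
  obtain ⟨r, hr⟩ := hπs (π q)⁻¹
  have h1 : π (r * q) = 1 := by
    rw [hπ, map_mul, ← hπ, ← hπ, hr, inv_mul_cancel₀ hb0]
  have h2 : ψ (π (r * q)) = 0 := by
    rw [hmul, hb, map_zero]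
  have h3 : ψ (π 1) = v := by
    rw [hψ, hψ₀, map_one, Module.End.one_apply]
  have h4 : π 1 = 1 := by rw [hπ, map_one]
  rw [h1, ← h4, h3] at h2
  exact hv h2

variable {V : Type*} [AddCommGroup V] [Module F V]

theorem aeval_mul_apply' (t : Module.End F V) (a b : F[X]) (y : V) :
    aeval t (a * b) y = aeval t a (aeval t b y) := by
  rw [map_mul, Module.End.mul_apply]

theorem aeval_comm_apply (t : Module.End F V) (a b : F[X]) (y : V) :
    aeval t a (aeval t b y) = aeval t b (aeval t a y) := by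
  rw [← aeval_mul_apply', ← aeval_mul_apply', mul_comm]

/-- an operator commuting with `t` commutes with polynomials in `t` -/
theorem comm_aeval (t jj : Module.End F V) (hc : t * jj = jj * t) (q : F[X]) :
    aeval t q * jj = jj * aeval t q := by
  induction q using Polynomial.induction_on with
  | C c =>
    rw [aeval_C]
    ext y
    simp [Algebra.algebraMap_eq_smul_one]
  | add p q hp hq => rw [map_add, add_mul, mul_add, hp, hq]
  | monomial n c ih =>
    have h1 : aeval t (C c * X ^ (n + 1)) = aeval t (C c * X ^ n) * t := by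
      rw [pow_succ, ← mul_assoc, map_mul (aeval t) (C c * X ^ n) X, aeval_X]
    rw [h1, mul_assoc, hc, ← mul_assoc, ih, mul_assoc]

theorem comm_aeval_apply (t jj : Module.End F V) (hc : t * jj = jj * t) (q : F[X]) (y : V) :
    aeval t q (jj y) = jj (aeval t q y) := by
  rw [← Module.End.mul_apply, comm_aeval t jj hc, Module.End.mul_apply]

/-- modulo an irreducible polynomial killing `x`, a polynomial not killing `x` is invertible -/
theorem exists_inv_mod (t : Module.End F V) (P : F[X]) (hP : Irreducible P) (x : V)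
    (hPx : aeval t P x = 0) (a : F[X]) (ha : aeval t a x ≠ 0) :
    ∃ a' : F[X], ∀ q : F[X], aeval t (a * a' * q) x = aeval t q x := by
  have hnd : ¬ P ∣ a := by
    rintro ⟨s, rfl⟩
    apply ha
    rw [mul_comm, aeval_mul_apply', hPx, map_zero]
  have hcop : IsCoprime P a := (hP.coprime_iff_not_dvd).mpr hnd
  obtain ⟨u, w, huw⟩ := hcop
  refine ⟨w, fun q => ?_⟩
  have h1 : a * w * q = q - q * u * P := by
    have : w * a = 1 - u * P := by rw [← huw]; ring
    calc a * w * q = (w * a) * q := by ring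
      _ = q - q * u * P := by rw [this]; ring
  rw [h1, map_sub, LinearMap.sub_apply, aeval_mul_apply', hPx, map_zero, sub_zero]

end cyc

end Cfsg.Agent.Lib.Helper16.SS
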