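import Mathlib
import Cfsg.Agent.Lib.Helper16.SS7

set_option autoImplicit false
set_option linter.unusedSectionVars false
set_option linter.unusedVariables false

namespace Cfsg.Agent.Lib.Helper16.SS

open Matrix Module Polynomial Cfsg.Agent.Lib.Helper16

universe u v

section form

variable {ι : Type} [Fintype ι] [DecidableEq ι] {F : Type u} [Field F]
variable (Q : QuadraticForm F (ι → F)) (t jj : Module.End F (ι → F))

/-- the polynomial `X² - 4` -/
noncomputable def dl (F : Type u) [Field F] : F[X] := X ^ 2 - C 4

theorem aeval_dl (hjj : ∀ y, jj (jj y) = t (t y) - (4 : F) • y) (y : ι → F) :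
    aeval t (dl F) y = jj (jj y) := by
  unfold dl
  rw [hjj, map_sub, map_pow, aeval_X, aeval_C, LinearMap.sub_apply, pow_two, Module.End.mul_apply]
  simp [Algebra.algebraMap_eq_smul_one]

variable (hself : ∀ a b, QuadraticMap.polar Q (t a) b = QuadraticMap.polar Q a (t b))
  (hskew : ∀ a b, QuadraticMap.polar Q (jj a) b = -QuadraticMap.polar Q a (jj b))
  (hc : t * jj = jj * t)

include hself in
theorem polar_cyc (x : ι → F) (a b : F[X]) :
    QuadraticMap.polar Q (aeval t a x) (aeval t b x) =
      QuadraticMap.polar Q x (aeval t (a * b) x) := by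
  rw [polar_aeval_self_adj Q t hself, aeval_mul_apply']

include hself hskew hc in
theorem polar_x_jj (h2 : (2 : F) ≠ 0) (x : ι → F) (c : F[X]) :
    QuadraticMap.polar Q x (jj (aeval t c x)) = 0 := by
  have h1 : QuadraticMap.polar Q x (jj (aeval t c x)) =
      -QuadraticMap.polar Q x (jj (aeval t c x)) := by
    calc QuadraticMap.polar Q x (jj (aeval t c x))
        = -QuadraticMap.polar Q (jj x) (aeval t c x) := by rw [hskew, neg_neg]
      _ = -QuadraticMap.polar Q (aeval t c (jj x)) x := by
          rw [← polar_aeval_self_adj Q t hself]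
      _ = -QuadraticMap.polar Q (jj (aeval t c x)) x := by rw [comm_aeval_apply t jj hc]
      _ = -QuadraticMap.polar Q x (jj (aeval t c x)) := by rw [QuadraticMap.polar_comm]
  have h3 : (2 : F) * QuadraticMap.polar Q x (jj (aeval t c x)) = 0 := by linear_combination h1
  exact (mul_eq_zero.mp h3).resolve_left h2

include hself hskew hc in
theorem polar_cyc_jj (h2 : (2 : F) ≠ 0) (x : ι → F) (a b : F[X]) :
    QuadraticMap.polar Q (aeval t a x) (jj (aeval t b x)) = 0 := by
  rw [polar_aeval_self_adj Q t hself, comm_aeval_apply t jj hc, ← aeval_mul_apply']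
  exact polar_x_jj Q t jj hself hskew hc h2 x (a * b)

include hself hskew hc in
theorem polar_jj_jj (hjj : ∀ y, jj (jj y) = t (t y) - (4 : F) • y) (y z : ι → F) :
    QuadraticMap.polar Q (jj y) (jj z) = -QuadraticMap.polar Q y (aeval t (dl F) z) := by
  rw [hskew, aeval_dl t jj hjj]

include hself in
/-- the cyclic subspace of a nonsingular vector killed by an irreducible polynomial is
nondegenerate -/
theorem cyc_nondeg (h2 : (2 : F) ≠ 0) (P : F[X]) (hP : Irreducible P) (x : ι → F)
    (hPx : aeval t P x = 0) (hQx : Q x ≠ 0) (a : F[X])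
    (ha : ∀ b : F[X], QuadraticMap.polar Q (aeval t a x) (aeval t b x) = 0) :
    aeval t a x = 0 := by
  by_contra h0
  obtain ⟨a', ha'⟩ := exists_inv_mod t P hP x hPx a h0
  have h1 := ha a'
  rw [polar_cyc Q t hself] at h1
  have h3 := ha' 1
  rw [mul_one, map_one, Module.End.one_apply] at h3
  rw [h3, QuadraticMap.polar_self] at h1
  simp only [nsmul_eq_mul, Nat.cast_ofNat] at h1
  exact hQx ((mul_eq_zero.mp h1).resolve_left h2)

end form

end Cfsg.Agent.Lib.Helper16.SS
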