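import Mathlib
import Cfsg.Agent.Lib.Helper16.SS8

set_option autoImplicit false
set_option linter.unusedSectionVars false
set_option linter.unusedVariables false

namespace Cfsg.Agent.Lib.Helper16.SS

open Matrix Module Polynomial Cfsg.Agent.Lib.Helper16

universe u v

section sub

variable {ι : Type} [Fintype ι] [DecidableEq ι] {F : Type u} [Field F]
variable (Q : QuadraticForm F (ι → F)) (t jj : Module.End F (ι → F))

/-- the cyclic subspace `F[t] x` -/
noncomputable def cycM (x : ι → F) : Submodule F (ι → F) :=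
  LinearMap.range ((LinearMap.applyₗ x) ∘ₗ (aeval t).toLinearMap)

theorem mem_cycM (x y : ι → F) : y ∈ cycM t x ↔ ∃ a : F[X], aeval t a x = y := by
  unfold cycM
  rw [LinearMap.mem_range]
  rfl

/-- the subspace `F[t] x + j F[t] x` -/
noncomputable def cycW (x : ι → F) : Submodule F (ι → F) := cycM t x ⊔ (cycM t x).map jj

theorem mem_cycW (x y : ι → F) :
    y ∈ cycW t jj x ↔ ∃ a b : F[X], y = aeval t a x + jj (aeval t b x) := by
  unfold cycW
  rw [Submodule.mem_sup]
  constructor
  · rintro ⟨m, hm, m', hm', rfl⟩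
    obtain ⟨a, rfl⟩ := (mem_cycM t x m).mp hm
    obtain ⟨m'', hm'', rfl⟩ := (Submodule.mem_map).mp hm'
    obtain ⟨b, rfl⟩ := (mem_cycM t x m'').mp hm''
    exact ⟨a, b, rfl⟩
  · rintro ⟨a, b, rfl⟩
    exact ⟨_, (mem_cycM t x _).mpr ⟨a, rfl⟩, _,
      Submodule.mem_map.mpr ⟨_, (mem_cycM t x _).mpr ⟨b, rfl⟩, rfl⟩, rfl⟩

variable (hself : ∀ a b, QuadraticMap.polar Q (t a) b = QuadraticMap.polar Q a (t b))
  (hskew : ∀ a b, QuadraticMap.polar Q (jj a) b = -QuadraticMap.polar Q a (jj b))
  (hc : t * jj = jj * t) (hjj : ∀ y, jj (jj y) = t (t y) - (4 : F) • y)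
  (hinj : Function.Injective jj)

include hjj hinj in
theorem aeval_dl_ne (x : ι → F) (hx : x ≠ 0) : aeval t (dl F) x ≠ 0 := by
  rw [aeval_dl t jj hjj]
  intro h
  have h1 : jj (jj x) = jj 0 := by rw [h, map_zero]
  have h2 := hinj (hinj (by rw [h1, map_zero, map_zero] : jj (jj x) = jj (jj 0)))
  exact hx h2

include hself hskew hc hjj hinj in
/-- the restriction of the form to `F[t]x + jF[t]x` is separating -/
theorem cycW_sep (h2 : (2 : F) ≠ 0) (P : F[X]) (hP : Irreducible P) (x : ι → F)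
    (hPx : aeval t P x = 0) (hQx : Q x ≠ 0) (a b : F[X])
    (hab : ∀ c d : F[X], QuadraticMap.polar Q (aeval t a x + jj (aeval t b x))
      (aeval t c x + jj (aeval t d x)) = 0) :
    aeval t a x = 0 ∧ aeval t b x = 0 := by
  have hx0 : x ≠ 0 := by
    rintro rfl
    exact hQx (map_zero Q)
  constructor
  · apply cyc_nondeg Q t hself h2 P hP x hPx hQx a
    intro c
    have h1 := hab c 0
    rw [map_zero, LinearMap.zero_apply, map_zero, add_zero, QuadraticMap.polar_add_left,
      QuadraticMap.polar_comm Q (jj _) _, polar_cyc_jj Q t jj hself hskew hc h2, add_zero] at h1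
    exact h1
  · apply cyc_nondeg Q t hself h2 P hP x hPx hQx b
    intro c
    obtain ⟨δ', hδ'⟩ := exists_inv_mod t P hP x hPx (dl F) (aeval_dl_ne t jj hjj hinj x hx0)
    have h1 := hab 0 (δ' * c)
    rw [map_zero, LinearMap.zero_apply, zero_add, QuadraticMap.polar_add_left,
      polar_cyc_jj Q t jj hself hskew hc h2, zero_add,
      polar_jj_jj Q t jj hself hskew hc hjj, ← aeval_mul_apply', ← mul_assoc, hδ', neg_eq_zero] at h1
    exact h1

include hself hskew hc hjj hinj in
/-- the orthogonal decomposition of the space along `F[t]x + jF[t]x` -/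
theorem cyc_decomp (h2 : (2 : F) ≠ 0) (P : F[X]) (hP : Irreducible P) (x : ι → F)
    (hPx : aeval t P x = 0) (hQx : Q x ≠ 0) (y : ι → F) :
    ∃ (a b : F[X]) (w' : ι → F), y = aeval t a x + jj (aeval t b x) + w' ∧
      ∀ c d : F[X], QuadraticMap.polar Q (aeval t c x + jj (aeval t d x)) w' = 0 := by
  set B : LinearMap.BilinForm F (ι → F) := QuadraticMap.polarBilin Q with hB
  have hBapp : ∀ u v, B u v = QuadraticMap.polar Q u v := fun u v => rfl
  have b₁ : B.IsRefl := by
    intro u v huv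
    rw [hBapp] at huv ⊢
    rw [QuadraticMap.polar_comm]; exact huv
  have hleft : ∀ m : ↥(cycW t jj x), (∀ n : ↥(cycW t jj x), (B.restrict (cycW t jj x)) m n = 0) →
      m = 0 := by
    rintro ⟨m, hm⟩ hmn
    obtain ⟨a, b, rfl⟩ := (mem_cycW t jj x m).mp hm
    have := cycW_sep Q t jj hself hskew hc hjj hinj h2 P hP x hPx hQx a b (by
      intro c d
      have := hmn ⟨aeval t c x + jj (aeval t d x), (mem_cycW t jj x _).mpr ⟨c, d, rfl⟩⟩
      exact this)
    apply Subtype.ext
    show aeval t a x + jj (aeval t b x) = 0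
    rw [this.1, this.2, map_zero, add_zero]
  have b₂ : (B.restrict (cycW t jj x)).Nondegenerate := by
    refine ⟨hleft, ?_⟩
    intro n hn
    apply hleft
    intro m
    have := hn m
    show B (n : ι → F) (m : ι → F) = 0
    rw [hBapp, QuadraticMap.polar_comm]
    exact this
  have hcompl := LinearMap.BilinForm.isCompl_orthogonal_of_restrict_nondegenerate b₁ b₂
  have htop : y ∈ cycW t jj x ⊔ B.orthogonal (cycW t jj x) := by
    rw [hcompl.sup_eq_top]; trivial
  obtain ⟨w, hw, w', hw', rfl⟩ := Submodule.mem_sup.mp htop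
  obtain ⟨a, b, rfl⟩ := (mem_cycW t jj x w).mp hw
  refine ⟨a, b, w', rfl, fun c d => ?_⟩
  exact (LinearMap.BilinForm.mem_orthogonal_iff.mp hw') _ ((mem_cycW t jj x _).mpr ⟨c, d, rfl⟩)

end sub

end Cfsg.Agent.Lib.Helper16.SS
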