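import Mathlib
import Cfsg.Agent.Lib.Helper16.SS9

set_option autoImplicit false
set_option linter.unusedSectionVars false
set_option linter.unusedVariables false

namespace Cfsg.Agent.Lib.Helper16.SS

open Matrix Module Polynomial Cfsg.Agent.Lib.Helper16

universe u v

section tw

variable {ι : Type} [Fintype ι] [DecidableEq ι] {F : Type u} [Field F]
variable (Q : QuadraticForm F (ι → F)) (t jj : Module.End F (ι → F))

/-- the twisting operator `a(t) + b(t) j` -/
noncomputable def twF (a₀ b₀ : F[X]) : Module.End F (ι → F) := aeval t a₀ + aeval t b₀ * jj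

/-- its adjoint `a(t) - b(t) j` -/
noncomputable def twFs (a₀ b₀ : F[X]) : Module.End F (ι → F) := aeval t a₀ - aeval t b₀ * jj

/-- the norm `a² - b² (X² - 4)` -/
noncomputable def twN (a₀ b₀ : F[X]) : F[X] := a₀ * a₀ - b₀ * b₀ * dl F

theorem twF_apply (a₀ b₀ : F[X]) (y : ι → F) :
    twF t jj a₀ b₀ y = aeval t a₀ y + aeval t b₀ (jj y) := rfl

theorem twFs_apply (a₀ b₀ : F[X]) (y : ι → F) :
    twFs t jj a₀ b₀ y = aeval t a₀ y - aeval t b₀ (jj y) := rfl

variable (hself : ∀ a b, QuadraticMap.polar Q (t a) b = QuadraticMap.polar Q a (t b))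
  (hskew : ∀ a b, QuadraticMap.polar Q (jj a) b = -QuadraticMap.polar Q a (jj b))
  (hc : t * jj = jj * t) (hjj : ∀ y, jj (jj y) = t (t y) - (4 : F) • y)

include hc in
theorem twF_jj (a₀ b₀ : F[X]) (y : ι → F) : twF t jj a₀ b₀ (jj y) = jj (twF t jj a₀ b₀ y) := by
  rw [twF_apply, twF_apply, map_add, comm_aeval_apply t jj hc, comm_aeval_apply t jj hc]

include hc in
theorem twF_aeval (a₀ b₀ q : F[X]) (y : ι → F) :
    twF t jj a₀ b₀ (aeval t q y) = aeval t q (twF t jj a₀ b₀ y) := by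
  rw [twF_apply, twF_apply, map_add, aeval_comm_apply t a₀ q, ← comm_aeval_apply t jj hc q y,
    aeval_comm_apply t b₀ q]

include hc in
theorem twFs_aeval (a₀ b₀ q : F[X]) (y : ι → F) :
    twFs t jj a₀ b₀ (aeval t q y) = aeval t q (twFs t jj a₀ b₀ y) := by
  rw [twFs_apply, twFs_apply, map_sub, aeval_comm_apply t a₀ q, ← comm_aeval_apply t jj hc q y,
    aeval_comm_apply t b₀ q]

include hc in
theorem twFs_jj (a₀ b₀ : F[X]) (y : ι → F) : twFs t jj a₀ b₀ (jj y) = jj (twFs t jj a₀ b₀ y) := by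
  rw [twFs_apply, twFs_apply, map_sub, comm_aeval_apply t jj hc, comm_aeval_apply t jj hc]

include hself hskew hc in
theorem polar_twF (a₀ b₀ : F[X]) (y z : ι → F) :
    QuadraticMap.polar Q (twF t jj a₀ b₀ y) z = QuadraticMap.polar Q y (twFs t jj a₀ b₀ z) := by
  rw [twF_apply, twFs_apply, QuadraticMap.polar_add_left, QuadraticMap.polar_sub_right,
    polar_aeval_self_adj Q t hself, polar_aeval_self_adj Q t hself, hskew,
    comm_aeval_apply t jj hc]
  ring

include hc hjj in
theorem twFs_twF (a₀ b₀ : F[X]) (z : ι → F) :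
    twFs t jj a₀ b₀ (twF t jj a₀ b₀ z) = aeval t (twN a₀ b₀) z := by
  unfold twN
  rw [twFs_apply, twF_apply, map_sub, LinearMap.sub_apply, aeval_mul_apply', aeval_mul_apply',
    aeval_mul_apply', aeval_dl t jj hjj]
  simp only [map_add, comm_aeval_apply t jj hc]
  rw [aeval_comm_apply t b₀ a₀ z]
  abel

include hc hjj in
theorem twF_twFs (a₀ b₀ : F[X]) (z : ι → F) :
    twF t jj a₀ b₀ (twFs t jj a₀ b₀ z) = aeval t (twN a₀ b₀) z := by
  unfold twN
  have hR : aeval t (a₀ * a₀ - b₀ * b₀ * dl F) z =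
      aeval t a₀ (aeval t a₀ z) - aeval t b₀ (aeval t b₀ (jj (jj z))) := by
    rw [map_sub, LinearMap.sub_apply, aeval_mul_apply', aeval_mul_apply', aeval_mul_apply',
      aeval_dl t jj hjj]
  rw [hR, twF_apply, twFs_apply]
  simp only [map_sub, comm_aeval_apply t jj hc]
  rw [aeval_comm_apply t b₀ a₀ z]
  abel

include hself hskew hc hjj in
theorem polar_twF_twF (a₀ b₀ : F[X]) (y z : ι → F) :
    QuadraticMap.polar Q (twF t jj a₀ b₀ y) (twF t jj a₀ b₀ z) =
      QuadraticMap.polar Q y (aeval t (twN a₀ b₀) z) := by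
  rw [polar_twF Q t jj hself hskew hc, twFs_twF t jj hc hjj]

end tw

end Cfsg.Agent.Lib.Helper16.SS
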