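import Mathlib
import Cfsg.Agent.Lib.Helper16.SS10

set_option autoImplicit false
set_option linter.unusedSectionVars false
set_option linter.unusedVariables false

namespace Cfsg.Agent.Lib.Helper16.SS

open Matrix Module Polynomial Cfsg.Agent.Lib.Helper16

universe u v

section inv

variable {ι : Type} [Fintype ι] [DecidableEq ι] {F : Type u} [Field F]
variable (Q : QuadraticForm F (ι → F)) (t jj : Module.End F (ι → F))
variable (hself : ∀ a b, QuadraticMap.polar Q (t a) b = QuadraticMap.polar Q a (t b))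
  (hskew : ∀ a b, QuadraticMap.polar Q (jj a) b = -QuadraticMap.polar Q a (jj b))
  (hc : t * jj = jj * t) (hjj : ∀ y, jj (jj y) = t (t y) - (4 : F) • y)

include hc in
theorem cycW_aeval (x y : ι → F) (hy : y ∈ cycW t jj x) (q : F[X]) : aeval t q y ∈ cycW t jj x := by
  obtain ⟨a, b, rfl⟩ := (mem_cycW t jj x y).mp hy
  refine (mem_cycW t jj x _).mpr ⟨q * a, q * b, ?_⟩
  rw [map_add, comm_aeval_apply t jj hc, aeval_mul_apply', aeval_mul_apply']

include hc hjj in
theorem cycW_jj (x y : ι → F) (hy : y ∈ cycW t jj x) : jj y ∈ cycW t jj x := by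
  obtain ⟨a, b, rfl⟩ := (mem_cycW t jj x y).mp hy
  refine (mem_cycW t jj x _).mpr ⟨dl F * b, a, ?_⟩
  rw [map_add, aeval_mul_apply', aeval_dl t jj hjj, add_comm]

include hc hjj in
theorem cycW_twF (x y : ι → F) (hy : y ∈ cycW t jj x) (a₀ b₀ : F[X]) :
    twF t jj a₀ b₀ y ∈ cycW t jj x := by
  rw [twF_apply]
  exact add_mem (cycW_aeval t jj hc x y hy a₀)
    (cycW_aeval t jj hc x _ (cycW_jj t jj hc hjj x y hy) b₀)

include hc hjj in
theorem cycW_twFs (x y : ι → F) (hy : y ∈ cycW t jj x) (a₀ b₀ : F[X]) :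
    twFs t jj a₀ b₀ y ∈ cycW t jj x := by
  rw [twFs_apply]
  exact sub_mem (cycW_aeval t jj hc x y hy a₀)
    (cycW_aeval t jj hc x _ (cycW_jj t jj hc hjj x y hy) b₀)

include hc hjj in
/-- the twisting operator is onto `F[t]x + jF[t]x` when its norm is invertible on `x` -/
theorem exists_twF_preimage (x : ι → F) (a₀ b₀ n' : F[X])
    (hn' : ∀ q : F[X], aeval t (twN a₀ b₀ * n' * q) x = aeval t q x)
    (y : ι → F) (hy : y ∈ cycW t jj x) :
    ∃ a b : F[X], y = twF t jj a₀ b₀ (aeval t a x) + jj (twF t jj a₀ b₀ (aeval t b x)) := by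
  have hfix : ∀ z ∈ cycW t jj x, aeval t (twN a₀ b₀ * n') z = z := by
    intro z hz
    obtain ⟨a, b, rfl⟩ := (mem_cycW t jj x z).mp hz
    rw [map_add, comm_aeval_apply t jj hc, ← aeval_mul_apply', ← aeval_mul_apply', hn', hn']
  set y' : ι → F := twFs t jj a₀ b₀ (aeval t n' y) with hy'
  have hy'W : y' ∈ cycW t jj x :=
    cycW_twFs t jj hc hjj x _ (cycW_aeval t jj hc x y hy n') a₀ b₀
  have hfy' : twF t jj a₀ b₀ y' = y := by
    rw [hy', twF_twFs t jj hc hjj, ← aeval_mul_apply']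
    exact hfix y hy
  obtain ⟨a, b, hab⟩ := (mem_cycW t jj x y').mp hy'W
  refine ⟨a, b, ?_⟩
  rw [← twF_jj t jj hc, ← map_add, ← hab, hfy']

end inv

end Cfsg.Agent.Lib.Helper16.SS
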