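import Mathlib
import Cfsg.Agent.Lib.Helper16.SS11

set_option autoImplicit false
set_option linter.unusedSectionVars false
set_option linter.unusedVariables false

namespace Cfsg.Agent.Lib.Helper16.SS

open Matrix Module Polynomial Cfsg.Agent.Lib.Helper16

universe u v

section invol

variable {ι : Type} [Fintype ι] [DecidableEq ι] {F : Type u} [Field F]
variable (Q : QuadraticForm F (ι → F)) (t jj : Module.End F (ι → F))
variable (hself : ∀ a b, QuadraticMap.polar Q (t a) b = QuadraticMap.polar Q a (t b))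
  (hskew : ∀ a b, QuadraticMap.polar Q (jj a) b = -QuadraticMap.polar Q a (jj b))
  (hc : t * jj = jj * t) (hjj : ∀ y, jj (jj y) = t (t y) - (4 : F) • y)

include hc hjj in
/-- the behaviour on `W = F[t]x + jF[t]x` of an involution which is `-1` on `g F[t]x` and `+1` on
`j g F[t] x` -/
theorem invol_props (x : ι → F) (g ρ : Module.End F (ι → F))
    (hgjj : ∀ y, g (jj y) = jj (g y)) (hgae : ∀ (q : F[X]) y, g (aeval t q y) = aeval t q (g y))
    (hgW : ∀ y ∈ cycW t jj x, g y ∈ cycW t jj x)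
    (hgsurj : ∀ y ∈ cycW t jj x, ∃ a b : F[X], y = g (aeval t a x) + jj (g (aeval t b x)))
    (hm : ∀ a : F[X], ρ (g (aeval t a x)) = -g (aeval t a x))
    (hp : ∀ b : F[X], ρ (jj (g (aeval t b x))) = jj (g (aeval t b x))) :
    (∀ y ∈ cycW t jj x, ρ y ∈ cycW t jj x) ∧
    (∀ y ∈ cycW t jj x, ρ (jj y) = -jj (ρ y)) ∧
    (∀ y ∈ cycW t jj x, ρ (t y) = t (ρ y)) := by
  have hφW : ∀ a : F[X], aeval t a x ∈ cycW t jj x := fun a =>
    (mem_cycW t jj x _).mpr ⟨a, 0, by rw [map_zero, LinearMap.zero_apply, map_zero, add_zero]⟩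
  refine ⟨?_, ?_, ?_⟩
  · intro y hy
    obtain ⟨a, b, rfl⟩ := hgsurj y hy
    rw [map_add, hm, hp]
    exact add_mem (neg_mem (hgW _ (hφW a))) (cycW_jj t jj hc hjj x _ (hgW _ (hφW b)))
  · intro y hy
    obtain ⟨a, b, rfl⟩ := hgsurj y hy
    have h1 : jj (jj (g (aeval t b x))) = g (aeval t (dl F * b) x) := by
      calc jj (jj (g (aeval t b x))) = aeval t (dl F) (g (aeval t b x)) :=
            (aeval_dl t jj hjj _).symm
        _ = g (aeval t (dl F) (aeval t b x)) := (hgae _ _).symm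
        _ = g (aeval t (dl F * b) x) := by rw [aeval_mul_apply']
    calc ρ (jj (g (aeval t a x) + jj (g (aeval t b x))))
        = ρ (jj (g (aeval t a x))) + ρ (g (aeval t (dl F * b) x)) := by
          rw [map_add, map_add, h1]
      _ = jj (g (aeval t a x)) - g (aeval t (dl F * b) x) := by rw [hp, hm]; abel
      _ = -jj (-g (aeval t a x) + jj (g (aeval t b x))) := by
          rw [map_add, map_neg, h1]; abel
      _ = -jj (ρ (g (aeval t a x) + jj (g (aeval t b x)))) := by rw [map_add ρ, hm, hp]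
  · intro y hy
    obtain ⟨a, b, rfl⟩ := hgsurj y hy
    have h1 : ∀ a : F[X], t (g (aeval t a x)) = g (aeval t (X * a) x) := by
      intro a
      calc t (g (aeval t a x)) = aeval t X (g (aeval t a x)) := by rw [aeval_X]
        _ = g (aeval t X (aeval t a x)) := (hgae _ _).symm
        _ = g (aeval t (X * a) x) := by rw [aeval_mul_apply']
    have h2 : ∀ b : F[X], t (jj (g (aeval t b x))) = jj (g (aeval t (X * b) x)) := by
      intro b
      rw [← h1 b, ← Module.End.mul_apply t jj, hc, Module.End.mul_apply]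
    calc ρ (t (g (aeval t a x) + jj (g (aeval t b x))))
        = ρ (g (aeval t (X * a) x)) + ρ (jj (g (aeval t (X * b) x))) := by
          rw [map_add, map_add, h1, h2]
      _ = -g (aeval t (X * a) x) + jj (g (aeval t (X * b) x)) := by rw [hm, hp]
      _ = t (-g (aeval t a x) + jj (g (aeval t b x))) := by
          rw [map_add, map_neg, h1, h2]
      _ = t (ρ (g (aeval t a x) + jj (g (aeval t b x)))) := by rw [map_add ρ, hm, hp]

include hself hskew hc hjj in
theorem perp_invariant (x w' : ι → F)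
    (hw' : ∀ z ∈ cycW t jj x, QuadraticMap.polar Q z w' = 0) :
    (∀ z ∈ cycW t jj x, QuadraticMap.polar Q z (t w') = 0) ∧
    (∀ z ∈ cycW t jj x, QuadraticMap.polar Q z (jj w') = 0) := by
  constructor
  · intro z hz
    rw [← hself]
    have : t z = aeval t (X : F[X]) z := by rw [aeval_X]
    rw [this]
    exact hw' _ (cycW_aeval t jj hc x z hz X)
  · intro z hz
    have := hskew z w'
    rw [hw' _ (cycW_jj t jj hc hjj x z hz)] at this
    linear_combination this

include hself hskew hc hjj in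
/-- the product of two such involutions commutes with `t` and `j` -/
theorem invol_comm (x : ι → F)
    (hdec : ∀ y : ι → F, ∃ w ∈ cycW t jj x, ∃ w' : ι → F, y = w + w' ∧
      ∀ z ∈ cycW t jj x, QuadraticMap.polar Q z w' = 0)
    (ρ₁ ρ₂ : Module.End F (ι → F))
    (h1W : ∀ y ∈ cycW t jj x, ρ₁ y ∈ cycW t jj x)
    (h1j : ∀ y ∈ cycW t jj x, ρ₁ (jj y) = -jj (ρ₁ y))
    (h1t : ∀ y ∈ cycW t jj x, ρ₁ (t y) = t (ρ₁ y))
    (h10 : ∀ w' : ι → F, (∀ z ∈ cycW t jj x, QuadraticMap.polar Q z w' = 0) → ρ₁ w' = w')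
    (h2W : ∀ y ∈ cycW t jj x, ρ₂ y ∈ cycW t jj x)
    (h2j : ∀ y ∈ cycW t jj x, ρ₂ (jj y) = -jj (ρ₂ y))
    (h2t : ∀ y ∈ cycW t jj x, ρ₂ (t y) = t (ρ₂ y))
    (h20 : ∀ w' : ι → F, (∀ z ∈ cycW t jj x, QuadraticMap.polar Q z w' = 0) → ρ₂ w' = w') :
    (∀ y, ρ₁ (ρ₂ (t y)) = t (ρ₁ (ρ₂ y))) ∧ (∀ y, ρ₁ (ρ₂ (jj y)) = jj (ρ₁ (ρ₂ y))) := by
  constructor
  · intro y
    obtain ⟨w, hw, w', rfl, hw'⟩ := hdec y
    obtain ⟨hp1, hp2⟩ := perp_invariant Q t jj hself hskew hc hjj x w' hw'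
    rw [map_add, map_add, map_add, h2t w hw, h1t _ (h2W w hw), h20 _ hp1, h10 _ hp1,
      map_add, map_add, map_add, h20 w' hw', h10 w' hw']
  · intro y
    obtain ⟨w, hw, w', rfl, hw'⟩ := hdec y
    obtain ⟨hp1, hp2⟩ := perp_invariant Q t jj hself hskew hc hjj x w' hw'
    rw [map_add, map_add, map_add, h2j w hw, map_neg, h1j _ (h2W w hw), neg_neg, h20 _ hp2,
      h10 _ hp2, map_add, map_add, map_add, h20 w' hw', h10 w' hw']

end invol

end Cfsg.Agent.Lib.Helper16.SS
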