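import Mathlib

set_option autoImplicit false
set_option linter.unusedSectionVars false
set_option linter.unusedVariables false

namespace Cfsg.Agent.Lib.Helper16.SS

open Matrix Module

universe u v

section gram

variable {K : Type u} [Field K] {M : Type v} [AddCommGroup M] [Module K M] [FiniteDimensional K M]

theorem det_gram_of_ortho {d : ℕ} (B : LinearMap.BilinForm K M) (v : Basis (Fin d) K M)
    (hv : B.IsOrthoᵢ v) :
    (LinearMap.BilinForm.toMatrix v B).det = ∏ i, B (v i) (v i) := by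
  have h1 : LinearMap.BilinForm.toMatrix v B = Matrix.diagonal (fun i => B (v i) (v i)) := by
    ext i j
    rw [LinearMap.BilinForm.toMatrix_apply]
    by_cases hij : i = j
    · subst hij; rw [Matrix.diagonal_apply_eq]
    · rw [Matrix.diagonal_apply_ne _ hij]
      exact hv hij
  rw [h1, Matrix.det_diagonal]

/-- orthogonal bases for a symmetric nondegenerate form and its twist by an invertible self-adjoint
operator: the product of all the diagonal entries is the determinant of the operator up to a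
square. -/
theorem gram_twist (h2 : (2 : K) ≠ 0) (B₁ : LinearMap.BilinForm K M) (hsymm : B₁.IsSymm)
    (hnd : B₁.Nondegenerate) (ν : M →ₗ[K] M) (hν : ∀ a b, B₁ (ν a) b = B₁ a (ν b))
    (hνs : Function.Surjective ν) :
    ∃ v w : Basis (Fin (finrank K M)) K M,
      (∀ i j, i ≠ j → B₁ (v i) (v j) = 0) ∧ (∀ i j, i ≠ j → B₁ (w i) (ν (w j)) = 0) ∧
      (∀ i, B₁ (v i) (v i) ≠ 0) ∧ (∀ i, B₁ (w i) (ν (w i)) ≠ 0) ∧
      ∃ c : K, c ≠ 0 ∧
        (∏ i, B₁ (v i) (v i)) * (∏ i, B₁ (w i) (ν (w i))) = c ^ 2 * LinearMap.det ν := by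
  have hinv : Invertible (2 : K) := invertibleOfNonzero h2
  set B₂ : LinearMap.BilinForm K M := B₁.compRight ν with hB₂
  have hB₂app : ∀ a b, B₂ a b = B₁ a (ν b) := fun a b => rfl
  have hsymm₂ : B₂.IsSymm := by
    refine ⟨fun a b => ?_⟩
    show B₂ a b = B₂ b a
    rw [hB₂app, hB₂app, ← hν, hsymm.eq]
  have hnd₂ : B₂.Nondegenerate := by
    have hleft : ∀ m, (∀ n, B₂ m n = 0) → m = 0 := by
      intro m hm
      apply hnd.1 m
      intro n
      obtain ⟨n', rfl⟩ := hνs n
      exact hm n'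
    refine ⟨hleft, ?_⟩
    intro n hn
    apply hleft
    intro m
    rw [← hsymm₂.eq]
    exact hn m
  obtain ⟨v, hv⟩ := LinearMap.BilinForm.exists_orthogonal_basis (LinearMap.BilinForm.isSymm_iff.mp hsymm)
  obtain ⟨w, hw⟩ := LinearMap.BilinForm.exists_orthogonal_basis (LinearMap.BilinForm.isSymm_iff.mp hsymm₂)
  have hvne : ∀ i, B₁ (v i) (v i) ≠ 0 := fun i =>
    LinearMap.IsOrthoᵢ.not_isOrtho_basis_self_of_separatingLeft hv hnd.1 i
  have hwne : ∀ i, B₂ (w i) (w i) ≠ 0 := fun i =>
    LinearMap.IsOrthoᵢ.not_isOrtho_basis_self_of_separatingLeft hw hnd₂.1 i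
  refine ⟨v, w, fun i j hij => hv hij, fun i j hij => hw hij, hvne, hwne, ?_⟩
  have hd1 := det_gram_of_ortho B₁ v hv
  have hd2 := det_gram_of_ortho B₂ w hw
  have hd3 : (LinearMap.BilinForm.toMatrix w B₂).det =
      (LinearMap.BilinForm.toMatrix w B₁).det * LinearMap.det ν := by
    rw [hB₂, LinearMap.BilinForm.toMatrix_compRight, Matrix.det_mul, LinearMap.det_toMatrix]
  have hd4 := LinearMap.BilinForm.toMatrix_mul_basis_toMatrix (b := v) w B₁
  have hd5 : (LinearMap.BilinForm.toMatrix w B₁).det =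
      (v.toMatrix w).det ^ 2 * (LinearMap.BilinForm.toMatrix v B₁).det := by
    rw [← hd4, Matrix.det_mul, Matrix.det_mul, Matrix.det_transpose]
    ring
  have hP : (v.toMatrix w).det ≠ 0 := by
    have h1 : v.toMatrix w * w.toMatrix v = 1 := Basis.toMatrix_mul_toMatrix_flip v w
    intro h0
    have := congrArg Matrix.det h1
    rw [Matrix.det_mul, h0, zero_mul, Matrix.det_one] at this
    exact zero_ne_one this
  have hdv : (LinearMap.BilinForm.toMatrix v B₁).det ≠ 0 := by
    rw [hd1]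
    exact Finset.prod_ne_zero_iff.mpr (fun i _ => hvne i)
  refine ⟨(v.toMatrix w).det * (LinearMap.BilinForm.toMatrix v B₁).det, mul_ne_zero hP hdv, ?_⟩
  have e2 : (∏ i, B₁ (w i) (ν (w i))) = (LinearMap.BilinForm.toMatrix w B₂).det := by
    rw [hd2]
    rfl
  rw [← hd1, e2, hd3, hd5]
  ring

end gram

end Cfsg.Agent.Lib.Helper16.SS
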