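import Mathlib
import Cfsg.Agent.Lib.Helper16.SS12
import Cfsg.Agent.Lib.Helper16.SS13
import Cfsg.Agent.Lib.Helper16.OL8
import Cfsg.Agent.Lib.Lead.OmegaIdx

set_option autoImplicit false
set_option linter.unusedSectionVars false
set_option linter.unusedVariables false

namespace Cfsg.Agent.Lib.Helper16.SS

open Matrix Module Polynomial Cfsg.Agent.Lib.Helper16

universe u v

section fld

variable {ι : Type} [Fintype ι] [DecidableEq ι] {F : Type u} [Field F]
variable (t jj : Module.End F (ι → F))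

theorem cycM_aeval (x y : ι → F) (hy : y ∈ cycM t x) (q : F[X]) : aeval t q y ∈ cycM t x := by
  obtain ⟨a, rfl⟩ := (mem_cycM t x y).mp hy
  exact (mem_cycM t x _).mpr ⟨q * a, aeval_mul_apply' t q a x⟩

/-- the restriction of a polynomial in `t` to the cyclic subspace -/
noncomputable def nuM (x : ι → F) (n : F[X]) : ↥(cycM t x) →ₗ[F] ↥(cycM t x) :=
  (aeval t n).restrict (fun y hy => cycM_aeval t x y hy n)

theorem nuM_coe (x : ι → F) (n : F[X]) (m : ↥(cycM t x)) :
    ((nuM t x n m : ↥(cycM t x)) : ι → F) = aeval t n (m : ι → F) := rfl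

set_option maxHeartbeats 1600000 in
/-- a twisting operator whose norm has nonsquare determinant on the cyclic subspace -/
theorem exists_twist_nonsq [Fintype F] (h2 : (2 : F) ≠ 0) (P : F[X]) (hP : Irreducible P)
    (x : ι → F) (hx : x ≠ 0) (hPx : aeval t P x = 0) (hδ : aeval t (dl F) x ≠ 0) :
    ∃ a₀ b₀ : F[X], aeval t (twN a₀ b₀) x ≠ 0 ∧
      ¬ IsSquare (LinearMap.det (nuM t x (twN a₀ b₀))) := by
  classical
  have hfact : Fact (Irreducible P) := ⟨hP⟩
  obtain ⟨ψ, hinj, hψ⟩ := cyclic_embed_mk t P x hx hPx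
  have hfinL : Module.Finite F (AdjoinRoot P) := (AdjoinRoot.powerBasis hP.ne_zero).finite
  have hFinL : Finite (AdjoinRoot P) := Module.finite_of_finite F
  let _ : Fintype (AdjoinRoot P) := Fintype.ofFinite _
  have h2L : (2 : AdjoinRoot P) ≠ 0 := by
    intro h0
    apply h2
    have h1 : algebraMap F (AdjoinRoot P) 2 = 0 := by rw [map_ofNat]; exact h0
    exact (map_eq_zero (algebraMap F (AdjoinRoot P))).mp h1
  have hcardL : Fintype.card (AdjoinRoot P) % 2 = 1 := OL.card_odd_of h2L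
  obtain ⟨d₀, hd₀0, hd₀⟩ := Cfsg.Agent.Lib.Lead.OI.exists_nonsquare (F := F) h2
  obtain ⟨νL, hνL⟩ := FiniteField.norm_surjective F (AdjoinRoot P) d₀
  set δL : AdjoinRoot P := AdjoinRoot.mk P (dl F) with hδL
  have hδL0 : δL ≠ 0 := by
    intro h0
    apply hδ
    rw [← hψ, ← hδL, h0, map_zero]
  -- solve a² - δ b² = ν
  obtain ⟨aL, bL, hab⟩ := FiniteField.exists_root_sum_quadratic
    (f := (X ^ 2 - C νL : (AdjoinRoot P)[X])) (g := (C (-δL) * X ^ 2 : (AdjoinRoot P)[X]))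
    (by
      rw [degree_X_pow_sub_C (by norm_num : 0 < 2)]; rfl)
    (by
      rw [degree_C_mul_X_pow 2 (neg_ne_zero.mpr hδL0)]; rfl) hcardL
  simp only [eval_sub, eval_pow, eval_X, eval_C, eval_mul] at hab
  obtain ⟨a₀, ha₀⟩ := AdjoinRoot.mk_surjective (g := P) aL
  obtain ⟨b₀, hb₀⟩ := AdjoinRoot.mk_surjective (g := P) bL
  have hmkn : AdjoinRoot.mk P (twN a₀ b₀) = νL := by
    unfold twN
    rw [map_sub, map_mul, map_mul, map_mul, ha₀, hb₀, ← hδL]
    linear_combination hab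
  have hνL0 : νL ≠ 0 := by
    rintro rfl
    rw [Algebra.norm_zero] at hνL
    exact hd₀0 hνL.symm
  refine ⟨a₀, b₀, ?_, ?_⟩
  · rw [← hψ, hmkn]
    intro h0
    exact hνL0 (hinj (by rw [h0, map_zero]))
  · -- the determinant
    have hrange : LinearMap.range ψ = cycM t x := by
      ext y
      rw [LinearMap.mem_range, mem_cycM]
      constructor
      · rintro ⟨l, rfl⟩
        obtain ⟨q, rfl⟩ := AdjoinRoot.mk_surjective (g := P) l
        exact ⟨q, (hψ q).symm⟩
      · rintro ⟨q, rfl⟩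
        exact ⟨AdjoinRoot.mk P q, hψ q⟩
    let ψ₁ : AdjoinRoot P ≃ₗ[F] ↥(LinearMap.range ψ) := LinearEquiv.ofInjective ψ hinj
    let ψ' : AdjoinRoot P ≃ₗ[F] ↥(cycM t x) := ψ₁.trans (LinearEquiv.ofEq _ _ hrange)
    have hψ' : ∀ l, ((ψ' l : ↥(cycM t x)) : ι → F) = ψ l := fun l => rfl
    have hconj : nuM t x (twN a₀ b₀) =
        ψ'.toLinearMap ∘ₗ (Algebra.lmul F (AdjoinRoot P) νL) ∘ₗ ψ'.symm.toLinearMap := by
      apply LinearMap.ext
      intro m
      obtain ⟨l, rfl⟩ := ψ'.surjective m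
      apply Subtype.ext
      rw [nuM_coe, hψ']
      simp only [LinearMap.comp_apply, LinearEquiv.coe_coe, LinearEquiv.symm_apply_apply]
      rw [hψ']
      obtain ⟨q, rfl⟩ := AdjoinRoot.mk_surjective (g := P) l
      show aeval t (twN a₀ b₀) (ψ (AdjoinRoot.mk P q)) = ψ (νL * AdjoinRoot.mk P q)
      rw [hψ, ← aeval_mul_apply', ← hψ, map_mul, hmkn]
    have hdet : LinearMap.det (nuM t x (twN a₀ b₀)) = d₀ := by
      rw [hconj, LinearMap.det_conj, ← Algebra.norm_apply, hνL]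
    rw [hdet]
    exact hd₀

end fld

end Cfsg.Agent.Lib.Helper16.SS
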