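import Mathlib
import Cfsg.Agent.Lib.Helper16.SS14
import Cfsg.Agent.Lib.Helper16.Gram
import Cfsg.Agent.Lib.Helper16.PSC4

set_option autoImplicit false
set_option linter.unusedSectionVars false
set_option linter.unusedVariables false

namespace Cfsg.Agent.Lib.Helper16.SS

open Matrix Module Polynomial Cfsg.Agent.Lib.Helper16 Cfsg.Agent.Lib.Lead.OA Cfsg.Agent.Lib.Helper16.PSC

universe u v

section core

variable {ι : Type} [Fintype ι] [DecidableEq ι] {F : Type u} [Field F]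
variable (Q : QuadraticForm F (ι → F)) (t jj : Module.End F (ι → F))

theorem Q_ne_of_polar_self (h2 : (2 : F) ≠ 0) (y : ι → F) (hy : QuadraticMap.polar Q y y ≠ 0) :
    Q y ≠ 0 := by
  intro h0
  apply hy
  rw [QuadraticMap.polar_self, h0, smul_zero]

theorem polar_self_eq (y : ι → F) : QuadraticMap.polar Q y y = 2 * Q y := by
  rw [QuadraticMap.polar_self]
  simp

/-- the endomorphism of a product of reflections -/
noncomputable def rhoEnd (us : List (ι → F)) : Module.End F (ι → F) := Matrix.toLin' (rhoMat Q us)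

theorem rhoEnd_apply (us : List (ι → F)) (y : ι → F) : rhoEnd Q us y = rhoMat Q us *ᵥ y :=
  Matrix.toLin'_apply _ _

/-- a product of reflections along an orthogonal family negates the span -/
theorem rhoEnd_neg_of_basis (h2 : (2 : F) ≠ 0) {d : ℕ} (M : Submodule F (ι → F))
    (w : Basis (Fin d) F ↥M) (g : Module.End F (ι → F))
    (hQ : ∀ i, Q (g (w i : ι → F)) ≠ 0)
    (horth : ∀ i j, i ≠ j → QuadraticMap.polar Q (g (w i : ι → F)) (g (w j : ι → F)) = 0)
    (m : ι → F) (hm : m ∈ M) :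
    rhoEnd Q (List.ofFn (fun i => g (w i : ι → F))) (g m) = -g m := by
  set us := List.ofFn (fun i => g (w i : ι → F)) with hus
  have hQ' : ∀ u ∈ us, Q u ≠ 0 := by
    intro u hu
    rw [hus, List.mem_ofFn] at hu
    obtain ⟨i, rfl⟩ := hu
    exact hQ i
  have hpw : us.Pairwise (fun u v => QuadraticMap.polar Q u v = 0) := by
    rw [hus, List.pairwise_ofFn]
    intro i j hij
    exact horth i j (ne_of_lt hij)
  have hL : (rhoEnd Q us ∘ₗ g) ∘ₗ M.subtype = -(g ∘ₗ M.subtype) := by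
    apply w.ext
    intro i
    simp only [LinearMap.comp_apply, Submodule.subtype_apply, LinearMap.neg_apply]
    rw [rhoEnd_apply]
    exact rhoMat_neg Q h2 us hQ' hpw _ (by rw [hus, List.mem_ofFn]; exact ⟨i, rfl⟩)
  have := congrArg (fun L : ↥M →ₗ[F] (ι → F) => L ⟨m, hm⟩) hL
  simpa using this

theorem prod_Q_ofFn {d : ℕ} (f : Fin d → (ι → F)) :
    ((List.ofFn f).map (fun v => Q v)).prod = ∏ i, Q (f i) := by
  rw [List.map_ofFn, List.prod_ofFn]
  rfl

theorem two_pow_prod_Q {d : ℕ} (f : Fin d → (ι → F)) :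
    (2 : F) ^ d * ∏ i, Q (f i) = ∏ i, QuadraticMap.polar Q (f i) (f i) := by
  have h1 : ∀ i, QuadraticMap.polar Q (f i) (f i) = 2 * Q (f i) := fun i => polar_self_eq Q _
  rw [Finset.prod_congr rfl (fun i _ => h1 i), Finset.prod_mul_distrib, Finset.prod_const,
    Finset.card_univ, Fintype.card_fin]

set_option maxHeartbeats 4000000 in
/-- the core construction: an element of the special orthogonal group with spinor character `-1`
commuting with a self-adjoint semisimple `t` and an invertible skew `j` with `j² = t² - 4` -/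
theorem core_II [Fintype F] (h2 : (2 : F) ≠ 0)
    (hQ : (QuadraticMap.polarBilin Q).Nondegenerate) (hne : ∃ v, Q v ≠ 0)
    (hself : ∀ a b, QuadraticMap.polar Q (t a) b = QuadraticMap.polar Q a (t b))
    (hskew : ∀ a b, QuadraticMap.polar Q (jj a) b = -QuadraticMap.polar Q a (jj b))
    (hc : t * jj = jj * t) (hjj : ∀ y, jj (jj y) = t (t y) - (4 : F) • y)
    (hinj : Function.Injective jj)
    (hred : ∀ (q : F[X]) (k : ℕ), (aeval t q) ^ k = 0 → aeval t q = 0)
    (χ : ↥(Cfsg.isometryGroup F (⇑Q : (ι → F) → F)) →* ℤˣ) (κ : ℤˣ)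
    (hχ : ∀ (v : ι → F) (hv : Q v ≠ 0), χ (reflG Q v hv) = κ * sqSign (Q v)) :
    ∃ c' : ↥(Cfsg.isometryGroup F (⇑Q : (ι → F) → F)),
      isoDet (⇑Q : (ι → F) → F) c' = 1 ∧ χ c' = -1 ∧
      (∀ y, ((c' : GL ι F) : Matrix ι ι F) *ᵥ (t y) = t (((c' : GL ι F) : Matrix ι ι F) *ᵥ y)) ∧
      (∀ y, ((c' : GL ι F) : Matrix ι ι F) *ᵥ (jj y) = jj (((c' : GL ι F) : Matrix ι ι F) *ᵥ y)) := by
  classical
  obtain ⟨P, hP, x, hQx, hPx⟩ := exists_irred_nonsing Q hQ hne t hself hred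
  have hx : x ≠ 0 := by
    rintro rfl
    exact hQx (map_zero Q)
  have hδ := aeval_dl_ne t jj hjj hinj x hx
  obtain ⟨a₀, b₀, hn0, hdet⟩ := exists_twist_nonsq t h2 P hP x hx hPx hδ
  set n : F[X] := twN a₀ b₀ with hn
  obtain ⟨n', hn'⟩ := exists_inv_mod t P hP x hPx n hn0
  set f : Module.End F (ι → F) := twF t jj a₀ b₀ with hf
  set M : Submodule F (ι → F) := cycM t x with hM
  set B : LinearMap.BilinForm F (ι → F) := QuadraticMap.polarBilin Q with hB
  have hBapp : ∀ u v, B u v = QuadraticMap.polar Q u v := fun u v => rfl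
  set B₁ : LinearMap.BilinForm F ↥M := B.restrict M with hB₁
  have hB₁app : ∀ a b : ↥M, B₁ a b = QuadraticMap.polar Q (a : ι → F) (b : ι → F) := fun a b => rfl
  have hsymm : B₁.IsSymm := ⟨fun a b => by
    show B₁ a b = B₁ b a
    rw [hB₁app, hB₁app, QuadraticMap.polar_comm]⟩
  have hleft : ∀ m : ↥M, (∀ m' : ↥M, B₁ m m' = 0) → m = 0 := by
    rintro ⟨m, hm⟩ hmm
    obtain ⟨a, rfl⟩ := (mem_cycM t x m).mp hm
    apply Subtype.ext
    apply cyc_nondeg Q t hself h2 P hP x hPx hQx a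
    intro b
    exact hmm ⟨aeval t b x, (mem_cycM t x _).mpr ⟨b, rfl⟩⟩
  have hnd : B₁.Nondegenerate := by
    refine ⟨hleft, ?_⟩
    intro m hm
    apply hleft
    intro m'
    rw [← hsymm.eq]
    exact hm m'
  set ν : ↥M →ₗ[F] ↥M := nuM t x n with hνdef
  have hν : ∀ a b, B₁ (ν a) b = B₁ a (ν b) := by
    intro a b
    rw [hB₁app, hB₁app, hνdef, nuM_coe, nuM_coe, polar_aeval_self_adj Q t hself]
  have hνs : Function.Surjective ν := by
    rintro ⟨m, hm⟩
    obtain ⟨a, rfl⟩ := (mem_cycM t x m).mp hm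
    refine ⟨⟨aeval t (n' * a) x, (mem_cycM t x _).mpr ⟨_, rfl⟩⟩, ?_⟩
    apply Subtype.ext
    rw [hνdef, nuM_coe]
    show aeval t n (aeval t (n' * a) x) = aeval t a x
    rw [← aeval_mul_apply', ← mul_assoc, hn']
  obtain ⟨v, w, hvo, hwo, hvne, hwne, c, hc0, hprod⟩ := gram_twist h2 B₁ hsymm hnd ν hν hνs
  -- the two families
  set fv : Fin (finrank F ↥M) → (ι → F) := fun i => ((v i : ↥M) : ι → F) with hfv
  set fw : Fin (finrank F ↥M) → (ι → F) := fun i => f ((w i : ↥M) : ι → F) with hfw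
  have hpolfw : ∀ i j, QuadraticMap.polar Q (fw i) (fw j) = B₁ (w i) (ν (w j)) := by
    intro i j
    rw [hfw, hB₁app, hνdef, nuM_coe]
    exact polar_twF_twF Q t jj hself hskew hc hjj a₀ b₀ _ _
  have hQv : ∀ i, Q (fv i) ≠ 0 := fun i => Q_ne_of_polar_self Q h2 _ (hvne i)
  have hQw : ∀ i, Q (fw i) ≠ 0 := fun i =>
    Q_ne_of_polar_self Q h2 _ (by rw [hpolfw]; exact hwne i)
  set us : List (ι → F) := List.ofFn fv with hus
  set us' : List (ι → F) := List.ofFn fw with hus'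
  have husQ : ∀ u ∈ us, Q u ≠ 0 := by
    intro u hu
    rw [hus, List.mem_ofFn] at hu
    obtain ⟨i, rfl⟩ := hu
    exact hQv i
  have hus'Q : ∀ u ∈ us', Q u ≠ 0 := by
    intro u hu
    rw [hus', List.mem_ofFn] at hu
    obtain ⟨i, rfl⟩ := hu
    exact hQw i
  -- membership facts
  have hφW : ∀ a : F[X], aeval t a x ∈ cycW t jj x := fun a =>
    (mem_cycW t jj x _).mpr ⟨a, 0, by rw [map_zero, LinearMap.zero_apply, map_zero, add_zero]⟩
  have hMW : ∀ m ∈ M, m ∈ cycW t jj x := by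
    intro m hm
    obtain ⟨a, rfl⟩ := (mem_cycM t x m).mp hm
    exact hφW a
  -- the involutions
  have hm₁ : ∀ a : F[X], rhoEnd Q us ((1 : Module.End F (ι → F)) (aeval t a x)) =
      -(1 : Module.End F (ι → F)) (aeval t a x) := by
    intro a
    exact rhoEnd_neg_of_basis Q h2 M v 1 hQv (fun i j hij => hvo i j hij) _
      ((mem_cycM t x _).mpr ⟨a, rfl⟩)
  have hm₂ : ∀ a : F[X], rhoEnd Q us' (f (aeval t a x)) = -f (aeval t a x) := by
    intro a
    exact rhoEnd_neg_of_basis Q h2 M w f hQw (fun i j hij => by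
      have := hpolfw i j
      rw [this]; exact hwo i j hij) _ ((mem_cycM t x _).mpr ⟨a, rfl⟩)
  have hp₁ : ∀ b : F[X], rhoEnd Q us (jj ((1 : Module.End F (ι → F)) (aeval t b x))) =
      jj ((1 : Module.End F (ι → F)) (aeval t b x)) := by
    intro b
    rw [rhoEnd_apply]
    apply rhoMat_fix
    intro u hu
    rw [hus, List.mem_ofFn] at hu
    obtain ⟨i, rfl⟩ := hu
    obtain ⟨a, ha⟩ := (mem_cycM t x _).mp (v i).2
    rw [hfv]
    show QuadraticMap.polar Q ((v i : ↥M) : ι → F) (jj (aeval t b x)) = 0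
    rw [← ha]
    exact polar_cyc_jj Q t jj hself hskew hc h2 x a b
  have hp₂ : ∀ b : F[X], rhoEnd Q us' (jj (f (aeval t b x))) = jj (f (aeval t b x)) := by
    intro b
    rw [rhoEnd_apply]
    apply rhoMat_fix
    intro u hu
    rw [hus', List.mem_ofFn] at hu
    obtain ⟨i, rfl⟩ := hu
    obtain ⟨a, ha⟩ := (mem_cycM t x _).mp (w i).2
    rw [hfw]
    show QuadraticMap.polar Q (f ((w i : ↥M) : ι → F)) (jj (f (aeval t b x))) = 0
    rw [← ha, ← twF_jj t jj hc, hf, polar_twF_twF Q t jj hself hskew hc hjj,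
      comm_aeval_apply t jj hc, ← aeval_mul_apply']
    exact polar_cyc_jj Q t jj hself hskew hc h2 x a _
  have h10 : ∀ w' : ι → F, (∀ z ∈ cycW t jj x, QuadraticMap.polar Q z w' = 0) →
      rhoEnd Q us w' = w' := by
    intro w' hw'
    rw [rhoEnd_apply]
    apply rhoMat_fix
    intro u hu
    rw [hus, List.mem_ofFn] at hu
    obtain ⟨i, rfl⟩ := hu
    exact hw' _ (hMW _ (v i).2)
  have h20 : ∀ w' : ι → F, (∀ z ∈ cycW t jj x, QuadraticMap.polar Q z w' = 0) →
      rhoEnd Q us' w' = w' := by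
    intro w' hw'
    rw [rhoEnd_apply]
    apply rhoMat_fix
    intro u hu
    rw [hus', List.mem_ofFn] at hu
    obtain ⟨i, rfl⟩ := hu
    exact hw' _ (cycW_twF t jj hc hjj x _ (hMW _ (w i).2) a₀ b₀)
  obtain ⟨h1W, h1j, h1t⟩ := invol_props t jj hc hjj x 1 (rhoEnd Q us)
    (fun y => rfl) (fun q y => rfl) (fun y hy => hy)
    (fun y hy => (mem_cycW t jj x y).mp hy) hm₁ hp₁
  obtain ⟨h2W, h2j, h2t⟩ := invol_props t jj hc hjj x f (rhoEnd Q us')
    (fun y => twF_jj t jj hc a₀ b₀ y) (fun q y => twF_aeval t jj hc a₀ b₀ q y)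
    (fun y hy => cycW_twF t jj hc hjj x y hy a₀ b₀)
    (fun y hy => exists_twF_preimage t jj hc hjj x a₀ b₀ n' hn' y hy) hm₂ hp₂
  have hdec : ∀ y : ι → F, ∃ w ∈ cycW t jj x, ∃ w' : ι → F, y = w + w' ∧
      ∀ z ∈ cycW t jj x, QuadraticMap.polar Q z w' = 0 := by
    intro y
    obtain ⟨a, b, w', rfl, hw'⟩ := cyc_decomp Q t jj hself hskew hc hjj hinj h2 P hP x hPx hQx y
    refine ⟨_, (mem_cycW t jj x _).mpr ⟨a, b, rfl⟩, w', rfl, ?_⟩
    intro z hz
    obtain ⟨c, d, rfl⟩ := (mem_cycW t jj x z).mp hz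
    exact hw' c d
  obtain ⟨hct, hcj⟩ := invol_comm Q t jj hself hskew hc hjj x hdec (rhoEnd Q us) (rhoEnd Q us')
    h1W h1j h1t h10 h2W h2j h2t h20
  -- the isometry
  refine ⟨(us.map (reflG' Q)).prod * (us'.map (reflG' Q)).prod, ?_, ?_, ?_, ?_⟩
  · rw [map_mul, isoDet_prod Q us husQ, isoDet_prod Q us' hus'Q, hus, hus', List.length_ofFn,
      List.length_ofFn, ← mul_pow]
    simp
  · rw [map_mul, chi_prod' Q χ κ hχ us husQ, chi_prod' Q χ κ hχ us' hus'Q, hus, hus',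
      List.length_ofFn, List.length_ofFn, prod_Q_ofFn, prod_Q_ofFn]
    have hκ : κ ^ (finrank F ↥M) * κ ^ (finrank F ↥M) = 1 := by rw [← mul_pow, Int.units_mul_self, one_pow]
    have hP1 : (∏ i, Q (fv i)) ≠ 0 := Finset.prod_ne_zero_iff.mpr (fun i _ => hQv i)
    have hP2 : (∏ i, Q (fw i)) ≠ 0 := Finset.prod_ne_zero_iff.mpr (fun i _ => hQw i)
    have hkey : ¬ IsSquare ((∏ i, Q (fv i)) * (∏ i, Q (fw i))) := by
      have e1 := two_pow_prod_Q Q fv
      have e2 := two_pow_prod_Q Q fw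
      have e3 : (∏ i, QuadraticMap.polar Q (fw i) (fw i)) = ∏ i, B₁ (w i) (ν (w i)) :=
        Finset.prod_congr rfl (fun i _ => hpolfw i i)
      have e4 : (∏ i, QuadraticMap.polar Q (fv i) (fv i)) = ∏ i, B₁ (v i) (v i) := rfl
      have e5 : ((2 : F) ^ (finrank F ↥M)) ^ 2 * ((∏ i, Q (fv i)) * (∏ i, Q (fw i))) =
          c ^ 2 * LinearMap.det ν := by
        rw [← hprod, ← e4, ← e3, ← e1, ← e2]
        ring
      intro hsq
      have h3 : IsSquare (((2 : F) ^ (finrank F ↥M)) ^ 2 * ((∏ i, Q (fv i)) * (∏ i, Q (fw i)))) :=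
        (isSquare_sq_mul_iff (pow_ne_zero (finrank F ↥M) h2)).mpr hsq
      rw [e5, isSquare_sq_mul_iff hc0] at h3
      exact hdet h3
    calc κ ^ (finrank F ↥M) * sqSign (∏ i, Q (fv i)) * (κ ^ (finrank F ↥M) * sqSign (∏ i, Q (fw i)))
        = (κ ^ (finrank F ↥M) * κ ^ (finrank F ↥M)) * (sqSign (∏ i, Q (fv i)) * sqSign (∏ i, Q (fw i))) := by
          rw [mul_mul_mul_comm]
      _ = sqSign ((∏ i, Q (fv i)) * (∏ i, Q (fw i))) := by
          rw [hκ, one_mul, sqSign_mul hP1 hP2]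
      _ = -1 := sqSign_neg_one_of_not hkey
  · intro y
    rw [Subgroup.coe_mul, Units.val_mul, rhoMat_coe Q us husQ, rhoMat_coe Q us' hus'Q,
      ← Matrix.mulVec_mulVec, ← Matrix.mulVec_mulVec, ← rhoEnd_apply, ← rhoEnd_apply,
      ← rhoEnd_apply, ← rhoEnd_apply]
    exact hct y
  · intro y
    rw [Subgroup.coe_mul, Units.val_mul, rhoMat_coe Q us husQ, rhoMat_coe Q us' hus'Q,
      ← Matrix.mulVec_mulVec, ← Matrix.mulVec_mulVec, ← rhoEnd_apply, ← rhoEnd_apply,
      ← rhoEnd_apply, ← rhoEnd_apply]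
    exact hcj y

end core

end Cfsg.Agent.Lib.Helper16.SS
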