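import Mathlib
import Cfsg.Agent.Lib.Helper16.SS15
import Cfsg.Agent.Lib.Helper16.SpSemi2

set_option autoImplicit false
set_option linter.unusedSectionVars false
set_option linter.unusedVariables false

namespace Cfsg.Agent.Lib.Helper16.SS

open Matrix Module Polynomial Cfsg.Agent.Lib.Helper16 Cfsg.Agent.Lib.Lead.OA
  Cfsg.Agent.Lib.Helper16.PSC Cfsg.Agent.Lib.Lead

universe u v

section app

variable {ι : Type} [Fintype ι] [DecidableEq ι] {F : Type u} [Field F]
variable (Q : QuadraticForm F (ι → F))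

theorem aeval_toLin' (A : Matrix ι ι F) (q : F[X]) :
    aeval (Matrix.toLin' A) q = Matrix.toLin' (aeval A q) := by
  have := Polynomial.aeval_algHom_apply (Matrix.toLinAlgEquiv' : Matrix ι ι F ≃ₐ[F] _).toAlgHom A q
  exact this

set_option maxHeartbeats 1600000 in
/-- (II), case without fixed vectors -/
theorem exists_cent_no_fixed [Fintype F] (h2 : (2 : F) ≠ 0)
    (hQ : (QuadraticMap.polarBilin Q).Nondegenerate) (hne : ∃ v, Q v ≠ 0)
    (g : ↥(Cfsg.isometryGroup F (⇑Q : (ι → F) → F))) (N : ℕ) (hNodd : Odd N) (hN : (N : F) ≠ 0)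
    (hgN : g ^ N = 1)
    (hnofix : ∀ v, ((g : GL ι F) : Matrix ι ι F) *ᵥ v = v → v = 0)
    (χ : ↥(Cfsg.isometryGroup F (⇑Q : (ι → F) → F)) →* ℤˣ) (κ : ℤˣ)
    (hχ : ∀ (v : ι → F) (hv : Q v ≠ 0), χ (reflG Q v hv) = κ * sqSign (Q v)) :
    ∃ c' : ↥(Cfsg.isometryGroup F (⇑Q : (ι → F) → F)),
      isoDet (⇑Q : (ι → F) → F) c' = 1 ∧ χ c' = -1 ∧ c' * g = g * c' := by
  set G : Matrix ι ι F := ((g : GL ι F) : Matrix ι ι F) with hG
  set Gi : Matrix ι ι F := (((g⁻¹ : ↥(Cfsg.isometryGroup F (⇑Q : (ι → F) → F))) : GL ι F) : Matrix ι ι F) with hGi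
  have hGGi : G * Gi = 1 := by
    rw [hG, hGi, ← iso_mul_coe, mul_inv_cancel]; rfl
  have hGiG : Gi * G = 1 := by
    rw [hG, hGi, ← iso_mul_coe, inv_mul_cancel]; rfl
  have hGQ : ∀ x, Q (G *ᵥ x) = Q x := (mem_iso_iff' _ _).mp g.2
  have hGN : G ^ N = 1 := by
    rw [hG, ← isoPow_coe, hgN]; rfl
  have hN0 : N ≠ 0 := by rintro rfl; simp at hN
  have hGiPow : Gi = G ^ (N - 1) := by
    obtain ⟨N', rfl⟩ : ∃ N', N = N' + 1 := ⟨N - 1, by omega⟩
    rw [Nat.add_sub_cancel]
    calc Gi = Gi * (G * G ^ N') := by rw [← pow_succ', hGN, mul_one]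
      _ = G ^ N' := by rw [← mul_assoc, hGiG, one_mul]
  set T : Matrix ι ι F := G + Gi with hT
  set J : Matrix ι ι F := G - Gi with hJ
  have hpol1 : ∀ u v, QuadraticMap.polar Q (G *ᵥ u) v = QuadraticMap.polar Q u (Gi *ᵥ v) := by
    intro u v
    have := OSemi.polar_pres Q G hGQ u (Gi *ᵥ v)
    rw [Matrix.mulVec_mulVec, hGGi, Matrix.one_mulVec] at this
    exact this
  have hpol2 : ∀ u v, QuadraticMap.polar Q (Gi *ᵥ u) v = QuadraticMap.polar Q u (G *ᵥ v) := by
    intro u v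
    have := OSemi.polar_pres Q G hGQ (Gi *ᵥ u) v
    rw [Matrix.mulVec_mulVec, hGGi, Matrix.one_mulVec] at this
    exact this.symm
  have hself : ∀ a b, QuadraticMap.polar Q (Matrix.toLin' T a) b =
      QuadraticMap.polar Q a (Matrix.toLin' T b) := by
    intro a b
    rw [Matrix.toLin'_apply, Matrix.toLin'_apply, hT, Matrix.add_mulVec, Matrix.add_mulVec,
      QuadraticMap.polar_add_left, QuadraticMap.polar_add_right, hpol1, hpol2, add_comm]
  have hskew : ∀ a b, QuadraticMap.polar Q (Matrix.toLin' J a) b =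
      -QuadraticMap.polar Q a (Matrix.toLin' J b) := by
    intro a b
    rw [Matrix.toLin'_apply, Matrix.toLin'_apply, hJ, Matrix.sub_mulVec, Matrix.sub_mulVec,
      QuadraticMap.polar_sub_left, QuadraticMap.polar_sub_right, hpol1, hpol2]
    ring
  have hTJ : T * J = J * T := by
    rw [hT, hJ]
    simp only [add_mul, mul_sub, sub_mul, mul_add, hGGi, hGiG]
    abel
  have hc : Matrix.toLin' T * Matrix.toLin' J = Matrix.toLin' J * Matrix.toLin' T := by
    have h1 : Matrix.toLin' (T * J) = Matrix.toLin' T * Matrix.toLin' J := Matrix.toLin'_mul T J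
    have h2' : Matrix.toLin' (J * T) = Matrix.toLin' J * Matrix.toLin' T := Matrix.toLin'_mul J T
    rw [← h1, ← h2', hTJ]
  have hJJ : J * J = T * T - (4 : F) • (1 : Matrix ι ι F) := by
    rw [hT, hJ]
    simp only [add_mul, mul_sub, sub_mul, mul_add, hGGi, hGiG]
    have : (4 : F) • (1 : Matrix ι ι F) = 1 + 1 + 1 + 1 := by
      rw [show (4 : F) = 1 + 1 + 1 + 1 by norm_num, add_smul, add_smul, add_smul, one_smul]
    rw [this]
    abel
  have hjj : ∀ y, Matrix.toLin' J (Matrix.toLin' J y) =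
      Matrix.toLin' T (Matrix.toLin' T y) - (4 : F) • y := by
    intro y
    simp only [Matrix.toLin'_apply, Matrix.mulVec_mulVec, hJJ, Matrix.sub_mulVec,
      Matrix.smul_mulVec, Matrix.one_mulVec]
  have hJinj : ∀ v, J *ᵥ v = 0 → v = 0 := by
    intro v hv
    have h1 : G *ᵥ v = Gi *ᵥ v := by
      rw [hJ, Matrix.sub_mulVec, sub_eq_zero] at hv; exact hv
    have h3 : (G * G) *ᵥ v = v := by
      rw [← Matrix.mulVec_mulVec, h1, Matrix.mulVec_mulVec, hGGi, Matrix.one_mulVec]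
    have h4 : ∀ k : ℕ, ((G * G) ^ k) *ᵥ v = v := by
      intro k
      induction k with
      | zero => rw [pow_zero, Matrix.one_mulVec]
      | succ k ih => rw [pow_succ, ← Matrix.mulVec_mulVec, h3, ih]
    obtain ⟨k, hk⟩ := hNodd
    apply hnofix
    have h5 : G ^ N = G * (G * G) ^ k := by
      rw [hk, pow_succ', ← pow_two, ← pow_mul]
    rw [h5] at hGN
    have h6 := congrArg (fun t : Matrix ι ι F => t *ᵥ v) hGN
    simp only [Matrix.one_mulVec] at h6
    rw [← Matrix.mulVec_mulVec, h4] at h6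
    exact h6
  have hinj : Function.Injective (Matrix.toLin' J) := by
    rw [← LinearMap.ker_eq_bot, LinearMap.ker_eq_bot']
    intro v hv
    rw [Matrix.toLin'_apply] at hv
    exact hJinj v hv
  have hred : ∀ (q : F[X]) (k : ℕ), (aeval (Matrix.toLin' T) q) ^ k = 0 →
      aeval (Matrix.toLin' T) q = 0 := by
    intro q k hk
    rw [aeval_toLin'] at hk ⊢
    have hTp : T = aeval G (X + X ^ (N - 1) : F[X]) := by
      rw [map_add, aeval_X, map_pow, aeval_X, hT, hGiPow]
    have h1 : aeval T q = aeval G (q.comp (X + X ^ (N - 1))) := by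
      rw [Polynomial.aeval_comp, ← hTp]
    have h3 : (aeval T q) ^ k = 0 := by
      have h4 : Matrix.toLin' ((aeval T q) ^ k) = 0 := by
        rw [← hk]
        exact map_pow (Matrix.toLinAlgEquiv' : Matrix ι ι F ≃ₐ[F] _) (aeval T q) k
      exact (Matrix.toLin' : Matrix ι ι F ≃ₗ[F] _).injective (by rw [h4, map_zero])
    rw [h1] at h3 ⊢
    rw [SpSemi.aeval_eq_zero_of_pow G N hN hGN _ k h3, map_zero]
  obtain ⟨c', hdet, hchi, hct, hcj⟩ := core_II Q (Matrix.toLin' T) (Matrix.toLin' J) h2 hQ hne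
    hself hskew hc hjj hinj hred χ κ hχ
  refine ⟨c', hdet, hchi, ?_⟩
  set C : Matrix ι ι F := ((c' : GL ι F) : Matrix ι ι F) with hC
  have hCT : C * T = T * C := by
    rw [Matrix.ext_iff_mulVec]
    intro y
    have := hct y
    rw [Matrix.toLin'_apply, Matrix.toLin'_apply] at this
    rw [← Matrix.mulVec_mulVec, ← Matrix.mulVec_mulVec]
    exact this
  have hCJ : C * J = J * C := by
    rw [Matrix.ext_iff_mulVec]
    intro y
    have := hcj y
    rw [Matrix.toLin'_apply, Matrix.toLin'_apply] at this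
    rw [← Matrix.mulVec_mulVec, ← Matrix.mulVec_mulVec]
    exact this
  have hTJ2 : T + J = (2 : F) • G := by
    rw [hT, hJ, two_smul]; abel
  have hCG : C * G = G * C := by
    have h1 : C * ((2 : F) • G) = ((2 : F) • G) * C := by
      rw [← hTJ2, mul_add, add_mul, hCT, hCJ]
    rw [Matrix.mul_smul, Matrix.smul_mul] at h1
    exact smul_right_injective _ h2 h1
  apply iso_ext'
  rw [iso_mul_coe, iso_mul_coe]
  exact hCG

end app

end Cfsg.Agent.Lib.Helper16.SS
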