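import Mathlib
import Cfsg.Agent.Lib.Helper16.SS16
import Cfsg.Agent.Lib.Helper16.PSC7

set_option autoImplicit false
set_option linter.unusedSectionVars false
set_option linter.unusedVariables false

namespace Cfsg.Agent.Lib.Helper16.SS

open Matrix Module Cfsg.Agent.Lib.Lead Cfsg.Agent.Lib.Lead.OA Cfsg.Agent.Lib.Helper16
  Cfsg.Agent.Lib.Helper16.OA Cfsg.Agent.Lib.Helper16.OL Cfsg.Agent.Lib.Helper16.PSC
  Cfsg.Agent.Lib.Lead.OAP Cfsg.Agent.Lib.Helper16.PG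

universe u v

section two

variable {ι : Type} [Fintype ι] [DecidableEq ι] {F : Type u} [Field F] [Fintype F]
variable (Q : QuadraticForm F (ι → F))

theorem commute_refl_of_fixed (g : ↥(Cfsg.isometryGroup F (⇑Q : (ι → F) → F))) (a : ι → F)
    (hQa : Q a ≠ 0) (hga : ((g : GL ι F) : Matrix ι ι F) *ᵥ a = a) :
    g * reflG Q a hQa = reflG Q a hQa * g := by
  have hQa' : Q (((g : GL ι F) : Matrix ι ι F) *ᵥ a) ≠ 0 := by rw [hga]; exact hQa
  have := refl_conj Q g a hQa hQa'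
  rw [reflG_congr Q a _ hQa hQa' hga, mul_inv_eq_iff_eq_mul] at this
  exact this

set_option maxHeartbeats 1600000 in
/-- (II): an element of the special orthogonal group outside `Ω` centralising a semisimple isometry
of odd order -/
theorem exists_cent_SO_nonOmega (h2 : (2 : F) ≠ 0)
    (hQ : (QuadraticMap.polarBilin Q).Nondegenerate) (hne : ∃ v, Q v ≠ 0)
    (g : ↥(Cfsg.isometryGroup F (⇑Q : (ι → F) → F))) (N : ℕ) (hNodd : Odd N) (hN : (N : F) ≠ 0)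
    (hgN : g ^ N = 1) (s : ↥(GOq Q)) (hs : s * isoToGO Q g = isoToGO Q g * s)
    (hsns : ¬ IsSquare (mult Q s : F))
    (χ : ↥(Cfsg.isometryGroup F (⇑Q : (ι → F) → F)) →* ℤˣ) (κ : ℤˣ)
    (hχ : ∀ (v : ι → F) (hv : Q v ≠ 0), χ (reflG Q v hv) = κ * sqSign (Q v)) :
    ∃ c' : ↥(Cfsg.isometryGroup F (⇑Q : (ι → F) → F)),
      isoDet (⇑Q : (ι → F) → F) c' = 1 ∧ χ c' = -1 ∧ c' * g = g * c' := by
  by_cases hfix : ∃ v, v ≠ 0 ∧ ((g : GL ι F) : Matrix ι ι F) *ᵥ v = v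
  · obtain ⟨v, hv0, hv⟩ := hfix
    have hAQ : ∀ x, Q (((g : GL ι F) : Matrix ι ι F) *ᵥ x) = Q x := (mem_iso_iff' _ _).mp g.2
    have hAN : ((g : GL ι F) : Matrix ι ι F) ^ N = 1 := by
      rw [← isoPow_coe, hgN]; rfl
    obtain ⟨a, hga, hQa⟩ := exists_fixed_nonsing Q hQ _ hAQ N hN hAN v hv0 hv
    set Sa : ι → F := ((s : GL ι F) : Matrix ι ι F) *ᵥ a with hSa
    have hQSa : Q Sa = ((mult Q s : Fˣ) : F) * Q a := mult_spec Q s a
    have hμ0 : ((mult Q s : Fˣ) : F) ≠ 0 := Units.ne_zero _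
    have hQSa0 : Q Sa ≠ 0 := by rw [hQSa]; exact mul_ne_zero hμ0 hQa
    have hSG : ((s : GL ι F) : Matrix ι ι F) * ((g : GL ι F) : Matrix ι ι F) =
        ((g : GL ι F) : Matrix ι ι F) * ((s : GL ι F) : Matrix ι ι F) := by
      have := congrArg (fun t : ↥(GOq Q) => ((t : GL ι F) : Matrix ι ι F)) hs
      exact this
    have hgSa : ((g : GL ι F) : Matrix ι ι F) *ᵥ Sa = Sa := by
      rw [hSa, Matrix.mulVec_mulVec, ← hSG, ← Matrix.mulVec_mulVec, hga]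
    refine ⟨reflG Q a hQa * reflG Q Sa hQSa0, ?_, ?_, ?_⟩
    · rw [map_mul, isoDet_reflG, isoDet_reflG]
      simp
    · rw [map_mul, hχ, hχ, hQSa, sqSign_mul hμ0 hQa, sqSign_neg_one_of_not hsns]
      have h1 : sqSign (Q a) * sqSign (Q a) = 1 := Int.units_mul_self _
      have h3 : κ * κ = 1 := Int.units_mul_self _
      calc κ * sqSign (Q a) * (κ * (-1 * sqSign (Q a)))
          = -((κ * κ) * (sqSign (Q a) * sqSign (Q a))) := by
            simp only [mul_neg, neg_mul, one_mul, mul_comm, mul_left_comm, mul_assoc]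
        _ = -1 := by rw [h1, h3, one_mul]
    · have c1 := commute_refl_of_fixed Q g a hQa hga
      have c2 := commute_refl_of_fixed Q g Sa hQSa0 hgSa
      rw [mul_assoc, ← c2, ← mul_assoc, ← c1, mul_assoc]
  · push Not at hfix
    apply exists_cent_no_fixed Q h2 hQ hne g N hNodd hN hgN _ χ κ hχ
    intro v hv
    by_contra hv0
    exact hfix v hv0 hv

set_option maxHeartbeats 1600000 in
/-- class fusion for semisimple elements of odd order: the general even-dimensional case -/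
theorem fusion_general (h2 : (2 : F) ≠ 0) (hQ : (QuadraticMap.polarBilin Q).Nondegenerate)
    (hn : 4 ≤ Fintype.card ι) (hne : ∃ v, Q v ≠ 0) (m : ℕ) (hcard : Fintype.card ι = 2 * m)
    (D : Subgroup (MulAut (Cfsg.POmega F (⇑Q : (ι → F) → F))))
    (hD : D = (eps Q hne m).ker.map (cHom (⇑Q : (ι → F) → F)))
    (d₀ : ↥(GOq Q)) (hd₀ : ¬ IsSquare (mult Q d₀ : F)) (hd₀e : eps Q hne m d₀ = 1)
    (x : MulAut (Cfsg.POmega F (⇑Q : (ι → F) → F)))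
    (hx : x ∈ Cfsg.pgoAut F (⇑Q : (ι → F) → F)) (r : ℕ) (hrodd : Odd r) (hrF : (r : F) ≠ 0)
    (hxr : x ^ r = 1) :
    (∀ y : MulAut (Cfsg.POmega F (⇑Q : (ι → F) → F)),
      (Cfsg.IsConjUnder (Cfsg.Inn (Cfsg.POmega F (⇑Q : (ι → F) → F))) x y ↔
        Cfsg.IsConjUnder D x y) ∧
      (Cfsg.IsConjUnder (Cfsg.psoAut F (⇑Q : (ι → F) → F)) x y ↔ Cfsg.IsConjUnder D x y)) ∧
    (∀ y : MulAut (Cfsg.POmega F (⇑Q : (ι → F) → F)),
      Cfsg.IsConjUnder (Cfsg.poAut F (⇑Q : (ι → F) → F)) x y ↔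
        Cfsg.IsConjUnder (Cfsg.pgoAut F (⇑Q : (ι → F) → F)) x y) := by
  obtain ⟨g, s, hgx, hgr, hsg, hsx, hsm, hse⟩ :=
    exists_sigma Q h2 hQ hn hne m hcard d₀ hd₀e x hx r hrodd hrF hxr
  have hsns : ¬ IsSquare (mult Q s : F) := by rw [hsm]; exact hd₀
  obtain ⟨χ, κ, hχ⟩ := spin_char_formula h2 Q
  obtain ⟨c', hc'd, hc'χ, hc'g⟩ :=
    exists_cent_SO_nonOmega Q h2 hQ hne g r hrodd hrF hgr s hsg hsns χ κ hχ
  have hc'x : c0 Q c' * x = x * c0 Q c' := by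
    rw [← hgx, ← map_mul, ← map_mul, hc'g]
  have hInnD : Cfsg.Inn (Cfsg.POmega F (⇑Q : (ι → F) → F)) ≤ D := by
    rw [hD]; exact inn_le_D Q hne m
  have hpsoD : Cfsg.psoAut F (⇑Q : (ι → F) → F) ≤ D := by
    rw [hD]; exact pso_le_D Q hne m
  -- cover of the image of SO by Inn and the centraliser
  have hcovSO : ∀ o : ↥(Cfsg.isometryGroup F (⇑Q : (ι → F) → F)),
      isoDet (⇑Q : (ι → F) → F) o = 1 →
      ∃ k ∈ Cfsg.Inn (Cfsg.POmega F (⇑Q : (ι → F) → F)),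
      ∃ z : MulAut (Cfsg.POmega F (⇑Q : (ι → F) → F)), z * x = x * z ∧ c0 Q o = k * z := by
    intro o ho
    rcases Int.units_eq_one_or (χ o) with h1 | h1
    · refine ⟨c0 Q o, ?_, 1, by rw [one_mul, mul_one], by rw [mul_one]⟩
      rw [inn_eq']
      exact ⟨o, (mem_omega_iff' Q h2 hQ χ κ hχ o).mpr ⟨ho, h1⟩, rfl⟩
    · refine ⟨c0 Q (o * c'⁻¹), ?_, c0 Q c', hc'x, ?_⟩
      · rw [inn_eq']
        refine ⟨o * c'⁻¹, (mem_omega_iff' Q h2 hQ χ κ hχ _).mpr ⟨?_, ?_⟩, rfl⟩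
        · rw [map_mul, map_inv, ho, hc'd, inv_one, mul_one]
        · rw [map_mul, map_inv, h1, hc'χ]
          decide
      · rw [← map_mul, inv_mul_cancel_right]
  have hcovInn : ∀ h ∈ D, ∃ k ∈ Cfsg.Inn (Cfsg.POmega F (⇑Q : (ι → F) → F)),
      ∃ z : MulAut (Cfsg.POmega F (⇑Q : (ι → F) → F)), z * x = x * z ∧ h = k * z := by
    intro h hh
    rw [hD] at hh
    obtain ⟨k₁, hk₁, z₁, hz₁, rfl⟩ := D_cover_pso Q h2 hQ hn hne m hcard x s hsx hsns hse h hh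
    rw [psoAut_eq'] at hk₁
    obtain ⟨o, ho, rfl⟩ := hk₁
    obtain ⟨k, hk, z, hz, hkz⟩ := hcovSO o (MonoidHom.mem_ker.mp ho)
    refine ⟨k, hk, z * z₁, ?_, by rw [hkz, mul_assoc]⟩
    rw [mul_assoc, hz₁, ← mul_assoc, hz, mul_assoc]
  have hcovPso : ∀ h ∈ D, ∃ k ∈ Cfsg.psoAut F (⇑Q : (ι → F) → F),
      ∃ z : MulAut (Cfsg.POmega F (⇑Q : (ι → F) → F)), z * x = x * z ∧ h = k * z := by
    intro h hh
    obtain ⟨k, hk, z, hz, hkz⟩ := hcovInn h hh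
    exact ⟨k, inn_le_pso Q hk, z, hz, hkz⟩
  refine ⟨fun y => ⟨⟨conjUnder_mono _ _ hInnD x y, conjUnder_of_cover _ _ x hcovInn y⟩,
    ⟨conjUnder_mono _ _ hpsoD x y, conjUnder_of_cover _ _ x hcovPso y⟩⟩, fun y => ?_⟩
  exact ⟨conjUnder_mono _ _ (po_le_pgo Q) x y,
    conjUnder_of_cover _ _ x (pgo_cover Q h2 hQ hn hne x s hsx hsns) y⟩

end two

end Cfsg.Agent.Lib.Helper16.SS
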