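import Mathlib
import Cfsg.Agent.Lib.Helper16.SS3
import Cfsg.Agent.Lib.Helper16.PSC10
import Cfsg.Agent.Lib.Helper16.OM23

set_option autoImplicit false
set_option linter.unusedSectionVars false
set_option linter.unusedVariables false

namespace Cfsg.Agent.Lib.Helper16.SS

open Matrix Module Cfsg.Agent.Lib.Lead Cfsg.Agent.Lib.Lead.OA Cfsg.Agent.Lib.Helper16
  Cfsg.Agent.Lib.Helper16.OA Cfsg.Agent.Lib.Helper16.OL Cfsg.Agent.Lib.Helper16.PSC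
  Cfsg.Agent.Lib.Lead.OAP Cfsg.Agent.Lib.Helper16.PG Cfsg.Agent.Lib.Helper16.OM

universe u v

section minus

variable {F : Type u} [Field F] [Fintype F]

theorem odd_card_of_charP {p : ℕ} [Fact p.Prime] [CharP F p] (hp : p ≠ 2) :
    Odd (Fintype.card F) := by
  have hch : ringChar F ≠ 2 := by rw [ringChar.eq F p]; exact hp
  exact Nat.odd_iff.mpr (FiniteField.odd_card_of_char_ne_two hch)

theorem cast_prime_ne_zero {p : ℕ} [Fact p.Prime] [CharP F p] {r : ℕ} (hr : r.Prime)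
    (hrp : r ≠ p) : (r : F) ≠ 0 := by
  intro h0
  have h1 := (CharP.cast_eq_zero_iff F p r).mp h0
  have hpp : p.Prime := Fact.out
  rcases (Nat.dvd_prime hr).mp h1 with h | h
  · exact hpp.one_lt.ne' h
  · exact hrp h.symm

set_option maxHeartbeats 1600000 in
theorem S2721_aux {p : ℕ} [Fact p.Prime] [CharP F p] (hp : p ≠ 2) {m : ℕ} (hm : 3 ≤ m) (a b : F)
    (hab : (∀ z₁ z₂ : F, z₁ ^ 2 + a * z₁ * z₂ + b * z₂ ^ 2 = 0 → z₁ = 0 ∧ z₂ = 0))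
    (x : MulAut (Cfsg.POmega F (Cfsg.quadFormMinus m F a b)))
    (hx : x ∈ Cfsg.pgoAut F (Cfsg.quadFormMinus m F a b)) {r : ℕ} (hr : r.Prime) (hro : Odd r)
    (hrp : r ≠ p) (hxr : orderOf x = r) :
    (∀ y : MulAut (Cfsg.POmega F (Cfsg.quadFormMinus m F a b)),
      (Cfsg.IsConjUnder (Cfsg.Inn (Cfsg.POmega F (Cfsg.quadFormMinus m F a b))) x y ↔
        Cfsg.IsConjUnder (Cfsg.inndiagPOmegaMinus m F a b) x y) ∧
      (Cfsg.IsConjUnder (Cfsg.psoAut F (Cfsg.quadFormMinus m F a b)) x y ↔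
        Cfsg.IsConjUnder (Cfsg.inndiagPOmegaMinus m F a b) x y)) ∧
    (∀ y : MulAut (Cfsg.POmega F (Cfsg.quadFormMinus m F a b)),
      Cfsg.IsConjUnder (Cfsg.poAut F (Cfsg.quadFormMinus m F a b)) x y ↔
        Cfsg.IsConjUnder (Cfsg.pgoAut F (Cfsg.quadFormMinus m F a b)) x y) := by
  have hodd : Odd (Fintype.card F) := odd_card_of_charP hp
  have h2 : (2 : F) ≠ 0 := Cfsg.Agent.Lib.Lead.OAP.two_ne_zero_of_odd hodd
  obtain ⟨hQ, hn, -⟩ := minus_hyps m hm a b hab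
  have hne := minus_exists_ne_zero (F := F) m a b
  obtain ⟨δ, hδ0, hδ⟩ := Cfsg.Agent.Lib.Lead.OI.exists_nonsquare (F := F) h2
  obtain ⟨w₁, w₂, hcw⟩ := Cfsg.Agent.Lib.Lead.OAM.exists_norm_binary a b h2 hab δ hδ0
  set c : Fˣ := Units.mk0 δ hδ0 with hcdef
  have hc' : w₁ ^ 2 + a * w₁ * w₂ + b * w₂ ^ 2 = ((c : Fˣ) : F) := hcw
  set g₁ : ↥(GOq (qfMinus m F a b)) :=
    ⟨Cfsg.Agent.Lib.Lead.OAM.dMinus a b c w₁ w₂ hc',
      Cfsg.Agent.Lib.Lead.OAM.dMinus_mem a b c w₁ w₂ hc'⟩ with hg₁def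
  have hg₁m : mult (qfMinus m F a b) g₁ = c :=
    Cfsg.Agent.Lib.Lead.OAM.mult_dMinus a b hne c w₁ w₂ hc'
  have hg₁e : eps (qfMinus m F a b) hne (m + 1) g₁ = 1 :=
    Cfsg.Agent.Lib.Lead.OAM.eps_dMinus a b hne c w₁ w₂ hc'
  have hg₁ns : ¬ IsSquare ((mult (qfMinus m F a b) g₁ : Fˣ) : F) := by
    rw [hg₁m]; exact hδ
  have hcard : Fintype.card ((Fin m ⊕ Fin m) ⊕ Fin 2) = 2 * (m + 1) := by
    simp; ring
  have hrF : (r : F) ≠ 0 := cast_prime_ne_zero hr hrp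
  have hxr' : x ^ r = 1 := by rw [← hxr]; exact pow_orderOf_eq_one x
  have hD := inndiagMinus_eq (m := m) a b hodd hab hne
  obtain ⟨hA4, hA2⟩ := S2729_aux (a := a) (b := b) hodd hm hab
  by_cases hcase : Even m ∧ Fintype.card F % 4 = 3
  · obtain ⟨φ', hsurj, hker⟩ := hA4 hcase
    exact fusion_cyclic (qfMinus m F a b) h2 hQ hn hne (m + 1) hcard _ hD zmod4_gen φ' hsurj hker
      g₁ hg₁ns hg₁e x hx r hro hrF hxr'
  · obtain ⟨φ', hsurj, hker⟩ := hA2 hcase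
    exact fusion_cyclic (qfMinus m F a b) h2 hQ hn hne (m + 1) hcard _ hD zmod2_gen φ' hsurj hker
      g₁ hg₁ns hg₁e x hx r hro hrF hxr'

end minus

end Cfsg.Agent.Lib.Helper16.SS
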