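import Mathlib
import Cfsg.Agent.Lib.Helper16.SS17
import Cfsg.Agent.Lib.Helper16.SS4

set_option autoImplicit false
set_option linter.unusedSectionVars false
set_option linter.unusedVariables false

namespace Cfsg.Agent.Lib.Helper16.SS

open Matrix Module Cfsg.Agent.Lib.Lead Cfsg.Agent.Lib.Lead.OA Cfsg.Agent.Lib.Helper16
  Cfsg.Agent.Lib.Helper16.OA Cfsg.Agent.Lib.Helper16.OL Cfsg.Agent.Lib.Helper16.PSC
  Cfsg.Agent.Lib.Lead.OAP Cfsg.Agent.Lib.Helper16.PG Cfsg.Agent.Lib.Helper16.OM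

universe u v

section plus

variable {F : Type u} [Field F] [Fintype F]

set_option maxHeartbeats 1600000 in
theorem S2720_aux {p : ℕ} [Fact p.Prime] [CharP F p] (hp : p ≠ 2) {m : ℕ} (hm : 4 ≤ m)
    (x : MulAut (Cfsg.POmega F (Cfsg.quadFormPlus m F)))
    (hx : x ∈ Cfsg.pgoAut F (Cfsg.quadFormPlus m F)) {r : ℕ} (hr : r.Prime) (hro : Odd r)
    (hrp : r ≠ p) (hxr : orderOf x = r) :
    (∀ y : MulAut (Cfsg.POmega F (Cfsg.quadFormPlus m F)),
      (Cfsg.IsConjUnder (Cfsg.Inn (Cfsg.POmega F (Cfsg.quadFormPlus m F))) x y ↔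
        Cfsg.IsConjUnder (Cfsg.inndiagPOmegaPlus m F) x y) ∧
      (Cfsg.IsConjUnder (Cfsg.psoAut F (Cfsg.quadFormPlus m F)) x y ↔
        Cfsg.IsConjUnder (Cfsg.inndiagPOmegaPlus m F) x y)) ∧
    (∀ y : MulAut (Cfsg.POmega F (Cfsg.quadFormPlus m F)),
      Cfsg.IsConjUnder (Cfsg.poAut F (Cfsg.quadFormPlus m F)) x y ↔
        Cfsg.IsConjUnder (Cfsg.pgoAut F (Cfsg.quadFormPlus m F)) x y) := by
  have hodd : Odd (Fintype.card F) := odd_card_of_charP hp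
  have h2 : (2 : F) ≠ 0 := Cfsg.Agent.Lib.Lead.OAP.two_ne_zero_of_odd hodd
  have hQ := qfPlus_nondeg m F
  have hcard := card_plus (m := m)
  have hn : 4 ≤ Fintype.card (Fin m ⊕ Fin m) := by rw [hcard]; omega
  have hne := exists_ne_zero (qfPlus m F) h2 hQ (by omega)
  obtain ⟨δ, hδ0, hδ⟩ := Cfsg.Agent.Lib.Lead.OI.exists_nonsquare (F := F) h2
  set c : Fˣ := Units.mk0 δ hδ0 with hc
  set g₁ : ↥(GOq (qfPlus m F)) := ⟨dPlus c, dPlus_mem c⟩ with hg₁def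
  have hg₁ : ¬ IsSquare ((mult (qfPlus m F) g₁ : Fˣ) : F) := by
    rw [hg₁def, mult_dPlus hne]; exact hδ
  have hg₁e : eps (qfPlus m F) hne m g₁ = 1 := eps_dPlus hne c
  have hrF : (r : F) ≠ 0 := cast_prime_ne_zero hr hrp
  have hxr' : x ^ r = 1 := by rw [← hxr]; exact pow_orderOf_eq_one x
  have hD := inndiagPlus_eq (m := m) h2 hne
  exact fusion_general (qfPlus m F) h2 hQ hn hne m hcard _ hD g₁ hg₁ hg₁e x hx r hro hrF hxr'

end plus

end Cfsg.Agent.Lib.Helper16.SS
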