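import Mathlib

set_option autoImplicit false

namespace Cfsg.Agent.Lib.Helper20.SS

theorem h16_desc_le {n k : ℕ} (hkn : 2 * k ≤ n) :
    (2 * k).descFactorial k * n ^ k ≤ n.descFactorial k * (2 * k) ^ k := by
  rw [Nat.descFactorial_eq_prod_range, Nat.descFactorial_eq_prod_range,
    ← Finset.card_range k, ← Finset.prod_const, ← Finset.prod_const, Finset.card_range,
    ← Finset.prod_mul_distrib, ← Finset.prod_mul_distrib]
  apply Finset.prod_le_prod (fun i _ => Nat.zero_le _)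
  intro i hi
  have hik : i < k := Finset.mem_range.1 hi
  -- (2k - i) * n ≤ (n - i) * (2k)
  obtain ⟨a, ha⟩ : ∃ a, 2 * k = i + a := ⟨2 * k - i, by omega⟩
  obtain ⟨b, hb⟩ : ∃ b, n = 2 * k + b := ⟨n - 2 * k, by omega⟩
  have e1 : 2 * k - i = a := by omega
  have e2 : n - i = a + b := by omega
  rw [e1, e2, hb, ha]
  nlinarith [Nat.zero_le (i * b)]

/-- SS-L: lower bound for `C(n,k)`, `n ≥ 2k`. -/
theorem four_mul_pow_le {n k : ℕ} (hk : 0 < k) (hkn : 2 * k ≤ n) :
    (4 * n) ^ k ≤ n.choose k * (2 * k) ^ (k + 1) := by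
  have h1 := h16_desc_le hkn
  rw [Nat.descFactorial_eq_factorial_mul_choose, Nat.descFactorial_eq_factorial_mul_choose,
    mul_assoc, mul_assoc] at h1
  have h2 : (2 * k).choose k * n ^ k ≤ n.choose k * (2 * k) ^ k :=
    Nat.le_of_mul_le_mul_left h1 (Nat.factorial_pos k)
  have h3 := Nat.four_pow_le_two_mul_self_mul_centralBinom k hk
  rw [Nat.centralBinom_eq_two_mul_choose] at h3
  calc (4 * n) ^ k = 4 ^ k * n ^ k := mul_pow 4 n k
    _ ≤ 2 * k * (2 * k).choose k * n ^ k := Nat.mul_le_mul_right _ h3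
    _ = 2 * k * ((2 * k).choose k * n ^ k) := by ring
    _ ≤ 2 * k * (n.choose k * (2 * k) ^ k) := Nat.mul_le_mul_left _ h2
    _ = n.choose k * (2 * k) ^ (k + 1) := by ring

end Cfsg.Agent.Lib.Helper20.SS
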