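import Mathlib

set_option autoImplicit false

namespace Cfsg.Agent.Lib.Helper20.SS

open Finset in
theorem h16_pi_step (k : ℕ) (hk : 3 ≤ k) : Nat.primeCounting (k + 6) ≤ Nat.primeCounting k + 2 := by
  classical
  have h1 : Nat.primeCounting (k + 6) ≤
      #{p ∈ range (k + 1) | p.Prime} + #{p ∈ Ico (k + 1) (k + 1 + 6) | p.Prime} := by
    rw [Nat.primeCounting, Nat.primeCounting', Nat.count_eq_card_filter_range, range_eq_Ico,
      range_eq_Ico, ← Ico_union_Ico_eq_Ico (Nat.zero_le (k + 1)) (by omega : k + 1 ≤ k + 6 + 1),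
      filter_union]
    exact card_union_le _ _
  have h2 : #{p ∈ range (k + 1) | p.Prime} = Nat.primeCounting k := by
    rw [Nat.primeCounting, Nat.primeCounting', Nat.count_eq_card_filter_range]
  have h3 : #{p ∈ Ico (k + 1) (k + 1 + 6) | p.Prime} ≤
      #{b ∈ Ico (k + 1) (k + 1 + 6) | Nat.Coprime 6 b} := by
    apply card_le_card
    intro p hp
    rw [mem_filter] at hp ⊢
    refine ⟨hp.1, ?_⟩
    have hpp := hp.2
    have hp4 : 4 ≤ p := by have := (mem_Ico.1 hp.1).1; omega
    rw [Nat.coprime_comm, Nat.Prime.coprime_iff_not_dvd hpp]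
    intro hd
    have h6 : p ≤ 6 := Nat.le_of_dvd (by norm_num) hd
    interval_cases p
    · exact absurd hpp (by decide)
    · exact absurd hd (by decide)
    · exact absurd hpp (by decide)
  have h4 : #{b ∈ Ico (k + 1) (k + 1 + 6) | Nat.Coprime 6 b} = 2 := by
    rw [Nat.filter_coprime_Ico_eq_totient]
    decide
  omega

/-- SS-PI: `π(x) ≤ x/3 + 2`. -/
theorem three_mul_pi_le (x : ℕ) : 3 * Nat.primeCounting x ≤ x + 6 := by
  induction x using Nat.strong_induction_on with
  | _ x ih =>
    rcases Nat.lt_or_ge x 9 with h | h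
    · interval_cases x <;> decide
    · have h1 := h16_pi_step (x - 6) (by omega)
      have h2 := ih (x - 6) (by omega)
      have h3 : x - 6 + 6 = x := by omega
      rw [h3] at h1
      omega

end Cfsg.Agent.Lib.Helper20.SS
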