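import Mathlib

set_option autoImplicit false

namespace Cfsg.Agent.Lib.Helper20.SS

/-- cancelling `n ^ a` -/
theorem h16_small_core {n k a c : ℕ} (hn : 55 ≤ n) (hak : a ≤ k)
    (hc : c < 4 ^ k * 55 ^ (k - a))
    (h : (4 * n) ^ k ≤ n ^ a * c) : False := by
  have hn0 : 0 < n ^ a := Nat.pow_pos (by omega)
  have h1 : (4 * n) ^ k = n ^ a * (4 ^ k * n ^ (k - a)) := by
    rw [mul_pow, mul_left_comm, ← pow_add, Nat.add_sub_cancel' hak]
  rw [h1] at h
  have h2 : 4 ^ k * n ^ (k - a) ≤ c := Nat.le_of_mul_le_mul_left h hn0
  have h3 : 55 ^ (k - a) ≤ n ^ (k - a) := Nat.pow_le_pow_left hn _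
  have h4 : 4 ^ k * 55 ^ (k - a) ≤ 4 ^ k * n ^ (k - a) := Nat.mul_le_mul_left _ h3
  omega

/-- SS-S1: arithmetic for `k < 18`. -/
theorem arith_small {n k : ℕ} (hk : 0 < k) (hk' : k < 18)
    (h : (4 * n) ^ k ≤ n ^ Nat.primeCounting k * (2 * k) ^ (k + 1)) : n ≤ 54 := by
  by_contra hcon
  have hn : 55 ≤ n := by omega
  interval_cases k
  · have e : Nat.primeCounting 1 = 0 := by decide
    rw [e] at h; exact h16_small_core hn (by norm_num) (by norm_num) h
  · have e : Nat.primeCounting 2 = 1 := by decide
    rw [e] at h; exact h16_small_core hn (by norm_num) (by norm_num) h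
  · have e : Nat.primeCounting 3 = 2 := by decide
    rw [e] at h; exact h16_small_core hn (by norm_num) (by norm_num) h
  · have e : Nat.primeCounting 4 = 2 := by decide
    rw [e] at h; exact h16_small_core hn (by norm_num) (by norm_num) h
  · have e : Nat.primeCounting 5 = 3 := by decide
    rw [e] at h; exact h16_small_core hn (by norm_num) (by norm_num) h
  · have e : Nat.primeCounting 6 = 3 := by decide
    rw [e] at h; exact h16_small_core hn (by norm_num) (by norm_num) h
  · have e : Nat.primeCounting 7 = 4 := by decide
    rw [e] at h; exact h16_small_core hn (by norm_num) (by norm_num) h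
  · have e : Nat.primeCounting 8 = 4 := by decide
    rw [e] at h; exact h16_small_core hn (by norm_num) (by norm_num) h
  · have e : Nat.primeCounting 9 = 4 := by decide
    rw [e] at h; exact h16_small_core hn (by norm_num) (by norm_num) h
  · have e : Nat.primeCounting 10 = 4 := by decide
    rw [e] at h; exact h16_small_core hn (by norm_num) (by norm_num) h
  · have e : Nat.primeCounting 11 = 5 := by decide
    rw [e] at h; exact h16_small_core hn (by norm_num) (by norm_num) h
  · have e : Nat.primeCounting 12 = 5 := by decide
    rw [e] at h; exact h16_small_core hn (by norm_num) (by norm_num) h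
  · have e : Nat.primeCounting 13 = 6 := by decide
    rw [e] at h; exact h16_small_core hn (by norm_num) (by norm_num) h
  · have e : Nat.primeCounting 14 = 6 := by decide
    rw [e] at h; exact h16_small_core hn (by norm_num) (by norm_num) h
  · have e : Nat.primeCounting 15 = 6 := by decide
    rw [e] at h; exact h16_small_core hn (by norm_num) (by norm_num) h
  · have e : Nat.primeCounting 16 = 6 := by decide
    rw [e] at h; exact h16_small_core hn (by norm_num) (by norm_num) h
  · have e : Nat.primeCounting 17 = 7 := by decide
    rw [e] at h; exact h16_small_core hn (by norm_num) (by norm_num) h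


end Cfsg.Agent.Lib.Helper20.SS
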