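import Mathlib
import Cfsg.Agent.Lib.Lead.STB.Defs
import Cfsg.Agent.Lib.Lead.STB.Defs2
import Cfsg.Agent.Lib.Lead.STB.Defs3
import Cfsg.Agent.Lib.Lead.STB.Defs4
import Cfsg.Agent.Lib.Lead.STB.Sub
import Cfsg.Agent.Lib.Helper16.STBK3core
import Cfsg.Agent.Lib.Helper1.STBK2
import Cfsg.Agent.Lib.Helper20.STBR5s

/-!
# Project STB (designer lead), part 3, rows K3 (`SysB.Rep.injective`, THE MAIN THEOREM of STB), K4 (`SysB.Rep.ker_le_spin`) (helper16), VERBATIM.
On the cores `Helper16.STBK3core`, K2 `ker_trivial_aux` (`Helper1.STBK2`) and R8 `phi_hs_neg_one` (`Helper20.STBR5s`).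
-/

set_option autoImplicit false

namespace Cfsg.Agent.Lib.Lead.STB

open Matrix Cfsg.Agent.Lib.helper15.St2 Cfsg.Agent.Lib.helper3.STC Cfsg.Agent.Lib.Lead.STD

universe v w

open SysB

/-- K3 [S]  **the main theorem of STB**: a representation of a generated Steinberg system of type `B` with the spin relation over a finite field is injective. -/
theorem SysB.Rep.injective {K : Type*} [Field K] [Finite K] {l : Type*} [Fintype l] [DecidableEq l] {ι : Type v} [Finite ι]
    {G : Type w} [Group G] {S : SysB K ι G} (R : S.Rep l) (hS : S.Spin) (hgen : S.XQ (fun _ _ => True) (fun _ => True) = ⊤) :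
    Function.Injective R.φ :=
  stbk3_core (fun m ι _ G _ S R hm hS hgen g hg => ker_trivial_aux m ι G S R hm hS hgen g hg) R hS hgen

/-- K4 [M]  **the kernel without the spin relation**. -/
theorem SysB.Rep.ker_le_spin {K : Type*} [Field K] [Finite K] {l : Type*} [Fintype l] [DecidableEq l] {ι : Type v} [Finite ι]
    {G : Type w} [Group G] {S : SysB K ι G} (R : S.Rep l) (hgen : S.XQ (fun _ _ => True) (fun _ => True) = ⊤) (a : ι ⊕ ι)
    (g : G) (hg : R.φ g = 1) : g = 1 ∨ g = S.hs a (-1) :=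
  stbk4_core (fun R' hS' hgen' => SysB.Rep.injective R' hS' hgen') R (fun a => SysB.Rep.phi_hs_neg_one R a) hgen a g hg

end Cfsg.Agent.Lib.Lead.STB
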