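import Mathlib
import Cfsg.Agent.Lib.Helper16.STCW9core
import Cfsg.Agent.Lib.Helper24.STCB1
import Cfsg.Agent.Lib.Lead.STCW6

/-!
Project STC (designer helper3; Skel1), rows W7 `cj_ws_nab`, W9 `cj_ws_bnb`, W10 `cj_ws_naa` / `cj_ws_nbb`, W12 `cj_wl_nal`
(helper16): verbatim wrappers of the cores in `Helper16/STCW9core.lean` on the landed rows B1 `w_swap`, B2 `w_sym`
(helper24) and W6 `cj_ws_anb`, W8 `cj_ws_ana`, W11 `cj_wl_al` (lead).
-/

set_option autoImplicit false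

namespace Cfsg.Agent.Lib.helper3.STC

open Cfsg.Agent.Lib.helper15.St2 Cfsg.Agent.Lib.helper7.St

namespace SysC

variable {K : Type*} [Field K] {ι : Type*} {G : Type*} [Group G] (S : SysC K ι G)

/-- W7 [S]  the same for `-(e_a + e_b)` (from W6 for the pair `(ng b, ng a)` and `w_sym`, or directly). -/
theorem cj_ws_nab {a b : ι ⊕ ι} (hab : a ≠ b) (hab' : a ≠ ng b) (u t : K) (hu : u ≠ 0) :
    cj (S.w a b u) (S.x (ng a) b t) = S.x (ng a) b (-t) :=
  S.stcw7_core (fun h t => S.w_sym h t) (fun h h' u t hu => S.cj_ws_anb h h' u t hu) hab hab' u t hu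

/-- W9 [S-M]  from W8 with `w_swap` (`w a b u = w b a (-u⁻¹)`). -/
theorem cj_ws_bnb {a b : ι ⊕ ι} (hab : a ≠ b) (hab' : a ≠ ng b) (u t : K) (hu : u ≠ 0) :
    cj (S.w a b u) (S.x b (ng b) t) = S.x a (ng a) (sg a * sg b * (u ^ 2 * t)) :=
  S.stcw9_core (fun h t ht => S.w_swap h t ht) (fun h h' u t hu => S.cj_ws_ana h h' u t hu) hab hab' u t hu

/-- W10 [S-M]  the negative long roots: from W8, W9 for the pair `(ng b, ng a)` and `w_sym`. -/
theorem cj_ws_naa {a b : ι ⊕ ι} (hab : a ≠ b) (hab' : a ≠ ng b) (u t : K) (hu : u ≠ 0) :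
    cj (S.w a b u) (S.x (ng a) a t) = S.x (ng b) b (sg a * sg b * (u ^ 2 * t)) :=
  (S.stcw10_core (fun h t => S.w_sym h t) (fun h h' u t hu => S.cj_ws_ana h h' u t hu)
    (fun h h' u t hu => S.cj_ws_bnb h h' u t hu) hab hab' u t hu).1

theorem cj_ws_nbb {a b : ι ⊕ ι} (hab : a ≠ b) (hab' : a ≠ ng b) (u t : K) (hu : u ≠ 0) :
    cj (S.w a b u) (S.x (ng b) b t) = S.x (ng a) a (sg a * sg b * (u⁻¹ ^ 2 * t)) :=
  (S.stcw10_core (fun h t => S.w_sym h t) (fun h h' u t hu => S.cj_ws_ana h h' u t hu)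
    (fun h h' u t hu => S.cj_ws_bnb h h' u t hu) hab hab' u t hu).2

/-- W12 [S-M]  from W11 and `w_swap`. -/
theorem cj_wl_nal {a l : ι ⊕ ι} (hla : l ≠ a) (hla' : l ≠ ng a) (u t : K) (hu : u ≠ 0) :
    cj (S.w a (ng a) u) (S.x (ng a) l t) = S.x a l (u * t) :=
  S.stcw12_core (fun h t ht => S.w_swap h t ht) (fun h h' u t hu => S.cj_wl_al h h' u t hu) hla hla' u t hu

end SysC
end Cfsg.Agent.Lib.helper3.STC
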