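import Mathlib
import Cfsg.Agent.Lib.helper17.STM.Defs
import Cfsg.Agent.Lib.helper17.STM.Defs2
import Cfsg.Agent.Lib.Helper16.STMF10core
import Cfsg.Agent.Lib.Helper9.STMN2p
import Cfsg.Agent.Lib.helper15.STMF7

/-!
# Project STM (designer helper17), part 2, row F10s (`lemA_all_s`) (helper16), VERBATIM (on N2p, F7 `lemA_s`).
-/

set_option autoImplicit false

namespace Cfsg.Agent.Lib.helper17.STM

open Cfsg.Agent.Lib.helper15.St2 Cfsg.Agent.Lib.helper3.STC Cfsg.Agent.Lib.Lead.STD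

universe v w

namespace SysM

variable {F : Type*} [Field F] {A B : F} [Fact (∀ r : F, r ^ 2 ≠ -B + A * r)] {ι : Type*} [DecidableEq ι] {G : Type*} [Group G] (S : SysM F A B ι G)

section F
variable (o : ι ⊕ ι)

/-- F10s [S] -/
theorem lemA_all_s [Finite F] [Finite ι] (a : ι ⊕ ι) (t : Kq F A B) {y p : G} (hy : y ∈ S.Yg o) (hp : p ∈ S.Phat o) : S.InD o (S.xs a t * (y * p)) :=
  S.stmf10s_core o (S.Lg_cj_mem_Yg o) (fun t _ _ hy hp => S.lemA_s o t hy hp) a t hy hp

end F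

end SysM

end Cfsg.Agent.Lib.helper17.STM
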