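import Mathlib
import Cfsg.Agent.Lib.helper17.STM.Defs
import Cfsg.Agent.Lib.helper17.STM.Defs2
import Cfsg.Agent.Lib.helper17.STM.Defs3
import Cfsg.Agent.Lib.helper17.STM.Sub
import Cfsg.Agent.Lib.Lead.STDB1
import Cfsg.Agent.Lib.Helper20.STCR1
import Cfsg.Agent.Lib.Helper20.STMR3
import Cfsg.Agent.Lib.Helper21.STMB2

/-!
# Project STM (designer helper17), part 3, rows J4 (`not_cell`), J4N (`not_cellN`), J5 (`cell0_fix`), J8 (`ker_trivial`) (helper16), CORES (ports of `Helper16.STBJ4core`).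

* `stmj4_core`: J4 with the statements of R6 `Phat_lineStab`, `Yg_apply` and R5 `M_w_fst` as hypotheses.
* `stmj4n_core`: J4N with the statements of R6 `Phat_lineStab`, `Yg_apply` and R5s `M_ws_fst` as hypotheses.
* `stmj5_core`: J5 with the statements of R6 `Phat_lineStab`, `Yg_apply` as hypotheses.
* `stmj8_core`: J8 with the statements of J4, J4N, J5 as hypotheses.
On R3 (`Helper20.STMR3`), STD `w_neg` (`Lead.STDB1`), B3 `ws_neg` (`Helper21.STMB2`).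
-/

set_option autoImplicit false

namespace Cfsg.Agent.Lib.helper17.STM

open Matrix Cfsg.Agent.Lib.helper15.St2 Cfsg.Agent.Lib.helper3.STC Cfsg.Agent.Lib.Lead.STD

universe v w

theorem stmj4_evm_apply {l : Type*} [DecidableEq l] {F : Type*} [Field F] (c d : Im l) :
    (evm c : Im l → F) d = if d = c then 1 else 0 := by
  unfold evm
  rw [Pi.single_apply]

namespace SysM

namespace Rep

variable {F : Type*} [Field F] {A B : F} [Fact (∀ r : F, r ^ 2 ≠ -B + A * r)] {ι : Type*} {G : Type*} [Group G] {S : SysM F A B ι G}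
  {l : Type*} [Fintype l] [DecidableEq l] (R : S.Rep l)

variable (o : ι ⊕ ι)

/-- the coordinate `o` of `R.M (y * p) *ᵥ evm o` is not `0` -/
theorem stmj4_coord
    (hLS : ∀ p ∈ S.Phat o, ∃ c : F, c ≠ 0 ∧ R.M p *ᵥ evm (Ebm R.e o) = c • evm (Ebm R.e o))
    (hYa : ∀ {y : G}, y ∈ S.Yg o → (R.M y *ᵥ evm (Ebm R.e o)) (Ebm R.e o) = 1)
    {y p : G} (hy : y ∈ S.Yg o) (hp : p ∈ S.Phat o) :
    (R.M (y * p) *ᵥ evm (Ebm R.e o)) (Ebm R.e o) ≠ 0 := by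
  obtain ⟨c, hc, hpc⟩ := hLS p hp
  rw [M_mul, ← Matrix.mulVec_mulVec, hpc, Matrix.mulVec_smul, Pi.smul_apply, hYa hy, smul_eq_mul, mul_one]
  exact hc

/-- if `φ (n * y * p) = 1` then `R.M (y * p) = R.M n⁻¹` -/
theorem stmj4_M_eq {n y p : G} (h : R.φ (n * y * p) = 1) : R.M (y * p) = R.M n⁻¹ := by
  have h1 : R.φ n * R.φ (y * p) = 1 := by
    rw [← map_mul, ← mul_assoc]; exact h
  have h2 : R.φ (y * p) = R.φ n⁻¹ := by
    rw [map_inv]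
    exact eq_inv_of_mul_eq_one_right h1
  unfold Rep.M
  rw [h2]

/-- J4 core -/
theorem stmj4_core
    (hLS : ∀ p ∈ S.Phat o, ∃ c : F, c ≠ 0 ∧ R.M p *ᵥ evm (Ebm R.e o) = c • evm (Ebm R.e o))
    (hYa : ∀ {y : G}, y ∈ S.Yg o → (R.M y *ᵥ evm (Ebm R.e o)) (Ebm R.e o) = 1)
    (hW : ∀ {a b : ι ⊕ ι}, a ≠ b → a ≠ ng b → ∀ u : F, u ≠ 0 → R.M (S.w a b u) *ᵥ evm (Ebm R.e a) = (-u⁻¹) • evm (Ebm R.e b))
    {k : ι ⊕ ι} (hk : k ≠ o) (hk' : k ≠ ng o) {y p : G} (hy : y ∈ S.Yg o) (hp : p ∈ S.Phat o) :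
    R.φ (S.w o k 1 * y * p) ≠ 1 := by
  intro h
  have hok' : o ≠ ng k := fun e => hk' (by rw [e]; cases k <;> rfl)
  have h3 := stmj4_M_eq R h
  rw [← S.toSysD.w_neg] at h3
  apply stmj4_coord R o hLS hYa hy hp
  have hne : (-1 : F) ≠ 0 := neg_ne_zero.2 one_ne_zero
  have h1 : -(-1 : F)⁻¹ = 1 := by rw [inv_neg, inv_one, neg_neg]
  rw [h3, hW hk.symm hok' (-1) hne, h1, one_smul, stmj4_evm_apply, if_neg]
  intro e
  exact hk.symm (Em_injective R.e (Sum.inl_injective e))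

/-- J4N core -/
theorem stmj4n_core
    (hLS : ∀ p ∈ S.Phat o, ∃ c : F, c ≠ 0 ∧ R.M p *ᵥ evm (Ebm R.e o) = c • evm (Ebm R.e o))
    (hYa : ∀ {y : G}, y ∈ S.Yg o → (R.M y *ᵥ evm (Ebm R.e o)) (Ebm R.e o) = 1)
    (hWs : ∀ (a : ι ⊕ ι) (u : Kq F A B), u ≠ 0 → R.M (S.ws a u) *ᵥ evm (Ebm R.e a) = (-(nm u)⁻¹) • evm (Ebm R.e (ng a)))
    {y p : G} (hy : y ∈ S.Yg o) (hp : p ∈ S.Phat o) :
    R.φ (S.ws o 1 * y * p) ≠ 1 := by
  intro h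
  have h3 := stmj4_M_eq R h
  rw [← S.ws_neg] at h3
  apply stmj4_coord R o hLS hYa hy hp
  have hne : (-1 : Kq F A B) ≠ 0 := neg_ne_zero.2 one_ne_zero
  rw [h3, hWs o (-1) hne, Pi.smul_apply, stmj4_evm_apply, if_neg, smul_zero]
  intro e
  have h4 := Em_injective R.e (Sum.inl_injective e)
  cases o <;> simp [ng] at h4

/-- J5 core -/
theorem stmj5_core
    (hLS : ∀ p ∈ S.Phat o, ∃ c : F, c ≠ 0 ∧ R.M p *ᵥ evm (Ebm R.e o) = c • evm (Ebm R.e o))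
    (hYa : ∀ {y : G}, y ∈ S.Yg o → (R.M y *ᵥ evm (Ebm R.e o)) (Ebm R.e o) = 1)
    {y p : G} (hy : y ∈ S.Yg o) (hp : p ∈ S.Phat o) (h : R.φ (y * p) = 1) :
    R.M y *ᵥ evm (Ebm R.e o) = evm (Ebm R.e o) := by
  obtain ⟨c, hc, hpc⟩ := hLS p hp
  have h2 : R.M (y * p) *ᵥ evm (Ebm R.e o) = evm (Ebm R.e o) := by
    rw [M_eq_one_of_phi R h, Matrix.one_mulVec]
  rw [M_mul, ← Matrix.mulVec_mulVec, hpc, Matrix.mulVec_smul] at h2
  have h3 := congrFun h2 (Ebm R.e o)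
  rw [Pi.smul_apply, hYa hy, stmj4_evm_apply, if_pos rfl, smul_eq_mul, mul_one] at h3
  rw [h3, one_smul] at h2
  exact h2

/-- J8 core -/
theorem stmj8_core
    (hJ4 : ∀ {k : ι ⊕ ι}, k ≠ o → k ≠ ng o → ∀ {y p : G}, y ∈ S.Yg o → p ∈ S.Phat o → R.φ (S.w o k 1 * y * p) ≠ 1)
    (hJ4N : ∀ {y p : G}, y ∈ S.Yg o → p ∈ S.Phat o → R.φ (S.ws o 1 * y * p) ≠ 1)
    (hJ5 : ∀ {y p : G}, y ∈ S.Yg o → p ∈ S.Phat o → R.φ (y * p) = 1 → R.M y *ᵥ evm (Ebm R.e o) = evm (Ebm R.e o))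
    (hInD : ∀ g, S.InD o g) (hYfix : ∀ y ∈ S.Yg o, R.M y *ᵥ evm (Ebm R.e o) = evm (Ebm R.e o) → y = 1)
    (hPker : ∀ p ∈ S.Phat o, R.φ p = 1 → p = 1) (g : G) (hg : R.φ g = 1) : g = 1 := by
  rcases hInD g with ⟨y, hy, p, hp, rfl⟩ | ⟨k, hk, hk', y, hy, p, hp, rfl⟩ | ⟨y, hy, p, hp, rfl⟩
  · have hy1 : y = 1 := hYfix y hy (hJ5 hy hp hg)
    subst hy1
    rw [one_mul] at hg ⊢
    exact hPker p hp hg
  · exact absurd hg (hJ4 hk hk' hy hp)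
  · exact absurd hg (hJ4N hy hp)

end Rep

end SysM

end Cfsg.Agent.Lib.helper17.STM
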