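import Mathlib
import Cfsg.Agent.Lib.helper17.STM.Defs
import Cfsg.Agent.Lib.helper17.STM.Defs2
import Cfsg.Agent.Lib.helper17.STM.Defs3
import Cfsg.Agent.Lib.helper17.STM.Sub
import Cfsg.Agent.Lib.Helper16.STMJ4core
import Cfsg.Agent.Lib.Helper16.STMR6
import Cfsg.Agent.Lib.Helper9.STMR5
import Cfsg.Agent.Lib.Helper20.STMR5s

/-!
# Project STM (designer helper17), part 3, rows J4 (`not_cell`), J4N (`not_cellN`), J5 (`cell0_fix`), J8 (`ker_trivial`) (helper16), VERBATIM.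
On the cores `Helper16.STMJ4core`, R6 `Yg_apply` and the core of `Phat_lineStab` (`Helper16.STMR6`), R5 `M_w_fst`, `M_h_fst`, R5s `M_ws_fst`, R5t `M_hs_fst`.
-/

set_option autoImplicit false

namespace Cfsg.Agent.Lib.helper17.STM

open Matrix Cfsg.Agent.Lib.helper15.St2 Cfsg.Agent.Lib.helper3.STC Cfsg.Agent.Lib.Lead.STD

universe v w

namespace SysM

namespace Rep

variable {F : Type*} [Field F] {A B : F} [Fact (∀ r : F, r ^ 2 ≠ -B + A * r)] {ι : Type*} {G : Type*} [Group G] {S : SysM F A B ι G}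
  {l : Type*} [Fintype l] [DecidableEq l] (R : S.Rep l)

variable (o : ι ⊕ ι)

/-- the statement of R6 `Phat_lineStab`, from its core and R5, R5t -/
theorem stmj4_lineStab : ∀ p ∈ S.Phat o, ∃ c : F, c ≠ 0 ∧ R.M p *ᵥ evm (Ebm R.e o) = c • evm (Ebm R.e o) :=
  stmr6_Phat_lineStab_core R o (fun hab hab' u hu => M_h_fst R hab hab' u hu) (fun a u hu => M_hs_fst R a u hu)

/-- J4 [S-M] -/
theorem not_cell {k : ι ⊕ ι} (hk : k ≠ o) (hk' : k ≠ ng o) {y p : G} (hy : y ∈ S.Yg o) (hp : p ∈ S.Phat o) : R.φ (S.w o k 1 * y * p) ≠ 1 :=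
  stmj4_core R o (stmj4_lineStab R o) (fun hy => Yg_apply R o hy) (fun hab hab' u hu => M_w_fst R hab hab' u hu) hk hk' hy hp

/-- J4N [S-M] -/
theorem not_cellN {y p : G} (hy : y ∈ S.Yg o) (hp : p ∈ S.Phat o) : R.φ (S.ws o 1 * y * p) ≠ 1 :=
  stmj4n_core R o (stmj4_lineStab R o) (fun hy => Yg_apply R o hy) (fun a u hu => M_ws_fst R a u hu) hy hp

/-- J5 [S-M] -/
theorem cell0_fix {y p : G} (hy : y ∈ S.Yg o) (hp : p ∈ S.Phat o) (h : R.φ (y * p) = 1) : R.M y *ᵥ evm (Ebm R.e o) = evm (Ebm R.e o) :=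
  stmj5_core R o (stmj4_lineStab R o) (fun hy => Yg_apply R o hy) hy hp h

/-- J8 [S-M] -/
theorem ker_trivial (hInD : ∀ g, S.InD o g) (hYfix : ∀ y ∈ S.Yg o, R.M y *ᵥ evm (Ebm R.e o) = evm (Ebm R.e o) → y = 1)
    (hPker : ∀ p ∈ S.Phat o, R.φ p = 1 → p = 1) (g : G) (hg : R.φ g = 1) : g = 1 :=
  stmj8_core R o (fun hk hk' _ _ hy hp => not_cell R o hk hk' hy hp) (fun hy hp => not_cellN R o hy hp)
    (fun hy hp h => cell0_fix R o hy hp h) hInD hYfix hPker g hg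

end Rep

end SysM

end Cfsg.Agent.Lib.helper17.STM
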