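import Mathlib
import Cfsg.Agent.Lib.helper17.STM.Defs
import Cfsg.Agent.Lib.helper17.STM.Defs2
import Cfsg.Agent.Lib.helper17.STM.Defs3
import Cfsg.Agent.Lib.helper17.STM.Sub
import Cfsg.Agent.Lib.Helper16.STMK3core
import Cfsg.Agent.Lib.Helper26.STMK2
import Cfsg.Agent.Lib.Helper20.STMR5s
import Cfsg.Agent.Lib.Helper20.STMX3
import Cfsg.Agent.Lib.Helper20.STMX4

/-!
# Project STM (designer helper17), part 3, rows K3 (`SysM.Rep.injective`, THE MAIN THEOREM of STM), K4 (`SysM.Rep.ker_le_spin`) (helper16), VERBATIM.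
On the cores `Helper16.STMK3core`, K2 `ker_trivial_aux`, R8 `phi_hs_neg_one`, X3 `XQ_map`, X4 `hs_neg_one_eq_all`, `hs_neg_one_sq`, `hs_neg_one_comm`.
-/

set_option autoImplicit false

namespace Cfsg.Agent.Lib.helper17.STM

open Matrix Cfsg.Agent.Lib.helper15.St2 Cfsg.Agent.Lib.helper3.STC Cfsg.Agent.Lib.Lead.STD

universe v w

open SysM

/-- K3 [S]  **the main theorem of STM**: a representation of a generated Steinberg system of type `²D` with the spin relation over a finite field is injective. -/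
theorem SysM.Rep.injective {F : Type*} [Field F] [Finite F] {A B : F} [Fact (∀ r : F, r ^ 2 ≠ -B + A * r)] {l : Type*} [Fintype l] [DecidableEq l]
    {ι : Type v} [Finite ι] {G : Type w} [Group G] {S : SysM F A B ι G} (R : S.Rep l) (hS : S.Spin)
    (hgen : S.XQ (fun _ _ => True) (fun _ => True) = ⊤) : Function.Injective R.φ :=
  stmk3_core (fun m ι _ G _ S R hm hS hgen g hg => ker_trivial_aux m ι G S R hm hS hgen g hg) R hS hgen

/-- K4 [M]  **the kernel without the spin relation**. -/
theorem SysM.Rep.ker_le_spin {F : Type*} [Field F] [Finite F] {A B : F} [Fact (∀ r : F, r ^ 2 ≠ -B + A * r)] {l : Type*} [Fintype l] [DecidableEq l]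
    {ι : Type v} [Finite ι] {G : Type w} [Group G] {S : SysM F A B ι G} (R : S.Rep l)
    (hgen : S.XQ (fun _ _ => True) (fun _ => True) = ⊤) (a : ι ⊕ ι) (g : G) (hg : R.φ g = 1) : g = 1 ∨ g = S.hs a (-1) := by
  classical
  exact stmk4_core (fun R' hS' hgen' => SysM.Rep.injective R' hS' hgen') R (fun a => SysM.Rep.phi_hs_neg_one R a)
    (fun f => S.XQ_map f _ _) (fun a b => S.hs_neg_one_eq_all a b) (fun a => S.hs_neg_one_sq a)
    (fun hgen a g => S.hs_neg_one_comm hgen a g) hgen a g hg

end Cfsg.Agent.Lib.helper17.STM
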