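import Mathlib
import Cfsg.Agent.Lib.helper17.STM.Defs
import Cfsg.Agent.Lib.helper17.STM.Defs2
import Cfsg.Agent.Lib.helper17.STM.Defs3
import Cfsg.Agent.Lib.helper17.STM.Sub
import Cfsg.Agent.Lib.Helper16.STMR6
import Cfsg.Agent.Lib.Helper9.STMR5
import Cfsg.Agent.Lib.Helper20.STMR5s

/-!
# Project STM (designer helper17), part 3, row R6, last statement (helper16): `SysM.Rep.Phat_lineStab` VERBATIM
(wrapper of `stmr6_Phat_lineStab_core` on R5 `M_h_fst` (`Helper9.STMR5`) and R5t `M_hs_fst` (`Helper20.STMR5s`)).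
-/

set_option autoImplicit false

namespace Cfsg.Agent.Lib.helper17.STM

open Matrix Cfsg.Agent.Lib.helper15.St2 Cfsg.Agent.Lib.helper3.STC Cfsg.Agent.Lib.Lead.STD

universe v w

namespace SysM

namespace Rep

variable {F : Type*} [Field F] {A B : F} [Fact (∀ r : F, r ^ 2 ≠ -B + A * r)] {ι : Type*} {G : Type*} [Group G] {S : SysM F A B ι G}
  {l : Type*} [Fintype l] [DecidableEq l] (R : S.Rep l)

variable (o : ι ⊕ ι)

theorem Phat_lineStab : ∀ p ∈ S.Phat o, ∃ c : F, c ≠ 0 ∧ R.M p *ᵥ evm (Ebm R.e o) = c • evm (Ebm R.e o) :=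
  stmr6_Phat_lineStab_core R o (fun hab hab' u hu => M_h_fst R hab hab' u hu) (fun a u hu => M_hs_fst R a u hu)

end Rep

end SysM

end Cfsg.Agent.Lib.helper17.STM
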