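import Mathlib
import Cfsg.Agent.Lib.helper15.St2
import Cfsg.Agent.Lib.helper7.StA
import Cfsg.Agent.Lib.helper7.StC
import Cfsg.Agent.Lib.Helper24.STCI1
import Cfsg.Agent.Lib.helper23.STCX2
import Cfsg.Agent.Lib.Helper22.STCF1
import Cfsg.Agent.Lib.Helper29.STCH3
import Cfsg.Agent.Lib.Helper27.STU.Defs
import Cfsg.Agent.Lib.Helper27.STU.Defs2
import Cfsg.Agent.Lib.Helper24.STUM0
import Cfsg.Agent.Lib.Helper24.STUM1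
import Cfsg.Agent.Lib.Helper22.STUN1
import Cfsg.Agent.Lib.Helper12.STUN2
import Cfsg.Agent.Lib.Helper26.STUN3

/-!
# Project STU (block of PSU, S2291; designer helper27), rows F1, F2, F3, F8 (helper16), VERBATIM:
F1 `w1_short w1_long isMon_w1`, F2 `NP_mul hs_cj_mem_Yg hl_cj_mem_Yg NP_hs NP_hl NP_ws NP_wl`,
F3 `lemA_Y lemA_Y' lemA_Yl lemA_L lemA_Ll`, F8 `IsMon_move_s IsMon_move_l`.
-/

set_option autoImplicit false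

namespace Cfsg.Agent.Lib.Helper27.STU

open Cfsg.Agent.Lib.helper15.St2 Cfsg.Agent.Lib.helper7.St Cfsg.Agent.Lib.helper3.STC

namespace SysU

variable {F : Type*} [Field F] [StarRing F] {od : Prop} {ι : Type*} {G : Type*} [Group G] (S : SysU F od ι G)

section F
variable [DecidableEq ι] (ξ₀ : Lam F od) (o : ι ⊕ ι)

/-- F1 [S]  evaluation of `w1` (`Defs2.lean`); the fixed Weyl elements are monomial, with the permutation `wpm o k` of helper3. -/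
theorem w1_short {k : ι ⊕ ι} (hk : k ≠ ng o) : S.w1 ξ₀ o k = S.ws o k 1 := by
  unfold w1
  rw [if_neg hk]

theorem w1_long : S.w1 ξ₀ o (ng o) = S.wl o ξ₀ := by
  unfold w1
  rw [if_pos rfl]

theorem isMon_w1 (hW : S.HW) (hξ₀ : ξ₀.c ≠ 0) {k : ι ⊕ ι} (hk : k ≠ o) :
    ∃ (d : ι ⊕ ι → F) (d0 : F), S.IsMon (S.w1 ξ₀ o k) (wpm o k) d d0 := by
  by_cases h : k = ng o
  · subst h
    rw [S.w1_long, SysC.wpm_long]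
    exact ⟨dwl o ξ₀, d0l ξ₀, hW.2 o ξ₀ hξ₀⟩
  · rw [S.w1_short ξ₀ o h, SysC.wpm_short h]
    exact ⟨dws o k 1, 1, hW.1 o k hk.symm (fun e => h (by rw [e, ng_ng])) 1 one_ne_zero⟩

/-- F2 [S]  properties of `NP` (`Defs2.lean`; model `helper2.STCF2`). -/
theorem NP_mul {n n' : G} (h : S.NP o n) (h' : S.NP o n') : S.NP o (n * n') := by
  refine ⟨mul_mem h.1 h'.1, fun y hy => ?_⟩
  rw [← cj_cj]
  exact h.2 _ (h'.2 y hy)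

theorem hs_cj_mem_Yg (hH : S.HH) {b : ι ⊕ ι} (hb : b ≠ o) (hb' : b ≠ ng o) {t : F} (ht : t ≠ 0) :
    ∀ y ∈ S.Yg o, cj (S.hs o b t) y ∈ S.Yg o :=
  IsMon.cj_mem_Yg S o (hH.1 o b hb.symm (fun e => hb' (by rw [e, ng_ng])) t ht) rfl

theorem hl_cj_mem_Yg (hH : S.HH) {ξ η : Lam F od} (hξ : ξ.c ≠ 0) (hη : η.c ≠ 0) :
    ∀ y ∈ S.Yg o, cj (S.hl o ξ η) y ∈ S.Yg o :=
  IsMon.cj_mem_Yg S o (hH.2 o ξ η hξ hη) rfl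

theorem NP_hs (hH : S.HH) {b : ι ⊕ ι} (hb : b ≠ o) (hb' : b ≠ ng o) {t : F} (ht : t ≠ 0) : S.NP o (S.hs o b t) :=
  ⟨S.hs_mem_Phat o hb hb' ht, S.hs_cj_mem_Yg o hH hb hb' ht⟩

theorem NP_hl (hH : S.HH) {ξ η : Lam F od} (hξ : ξ.c ≠ 0) (hη : η.c ≠ 0) : S.NP o (S.hl o ξ η) :=
  ⟨S.hl_mem_Phat o hξ hη, S.hl_cj_mem_Yg o hH hξ hη⟩

theorem NP_ws (hW : S.HW) {a b : ι ⊕ ι} (hab : a ≠ b) (hab' : a ≠ ng b) (ha : a ≠ o) (ha' : a ≠ ng o) (hb : b ≠ o) (hb' : b ≠ ng o) {u : F}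
    (hu : u ≠ 0) : S.NP o (S.ws a b u) := by
  refine ⟨S.Pg_le_Phat o (S.Lg_le_Pg o (S.ws_mem_Lg o hab hab' ha ha' hb hb' u)), ?_⟩
  apply IsMon.cj_mem_Yg S o (hW.1 a b hab hab' u hu)
  exact stch3_sws_apply_of_ne ha.symm hb.symm (fun e => ha' (by rw [e, ng_ng])) (fun e => hb' (by rw [e, ng_ng]))

theorem NP_wl (hW : S.HW) {a : ι ⊕ ι} (ha : a ≠ o) (ha' : a ≠ ng o) {ξ : Lam F od} (hξ : ξ.c ≠ 0) : S.NP o (S.wl a ξ) := by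
  refine ⟨S.Pg_le_Phat o (S.Lg_le_Pg o (S.wl_mem_Lg o ha ha' ξ)), ?_⟩
  apply IsMon.cj_mem_Yg S o (hW.2 a ξ hξ)
  exact Equiv.swap_apply_of_ne_of_ne ha.symm (fun e => ha' (by rw [e, ng_ng]))

/-- F3 [S]  the easy root elements on the big cell (model `helper2.STCF3`). -/
theorem lemA_Y {a : ι ⊕ ι} (ha : a ≠ o) (ha' : a ≠ ng o) (t : F) {y p : G} (hy : y ∈ S.Yg o) (hp : p ∈ S.Phat o) :
    S.xs a o t * (y * p) ∈ S.cell0 o :=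
  ⟨S.xs a o t * y, (S.Yg o).mul_mem (S.xs_mem_Yg o ha ha' t) hy, p, hp, (mul_assoc _ _ _).symm⟩

theorem lemA_Y' {b : ι ⊕ ι} (hb : b ≠ o) (hb' : b ≠ ng o) (t : F) {y p : G} (hy : y ∈ S.Yg o) (hp : p ∈ S.Phat o) :
    S.xs (ng o) b t * (y * p) ∈ S.cell0 o :=
  ⟨S.xs (ng o) b t * y, (S.Yg o).mul_mem (S.xs_mem_Yg' o hb hb' t) hy, p, hp, (mul_assoc _ _ _).symm⟩

theorem lemA_Yl (ξ : Lam F od) {y p : G} (hy : y ∈ S.Yg o) (hp : p ∈ S.Phat o) : S.xl (ng o) ξ * (y * p) ∈ S.cell0 o :=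
  ⟨S.xl (ng o) ξ * y, (S.Yg o).mul_mem (S.xl_mem_Yg o ξ) hy, p, hp, (mul_assoc _ _ _).symm⟩

theorem lemA_L {a b : ι ⊕ ι} (hab : a ≠ b) (hab' : a ≠ ng b) (ha : a ≠ o) (ha' : a ≠ ng o) (hb : b ≠ o) (hb' : b ≠ ng o) (t : F) {y p : G}
    (hy : y ∈ S.Yg o) (hp : p ∈ S.Phat o) : S.xs a b t * (y * p) ∈ S.cell0 o := by
  refine ⟨cj (S.xs a b t) y, S.xs_cj_mem_Yg o hab hab' ha ha' hb hb' t y hy, S.xs a b t * p,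
    (S.Phat o).mul_mem (S.Pg_le_Phat o (S.xs_mem_Pg o hab hab' hb ha' t)) hp, ?_⟩
  unfold cj
  group

theorem lemA_Ll {a : ι ⊕ ι} (ha : a ≠ o) (ha' : a ≠ ng o) (ξ : Lam F od) {y p : G} (hy : y ∈ S.Yg o) (hp : p ∈ S.Phat o) :
    S.xl a ξ * (y * p) ∈ S.cell0 o := by
  refine ⟨cj (S.xl a ξ) y, S.xl_cj_mem_Yg o ha ha' ξ y hy, S.xl a ξ * p,
    (S.Phat o).mul_mem (S.Pg_le_Phat o (S.xl_mem_Pg o ha' ξ)) hp, ?_⟩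
  unfold cj
  group

/-- F8 [S]  moving a root element across a monomial element (model `SysC.IsMon_move`, `STCF8`): `IsMon.inv`. -/
theorem IsMon_move_s {g : G} {π : Equiv.Perm (ι ⊕ ι)} {d : ι ⊕ ι → F} {d0 : F} (hg : S.IsMon g π d d0) {a b : ι ⊕ ι}
    (hab : a ≠ b) (hab' : a ≠ ng b) (t : F) :
    π⁻¹ a ≠ π⁻¹ b ∧ π⁻¹ a ≠ ng (π⁻¹ b) ∧ ∃ s : F, S.xs a b t * g = g * S.xs (π⁻¹ a) (π⁻¹ b) s := by
  have hne : π⁻¹ a ≠ π⁻¹ b := fun h => hab (π⁻¹.injective h)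
  have hne' : π⁻¹ a ≠ ng (π⁻¹ b) := by
    rw [← stum0_inv_ng hg.1.pi_ng]
    exact fun h => hab' (π⁻¹.injective h)
  refine ⟨hne, hne', (d (π⁻¹ a))⁻¹ * d (π⁻¹ b) * t, ?_⟩
  have h1 := hg.2.1 (π⁻¹ a) (π⁻¹ b) hne hne' ((d (π⁻¹ a))⁻¹ * d (π⁻¹ b) * t)
  have h2 : d (π⁻¹ a) * (d (π⁻¹ b))⁻¹ * ((d (π⁻¹ a))⁻¹ * d (π⁻¹ b) * t) = t := by
    have ha := hg.1.d_ne (π⁻¹ a)
    have hb := hg.1.d_ne (π⁻¹ b)
    field_simp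
  have e1 : π (π⁻¹ a) = a := π.apply_symm_apply a
  have e2 : π (π⁻¹ b) = b := π.apply_symm_apply b
  rw [h2, e1, e2] at h1
  rw [← h1]
  unfold cj
  group

theorem IsMon_move_l {g : G} {π : Equiv.Perm (ι ⊕ ι)} {d : ι ⊕ ι → F} {d0 : F} (hg : S.IsMon g π d d0) (a : ι ⊕ ι) (ξ : Lam F od) :
    ∃ ξ' : Lam F od, S.xl a ξ * g = g * S.xl (π⁻¹ a) ξ' := by
  have ha := hg.1.d_ne (π⁻¹ a)
  have h0 := hg.1.d0_ne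
  refine ⟨Lam.act (d (π⁻¹ a) * d0⁻¹)⁻¹ ξ, ?_⟩
  have h1 := hg.2.2 (π⁻¹ a) (Lam.act (d (π⁻¹ a) * d0⁻¹)⁻¹ ξ)
  have e1 : π (π⁻¹ a) = a := π.apply_symm_apply a
  have hc : d (π⁻¹ a) * d0⁻¹ ≠ 0 := mul_ne_zero ha (inv_ne_zero h0)
  rw [stum0_act_act, mul_inv_cancel₀ hc, stum0_act_one, e1] at h1
  rw [← h1]
  unfold cj
  group

end F

end SysU

end Cfsg.Agent.Lib.Helper27.STU
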