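import Mathlib
import Cfsg.Agent.Lib.helper15.St2
import Cfsg.Agent.Lib.helper7.StA
import Cfsg.Agent.Lib.helper7.StC
import Cfsg.Agent.Lib.Helper24.STCI1
import Cfsg.Agent.Lib.Helper27.STU.Defs
import Cfsg.Agent.Lib.Helper27.STU.Defs2
import Cfsg.Agent.Lib.Helper24.STUB1
import Cfsg.Agent.Lib.Helper22.STUN1
import Cfsg.Agent.Lib.Helper11.STUN4
import Cfsg.Agent.Lib.Helper11.STUN5
import Cfsg.Agent.Lib.helper4.STUN6
import Cfsg.Agent.Lib.Helper16.STUH1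
import Cfsg.Agent.Lib.Helper16.STUF1

/-!
# Project STU (block of PSU, S2291; designer helper27), rows F4, F5 (helper16), VERBATIM:
`lemA_short` (F4), `cell0_sub_cell` (F5).  Extra: `stuf4_Yj_Pg` (N6 with its hypotheses N4, N5 filled in).
-/

set_option autoImplicit false

namespace Cfsg.Agent.Lib.Helper27.STU

open Cfsg.Agent.Lib.helper15.St2 Cfsg.Agent.Lib.helper7.St Cfsg.Agent.Lib.helper3.STC

namespace SysU

variable {F : Type*} [Field F] [StarRing F] {od : Prop} {ι : Type*} {G : Type*} [Group G] (S : SysU F od ι G)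

section F
variable [DecidableEq ι] (ξ₀ : Lam F od) (o : ι ⊕ ι)

/-- moving `xs o j s` across `y' ∈ Yj o j` (N6 with its hypotheses N4, N5 filled in). -/
theorem stuf4_Yj_Pg {j : ι ⊕ ι} (hj : j ≠ o) (hj' : j ≠ ng o) :
    ∀ y' ∈ S.Yj o j, ∀ s : F, ∃ y₂ ∈ S.Yg o, ∃ p ∈ S.Pg o, S.xs o j s * y' = y' * y₂ * p := by
  have h1 : ng o ≠ j := Ne.symm hj'
  have h2 : ng o ≠ ng j := fun h => hj (ng_inj.1 h).symm
  exact S.Yj_Pg o hj hj' (S.Yg_decomp j h1 h2) (S.Yj_cj_mem_Yg o hj hj')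

/-- F4 [M]  the short root element `xs o j t` on the big cell (model `SysC.lemA_short`, `STCF4`). -/
theorem lemA_short [Finite F] (hH : S.HH) {j : ι ⊕ ι} (hj : j ≠ o) (hj' : j ≠ ng o) (t : F) {y p : G} (hy : y ∈ S.Yg o)
    (hp : p ∈ S.Phat o) : S.xs o j t * (y * p) ∈ S.cell0 o ∨ S.xs o j t * (y * p) ∈ S.cell ξ₀ o j := by
  have hoj : o ≠ j := Ne.symm hj
  have hoj' : o ≠ ng j := fun e => hj' (by rw [e, ng_ng])
  obtain ⟨u, y', hy', rfl⟩ := S.Yg_decomp o hj hj' y hy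
  have hy'' : y' ∈ S.Yg o := S.Yj_le_Yg o j hy'
  by_cases hd : 1 + t * u = 0
  · -- degenerate case
    have ht : t ≠ 0 := by
      rintro rfl
      simp at hd
    have hu : u = -t⁻¹ := by
      field_simp
      linear_combination hd
    subst hu
    obtain ⟨y2, hy2, p1, hp1, e⟩ := S.stuf4_Yj_Pg o hj hj' y' hy' (-t)
    have hh : S.hs o j t⁻¹ ∈ S.Phat o := S.hs_mem_Phat o hj hj' (inv_ne_zero ht)
    refine Or.inr ⟨cj (S.hs o j t⁻¹) (y' * y2),
      S.hs_cj_mem_Yg o hH hj hj' (inv_ne_zero ht) _ (mul_mem hy'' hy2),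
      S.hs o j t⁻¹ * p1 * p, mul_mem (mul_mem hh (S.Pg_le_Phat o hp1)) hp, ?_⟩
    rw [S.w1_short ξ₀ o hj']
    calc S.xs o j t * (S.xs j o (-t⁻¹) * y' * p)
        = (S.xs o j t * S.xs j o (-t⁻¹)) * y' * p := by group
      _ = (S.ws o j 1 * S.hs o j t⁻¹ * S.xs o j (-t)) * y' * p := by
          rw [S.lu0 hoj hoj', S.ws_eq_ws_one_mul_hs hoj hoj' t ht]
      _ = S.ws o j 1 * S.hs o j t⁻¹ * (S.xs o j (-t) * y') * p := by group
      _ = S.ws o j 1 * S.hs o j t⁻¹ * (y' * y2 * p1) * p := by rw [e]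
      _ = S.ws o j 1 * cj (S.hs o j t⁻¹) (y' * y2) * (S.hs o j t⁻¹ * p1 * p) := by
          unfold cj; group
  · obtain ⟨y2, hy2, p1, hp1, e⟩ := S.stuf4_Yj_Pg o hj hj' y' hy' (t / (1 + t * u))
    have hh : S.hs o j (1 + t * u) ∈ S.Phat o := S.hs_mem_Phat o hj hj' hd
    refine Or.inl ⟨S.xs j o (u / (1 + t * u)) * cj (S.hs o j (1 + t * u)) (y' * y2),
      mul_mem (S.xs_mem_Yg o hj hj' _) (S.hs_cj_mem_Yg o hH hj hj' hd _ (mul_mem hy'' hy2)),
      S.hs o j (1 + t * u) * p1 * p, mul_mem (mul_mem hh (S.Pg_le_Phat o hp1)) hp, ?_⟩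
    calc S.xs o j t * (S.xs j o u * y' * p)
        = (S.xs o j t * S.xs j o u) * y' * p := by group
      _ = (S.xs j o (u / (1 + t * u)) * S.hs o j (1 + t * u) * S.xs o j (t / (1 + t * u))) *
            y' * p := by rw [S.lu hoj hoj' t u hd]
      _ = S.xs j o (u / (1 + t * u)) * S.hs o j (1 + t * u) *
            (S.xs o j (t / (1 + t * u)) * y') * p := by group
      _ = S.xs j o (u / (1 + t * u)) * S.hs o j (1 + t * u) * (y' * y2 * p1) * p := by rw [e]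
      _ = S.xs j o (u / (1 + t * u)) * cj (S.hs o j (1 + t * u)) (y' * y2) *
            (S.hs o j (1 + t * u) * p1 * p) := by
          unfold cj; group

/-- F5 [M]  an element of the big cell whose `xs j o`-coordinate is not `0` lies in the cell of `j` as well (model `SysC.cell0_sub_cell`, `STCF5`). -/
theorem cell0_sub_cell [Finite F] (hH : S.HH) {j : ι ⊕ ι} (hj : j ≠ o) (hj' : j ≠ ng o) {u : F} (hu : u ≠ 0) {y' p : G}
    (hy' : y' ∈ S.Yj o j) (hp : p ∈ S.Phat o) : S.xs j o u * y' * p ∈ S.cell ξ₀ o j := by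
  have hoj : o ≠ j := Ne.symm hj
  have hoj' : o ≠ ng j := fun e => hj' (by rw [e, ng_ng])
  -- rank one: `xs j o u = ws o j 1 * hs o j (-u) * xs j o (-u) * xs o j u⁻¹`
  have e1 : S.xs j o u = S.ws j o u * S.xs j o (-u) * S.xs o j u⁻¹ := by
    have h0 := S.lu0 hj hj' u
    have h1 : S.xs o j u⁻¹ = (S.xs o j (-u⁻¹))⁻¹ := by
      rw [← S.xs_neg hoj hoj', neg_neg]
    rw [h1, ← h0]
    group
  have e2 : S.ws j o u = S.ws o j 1 * S.hs o j (-u) := by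
    rw [S.ws_swap hoj hoj' u hu, S.ws_eq_ws_one_mul_hs hoj hoj' (-u⁻¹) (neg_ne_zero.2 (inv_ne_zero hu))]
    congr 2
    rw [inv_neg, inv_inv]
  obtain ⟨y₂, hy₂, p₁, hp₁, e3⟩ := S.stuf4_Yj_Pg o hj hj' y' hy' u⁻¹
  have hnu : (-u : F) ≠ 0 := neg_ne_zero.2 hu
  refine ⟨cj (S.hs o j (-u)) (S.xs j o (-u) * y' * y₂), ?_, S.hs o j (-u) * p₁ * p, ?_, ?_⟩
  · refine S.hs_cj_mem_Yg o hH hj hj' hnu _ ?_
    exact mul_mem (mul_mem (S.xs_mem_Yg o hj hj' _) (S.Yj_le_Yg o j hy')) hy₂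
  · exact mul_mem (mul_mem (S.hs_mem_Phat o hj hj' hnu) (S.Pg_le_Phat o hp₁)) hp
  · rw [S.w1_short ξ₀ o hj']
    have e4 : S.xs j o u * y' * p
        = S.ws o j 1 * S.hs o j (-u) * S.xs j o (-u) * (S.xs o j u⁻¹ * y') * p := by
      rw [e1, e2]
      group
    rw [e4, e3]
    unfold cj
    group

end F

end SysU

end Cfsg.Agent.Lib.Helper27.STU
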