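import Mathlib
import Cfsg.Agent.Lib.helper15.St2
import Cfsg.Agent.Lib.helper7.StA
import Cfsg.Agent.Lib.helper7.StC
import Cfsg.Agent.Lib.helper7.StE
import Cfsg.Agent.Lib.Helper24.STCI1
import Cfsg.Agent.Lib.Helper27.STU.Defs
import Cfsg.Agent.Lib.Helper27.STU.Defs2
import Cfsg.Agent.Lib.Helper11.STUB3
import Cfsg.Agent.Lib.Helper11.STUX1

/-!
# Project STU (block of PSU, S2291; designer helper27), row F6 (helper16), VERBATIM:
`YT_empty YT_le_Yj YT_le_Zg YT_decomp Yg_split` (models `helper23.STCF6`, `Helper11.STUN4`).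
-/

set_option autoImplicit false

namespace Cfsg.Agent.Lib.Helper27.STU

open Cfsg.Agent.Lib.helper15.St2 Cfsg.Agent.Lib.helper7.St Cfsg.Agent.Lib.helper3.STC

namespace SysU

variable {F : Type*} [Field F] [StarRing F] {od : Prop} {ι : Type*} {G : Type*} [Group G] (S : SysU F od ι G)

section F
variable [DecidableEq ι] (ξ₀ : Lam F od) (o : ι ⊕ ι)

/-- F6 [M]  splitting an element of `Yg o`: it lies in `Zg o` or has a nonzero short coordinate (model `SysC.Yg_split`, `STCF6`). -/
theorem YT_empty : S.YT o ∅ = S.Yg o := by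
  apply le_antisymm
  · exact S.XQ_mono (fun a b _ h => h.1)
  · exact S.XQ_mono (fun a b _ h => ⟨h, Finset.notMem_empty a⟩)

theorem YT_le_Yj {T : Finset (ι ⊕ ι)} {j : ι ⊕ ι} (hjT : j ∈ T) : S.YT o T ≤ S.Yj o j :=
  S.XQ_mono (fun a b _ h => ⟨h.1, fun haj => h.2 (haj ▸ hjT)⟩)

theorem YT_le_Zg {T : Finset (ι ⊕ ι)} (hT : ∀ a, a ≠ o → a ≠ ng o → a ∈ T) : S.YT o T ≤ S.Zg o := by
  refine S.XQ_mono (fun a b hab h => ⟨h.1, ?_⟩)
  by_contra hne
  exact h.2 (hT a (h.1 ▸ hab) hne)

theorem YT_decomp {T : Finset (ι ⊕ ι)} {j : ι ⊕ ι} (hj : j ≠ o) (hj' : j ≠ ng o) (hT : ng o ∉ T) :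
    ∀ y ∈ S.YT o T, ∃ u : F, ∃ y' ∈ S.YT o (insert j T), y = S.xs j o u * y' := by
  have hoo : ng o ≠ o := ng_ne o
  have hnoj : ng o ≠ j := fun h => hj' h.symm
  have hnoT : ng o ∉ insert j T := by
    rw [Finset.mem_insert]
    rintro (h | h)
    · exact hnoj h
    · exact hT h
  -- the long root subgroup `xl (ng o)` commutes with `xs j o`
  have hcl : ∀ (ξ : Lam F od) (u : F), S.xl (ng o) ξ * S.xs j o u = S.xs j o u * S.xl (ng o) ξ := by
    intro ξ u
    refine S.comm_ls (ng o) j o hj hj' ?_ hoo.symm ξ u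
    rw [ng_ng]
    exact hj
  refine closure_left_induction'
    (p := fun y => ∃ u : F, ∃ y' ∈ S.YT o (insert j T), y = S.xs j o u * y') (S.XQ_gens_inv _) ?_ ?_
  · exact ⟨0, 1, one_mem _, by rw [S.stub3_xs_zero hj hj', one_mul]⟩
  · rintro _ (⟨a, b, t, hab, hab', ⟨rfl, haT⟩, rfl⟩ | ⟨a, ξ, ⟨hQ, haT⟩, rfl⟩) g ⟨u, y', hy', rfl⟩
    · by_cases haj : a = j
      · subst haj
        exact ⟨t + u, y', hy', by rw [← mul_assoc, S.adds a b hab hab']⟩
      by_cases haj' : a = ng j
      · -- the commutator is a long root element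
        subst haj'
        set t' : F := -(star t) with ht'
        have hsym : S.xs (ng j) b t = S.xs (ng b) j t' := by
          rw [S.sym (ng j) b hab hab' t, ng_ng]
        have hbj' : ng b ≠ ng j := fun h => hj (ng_inj.mp h).symm
        have hssl := S.ssl (ng b) j hnoj hbj' t' u
        rw [ng_ng] at hssl
        have hAB : S.xs (ng b) j t' * S.xs j b u =
            S.xl (ng b) (Lam.tr (t' * u)) * S.xs j b u * S.xs (ng b) j t' := by
          rw [← hssl]; group
        have hm2 : ng j ∉ insert j T := by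
          rw [Finset.mem_insert]
          rintro (h | h)
          · exact ng_ne j h
          · exact haT h
        refine ⟨u, S.xl (ng b) (Lam.tr (t' * u)) * S.xs (ng j) b t * y',
          mul_mem (mul_mem (S.xl_mem_XQ ⟨ng_ng b, hnoT⟩ _)
            (S.xs_mem_XQ hab hab' ⟨rfl, hm2⟩ _)) hy', ?_⟩
        rw [← mul_assoc, hsym, hAB, hcl]
        simp only [mul_assoc]
      · have hm : a ∉ insert j T := by
          rw [Finset.mem_insert]
          rintro (h | h)
          · exact haj h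
          · exact haT h
        refine ⟨u, S.xs a b t * y', mul_mem (S.xs_mem_XQ hab hab' ⟨rfl, hm⟩ t) hy', ?_⟩
        rw [← mul_assoc, S.comm_ss a b j b hab hab' hj hj' (Ne.symm hj) hab (ne_ng b) haj', mul_assoc]
    · have ha : a = ng o := by rw [← hQ, ng_ng]
      subst ha
      refine ⟨u, S.xl (ng o) ξ * y', mul_mem (S.xl_mem_XQ ⟨ng_ng o, hnoT⟩ ξ) hy', ?_⟩
      rw [← mul_assoc, hcl, mul_assoc]

theorem Yg_split [Finite ι] :
    ∀ y ∈ S.Yg o, y ∈ S.Zg o ∨
      ∃ j, j ≠ o ∧ j ≠ ng o ∧ ∃ u : F, u ≠ 0 ∧ ∃ y' ∈ S.Yj o j, y = S.xs j o u * y' := by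
  haveI : Fintype ι := Fintype.ofFinite ι
  have key : ∀ (n : ℕ) (T : Finset (ι ⊕ ι)), ng o ∉ T → (Finset.univ \ T).card ≤ n →
      ∀ y ∈ S.YT o T, y ∈ S.Zg o ∨
        ∃ j, j ≠ o ∧ j ≠ ng o ∧ ∃ u : F, u ≠ 0 ∧ ∃ y' ∈ S.Yj o j, y = S.xs j o u * y' := by
    intro n
    induction n with
    | zero =>
      intro T _ hcard y hy
      left
      refine S.YT_le_Zg o (fun a _ _ => ?_) hy
      by_contra haT
      have : a ∈ Finset.univ \ T := Finset.mem_sdiff.2 ⟨Finset.mem_univ a, haT⟩
      have hpos := Finset.card_pos.2 ⟨a, this⟩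
      omega
    | succ n ih =>
      intro T hT hcard y hy
      by_cases hall : ∀ a, a ≠ o → a ≠ ng o → a ∈ T
      · exact Or.inl (S.YT_le_Zg o hall hy)
      · push_neg at hall
        obtain ⟨j, hj, hj', hjT⟩ := hall
        obtain ⟨u, y', hy', rfl⟩ := S.YT_decomp o hj hj' hT y hy
        by_cases hu : u = 0
        · subst hu
          rw [S.stub3_xs_zero hj hj', one_mul]
          have hT' : ng o ∉ insert j T := by
            rw [Finset.mem_insert]
            rintro (h | h)
            · exact hj' h.symm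
            · exact hT h
          refine ih (insert j T) hT' ?_ y' hy'
          have hlt : (Finset.univ \ insert j T).card < (Finset.univ \ T).card := by
            apply Finset.card_lt_card
            rw [Finset.ssubset_iff_of_subset
              (Finset.sdiff_subset_sdiff (Finset.Subset.refl _) (Finset.subset_insert j T))]
            exact ⟨j, Finset.mem_sdiff.2 ⟨Finset.mem_univ j, hjT⟩,
              fun h => (Finset.mem_sdiff.1 h).2 (Finset.mem_insert_self j T)⟩
          omega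
        · exact Or.inr ⟨j, hj, hj', u, hu, y', S.YT_le_Yj o (Finset.mem_insert_self j T) hy', rfl⟩
  intro y hy
  rw [← S.YT_empty o] at hy
  exact key _ ∅ (Finset.notMem_empty _) le_rfl y hy

end F

end SysU

end Cfsg.Agent.Lib.Helper27.STU
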