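import Mathlib
import Cfsg.Agent.Lib.helper15.St2
import Cfsg.Agent.Lib.helper7.StA
import Cfsg.Agent.Lib.helper7.StC
import Cfsg.Agent.Lib.Helper24.STCI1
import Cfsg.Agent.Lib.Helper27.STU.Defs
import Cfsg.Agent.Lib.Helper27.STU.Defs2
import Cfsg.Agent.Lib.Helper24.STUB1
import Cfsg.Agent.Lib.Helper22.STUN1
import Cfsg.Agent.Lib.Helper16.STUF1

/-!
# Project STU (block of PSU, S2291; designer helper27), row F7 (helper16):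
VERBATIM `Zg_eq`; CORE `stuf7_lemA_Z_core` of `lemA_Z` (with the conclusion of H8 `lu_l` for `a = o` as a hypothesis).
-/

set_option autoImplicit false

namespace Cfsg.Agent.Lib.Helper27.STU

open Cfsg.Agent.Lib.helper15.St2 Cfsg.Agent.Lib.helper7.St Cfsg.Agent.Lib.helper3.STC

namespace SysU

variable {F : Type*} [Field F] [StarRing F] {od : Prop} {ι : Type*} {G : Type*} [Group G] (S : SysU F od ι G)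

section F
variable [DecidableEq ι] (ξ₀ : Lam F od) (o : ι ⊕ ι)

/-- F7 [S-M]  `Zg o` is the set of the `xl (ng o) ξ`. -/
theorem Zg_eq : ∀ y ∈ S.Zg o, ∃ ξ : Lam F od, y = S.xl (ng o) ξ := by
  intro y hy
  unfold Zg XQ at hy
  induction hy using Subgroup.closure_induction with
  | mem x hx =>
    rcases hx with ⟨a, b, t, hab, hab', ⟨rfl, rfl⟩, rfl⟩ | ⟨a, ξ, ⟨-, rfl⟩, rfl⟩
    · exact absurd rfl hab'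
    · exact ⟨ξ, rfl⟩
  | one => exact ⟨1, (S.xl_one (ng o)).symm⟩
  | mul x y _ _ hx hy =>
    obtain ⟨ξ, rfl⟩ := hx
    obtain ⟨η, rfl⟩ := hy
    exact ⟨ξ * η, S.addl (ng o) ξ η⟩
  | inv x _ hx =>
    obtain ⟨ξ, rfl⟩ := hx
    exact ⟨ξ⁻¹, (S.xl_inv (ng o) ξ).symm⟩

/-- core of `lemA_Z`: from the conclusion of H8 `lu_l` for `a = o` -/
theorem stuf7_lemA_Z_core (ξ η : Lam F od) {p : G} (hp : p ∈ S.Phat o)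
    (hlu : (∃ η' ξ' ξ₁ ξ₂ : Lam F od, ξ₁.c ≠ 0 ∧ ξ₂.c ≠ 0 ∧
        S.xl o ξ * S.xl (ng o) η = S.xl (ng o) η' * S.hl o ξ₁ ξ₂ * S.xl o ξ') ∨
      ∃ η' ξ' ξ₁ ξ₂ : Lam F od, ξ₁.c ≠ 0 ∧ ξ₂.c ≠ 0 ∧
        S.xl o ξ * S.xl (ng o) η = S.wl o ξ₀ * S.xl (ng o) η' * S.hl o ξ₁ ξ₂ * S.xl o ξ') :
    S.xl o ξ * (S.xl (ng o) η * p) ∈ S.cell0 o ∨ S.xl o ξ * (S.xl (ng o) η * p) ∈ S.cell ξ₀ o (ng o) := by
  have hP : ∀ (ξ₁ ξ₂ ξ' : Lam F od), ξ₁.c ≠ 0 → ξ₂.c ≠ 0 → S.hl o ξ₁ ξ₂ * S.xl o ξ' * p ∈ S.Phat o := by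
    intro ξ₁ ξ₂ ξ' h1 h2
    exact mul_mem (mul_mem (S.hl_mem_Phat o h1 h2) (S.Pg_le_Phat o (S.xl_mem_Pg o (ne_ng o) ξ'))) hp
  rcases hlu with ⟨η', ξ', ξ₁, ξ₂, h1, h2, e⟩ | ⟨η', ξ', ξ₁, ξ₂, h1, h2, e⟩
  · refine Or.inl ⟨S.xl (ng o) η', S.xl_mem_Yg o η', S.hl o ξ₁ ξ₂ * S.xl o ξ' * p, hP ξ₁ ξ₂ ξ' h1 h2, ?_⟩
    rw [← mul_assoc, e]
    group
  · refine Or.inr ⟨S.xl (ng o) η', S.xl_mem_Yg o η', S.hl o ξ₁ ξ₂ * S.xl o ξ' * p, hP ξ₁ ξ₂ ξ' h1 h2, ?_⟩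
    rw [S.w1_long, ← mul_assoc, e]
    group

end F

end SysU

end Cfsg.Agent.Lib.Helper27.STU
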