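import Mathlib
import Cfsg.Agent.Lib.helper15.St2
import Cfsg.Agent.Lib.helper7.StA
import Cfsg.Agent.Lib.Helper27.STU.Defs
import Cfsg.Agent.Lib.Helper27.STU.Defs2
import Cfsg.Agent.Lib.Helper27.STUH8
import Cfsg.Agent.Lib.Helper16.STUF7core

/-!
# Project STU (block of PSU, S2291; designer helper27), row F7 (helper16), VERBATIM: `lemA_Z`
(`Zg_eq` is in `Helper16.STUF7core`, imported here; on `Helper27.STUH8`: `lu_l`).
-/

set_option autoImplicit false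

namespace Cfsg.Agent.Lib.Helper27.STU

open Cfsg.Agent.Lib.helper15.St2 Cfsg.Agent.Lib.helper7.St Cfsg.Agent.Lib.helper3.STC

namespace SysU

variable {F : Type*} [Field F] [StarRing F] {od : Prop} {ι : Type*} {G : Type*} [Group G] (S : SysU F od ι G)

section F
variable [DecidableEq ι] (ξ₀ : Lam F od) (o : ι ⊕ ι)

theorem lemA_Z (hF : Hyp F) (hξ₀ : ξ₀.c ≠ 0) (ξ η : Lam F od) {p : G} (hp : p ∈ S.Phat o) :
    S.xl o ξ * (S.xl (ng o) η * p) ∈ S.cell0 o ∨ S.xl o ξ * (S.xl (ng o) η * p) ∈ S.cell ξ₀ o (ng o) :=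
  S.stuf7_lemA_Z_core ξ₀ o ξ η hp (S.lu_l hF o hξ₀ ξ η)

end F

end SysU

end Cfsg.Agent.Lib.Helper27.STU
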