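import Mathlib
import Cfsg.Agent.Lib.helper15.St2
import Cfsg.Agent.Lib.helper7.StA
import Cfsg.Agent.Lib.helper7.StC
import Cfsg.Agent.Lib.Helper24.STCI1
import Cfsg.Agent.Lib.Helper27.STU.Defs
import Cfsg.Agent.Lib.Helper27.STU.Defs2
import Cfsg.Agent.Lib.Helper24.STUB1

/-!
# Project STU (block of PSU, S2291; designer helper27), rows H1 + H2 (helper16), VERBATIM:
`hs_mul hs_inv ws_mul_ws ws_eq_ws_one_mul_hs lu lu0` (H1), `hs_swap hs_sym` (H2).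
-/

set_option autoImplicit false

namespace Cfsg.Agent.Lib.Helper27.STU

open Cfsg.Agent.Lib.helper15.St2 Cfsg.Agent.Lib.helper7.St Cfsg.Agent.Lib.helper3.STC

namespace SysU

variable {F : Type*} [Field F] [StarRing F] {od : Prop} {ι : Type*} {G : Type*} [Group G] (S : SysU F od ι G)

section H
variable [Finite F]

/-- H1 [S]  one-liners from the rank one theory of helper7 for `S.st a b hab hab'` (model `helper23.STCH1`). -/
theorem hs_mul {a b : ι ⊕ ι} (hab : a ≠ b) (hab' : a ≠ ng b) (t u : F) (ht : t ≠ 0) (hu : u ≠ 0) :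
    S.hs a b t * S.hs a b u = S.hs a b (t * u) :=
  h_mul' (S.st a b hab hab') t u ht hu

theorem hs_inv {a b : ι ⊕ ι} (hab : a ≠ b) (hab' : a ≠ ng b) (t : F) (ht : t ≠ 0) : (S.hs a b t)⁻¹ = S.hs a b t⁻¹ :=
  h_inv' (S.st a b hab hab') t ht

theorem ws_mul_ws {a b : ι ⊕ ι} (hab : a ≠ b) (hab' : a ≠ ng b) (c d : F) (hc : c ≠ 0) (hd : d ≠ 0) :
    S.ws a b c * S.ws a b d = S.hs a b (-(c * d⁻¹)) :=
  w_mul_w'' (S.st a b hab hab') c d hc hd

theorem ws_eq_ws_one_mul_hs {a b : ι ⊕ ι} (hab : a ≠ b) (hab' : a ≠ ng b) (u : F) (hu : u ≠ 0) :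
    S.ws a b u = S.ws a b 1 * S.hs a b u⁻¹ :=
  Cfsg.Agent.Lib.helper7.St.w_eq_w_one_mul_h (S.st a b hab hab') u hu

theorem lu {a b : ι ⊕ ι} (hab : a ≠ b) (hab' : a ≠ ng b) (t u : F) (hd : 1 + t * u ≠ 0) :
    S.xs a b t * S.xs b a u =
      S.xs b a (u / (1 + t * u)) * S.hs a b (1 + t * u) * S.xs a b (t / (1 + t * u)) :=
  Cfsg.Agent.Lib.helper7.St.lu (S.st a b hab hab') t u hd

omit [Finite F] in
theorem lu0 {a b : ι ⊕ ι} (hab : a ≠ b) (hab' : a ≠ ng b) (t : F) :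
    S.xs a b t * S.xs b a (-t⁻¹) = S.ws a b t * S.xs a b (-t) :=
  Cfsg.Agent.Lib.helper7.St.lu0 (S.st a b hab hab') t

/-- H2 [S]  model `SysC.h_swap`, `h_sym` (`ws_sym`, `ws_mul_ws`: `ws a b t * ws a b (-1) = ws (ng b) (ng a) (-(star t)) * ws (ng b) (ng a) 1 = hs (ng b) (ng a) (star t)`). -/
theorem hs_swap {a b : ι ⊕ ι} (hab : a ≠ b) (hab' : a ≠ ng b) (u : F) (hu : u ≠ 0) : S.hs b a u = S.hs a b u⁻¹ := by
  unfold hs
  rw [S.ws_swap hab hab' u hu, S.ws_swap hab hab' (-1) (by simp)]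
  have e : -(-1 : F)⁻¹ = 1 := by
    rw [inv_neg, inv_one, neg_neg]
  rw [e, S.ws_mul_ws hab hab' _ _ (neg_ne_zero.2 (inv_ne_zero hu)) one_ne_zero]
  show S.hs a b _ = S.hs a b _
  congr 1
  simp

theorem hs_sym {a b : ι ⊕ ι} (hab : a ≠ b) (hab' : a ≠ ng b) (t : F) (ht : t ≠ 0) :
    S.hs a b t = S.hs (ng b) (ng a) (star t) := by
  have hn : ng b ≠ ng a := fun h => hab (ng_inj.1 h).symm
  have hn' : ng b ≠ ng (ng a) := fun h => hab' (by rw [ng_ng] at h; exact h.symm)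
  have hst : star t ≠ 0 := fun h => ht (by simpa using congrArg star h)
  show S.ws a b t * S.ws a b (-1) = S.ws (ng b) (ng a) (star t) * S.ws (ng b) (ng a) (-1)
  rw [S.ws_sym hab hab' t, S.ws_sym hab hab' (-1), star_neg, star_one, neg_neg]
  rw [S.ws_mul_ws hn hn' (-(star t)) 1 (neg_ne_zero.2 hst) one_ne_zero,
    S.ws_mul_ws hn hn' (star t) (-1) hst (by simp)]
  congr 1
  simp

end H

end SysU

end Cfsg.Agent.Lib.Helper27.STU
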