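import Mathlib
import Cfsg.Agent.Lib.helper15.St2
import Cfsg.Agent.Lib.Helper27.STU.Defs
import Cfsg.Agent.Lib.Helper27.STU.Defs2

/-!
# Project STU (block of PSU, S2291; designer helper27), row H3 (helper16):
VERBATIM `hl_self`, `hl_inv`; CORES `stuh3_hl_congr_core`, `stuh3_wl_eq_mul_hl_core` of `hl_congr`, `wl_eq_mul_hl`
(with the statements of V3 `wl_congr`, `wl_inv` for the index `a` as hypotheses).
-/

set_option autoImplicit false

namespace Cfsg.Agent.Lib.Helper27.STU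

open Cfsg.Agent.Lib.helper15.St2 Cfsg.Agent.Lib.helper3.STC

namespace SysU

variable {F : Type*} [Field F] [StarRing F] {od : Prop} {ι : Type*} {G : Type*} [Group G] (S : SysU F od ι G)

section H
variable [Finite F]

omit [Finite F] in
/-- H3 [S]  the long torus elements: formal facts (`hl a ξ η = wl a ξ * (wl a η)⁻¹`, `Defs.lean`; V3 `wl_inv`, `wl_congr`). -/
theorem hl_self (a : ι ⊕ ι) (ξ : Lam F od) : S.hl a ξ ξ = 1 := by
  unfold hl
  exact mul_inv_cancel _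

omit [Finite F] in
theorem hl_inv (a : ι ⊕ ι) (ξ η : Lam F od) : (S.hl a ξ η)⁻¹ = S.hl a η ξ := by
  unfold hl
  rw [mul_inv_rev, inv_inv]

omit [Finite F] in
/-- core of `hl_congr`: from the statement of V3 `wl_congr` at the index `a` -/
theorem stuh3_hl_congr_core {a : ι ⊕ ι}
    (hcongr : ∀ {ζ ζ' : Lam F od}, ζ.c ≠ 0 → ζ'.c = ζ.c → S.wl a ζ' = S.wl a ζ)
    {ξ η ξ' η' : Lam F od} (hξ : ξ.c ≠ 0) (hη : η.c ≠ 0) (h1 : ξ'.c = ξ.c) (h2 : η'.c = η.c) :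
    S.hl a ξ' η' = S.hl a ξ η := by
  unfold hl
  rw [hcongr hξ h1, hcongr hη h2]

omit [Finite F] in
/-- core of `wl_eq_mul_hl`: from the statement of V3 `wl_inv` at the index `a` -/
theorem stuh3_wl_eq_mul_hl_core {a : ι ⊕ ι}
    (hinv : ∀ {ζ : Lam F od}, ζ.c ≠ 0 → (S.wl a ζ)⁻¹ = S.wl a ζ⁻¹)
    {ξ ξ₀ : Lam F od} (hξ : ξ.c ≠ 0) (hξ₀ : ξ₀.c ≠ 0) :
    S.wl a ξ = S.wl a ξ₀ * S.hl a ξ₀⁻¹ ξ⁻¹ := by
  unfold hl
  rw [← hinv hξ, ← hinv hξ₀, inv_inv, mul_inv_cancel_left]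

end H

end SysU

end Cfsg.Agent.Lib.Helper27.STU
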