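import Mathlib
import Cfsg.Agent.Lib.helper15.St2
import Cfsg.Agent.Lib.Helper27.STU.Defs
import Cfsg.Agent.Lib.Helper27.STU.Defs2
import Cfsg.Agent.Lib.helper2.STUV3
import Cfsg.Agent.Lib.Helper16.STUH3core

/-!
# Project STU (block of PSU, S2291; designer helper27), row H3 (helper16), VERBATIM: `hl_congr`, `wl_eq_mul_hl`
(`hl_self`, `hl_inv` are in `Helper16.STUH3core`, imported here; on `helper2.STUV3`: `wl_congr`, `wl_inv`).
-/

set_option autoImplicit false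

namespace Cfsg.Agent.Lib.Helper27.STU

open Cfsg.Agent.Lib.helper15.St2 Cfsg.Agent.Lib.helper3.STC

namespace SysU

variable {F : Type*} [Field F] [StarRing F] {od : Prop} {ι : Type*} {G : Type*} [Group G] (S : SysU F od ι G)

section H
variable [Finite F]

omit [Finite F] in
theorem hl_congr {a : ι ⊕ ι} {ξ η ξ' η' : Lam F od} (hξ : ξ.c ≠ 0) (hη : η.c ≠ 0) (h1 : ξ'.c = ξ.c) (h2 : η'.c = η.c) :
    S.hl a ξ' η' = S.hl a ξ η :=
  S.stuh3_hl_congr_core (fun hc h => S.wl_congr hc h) hξ hη h1 h2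

omit [Finite F] in
/-- every long Weyl element is the fixed one times a torus element (V3 `wl_inv`) -/
theorem wl_eq_mul_hl {a : ι ⊕ ι} {ξ ξ₀ : Lam F od} (hξ : ξ.c ≠ 0) (hξ₀ : ξ₀.c ≠ 0) :
    S.wl a ξ = S.wl a ξ₀ * S.hl a ξ₀⁻¹ ξ⁻¹ :=
  S.stuh3_wl_eq_mul_hl_core (fun hc => S.wl_inv hc) hξ hξ₀

end H

end SysU

end Cfsg.Agent.Lib.Helper27.STU
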