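import Mathlib
import Cfsg.Agent.Lib.helper15.St2
import Cfsg.Agent.Lib.helper7.StA
import Cfsg.Agent.Lib.Helper27.STU.Defs
import Cfsg.Agent.Lib.Helper27.STU.Defs2
import Cfsg.Agent.Lib.Helper18.STUR6
import Cfsg.Agent.Lib.Helper16.STUR1

/-!
# Project STU (block of PSU, S2291; designer helper27), row J1 (helper16), VERBATIM: `Yg_fix_phi_eq_one`
(on `stuj1_core` / `eq_one_of_Yshape` of `Helper16.STUR1` and `Yg_col` of `Helper18.STUR6`).
-/

set_option autoImplicit false

namespace Cfsg.Agent.Lib.Helper27.STU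

open Cfsg.Agent.Lib.helper15.St2 Cfsg.Agent.Lib.helper7.St Cfsg.Agent.Lib.helper3.STC

namespace SysU

namespace Rep

variable {F : Type*} [Field F] [StarRing F] {od : Prop} {ι : Type*} {G : Type*} [Group G] {S : SysU F od ι G}
  {V : Type*} [AddCommGroup V] [Module F V] (R : S.Rep V)

variable (o : ι ⊕ ι)

/-- J1 [S]  `Yg_col`, `eq_one_of_Yshape`. -/
theorem Yg_fix_phi_eq_one {y : G} (hy : y ∈ S.Yg o) (h : R.φ y (R.fr o) = R.fr o) : R.φ y = 1 :=
  R.stuj1_core o h (R.Yg_col o y hy)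

end Rep

end SysU

end Cfsg.Agent.Lib.Helper27.STU
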