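import Mathlib
import Cfsg.Agent.Lib.Helper19.SU5.Defs
import Cfsg.Agent.Lib.Helper19.SU5.Defs2
import Cfsg.Agent.Lib.helper2.STUV1
import Cfsg.Agent.Lib.Helper5.SU5F8

/-!
# Project SU5 (designer helper19), row Z0 (`wu_eq_huU`) (helper16), VERBATIM.
-/

set_option autoImplicit false
set_option linter.unusedSectionVars false
set_option linter.unusedSimpArgs false

namespace Cfsg.Agent.Lib.Helper19.SU5

open Cfsg.Agent.Lib.helper17.SLP Cfsg.Agent.Lib.helper3.SP4 Cfsg.Agent.Lib.Helper22.SU4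
open Cfsg.Agent.Lib.Helper27.STU (Lam XpM XmM XpS XmS SUm XpU XmU SysU)
open Cfsg.Agent.Lib.helper3.STC (ng sws)

universe u v w

section Z

variable {F : Type u} {K : Type u} [Field F] [Field K] [StarRing F] [Fintype F] [Fintype K] {D : Tw F K}

/-- Z0 [S-M] -/
theorem wu_eq_huU (hFK : Fintype.card F = Fintype.card K ^ 2) (P : RO D) (η : Lam F True) (r : Fˣ)
    (h : η.c = (r : F) * P.kap) : WU η = P.HU r * WU (Lam.tr (P.ζ : F)) := by
  have hk := su5f8_kap_ne hFK P
  have hs := su5f8_star_kap P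
  have hW := su5f8_mat_WU P hk
  have hr : (r : F) ≠ 0 := r.ne_zero
  have hr' : star (r : F) ≠ 0 := fun h => hr (by simpa using congrArg star h)
  have hc0 : η.c ≠ 0 := by rw [h]; exact mul_ne_zero hr hk
  apply Cfsg.Agent.Lib.Helper27.STU.SUm.mat_injective
  rw [Cfsg.Agent.Lib.Helper27.STU.SUm.mat_mul, hW, P.HU_mat]
  have hη : Cfsg.Agent.Lib.Helper27.STU.SUm.mat (WU η) =
      !![0, 0, η.c; 0, -(star η.c / η.c), 0; (star η.c)⁻¹, 0, 0] := by
    show XpM η * XmM (Lam.mu η) * XpM (Lam.nu η) = _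
    exact Cfsg.Agent.Lib.Helper27.STU.SysU.WM_eq hc0
  rw [hη, h, star_mul', hs]
  ext i j
  fin_cases i <;> fin_cases j <;>
    simp [Matrix.mul_apply, Fin.sum_univ_three] <;> field_simp

end Z

end Cfsg.Agent.Lib.Helper19.SU5
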