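import Cfsg.Agent.Lib.Helper18.SpE.Defs
import Cfsg.Agent.S0270

set_option autoImplicit false

/-!
# Project SpE (S2333), piece SpE-N: an irreducible representation of degree `≥ 2` of `Sp_{2n}(q)`
is nontrivial on every nonidentity Siegel element.
-/

namespace Cfsg.Agent.Lib.Helper16.SpEN

open Matrix Cfsg.Agent.Lib.Helper18.SpE
open scoped commutatorElement

section N

variable {F : Type*} [Field F] [Fintype F]

theorem comm_mul_central_left {G : Type*} [Group G] {z : G} (hz : ∀ x, z * x = x * z) (k h : G) :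
    ⁅k * z, h⁆ = ⁅k, h⁆ := by
  rw [commutatorElement_def, commutatorElement_def, _root_.mul_inv_rev]
  calc k * z * h * (z⁻¹ * k⁻¹) * h⁻¹ = k * (z * h * z⁻¹) * k⁻¹ * h⁻¹ := by group
    _ = k * h * k⁻¹ * h⁻¹ := by rw [hz h, mul_inv_cancel_right]

theorem comm_mul_central_right {G : Type*} [Group G] {z : G} (hz : ∀ x, z * x = x * z) (g k : G) :
    ⁅g, k * z⁆ = ⁅g, k⁆ := by
  rw [commutatorElement_def, commutatorElement_def, _root_.mul_inv_rev]
  calc g * (k * z) * g⁻¹ * (z⁻¹ * k⁻¹) = g * k * (z * g⁻¹ * z⁻¹) * k⁻¹ := by group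
    _ = g * k * g⁻¹ * k⁻¹ := by rw [hz g⁻¹, mul_inv_cancel_right]

/-- a normal subgroup of `Sp_{2n}(q)` (`PSp` simple) is central or everything -/
theorem normal_le_center_or_top (n : ℕ) (hn : 2 ≤ n) (h22 : n = 2 → 3 ≤ Fintype.card F)
    (K : Subgroup ↥(Matrix.symplecticGroup (Fin n) F)) (hK : K.Normal) :
    K ≤ Subgroup.center ↥(Matrix.symplecticGroup (Fin n) F) ∨ K = ⊤ := by
  have hsimple : IsSimpleGroup (Cfsg.PSp n F) := Cfsg.Agent.S0270.result n hn h22
  have hperf : commutator ↥(Matrix.symplecticGroup (Fin n) F) = ⊤ :=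
    Cfsg.Agent.S0269.result n (by
      by_cases h2 : n = 2
      · right; left; exact ⟨h2, h22 h2⟩
      · left; omega)
  have hKn : (K.map (QuotientGroup.mk' (Subgroup.center ↥(Matrix.symplecticGroup (Fin n) F)))).Normal :=
    Subgroup.Normal.map hK _ (QuotientGroup.mk'_surjective _)
  rcases hKn.eq_bot_or_eq_top with h | h
  · left
    rw [(Subgroup.map_eq_bot_iff K)] at h
    rw [QuotientGroup.ker_mk'] at h
    exact h
  · right
    have hdec : ∀ g : ↥(Matrix.symplecticGroup (Fin n) F), ∃ k ∈ K, ∃ z ∈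
        Subgroup.center ↥(Matrix.symplecticGroup (Fin n) F), g = k * z := by
      intro g
      have hg : QuotientGroup.mk' (Subgroup.center ↥(Matrix.symplecticGroup (Fin n) F)) g ∈
          K.map (QuotientGroup.mk' (Subgroup.center ↥(Matrix.symplecticGroup (Fin n) F))) := by
        rw [h]
        exact Subgroup.mem_top _
      obtain ⟨k, hk, hkg⟩ := Subgroup.mem_map.1 hg
      refine ⟨k, hk, k⁻¹ * g, ?_, by group⟩
      have := (QuotientGroup.eq (s := Subgroup.center ↥(Matrix.symplecticGroup (Fin n) F))).1 hkg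
      exact this
    have hcomm : commutator ↥(Matrix.symplecticGroup (Fin n) F) ≤ K := by
      rw [commutator_def, Subgroup.commutator_le]
      intro g _ g' _
      obtain ⟨k, hk, z, hz, rfl⟩ := hdec g
      obtain ⟨k', hk', z', hz', rfl⟩ := hdec g'
      have hz1 : ∀ x, z * x = x * z := fun x => (Subgroup.mem_center_iff.1 hz x).symm
      have hz2 : ∀ x, z' * x = x * z' := fun x => (Subgroup.mem_center_iff.1 hz' x).symm
      have e : ⁅k * z, k' * z'⁆ = ⁅k, k'⁆ := by
        rw [comm_mul_central_left hz1, comm_mul_central_right hz2]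
      rw [e]
      exact K.commutator_mem_commutator hk hk' |> fun h => by
        have : ⁅K, K⁆ ≤ K := Subgroup.commutator_le_left K K
        exact this h
    rw [hperf] at hcomm
    exact top_le_iff.1 hcomm

omit [Fintype F] in
/-- a central Siegel element is trivial (compare with `J`) -/
theorem uS_central_eq_zero {n : ℕ} (S : ↥(SymM n F))
    (hS : uS S ∈ Subgroup.center ↥(Matrix.symplecticGroup (Fin n) F)) : S = 0 := by
  have h := Subgroup.mem_center_iff.1 hS (SymplecticGroup.symJ (Fin n) F)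
  have h1 := congrArg (fun g : ↥(Matrix.symplecticGroup (Fin n) F) =>
    (g : Matrix (Fin n ⊕ Fin n) (Fin n ⊕ Fin n) F)) h
  simp only [Submonoid.coe_mul, SymplecticGroup.coe_J, coe_uS, Matrix.J,
    Matrix.fromBlocks_multiply] at h1
  have h2 := (Matrix.fromBlocks_inj.1 h1).1
  apply Subtype.ext
  simpa using h2.symm

theorem rho_uS_ne_one (n : ℕ) (hn : 2 ≤ n) (h22 : n = 2 → 3 ≤ Fintype.card F) {k : ℕ}
    (ρ : Representation ℂ ↥(Matrix.symplecticGroup (Fin n) F) (Fin k → ℂ))
    (hirr : ρ.IsIrreducible) (hk : 2 ≤ k) (S : ↥(SymM n F)) (hS : S ≠ 0) : ρ (uS S) ≠ 1 := by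
  intro hρ
  have hKn : (MonoidHom.ker ρ).Normal := MonoidHom.normal_ker ρ
  rcases normal_le_center_or_top n hn h22 (MonoidHom.ker ρ) hKn with hc | htop
  · exact hS (uS_central_eq_zero S (hc (MonoidHom.mem_ker.2 hρ)))
  · have hone : ∀ g : ↥(Matrix.symplecticGroup (Fin n) F), ρ g = 1 := by
      intro g
      have : g ∈ MonoidHom.ker ρ := by rw [htop]; exact Subgroup.mem_top g
      exact MonoidHom.mem_ker.1 this
    -- the line spanned by the first basis vector is a subrepresentation
    let i0 : Fin k := ⟨0, by omega⟩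
    let i1 : Fin k := ⟨1, by omega⟩
    let W : Subrepresentation ρ :=
      ⟨Submodule.span ℂ {(Pi.single i0 1 : Fin k → ℂ)}, fun g v hv => by
        rw [hone g]; exact hv⟩
    have := hirr
    rcases eq_bot_or_eq_top W with hW | hW
    · have h1 : (Pi.single i0 1 : Fin k → ℂ) ∈ W.toSubmodule :=
        Submodule.subset_span (Set.mem_singleton _)
      rw [hW] at h1
      have h2 : (Pi.single i0 1 : Fin k → ℂ) = 0 := (Submodule.mem_bot ℂ).1 h1
      have h3 := congrFun h2 i0
      simp at h3
    · have h1 : (Pi.single i1 1 : Fin k → ℂ) ∈ W.toSubmodule := by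
        rw [hW]
        exact Submodule.mem_top
      obtain ⟨c, hc⟩ := Submodule.mem_span_singleton.1 h1
      have h3 := congrFun hc i1
      have hne : i1 ≠ i0 := by
        intro h
        have := congrArg Fin.val h
        simp [i0, i1] at this
      simp [hne] at h3

end N

end Cfsg.Agent.Lib.Helper16.SpEN
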