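import Cfsg.Agent.Lib.Helper28.TOO.Defs
import Cfsg.Agent.Lib.helper6.TSSIEG
import Cfsg.Agent.Lib.helper7.TOOWG1

/-!
# Project TOO (S5681), row WI2b (helper16): the span of the `B(y,y')`
-/

set_option autoImplicit false
set_option linter.unusedVariables false
set_option linter.unusedSectionVars false

namespace Cfsg.Agent.Lib.Helper28.TOO

open Matrix
open scoped Kronecker
open Cfsg.Agent.Lib.helper7.TP Cfsg.Agent.Lib.Helper21.TS

variable {ι : Type*} [Fintype ι] [DecidableEq ι] {F : Type*} [Field F] {J : Matrix ι ι F}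

/-- in odd dimension there is a non-zero vector orthogonal to two orthogonal hyperbolic pairs -/
theorem toowi2b_perp4 (hodd : Odd (Fintype.card ι)) (u u' t t' : ι → F)
    (huu : bf J u u = 0) (huu' : bf J u u' = 1) (hu'u : bf J u' u = 1) (hu'u' : bf J u' u' = 0)
    (htt : bf J t t = 0) (htt' : bf J t t' = 1) (ht't : bf J t' t = 1) (ht't' : bf J t' t' = 0)
    (hut : bf J u t = 0) (hut' : bf J u t' = 0) (hu't : bf J u' t = 0) (hu't' : bf J u' t' = 0)
    (htu : bf J t u = 0) (htu' : bf J t u' = 0) (ht'u : bf J t' u = 0) (ht'u' : bf J t' u' = 0) :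
    ∃ y : ι → F, y ≠ 0 ∧ bf J u y = 0 ∧ bf J u' y = 0 ∧ bf J t y = 0 ∧ bf J t' y = 0 := by
  classical
  let φ : (ι → F) →ₗ[F] (Fin 4 → F) :=
    { toFun := fun x => ![bf J u x, bf J u' x, bf J t x, bf J t' x]
      map_add' := by
        intro x y
        ext k
        fin_cases k <;> simp [bf_add_right]
      map_smul' := by
        intro c x
        ext k
        fin_cases k <;> simp [bf_smul_right] }
  have hφ : ∀ x, φ x = ![bf J u x, bf J u' x, bf J t x, bf J t' x] := fun x => rfl
  have hsurj : Function.Surjective φ := by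
    intro c
    refine ⟨c 1 • u + c 0 • u' + c 3 • t + c 2 • t', ?_⟩
    rw [hφ]
    ext k
    fin_cases k <;>
      simp [bf_add_right, bf_smul_right, huu, huu', hu'u, hu'u', htt, htt', ht't, ht't', hut, hut',
        hu't, hu't', htu, htu', ht'u, ht'u']
  have hrange : LinearMap.range φ = ⊤ := LinearMap.range_eq_top.2 hsurj
  have hrk := LinearMap.finrank_range_add_finrank_ker φ
  rw [hrange, finrank_top, Module.finrank_fin_fun, Module.finrank_fintype_fun_eq_card] at hrk
  have hpos : 0 < Module.finrank F (LinearMap.ker φ) := by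
    rcases hodd with ⟨m, hm⟩
    omega
  obtain ⟨⟨y, hyk⟩, hy0⟩ := Module.finrank_pos_iff_exists_ne_zero.1 hpos
  have hy : φ y = 0 := hyk
  rw [hφ] at hy
  refine ⟨y, fun h => hy0 (Subtype.ext h), ?_, ?_, ?_, ?_⟩
  · simpa using congrFun hy 0
  · simpa using congrFun hy 1
  · simpa using congrFun hy 2
  · simpa using congrFun hy 3

/-- WI2b [M-L]. the span of `B(y,y') = f(y,y') t - f(y',t) y - f(y,t) y'` (`y, y' ⊥ u`) together with `u` is `u^⊥`, for
`t ∈ u^⊥ \ F u`, dimension odd. -/
theorem w1_irr_spanB (h2 : (2 : F) ≠ 0) (hJ : Jᵀ = J) (hdet : J.det ≠ 0) (hodd : Odd (Fintype.card ι))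
    (u t : ι → F) (hu0 : u ≠ 0) (hu : bf J u u = 0) (hut : bf J u t = 0) (ht : ∀ c : F, t ≠ c • u)
    (S : Submodule F (ι → F)) (huS : u ∈ S)
    (hB : ∀ y y' : ι → F, bf J u y = 0 → bf J u y' = 0 →
      bf J y y' • t - bf J y' t • y - bf J y t • y' ∈ S) :
    ∀ z : ι → F, bf J u z = 0 → z ∈ S := by
  classical
  have sym : ∀ x y, bf J x y = bf J y x := bf_symm hJ
  by_cases hns : bf J t t = 0
  swap
  · -- `t` non-singular
    have htS : t ∈ S := by
      have h := hB t t hut hut
      have h' : (-(bf J t t)) • t ∈ S := by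
        convert h using 1
        module
      exact (S.smul_mem_iff (neg_ne_zero.2 hns)).1 h'
    have hyS : ∀ y, bf J u y = 0 → bf J t y = 0 → y ∈ S := by
      intro y hy1 hy2
      have h := hB y t hy1 hut
      rw [sym y t, hy2] at h
      simp only [zero_smul, zero_sub, sub_zero] at h
      have h' : (-(bf J t t)) • y ∈ S := by
        convert h using 1
        module
      exact (S.smul_mem_iff (neg_ne_zero.2 hns)).1 h'
    intro z hz
    have hdec : z = (bf J t z / bf J t t) • t + (z - (bf J t z / bf J t t) • t) := by abel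
    rw [hdec]
    refine S.add_mem (S.smul_mem _ htS) (hyS _ ?_ ?_)
    · rw [bf_sub_right, bf_smul_right, hz, hut, mul_zero, sub_zero]
    · rw [bf_sub_right, bf_smul_right]
      field_simp
      ring
  · -- `t` singular
    obtain ⟨u', hu'u', huu'⟩ := w1_hyp_partner h2 hJ hdet u hu0 hu
    have hu'u : bf J u' u = 1 := by rw [sym]; exact huu'
    set τ : F := bf J u' t with hτ
    set t₀ : ι → F := t - τ • u with ht₀
    have ht₀u : bf J u t₀ = 0 := by
      rw [ht₀, bf_sub_right, bf_smul_right, hut, hu, mul_zero, sub_zero]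
    have ht₀u' : bf J u' t₀ = 0 := by
      rw [ht₀, bf_sub_right, bf_smul_right, hu'u, mul_one, sub_self]
    have hu_t₀ : bf J t₀ u = 0 := by rw [sym]; exact ht₀u
    have hu'_t₀ : bf J t₀ u' = 0 := by rw [sym]; exact ht₀u'
    have ht₀0 : t₀ ≠ 0 := by
      intro h0
      apply ht τ
      have : t - τ • u = 0 := h0
      exact sub_eq_zero.1 this
    have htu : bf J t u = 0 := by rw [sym]; exact hut
    have ht₀t₀ : bf J t₀ t₀ = 0 := by
      rw [ht₀, bf_sub_left, bf_sub_right, bf_sub_right, bf_smul_left, bf_smul_left, bf_smul_right,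
        bf_smul_right, hns, hu, htu, hut]
      ring
    -- the formula with `t₀`
    have hB0 : ∀ y y' : ι → F, bf J u y = 0 → bf J u y' = 0 →
        bf J y y' • t₀ - bf J y' t₀ • y - bf J y t₀ • y' ∈ S := by
      intro y y' hy hy'
      have h := hB y y' hy hy'
      have hyu : bf J y u = 0 := by rw [sym]; exact hy
      have hy'u : bf J y' u = 0 := by rw [sym]; exact hy'
      have e1 : bf J y' t₀ = bf J y' t := by
        rw [ht₀, bf_sub_right, bf_smul_right, hy'u, mul_zero, sub_zero]
      have e2 : bf J y t₀ = bf J y t := by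
        rw [ht₀, bf_sub_right, bf_smul_right, hyu, mul_zero, sub_zero]
      rw [e1, e2]
      have h' := S.sub_mem h (S.smul_mem (bf J y y' * τ) huS)
      convert h' using 1
      rw [ht₀]
      module
    -- the partner `t'` of `t₀`, orthogonal to `u, u'`
    obtain ⟨x₁, hx₁⟩ := bf_nondeg hdet ht₀0
    set x : ι → F := x₁ - bf J u' x₁ • u - bf J u x₁ • u' with hx
    have hux : bf J u x = 0 := by
      rw [hx, bf_sub_right, bf_sub_right, bf_smul_right, bf_smul_right, hu, huu']
      ring
    have hu'x : bf J u' x = 0 := by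
      rw [hx, bf_sub_right, bf_sub_right, bf_smul_right, bf_smul_right, hu'u, hu'u']
      ring
    have ht₀x : bf J t₀ x = bf J t₀ x₁ := by
      rw [hx, bf_sub_right, bf_sub_right, bf_smul_right, bf_smul_right, hu_t₀, hu'_t₀]
      ring
    have hκ : bf J t₀ x ≠ 0 := by rw [ht₀x]; exact hx₁
    have hxt₀ : bf J x t₀ = bf J t₀ x := sym x t₀
    set t' : ι → F := (bf J t₀ x)⁻¹ • (x - (bf J x x / (2 * bf J t₀ x)) • t₀) with ht'
    have ht't' : bf J t' t' = 0 := by
      rw [ht']
      simp only [bf_smul_left, bf_smul_right, bf_sub_left, bf_sub_right, ht₀t₀, hxt₀]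
      field_simp
      ring
    have ht₀t' : bf J t₀ t' = 1 := by
      rw [ht']
      simp only [bf_smul_right, bf_sub_right, ht₀t₀]
      field_simp
      ring
    have ht't₀ : bf J t' t₀ = 1 := by rw [sym]; exact ht₀t'
    have hut' : bf J u t' = 0 := by
      rw [ht']
      simp only [bf_smul_right, bf_sub_right, hux, ht₀u]
      ring
    have hu't' : bf J u' t' = 0 := by
      rw [ht']
      simp only [bf_smul_right, bf_sub_right, hu'x, ht₀u']
      ring
    have ht'u : bf J t' u = 0 := by rw [sym]; exact hut'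
    have ht'u' : bf J t' u' = 0 := by rw [sym]; exact hu't'
    -- `t' ∈ S`
    have ht'S : t' ∈ S := by
      have h := hB0 t' t' hut' hut'
      rw [ht't', ht't₀] at h
      simp only [zero_smul, one_smul, zero_sub] at h
      have h' : (-2 : F) • t' ∈ S := by
        convert h using 1
        module
      exact (S.smul_mem_iff (neg_ne_zero.2 h2)).1 h'
    -- `y ∈ S` for `y ⊥ u, t₀, t'`
    have hyS : ∀ y, bf J u y = 0 → bf J t₀ y = 0 → bf J t' y = 0 → y ∈ S := by
      intro y hy1 hy2 hy3
      have h := hB0 y t' hy1 hut'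
      rw [sym y t', hy3, sym y t₀, hy2, ht't₀] at h
      simp only [zero_smul, one_smul, zero_sub, sub_zero] at h
      exact (S.neg_mem_iff).1 h
    -- `t₀ ∈ S`
    have ht₀S : t₀ ∈ S := by
      obtain ⟨y, hy0, hy1, hy2, hy3, hy4⟩ := toowi2b_perp4 hodd u u' t₀ t' hu huu' hu'u hu'u'
        ht₀t₀ ht₀t' ht't₀ ht't' ht₀u hut' ht₀u' hu't' hu_t₀ hu'_t₀ ht'u ht'u'
      obtain ⟨x₂, hx₂⟩ := bf_nondeg hdet hy0
      set y' : ι → F := x₂ - bf J u' x₂ • u - bf J u x₂ • u' - bf J t' x₂ • t₀ - bf J t₀ x₂ • t'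
        with hy'
      have hyu : bf J y u = 0 := by rw [sym]; exact hy1
      have hyu' : bf J y u' = 0 := by rw [sym]; exact hy2
      have hyt₀ : bf J y t₀ = 0 := by rw [sym]; exact hy3
      have hyt' : bf J y t' = 0 := by rw [sym]; exact hy4
      have h1 : bf J u y' = 0 := by
        rw [hy']
        simp only [bf_sub_right, bf_smul_right, hu, huu', ht₀u, hut']
        ring
      have h2' : bf J y' t₀ = 0 := by
        rw [sym, hy']
        simp only [bf_sub_right, bf_smul_right, hu_t₀, hu'_t₀, ht₀t₀, ht₀t']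
        ring
      have h3 : bf J y y' = bf J y x₂ := by
        rw [hy']
        simp only [bf_sub_right, bf_smul_right, hyu, hyu', hyt₀, hyt']
        ring
      have h := hB0 y y' hy1 h1
      rw [h2', hyt₀, h3] at h
      simp only [zero_smul, sub_zero] at h
      exact (S.smul_mem_iff hx₂).1 h
    intro z hz
    have hdec : z = bf J t' z • t₀ + bf J t₀ z • t' + (z - bf J t' z • t₀ - bf J t₀ z • t') := by
      abel
    rw [hdec]
    refine S.add_mem (S.add_mem (S.smul_mem _ ht₀S) (S.smul_mem _ ht'S)) (hyS _ ?_ ?_ ?_)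
    · simp only [bf_sub_right, bf_smul_right, hz, ht₀u, hut']
      ring
    · simp only [bf_sub_right, bf_smul_right, ht₀t₀, ht₀t']
      ring
    · simp only [bf_sub_right, bf_smul_right, ht't₀, ht't']
      ring

end Cfsg.Agent.Lib.Helper28.TOO
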