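import Cfsg.Agent.Lib.Helper28.TOO.Defs
import Cfsg.Agent.Lib.helper6.TSSIEG
import Cfsg.Agent.Lib.helper7.TOOWI2a
import Cfsg.Agent.Lib.Helper16.TOOWI2b

/-!
# Project TOO (S5681), row WI2 (helper16): assembly of WI2a + WI2b
-/

set_option autoImplicit false
set_option linter.unusedVariables false
set_option linter.unusedSectionVars false

namespace Cfsg.Agent.Lib.Helper28.TOO

open Matrix
open scoped Kronecker
open Cfsg.Agent.Lib.helper7.TP Cfsg.Agent.Lib.Helper21.TS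

variable {ι : Type*} [Fintype ι] [DecidableEq ι] {F : Type*} [Field F] {J : Matrix ι ι F}

theorem toowi2_Nw_mulVec (J : Matrix ι ι F) (w₁ w₂ x : ι → F) :
    Nw J w₁ w₂ *ᵥ x = bf J w₂ x • w₁ - bf J w₁ x • w₂ := by
  rw [Nw, Matrix.sub_mulVec, opm_mulVec, opm_mulVec]

theorem toowi2_Nw_add_right (J : Matrix ι ι F) (u z z' : ι → F) :
    Nw J u (z + z') = Nw J u z + Nw J u z' := by
  rw [Matrix.ext_iff_mulVec]
  intro x
  rw [Matrix.add_mulVec, toowi2_Nw_mulVec, toowi2_Nw_mulVec, toowi2_Nw_mulVec, bf_add_left]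
  module

theorem toowi2_Nw_smul_right (J : Matrix ι ι F) (c : F) (u z : ι → F) :
    Nw J u (c • z) = c • Nw J u z := by
  rw [Matrix.ext_iff_mulVec]
  intro x
  rw [Matrix.smul_mulVec, toowi2_Nw_mulVec, toowi2_Nw_mulVec, bf_smul_left]
  module

theorem toowi2_Nw_add_left (J : Matrix ι ι F) (u u' z : ι → F) :
    Nw J (u + u') z = Nw J u z + Nw J u' z := by
  rw [Matrix.ext_iff_mulVec]
  intro x
  rw [Matrix.add_mulVec, toowi2_Nw_mulVec, toowi2_Nw_mulVec, toowi2_Nw_mulVec, bf_add_left]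
  module

theorem toowi2_Nw_smul_left (J : Matrix ι ι F) (c : F) (u z : ι → F) :
    Nw J (c • u) z = c • Nw J u z := by
  rw [Matrix.ext_iff_mulVec]
  intro x
  rw [Matrix.smul_mulVec, toowi2_Nw_mulVec, toowi2_Nw_mulVec, bf_smul_left]
  module

theorem toowi2_Nw_self (J : Matrix ι ι F) (u : ι → F) : Nw J u u = 0 := by
  rw [Nw, sub_self]

theorem toowi2_Nw_swap (J : Matrix ι ι F) (u z : ι → F) : Nw J z u = -Nw J u z := by
  rw [Nw, Nw, neg_sub]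

/-- the subspace `{z | u ∧ z ∈ Ξ}` -/
def toowi2_S (J : Matrix ι ι F) (Ξ : Submodule F (Matrix ι ι F)) (u : ι → F) :
    Submodule F (ι → F) where
  carrier := {z | Nw J u z ∈ Ξ}
  add_mem' := by
    intro z z' hz hz'
    show Nw J u (z + z') ∈ Ξ
    rw [toowi2_Nw_add_right]
    exact Ξ.add_mem hz hz'
  zero_mem' := by
    show Nw J u 0 ∈ Ξ
    have : Nw J u 0 = 0 := by
      have := toowi2_Nw_smul_right J (0 : F) u 0
      rwa [zero_smul, zero_smul] at this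
    rw [this]
    exact Ξ.zero_mem
  smul_mem' := by
    intro c z hz
    show Nw J u (c • z) ∈ Ξ
    rw [toowi2_Nw_smul_right]
    exact Ξ.smul_mem c hz

theorem toowi2_mem_S (J : Matrix ι ι F) (Ξ : Submodule F (Matrix ι ι F)) (u z : ι → F) :
    z ∈ toowi2_S J Ξ u ↔ Nw J u z ∈ Ξ := Iff.rfl

/-- WI2 [S-M]. assembly of WI2a + WI2b with `S = {z | Nw J u z ∈ Ξ}`, `t = ξ u` (`f(u, ξ u) = 0`). -/
theorem w1_irr_step (h2 : (2 : F) ≠ 0) (hJ : Jᵀ = J) (hdet : J.det ≠ 0) (hodd : Odd (Fintype.card ι))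
    (Ξ : Submodule F (Matrix ι ι F))
    (hinv : ∀ w z : ι → F, bf J w w = 0 → bf J w z = 0 → ∀ ξ ∈ Ξ, sieg J w z * ξ * sieg J w (-z) ∈ Ξ)
    (ξ : Matrix ι ι F) (hξ : ξ ∈ Ξ) (hsk : SkewAdj J ξ) (u : ι → F) (hu0 : u ≠ 0) (hu : bf J u u = 0)
    (hne : ∀ c : F, ξ *ᵥ u ≠ c • u) :
    ∀ z : ι → F, bf J u z = 0 → Nw J u z ∈ Ξ := by
  have hut : bf J u (ξ *ᵥ u) = 0 := by
    have h := (skewAdj_iff_bf J ξ).1 hsk u u
    rw [bf_symm hJ] at h
    have h' : (2 : F) * bf J u (ξ *ᵥ u) = 0 := by linear_combination h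
    exact (mul_eq_zero.1 h').resolve_left h2
  have huS : u ∈ toowi2_S J Ξ u := by
    rw [toowi2_mem_S, toowi2_Nw_self]
    exact Ξ.zero_mem
  intro z hz
  rw [← toowi2_mem_S]
  refine w1_irr_spanB h2 hJ hdet hodd u (ξ *ᵥ u) hu0 hu hut hne (toowi2_S J Ξ u) huS ?_ z hz
  intro y y' hy hy'
  rw [toowi2_mem_S, ← w1_irr_diff h2 hJ ξ hsk u y y' hu hy hy']
  have hyy' : bf J u (y + y') = 0 := by rw [bf_add_right, hy, hy', add_zero]
  exact Ξ.add_mem (Ξ.sub_mem (Ξ.sub_mem (hinv u (y + y') hu hyy' ξ hξ) (hinv u y hu hy ξ hξ))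
    (hinv u y' hu hy' ξ hξ)) hξ

end Cfsg.Agent.Lib.Helper28.TOO
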