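import Cfsg.Agent.Lib.Helper28.TOO.Defs
import Cfsg.Agent.Lib.helper6.TSSIEG
import Cfsg.Agent.Lib.helper7.TOOWG1
import Cfsg.Agent.Lib.helper4.TOOWG2
import Cfsg.Agent.Lib.helper23.TOOLG3
import Cfsg.Agent.Lib.Helper16.TOOWI2

/-!
# Project TOO (S5681), row WI3 (helper16): spread
-/

set_option autoImplicit false
set_option linter.unusedVariables false
set_option linter.unusedSectionVars false

namespace Cfsg.Agent.Lib.Helper28.TOO

open Matrix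
open scoped Kronecker
open Cfsg.Agent.Lib.helper7.TP Cfsg.Agent.Lib.Helper21.TS

variable {ι : Type*} [Fintype ι] [DecidableEq ι] {F : Type*} [Field F] {J : Matrix ι ι F}

theorem toowi3_Om_le_Iso (J : Matrix ι ι F) : Om J ≤ Iso J := by
  rintro g ⟨k, _, rfl⟩
  exact k.2

theorem toowi3_Nw_conj (g : Matrix.GeneralLinearGroup ι F) (hg : g ∈ Iso J) (v w : ι → F) :
    (g : Matrix ι ι F) * Nw J v w * ((g⁻¹ : Matrix.GeneralLinearGroup ι F) : Matrix ι ι F) =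
      Nw J ((g : Matrix ι ι F) *ᵥ v) ((g : Matrix ι ι F) *ᵥ w) := by
  rw [Nw, Matrix.mul_sub, Matrix.sub_mul, opm_conj g hg, opm_conj g hg, Nw]

theorem toowi3_Nw_zero_left (J : Matrix ι ι F) (z : ι → F) : Nw J 0 z = 0 := by
  have := toowi2_Nw_smul_left J (0 : F) 0 z
  rwa [zero_smul, zero_smul] at this

/-- step 1: `s ∧ z' ∈ Ξ` for every singular `s` and `z' ⊥ s` -/
theorem toowi3_step1 (h2 : (2 : F) ≠ 0) (hJ : Jᵀ = J) (hdet : J.det ≠ 0) (hn : 3 ≤ Fintype.card ι)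
    (Ξ : Submodule F (Matrix ι ι F))
    (hinv : ∀ g ∈ Om J, ∀ ξ ∈ Ξ,
      (g : Matrix ι ι F) * ξ * ((g⁻¹ : Matrix.GeneralLinearGroup ι F) : Matrix ι ι F) ∈ Ξ)
    (u : ι → F) (hu0 : u ≠ 0) (hu : bf J u u = 0) (h : ∀ z : ι → F, bf J u z = 0 → Nw J u z ∈ Ξ) :
    ∀ s z' : ι → F, bf J s s = 0 → bf J s z' = 0 → Nw J s z' ∈ Ξ := by
  intro s z' hs hsz'
  by_cases hs0 : s = 0
  · subst hs0
    rw [toowi3_Nw_zero_left]
    exact Ξ.zero_mem
  obtain ⟨g, hg, c, hc, hgu⟩ := om_trans_pt hJ h2 hdet hn hu0 hs0 hu hs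
  have hgI : g ∈ Iso J := toowi3_Om_le_Iso J hg
  set z : ι → F := ((g⁻¹ : Matrix.GeneralLinearGroup ι F) : Matrix ι ι F) *ᵥ z' with hz
  have hgz : (g : Matrix ι ι F) *ᵥ z = z' := by
    rw [hz, Matrix.mulVec_mulVec, ← Units.val_mul, mul_inv_cancel, Units.val_one, Matrix.one_mulVec]
  have huz : bf J u z = 0 := by
    rw [← (mem_Iso_iff_bf J g).1 hgI u z, hgu, hgz, bf_smul_left, hsz', mul_zero]
  have h1 := hinv g hg _ (h z huz)
  rw [toowi3_Nw_conj g hgI, hgu, hgz, toowi2_Nw_smul_left] at h1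
  exact (Ξ.smul_mem_iff hc).1 h1

/-- WI3 [M]. spread. -/
theorem w1_irr_spread (h2 : (2 : F) ≠ 0) (hJ : Jᵀ = J) (hdet : J.det ≠ 0) (hn : 3 ≤ Fintype.card ι)
    (Ξ : Submodule F (Matrix ι ι F))
    (hinv : ∀ g ∈ Om J, ∀ ξ ∈ Ξ,
      (g : Matrix ι ι F) * ξ * ((g⁻¹ : Matrix.GeneralLinearGroup ι F) : Matrix ι ι F) ∈ Ξ)
    (u : ι → F) (hu0 : u ≠ 0) (hu : bf J u u = 0) (h : ∀ z : ι → F, bf J u z = 0 → Nw J u z ∈ Ξ) :
    ∀ s y : ι → F, bf J s s = 0 → Nw J s y ∈ Ξ := by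
  have step1 := toowi3_step1 h2 hJ hdet hn Ξ hinv u hu0 hu h
  intro s y hs
  by_cases hs0 : s = 0
  · subst hs0
    rw [toowi3_Nw_zero_left]
    exact Ξ.zero_mem
  have sym : ∀ x y, bf J x y = bf J y x := bf_symm hJ
  obtain ⟨s', hs's', hss'⟩ := w1_hyp_partner h2 hJ hdet s hs0 hs
  obtain ⟨y₀, hsy₀, hs'y₀, hκ⟩ := w1_nonsing_perp h2 hJ hdet hn s s' hs hs's' hss'
  have hs's : bf J s' s = 1 := by rw [sym]; exact hss'
  have hy₀s : bf J y₀ s = 0 := by rw [sym]; exact hsy₀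
  have hy₀s' : bf J y₀ s' = 0 := by rw [sym]; exact hs'y₀
  obtain ⟨k, hk⟩ : ∃ k : F, 2 * k = bf J y₀ y₀ := ⟨bf J y₀ y₀ / 2, by field_simp⟩
  have hvv : bf J (s - k • s' + y₀) (s - k • s' + y₀) = 0 := by
    simp only [bf_add_left, bf_sub_left, bf_smul_left, bf_add_right, bf_sub_right, bf_smul_right,
      hs, hs's', hss', hs's, hsy₀, hs'y₀, hy₀s, hy₀s', ← hk]
    ring
  have hvz : bf J (s - k • s' + y₀) (s + k • s') = 0 := by
    simp only [bf_add_left, bf_sub_left, bf_smul_left, bf_add_right, bf_sub_right, bf_smul_right,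
      hs, hs's', hss', hs's, hsy₀, hs'y₀, hy₀s, hy₀s']
    ring
  have e : (2 * k) • Nw J s s' =
      Nw J (s - k • s' + y₀) (s + k • s') + Nw J s y₀ + k • Nw J s' y₀ := by
    rw [Matrix.ext_iff_mulVec]
    intro x
    simp only [Matrix.add_mulVec, Matrix.smul_mulVec, toowi2_Nw_mulVec, bf_add_left, bf_sub_left,
      bf_smul_left]
    module
  have hss'Ξ : Nw J s s' ∈ Ξ := by
    have h1 : (2 * k) • Nw J s s' ∈ Ξ := by
      rw [e]
      exact Ξ.add_mem (Ξ.add_mem (step1 _ _ hvv hvz) (step1 s y₀ hs hsy₀))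
        (Ξ.smul_mem k (step1 s' y₀ hs's' hs'y₀))
    have hne : (2 * k : F) ≠ 0 := by rw [hk]; exact hκ
    exact (Ξ.smul_mem_iff hne).1 h1
  have hdec : Nw J s y = bf J s y • Nw J s s' + Nw J s (y - bf J s y • s') := by
    rw [← toowi2_Nw_smul_right, ← toowi2_Nw_add_right]
    congr 1
    abel
  rw [hdec]
  refine Ξ.add_mem (Ξ.smul_mem _ hss'Ξ) (step1 s _ hs ?_)
  rw [bf_sub_right, bf_smul_right, hss', mul_one, sub_self]

end Cfsg.Agent.Lib.Helper28.TOO
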