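import Cfsg.Agent.Lib.Helper28.TOO.Defs
import Cfsg.Agent.Lib.helper6.TSSIEG
import Cfsg.Agent.Lib.Helper21.TOO.LG1
import Cfsg.Agent.Lib.helper14.TOOWG9
import Cfsg.Agent.Lib.helper14.TOOWG10
import Cfsg.Agent.Lib.helper14.TOOWI1
import Cfsg.Agent.Lib.Helper16.TOOWI2
import Cfsg.Agent.Lib.Helper16.TOOWI3

/-!
# Project TOO (S5681), row WI4 (helper16): irreducibility of the skew-adjoint matrices
-/

set_option autoImplicit false
set_option linter.unusedVariables false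
set_option linter.unusedSectionVars false

namespace Cfsg.Agent.Lib.Helper28.TOO

open Matrix
open scoped Kronecker
open Cfsg.Agent.Lib.helper7.TP Cfsg.Agent.Lib.Helper21.TS

variable {ι : Type*} [Fintype ι] [DecidableEq ι] {F : Type*} [Field F] {J : Matrix ι ι F}

/-- invariance under `Ω(J)` gives invariance under the Siegel elements -/
theorem toowi4_sieg_inv (h2 : (2 : F) ≠ 0) (hJ : Jᵀ = J) (hdet : J.det ≠ 0)
    (Ξ : Submodule F (Matrix ι ι F))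
    (hinv : ∀ g ∈ Om J, ∀ ξ ∈ Ξ,
      (g : Matrix ι ι F) * ξ * ((g⁻¹ : Matrix.GeneralLinearGroup ι F) : Matrix ι ι F) ∈ Ξ) :
    ∀ w z : ι → F, bf J w w = 0 → bf J w z = 0 → ∀ ξ ∈ Ξ, sieg J w z * ξ * sieg J w (-z) ∈ Ξ := by
  intro w z hw hz ξ hξ
  obtain ⟨β, hβ, hβm⟩ := sieg_mem_Om hJ h2 hdet hw hz
  have hz' : bf J w (-z) = 0 := by rw [bf_neg_right, hz, neg_zero]
  have hmul : (β : Matrix ι ι F) * sieg J w (-z) = 1 := by
    rw [hβm, sieg_mul hJ h2 hw hz hz', add_neg_cancel, tssieg_zero]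
  have hinvm : ((β⁻¹ : Matrix.GeneralLinearGroup ι F) : Matrix ι ι F) = sieg J w (-z) :=
    Units.inv_eq_of_mul_eq_one_right hmul
  have := hinv β hβ ξ hξ
  rwa [hβm, hinvm] at this

/-- the subspace `{x | ∀ y, x ∧ y ∈ Ξ}` -/
def toowi4_S (J : Matrix ι ι F) (Ξ : Submodule F (Matrix ι ι F)) : Submodule F (ι → F) where
  carrier := {x | ∀ y, Nw J x y ∈ Ξ}
  add_mem' := by
    intro x x' hx hx' y
    rw [toowi2_Nw_add_left]
    exact Ξ.add_mem (hx y) (hx' y)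
  zero_mem' := by
    intro y
    rw [toowi3_Nw_zero_left]
    exact Ξ.zero_mem
  smul_mem' := by
    intro c x hx y
    rw [toowi2_Nw_smul_left]
    exact Ξ.smul_mem c (hx y)

/-- WI4 IRR [M]. -/
theorem w1_skew_irr (h2 : (2 : F) ≠ 0) (hJ : Jᵀ = J) (hdet : J.det ≠ 0) (hodd : Odd (Fintype.card ι))
    (hn : 3 ≤ Fintype.card ι) (hs : ∃ u : ι → F, u ≠ 0 ∧ bf J u u = 0)
    (Ξ : Submodule F (Matrix ι ι F))
    (hinv : ∀ g ∈ Om J, ∀ ξ ∈ Ξ,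
      (g : Matrix ι ι F) * ξ * ((g⁻¹ : Matrix.GeneralLinearGroup ι F) : Matrix ι ι F) ∈ Ξ)
    (hne : ∃ ξ ∈ Ξ, SkewAdj J ξ ∧ ξ ≠ 0) :
    ∀ ξ : Matrix ι ι F, SkewAdj J ξ → ξ ∈ Ξ := by
  obtain ⟨ξ₀, hξ₀Ξ, hsk, hξ₀0⟩ := hne
  obtain ⟨u, hu0, hu, hnoneig⟩ := w1_irr_noneig h2 hJ hdet hn hs ξ₀ hsk hξ₀0
  have hstep := w1_irr_step h2 hJ hdet hodd Ξ (toowi4_sieg_inv h2 hJ hdet Ξ hinv) ξ₀ hξ₀Ξ hsk u hu0 hu
    hnoneig
  have hspread := w1_irr_spread h2 hJ hdet hn Ξ hinv u hu0 hu hstep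
  have htop : toowi4_S J Ξ = ⊤ :=
    w1_sing_span h2 hJ hdet u hu0 hu (toowi4_S J Ξ) (fun s hs y => hspread s y hs)
  have hall : ∀ x y : ι → F, Nw J x y ∈ Ξ := by
    intro x y
    have hx : x ∈ toowi4_S J Ξ := by rw [htop]; exact Submodule.mem_top
    exact hx y
  intro ξ hξ
  exact w1_skew_span h2 hJ hdet Ξ hall ξ hξ

end Cfsg.Agent.Lib.Helper28.TOO
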