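import Cfsg.Agent.Lib.Helper9.TRI.Defs3
import Cfsg.Agent.Lib.helper23.TRIL1

/-!
Project TRI (S2858), wave 3a, piece 3-ZB (helper16): a vertex of type `≠ A` has no critical partner
at distance `≤ b`.
-/

set_option autoImplicit false

namespace Cfsg.Agent.Lib.Helper9.TRI

open Cfsg.Agent.Lib.Helper19.SW
open scoped commutatorElement

variable {G : Type*} [Group G] {V : Type*} [MulAction G V] {Adj : V → V → Prop} {ty : V → Bool}
  {A : Bool} {b : ℕ}

/-- TRI-3-ZB : a vertex of type `≠ A` has no critical partner at distance `≤ b`. -/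
theorem zB_le (H : PAS G Adj ty A b) {q : ℕ → V} {n : ℕ} (hw : IsWalk Adj q n) (hn : n ≤ b)
    (h0 : ty (q 0) ≠ A) : Zs G Adj (q 0) ≤ Qs G Adj (q n) := by
  obtain ⟨p, hc⟩ := H.crit
  rcases Nat.lt_or_ge n b with hlt | hge
  · exact hc.2.1 q n hlt hw
  · have hnb : n = b := le_antisymm hn hge
    subst hnb
    by_contra hnot
    exact h0 (lemma1 H.bip H.pa (⟨hw, hc.2.1, hnot⟩ : IsCritical G Adj q n) H.hb)

end Cfsg.Agent.Lib.Helper9.TRI
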