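import Cfsg.Agent.Lib.helper6.TS4.Defs

/-!
# Project TS4 (S5666), row UFP (helper16): `C1A + StabA ⇒ UfpA` (core, C1A as a hypothesis)
-/

set_option autoImplicit false
set_option linter.unusedSectionVars false

namespace Cfsg.Agent.Lib.Helper21.TS

open Matrix
open scoped Kronecker
open Cfsg.Agent.Lib.helper7.TP

variable {a b : ℕ} {F : Type*} [Field F]
variable {J1 : Matrix (Fin a) (Fin a) F} {J2 : Matrix (Fin b) (Fin b) F}

/-- UFP core: the conclusion of `ufpA_of_stabA`, with the statement of `c1A_of_ntsA` (for this `M`) as the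
hypothesis `hC1` -/
theorem ts4ufp_core (C : Ctx J1 J2)
    (M : Subgroup (Matrix.GeneralLinearGroup (Fin a × Fin b) F))
    (hMS : M ≤ SpV J1 J2) (hS : StabA M)
    (hC1 : ∀ (m : Matrix.GeneralLinearGroup (Fin a × Fin b) F), m ∈ M → ∀ (u : Fin a → F) (c : F),
      u ≠ 0 → c ≠ 0 → m * xA C u c * m⁻¹ ∈ K0 a b F →
      ∃ u' : Fin a → F, u' ≠ 0 ∧ ∀ y : Fin b → F, ∃ y' : Fin b → F,
        (m : Matrix (Fin a × Fin b) (Fin a × Fin b) F) *ᵥ ten u y = ten u' y') :
    UfpA J1 J2 M := by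
  intro u c x hu hc hx v hv hvx
  have hxe : x = xA C u c := by
    apply Units.ext
    rw [hx]
    rfl
  subst hxe
  have hK : v * xA C u c * v⁻¹ ∈ K0 a b F := (Subgroup.mem_inf.1 hvx).1
  obtain ⟨u', hu', hmap⟩ := hC1 v hv u c hu hc hK
  exact Subgroup.mem_inf.2 ⟨hS v hv u u' hu hu' hmap, hMS hv⟩

end Cfsg.Agent.Lib.Helper21.TS
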