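import Mathlib
import Cfsg.Agent.S5646
import Cfsg.Agent.Lib.helper6.Symp
import Cfsg.Agent.Lib.Helper16.TSDSKEWh16

/-!
# TSD (S5980) row CPOSEVEN, second copy (helper16): a symplectic involution has even `rank (x - 1)`.

`N = J (x - 1)` is skew-symmetric (`xᵀ J = J x` for a symplectic involution) of the rank of `x - 1`; then SKEW.
-/

set_option autoImplicit false

namespace Cfsg.Agent.Lib.helper4.TSD

open Matrix

variable {F : Type*} [Field F]

theorem tsdcposeven_h16_rank_even (h2 : (2 : F) ≠ 0) (d : ℕ) (x : GL (Fin d ⊕ Fin d) F) (hx : x ∈ Cfsg.spGL d F)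
    (hx2 : (x : Matrix (Fin d ⊕ Fin d) (Fin d ⊕ Fin d) F) ^ 2 = 1) :
    Even ((x : Matrix (Fin d ⊕ Fin d) (Fin d ⊕ Fin d) F) - 1).rank := by
  classical
  set A : Matrix (Fin d ⊕ Fin d) (Fin d ⊕ Fin d) F := (x : Matrix (Fin d ⊕ Fin d) (Fin d ⊕ Fin d) F) with hAdef
  have hmem : A ∈ Matrix.symplecticGroup (Fin d) F := by
    rw [Cfsg.Agent.Lib.helper6.mem_symplecticGroup_iff_sympForm]
    exact (Cfsg.Agent.S5646.mem_spGL_iff x).mp hx
  have hA : Aᵀ * Matrix.J (Fin d) F * A = Matrix.J (Fin d) F := SymplecticGroup.mem_iff'.mp hmem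
  have hAA : A * A = 1 := by rw [← pow_two]; exact hx2
  have hAJ : Aᵀ * Matrix.J (Fin d) F = Matrix.J (Fin d) F * A := by
    calc Aᵀ * Matrix.J (Fin d) F = Aᵀ * Matrix.J (Fin d) F * (A * A) := by rw [hAA, Matrix.mul_one]
      _ = (Aᵀ * Matrix.J (Fin d) F * A) * A := by rw [Matrix.mul_assoc, Matrix.mul_assoc, Matrix.mul_assoc]
      _ = Matrix.J (Fin d) F * A := by rw [hA]
  set N : Matrix (Fin d ⊕ Fin d) (Fin d ⊕ Fin d) F := Matrix.J (Fin d) F * (A - 1) with hN
  have hNt : Nᵀ = -N := by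
    rw [hN, Matrix.transpose_mul, Matrix.transpose_sub, Matrix.transpose_one, Matrix.J_transpose,
      Matrix.sub_mul, Matrix.one_mul, Matrix.mul_neg, hAJ, Matrix.mul_sub, Matrix.mul_one]
    abel
  have hrank : N.rank = (A - 1).rank :=
    Matrix.rank_mul_eq_right_of_isUnit_det _ _ (Matrix.isUnit_det_J (Fin d) F)
  let e : Fin d ⊕ Fin d ≃ Fin (d + d) := finSumFinEquiv
  set M' : Matrix (Fin (d + d)) (Fin (d + d)) F := Matrix.reindex e e N with hM'
  have hM't : M'ᵀ = -M' := by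
    rw [hM']
    ext i j
    simp only [Matrix.transpose_apply, Matrix.reindex_apply, Matrix.submatrix_apply, Matrix.neg_apply]
    have := congrFun (congrFun hNt (e.symm i)) (e.symm j)
    simpa using this
  have hr' : M'.rank = N.rank := Matrix.rank_reindex e e N
  have := tsdskew_h16_rank_even h2 M' hM't
  rw [hr', hrank] at this
  exact this

end Cfsg.Agent.Lib.helper4.TSD
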