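import Mathlib
import Cfsg.Prelude.Def_ChevStructure
import Cfsg.Prelude.Def_ChevF4
import Cfsg.Agent.Lib.helper14.TWI.Defs

/-!
# Project TWIF4 (S2184), piece SAME : the length only depends on the action on the roots
-/

set_option autoImplicit false
set_option linter.unusedVariables false

namespace Cfsg.Agent.Lib.helper8.TWIF4

open Cfsg.Lie Cfsg.Lie.ChevalleyDatum Cfsg.Agent.Lib.helper8 Cfsg.Agent.Lib.helper14
  Cfsg.Agent.Lib.helper14.INV Cfsg.Agent.Lib.helper14.TWI

universe u

/-- generic form: words with the same action on the roots give the same permutation, hence the same length -/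
theorem twif4same_gen (D : ChevalleyDatum) (hA : H8ReflAll D) (w w' : List ℕ) (hw : ValidW D w)
    (hw' : ValidW D w') (h : ∀ r < D.nroots, h8sW D w r = h8sW D w' r) :
    h8wPerm D hA w = h8wPerm D hA w' ∧ len D hA w = len D hA w' := by
  have e : h8wPerm D hA w = h8wPerm D hA w' := by
    apply Equiv.ext
    intro r
    apply Fin.ext
    rw [h8wPerm_val D hA w hw r, h8wPerm_val D hA w' hw' r]
    exact h r.val r.2
  refine ⟨e, ?_⟩
  unfold len
  rw [e]

/-- SAME : the length only depends on the action on the roots -/
theorem f4_len_congr (hA : H8ReflAll chevF4) (w w' : List ℕ) (hw : ValidW chevF4 w)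
    (hw' : ValidW chevF4 w') (h : ∀ r < chevF4.nroots, h8sW chevF4 w r = h8sW chevF4 w' r) :
    len chevF4 hA w = len chevF4 hA w' :=
  (twif4same_gen chevF4 hA w w' hw hw' h).2

end Cfsg.Agent.Lib.helper8.TWIF4
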