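import Mathlib
import Cfsg.Prelude.Def_ChevStructure
import Cfsg.Agent.Lib.helper14.TWI.Defs

/-!
# Project TWI, piece LEMNS : `N_invol_conjS`

Two involutions of `N` in the same coset of `H` (of odd order) are conjugate under a power of their quotient.
-/

set_option autoImplicit false
set_option linter.unusedVariables false

namespace Cfsg.Agent.Lib.helper14.TWI

open Cfsg.Lie Cfsg.Lie.ChevalleyDatum Cfsg.Agent.Lib.helper8 Cfsg.Agent.Lib.helper14
  Cfsg.Agent.Lib.helper14.INV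

universe u

/-- pure group theory: two involutions whose quotient has odd order are conjugate under a power of the quotient -/
theorem twilemns_gen {G : Type*} [Group G] (a b : G) (ha : a * a = 1) (hb : b * b = 1)
    (hodd : Odd (orderOf (a⁻¹ * b))) : ∃ h ∈ Subgroup.zpowers (a⁻¹ * b), h * a * h⁻¹ = b := by
  obtain ⟨l, hl⟩ := hodd
  have ha' : a⁻¹ = a := inv_eq_of_mul_eq_one_right ha
  have hb' : b⁻¹ = b := inv_eq_of_mul_eq_one_right hb
  have hkinv : (a⁻¹ * b)⁻¹ = b * a := by rw [mul_inv_rev, inv_inv, hb']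
  have hc : a * (a⁻¹ * b)⁻¹ * a⁻¹ = a⁻¹ * b := by
    rw [hkinv, ha']
    calc a * (b * a) * a = a * b * (a * a) := by group
      _ = a * b := by rw [ha, mul_one]
  have hpow : (a⁻¹ * b) ^ (2 * l + 1) = 1 := by rw [← hl]; exact pow_orderOf_eq_one _
  have h2l : (a⁻¹ * b) ^ l * (a⁻¹ * b) ^ l = (a⁻¹ * b)⁻¹ := by
    apply eq_inv_of_mul_eq_one_left
    rw [← pow_add, ← pow_succ]
    have : l + l + 1 = 2 * l + 1 := by ring
    rw [this]; exact hpow
  have h1 : a * ((a⁻¹ * b) ^ l)⁻¹ * a⁻¹ = (a⁻¹ * b) ^ l := by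
    rw [← inv_pow, ← conj_pow, hc]
  refine ⟨(a⁻¹ * b) ^ l, Subgroup.pow_mem _ (Subgroup.mem_zpowers _) l, ?_⟩
  calc (a⁻¹ * b) ^ l * a * ((a⁻¹ * b) ^ l)⁻¹
      = (a⁻¹ * b) ^ l * (a * ((a⁻¹ * b) ^ l)⁻¹ * a⁻¹) * a := by group
    _ = (a⁻¹ * b) ^ l * (a⁻¹ * b) ^ l * a := by rw [h1]
    _ = b * a * a := by rw [h2l, hkinv]
    _ = b := by rw [mul_assoc, ha, mul_one]

variable {K : Type u} [Field K]

/-- LEMNS : two involutions of `N` in the same coset of `H` (of odd order) are conjugate under a power of their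
quotient -/
theorem N_invol_conjS [Finite K] (D : ChevalleyDatum) (hB : H8Base.{u} D) (hA : H8ReflAll D)
    (hBN : H8BN D) (hodd : Odd (Nat.card (D.diagonalSubgroup K)))
    (n₁ n₂ : GL D.Idx K) (h₁ : n₁ ∈ D.monomialSubgroup K) (h₂ : n₂ ∈ D.monomialSubgroup K)
    (hs₁ : n₁ * n₁ = 1) (hs₂ : n₂ * n₂ = 1) (hH : n₁⁻¹ * n₂ ∈ D.diagonalSubgroup K) :
    ∃ h ∈ Subgroup.zpowers (n₁⁻¹ * n₂), h * n₁ * h⁻¹ = n₂ := by
  apply twilemns_gen n₁ n₂ hs₁ hs₂
  exact Odd.of_dvd_nat hodd (Subgroup.orderOf_dvd_natCard _ hH)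

end Cfsg.Agent.Lib.helper14.TWI
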