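import Mathlib
import Cfsg.Prelude.Def_ChevStructure
import Cfsg.Agent.Lib.helper14.TWI.Defs
import Cfsg.Agent.Lib.helper8.ChevTw4

/-!
# Project TWI, piece ORB1 : `orb_sW`

The reflections of an orbit (pairwise orthogonal fundamental roots) commute; their product makes the roots of the
orbit negative, permutes the other positive roots, is an involution and does not depend on the order.
-/

set_option autoImplicit false
set_option linter.unusedVariables false

namespace Cfsg.Agent.Lib.helper14.TWI

open Cfsg.Lie Cfsg.Lie.ChevalleyDatum Cfsg.Agent.Lib.helper8 Cfsg.Agent.Lib.helper14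
  Cfsg.Agent.Lib.helper14.INV

universe u

/-- two fundamental reflections commute on the roots as soon as one fixes the root of the other -/
theorem twiorb1_comm (D : ChevalleyDatum) (hB0 : H8Base.{0} D) (hA : H8ReflAll D) (hBN : H8BN D)
    (hW : H8BN2 D) (hO2 : H8Ord2 D) (i k : ℕ) (hi : i < D.rank) (hk : k < D.rank)
    (h : D.reflectRoot i (D.simple k) = D.simple k) (r : ℕ) (hr : r < D.nroots) :
    D.reflectRoot i (D.reflectRoot k r) = D.reflectRoot k (D.reflectRoot i r) := by
  have hv : ∀ j ∈ [i], j < D.rank := by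
    intro j hj
    rw [List.mem_singleton] at hj
    rw [hj]; exact hi
  have h1 := h8W_conj_simple D hB0 hA hBN hW hO2 [i] hv k k hk hk h
  have e : h8wPerm D hA [i] = h8sPerm D hA i := by
    unfold h8wPerm
    simp
  rw [e] at h1
  have h2 : h8sPerm D hA i * h8sPerm D hA k = h8sPerm D hA k * h8sPerm D hA i :=
    mul_inv_eq_iff_eq_mul.mp h1
  have h3 := congrArg (fun π : Equiv.Perm (Fin D.nroots) => (π ⟨r, hr⟩).val) h2
  simp only [Equiv.Perm.mul_apply] at h3
  rw [h8sPerm_val D hA i hi, h8sPerm_val D hA k hk, h8sPerm_val D hA k hk,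
    h8sPerm_val D hA i hi] at h3
  exact h3

/-- a fundamental reflection commutes with a word all of whose fundamental roots it fixes -/
theorem twiorb1_comm_list (D : ChevalleyDatum) (hB0 : H8Base.{0} D) (hA : H8ReflAll D)
    (hBN : H8BN D) (hW : H8BN2 D) (hO2 : H8Ord2 D) (i : ℕ) (hi : i < D.rank) (O : List ℕ)
    (hO : ∀ k ∈ O, k < D.rank) (h : ∀ k ∈ O, D.reflectRoot i (D.simple k) = D.simple k)
    (r : ℕ) (hr : r < D.nroots) :
    D.reflectRoot i (h8sW D O r) = h8sW D O (D.reflectRoot i r) := by
  induction O with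
  | nil => rfl
  | cons k O ih =>
    have hO' : ∀ j ∈ O, j < D.rank := fun j hj => hO j (List.mem_cons_of_mem _ hj)
    have h' : ∀ j ∈ O, D.reflectRoot i (D.simple j) = D.simple j :=
      fun j hj => h j (List.mem_cons_of_mem _ hj)
    have e1 : ∀ s, h8sW D (k :: O) s = D.reflectRoot k (h8sW D O s) := fun s => rfl
    rw [e1, e1, twiorb1_comm D hB0 hA hBN hW hO2 i k hi (hO k List.mem_cons_self)
      (h k List.mem_cons_self) _ (h8sW_lt D hA O hO' r hr), ih hO' h']

/-- a word fixes a root fixed by all its letters -/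
theorem twiorb1_fix (D : ChevalleyDatum) (O : List ℕ) (s : ℕ)
    (h : ∀ k ∈ O, D.reflectRoot k s = s) : h8sW D O s = s := by
  induction O with
  | nil => rfl
  | cons k O ih =>
    have e1 : h8sW D (k :: O) s = D.reflectRoot k (h8sW D O s) := rfl
    rw [e1, ih (fun j hj => h j (List.mem_cons_of_mem _ hj)), h k List.mem_cons_self]

/-- ORB1 : the reflections of an orbit commute; the product of the reflections of an orbit makes the roots of the
orbit negative and permutes the other positive roots -/
theorem orb_sW (D : ChevalleyDatum) (hB0 : H8Base.{0} D) (hA : H8ReflAll D) (hBN : H8BN D)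
    (hW : H8BN2 D) (hO2 : H8Ord2 D) (O : List ℕ) (hO : IsOrb D O) :
    (∀ j ∈ O, h8sW D O (D.simple j) = D.neg (D.simple j)) ∧
    (∀ r, D.IsPosRoot r → (∀ j ∈ O, r ≠ D.simple j) → D.IsPosRoot (h8sW D O r) ∧
      ∀ j ∈ O, h8sW D O r ≠ D.simple j) ∧
    (∀ r < D.nroots, h8sW D O (h8sW D O r) = r) ∧
    (∀ r < D.nroots, h8sW D O.reverse r = h8sW D O r) := by
  -- the first three statements by induction, the last one follows from the third
  have main : (∀ j ∈ O, h8sW D O (D.simple j) = D.neg (D.simple j)) ∧
      (∀ r, D.IsPosRoot r → (∀ j ∈ O, r ≠ D.simple j) → D.IsPosRoot (h8sW D O r) ∧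
        ∀ j ∈ O, h8sW D O r ≠ D.simple j) ∧
      (∀ r < D.nroots, h8sW D O (h8sW D O r) = r) := by
    induction O with
    | nil =>
      refine ⟨?_, ?_, ?_⟩
      · intro j hj; cases hj
      · intro r hr _
        exact ⟨hr, fun j hj => by cases hj⟩
      · intro r _; rfl
    | cons i O ih =>
      obtain ⟨hnd, hlt, hort⟩ := hO
      have hi : i < D.rank := hlt i List.mem_cons_self
      have hlt' : ∀ j ∈ O, j < D.rank := fun j hj => hlt j (List.mem_cons_of_mem _ hj)
      have hiO : i ∉ O := (List.nodup_cons.mp hnd).1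
      have hO' : IsOrb D O :=
        ⟨(List.nodup_cons.mp hnd).2, hlt', fun j hj k hk hjk =>
          hort j (List.mem_cons_of_mem _ hj) k (List.mem_cons_of_mem _ hk) hjk⟩
      obtain ⟨ih1, ih2, ih3⟩ := ih hO'
      obtain ⟨η, hR⟩ := h8reflAll_spec D hA i hi
      have e1 : ∀ s, h8sW D (i :: O) s = D.reflectRoot i (h8sW D O s) := fun s => rfl
      -- `s_i` fixes the roots of `O`, the letters of `O` fix `p_i`
      have hfix_i : ∀ k ∈ O, D.reflectRoot i (D.simple k) = D.simple k := by
        intro k hk
        apply hort i List.mem_cons_self k (List.mem_cons_of_mem _ hk)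
        rintro rfl
        exact hiO hk
      have hfix_O : ∀ k ∈ O, D.reflectRoot k (D.simple i) = D.simple i := by
        intro k hk
        apply hort k (List.mem_cons_of_mem _ hk) i List.mem_cons_self
        rintro rfl
        exact hiO hk
      have hOi : h8sW D O (D.simple i) = D.simple i := twiorb1_fix D O _ hfix_O
      refine ⟨?_, ?_, ?_⟩
      · intro j hj
        rcases List.mem_cons.mp hj with rfl | hj'
        · rw [e1, hOi]
          exact h8reflectRoot_simple D j
        · rw [e1, ih1 j hj']
          have hpj := (h8simple_pos D hBN j (hlt' j hj')).1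
          have := hR.negc (D.simple j) hpj
          rw [hfix_i j hj'] at this
          exact this
      · intro r hr hne
        have hne' : ∀ j ∈ O, r ≠ D.simple j := fun j hj => hne j (List.mem_cons_of_mem _ hj)
        obtain ⟨hp, hq⟩ := ih2 r hr hne'
        have hnei : h8sW D O r ≠ D.simple i := by
          intro h
          have h' := ih3 r hr.1
          rw [h, hOi] at h'
          exact hne i List.mem_cons_self h'.symm
        obtain ⟨h1, h2⟩ := h8spChk_spec D i (hBN.sp i hi) _ hp hnei
        refine ⟨by rw [e1]; exact h1, ?_⟩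
        intro j hj
        rw [e1]
        rcases List.mem_cons.mp hj with rfl | hj'
        · exact h2
        · intro h
          have h' := congrArg (D.reflectRoot i) h
          rw [hR.invol _ hp.1, hfix_i j hj'] at h'
          exact hq j hj' h'
      · intro r hr
        have hlt1 : h8sW D O r < D.nroots := h8sW_lt D hA O hlt' r hr
        rw [e1, e1, ← twiorb1_comm_list D hB0 hA hBN hW hO2 i hi O hlt' hfix_i _ hlt1,
          hR.invol _ (h8sW_lt D hA O hlt' _ hlt1), ih3 r hr]
  obtain ⟨m1, m2, m3⟩ := main
  refine ⟨m1, m2, m3, ?_⟩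
  intro r hr
  have hlt : ∀ j ∈ O, j < D.rank := hO.2.1
  have hltr : ∀ j ∈ O.reverse, j < D.rank := fun j hj => hlt j (List.mem_reverse.mp hj)
  have h1 := h8sW_reverse D hA O hlt r hr
  have h2 := m3 _ (h8sW_lt D hA O.reverse hltr r hr)
  rw [h1] at h2
  exact h2.symm

end Cfsg.Agent.Lib.helper14.TWI
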