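import Mathlib

set_option autoImplicit false

open Matrix

namespace Cfsg.Agent.Lib.Helper16

section
variable {F : Type*} [Field F] {k : ℕ}

abbrev TI (k : ℕ) : Type := (Unit ⊕ Fin k) ⊕ Unit

def stdN (F : Type*) [Field F] (k : ℕ) : Matrix (TI k) (TI k) F :=
  Matrix.single (Sum.inr ()) (Sum.inl (Sum.inl ())) 1

theorem mul_stdN_apply (g : Matrix (TI k) (TI k) F) (a b : TI k) :
    (g * stdN F k) a b = if b = Sum.inl (Sum.inl ()) then g a (Sum.inr ()) else 0 := by
  unfold stdN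
  by_cases hb : b = Sum.inl (Sum.inl ())
  · subst hb
    rw [Matrix.mul_single_apply_same]
    simp
  · rw [Matrix.mul_single_apply_of_ne (hbj := hb)]
    simp [hb]

theorem stdN_mul_apply (g : Matrix (TI k) (TI k) F) (a b : TI k) :
    (stdN F k * g) a b = if a = Sum.inr () then g (Sum.inl (Sum.inl ())) b else 0 := by
  unfold stdN
  by_cases ha : a = Sum.inr ()
  · subst ha
    rw [Matrix.single_mul_apply_same]
    simp
  · rw [Matrix.single_mul_apply_of_ne (h := ha)]
    simp [ha]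

theorem comm_stdN_iff (g : Matrix (TI k) (TI k) F) :
    g * stdN F k = stdN F k * g ↔
      (∀ x, g (Sum.inl x) (Sum.inr ()) = 0) ∧ (∀ j, g (Sum.inl (Sum.inl ())) (Sum.inl (Sum.inr j)) = 0) ∧
        g (Sum.inl (Sum.inl ())) (Sum.inl (Sum.inl ())) = g (Sum.inr ()) (Sum.inr ()) := by
  constructor
  · intro h
    have key : ∀ a b, (if b = Sum.inl (Sum.inl ()) then g a (Sum.inr ()) else 0) =
        if a = Sum.inr () then g (Sum.inl (Sum.inl ())) b else 0 := by
      intro a b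
      rw [← mul_stdN_apply, ← stdN_mul_apply, h]
    refine ⟨?_, ?_, ?_⟩
    · intro x
      have := key (Sum.inl x) (Sum.inl (Sum.inl ()))
      simpa using this
    · intro j
      have := key (Sum.inr ()) (Sum.inl (Sum.inr j))
      simpa using this.symm
    · have := key (Sum.inr ()) (Sum.inl (Sum.inl ()))
      simpa using this.symm
  · rintro ⟨h1, h2, h3⟩
    ext a b
    rw [mul_stdN_apply, stdN_mul_apply]
    rcases a with x | ⟨⟩
    · rcases b with (⟨⟩ | j) | ⟨⟩
      · simp [h1 x]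
      · simp
      · simp
    · rcases b with (⟨⟩ | j) | ⟨⟩
      · simp [h3]
      · simp [h2 j]
      · simp [h1 (Sum.inl ())]

def stdG (w : F) (γ : Fin k → F) (D : Matrix (Fin k) (Fin k) F) (Z : Unit ⊕ Fin k → F) :
    Matrix (TI k) (TI k) F :=
  Matrix.fromBlocks
    (Matrix.fromBlocks (Matrix.diagonal fun _ : Unit => w) 0 (Matrix.of fun i _ => γ i) D)
    0 (Matrix.of fun _ x => Z x) (Matrix.diagonal fun _ : Unit => w)

theorem det_stdG (w : F) (γ : Fin k → F) (D : Matrix (Fin k) (Fin k) F) (Z : Unit ⊕ Fin k → F) :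
    (stdG w γ D Z).det = w * D.det * w := by
  unfold stdG
  rw [Matrix.det_fromBlocks_zero₁₂, Matrix.det_fromBlocks_zero₁₂, Matrix.det_diagonal]
  simp

theorem stdG_comm (w : F) (γ : Fin k → F) (D : Matrix (Fin k) (Fin k) F) (Z : Unit ⊕ Fin k → F) :
    stdG w γ D Z * stdN F k = stdN F k * stdG w γ D Z := by
  rw [comm_stdN_iff]
  refine ⟨?_, ?_, ?_⟩
  · intro x
    simp [stdG]
  · intro j
    simp [stdG]
  · simp [stdG]

theorem eq_stdG_of_comm (g : Matrix (TI k) (TI k) F) (h : g * stdN F k = stdN F k * g) :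
    g = stdG (g (Sum.inr ()) (Sum.inr ())) (fun i => g (Sum.inl (Sum.inr i)) (Sum.inl (Sum.inl ())))
      (Matrix.of fun i j => g (Sum.inl (Sum.inr i)) (Sum.inl (Sum.inr j))) (fun x => g (Sum.inr ()) (Sum.inl x)) := by
  obtain ⟨h1, h2, h3⟩ := (comm_stdN_iff g).mp h
  ext a b
  rcases a with (⟨⟩ | i) | ⟨⟩
  · rcases b with (⟨⟩ | j) | ⟨⟩
    · simp [stdG, h3]
    · simp [stdG, h2 j]
    · simp [stdG, h1]
  · rcases b with (⟨⟩ | j) | ⟨⟩
    · simp [stdG]
    · simp [stdG]
    · simp [stdG, h1]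
  · rcases b with (⟨⟩ | j) | ⟨⟩
    · simp [stdG]
    · simp [stdG]
    · simp [stdG]

theorem stdG_inr_inr (w : F) (γ : Fin k → F) (D : Matrix (Fin k) (Fin k) F) (Z : Unit ⊕ Fin k → F) :
    stdG w γ D Z (Sum.inr ()) (Sum.inr ()) = w := by simp [stdG]

theorem stdG_gamma (w : F) (γ : Fin k → F) (D : Matrix (Fin k) (Fin k) F) (Z : Unit ⊕ Fin k → F) (i : Fin k) :
    stdG w γ D Z (Sum.inl (Sum.inr i)) (Sum.inl (Sum.inl ())) = γ i := by simp [stdG]

theorem stdG_D (w : F) (γ : Fin k → F) (D : Matrix (Fin k) (Fin k) F) (Z : Unit ⊕ Fin k → F) (i j : Fin k) :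
    stdG w γ D Z (Sum.inl (Sum.inr i)) (Sum.inl (Sum.inr j)) = D i j := by simp [stdG]

theorem stdG_Z (w : F) (γ : Fin k → F) (D : Matrix (Fin k) (Fin k) F) (Z : Unit ⊕ Fin k → F) (x : Unit ⊕ Fin k) :
    stdG w γ D Z (Sum.inr ()) (Sum.inl x) = Z x := by simp [stdG]

noncomputable def stdPhi (F : Type*) [Field F] (k : ℕ) (p : Fˣ × (Fin k → F) × GL (Fin k) F × (Unit ⊕ Fin k → F)) :
    {g : GL (TI k) F // (g : Matrix (TI k) (TI k) F) * stdN F k = stdN F k * (g : Matrix (TI k) (TI k) F)} :=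
  ⟨Matrix.GeneralLinearGroup.mkOfDetNeZero (stdG (p.1 : F) p.2.1 (p.2.2.1 : Matrix (Fin k) (Fin k) F) p.2.2.2) (by
      rw [det_stdG]
      exact mul_ne_zero (mul_ne_zero p.1.ne_zero (Matrix.GeneralLinearGroup.det_ne_zero p.2.2.1)) p.1.ne_zero),
    stdG_comm _ _ _ _⟩

theorem stdPhi_val (p : Fˣ × (Fin k → F) × GL (Fin k) F × (Unit ⊕ Fin k → F)) :
    (((stdPhi F k p).1 : GL (TI k) F) : Matrix (TI k) (TI k) F) =
      stdG (p.1 : F) p.2.1 (p.2.2.1 : Matrix (Fin k) (Fin k) F) p.2.2.2 := rfl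

theorem stdPhi_bijective : Function.Bijective (stdPhi F k) := by
  constructor
  · rintro ⟨w, γ, D, Z⟩ ⟨w', γ', D', Z'⟩ h
    have hv : stdG (w : F) γ (D : Matrix (Fin k) (Fin k) F) Z = stdG (w' : F) γ' (D' : Matrix (Fin k) (Fin k) F) Z' := by
      have := congrArg (fun x => ((x.1 : GL (TI k) F) : Matrix (TI k) (TI k) F)) h
      simpa only [stdPhi_val] using this
    have hw : w = w' := by
      apply Units.ext
      have := congrFun (congrFun hv (Sum.inr ())) (Sum.inr ())
      rwa [stdG_inr_inr, stdG_inr_inr] at this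
    have hγ : γ = γ' := by
      funext i
      have := congrFun (congrFun hv (Sum.inl (Sum.inr i))) (Sum.inl (Sum.inl ()))
      rwa [stdG_gamma, stdG_gamma] at this
    have hD : D = D' := by
      apply Units.ext
      ext i j
      have := congrFun (congrFun hv (Sum.inl (Sum.inr i))) (Sum.inl (Sum.inr j))
      rwa [stdG_D, stdG_D] at this
    have hZ : Z = Z' := by
      funext x
      have := congrFun (congrFun hv (Sum.inr ())) (Sum.inl x)
      rwa [stdG_Z, stdG_Z] at this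
    rw [hw, hγ, hD, hZ]
  · rintro ⟨g, hg⟩
    have heq := eq_stdG_of_comm (g : Matrix (TI k) (TI k) F) hg
    have hdet : (g : Matrix (TI k) (TI k) F).det ≠ 0 := Matrix.GeneralLinearGroup.det_ne_zero g
    rw [heq, det_stdG] at hdet
    have hw : (g : Matrix (TI k) (TI k) F) (Sum.inr ()) (Sum.inr ()) ≠ 0 := by
      intro h0
      rw [h0] at hdet
      simp at hdet
    have hD : (Matrix.of fun i j => (g : Matrix (TI k) (TI k) F) (Sum.inl (Sum.inr i)) (Sum.inl (Sum.inr j))).det ≠ 0 := by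
      intro h0
      rw [h0] at hdet
      simp at hdet
    refine ⟨(Units.mk0 _ hw, (fun i => (g : Matrix (TI k) (TI k) F) (Sum.inl (Sum.inr i)) (Sum.inl (Sum.inl ()))),
      Matrix.GeneralLinearGroup.mkOfDetNeZero _ hD, fun x => (g : Matrix (TI k) (TI k) F) (Sum.inr ()) (Sum.inl x)), ?_⟩
    apply Subtype.ext
    apply Units.ext
    rw [stdPhi_val]
    exact heq.symm

theorem card_comm_stdN [Fintype F] :
    Nat.card {g : GL (TI k) F // (g : Matrix (TI k) (TI k) F) * stdN F k = stdN F k * (g : Matrix (TI k) (TI k) F)} =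
      (Fintype.card F - 1) * (Fintype.card F ^ k * (Nat.card (GL (Fin k) F) * Fintype.card F ^ (k + 1))) := by
  rw [← Nat.card_eq_of_bijective _ (stdPhi_bijective (F := F) (k := k))]
  simp only [Nat.card_prod, Nat.card_units, Nat.card_eq_fintype_card, Fintype.card_pi, Finset.prod_const,
    Finset.card_univ, Fintype.card_fin, Fintype.card_sum, Fintype.card_unit]
  ring

end

end Cfsg.Agent.Lib.Helper16
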