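import Mathlib
import Cfsg.Prelude.Def_GeometricClasses
import Cfsg.Agent.Lib.Helper16.U3.Defs
import Cfsg.Agent.Lib.Helper16.U3.Code

/-!
# Project U3, piece EXPLA5 : the monomial subgroup of `SU_3(5)` lies in a proper subgroup (`≅ 3.A_7`,
the stabiliser of 105 non-isotropic points) and is smaller.
-/

set_option autoImplicit false
set_option linter.unusedVariables false
set_option maxRecDepth 100000

namespace Cfsg.Agent.Lib.Helper16.U3

open Cfsg Cfsg.Geo Cfsg.Agent.Lib.Lead.ASCU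
open scoped MatrixGroups Matrix

/-- bounded universal quantifier, as a Boolean -/
def allLt (n : ℕ) (f : ℕ → Bool) : Bool := @Nat.rec (fun _ => Bool) true (fun k ih => and (f k) ih) n

theorem allLt_succ (n : ℕ) (f : ℕ → Bool) : allLt (n + 1) f = and (f n) (allLt n f) := rfl

theorem allLt_iff (n : ℕ) (f : ℕ → Bool) : allLt n f = true ↔ ∀ k, k < n → f k = true := by
  induction n with
  | zero => simp [allLt]
  | succ n ih =>
    rw [allLt_succ, Bool.and_eq_true, ih]
    constructor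
    · rintro ⟨h1, h2⟩ k hk
      rcases Nat.lt_succ_iff_lt_or_eq.mp hk with h | rfl
      · exact h2 k h
      · exact h1
    · intro h
      exact ⟨h n (Nat.lt_succ_self n), fun k hk => h k (Nat.lt_succ_of_lt hk)⟩

def reps5A : List CV := [
  ⟨1, 0, 0⟩, ⟨0, 1, 0⟩, ⟨1, 1, 0⟩, ⟨1, 4, 0⟩, ⟨1, 12, 0⟩, ⟨1, 13, 0⟩,
  ⟨1, 17, 0⟩, ⟨1, 18, 0⟩, ⟨0, 0, 1⟩, ⟨1, 0, 1⟩, ⟨0, 1, 1⟩, ⟨1, 1, 1⟩,
  ⟨1, 2, 1⟩, ⟨1, 3, 1⟩, ⟨1, 4, 1⟩, ⟨1, 10, 1⟩, ⟨1, 15, 1⟩, ⟨1, 1, 2⟩,
  ⟨1, 2, 2⟩, ⟨1, 3, 2⟩, ⟨1, 4, 2⟩, ⟨1, 1, 3⟩, ⟨1, 2, 3⟩, ⟨1, 3, 3⟩,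
  ⟨1, 4, 3⟩, ⟨1, 0, 4⟩, ⟨0, 1, 4⟩, ⟨1, 1, 4⟩, ⟨1, 2, 4⟩, ⟨1, 3, 4⟩,
  ⟨1, 4, 4⟩, ⟨1, 10, 4⟩, ⟨1, 15, 4⟩, ⟨1, 5, 5⟩, ⟨1, 20, 5⟩, ⟨1, 9, 6⟩,
  ⟨1, 13, 6⟩, ⟨1, 17, 6⟩, ⟨1, 21, 6⟩, ⟨1, 13, 7⟩, ⟨1, 17, 7⟩, ⟨1, 12, 8⟩,
  ⟨1, 18, 8⟩, ⟨1, 6, 9⟩, ⟨1, 12, 9⟩, ⟨1, 18, 9⟩, ⟨1, 24, 9⟩, ⟨1, 1, 10⟩,
  ⟨1, 4, 10⟩, ⟨1, 14, 11⟩, ⟨1, 16, 11⟩, ⟨1, 0, 12⟩, ⟨0, 1, 12⟩, ⟨1, 8, 12⟩,
  ⟨1, 9, 12⟩, ⟨1, 13, 12⟩, ⟨1, 17, 12⟩, ⟨1, 21, 12⟩, ⟨1, 22, 12⟩, ⟨1, 0, 13⟩,
  ⟨0, 1, 13⟩, ⟨1, 6, 13⟩, ⟨1, 7, 13⟩, ⟨1, 12, 13⟩, ⟨1, 18, 13⟩, ⟨1, 23, 13⟩,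
  ⟨1, 24, 13⟩, ⟨1, 11, 14⟩, ⟨1, 19, 14⟩, ⟨1, 1, 15⟩, ⟨1, 4, 15⟩, ⟨1, 11, 16⟩,
  ⟨1, 19, 16⟩, ⟨1, 0, 17⟩, ⟨0, 1, 17⟩, ⟨1, 6, 17⟩, ⟨1, 7, 17⟩, ⟨1, 12, 17⟩,
  ⟨1, 18, 17⟩, ⟨1, 23, 17⟩, ⟨1, 24, 17⟩, ⟨1, 0, 18⟩, ⟨0, 1, 18⟩, ⟨1, 8, 18⟩,
  ⟨1, 9, 18⟩, ⟨1, 13, 18⟩, ⟨1, 17, 18⟩, ⟨1, 21, 18⟩, ⟨1, 22, 18⟩, ⟨1, 14, 19⟩,
  ⟨1, 16, 19⟩, ⟨1, 5, 20⟩, ⟨1, 20, 20⟩, ⟨1, 6, 21⟩, ⟨1, 12, 21⟩, ⟨1, 18, 21⟩,
  ⟨1, 24, 21⟩, ⟨1, 12, 22⟩, ⟨1, 18, 22⟩, ⟨1, 13, 23⟩, ⟨1, 17, 23⟩, ⟨1, 9, 24⟩,
  ⟨1, 13, 24⟩, ⟨1, 17, 24⟩, ⟨1, 21, 24⟩]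

def mask5A : ℕ := 0x1055041400040002100020007e200200000006410410000003d000040200080400010000003d041040000006100040020007e00840040004041541044004002222001515008a8a80444440120024d400040605030421085a008400240480042108008200000001240a0401a02c050281000000120208000421080d01602008400084216e05030500010048090001100010004008002000220006042c0802100021085a680b012000802050200901200000012011000042108302818210842001100000000489012018140c12000801a02c0421085a00840040a0400104001000100800080020800302160420007e0084002000800a8a80600008020020000000f0888800000018800080000006088880000003c2002004000400a8a80480020000840008001fc00010208208105504182a820c10410240049a200200240480205020200008010843342a84082020000280004a2901084210128a40402800008080042a840842108200008081408024048008008002108661000200000060000030200040194821000006042108090120020020042a840928a404200040080800084219a050200210866080800080010128a405028100200200240480042108000001885508100a00040001020000800140000ca410c10410008200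000001200000f02020002000418410c100420f805000004400001400000420fe10430420004002200000000f00000480820010410400404001888c04444400222200311180818c04c00003c000012011000088880002800008080000420f9888c042000400410000800101888c0401083e080800020800088880004400000001200000f005000308218304104082082061043040c602700004040a04004210800000184a290108421980500002000408550812404802154204200040014000084219920240000001810842040a040400010094520208080010010008008001010001948212000801a02c07028182800080084210205020004400004100024048004210b4901200041000011000205020021085a800080c0a0609a02c0480020010842000000900210000108000000126042c0c000101028100108420000006128a4042108660140000800102154204901200855081080010005000021086648090000000604210810281010000402514808202000400400200200040400065208400003c000012011000088880002800008080000420f9888c042000400410000800101888c0401083e080800020800088880004400000001200000f005000308218304104082082061043040c6027041040020800000004800003c080800080010610430401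083e014000011000005000001083f8410c1080010008800000003c00001202080041041001010006223011111000888800c44602063013000006042108090120020020042a840928a404200040080800084219a050200210866080800080010128a405028100200200240480042108000001885508100a00040001020000800140000ca4109000400d016038140c14000400421081028100022000020800120240021085a480900020800008800102810010842d4000406050304d016024001000842100000048010800008400000009302160420007e0084002000800a8a80600008020020000000f0888800000018800080000006088880000003c2002004000400a8a80480020000840008001fc00010208208105504182a820c10410240049a0084000842169a02c048002008140802404800000048044000108420c0a06084210800440000000122404806050304800200680b0108421680210010281000410004000402000200082000c08581400040605030421085a008400240480042108008200000001240a0401a02c050281000000120208000421080d01602008400084216e05030500010048090001100010004008002000220006042c0c15410500010000840008001f880080000001904104000000f400010080020100004000000f410410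000001840010008001f802100100010105504110010008888005454022a2a01111100480093440040048090040a040400010021086685508104040000500009452021084202514808050000101000855081084210400010102810048090010010004210cc20004000000c0000060400080329042222200011000010400208208010002000a0001888c07082182080800000009020200308218262230100a000000004a082080041000011000088880020004000841f00000f000007801083e0630131515009000401000101055041000006400010044440104104010010000210004004010410401111004000100010801055041400040100040054540200000c00000f04000fc20007e00001e9001268a8a80480020080008082a82080000320000802222008208200800800010800200200820820088880200008000840082a820a0002008002002a2a01000006000007820007e10003f00000f48009344444000220000208004104100200040014000311180e1043041010000000120404006104304c446020140000000094104100082000022000111100040008001083e00001e00000f002107c0c602720024d6042c0b02160640049a1948210ca410818c04c0c60261948216042c086520840c60260630130ca410b02160640049ac085816042c0c800934329042063013900126c8009340c6027ffffff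

def wit5Au : CM := ⟨⟨24, 2, 11⟩, ⟨2, 18, 18⟩, ⟨16, 1, 7⟩⟩
def wit5Ar : CV := ⟨0, 1, 0⟩
def wit5Aw : CM := ⟨⟨2, 5, 3⟩, ⟨2, 20, 3⟩, ⟨20, 0, 20⟩⟩

theorem mask5A_eq : mask5A = maskOf 5 reps5A := by decide +kernel

/-- a vector with one non-zero coordinate -/
def placeAt (s a : ℕ) : CV := cond (Nat.beq s 0) ⟨a, 0, 0⟩ (cond (Nat.beq s 1) ⟨0, a, 0⟩ ⟨0, 0, a⟩)

/-- monomial code matrices -/
def monoCM (s0 s1 s2 a b c : ℕ) : CM := ⟨placeAt s0 a, placeAt s1 b, placeAt s2 c⟩

/-- all monomial matrices of `SU_3(5)` preserve the 105 points (loops with early exits) -/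
def chk5A : Bool :=
  allLt 3 fun s0 => allLt 25 fun a => or (not (Nat.beq (cherm 5 (placeAt s0 a) (placeAt s0 a)) 1))
    (allLt 3 fun s1 => allLt 25 fun b =>
      or (not (and (Nat.beq (cherm 5 (placeAt s0 a) (placeAt s1 b)) 0) (Nat.beq (cherm 5 (placeAt s1 b) (placeAt s1 b)) 1)))
      (allLt 3 fun s2 => allLt 25 fun c =>
        or (not (isSU 5 (monoCM s0 s1 s2 a b c)))
          (and (pres 5 mask5A reps5A (monoCM s0 s1 s2 a b c)) (pres 5 mask5A reps5A (cadj 5 (monoCM s0 s1 s2 a b c))))))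

set_option maxHeartbeats 4000000 in
theorem chk5A_ok : chk5A = true := by decide +kernel

variable {F : Type*} [Field F]

/-- a column supported at position `s` -/
theorem u3expla5_place {p : ℕ} (M : Model F p) (v : CV) (hv : v.ok p) (s : Fin 3)
    (h : ∀ j : Fin 3, j ≠ s → M.dV v j = 0) : ∃ a, a < p * p ∧ v = placeAt s a := by
  have h0 : ∀ k, k < p * p → M.d k = 0 → k = 0 := fun k hk hd => (M.d_eq_zero hk).mp hd
  obtain ⟨x, y, z⟩ := v
  obtain ⟨hx, hy, hz⟩ := hv
  simp only at hx hy hz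
  fin_cases s
  · have h1 := h 1 (by decide)
    have h2 := h 2 (by decide)
    simp only [Model.dV, Matrix.cons_val_one, Matrix.cons_val_zero, Matrix.cons_val] at h1 h2
    refine ⟨x, hx, ?_⟩
    rw [h0 y hy h1, h0 z hz h2]; rfl
  · have h1 := h 0 (by decide)
    have h2 := h 2 (by decide)
    simp only [Model.dV, Matrix.cons_val_one, Matrix.cons_val_zero, Matrix.cons_val] at h1 h2
    refine ⟨y, hy, ?_⟩
    rw [h0 x hx h1, h0 z hz h2]; rfl
  · have h1 := h 0 (by decide)
    have h2 := h 1 (by decide)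
    simp only [Model.dV, Matrix.cons_val_one, Matrix.cons_val_zero, Matrix.cons_val] at h1 h2
    refine ⟨z, hz, ?_⟩
    rw [h0 x hx h1, h0 y hy h2]; rfl

/-- the columns of an element of the stabiliser of the standard frame -/
theorem u3expla5_cols (g : GL (Fin 3) F) (hg : g ∈ decompositionStabilizer (stdFrame F)) :
    ∃ σ : Equiv.Perm (Fin 3), ∀ i j : Fin 3, j ≠ σ i → (g : Matrix (Fin 3) (Fin 3) F) j i = 0 := by
  obtain ⟨σ, hσ⟩ := hg
  refine ⟨σ, fun i j hj => ?_⟩
  have h1 : (g : Matrix (Fin 3) (Fin 3) F) *ᵥ Pi.single i 1 ∈ (stdFrame F (σ i)) := by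
    rw [← hσ i]
    refine Submodule.mem_map.mpr ⟨Pi.single i 1, Submodule.subset_span rfl, ?_⟩
    rw [Matrix.toLin'_apply]
  unfold stdFrame at h1
  rw [Submodule.mem_span_singleton] at h1
  obtain ⟨a, ha⟩ := h1
  have := congrFun ha j
  rw [Matrix.mulVec_single_one] at this
  rw [show (g : Matrix (Fin 3) (Fin 3) F) j i = ((g : Matrix (Fin 3) (Fin 3) F).col i) j from rfl, ← this]
  simp [Pi.single_apply, hj]

/-- the overgroup: the stabiliser in `SU_3(5)` of the 105 points -/
def L5A (M : Model F 5) : Subgroup (GL (Fin 3) F) :=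
  stabilizing (glToMat (Fin 3) F) (M.lines reps5A) ⊓ SUg 3 F 5

theorem u3expla5_fin3 (s : Fin 3) : (s : ℕ) < 3 := s.2

/-- EXPLA5 -/
theorem explicit_frame5 [Fintype F] (hF : Fintype.card F = 5 ^ 2) :
    ∃ L : Subgroup (GL (Fin 3) F), L ≤ SUg 3 F 5 ∧ L ≠ SUg 3 F 5 ∧
      decompositionStabilizer (stdFrame F) ⊓ SUg 3 F 5 ≤ L ∧ ∃ a ∈ L, a ∉ decompositionStabilizer (stdFrame F) := by
  obtain ⟨M⟩ := exists_model (F := F) 5 (Or.inr rfl) hF
  refine ⟨L5A M, inf_le_right, ?_, ?_, ?_⟩
  · -- proper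
    intro hL
    have hdet : cdet 5 wit5Au = 1 := by decide
    have hu : M.gl wit5Au hdet ∈ SUg 3 F 5 := (M.mem_SU_iff _ wit5Au rfl).mpr (by decide)
    rw [← hL] at hu
    exact M.not_mem_stab reps5A mask5A mask5A_eq wit5Au wit5Ar (by decide) (by decide) _ rfl hu.1
  · -- the monomial matrices
    rintro g ⟨hgD, hgS⟩
    obtain ⟨m, hm, hgm⟩ := M.exists_code g
    obtain ⟨σ, hσ⟩ := u3expla5_cols g hgD
    obtain ⟨e0, e1, e2⟩ := M.dM_col m
    obtain ⟨a, ha, hc0⟩ := u3expla5_place M m.c0 hm.1 (σ 0) (fun j hj => by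
      rw [← e0, ← hgm]; exact hσ 0 j hj)
    obtain ⟨b, hb, hc1⟩ := u3expla5_place M m.c1 hm.2.1 (σ 1) (fun j hj => by
      rw [← e1, ← hgm]; exact hσ 1 j hj)
    obtain ⟨c, hc, hc2⟩ := u3expla5_place M m.c2 hm.2.2 (σ 2) (fun j hj => by
      rw [← e2, ← hgm]; exact hσ 2 j hj)
    have hmm : m = monoCM (σ 0) (σ 1) (σ 2) a b c := by
      obtain ⟨c0, c1, c2⟩ := m
      simp only at hc0 hc1 hc2
      rw [hc0, hc1, hc2]; rfl
    have hSU : isSU 5 m = true := (M.mem_SU_iff g m hgm).mp hgS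
    have hU : isU 5 m = true := by
      unfold isSU at hSU; rw [Bool.and_eq_true] at hSU; exact hSU.1
    have hchk := chk5A_ok
    unfold chk5A at hchk
    have h1 := (allLt_iff _ _).mp ((allLt_iff _ _).mp hchk (σ 0) (u3expla5_fin3 _)) a ha
    have hU' := hU
    unfold isU at hU'
    simp only [Bool.and_eq_true] at hU'
    obtain ⟨⟨⟨⟨⟨⟨⟨⟨h00, h01⟩, h02⟩, h10⟩, h11⟩, h12⟩, h20⟩, h21⟩, h22⟩ := hU'
    rw [hmm] at h00 h01 h11
    simp only [monoCM] at h00 h01 h11
    rw [h00] at h1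
    simp only [Bool.not_true, Bool.false_or] at h1
    have h2 := (allLt_iff _ _).mp ((allLt_iff _ _).mp h1 (σ 1) (u3expla5_fin3 _)) b hb
    rw [h01, h11] at h2
    simp only [Bool.and_self, Bool.not_true, Bool.false_or] at h2
    have h3 := (allLt_iff _ _).mp ((allLt_iff _ _).mp h2 (σ 2) (u3expla5_fin3 _)) c hc
    rw [← hmm, hSU] at h3
    simp only [Bool.not_true, Bool.false_or, Bool.and_eq_true] at h3
    exact ⟨M.mem_stab_of_pres reps5A mask5A mask5A_eq m hU h3.1 h3.2 g hgm, hgS⟩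
  · -- a non-monomial element of `L`
    have hdet : cdet 5 wit5Aw = 1 := by decide
    refine ⟨M.gl wit5Aw hdet, ⟨?_, (M.mem_SU_iff _ wit5Aw rfl).mpr (by decide)⟩, ?_⟩
    · exact M.mem_stab_of_pres reps5A mask5A mask5A_eq wit5Aw (by decide) (by decide +kernel) (by decide +kernel) _ rfl
    · intro hD
      obtain ⟨σ, hσ⟩ := u3expla5_cols _ hD
      -- column 0 of the witness has three non-zero entries
      have hne : ∀ j : Fin 3, ((M.gl wit5Aw hdet : GL (Fin 3) F) : Matrix (Fin 3) (Fin 3) F) j 0 ≠ 0 := by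
        intro j
        rw [M.gl_val]
        have h2 : M.d 2 ≠ 0 := fun h => by have := (M.d_eq_zero (by norm_num)).mp h; omega
        have h5 : M.d 5 ≠ 0 := fun h => by have := (M.d_eq_zero (by norm_num)).mp h; omega
        have h3 : M.d 3 ≠ 0 := fun h => by have := (M.d_eq_zero (by norm_num)).mp h; omega
        fin_cases j <;> simpa [Model.dM, wit5Aw] 
      obtain ⟨j, hj⟩ : ∃ j : Fin 3, j ≠ σ 0 := by
        by_cases h : (0 : Fin 3) = σ 0
        · exact ⟨1, by rw [← h]; decide⟩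
        · exact ⟨0, h⟩
      exact hne j (hσ 0 j hj)

end Cfsg.Agent.Lib.Helper16.U3
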