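import Mathlib
import Cfsg.Prelude.Def_GeometricClasses
import Cfsg.Agent.Lib.Helper16.U3.Defs
import Cfsg.Agent.Lib.Helper16.U3.Code
import Cfsg.Agent.Lib.Helper16.U3EXPLA5

/-!
# Project U3, piece EXPLB5 : an explicit proper subgroup (`≅ 3.A_7`, the stabiliser of 105 points) of `SU_3(5)`
containing the normaliser of a cyclic subgroup of order 7.
-/

set_option autoImplicit false
set_option linter.unusedVariables false
set_option linter.unusedSimpArgs false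
set_option maxRecDepth 100000

namespace Cfsg.Agent.Lib.Helper16.U3

open Cfsg Cfsg.Geo Cfsg.Agent.Lib.Lead.ASCU
open scoped MatrixGroups Matrix

/-- an element of order 7 of the stabiliser of the 105 points -/
def c5B : CM := ⟨⟨0, 5, 19⟩, ⟨5, 9, 24⟩, ⟨11, 6, 3⟩⟩

/-- the inverse of the Krylov matrix `[e₀, c e₀, c² e₀]` -/
def pinv5B : CM := ⟨⟨1, 0, 0⟩, ⟨24, 20, 8⟩, ⟨9, 14, 15⟩⟩

/-- the powers of `c5B` -/
def pows5B : List CM := [
  ⟨⟨1, 0, 0⟩, ⟨0, 1, 0⟩, ⟨0, 0, 1⟩⟩,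
  ⟨⟨0, 5, 19⟩, ⟨5, 9, 24⟩, ⟨11, 6, 3⟩⟩,
  ⟨⟨8, 7, 15⟩, ⟨7, 7, 7⟩, ⟨10, 23, 22⟩⟩,
  ⟨⟨4, 13, 24⟩, ⟨13, 6, 1⟩, ⟨6, 4, 17⟩⟩,
  ⟨⟨4, 18, 21⟩, ⟨18, 21, 4⟩, ⟨9, 1, 12⟩⟩,
  ⟨⟨23, 22, 15⟩, ⟨22, 22, 8⟩, ⟨10, 22, 7⟩⟩,
  ⟨⟨0, 20, 16⟩, ⟨20, 24, 21⟩, ⟨14, 9, 3⟩⟩]

/-- the first basis vector -/
def e05B : CV := ⟨1, 0, 0⟩

/-- Krylov matrices `[u, Y u, Y² u]` -/
def kryCM (Y : CM) (u : CV) : CM := ⟨u, mvec 5 Y u, mvec 5 Y (mvec 5 Y u)⟩

theorem p5B_inv : mmul 5 (kryCM c5B e05B) pinv5B = cone := by decide +kernel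

/-- powers of code matrices -/
def cpow (m : CM) : ℕ → CM
  | 0 => cone
  | n + 1 => mmul 5 (cpow m n) m

theorem pows5B_mem : ∀ j : ℕ, j < 7 → cpow c5B j ∈ pows5B := by decide +kernel

theorem c5B_pow7 : cpow c5B 7 = cone := by decide +kernel

theorem pows5B_ok : ∀ Y ∈ pows5B, Y.ok 5 := by unfold CM.ok CV.ok; decide

theorem c5B_gamma : cherm 5 e05B (mvec 5 c5B e05B) = 0 := by decide +kernel

theorem u3explb5_conj : mmul 5 (mmul 5 wit5Aw c5B) (cadj 5 wit5Aw) ∉ pows5B := by decide +kernel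

def chk5Bj (u : CV) (Y : CM) : Bool :=
  or (not (Nat.beq (cherm 5 u (mvec 5 Y u)) 0))
    (or (not (isSU 5 (mmul 5 (kryCM Y u) pinv5B)))
      (and (pres 5 mask5A reps5A (mmul 5 (kryCM Y u) pinv5B))
        (pres 5 mask5A reps5A (cadj 5 (mmul 5 (kryCM Y u) pinv5B)))))

def chk5Bu (u : CV) : Bool := or (not (Nat.beq (cherm 5 u u) 1)) (pows5B.all (chk5Bj u))

/-- all candidates for normalising elements preserve the 105 points -/
def chk5B : Bool := allLt 25 fun a => allLt 25 fun b => allLt 25 fun c => chk5Bu ⟨a, b, c⟩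

set_option maxHeartbeats 4000000 in
theorem chk5B_ok : chk5B = true := by decide +kernel

variable {F : Type*} [Field F]

theorem u3explb5_dM_inj {p : ℕ} (M : Model F p) {m n : CM} (hm : m.ok p) (hn : n.ok p) (h : M.dM m = M.dM n) :
    m = n := by
  obtain ⟨e0, e1, e2⟩ := M.dM_col m
  obtain ⟨f0, f1, f2⟩ := M.dM_col n
  have h0 : m.c0 = n.c0 := M.dV_inj hm.1 hn.1 (by rw [← e0, ← f0, h])
  have h1 : m.c1 = n.c1 := M.dV_inj hm.2.1 hn.2.1 (by rw [← e1, ← f1, h])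
  have h2 : m.c2 = n.c2 := M.dV_inj hm.2.2 hn.2.2 (by rw [← e2, ← f2, h])
  obtain ⟨a, b, c⟩ := m
  obtain ⟨a', b', c'⟩ := n
  simp only at h0 h1 h2
  rw [h0, h1, h2]

theorem u3explb5_dM_cpow (M : Model F 5) (m : CM) (n : ℕ) : (M.dM m) ^ n = M.dM (cpow m n) := by
  induction n with
  | zero => rw [pow_zero]; exact M.dM_one.symm
  | succ n ih => rw [pow_succ, ih, M.dM_mul]; rfl

theorem u3explb5_mulcol (A B : Matrix (Fin 3) (Fin 3) F) (j : Fin 3) :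
    (fun i => (A * B) i j) = A *ᵥ (fun i => B i j) := by
  ext i
  rw [Matrix.mul_apply]; rfl

theorem u3explb5_ext {R : Type*} (A B : Matrix (Fin 3) (Fin 3) R) (h0 : (fun i => A i 0) = fun i => B i 0)
    (h1 : (fun i => A i 1) = fun i => B i 1) (h2 : (fun i => A i 2) = fun i => B i 2) : A = B := by
  ext i j
  fin_cases j
  · exact congrFun h0 i
  · exact congrFun h1 i
  · exact congrFun h2 i

theorem u3explb5_e0 (M : Model F 5) (A : Matrix (Fin 3) (Fin 3) F) : A *ᵥ M.dV e05B = fun i => A i 0 := by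
  have : M.dV e05B = Pi.single 0 1 := by
    ext i; fin_cases i <;> simp [Model.dV, e05B, M.d_zero, M.d_one]
  rw [this, Matrix.mulVec_single_one]
  rfl

/-- the Krylov matrix of `g e₀` for `c^j` is `g` times the Krylov matrix of `e₀` for `c` -/
theorem u3explb5_kry (M : Model F 5) (m C Y : CM) (hrel : M.dM m * M.dM C = M.dM Y * M.dM m) :
    M.dM m * M.dM (kryCM C e05B) = M.dM (kryCM Y m.c0) := by
  obtain ⟨e0, e1, e2⟩ := M.dM_col m
  obtain ⟨p0, p1, p2⟩ := M.dM_col (kryCM C e05B)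
  obtain ⟨w0, w1, w2⟩ := M.dM_col (kryCM Y m.c0)
  have hu : M.dM m *ᵥ M.dV e05B = M.dV m.c0 := by rw [u3explb5_e0, e0]
  have hsw : ∀ x : Fin 3 → F, M.dM m *ᵥ (M.dM C *ᵥ x) = M.dM Y *ᵥ (M.dM m *ᵥ x) := by
    intro x
    rw [Matrix.mulVec_mulVec, Matrix.mulVec_mulVec, hrel]
  apply u3explb5_ext
  · rw [u3explb5_mulcol, p0, w0]
    exact hu
  · rw [u3explb5_mulcol, p1, w1]
    change M.dM m *ᵥ M.dV (mvec 5 C e05B) = M.dV (mvec 5 Y m.c0)
    rw [← M.dM_mulVec, ← M.dM_mulVec, hsw, hu]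
  · rw [u3explb5_mulcol, p2, w2]
    change M.dM m *ᵥ M.dV (mvec 5 C (mvec 5 C e05B)) = M.dV (mvec 5 Y (mvec 5 Y m.c0))
    rw [← M.dM_mulVec, ← M.dM_mulVec, ← M.dM_mulVec, ← M.dM_mulVec, hsw, hsw, hu]

/-- the elements of the cyclic group generated by `c₀` -/
theorem u3explb5_zpow (M : Model F 5) (c₀ : GL (Fin 3) F)
    (hc : (c₀ : Matrix (Fin 3) (Fin 3) F) = M.dM c5B) (h7 : orderOf c₀ = 7) (x : GL (Fin 3) F)
    (hx : x ∈ Subgroup.zpowers c₀) : ∃ Y ∈ pows5B, (x : Matrix (Fin 3) (Fin 3) F) = M.dM Y := by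
  obtain ⟨k, rfl⟩ := Subgroup.mem_zpowers_iff.mp hx
  have hk0 : 0 ≤ k % 7 := Int.emod_nonneg _ (by norm_num)
  have hk7 : k % 7 < 7 := Int.emod_lt_of_pos _ (by norm_num)
  have h1 : c₀ ^ k = c₀ ^ (k % 7).toNat := by
    rw [← zpow_natCast, Int.toNat_of_nonneg hk0]
    have := zpow_mod_orderOf c₀ k
    rw [h7] at this
    exact this.symm
  have hj : (k % 7).toNat < 7 := by omega
  refine ⟨cpow c5B (k % 7).toNat, pows5B_mem _ hj, ?_⟩
  rw [h1, Units.val_pow_eq_pow_val, hc, u3explb5_dM_cpow]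

/-- EXPLB5 -/
theorem explicit_L5 [Fintype F] (hF : Fintype.card F = 5 ^ 2) :
    ∃ (L : Subgroup (GL (Fin 3) F)) (c₀ : GL (Fin 3) F), L ≤ SUg 3 F 5 ∧ L ≠ SUg 3 F 5 ∧ c₀ ∈ L ∧ orderOf c₀ = 7 ∧
      (∀ g ∈ SUg 3 F 5, g * c₀ * g⁻¹ ∈ Subgroup.zpowers c₀ → g ∈ L) ∧
      (∃ a ∈ L, ¬ (a * c₀ * a⁻¹ ∈ Subgroup.zpowers c₀)) := by
  obtain ⟨M⟩ := exists_model (F := F) 5 (Or.inr rfl) hF
  have hdet : cdet 5 c5B = 1 := by decide
  have hUc : isU 5 c5B = true := by decide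
  have hcok : c5B.ok 5 := by unfold CM.ok CV.ok; decide
  have hpow : (M.gl c5B hdet) ^ 7 = 1 :=
    Units.ext (by rw [Units.val_pow_eq_pow_val, M.gl_val, u3explb5_dM_cpow, c5B_pow7, M.dM_one]; rfl)
  have hne : M.gl c5B hdet ≠ 1 := by
    intro h
    have h1 : M.dM c5B = M.dM cone := by rw [M.dM_one, ← M.gl_val c5B hdet, h]; rfl
    have h2 := u3explb5_dM_inj M hcok (by unfold CM.ok CV.ok; decide) h1
    exact absurd h2 (by decide)
  have : Fact (Nat.Prime 7) := ⟨by norm_num⟩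
  have h7 : orderOf (M.gl c5B hdet) = 7 := orderOf_eq_prime hpow hne
  refine ⟨L5A M, M.gl c5B hdet, inf_le_right, ?_, ?_, h7, ?_, ?_⟩
  · -- proper
    intro hL
    have hdet : cdet 5 wit5Au = 1 := by decide
    have hu : M.gl wit5Au hdet ∈ SUg 3 F 5 := (M.mem_SU_iff _ wit5Au rfl).mpr (by decide)
    rw [← hL] at hu
    exact M.not_mem_stab reps5A mask5A mask5A_eq wit5Au wit5Ar (by decide) (by decide) _ rfl hu.1
  · -- `c₀ ∈ L`
    exact ⟨M.mem_stab_of_pres reps5A mask5A mask5A_eq c5B hUc (by decide +kernel) (by decide +kernel) _ rfl,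
      (M.mem_SU_iff _ c5B rfl).mpr (by decide)⟩
  · -- the normaliser
    intro g hgS hgz
    obtain ⟨m, hm, hgm⟩ := M.exists_code g
    obtain ⟨Y, hY, hgY⟩ := u3explb5_zpow M _ rfl h7 _ hgz
    have hrel : M.dM m * M.dM c5B = M.dM Y * M.dM m := by
      rw [← hgm, ← M.gl_val c5B hdet, ← hgY, ← Units.val_mul, ← Units.val_mul]
      congr 1
      group
    have hkry := u3explb5_kry M m c5B Y hrel
    have hmm : m = mmul 5 (kryCM Y m.c0) pinv5B := by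
      apply u3explb5_dM_inj M hm (mmul_ok (by norm_num) _ _)
      rw [← M.dM_mul, ← hkry, Matrix.mul_assoc, M.dM_mul (kryCM c5B e05B) pinv5B, p5B_inv, M.dM_one, mul_one]
    have hSU : isSU 5 m = true := (M.mem_SU_iff g m hgm).mp hgS
    have hU : isU 5 m = true := by
      unfold isSU at hSU; rw [Bool.and_eq_true] at hSU; exact hSU.1
    have h00 : Nat.beq (cherm 5 m.c0 m.c0) 1 = true := by
      have hU' := hU
      unfold isU at hU'
      simp only [Bool.and_eq_true] at hU'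
      exact hU'.1.1.1.1.1.1.1.1
    -- the value of the form on `(g e₀, g c e₀)`
    have hγ : cherm 5 m.c0 (mvec 5 Y m.c0) = 0 := by
      apply (M.d_eq_zero (by unfold cherm; exact cadd_lt (by norm_num) _ _)).mp
      obtain ⟨e0, e1, e2⟩ := M.dM_col m
      have hu : M.dM m *ᵥ M.dV e05B = M.dV m.c0 := by rw [u3explb5_e0, e0]
      have hgU : g ∈ GU 3 F 5 := hgS.1
      have hpres := (Cfsg.Agent.Lib.Lead.ASCU.mem_GU_iff 5 g).mp hgU (M.dV e05B) (M.dM c5B *ᵥ M.dV e05B)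
      rw [hgm, Matrix.mulVec_mulVec, hrel, ← Matrix.mulVec_mulVec, hu, M.dM_mulVec, M.dM_mulVec, M.herm_dV,
        M.herm_dV, c5B_gamma, M.d_zero] at hpres
      exact hpres
    have hchk := chk5B_ok
    unfold chk5B at hchk
    have h1 := (allLt_iff _ _).mp ((allLt_iff _ _).mp ((allLt_iff _ _).mp hchk m.c0.x hm.1.1) m.c0.y hm.1.2.1)
      m.c0.z hm.1.2.2
    change chk5Bu m.c0 = true at h1
    unfold chk5Bu at h1
    rw [h00] at h1
    simp only [Bool.not_true, Bool.false_or, List.all_eq_true] at h1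
    have h2 := h1 Y hY
    unfold chk5Bj at h2
    rw [hγ, ← hmm, hSU] at h2
    simp only [Nat.beq_refl, Bool.not_true, Bool.false_or, Bool.and_eq_true] at h2
    exact ⟨M.mem_stab_of_pres reps5A mask5A mask5A_eq m hU h2.1 h2.2 g hgm, hgS⟩
  · -- an element of `L` which does not normalise
    have hdetw : cdet 5 wit5Aw = 1 := by decide
    have hUw : isU 5 wit5Aw = true := by decide
    refine ⟨M.gl wit5Aw hdetw, ⟨?_, (M.mem_SU_iff _ wit5Aw rfl).mpr (by decide)⟩, ?_⟩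
    · exact M.mem_stab_of_pres reps5A mask5A mask5A_eq wit5Aw hUw (by decide +kernel) (by decide +kernel) _ rfl
    · intro hz
      obtain ⟨Y, hY, haY⟩ := u3explb5_zpow M _ rfl h7 _ hz
      have hinv : ((M.gl wit5Aw hdetw)⁻¹ : GL (Fin 3) F).val = M.dM (cadj 5 wit5Aw) := by
        rw [Matrix.coe_units_inv, M.gl_val]
        exact Matrix.inv_eq_left_inv (M.dM_cadj_mul wit5Aw hUw)
      rw [Units.val_mul, Units.val_mul, hinv, M.gl_val, M.gl_val, M.dM_mul, M.dM_mul] at haY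
      have hYok : Y.ok 5 := pows5B_ok Y hY
      have := u3explb5_dM_inj M (mmul_ok (by norm_num) _ _) hYok haY
      have hc := u3explb5_conj
      rw [this] at hc
      exact hc hY

end Cfsg.Agent.Lib.Helper16.U3
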