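import Mathlib
import Cfsg.Prelude.Def_GeometricClasses
import Cfsg.Agent.Lib.Helper16.U3.Defs
import Cfsg.Agent.Lib.Helper16.U3.Code
import Cfsg.Agent.Lib.Helper16.U3EXPLA5
import Cfsg.Agent.Lib.Helper10.U3EXPLC3a

/-!
# Project U3, piece EXPLC5 : `SO_3(5) × 3` lies in a proper subgroup (`≅ 3.A_7`, the stabiliser of 105 points)
of `SU_3(5)`.
-/

set_option autoImplicit false
set_option linter.unusedVariables false
set_option linter.unusedSimpArgs false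
set_option maxRecDepth 100000

namespace Cfsg.Agent.Lib.Helper16.U3

open Cfsg Cfsg.Geo Cfsg.Agent.Lib.Lead.ASCU
open scoped MatrixGroups Matrix

/-- scalar multiple of a code matrix -/
def msmul (k : ℕ) (m : CM) : CM := ⟨vsmul 5 k m.c0, vsmul 5 k m.c1, vsmul 5 k m.c2⟩

/-- all code vectors over `F_5` -/
def allCV5 (f : CV → Bool) : Bool := allLt 5 fun a => allLt 5 fun b => allLt 5 fun c => f ⟨a, b, c⟩

theorem allCV5_iff (f : CV → Bool) :
    allCV5 f = true ↔ ∀ a b c : ℕ, a < 5 → b < 5 → c < 5 → f ⟨a, b, c⟩ = true := by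
  unfold allCV5
  rw [allLt_iff]
  constructor
  · intro h a b c ha hb hc
    exact (allLt_iff _ _).mp ((allLt_iff _ _).mp (h a ha) b hb) c hc
  · intro h a ha
    rw [allLt_iff]
    intro b hb
    rw [allLt_iff]
    intro c hc
    exact h a b c ha hb hc

/-- representatives of `F_25^× / F_5^×` -/
def reps6 : List ℕ := [1, 7, 21, 20, 18, 22]

def chk5Cw (u v w : CV) : Bool :=
  or (not (and (Nat.beq (cherm 5 u w) 0) (Nat.beq (cherm 5 v w) 0)))
    (reps6.all fun k => or (not (isSU 5 (msmul k ⟨u, v, w⟩))) (pres 5 mask5A reps5A (msmul k ⟨u, v, w⟩)))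

def chk5Cv (u v : CV) : Bool :=
  or (not (and (Nat.beq (cherm 5 u v) 0) (Nat.beq (cherm 5 v v) (cherm 5 u u)))) (allCV5 (chk5Cw u v))

def chk5Cu (u : CV) : Bool := or (Nat.beq (cherm 5 u u) 0) (allCV5 (chk5Cv u))

/-- all scalar multiples of matrices over `F_5` lying in `SU_3(5)` preserve the 105 points -/
def chk5C : Bool := allCV5 chk5Cu

set_option maxHeartbeats 4000000 in
theorem chk5C_ok : chk5C = true := by decide +kernel

theorem u3explc5_reps : ∀ c : ℕ, c < 25 → c ≠ 0 → ∃ k ∈ reps6, ∃ t, t < 5 ∧ c = cmul 5 k t := by decide +kernel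

theorem u3explc5_mul5 : ∀ t : ℕ, t < 5 → ∀ k : ℕ, k < 5 → cmul 5 t k < 5 := by decide +kernel

theorem u3explc5_conj : ∀ k : ℕ, k < 25 → cconj 5 k = k → k < 5 := by decide +kernel

theorem u3explc5_ratio : ∀ c : ℕ, c < 25 → ∀ k1 : ℕ, k1 < 5 → ∀ k2 : ℕ, k2 < 5 →
    ¬ (cmul 5 c k1 = 2 ∧ cmul 5 c k2 = 5) := by decide +kernel

variable {F : Type*} [Field F]

theorem u3explc5_dM_inj {p : ℕ} (M : Model F p) {m n : CM} (hm : m.ok p) (hn : n.ok p) (h : M.dM m = M.dM n) :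
    m = n := by
  obtain ⟨e0, e1, e2⟩ := M.dM_col m
  obtain ⟨f0, f1, f2⟩ := M.dM_col n
  have h0 : m.c0 = n.c0 := M.dV_inj hm.1 hn.1 (by rw [← e0, ← f0, h])
  have h1 : m.c1 = n.c1 := M.dV_inj hm.2.1 hn.2.1 (by rw [← e1, ← f1, h])
  have h2 : m.c2 = n.c2 := M.dV_inj hm.2.2 hn.2.2 (by rw [← e2, ← f2, h])
  obtain ⟨a, b, c⟩ := m
  obtain ⟨a', b', c'⟩ := n
  simp only at h0 h1 h2
  rw [h0, h1, h2]

theorem u3explc5_herm_smul (M : Model F 5) (k : ℕ) (u v : CV) :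
    M.d (cherm 5 (vsmul 5 k u) (vsmul 5 k v)) = (M.d k * M.d k ^ 5) * M.d (cherm 5 u v) := by
  rw [← M.herm_dV, ← M.herm_dV, M.dV_vsmul, M.dV_vsmul]
  unfold hermForm
  simp only [Pi.smul_apply, smul_eq_mul, mul_pow, Finset.mul_sum]
  refine Finset.sum_congr rfl fun i _ => ?_
  ring

theorem u3explc5_cherm_lt (u v : CV) : cherm 5 u v < 5 * 5 := by
  unfold cherm; exact cadd_lt (by norm_num) _ _

/-- the elements of the subfield of order 5 -/
theorem u3explc5_sub [Fintype F] (M : Model F 5) (hF : Fintype.card F = 5 ^ 2) (F₀ : Subfield F)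
    (hcard : Fintype.card F = Nat.card F₀ ^ 2) (x : F₀) : ∃ k, k < 5 ∧ (x : F) = M.d k := by
  have hn : Nat.card F₀ = 5 := by
    rw [hF] at hcard
    exact (Nat.pow_left_injective (n := 2) (by norm_num) hcard).symm
  have : Fintype F₀ := Fintype.ofFinite F₀
  have h5 : Fintype.card F₀ = 5 := by rw [Fintype.card_eq_nat_card]; exact hn
  have hx : x ^ 5 = x := by rw [← h5]; exact FiniteField.pow_card x
  have hx' : (x : F) ^ 5 = x := by
    have := congrArg (fun y : F₀ => (y : F)) hx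
    simpa using this
  obtain ⟨k, hk, hkx⟩ := M.surj (x : F)
  have hkx' : M.d k = (x : F) := hkx
  have h1 : M.d (cconj 5 k) = M.d k := by rw [M.d_cconj, hkx', hx']
  have h2 := M.inj _ _ (cconj_lt (by norm_num) k) hk h1
  exact ⟨k, u3explc5_conj k hk h2, hkx'.symm⟩

theorem u3explc5_msmul_ok (k : ℕ) (m : CM) : (msmul k m).ok 5 :=
  ⟨vsmul_ok (by norm_num) _ _, vsmul_ok (by norm_num) _ _, vsmul_ok (by norm_num) _ _⟩

/-- the main computation: an element of the subfield group in `SU_3(5)` preserves the 105 points -/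
theorem u3explc5_key [Fintype F] (M : Model F 5) (hF : Fintype.card F = 5 ^ 2) (F₀ : Subfield F)
    (hcard : Fintype.card F = Nat.card F₀ ^ 2) (g : GL (Fin 3) F) (hgX : g ∈ subfieldSubgroup F₀ 1)
    (hgS : g ∈ SUg 3 F 5) (m : CM) (hm : m.ok 5) (hgm : (g : Matrix (Fin 3) (Fin 3) F) = M.dM m) :
    pres 5 mask5A reps5A m = true := by
  obtain ⟨l, G0, hl, hgl⟩ := u3explc3_mem F₀ g hgX
  obtain ⟨c₀, hc₀, hc₀l⟩ := M.surj l
  have hc₀l' : M.d c₀ = l := hc₀l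
  have hc₀0 : c₀ ≠ 0 := by
    rintro rfl
    exact hl (hc₀l'.symm.trans M.d_zero)
  obtain ⟨k, hk, t, ht, hckt⟩ := u3explc5_reps c₀ hc₀ hc₀0
  choose κ hκ hκe using fun i j => u3explc5_sub M hF F₀ hcard (G0 i j)
  have he : ∀ i j, cmul 5 t (κ i j) < 5 := fun i j => u3explc5_mul5 t ht (κ i j) (hκ i j)
  obtain ⟨m₀, hm₀⟩ : ∃ m₀ : CM, m₀ = ⟨⟨cmul 5 t (κ 0 0), cmul 5 t (κ 1 0), cmul 5 t (κ 2 0)⟩,
    ⟨cmul 5 t (κ 0 1), cmul 5 t (κ 1 1), cmul 5 t (κ 2 1)⟩,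
    ⟨cmul 5 t (κ 0 2), cmul 5 t (κ 1 2), cmul 5 t (κ 2 2)⟩⟩ := ⟨_, rfl⟩
  have hmm : m = msmul k m₀ := by
    apply u3explc5_dM_inj M hm (u3explc5_msmul_ok k m₀)
    rw [← hgm, hgl, hm₀]
    ext i j
    fin_cases i <;> fin_cases j <;>
      simp [Model.dM, msmul, vsmul, M.d_cmul, hκe, ← hc₀l', hckt, mul_assoc]
  have hSU : isSU 5 (msmul k m₀) = true := by rw [← hmm]; exact (M.mem_SU_iff g m hgm).mp hgS
  have hU : isU 5 (msmul k m₀) = true := by
    unfold isSU at hSU; rw [Bool.and_eq_true] at hSU; exact hSU.1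
  have hU' := hU
  unfold isU at hU'
  simp only [Bool.and_eq_true, u3code_beq, msmul] at hU'
  obtain ⟨⟨⟨⟨⟨⟨⟨⟨h00, h01⟩, h02⟩, h10⟩, h11⟩, h12⟩, h20⟩, h21⟩, h22⟩ := hU'
  -- the norm of `k`
  have hN1 : (M.d k * M.d k ^ 5) * M.d (cherm 5 m₀.c0 m₀.c0) = 1 := by
    rw [← u3explc5_herm_smul, h00, M.d_one]
  have hN0 : M.d k * M.d k ^ 5 ≠ 0 := left_ne_zero_of_mul_eq_one hN1
  have zero_of : ∀ u v : CV, cherm 5 (vsmul 5 k u) (vsmul 5 k v) = 0 → cherm 5 u v = 0 := by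
    intro u v h
    have h1 := u3explc5_herm_smul M k u v
    rw [h, M.d_zero] at h1
    rcases mul_eq_zero.mp h1.symm with h2 | h2
    · exact absurd h2 hN0
    · exact (M.d_eq_zero (u3explc5_cherm_lt u v)).mp h2
  have ha : cherm 5 m₀.c0 m₀.c0 ≠ 0 := by
    intro h
    rw [h, M.d_zero, mul_zero] at hN1
    exact zero_ne_one hN1
  have hb := zero_of _ _ h01
  have hd := zero_of _ _ h02
  have he' := zero_of _ _ h12
  have hc : cherm 5 m₀.c1 m₀.c1 = cherm 5 m₀.c0 m₀.c0 := by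
    have h1 : (M.d k * M.d k ^ 5) * M.d (cherm 5 m₀.c1 m₀.c1) = 1 := by
      rw [← u3explc5_herm_smul, h11, M.d_one]
    have h2 := mul_left_cancel₀ hN0 (h1.trans hN1.symm)
    exact M.inj _ _ (u3explc5_cherm_lt _ _) (u3explc5_cherm_lt _ _) h2
  -- run the checker
  have hchk := chk5C_ok
  unfold chk5C at hchk
  have hx0 : m₀.c0.x < 5 ∧ m₀.c0.y < 5 ∧ m₀.c0.z < 5 := by rw [hm₀]; exact ⟨he 0 0, he 1 0, he 2 0⟩
  have hx1 : m₀.c1.x < 5 ∧ m₀.c1.y < 5 ∧ m₀.c1.z < 5 := by rw [hm₀]; exact ⟨he 0 1, he 1 1, he 2 1⟩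
  have hx2 : m₀.c2.x < 5 ∧ m₀.c2.y < 5 ∧ m₀.c2.z < 5 := by rw [hm₀]; exact ⟨he 0 2, he 1 2, he 2 2⟩
  have s1 := (allCV5_iff _).mp hchk _ _ _ hx0.1 hx0.2.1 hx0.2.2
  change chk5Cu m₀.c0 = true at s1
  unfold chk5Cu at s1
  have ha' : Nat.beq (cherm 5 m₀.c0 m₀.c0) 0 = false := by
    rw [← Bool.not_eq_true, u3code_beq]; exact ha
  rw [ha', Bool.false_or] at s1
  have s2 := (allCV5_iff _).mp s1 _ _ _ hx1.1 hx1.2.1 hx1.2.2
  change chk5Cv m₀.c0 m₀.c1 = true at s2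
  unfold chk5Cv at s2
  rw [hb, hc, Nat.beq_refl, Nat.beq_refl] at s2
  simp only [Bool.and_self, Bool.not_true, Bool.false_or] at s2
  have s3 := (allCV5_iff _).mp s2 _ _ _ hx2.1 hx2.2.1 hx2.2.2
  change chk5Cw m₀.c0 m₀.c1 m₀.c2 = true at s3
  unfold chk5Cw at s3
  rw [hd, he', Nat.beq_refl] at s3
  simp only [Bool.and_self, Bool.not_true, Bool.false_or, List.all_eq_true] at s3
  have s4 := s3 k hk
  change (!isSU 5 (msmul k m₀) || pres 5 mask5A reps5A (msmul k m₀)) = true at s4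
  rw [hSU] at s4
  simp only [Bool.not_true, Bool.false_or] at s4
  rw [hmm]
  exact s4

/-- EXPLC5 -/
theorem explicit_orth5 [Fintype F] (hF : Fintype.card F = 5 ^ 2) (F₀ : Subfield F)
    (hcard : Fintype.card F = Nat.card F₀ ^ 2) :
    ∃ L : Subgroup (GL (Fin 3) F), L ≤ SUg 3 F 5 ∧ L ≠ SUg 3 F 5 ∧
      subfieldSubgroup F₀ 1 ⊓ SUg 3 F 5 ≤ L ∧ ∃ a ∈ L, a ∉ subfieldSubgroup F₀ 1 := by
  obtain ⟨M⟩ := exists_model (F := F) 5 (Or.inr rfl) hF
  refine ⟨L5A M, inf_le_right, ?_, ?_, ?_⟩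
  · -- proper
    intro hL
    have hdet : cdet 5 wit5Au = 1 := by decide
    have hu : M.gl wit5Au hdet ∈ SUg 3 F 5 := (M.mem_SU_iff _ wit5Au rfl).mpr (by decide)
    rw [← hL] at hu
    exact M.not_mem_stab reps5A mask5A mask5A_eq wit5Au wit5Ar (by decide) (by decide) _ rfl hu.1
  · -- the subfield group
    rintro g ⟨hgX, hgS⟩
    obtain ⟨m, hm, hgm⟩ := M.exists_code g
    have hSU : isSU 5 m = true := (M.mem_SU_iff g m hgm).mp hgS
    have hU : isU 5 m = true := by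
      unfold isSU at hSU; rw [Bool.and_eq_true] at hSU; exact hSU.1
    have h1 := u3explc5_key M hF F₀ hcard g hgX hgS m hm hgm
    have hinv : ((g⁻¹ : GL (Fin 3) F) : Matrix (Fin 3) (Fin 3) F) = M.dM (cadj 5 m) := by
      rw [Matrix.coe_units_inv, hgm]
      exact Matrix.inv_eq_left_inv (M.dM_cadj_mul m hU)
    have h2 := u3explc5_key M hF F₀ hcard g⁻¹ (inv_mem hgX) (inv_mem hgS) (cadj 5 m) (cadj_ok (by norm_num) m) hinv
    exact ⟨M.mem_stab_of_pres reps5A mask5A mask5A_eq m hU h1 h2 g hgm, hgS⟩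
  · -- an element of `L` outside the subfield group
    have hdet : cdet 5 wit5Aw = 1 := by decide
    refine ⟨M.gl wit5Aw hdet, ⟨?_, (M.mem_SU_iff _ wit5Aw rfl).mpr (by decide)⟩, ?_⟩
    · exact M.mem_stab_of_pres reps5A mask5A mask5A_eq wit5Aw (by decide) (by decide +kernel) (by decide +kernel) _ rfl
    · intro hX
      obtain ⟨l, G0, hl, hal⟩ := u3explc3_mem F₀ _ hX
      rw [M.gl_val] at hal
      obtain ⟨c₀, hc₀, hc₀l⟩ := M.surj l
      have hc₀l' : M.d c₀ = l := hc₀l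
      obtain ⟨k1, hk1, e1⟩ := u3explc5_sub M hF F₀ hcard (G0 0 0)
      obtain ⟨k2, hk2, e2⟩ := u3explc5_sub M hF F₀ hcard (G0 1 0)
      have a1 := congrFun (congrFun hal 0) 0
      have a2 := congrFun (congrFun hal 1) 0
      simp only [Model.dM, wit5Aw, Matrix.of_apply, Matrix.cons_val_zero, Matrix.cons_val_one, Matrix.smul_apply,
        Matrix.map_apply, smul_eq_mul, e1, e2, ← hc₀l', ← M.d_cmul] at a1 a2
      have b1 := M.inj _ _ (by norm_num) (cmul_lt (by norm_num) _ _) a1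
      have b2 := M.inj _ _ (by norm_num) (cmul_lt (by norm_num) _ _) a2
      exact u3explc5_ratio c₀ hc₀ k1 hk1 k2 hk2 ⟨b1.symm, b2.symm⟩

end Cfsg.Agent.Lib.Helper16.U3
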