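import Mathlib
import Cfsg.Prelude.Def_GeometricClasses
import Cfsg.Agent.Lib.Helper16.U3.Defs
import Cfsg.Agent.Lib.Helper16.U3.Code
import Cfsg.Agent.Lib.Helper16.U3EXPLA5

/-!
# Project U3, piece EXPLD5 : the normaliser of the standard `3^(1+2)` in `SU_3(5)` lies in a proper subgroup
(`≅ 3.M_10`, the stabiliser of 36 isotropic points).
-/

set_option autoImplicit false
set_option linter.unusedVariables false
set_option linter.unusedSimpArgs false
set_option maxRecDepth 100000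

namespace Cfsg.Agent.Lib.Helper16.U3

open Cfsg Cfsg.Geo Cfsg.Agent.Lib.Lead.ASCU
open scoped MatrixGroups Matrix

def reps5D : List CV := [
  ⟨1, 5, 1⟩, ⟨1, 14, 1⟩, ⟨1, 19, 1⟩, ⟨1, 20, 1⟩, ⟨1, 1, 5⟩, ⟨1, 12, 5⟩,
  ⟨1, 8, 7⟩, ⟨1, 15, 7⟩, ⟨1, 7, 8⟩, ⟨1, 8, 8⟩, ⟨1, 10, 10⟩, ⟨1, 22, 10⟩,
  ⟨1, 12, 11⟩, ⟨1, 17, 11⟩, ⟨1, 5, 12⟩, ⟨1, 11, 12⟩, ⟨1, 16, 12⟩, ⟨1, 19, 12⟩,
  ⟨1, 1, 14⟩, ⟨1, 17, 14⟩, ⟨1, 7, 15⟩, ⟨1, 15, 15⟩, ⟨1, 12, 16⟩, ⟨1, 17, 16⟩,
  ⟨1, 11, 17⟩, ⟨1, 14, 17⟩, ⟨1, 16, 17⟩, ⟨1, 20, 17⟩, ⟨1, 1, 19⟩, ⟨1, 12, 19⟩,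
  ⟨1, 1, 20⟩, ⟨1, 17, 20⟩, ⟨1, 10, 22⟩, ⟨1, 23, 22⟩, ⟨1, 22, 23⟩, ⟨1, 23, 23⟩]

def mask5D : ℕ := 0xc0808080010040000100000000900000c0000000000000000011000080010000120000000000000000020100000811010a0000020480000200000000010400000000000001001600000000000000800100010c0080c002420000800000000000018000004004000000000000000000000800400400200000000004602100000400000000000000000900000002002000800100000408c0000000000040000100c0024023010100020000000000000080040060000000000000000000000002002001001000000000043002000102000000000000020000800000030000000000910002004002000000000000000200008100020302040012000018000000000000000002200002000400004100000000000000004800000024000000040001000004820424000100800000008005800000000000000000000090000000000000000012000000024c900022000804000200520020800000000000000840000210000000000000000220000000000000000060000000000004001008800006000000400040000000c00000000000000000180000900022480082008002002100000012600000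000000000020100100010000000000000090000000000000000022000000000002100002400002200000010020000000000001800000800400000000000804008002009402000000001080000003000400100884100000000004020400400000000002040001010000000002100006120000000000000000000000000000000000400400600000000000000200402100000000002420800400040001800008010000000308040020002400200000000001020000808000000000840000000000000000000000452000000000110000000000000000022000120020800012601080000400052000440000000000000080020001002000000000000030000000000000000002400000000000020100c0000024000004200000000080010000000000000002000400000000000000000300000180000000000c0480000000080800040800000000000001000004030808018800840001000000000408000001200004080080800000000012000000000000000000410000000000000004001000080100000000000010002480010080084002400018000000002010000000000000000402010012201080000090000008200100010000000000000800400200200000000008400000201008841000000000800200080800010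08061200000000004200060000000000000003000081000000000100040128040000000000000000000000000000000040020010010000000000210000100010000000308040001002004080008400000000011480000080130000000000000080800000c0000000004000400000000000000000001210400000000020100000000000000004800000000000000000402002000200000000000024000180420000008010800910000000000820000000000000000104100024802000800100800090000210000000000000810046020043002000024000000000000040040040020000000000000000000006000003000000000000060012800100000000000000020004000000020010004000110000042002000000001010a01000004000102000000022000009000000000000000003000010000040020100000000000000000820800100100160200040000020400000000120000000000000006040400000000000000000204000000000000040001000000000000000204000102000000000308080000000000300008080000000000000200040006200200180900001200000000080801000204000010000300000000800002000000000000000004800000000000000101000080800000000188008000000008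1000000c0000000000000000020400180901840404000800000000000c00800022000400008100000000000000000009020000820424006000002200000000000000000240000400010004020000000000000000104020004000000000001204000808005800024000000001810200000000000000000000000104000000000000000100800000000000000210000084000000000000000100122010004004000500024800000000120000000000000000024004800030004020000820002010000400800000000000020020030000000000000400100210000612000000000002010004080010800012804000000002000820010000000000080800000c000000000040201108200000000000000000000000000000000080010000009080058008800002400000000000000000c000000001200090000000000000000010080400010000000100020080002181020000082000000010212000000000000000000001001600000409000200000000060000022000000000000000002400000004080008200000000000000009001000004604040400001200040000000000201000000000000008085000000000000000000000c00000400200000000004000400100200000004520000420000080800100010000000121040021000200200000000000030000810000000000040080000000000000000000610080000000000000000000000000000000000000000000000000000000000000000000000000000000000000000000000000000000000000000000000000000000000000000000000000000000000000000001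

def wit5Du : CM := ⟨⟨24, 2, 11⟩, ⟨2, 18, 18⟩, ⟨16, 1, 7⟩⟩
def wit5Dr : CV := ⟨1, 5, 1⟩
def wit5Da : CM := ⟨⟨0, 16, 19⟩, ⟨5, 24, 21⟩, ⟨5, 6, 9⟩⟩
def heis5D : List CM := [
  ⟨⟨0, 1, 0⟩, ⟨0, 0, 1⟩, ⟨1, 0, 0⟩⟩, ⟨⟨0, 12, 0⟩, ⟨0, 0, 17⟩, ⟨1, 0, 0⟩⟩, ⟨⟨0, 17, 0⟩, ⟨0, 0, 12⟩, ⟨1, 0, 0⟩⟩,
  ⟨⟨0, 1, 0⟩, ⟨0, 0, 17⟩, ⟨12, 0, 0⟩⟩, ⟨⟨0, 12, 0⟩, ⟨0, 0, 12⟩, ⟨12, 0, 0⟩⟩, ⟨⟨0, 17, 0⟩, ⟨0, 0, 1⟩, ⟨12, 0, 0⟩⟩,
  ⟨⟨0, 1, 0⟩, ⟨0, 0, 12⟩, ⟨17, 0, 0⟩⟩, ⟨⟨0, 12, 0⟩, ⟨0, 0, 1⟩, ⟨17, 0, 0⟩⟩, ⟨⟨0, 17, 0⟩, ⟨0, 0, 17⟩, ⟨17, 0, 0⟩⟩,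
  ⟨⟨0, 0, 1⟩, ⟨1, 0, 0⟩, ⟨0, 1, 0⟩⟩, ⟨⟨0, 0, 17⟩, ⟨1, 0, 0⟩, ⟨0, 12, 0⟩⟩, ⟨⟨0, 0, 12⟩, ⟨1, 0, 0⟩, ⟨0, 17, 0⟩⟩,
  ⟨⟨0, 0, 17⟩, ⟨12, 0, 0⟩, ⟨0, 1, 0⟩⟩, ⟨⟨0, 0, 12⟩, ⟨12, 0, 0⟩, ⟨0, 12, 0⟩⟩, ⟨⟨0, 0, 1⟩, ⟨12, 0, 0⟩, ⟨0, 17, 0⟩⟩,
  ⟨⟨0, 0, 12⟩, ⟨17, 0, 0⟩, ⟨0, 1, 0⟩⟩, ⟨⟨0, 0, 1⟩, ⟨17, 0, 0⟩, ⟨0, 12, 0⟩⟩, ⟨⟨0, 0, 17⟩, ⟨17, 0, 0⟩, ⟨0, 17, 0⟩⟩,
  ⟨⟨1, 0, 0⟩, ⟨0, 1, 0⟩, ⟨0, 0, 1⟩⟩, ⟨⟨1, 0, 0⟩, ⟨0, 12, 0⟩, ⟨0, 0, 17⟩⟩, ⟨⟨1, 0, 0⟩, ⟨0, 17, 0⟩, ⟨0, 0, 12⟩⟩,
  ⟨⟨12, 0, 0⟩, ⟨0, 1, 0⟩, ⟨0, 0, 17⟩⟩, ⟨⟨12, 0, 0⟩, ⟨0, 12, 0⟩, ⟨0, 0, 12⟩⟩, ⟨⟨12, 0, 0⟩, ⟨0, 17, 0⟩, ⟨0, 0, 1⟩⟩,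
  ⟨⟨17, 0, 0⟩, ⟨0, 1, 0⟩, ⟨0, 0, 12⟩⟩, ⟨⟨17, 0, 0⟩, ⟨0, 12, 0⟩, ⟨0, 0, 1⟩⟩, ⟨⟨17, 0, 0⟩, ⟨0, 17, 0⟩, ⟨0, 0, 17⟩⟩]

theorem mask5D_eq : mask5D = maskOf 5 reps5D := by decide +kernel

/-- the list `heis5D` is closed under products -/
theorem heis5D_mul : ∀ r ∈ heis5D, ∀ s ∈ heis5D, mmul 5 r s ∈ heis5D := by decide +kernel

/-- the list `heis5D` has right inverses -/
theorem heis5D_inv : ∀ r ∈ heis5D, ∃ s ∈ heis5D, mmul 5 r s = cone := by decide +kernel

theorem heis5D_ok : ∀ r ∈ heis5D, r.c0.x < 25 ∧ r.c0.y < 25 ∧ r.c0.z < 25 ∧ r.c1.x < 25 ∧ r.c1.y < 25 ∧ r.c1.z < 25 ∧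
    r.c2.x < 25 ∧ r.c2.y < 25 ∧ r.c2.z < 25 := by decide +kernel

/-- the code of the cyclic permutation matrix -/
def heisYc : CM := ⟨⟨0, 1, 0⟩, ⟨0, 0, 1⟩, ⟨1, 0, 0⟩⟩

def heisX12c : CM := ⟨⟨1, 0, 0⟩, ⟨0, 12, 0⟩, ⟨0, 0, 17⟩⟩
def heisX17c : CM := ⟨⟨1, 0, 0⟩, ⟨0, 17, 0⟩, ⟨0, 0, 12⟩⟩

/-- candidate normalising matrices -/
def heisCM (y : CM) (u : CV) : CM := ⟨u, mvec 5 y u, mvec 5 y (mvec 5 y u)⟩

def chk5Dy (u : CV) (y : CM) : Bool :=
  or (not (isSU 5 (heisCM y u)))
    (and (pres 5 mask5D reps5D (heisCM y u)) (pres 5 mask5D reps5D (cadj 5 (heisCM y u))))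

/-- Boolean equality of code vectors -/
def cvBeq (u v : CV) : Bool := and (Nat.beq u.x v.x) (and (Nat.beq u.y v.y) (Nat.beq u.z v.z))

theorem cvBeq_iff (u v : CV) : cvBeq u v = true ↔ u = v := by
  obtain ⟨a, b, c⟩ := u
  obtain ⟨a', b', c'⟩ := v
  simp only [cvBeq, Bool.and_eq_true, u3code_beq, CV.mk.injEq]

/-- `x` is not the identity and fixes `u` -/
def fix5D (u : CV) (x : CM) : Bool :=
  and (cvBeq (mvec 5 x u) u) (not (and (cvBeq x.c0 ⟨1, 0, 0⟩) (and (cvBeq x.c1 ⟨0, 1, 0⟩) (cvBeq x.c2 ⟨0, 0, 1⟩))))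

theorem fix5D_iff (u : CV) (x : CM) : fix5D u x = true ↔ mvec 5 x u = u ∧ x ≠ cone := by
  obtain ⟨c0, c1, c2⟩ := x
  simp only [fix5D, Bool.and_eq_true, cvBeq_iff, Bool.not_eq_true', ← Bool.not_eq_true, cone,
    ne_eq, CM.mk.injEq]

def chk5Du (u : CV) : Bool :=
  or (not (Nat.beq (cherm 5 u u) 1)) (or (not (heis5D.any (fix5D u))) (heis5D.all (chk5Dy u)))

/-- all candidates preserve the 36 points -/
def chk5D : Bool := allLt 25 fun a => allLt 25 fun b => allLt 25 fun c => chk5Du ⟨a, b, c⟩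

set_option maxHeartbeats 4000000 in
theorem chk5D_ok : chk5D = true := by decide +kernel

theorem u3expld5_cube : ∀ k : ℕ, k < 25 → cmul 5 (cmul 5 k k) k = 1 → k = 1 ∨ k = 12 ∨ k = 17 := by decide +kernel

theorem u3expld5_conjY : mmul 5 (mmul 5 wit5Da heisYc) (cadj 5 wit5Da) ∉ heis5D := by decide +kernel

variable {F : Type*} [Field F]

theorem u3expld5_dM_inj {p : ℕ} (M : Model F p) {m n : CM} (hm : m.ok p) (hn : n.ok p) (h : M.dM m = M.dM n) :
    m = n := by
  obtain ⟨e0, e1, e2⟩ := M.dM_col m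
  obtain ⟨f0, f1, f2⟩ := M.dM_col n
  have h0 : m.c0 = n.c0 := M.dV_inj hm.1 hn.1 (by rw [← e0, ← f0, h])
  have h1 : m.c1 = n.c1 := M.dV_inj hm.2.1 hn.2.1 (by rw [← e1, ← f1, h])
  have h2 : m.c2 = n.c2 := M.dV_inj hm.2.2 hn.2.2 (by rw [← e2, ← f2, h])
  obtain ⟨a, b, c⟩ := m
  obtain ⟨a', b', c'⟩ := n
  simp only at h0 h1 h2
  rw [h0, h1, h2]

theorem u3expld5_ok (r : CM) (hr : r ∈ heis5D) : r.ok 5 := by
  obtain ⟨h1, h2, h3, h4, h5, h6, h7, h8, h9⟩ := heis5D_ok r hr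
  exact ⟨⟨h1, h2, h3⟩, ⟨h4, h5, h6⟩, ⟨h7, h8, h9⟩⟩

theorem u3expld5_omega (M : Model F 5) (ω : F) (hω1 : ω ≠ 1) (hω3 : ω ^ 3 = 1) : ω = M.d 12 ∨ ω = M.d 17 := by
  obtain ⟨k, hk, hkω⟩ := M.surj ω
  have hkω' : M.d k = ω := hkω
  have h3 : M.d (cmul 5 (cmul 5 k k) k) = 1 := by
    rw [M.d_cmul, M.d_cmul, hkω', ← hω3]; ring
  have h4 := (M.d_eq_one (cmul_lt (by norm_num) _ _)).mp h3
  rcases u3expld5_cube k hk h4 with rfl | rfl | rfl
  · exact absurd (hkω'.symm.trans M.d_one) hω1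
  · exact Or.inl hkω'.symm
  · exact Or.inr hkω'.symm

theorem u3expld5_Y (M : Model F 5) : M.dM heisYc = heisY F := by
  ext i j
  fin_cases i <;> fin_cases j <;> simp [Model.dM, heisYc, heisY, M.d_zero, M.d_one]

theorem u3expld5_X12 (M : Model F 5) : M.dM heisX12c = heisX (M.d 12) := by
  have h : M.d 17 = M.d 12 ^ 2 := by
    rw [pow_two, ← M.d_cmul]; rfl
  ext i j
  fin_cases i <;> fin_cases j <;> simp [Model.dM, heisX, heisX12c, heisX17c, M.d_zero, M.d_one, h]

theorem u3expld5_X17 (M : Model F 5) : M.dM heisX17c = heisX (M.d 17) := by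
  have h : M.d 12 = M.d 17 ^ 2 := by
    rw [pow_two, ← M.d_cmul]; rfl
  ext i j
  fin_cases i <;> fin_cases j <;> simp [Model.dM, heisX, heisX12c, heisX17c, M.d_zero, M.d_one, h]

/-- the standard Heisenberg group consists of the 27 listed matrices -/
theorem u3expld5_sub (M : Model F 5) (ω : F) (hω : ω = M.d 12 ∨ ω = M.d 17) (h : GL (Fin 3) F)
    (hh : h ∈ stdHeis ω) : ∃ r ∈ heis5D, (h : Matrix (Fin 3) (Fin 3) F) = M.dM r := by
  unfold stdHeis at hh
  induction hh using Subgroup.closure_induction with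
  | mem x hx =>
    rcases hx with hx | hx
    · rcases hω with rfl | rfl
      · exact ⟨heisX12c, by decide, by rw [hx, u3expld5_X12]⟩
      · exact ⟨heisX17c, by decide, by rw [hx, u3expld5_X17]⟩
    · exact ⟨heisYc, by decide, by rw [hx, u3expld5_Y]⟩
  | one => exact ⟨cone, by decide, by rw [M.dM_one]; rfl⟩
  | mul x y _ _ hx hy =>
    obtain ⟨r, hr, hxr⟩ := hx
    obtain ⟨s, hs, hys⟩ := hy
    exact ⟨mmul 5 r s, heis5D_mul r hr s hs, by rw [← M.dM_mul, ← hxr, ← hys]; rfl⟩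
  | inv x _ hx =>
    obtain ⟨r, hr, hxr⟩ := hx
    obtain ⟨s, hs, hrs⟩ := heis5D_inv r hr
    refine ⟨s, hs, ?_⟩
    have h1 : (x : Matrix (Fin 3) (Fin 3) F) * M.dM s = 1 := by
      rw [hxr, M.dM_mul, hrs, M.dM_one]
    rw [Matrix.coe_units_inv]
    exact Matrix.inv_eq_right_inv h1

/-- the overgroup: the stabiliser in `SU_3(5)` of the 36 points -/
def L5D (M : Model F 5) : Subgroup (GL (Fin 3) F) :=
  stabilizing (glToMat (Fin 3) F) (M.lines reps5D) ⊓ SUg 3 F 5

theorem u3expld5_col (A : Matrix (Fin 3) (Fin 3) F) :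
    (fun i => (A * heisY F) i 0) = (fun i => A i 1) ∧ (fun i => (A * heisY F) i 1) = (fun i => A i 2) := by
  constructor <;> (ext i; simp [Matrix.mul_apply, Fin.sum_univ_three, heisY])

theorem u3expld5_mulcol (A B : Matrix (Fin 3) (Fin 3) F) (j : Fin 3) :
    (fun i => (A * B) i j) = A *ᵥ (fun i => B i j) := by
  ext i
  rw [Matrix.mul_apply]; rfl

theorem u3expld5_colX (A : Matrix (Fin 3) (Fin 3) F) (ω : F) :
    (fun i => (A * heisX ω) i 0) = (fun i => A i 0) := by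
  ext i; simp [Matrix.mul_apply, Fin.sum_univ_three, heisX]

/-- EXPLD5 -/
theorem explicit_heis5 [Fintype F] (hF : Fintype.card F = 5 ^ 2) (ω : F) (hω1 : ω ≠ 1) (hω3 : ω ^ 3 = 1) :
    ∃ L : Subgroup (GL (Fin 3) F), L ≤ SUg 3 F 5 ∧ L ≠ SUg 3 F 5 ∧
      subgroupNormalizer (stdHeis ω) ⊓ SUg 3 F 5 ≤ L ∧ ∃ a ∈ L, a ∉ subgroupNormalizer (stdHeis ω) := by
  obtain ⟨M⟩ := exists_model (F := F) 5 (Or.inr rfl) hF
  have hω := u3expld5_omega M ω hω1 hω3
  have hYdet : cdet 5 heisYc = 1 := by decide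
  have hYmem : M.gl heisYc hYdet ∈ stdHeis ω :=
    Subgroup.subset_closure (Or.inr (by rw [M.gl_val, u3expld5_Y]))
  obtain ⟨Xc, hXdet, hXval⟩ : ∃ Xc : CM, cdet 5 Xc = 1 ∧ M.dM Xc = heisX ω := by
    rcases hω with rfl | rfl
    · exact ⟨heisX12c, by decide, u3expld5_X12 M⟩
    · exact ⟨heisX17c, by decide, u3expld5_X17 M⟩
  have hXmem : M.gl Xc hXdet ∈ stdHeis ω :=
    Subgroup.subset_closure (Or.inl (by rw [M.gl_val, hXval]))
  refine ⟨L5D M, inf_le_right, ?_, ?_, ?_⟩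
  · -- proper
    intro hL
    have hdet : cdet 5 wit5Du = 1 := by decide
    have hu : M.gl wit5Du hdet ∈ SUg 3 F 5 := (M.mem_SU_iff _ wit5Du rfl).mpr (by decide)
    rw [← hL] at hu
    exact M.not_mem_stab reps5D mask5D mask5D_eq wit5Du wit5Dr (by decide) (by decide +kernel) _ rfl hu.1
  · -- the normaliser
    rintro g ⟨hgN, hgS⟩
    have hgN' := Subgroup.mem_normalizer_iff.mp hgN
    obtain ⟨r, hr, hgr⟩ := u3expld5_sub M ω hω _ ((hgN' _).mp hYmem)
    obtain ⟨x, hx, hgx⟩ := u3expld5_sub M ω hω _ ((hgN' _).mp hXmem)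
    obtain ⟨m, hm, hgm⟩ := M.exists_code g
    have hrel : M.dM m * heisY F = M.dM r * M.dM m := by
      rw [← hgm, ← u3expld5_Y M, ← M.gl_val heisYc hYdet, ← hgr, ← Units.val_mul, ← Units.val_mul]
      congr 1
      group
    have hrelX : M.dM m * heisX ω = M.dM x * M.dM m := by
      rw [← hgm, ← hXval, ← M.gl_val Xc hXdet, ← hgx, ← Units.val_mul, ← Units.val_mul]
      congr 1
      group
    obtain ⟨e0, e1, e2⟩ := M.dM_col m
    obtain ⟨k1, k2⟩ := u3expld5_col (M.dM m)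
    have hc1 : m.c1 = mvec 5 r m.c0 := by
      apply M.dV_inj hm.2.1 (mvec_ok (by norm_num) _ _)
      rw [← M.dM_mulVec, ← e1, ← k1, hrel, u3expld5_mulcol, e0]
    have hc2 : m.c2 = mvec 5 r (mvec 5 r m.c0) := by
      apply M.dV_inj hm.2.2 (mvec_ok (by norm_num) _ _)
      rw [← M.dM_mulVec, ← hc1, ← e2, ← k2, hrel, u3expld5_mulcol, e1]
    have hfix : mvec 5 x m.c0 = m.c0 := by
      apply M.dV_inj (mvec_ok (by norm_num) _ _) hm.1
      rw [← M.dM_mulVec, ← e0, ← u3expld5_mulcol, ← hrelX, u3expld5_colX]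
    have hxne : x ≠ cone := by
      rintro rfl
      have h1 : g * M.gl Xc hXdet * g⁻¹ = 1 := Units.ext (by rw [hgx, M.dM_one]; rfl)
      have h2 : M.gl Xc hXdet = 1 := conj_eq_one_iff.mp h1
      have h3 : heisX ω = 1 := by rw [← hXval, ← M.gl_val Xc hXdet, h2]; rfl
      have h4 := congrFun (congrFun h3 1) 1
      simp [heisX] at h4
      exact hω1 h4
    have hany : heis5D.any (fix5D m.c0) = true :=
      List.any_eq_true.mpr ⟨x, hx, (fix5D_iff _ _).mpr ⟨hfix, hxne⟩⟩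
    have hmm : m = heisCM r m.c0 := by
      obtain ⟨c0, c1, c2⟩ := m
      simp only at hc1 hc2
      subst hc1 hc2
      rfl
    have hSU : isSU 5 m = true := (M.mem_SU_iff g m hgm).mp hgS
    have hU : isU 5 m = true := by
      unfold isSU at hSU; rw [Bool.and_eq_true] at hSU; exact hSU.1
    have h00 : Nat.beq (cherm 5 m.c0 m.c0) 1 = true := by
      have hU' := hU
      unfold isU at hU'
      simp only [Bool.and_eq_true] at hU'
      exact hU'.1.1.1.1.1.1.1.1
    have hchk := chk5D_ok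
    unfold chk5D at hchk
    have h1 := (allLt_iff _ _).mp ((allLt_iff _ _).mp ((allLt_iff _ _).mp hchk m.c0.x hm.1.1) m.c0.y hm.1.2.1)
      m.c0.z hm.1.2.2
    change chk5Du m.c0 = true at h1
    unfold chk5Du at h1
    rw [h00, hany] at h1
    simp only [Bool.not_true, Bool.false_or, List.all_eq_true] at h1
    have h2 := h1 r hr
    unfold chk5Dy at h2
    rw [← hmm, hSU] at h2
    simp only [Bool.not_true, Bool.false_or, Bool.and_eq_true] at h2
    exact ⟨M.mem_stab_of_pres reps5D mask5D mask5D_eq m hU h2.1 h2.2 g hgm, hgS⟩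
  · -- an element of `L` which does not normalise
    have hdet : cdet 5 wit5Da = 1 := by decide
    have hUa : isU 5 wit5Da = true := by decide
    refine ⟨M.gl wit5Da hdet, ⟨?_, (M.mem_SU_iff _ wit5Da rfl).mpr (by decide)⟩, ?_⟩
    · exact M.mem_stab_of_pres reps5D mask5D mask5D_eq wit5Da hUa (by decide +kernel) (by decide +kernel) _ rfl
    · intro hN
      have hN' := Subgroup.mem_normalizer_iff.mp hN
      obtain ⟨r, hr, har⟩ := u3expld5_sub M ω hω _ ((hN' _).mp hYmem)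
      have hinv : ((M.gl wit5Da hdet)⁻¹ : GL (Fin 3) F).val = M.dM (cadj 5 wit5Da) := by
        rw [Matrix.coe_units_inv, M.gl_val]
        exact Matrix.inv_eq_left_inv (M.dM_cadj_mul wit5Da hUa)
      rw [Units.val_mul, Units.val_mul, hinv, M.gl_val, M.gl_val, M.dM_mul, M.dM_mul] at har
      have := u3expld5_dM_inj M (mmul_ok (by norm_num) _ _) (u3expld5_ok r hr) har
      have hc := u3expld5_conjY
      rw [this] at hc
      exact hc hr

end Cfsg.Agent.Lib.Helper16.U3
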