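import Mathlib
import Cfsg.Agent.Lib.Helper16.U3PX16core
import Cfsg.Agent.Lib.helper14.U3PX10
import Cfsg.Agent.Lib.helper14.U3PX12fin
import Cfsg.Agent.Lib.Helper5.U3PX13

/-!
Project U3P (designer helper19; S2289), row X16 `card_B_S` (helper16): verbatim wrapper of `card_B_S_core` on the landed rows
X10 `exists_US`, X12 `card_US` (helper14) and X13 `gen_U` (helper5).
-/

set_option autoImplicit false

namespace Cfsg.Agent.Lib.Helper19.U3P

open Cfsg.Agent.Lib.helper17.SLP Cfsg.Agent.Lib.helper14.SU3J Cfsg.Agent.Lib.Helper25.SU3P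
open Polynomial Matrix

universe u v

section X

variable {F : Type u} [Field F] [Fintype F] {K : Type u} [Field K] [Fintype K] {q : ℕ}

variable {D : Par F K q} {a b c : ↥(Cfsg.SU 3 F q)} {ρ : SL2 K →* ↥(Cfsg.SU 3 F q)}

/-- X16 [M] -/
theorem card_B_S (hG : Gens D a b c ρ) (hF : Fintype.card F = q ^ 2) (hK : Fintype.card K = q) (hq : 4 ≤ q)
    (hγ : D.γ0 ≠ 0) :
    q ^ 3 * (q ^ 2 - 1) ≤ Nat.card ↥(Subgroup.closure ({a, b} : Set ↥(Cfsg.SU 3 F q))) :=
  card_B_S_core hG hF (exists_US D) (fun US hUS => card_US D hF US hUS)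
    (fun X hX => gen_U hG hF hK hq hγ X hX)

end X

end Cfsg.Agent.Lib.Helper19.U3P
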