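import Mathlib
import Cfsg.Agent.Lib.Helper16.U82.Defs
import Cfsg.Agent.Lib.Lead.Unitary
import Cfsg.Agent.S0755

/-!
# U82 row A2 (helper16): a unitary form is the standard one in suitable coordinates.
-/

set_option autoImplicit false

namespace Cfsg.Agent.Lib.Helper16.U82

open Matrix Cfsg.Agent.Lib.Helper16
open scoped MatrixGroups

/-- coordinates: a unitary form is `hermForm` of the images under a linear equivalence -/
theorem u82a2_equiv {F : Type*} [Field F] [Fintype F] (q₀ n : ℕ) (hF : Fintype.card F = q₀ ^ 2)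
    (f : (Fin n → F) → (Fin n → F) → F) (hf : Cfsg.Geo.IsUnitaryFormPow q₀ f) :
    ∃ φ : (Fin n → F) ≃ₗ[F] (Fin n → F), ∀ u v, f u v = Cfsg.hermForm n F q₀ (φ u) (φ v) := by
  classical
  obtain ⟨σ, hσ⟩ := Cfsg.Agent.Lib.Lead.exists_frob hF
  have hσσ : ∀ x, σ (σ x) = x := Cfsg.Agent.Lib.Lead.frob_frob hF σ hσ
  have hσne : σ ≠ RingHom.id F := by
    intro h
    -- all elements satisfy x ^ q₀ = x: at most q₀ roots
    have h1 : ∀ x : F, x ^ q₀ = x := fun x => by rw [← hσ, h, RingHom.id_apply]
    have hq1 : 1 < q₀ := by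
      have h2 : 1 < Fintype.card F := Fintype.one_lt_card
      rw [hF] at h2
      by_contra hlt
      have h3 : q₀ ≤ 1 := by omega
      have h4 : q₀ ^ 2 ≤ 1 := by
        interval_cases q₀ <;> simp
      omega
    have h5 : Fintype.card F ≤ q₀ := by
      have hne : (Polynomial.X ^ q₀ - Polynomial.X : Polynomial F) ≠ 0 :=
        FiniteField.X_pow_card_sub_X_ne_zero F hq1
      have hroots : (Finset.univ : Finset F) ⊆ (Polynomial.X ^ q₀ - Polynomial.X : Polynomial F).roots.toFinset := by
        intro x _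
        rw [Multiset.mem_toFinset, Polynomial.mem_roots hne]
        simp [h1 x]
      calc Fintype.card F = (Finset.univ : Finset F).card := rfl
        _ ≤ (Polynomial.X ^ q₀ - Polynomial.X : Polynomial F).roots.toFinset.card :=
          Finset.card_le_card hroots
        _ ≤ Multiset.card (Polynomial.X ^ q₀ - Polynomial.X : Polynomial F).roots :=
          Multiset.toFinset_card_le _
        _ ≤ (Polynomial.X ^ q₀ - Polynomial.X : Polynomial F).natDegree := Polynomial.card_roots' _
        _ = q₀ := FiniteField.X_pow_card_sub_X_natDegree_eq F hq1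
    rw [hF] at h5
    nlinarith
  -- the sesquilinear form `B u v = f v u`
  let B : (Fin n → F) →ₛₗ[σ] (Fin n → F) →ₗ[F] F :=
    LinearMap.mk₂'ₛₗ σ (RingHom.id F) (fun u v => f v u)
      (by
        intro u u' v
        show f v (u + u') = f v u + f v u'
        rw [hf.herm v (u + u'), hf.add_left, ← hσ, map_add, hσ, hσ, ← hf.herm, ← hf.herm])
      (by
        intro c u v
        show f v (c • u) = σ c • f v u
        rw [hf.herm v (c • u), hf.smul_left, ← hσ, map_mul, hσ (f u v), ← hf.herm, smul_eq_mul])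
      (by
        intro u v v'
        show f (v + v') u = f v u + f v' u
        rw [hf.add_left])
      (by
        intro c u v
        show f (c • v) u = (RingHom.id F) c • f v u
        rw [hf.smul_left, RingHom.id_apply, smul_eq_mul])
  have hBapp : ∀ u v, B u v = f v u := fun u v => rfl
  have hS : B.IsSymm := by
    constructor
    intro x y
    rw [hBapp, hBapp, hσ, ← hf.herm]
  have hND : B.Nondegenerate := by
    constructor
    · intro x hx
      by_contra hx0
      obtain ⟨⟨y, hy⟩, -⟩ := hf.nondegenerate x hx0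
      exact hy (by rw [← hBapp]; exact hx y)
    · intro y hy
      by_contra hy0
      obtain ⟨-, ⟨x, hx⟩⟩ := hf.nondegenerate y hy0
      exact hx (by rw [← hBapp]; exact hy x)
  obtain ⟨b0, hb0⟩ := Cfsg.Agent.S0755.result σ hσne hσσ B hS hND
  have hfr : Module.finrank F (Fin n → F) = n := Module.finrank_fin_fun F
  let b : Module.Basis (Fin n) F (Fin n → F) := b0.reindex (finCongr hfr)
  have hb : ∀ i j, B (b i) (b j) = if i = j then 1 else 0 := by
    intro i j
    have := hb0 ((finCongr hfr).symm i) ((finCongr hfr).symm j)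
    simp only [b, Module.Basis.reindex_apply]
    rw [this]
    simp only [EmbeddingLike.apply_eq_iff_eq]
  refine ⟨b.equivFun, ?_⟩
  intro u v
  have h1 : f u v = B v u := (hBapp v u).symm
  rw [h1]
  conv_lhs => rw [← b.sum_equivFun v, ← b.sum_equivFun u]
  simp only [map_sum, LinearMap.sum_apply, LinearMap.map_smulₛₗ, LinearMap.smul_apply, map_smul,
    smul_eq_mul, hb]
  unfold Cfsg.hermForm
  refine Finset.sum_congr rfl (fun i _ => ?_)
  rw [Finset.sum_eq_single i]
  · rw [if_pos rfl, mul_one, hσ]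
  · intro j _ hji
    rw [if_neg hji, mul_zero]
  · intro h
    exact absurd (Finset.mem_univ i) h

/-- A2 TRANSFER: a unitary form is the standard one in suitable coordinates. -/
theorem u82_transfer {F : Type*} [Field F] [Fintype F] (q₀ n : ℕ) (hF : Fintype.card F = q₀ ^ 2)
    (f : (Fin n → F) → (Fin n → F) → F) (hf : Cfsg.Geo.IsUnitaryFormPow q₀ f) :
    ∃ P : GL (Fin n) F, ∀ u v, f u v =
      Cfsg.hermForm n F q₀ ((P : Matrix (Fin n) (Fin n) F) *ᵥ u) ((P : Matrix (Fin n) (Fin n) F) *ᵥ v) := by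
  obtain ⟨φ, hφ⟩ := u82a2_equiv q₀ n hF f hf
  let M : Matrix (Fin n) (Fin n) F := LinearMap.toMatrix' (φ : (Fin n → F) →ₗ[F] (Fin n → F))
  let M' : Matrix (Fin n) (Fin n) F :=
    LinearMap.toMatrix' (φ.symm : (Fin n → F) →ₗ[F] (Fin n → F))
  have hMv : ∀ v, M *ᵥ v = φ v := fun v => by
    show (LinearMap.toMatrix' _) *ᵥ v = _
    rw [LinearMap.toMatrix'_mulVec]; rfl
  have h1 : M * M' = 1 := by
    show LinearMap.toMatrix' _ * LinearMap.toMatrix' _ = 1
    rw [← LinearMap.toMatrix'_comp, LinearEquiv.comp_coe, LinearEquiv.symm_trans_self,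
      LinearEquiv.refl_toLinearMap, LinearMap.toMatrix'_id]
  have h2 : M' * M = 1 := by
    show LinearMap.toMatrix' _ * LinearMap.toMatrix' _ = 1
    rw [← LinearMap.toMatrix'_comp, LinearEquiv.comp_coe, LinearEquiv.self_trans_symm,
      LinearEquiv.refl_toLinearMap, LinearMap.toMatrix'_id]
  refine ⟨⟨M, M', h1, h2⟩, fun u v => ?_⟩
  show f u v = Cfsg.hermForm n F q₀ (M *ᵥ u) (M *ᵥ v)
  rw [hMv, hMv, hφ]

end Cfsg.Agent.Lib.Helper16.U82
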