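import Mathlib
import Cfsg.Agent.Lib.Helper16.U82.Defs
import Cfsg.Agent.Lib.Lead.Unitary
import Cfsg.Agent.Lib.Lead.HermIso
import Cfsg.Agent.S0755

/-!
# U82 row A3 (helper16): a similarity of the standard hermitian form is a scalar times an isometry.
-/

set_option autoImplicit false

namespace Cfsg.Agent.Lib.Helper16.U82

open Matrix Cfsg.Agent.Lib.Helper16
open scoped MatrixGroups

/-- `σ = (· ^ q₀)` is not the identity -/
theorem u82a3_frob_ne {F : Type*} [Field F] [Fintype F] (q₀ : ℕ) (hF : Fintype.card F = q₀ ^ 2)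
    (σ : F →+* F) (hσ : ∀ x, σ x = x ^ q₀) : σ ≠ RingHom.id F := by
  classical
  intro h
  have h1 : ∀ x : F, x ^ q₀ = x := fun x => by rw [← hσ, h, RingHom.id_apply]
  have hq1 : 1 < q₀ := by
    have h2 : 1 < Fintype.card F := Fintype.one_lt_card
    rw [hF] at h2
    by_contra hlt
    have h3 : q₀ ≤ 1 := by omega
    have h4 : q₀ ^ 2 ≤ 1 := by
      interval_cases q₀ <;> simp
    omega
  have h5 : Fintype.card F ≤ q₀ := by
    have hne : (Polynomial.X ^ q₀ - Polynomial.X : Polynomial F) ≠ 0 :=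
      FiniteField.X_pow_card_sub_X_ne_zero F hq1
    have hroots : (Finset.univ : Finset F) ⊆
        (Polynomial.X ^ q₀ - Polynomial.X : Polynomial F).roots.toFinset := by
      intro x _
      rw [Multiset.mem_toFinset, Polynomial.mem_roots hne]
      simp [h1 x]
    calc Fintype.card F = (Finset.univ : Finset F).card := rfl
      _ ≤ (Polynomial.X ^ q₀ - Polynomial.X : Polynomial F).roots.toFinset.card :=
        Finset.card_le_card hroots
      _ ≤ Multiset.card (Polynomial.X ^ q₀ - Polynomial.X : Polynomial F).roots :=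
        Multiset.toFinset_card_le _
      _ ≤ (Polynomial.X ^ q₀ - Polynomial.X : Polynomial F).natDegree := Polynomial.card_roots' _
      _ = q₀ := FiniteField.X_pow_card_sub_X_natDegree_eq F hq1
  rw [hF] at h5
  nlinarith

/-- scalar multiples in `GL` -/
theorem u82a3_smul_gl {F : Type*} [Field F] {n : ℕ} (e : Fˣ) (g : GL (Fin n) F) :
    ∃ B : GL (Fin n) F, (B : Matrix (Fin n) (Fin n) F) = (e : F) • (g : Matrix (Fin n) (Fin n) F) := by
  refine ⟨⟨(e : F) • (g : Matrix (Fin n) (Fin n) F),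
    ((e⁻¹ : Fˣ) : F) • ((g⁻¹ : GL (Fin n) F) : Matrix (Fin n) (Fin n) F), ?_, ?_⟩, rfl⟩
  · rw [Matrix.smul_mul, Matrix.mul_smul, smul_smul, ← Units.val_mul, mul_inv_cancel,
      Units.val_one, one_smul, ← Matrix.GeneralLinearGroup.coe_mul, mul_inv_cancel]
    rfl
  · rw [Matrix.smul_mul, Matrix.mul_smul, smul_smul, ← Units.val_mul, inv_mul_cancel,
      Units.val_one, one_smul, ← Matrix.GeneralLinearGroup.coe_mul, inv_mul_cancel]
    rfl

/-- A3 SIMSTD: a similarity of the standard form is a scalar times an isometry. -/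
theorem u82_sim_std {F : Type*} [Field F] [Fintype F] (q₀ n : ℕ) (hF : Fintype.card F = q₀ ^ 2)
    (hn : 1 ≤ n) (g : GL (Fin n) F) (hg : g ∈ Cfsg.Geo.similarityGroup (Cfsg.hermForm n F q₀)) :
    ∃ (e : Fˣ) (B : GL (Fin n) F), B ∈ Cfsg.GU n F q₀ ∧
      (g : Matrix (Fin n) (Fin n) F) = (e : F) • (B : Matrix (Fin n) (Fin n) F) := by
  classical
  obtain ⟨c, hc⟩ := hg
  obtain ⟨σ, hσ⟩ := Cfsg.Agent.Lib.Lead.exists_frob hF
  have hσσ : ∀ x, σ (σ x) = x := Cfsg.Agent.Lib.Lead.frob_frob hF σ hσ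
  have hσne := u82a3_frob_ne q₀ hF σ hσ
  -- the multiplier is fixed by `σ`
  let e0 : Fin n → F := Pi.single ⟨0, hn⟩ 1
  have he0 : Cfsg.hermForm n F q₀ e0 e0 = 1 := by
    unfold Cfsg.hermForm
    rw [Finset.sum_eq_single ⟨0, hn⟩]
    · simp [e0]
    · intro j _ hj
      simp [e0, Pi.single_eq_of_ne hj]
    · intro h
      exact absurd (Finset.mem_univ _) h
  have hcfix : σ (c : F) = (c : F) := by
    have h1 := hc e0 e0
    rw [he0, mul_one] at h1
    rw [hσ, ← h1]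
    exact Cfsg.Agent.Lib.Lead.herm_self_fixed hF n _
  obtain ⟨a, ha⟩ := Cfsg.Agent.S0755.norm_surj σ hσne hσσ (c : F) hcfix
  have ha0 : a ≠ 0 := by
    rintro rfl
    rw [mul_zero] at ha
    exact c.ne_zero ha.symm
  let e : Fˣ := Units.mk0 a ha0
  obtain ⟨B, hB⟩ := u82a3_smul_gl e⁻¹ g
  refine ⟨e, B, ?_, ?_⟩
  · intro u v
    show Cfsg.hermForm n F q₀ ((B : Matrix (Fin n) (Fin n) F) *ᵥ u)
      ((B : Matrix (Fin n) (Fin n) F) *ᵥ v) = Cfsg.hermForm n F q₀ u v
    rw [hB, Matrix.smul_mulVec, Matrix.smul_mulVec, Cfsg.Agent.Lib.Lead.HI.herm_smul_left,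
      Cfsg.Agent.Lib.Lead.HI.herm_smul_right, hc u v, ← ha, hσ]
    have he : ((e⁻¹ : Fˣ) : F) = a⁻¹ := by
      rw [Units.val_inv_eq_inv_val]
      rfl
    rw [he]
    calc a⁻¹ * ((a⁻¹) ^ q₀ * (a ^ q₀ * a * Cfsg.hermForm n F q₀ u v))
        = (a⁻¹ * a) * ((a⁻¹) ^ q₀ * a ^ q₀) * Cfsg.hermForm n F q₀ u v := by ring
      _ = Cfsg.hermForm n F q₀ u v := by
        rw [inv_mul_cancel₀ ha0, ← mul_pow, inv_mul_cancel₀ ha0, one_pow, one_mul, one_mul]
  · rw [hB, smul_smul, ← Units.val_mul, mul_inv_cancel, Units.val_one, one_smul]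

end Cfsg.Agent.Lib.Helper16.U82
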