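import Mathlib
import Cfsg.Agent.Lib.Helper16.U82.Defs
import Cfsg.Agent.Lib.Helper16.U82A2
import Cfsg.Agent.Lib.Helper16.U82A3

/-!
# U82 rows A4, A5 (helper16): conjugate into `H` iff a scalar times a conjugate of an isometry.
-/

set_option autoImplicit false

namespace Cfsg.Agent.Lib.Helper16.U82

open Matrix Cfsg.Agent.Lib.Helper16
open scoped MatrixGroups

/-- A4 CRITOUT -/
theorem u82_crit_out {F : Type*} [Field F] [Fintype F] (q₀ n : ℕ) (hF : Fintype.card F = q₀ ^ 2)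
    (hn : 1 ≤ n) (f : (Fin n → F) → (Fin n → F) → F) (hf : Cfsg.Geo.IsUnitaryFormPow q₀ f)
    (x : GL (Fin n) F) (h : ConjInGL f x) :
    ∃ (e : Fˣ) (B k : GL (Fin n) F), B ∈ Cfsg.GU n F q₀ ∧
      (x : Matrix (Fin n) (Fin n) F) =
        (e : F) • ((k * B * k⁻¹ : GL (Fin n) F) : Matrix (Fin n) (Fin n) F) := by
  obtain ⟨g, c, hc⟩ := h
  obtain ⟨P, hP⟩ := u82_transfer q₀ n hF f hf
  set y : GL (Fin n) F := g⁻¹ * x * g with hy
  set y' : GL (Fin n) F := P * y * P⁻¹ with hy'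
  have hy'mem : y' ∈ Cfsg.Geo.similarityGroup (Cfsg.hermForm n F q₀) := by
    refine ⟨c, fun u v => ?_⟩
    have h1 : ∀ w : Fin n → F, (y' : Matrix (Fin n) (Fin n) F) *ᵥ w =
        (P : Matrix (Fin n) (Fin n) F) *ᵥ ((y : Matrix (Fin n) (Fin n) F) *ᵥ
          (((P⁻¹ : GL (Fin n) F) : Matrix (Fin n) (Fin n) F) *ᵥ w)) := by
      intro w
      rw [hy', Matrix.GeneralLinearGroup.coe_mul, Matrix.GeneralLinearGroup.coe_mul,
        Matrix.mulVec_mulVec, Matrix.mulVec_mulVec, Matrix.mul_assoc]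
    have h2 : ∀ w : Fin n → F, (P : Matrix (Fin n) (Fin n) F) *ᵥ
        (((P⁻¹ : GL (Fin n) F) : Matrix (Fin n) (Fin n) F) *ᵥ w) = w := by
      intro w
      rw [Matrix.mulVec_mulVec, ← Matrix.GeneralLinearGroup.coe_mul, mul_inv_cancel]
      simp
    rw [h1, h1, ← hP, hc, hP, h2, h2]
  obtain ⟨e, B, hB, heB⟩ := u82_sim_std q₀ n hF hn y' hy'mem
  refine ⟨e, B, g * P⁻¹, hB, ?_⟩
  have hx : x = (g * P⁻¹) * y' * (g * P⁻¹)⁻¹ := by
    rw [hy', hy]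
    group
  conv_lhs => rw [hx]
  rw [Matrix.GeneralLinearGroup.coe_mul, Matrix.GeneralLinearGroup.coe_mul, heB]
  simp only [Matrix.GeneralLinearGroup.coe_mul, Matrix.mul_smul, Matrix.smul_mul]

/-- A5 CRITIN -/
theorem u82_crit_in {F : Type*} [Field F] [Fintype F] (q₀ n : ℕ) (hF : Fintype.card F = q₀ ^ 2)
    (f : (Fin n → F) → (Fin n → F) → F) (hf : Cfsg.Geo.IsUnitaryFormPow q₀ f)
    (x : GL (Fin n) F) (e : Fˣ) (B k : GL (Fin n) F) (hB : B ∈ Cfsg.GU n F q₀)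
    (hx : (x : Matrix (Fin n) (Fin n) F) =
      (e : F) • ((k * B * k⁻¹ : GL (Fin n) F) : Matrix (Fin n) (Fin n) F)) :
    ConjInGL f x := by
  obtain ⟨P, hP⟩ := u82_transfer q₀ n hF f hf
  obtain ⟨s, hs⟩ := u82a3_smul_gl e B
  have hxs : x = k * s * k⁻¹ := by
    apply Units.ext
    show (x : Matrix (Fin n) (Fin n) F) = ((k * s * k⁻¹ : GL (Fin n) F) : Matrix (Fin n) (Fin n) F)
    rw [hx]
    simp only [Matrix.GeneralLinearGroup.coe_mul, hs, Matrix.mul_smul, Matrix.smul_mul]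
  refine ⟨k * P, ?_⟩
  have hconj : (k * P)⁻¹ * x * (k * P) = P⁻¹ * s * P := by
    rw [hxs]
    group
  rw [hconj]
  refine ⟨e * e ^ q₀, fun u v => ?_⟩
  have h1 : ∀ w : Fin n → F, (P : Matrix (Fin n) (Fin n) F) *ᵥ
      (((P⁻¹ * s * P : GL (Fin n) F) : Matrix (Fin n) (Fin n) F) *ᵥ w) =
      (e : F) • ((B : Matrix (Fin n) (Fin n) F) *ᵥ ((P : Matrix (Fin n) (Fin n) F) *ᵥ w)) := by
    intro w
    rw [Matrix.mulVec_mulVec, ← Matrix.GeneralLinearGroup.coe_mul]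
    have : P * (P⁻¹ * s * P) = s * P := by group
    rw [this, Matrix.GeneralLinearGroup.coe_mul, hs, ← Matrix.mulVec_mulVec, Matrix.smul_mulVec]
  have hB' : ∀ u v : Fin n → F, Cfsg.hermForm n F q₀ ((B : Matrix (Fin n) (Fin n) F) *ᵥ u)
      ((B : Matrix (Fin n) (Fin n) F) *ᵥ v) = Cfsg.hermForm n F q₀ u v := hB
  rw [hP, h1, h1, Cfsg.Agent.Lib.Lead.HI.herm_smul_left, Cfsg.Agent.Lib.Lead.HI.herm_smul_right,
    hB', ← hP]
  rw [Units.val_mul, Units.val_pow_eq_pow_val, mul_assoc]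

end Cfsg.Agent.Lib.Helper16.U82
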