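import Mathlib
import Cfsg.Agent.Lib.Helper16.U82.Defs
import Cfsg.Agent.Lib.Helper16.U82A45
import Cfsg.Agent.Lib.Helper16.GUDual2

/-!
# U82 rows A6, A7, A9 (helper16)
-/

set_option autoImplicit false

namespace Cfsg.Agent.Lib.Helper16.U82

open Matrix Cfsg.Agent.Lib.Helper16
open scoped MatrixGroups

/-- A6 CRITSTAR -/
theorem u82_crit_in_star {F : Type*} [Field F] [Fintype F] (q₀ n : ℕ)
    (hF : Fintype.card F = q₀ ^ 2)
    (f : (Fin n → F) → (Fin n → F) → F) (hf : Cfsg.Geo.IsUnitaryFormPow q₀ f)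
    (x A : GL (Fin n) F) (e : Fˣ)
    (hA : (A : Matrix (Fin n) (Fin n) F) = (e : F) • (x : Matrix (Fin n) (Fin n) F))
    (h : IsConj (A : Matrix (Fin n) (Fin n) F) (ustar q₀ (A : Matrix (Fin n) (Fin n) F))) :
    ConjInGL f x := by
  obtain ⟨B, hAB⟩ := (Cfsg.Agent.Lib.Helper16.FCR.gu_conj_iff_self_dual hF A).mpr h
  obtain ⟨k, hk⟩ := isConj_iff.mp hAB
  -- hk : k * A * k⁻¹ = B
  have hAk : A = k⁻¹ * (B : GL (Fin n) F) * (k⁻¹)⁻¹ := by
    rw [← hk]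
    group
  refine u82_crit_in q₀ n hF f hf x e⁻¹ (B : GL (Fin n) F) k⁻¹ B.2 ?_
  rw [← hAk, hA, smul_smul, ← Units.val_mul, inv_mul_cancel, Units.val_one, one_smul]

/-- A7 SLADJ -/
theorem u82_sl_of_gl {F : Type*} [Field F] {n : ℕ}
    (f : (Fin n → F) → (Fin n → F) → F) (x : GL (Fin n) F)
    (hcent : ∀ a : F, a ≠ 0 → ∃ C : Matrix (Fin n) (Fin n) F,
      C * (x : Matrix (Fin n) (Fin n) F) = (x : Matrix (Fin n) (Fin n) F) * C ∧ C.det = a)
    (h : ConjInGL f x) : ConjIn f x := by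
  obtain ⟨g, hg⟩ := h
  have hdg : (g : Matrix (Fin n) (Fin n) F).det ≠ 0 := by
    have := (Matrix.isUnits_det_units g)
    exact this.ne_zero
  obtain ⟨C, hCx, hCdet⟩ := hcent ((g : Matrix (Fin n) (Fin n) F).det)⁻¹ (inv_ne_zero hdg)
  have hCunit : IsUnit C.det := by
    rw [hCdet]
    exact isUnit_iff_ne_zero.mpr (inv_ne_zero hdg)
  let Cg : GL (Fin n) F := Matrix.nonsingInvUnit C hCunit
  have hCgval : (Cg : Matrix (Fin n) (Fin n) F) = C := rfl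
  have hcomm : Cg * x = x * Cg := by
    apply Units.ext
    show (Cg : Matrix (Fin n) (Fin n) F) * (x : Matrix (Fin n) (Fin n) F) =
      (x : Matrix (Fin n) (Fin n) F) * (Cg : Matrix (Fin n) (Fin n) F)
    rw [hCgval, hCx]
  refine ⟨Cg * g, ?_, ?_⟩
  · show Cg * g ∈ (Matrix.GeneralLinearGroup.det : GL (Fin n) F →* Fˣ).ker
    rw [MonoidHom.mem_ker]
    apply Units.ext
    rw [Matrix.GeneralLinearGroup.val_det_apply, Matrix.GeneralLinearGroup.coe_mul,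
      Matrix.det_mul, hCgval, hCdet, Units.val_one, inv_mul_cancel₀ hdg]
  · have h1 : (Cg * g)⁻¹ * x * (Cg * g) = g⁻¹ * x * g := by
      calc (Cg * g)⁻¹ * x * (Cg * g) = g⁻¹ * (Cg⁻¹ * (x * Cg)) * g := by group
        _ = g⁻¹ * (Cg⁻¹ * (Cg * x)) * g := by rw [hcomm]
        _ = g⁻¹ * x * g := by group
    rw [h1]
    exact hg

/-- `ustar` is multiplicative -/
theorem u82a9_ustar_mul {F : Type*} [Field F] [Fintype F] (q₀ n : ℕ) (hF : Fintype.card F = q₀ ^ 2)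
    (A B : Matrix (Fin n) (Fin n) F) : ustar q₀ (A * B) = ustar q₀ A * ustar q₀ B := by
  obtain ⟨σ, hσ⟩ := Cfsg.Agent.Lib.Lead.exists_frob hF
  have hmap : ∀ M : Matrix (Fin n) (Fin n) F, M.map (fun a : F => a ^ q₀) = M.map σ := by
    intro M
    ext i j
    simp [hσ]
  unfold ustar
  rw [hmap, hmap, hmap, Matrix.map_mul, Matrix.transpose_mul, Matrix.mul_inv_rev]

theorem u82a9_ustar_one {F : Type*} [Field F] [Fintype F] (q₀ n : ℕ)
    (hF : Fintype.card F = q₀ ^ 2) : ustar q₀ (1 : Matrix (Fin n) (Fin n) F) = 1 := by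
  obtain ⟨σ, hσ⟩ := Cfsg.Agent.Lib.Lead.exists_frob hF
  have hmap : ∀ M : Matrix (Fin n) (Fin n) F, M.map (fun a : F => a ^ q₀) = M.map σ := by
    intro M
    ext i j
    simp [hσ]
  unfold ustar
  rw [hmap, Matrix.map_one σ (map_zero σ) (map_one σ), Matrix.transpose_one, inv_one]

/-- A9 STARCONJ -/
theorem u82_star_conj {F : Type*} [Field F] [Fintype F] (q₀ n : ℕ) (hF : Fintype.card F = q₀ ^ 2)
    (A B : Matrix (Fin n) (Fin n) F) (hA : IsUnit A.det) (h : IsConj A B) :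
    IsConj (ustar q₀ A) (ustar q₀ B) := by
  obtain ⟨c, hc⟩ := h
  have hc' : (c : Matrix (Fin n) (Fin n) F) * A = B * (c : Matrix (Fin n) (Fin n) F) := hc
  have h1 : ustar q₀ (c : Matrix (Fin n) (Fin n) F) * ustar q₀ ((c⁻¹ : (Matrix (Fin n) (Fin n) F)ˣ) : Matrix (Fin n) (Fin n) F) = 1 := by
    rw [← u82a9_ustar_mul q₀ n hF, Units.mul_inv, u82a9_ustar_one q₀ n hF]
  have h2 : ustar q₀ ((c⁻¹ : (Matrix (Fin n) (Fin n) F)ˣ) : Matrix (Fin n) (Fin n) F) * ustar q₀ (c : Matrix (Fin n) (Fin n) F) = 1 := by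
    rw [← u82a9_ustar_mul q₀ n hF, Units.inv_mul, u82a9_ustar_one q₀ n hF]
  refine ⟨⟨ustar q₀ (c : Matrix (Fin n) (Fin n) F), ustar q₀ ((c⁻¹ : (Matrix (Fin n) (Fin n) F)ˣ) : Matrix (Fin n) (Fin n) F), h1, h2⟩, ?_⟩
  show ustar q₀ (c : Matrix (Fin n) (Fin n) F) * ustar q₀ A = ustar q₀ B * ustar q₀ (c : Matrix (Fin n) (Fin n) F)
  rw [← u82a9_ustar_mul q₀ n hF, ← u82a9_ustar_mul q₀ n hF, hc']

end Cfsg.Agent.Lib.Helper16.U82
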