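import Mathlib
import Cfsg.Agent.Lib.Helper16.U82.Defs
import Cfsg.Agent.Lib.Helper16.U82A679
import Cfsg.Agent.Lib.helper6.SSCONJDET

/-!
# U82 rows A8, C1, E0, E6a (helper16)
-/

set_option autoImplicit false

namespace Cfsg.Agent.Lib.Helper16.U82

open Matrix Cfsg.Agent.Lib.Helper16
open scoped MatrixGroups

/-- A8 SLADJSS -/
theorem u82_sl_of_gl_ss {F : Type*} [Field F] [Fintype F] {n : ℕ} (hn : 1 ≤ n)
    (f : (Fin n → F) → (Fin n → F) → F) (x : GL (Fin n) F)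
    (hss : Module.End.IsSemisimple (Matrix.toLin' (x : Matrix (Fin n) (Fin n) F)))
    (h : ConjInGL f x) : ConjIn f x := by
  haveI : Nonempty (Fin n) := ⟨⟨0, hn⟩⟩
  exact u82_sl_of_gl f x
    (fun a ha => Cfsg.Agent.Lib.helper6.SSCONJ.ssconjdet_matrix _ hss a ha) h

/-- C1 GULE -/
theorem u82_gu_le {F : Type*} [Field F] [Fintype F] (q₀ n : ℕ) (hF : Fintype.card F = q₀ ^ 2)
    (f : (Fin n → F) → (Fin n → F) → F) (hf : Cfsg.Geo.IsUnitaryFormPow q₀ f) :
    ∃ K : Subgroup (GL (Fin n) F), K ≤ Cfsg.Geo.similarityGroup f ∧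
      Nat.card K = Nat.card (Cfsg.GU n F q₀) := by
  obtain ⟨P, hP⟩ := u82_transfer q₀ n hF f hf
  refine ⟨(Cfsg.GU n F q₀).map (MulAut.conj P⁻¹).toMonoidHom, ?_, ?_⟩
  · rintro y ⟨B, hB, rfl⟩
    refine ⟨1, fun u v => ?_⟩
    have hB' : ∀ u v : Fin n → F, Cfsg.hermForm n F q₀ ((B : Matrix (Fin n) (Fin n) F) *ᵥ u)
        ((B : Matrix (Fin n) (Fin n) F) *ᵥ v) = Cfsg.hermForm n F q₀ u v := hB
    have h1 : ∀ w : Fin n → F, (P : Matrix (Fin n) (Fin n) F) *ᵥ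
        ((((MulAut.conj P⁻¹).toMonoidHom B : GL (Fin n) F) : Matrix (Fin n) (Fin n) F) *ᵥ w) =
        (B : Matrix (Fin n) (Fin n) F) *ᵥ ((P : Matrix (Fin n) (Fin n) F) *ᵥ w) := by
      intro w
      rw [Matrix.mulVec_mulVec, Matrix.mulVec_mulVec, ← Matrix.GeneralLinearGroup.coe_mul,
        ← Matrix.GeneralLinearGroup.coe_mul]
      congr 2
      show P * (P⁻¹ * B * P⁻¹⁻¹) = B * P
      group
    rw [hP, h1, h1, hB', ← hP, Units.val_one, one_mul]
  · exact Subgroup.card_map_of_injective (MulAut.conj P⁻¹).injective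

/-- E0 ZETA -/
theorem u82_zeta {F : Type*} [Field F] [Fintype F] (q₀ r : ℕ) (hF : Fintype.card F = q₀ ^ 2)
    (hr : r.Prime) (h : r ∣ q₀ - 1) : ∃ ζ : F, IsPrimitiveRoot ζ r ∧ ζ ^ q₀ = ζ := by
  classical
  haveI : Fact r.Prime := ⟨hr⟩
  have hq1 : 1 ≤ q₀ := by
    by_contra hlt
    have : q₀ = 0 := by omega
    rw [this] at hF
    have : 0 < Fintype.card F := Fintype.card_pos
    omega
  have hcard : Fintype.card Fˣ = q₀ ^ 2 - 1 := by
    rw [Fintype.card_units, hF]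
  have hdvd : r ∣ Fintype.card Fˣ := by
    rw [hcard]
    have : q₀ ^ 2 - 1 = (q₀ - 1) * (q₀ + 1) := by
      obtain ⟨m, rfl⟩ : ∃ m, q₀ = m + 1 := ⟨q₀ - 1, by omega⟩
      simp only [Nat.add_sub_cancel]
      ring_nf
      omega
    rw [this]
    exact dvd_mul_of_dvd_left h _
  obtain ⟨g, hg⟩ := exists_prime_orderOf_dvd_card r hdvd
  refine ⟨(g : F), ?_, ?_⟩
  · have h1 : orderOf (g : F) = r := by rw [orderOf_units, hg]
    rw [← h1]
    exact IsPrimitiveRoot.orderOf _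
  · have h1 : (g : F) ^ r = 1 := by
      have := pow_orderOf_eq_one g
      rw [hg] at this
      have h2 := congrArg (fun u : Fˣ => (u : F)) this
      simpa using h2
    obtain ⟨m, hm⟩ := h
    have h3 : q₀ = r * m + 1 := by omega
    rw [h3, pow_succ, pow_mul, h1, one_pow, one_mul]

/-- E6a DETDG -/
theorem u82_det_Dg {F : Type*} [Field F] (n r : ℕ) [NeZero r] (ζ : F) (hζ : ζ ^ r = 1)
    (a : Fin n → ZMod r) : (PGLR.Dg ζ a).det = PGLR.ev ζ (∑ i, a i) := by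
  classical
  unfold PGLR.Dg
  rw [Matrix.det_diagonal]
  have key : ∀ s : Finset (Fin n), ∏ i ∈ s, PGLR.ev ζ (a i) = PGLR.ev ζ (∑ i ∈ s, a i) := by
    intro s
    induction s using Finset.induction_on with
    | empty => simp [PGLR.ev_zero]
    | insert i s hi ih =>
      rw [Finset.prod_insert hi, Finset.sum_insert hi, ih, PGLR.ev_add ζ hζ]
  exact key Finset.univ

end Cfsg.Agent.Lib.Helper16.U82
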