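import Mathlib
import Cfsg.Agent.Lib.Helper16.U82.Defs
import Cfsg.Agent.Lib.Helper16.U82Misc
import Cfsg.Agent.Lib.helper7.U82C2
import Cfsg.Agent.S0277

/-!
# U82 row C3 (helper16): a prime `r ∤ q₀` dividing the index divides some `q₀^k + (-1)^k`.
-/

set_option autoImplicit false

namespace Cfsg.Agent.Lib.Helper16.U82

open Matrix Cfsg.Agent.Lib.Helper16
open scoped MatrixGroups

/-- for a normal subgroup `S` of a finite group, `|S : H ⊓ S|` divides `|G : H|` -/
theorem u82c3_relIndex_dvd {G : Type*} [Group G] [Finite G] (H S : Subgroup G) [S.Normal] :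
    H.relIndex S ∣ H.index := by
  have e1 : H.relIndex S * S.index = (H ⊓ S).index := by
    have := Subgroup.relIndex_inf_mul_relIndex H S (⊤ : Subgroup G)
    rwa [inf_top_eq, Subgroup.relIndex_top_right, Subgroup.relIndex_top_right] at this
  have e2 : S.relIndex H * H.index = (H ⊓ S).index := by
    have := Subgroup.relIndex_inf_mul_relIndex S H (⊤ : Subgroup G)
    rwa [inf_top_eq, Subgroup.relIndex_top_right, Subgroup.relIndex_top_right, inf_comm] at this
  have e3 : S.index = S.relIndex H * (H.map (QuotientGroup.mk' S)).index := by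
    have h1 := Subgroup.card_mul_index (H.map (QuotientGroup.mk' S))
    have h2 := Subgroup.relIndex_ker (QuotientGroup.mk' S) (K := H)
    rw [QuotientGroup.ker_mk'] at h2
    rw [h2, h1, Subgroup.index_eq_card]
  have hne : S.relIndex H ≠ 0 := by
    unfold Subgroup.relIndex
    exact Subgroup.index_ne_zero_of_finite
  have e4 : S.relIndex H * (H.relIndex S * (H.map (QuotientGroup.mk' S)).index) =
      S.relIndex H * H.index := by
    rw [e2, ← e1, e3]
    ring
  have e5 := Nat.eq_of_mul_eq_mul_left (Nat.pos_of_ne_zero hne) e4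
  exact ⟨_, e5.symm⟩

/-- C3 INDEX -/
theorem u82_index {F : Type*} [Field F] [Fintype F] (q₀ n : ℕ) (hF : Fintype.card F = q₀ ^ 2)
    (f : (Fin n → F) → (Fin n → F) → F) (hf : Cfsg.Geo.IsUnitaryFormPow q₀ f)
    (r : ℕ) (hr : r.Prime) (hrq : ¬ r ∣ q₀)
    (h : r ∣ (Cfsg.Geo.similarityGroup f).relIndex (Cfsg.Geo.specialLinear (Fin n) F)) :
    ∃ k, 1 ≤ k ∧ k ≤ n ∧ r ∣ (if Even k then q₀ ^ k + 1 else q₀ ^ k - 1) := by
  classical
  have hq2 : 2 ≤ q₀ := by
    have h1 : 1 < Fintype.card F := Fintype.one_lt_card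
    rw [hF] at h1
    by_contra hlt
    have h3 : q₀ ≤ 1 := by omega
    have h4 : q₀ ^ 2 ≤ 1 := by
      interval_cases q₀ <;> simp
    omega
  obtain ⟨K, hKH, hKcard⟩ := u82_gu_le q₀ n hF f hf
  haveI : (Cfsg.Geo.specialLinear (Fin n) F).Normal := by
    unfold Cfsg.Geo.specialLinear
    infer_instance
  have h1 : r ∣ (Cfsg.Geo.similarityGroup f).index :=
    h.trans (u82c3_relIndex_dvd _ _)
  have h2 : r ∣ K.index := h1.trans (Subgroup.index_dvd_of_le hKH)
  have h3 := Subgroup.card_mul_index K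
  rw [hKcard, Cfsg.Agent.S0277.result hF n, Matrix.card_GL_field, hF, u82_index_arith q₀ n hq2] at h3
  have hA : 0 < q₀ ^ (n * (n - 1) / 2) * ∏ i ∈ Finset.range n,
      (if Even i then q₀ ^ (i + 1) + 1 else q₀ ^ (i + 1) - 1) := by
    apply Nat.mul_pos (by positivity)
    apply Finset.prod_pos
    intro i _
    have : 2 ≤ q₀ ^ (i + 1) := by
      calc 2 ≤ q₀ := hq2
        _ = q₀ ^ 1 := (pow_one _).symm
        _ ≤ q₀ ^ (i + 1) := Nat.pow_le_pow_right (by omega) (by omega)
    split_ifs <;> omega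
  have h4 := Nat.eq_of_mul_eq_mul_left hA h3
  rw [h4] at h2
  have h5 : r ∣ ∏ i ∈ Finset.range n, (if Even i then q₀ ^ (i + 1) - 1 else q₀ ^ (i + 1) + 1) := by
    rcases (Nat.Prime.dvd_mul hr).mp h2 with h6 | h6
    · exact absurd (hr.dvd_of_dvd_pow h6) hrq
    · exact h6
  obtain ⟨i, hi, hri⟩ := (Prime.dvd_finsetProd_iff hr.prime _).mp h5
  rw [Finset.mem_range] at hi
  refine ⟨i + 1, by omega, by omega, ?_⟩
  by_cases hev : Even i
  · rw [if_pos hev] at hri
    have : ¬ Even (i + 1) := by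
      rw [Nat.even_add_one]
      exact not_not.mpr hev
    rw [if_neg this]
    exact hri
  · rw [if_neg hev] at hri
    have : Even (i + 1) := by
      rw [Nat.even_add_one]
      exact hev
    rw [if_pos this]
    exact hri

end Cfsg.Agent.Lib.Helper16.U82
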