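import Mathlib
import Cfsg.Agent.Lib.Helper16.U82.Defs

/-!
# U82 row D1 (helper16): an element of order `r` of `SL_n(F)` moving at most an `i`-space.
-/

set_option autoImplicit false

namespace Cfsg.Agent.Lib.Helper16.U82

open Matrix Cfsg.Agent.Lib.Helper16
open scoped MatrixGroups

/-- the block embedding `Y ↦ diag(Y, 1)` -/
noncomputable def u82d1_emb {F : Type*} [Field F] (i m : ℕ) (Y : Matrix (Fin i) (Fin i) F) :
    Matrix (Fin (i + m)) (Fin (i + m)) F :=
  Matrix.reindex finSumFinEquiv finSumFinEquiv (Matrix.fromBlocks Y 0 0 (1 : Matrix (Fin m) (Fin m) F))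

theorem u82d1_emb_mul {F : Type*} [Field F] (i m : ℕ) (Y Y' : Matrix (Fin i) (Fin i) F) :
    u82d1_emb i m (Y * Y') = u82d1_emb i m Y * u82d1_emb i m Y' := by
  unfold u82d1_emb
  rw [Matrix.reindex_apply, Matrix.reindex_apply, Matrix.reindex_apply,
    Matrix.submatrix_mul_equiv, Matrix.fromBlocks_multiply]
  simp

theorem u82d1_emb_one {F : Type*} [Field F] (i m : ℕ) :
    u82d1_emb i m (1 : Matrix (Fin i) (Fin i) F) = 1 := by
  unfold u82d1_emb
  rw [Matrix.fromBlocks_one, Matrix.reindex_apply, Matrix.submatrix_one_equiv]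

theorem u82d1_emb_det {F : Type*} [Field F] (i m : ℕ) (Y : Matrix (Fin i) (Fin i) F) :
    (u82d1_emb i m Y).det = Y.det := by
  unfold u82d1_emb
  rw [Matrix.reindex_apply, Matrix.det_submatrix_equiv_self, Matrix.det_fromBlocks_zero₂₁,
    Matrix.det_one, mul_one]

theorem u82d1_emb_inj {F : Type*} [Field F] (i m : ℕ) (Y Y' : Matrix (Fin i) (Fin i) F)
    (h : u82d1_emb i m Y = u82d1_emb i m Y') : Y = Y' := by
  unfold u82d1_emb at h
  have h1 := (Matrix.reindex finSumFinEquiv finSumFinEquiv).injective h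
  exact (Matrix.fromBlocks_inj.mp h1).1

theorem u82d1_emb_rank {F : Type*} [Field F] (i m : ℕ) (Y : Matrix (Fin i) (Fin i) F) :
    (u82d1_emb i m Y - 1).rank ≤ i := by
  have h1 : u82d1_emb i m Y - 1 = Matrix.reindex finSumFinEquiv finSumFinEquiv
      (Matrix.fromBlocks (Y - 1) 0 0 (0 : Matrix (Fin m) (Fin m) F)) := by
    have h0 : (1 : Matrix (Fin (i + m)) (Fin (i + m)) F) = u82d1_emb i m 1 :=
      (u82d1_emb_one i m).symm
    rw [h0]
    unfold u82d1_emb
    ext a b
    simp only [Matrix.reindex_apply, Matrix.submatrix_apply, Matrix.sub_apply]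
    generalize (finSumFinEquiv.symm a : Fin i ⊕ Fin m) = s
    generalize (finSumFinEquiv.symm b : Fin i ⊕ Fin m) = t
    rcases s with s | s <;> rcases t with t | t <;> simp [Matrix.sub_apply]
  rw [h1, Matrix.rank_reindex]
  have h2 : Matrix.fromBlocks (Y - 1) 0 0 (0 : Matrix (Fin m) (Fin m) F) =
      (Matrix.fromRows (Y - 1) (0 : Matrix (Fin m) (Fin i) F)) *
        (Matrix.fromCols (1 : Matrix (Fin i) (Fin i) F) (0 : Matrix (Fin i) (Fin m) F)) := by
    ext a b
    rcases a with a | a <;> rcases b with b | b <;>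
      simp [Matrix.mul_apply, Matrix.fromRows_apply_inl, Matrix.fromRows_apply_inr,
        Matrix.fromCols_apply_inl, Matrix.fromCols_apply_inr, Matrix.one_apply, Matrix.sub_apply]
  rw [h2]
  refine (Matrix.rank_mul_le_left _ _).trans ?_
  exact (Matrix.rank_le_card_width _).trans (by simp)

/-- D1 ELT -/
theorem u82_elt {F : Type*} [Field F] [Fintype F] (n i r : ℕ) (hr : r.Prime) (hi : 1 ≤ i)
    (hin : i ≤ n) (h1 : r ∣ Fintype.card F ^ i - 1) (h2 : ¬ r ∣ Fintype.card F - 1) :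
    ∃ x : GL (Fin n) F, x ∈ Cfsg.Geo.specialLinear (Fin n) F ∧ x ^ r = 1 ∧ x ≠ 1 ∧
      ((x : Matrix (Fin n) (Fin n) F) - 1).rank ≤ i := by
  classical
  haveI : Fact r.Prime := ⟨hr⟩
  have hcardGL : Nat.card (GL (Fin i) F) =
      ∏ j : Fin i, (Fintype.card F ^ i - Fintype.card F ^ (j : ℕ)) := Matrix.card_GL_field i
  have hdvd : r ∣ Nat.card (GL (Fin i) F) := by
    rw [hcardGL]
    have h3 : (Fintype.card F ^ i - Fintype.card F ^ ((⟨0, hi⟩ : Fin i) : ℕ)) ∣
        ∏ j : Fin i, (Fintype.card F ^ i - Fintype.card F ^ (j : ℕ)) :=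
      Finset.dvd_prod_of_mem _ (Finset.mem_univ _)
    rw [pow_zero] at h3
    exact h1.trans h3
  obtain ⟨y, hy⟩ := exists_prime_orderOf_dvd_card' r hdvd
  obtain ⟨m, rfl⟩ : ∃ m, n = i + m := ⟨n - i, by omega⟩
  let φh : Matrix (Fin i) (Fin i) F →* Matrix (Fin (i + m)) (Fin (i + m)) F :=
    ⟨⟨u82d1_emb i m, u82d1_emb_one i m⟩, u82d1_emb_mul i m⟩
  let x : GL (Fin (i + m)) F := Units.map φh y
  have hxval : (x : Matrix (Fin (i + m)) (Fin (i + m)) F) =
      u82d1_emb i m (y : Matrix (Fin i) (Fin i) F) := rfl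
  have hyr : y ^ r = 1 := by
    rw [← hy]
    exact pow_orderOf_eq_one y
  have hy1 : y ≠ 1 := by
    intro h
    rw [h, orderOf_one] at hy
    exact hr.one_lt.ne hy
  refine ⟨x, ?_, ?_, ?_, ?_⟩
  · show x ∈ (Matrix.GeneralLinearGroup.det : GL (Fin (i + m)) F →* Fˣ).ker
    rw [MonoidHom.mem_ker]
    have hdx : Matrix.GeneralLinearGroup.det x = Matrix.GeneralLinearGroup.det y := by
      apply Units.ext
      rw [Matrix.GeneralLinearGroup.val_det_apply, Matrix.GeneralLinearGroup.val_det_apply, hxval,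
        u82d1_emb_det]
    rw [hdx]
    set d : Fˣ := Matrix.GeneralLinearGroup.det y with hd
    have hdr : d ^ r = 1 := by
      rw [hd, ← map_pow, hyr, map_one]
    have hdq : d ^ (Fintype.card F - 1) = 1 := by
      rw [← Fintype.card_units]
      exact pow_card_eq_one
    have hcop : Nat.Coprime r (Fintype.card F - 1) := (Nat.Prime.coprime_iff_not_dvd hr).mpr h2
    have := pow_gcd_eq_one.mpr ⟨hdr, hdq⟩
    rw [hcop.gcd_eq_one, pow_one] at this
    exact this
  · show Units.map φh y ^ r = 1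
    rw [← map_pow, hyr, map_one]
  · intro hx1
    apply hy1
    apply Units.ext
    apply u82d1_emb_inj i m
    rw [← hxval, hx1, Units.val_one, Units.val_one, u82d1_emb_one]
  · rw [hxval]
    exact u82d1_emb_rank i m _

end Cfsg.Agent.Lib.Helper16.U82
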