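import Mathlib
import Cfsg.Agent.Lib.Helper16.U82.Defs
import Cfsg.Agent.Lib.Lead.HermIso

/-!
# U82 row D2 (helper16): for an isometry `B` with `B ^ r = 1`, `r ≠ 0` in `F`, the space
`range (B - 1)` is invariant and non-degenerate.
-/

set_option autoImplicit false

namespace Cfsg.Agent.Lib.Helper16.U82

open Matrix Cfsg.Agent.Lib.Helper16
open scoped MatrixGroups

/-- the standard hermitian form is left non-degenerate -/
theorem u82d2_herm_nd {F : Type*} [Field F] (q₀ n : ℕ) (hq : q₀ ≠ 0) (x : Fin n → F)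
    (h : ∀ b, Cfsg.hermForm n F q₀ x b = 0) : x = 0 := by
  classical
  funext i
  have h1 := h (Pi.single i 1)
  unfold Cfsg.hermForm at h1
  rw [Finset.sum_eq_single i] at h1
  · simpa using h1
  · intro j _ hj
    rw [Pi.single_eq_of_ne hj, zero_pow hq, mul_zero]
  · intro hi
    exact absurd (Finset.mem_univ i) hi

theorem u82d2_herm_sub_left {F : Type*} [Field F] (q₀ n : ℕ) (u u' v : Fin n → F) :
    Cfsg.hermForm n F q₀ (u - u') v = Cfsg.hermForm n F q₀ u v - Cfsg.hermForm n F q₀ u' v := by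
  simp only [Cfsg.hermForm, Pi.sub_apply, sub_mul, Finset.sum_sub_distrib]

theorem u82d2_q_ne {F : Type*} [Field F] [Fintype F] (q₀ : ℕ) (hF : Fintype.card F = q₀ ^ 2) :
    q₀ ≠ 0 := by
  rintro rfl
  have : 0 < Fintype.card F := Fintype.card_pos
  rw [hF] at this
  simp at this

/-- D2 SPLIT -/
theorem u82_split {F : Type*} [Field F] [Fintype F] (q₀ n : ℕ) (hF : Fintype.card F = q₀ ^ 2)
    (B : GL (Fin n) F) (hB : B ∈ Cfsg.GU n F q₀) (r : ℕ) (hrF : (r : F) ≠ 0) (hBr : B ^ r = 1) :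
    (∀ w ∈ LinearMap.range (Matrix.toLin' ((B : Matrix (Fin n) (Fin n) F) - 1)),
      (B : Matrix (Fin n) (Fin n) F) *ᵥ w ∈
        LinearMap.range (Matrix.toLin' ((B : Matrix (Fin n) (Fin n) F) - 1))) ∧
    (∀ u ∈ LinearMap.range (Matrix.toLin' ((B : Matrix (Fin n) (Fin n) F) - 1)),
      (∀ v ∈ LinearMap.range (Matrix.toLin' ((B : Matrix (Fin n) (Fin n) F) - 1)),
        Cfsg.hermForm n F q₀ u v = 0) → u = 0) := by
  have hq0 := u82d2_q_ne q₀ hF
  set M : Matrix (Fin n) (Fin n) F := (B : Matrix (Fin n) (Fin n) F) with hM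
  have hB' : ∀ u v : Fin n → F, Cfsg.hermForm n F q₀ (M *ᵥ u) (M *ᵥ v) =
      Cfsg.hermForm n F q₀ u v := hB
  have happly : ∀ v : Fin n → F, Matrix.toLin' (M - 1) v = M *ᵥ v - v := by
    intro v
    rw [Matrix.toLin'_apply, Matrix.sub_mulVec, Matrix.one_mulVec]
  have hsurj : ∀ b : Fin n → F, ∃ a, M *ᵥ a = b := by
    intro b
    refine ⟨((B⁻¹ : GL (Fin n) F) : Matrix (Fin n) (Fin n) F) *ᵥ b, ?_⟩
    rw [hM, Matrix.mulVec_mulVec, ← Matrix.GeneralLinearGroup.coe_mul, mul_inv_cancel]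
    simp
  constructor
  · rintro w ⟨v, rfl⟩
    refine ⟨M *ᵥ v, ?_⟩
    rw [happly, happly, Matrix.mulVec_sub]
  · rintro u ⟨u', rfl⟩ hu
    rw [happly] at hu ⊢
    set u := M *ᵥ u' - u' with hudef
    -- `M u = u`
    have hfix : M *ᵥ u = u := by
      have h1 : ∀ a, Cfsg.hermForm n F q₀ u (M *ᵥ a) = Cfsg.hermForm n F q₀ u a := by
        intro a
        have h2 := hu (M *ᵥ a - a) ⟨a, happly a⟩
        obtain ⟨σ, hσ⟩ := Cfsg.Agent.Lib.Lead.exists_frob hF
        have h3 : Cfsg.hermForm n F q₀ u (M *ᵥ a - a + a) =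
            Cfsg.hermForm n F q₀ u (M *ᵥ a - a) + Cfsg.hermForm n F q₀ u a :=
          Cfsg.Agent.Lib.Lead.HI.herm_add_right σ hσ _ _ _
        rw [sub_add_cancel, h2, zero_add] at h3
        exact h3
      have h4 : ∀ b, Cfsg.hermForm n F q₀ (M *ᵥ u - u) b = 0 := by
        intro b
        obtain ⟨a, rfl⟩ := hsurj b
        rw [u82d2_herm_sub_left, hB', h1, sub_self]
      exact sub_eq_zero.mp (u82d2_herm_nd q₀ n hq0 _ h4)
    -- `M ^ j u' = u' + j • u`
    have hpow : ∀ j : ℕ, (M ^ j) *ᵥ u' = u' + (j : F) • u := by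
      intro j
      induction j with
      | zero => simp
      | succ j ih =>
        rw [pow_succ', ← Matrix.mulVec_mulVec, ih, Matrix.mulVec_add, Matrix.mulVec_smul, hfix]
        have : M *ᵥ u' = u + u' := by rw [hudef]; abel
        rw [this]
        push_cast
        module
    have hMr : M ^ r = 1 := by
      have := congrArg (fun g : GL (Fin n) F => (g : Matrix (Fin n) (Fin n) F)) hBr
      simpa using this
    have h5 := hpow r
    rw [hMr, Matrix.one_mulVec] at h5
    have h6 : (r : F) • u = 0 := by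
      have := h5
      rw [left_eq_add] at this
      exact this
    rcases smul_eq_zero.mp h6 with h7 | h7
    · exact absurd h7 hrF
    · exact h7

end Cfsg.Agent.Lib.Helper16.U82
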