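import Mathlib
import Cfsg.Agent.Lib.Helper16.U82.Defs
import Cfsg.Agent.Lib.helper6.HermGram

/-!
# U82 row D3 (helper16): the restriction of an isometry to an invariant non-degenerate subspace
is an element of `GU_w(q₀)`.
-/

set_option autoImplicit false

namespace Cfsg.Agent.Lib.Helper16.U82

open Matrix Cfsg.Agent.Lib.Helper16
open scoped MatrixGroups

/-- D3 RESTRICT -/
theorem u82_restrict {F : Type*} [Field F] [Fintype F] (q₀ n : ℕ) (hF : Fintype.card F = q₀ ^ 2)
    (B : GL (Fin n) F) (hB : B ∈ Cfsg.GU n F q₀) (W : Submodule F (Fin n → F))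
    (hinv : ∀ w ∈ W, (B : Matrix (Fin n) (Fin n) F) *ᵥ w ∈ W)
    (hnd : ∀ u ∈ W, (∀ v ∈ W, Cfsg.hermForm n F q₀ u v = 0) → u = 0)
    (r : ℕ) (hBr : B ^ r = 1) (hne : ∃ w ∈ W, (B : Matrix (Fin n) (Fin n) F) *ᵥ w ≠ w) :
    ∃ M : GL (Fin (Module.finrank F W)) F, M ∈ Cfsg.GU (Module.finrank F W) F q₀ ∧
      M ^ r = 1 ∧ M ≠ 1 := by
  classical
  obtain ⟨b, hli, hspan, horth⟩ := Cfsg.Agent.Lib.helper6.HF.exists_orthonormal hF W hnd
  obtain ⟨σ, hσ⟩ := Cfsg.Agent.Lib.Lead.exists_frob hF
  set M : Matrix (Fin n) (Fin n) F := (B : Matrix (Fin n) (Fin n) F) with hM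
  have hB' : ∀ u v : Fin n → F, Cfsg.hermForm n F q₀ (M *ᵥ u) (M *ᵥ v) =
      Cfsg.hermForm n F q₀ u v := hB
  let Φ : (Fin (Module.finrank F W) → F) →ₗ[F] (Fin n → F) := Fintype.linearCombination F b
  have hΦapp : ∀ c, Φ c = ∑ i, c i • b i := fun c => Fintype.linearCombination_apply F b c
  have hΦinj : Function.Injective Φ := hli.fintypeLinearCombination_injective
  have hΦrange : LinearMap.range Φ = W := (Fintype.range_linearCombination F b).trans hspan
  have hΦmem : ∀ c, Φ c ∈ W := fun c => hΦrange.le (LinearMap.mem_range_self Φ c)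
  -- the form in coordinates
  have hΦH : ∀ c d, Cfsg.hermForm n F q₀ (Φ c) (Φ d) = Cfsg.hermForm (Module.finrank F W) F q₀ c d := by
    intro c d
    rw [← Cfsg.Agent.Lib.helper6.HF.hB_apply σ hσ, hΦapp, hΦapp]
    simp only [map_sum, LinearMap.sum_apply, LinearMap.map_smulₛₗ, LinearMap.smul_apply, map_smul,
      smul_eq_mul]
    have h9 : ∀ i j, Cfsg.Agent.Lib.helper6.HF.hB n σ (b j) (b i) = if i = j then 1 else 0 := by
      intro i j
      rw [Cfsg.Agent.Lib.helper6.HF.hB_apply σ hσ, horth]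
    simp only [h9]
    unfold Cfsg.hermForm
    refine Finset.sum_congr rfl (fun i _ => ?_)
    rw [Finset.sum_eq_single i]
    · rw [if_pos rfl, mul_one, hσ]
    · intro j _ hji
      rw [if_neg (Ne.symm hji), mul_zero]
    · intro h
      exact absurd (Finset.mem_univ i) h
  -- coordinates of a vector of `W`
  have hcoord : ∀ d (i : Fin (Module.finrank F W)), Cfsg.hermForm n F q₀ (Φ d) (b i) = d i := by
    intro d i
    have h1 : b i = Φ (Pi.single i 1) := by
      rw [hΦapp, Finset.sum_eq_single i]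
      · simp
      · intro j _ hj
        simp [Pi.single_eq_of_ne hj]
      · intro h
        exact absurd (Finset.mem_univ i) h
    rw [h1, hΦH]
    unfold Cfsg.hermForm
    rw [Finset.sum_eq_single i]
    · simp
    · intro j _ hj
      have hq0 : q₀ ≠ 0 := by
        rintro rfl
        have : 0 < Fintype.card F := Fintype.card_pos
        rw [hF] at this
        simp at this
      rw [Pi.single_eq_of_ne hj, zero_pow hq0, mul_zero]
    · intro h
      exact absurd (Finset.mem_univ i) h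
  -- the matrix of the restriction
  let Mw : Matrix (Fin (Module.finrank F W)) (Fin (Module.finrank F W)) F := fun i j => Cfsg.hermForm n F q₀ (M *ᵥ b j) (b i)
  have hMw : ∀ c, M *ᵥ Φ c = Φ (Mw *ᵥ c) := by
    intro c
    have h1 : M *ᵥ Φ c ∈ LinearMap.range Φ := hΦrange.ge (hinv _ (hΦmem c))
    obtain ⟨d, hd⟩ := h1
    rw [← hd]
    congr 1
    funext i
    rw [← hcoord d i, hd, hΦapp, Matrix.mulVec_sum]
    have key : ∀ s : Finset (Fin (Module.finrank F W)),
        Cfsg.hermForm n F q₀ (∑ j ∈ s, M *ᵥ (c j • b j)) (b i) =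
          ∑ j ∈ s, c j * Cfsg.hermForm n F q₀ (M *ᵥ b j) (b i) := by
      intro s
      induction s using Finset.induction_on with
      | empty => simp [Cfsg.hermForm]
      | insert j s hj ih =>
        rw [Finset.sum_insert hj, Finset.sum_insert hj, Cfsg.Agent.Lib.Lead.HI.herm_add_left, ih,
          Matrix.mulVec_smul, Cfsg.Agent.Lib.Lead.HI.herm_smul_left]
    rw [key]
    show _ = ∑ j, Mw i j * c j
    refine Finset.sum_congr rfl (fun j _ => ?_)
    rw [mul_comm]
  have hMwpres : ∀ c d, Cfsg.hermForm (Module.finrank F W) F q₀ (Mw *ᵥ c) (Mw *ᵥ d) = Cfsg.hermForm (Module.finrank F W) F q₀ c d := by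
    intro c d
    rw [← hΦH, ← hMw, ← hMw, hB', hΦH]
  have hMwunit : IsUnit Mw.det := by
    have h1 := (Cfsg.Agent.Lib.Lead.preserves_iff σ hσ Mw).mp hMwpres
    have h2 := congrArg Matrix.det h1
    rw [Matrix.det_mul, Matrix.det_transpose, Matrix.det_one] at h2
    exact IsUnit.of_mul_eq_one _ h2
  have hpow : ∀ (j : ℕ) c, (M ^ j) *ᵥ Φ c = Φ ((Mw ^ j) *ᵥ c) := by
    intro j
    induction j with
    | zero => intro c; simp
    | succ j ih =>
      intro c
      rw [pow_succ', ← Matrix.mulVec_mulVec, ih, hMw, Matrix.mulVec_mulVec, ← pow_succ']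
  have hMr : M ^ r = 1 := by
    have := congrArg (fun g : GL (Fin n) F => (g : Matrix (Fin n) (Fin n) F)) hBr
    simpa using this
  refine ⟨Matrix.nonsingInvUnit Mw hMwunit, ?_, ?_, ?_⟩
  · intro u v
    exact hMwpres u v
  · apply Units.ext
    show ((Matrix.nonsingInvUnit Mw hMwunit ^ r : GL (Fin (Module.finrank F W)) F) : Matrix (Fin (Module.finrank F W)) (Fin (Module.finrank F W)) F) = 1
    rw [Units.val_pow_eq_pow_val]
    show Mw ^ r = 1
    apply Matrix.toLin'.injective
    apply LinearMap.ext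
    intro c
    rw [Matrix.toLin'_apply, Matrix.toLin'_one, LinearMap.id_apply]
    apply hΦinj
    rw [← hpow, hMr, Matrix.one_mulVec]
  · intro h1
    obtain ⟨w0, hw0, hw0ne⟩ := hne
    obtain ⟨c, rfl⟩ := hΦrange.ge hw0
    apply hw0ne
    rw [hMw]
    have h2 : Mw = 1 := congrArg Units.val h1
    rw [h2, Matrix.one_mulVec]

end Cfsg.Agent.Lib.Helper16.U82
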