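import Mathlib
import Cfsg.Agent.Lib.Helper16.U82.Defs
import Cfsg.Agent.Lib.Helper16.U82D2
import Cfsg.Agent.Lib.Helper16.U82D3
import Cfsg.Agent.S0277

/-!
# U82 row D4 (helper16): an isometry of prime order `r ∤ q₀` moving a `w`-space: `r` divides
`q₀^k - (-1)^k` for some `1 ≤ k ≤ w`.
-/

set_option autoImplicit false

namespace Cfsg.Agent.Lib.Helper16.U82

open Matrix Cfsg.Agent.Lib.Helper16
open scoped MatrixGroups

/-- D4 GUORD -/
theorem u82_gu_order {F : Type*} [Field F] [Fintype F] (q₀ n : ℕ) (hF : Fintype.card F = q₀ ^ 2)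
    (r : ℕ) (hr : r.Prime) (hrq : ¬ r ∣ q₀) (hrF : (r : F) ≠ 0)
    (B : GL (Fin n) F) (hB : B ∈ Cfsg.GU n F q₀) (hBr : B ^ r = 1) (hB1 : B ≠ 1) :
    ∃ k, 1 ≤ k ∧ k ≤ ((B : Matrix (Fin n) (Fin n) F) - 1).rank ∧
      r ∣ (if Even k then q₀ ^ k - 1 else q₀ ^ k + 1) := by
  classical
  haveI : Fact r.Prime := ⟨hr⟩
  obtain ⟨σ, hσ⟩ := Cfsg.Agent.Lib.Lead.exists_frob hF
  set M : Matrix (Fin n) (Fin n) F := (B : Matrix (Fin n) (Fin n) F) with hM
  have hB' : ∀ u v : Fin n → F, Cfsg.hermForm n F q₀ (M *ᵥ u) (M *ᵥ v) =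
      Cfsg.hermForm n F q₀ u v := hB
  obtain ⟨hinv, hnd⟩ := u82_split q₀ n hF B hB r hrF hBr
  set W : Submodule F (Fin n → F) := LinearMap.range (Matrix.toLin' (M - 1)) with hW
  have happly : ∀ v : Fin n → F, Matrix.toLin' (M - 1) v = M *ᵥ v - v := by
    intro v
    rw [Matrix.toLin'_apply, Matrix.sub_mulVec, Matrix.one_mulVec]
  have hrank : Module.finrank F W = (M - 1).rank := rfl
  -- a moved vector in `W`
  have hne : ∃ w ∈ W, M *ᵥ w ≠ w := by
    have h1 : ∃ v : Fin n → F, M *ᵥ v ≠ v := by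
      by_contra hcon
      have hcon' : ∀ v, M *ᵥ v = v := fun v => not_not.mp (not_exists.mp hcon v)
      apply hB1
      apply Units.ext
      show M = 1
      apply Matrix.toLin'.injective
      apply LinearMap.ext
      intro v
      rw [Matrix.toLin'_apply, hcon' v, Matrix.toLin'_one, LinearMap.id_apply]
    obtain ⟨v, hv⟩ := h1
    refine ⟨M *ᵥ v - v, ⟨v, happly v⟩, ?_⟩
    intro hfix
    have hw0 : M *ᵥ v - v = 0 := by
      apply hnd _ ⟨v, happly v⟩
      rintro u ⟨a, rfl⟩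
      rw [happly]
      have h3 : Cfsg.hermForm n F q₀ (M *ᵥ v - v) (M *ᵥ a - a + a) =
          Cfsg.hermForm n F q₀ (M *ᵥ v - v) (M *ᵥ a - a) +
            Cfsg.hermForm n F q₀ (M *ᵥ v - v) a :=
        Cfsg.Agent.Lib.Lead.HI.herm_add_right σ hσ _ _ _
      rw [sub_add_cancel] at h3
      have h4 : Cfsg.hermForm n F q₀ (M *ᵥ v - v) (M *ᵥ a) =
          Cfsg.hermForm n F q₀ (M *ᵥ v - v) a := by
        conv_lhs => rw [← hfix]
        rw [hB']
      rw [h4] at h3
      exact (right_eq_add.mp h3)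
    exact hv (sub_eq_zero.mp hw0)
  obtain ⟨Mw, hMwGU, hMwr, hMw1⟩ := u82_restrict q₀ n hF B hB W hinv hnd r hBr hne
  -- Lagrange in `GU_w(q₀)`
  have hord : orderOf (⟨Mw, hMwGU⟩ : Cfsg.GU (Module.finrank F W) F q₀) = r := by
    apply orderOf_eq_prime
    · apply Subtype.ext
      rw [SubgroupClass.coe_pow]
      exact hMwr
    · intro h
      apply hMw1
      exact congrArg Subtype.val h
  have hdvd : r ∣ Nat.card (Cfsg.GU (Module.finrank F W) F q₀) := by
    rw [← hord]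
    exact orderOf_dvd_natCard _
  rw [Cfsg.Agent.S0277.result hF (Module.finrank F W)] at hdvd
  have h5 : r ∣ ∏ i ∈ Finset.range (Module.finrank F W),
      (if Even i then q₀ ^ (i + 1) + 1 else q₀ ^ (i + 1) - 1) := by
    rcases (Nat.Prime.dvd_mul hr).mp hdvd with h6 | h6
    · exact absurd (hr.dvd_of_dvd_pow h6) hrq
    · exact h6
  obtain ⟨i, hi, hri⟩ := (Prime.dvd_finsetProd_iff hr.prime _).mp h5
  rw [Finset.mem_range, hrank] at hi
  refine ⟨i + 1, by omega, by omega, ?_⟩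
  by_cases hev : Even i
  · rw [if_pos hev] at hri
    have : ¬ Even (i + 1) := by
      rw [Nat.even_add_one]
      exact not_not.mpr hev
    rw [if_neg this]
    exact hri
  · rw [if_neg hev] at hri
    have : Even (i + 1) := by
      rw [Nat.even_add_one]
      exact hev
    rw [if_pos this]
    exact hri

end Cfsg.Agent.Lib.Helper16.U82
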