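import Mathlib
import Cfsg.Agent.Lib.Helper16.U82.Defs
import Cfsg.Agent.Lib.Helper16.U82A45
import Cfsg.Agent.Lib.Helper16.U82D1
import Cfsg.Agent.Lib.Helper16.U82D4

/-!
# Project U82, row D5: the derangement for `r ∤ q - 1`
-/

set_option autoImplicit false

namespace Cfsg.Agent.Lib.Helper16.U82

open Matrix
open scoped MatrixGroups

/-- an element of a finite field with `z ^ r = 1`, `r` prime not dividing `|F| - 1`, is `1` -/
theorem u82d5_root_one {F : Type*} [Field F] [Fintype F] (r : ℕ) (hr : r.Prime)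
    (h2 : ¬ r ∣ Fintype.card F - 1) (z : F) (hz : z ^ r = 1) : z = 1 := by
  have hz0 : z ≠ 0 := by
    rintro rfl
    rw [zero_pow hr.ne_zero] at hz
    exact zero_ne_one hz
  have h1 : z ^ (Fintype.card F - 1) = 1 := FiniteField.pow_card_sub_one_eq_one z hz0
  have hcop : Nat.Coprime r (Fintype.card F - 1) := (Nat.Prime.coprime_iff_not_dvd hr).2 h2
  have := pow_gcd_eq_one.2 ⟨hz, h1⟩
  rw [Nat.Coprime] at hcop
  rwa [hcop, pow_one] at this

/-- D5 DERAB [M]: the derangement for `r ∤ q - 1` (D1, A4, D4: if `x = e • k B k⁻¹` then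
`x^(q-1) = k B^(q-1) k⁻¹` is an isometry of order `r` moving at most an `i`-space). -/
theorem u82_der_ab {F : Type*} [Field F] [Fintype F] (q₀ n : ℕ) (hF : Fintype.card F = q₀ ^ 2)
    (hn : 1 ≤ n) (f : (Fin n → F) → (Fin n → F) → F) (hf : Cfsg.Geo.IsUnitaryFormPow q₀ f)
    (r : ℕ) (hr : r.Prime) (hrq : ¬ r ∣ q₀) (hrF : (r : F) ≠ 0) (hr1 : ¬ r ∣ q₀ ^ 2 - 1)
    (i : ℕ) (hi2 : 2 ≤ i) (hin : i ≤ n) (hri : r ∣ (q₀ ^ 2) ^ i - 1)
    (hno : ∀ k', 1 ≤ k' → k' ≤ i → ¬ r ∣ (if Even k' then q₀ ^ k' - 1 else q₀ ^ k' + 1)) :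
    ∃ x : GL (Fin n) F, x ∈ Cfsg.Geo.specialLinear (Fin n) F ∧ x ^ r = 1 ∧
      (∀ z : F, (x : Matrix (Fin n) (Fin n) F) ≠ z • (1 : Matrix (Fin n) (Fin n) F)) ∧
      ¬ ConjInGL f x := by
  classical
  have h2 : ¬ r ∣ Fintype.card F - 1 := by rw [hF]; exact hr1
  obtain ⟨x, hxSL, hxr, hx1, hrank⟩ :=
    u82_elt (F := F) n i r hr (by omega) hin (by rw [hF]; exact hri) h2
  refine ⟨x, hxSL, hxr, ?_, ?_⟩
  · -- non-scalar
    intro z hz
    have hzr : z ^ r = 1 := by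
      have h1 : ((x ^ r : GL (Fin n) F) : Matrix (Fin n) (Fin n) F) = 1 := by rw [hxr]; rfl
      rw [Units.val_pow_eq_pow_val, hz, smul_pow, one_pow] at h1
      have := congrFun (congrFun h1 ⟨0, by omega⟩) ⟨0, by omega⟩
      simpa using this
    have hz1 : z = 1 := u82d5_root_one r hr h2 z hzr
    apply hx1
    apply Units.ext
    rw [hz, hz1, one_smul]
    rfl
  · intro h
    obtain ⟨e, B, k, hB, hxe⟩ := u82_crit_out q₀ n hF hn f hf x h
    set m : ℕ := Fintype.card F - 1 with hm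
    have hem : ((e : F)) ^ m = 1 := FiniteField.pow_card_sub_one_eq_one (e : F) e.ne_zero
    have hxm : x ^ m = k * B ^ m * k⁻¹ := by
      rw [← conj_pow]
      apply Units.ext
      rw [Units.val_pow_eq_pow_val, Units.val_pow_eq_pow_val, hxe, smul_pow, hem, one_smul]
    have hB' : B ^ m ∈ Cfsg.GU n F q₀ := Subgroup.pow_mem _ hB m
    have hcop : Nat.Coprime r m := (Nat.Prime.coprime_iff_not_dvd hr).2 h2
    have hB'r : (B ^ m) ^ r = 1 := by
      have : k * (B ^ m) ^ r * k⁻¹ = 1 := by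
        rw [← conj_pow, ← hxm, ← pow_mul, mul_comm, pow_mul, hxr, one_pow]
      exact conj_eq_one_iff.1 this
    have hB'1 : B ^ m ≠ 1 := by
      intro h1
      rw [h1, mul_one, mul_inv_cancel] at hxm
      have := pow_gcd_eq_one.2 ⟨hxr, hxm⟩
      rw [Nat.Coprime] at hcop
      rw [hcop, pow_one] at this
      exact hx1 this
    obtain ⟨k', hk1, hk2, hk3⟩ := u82_gu_order q₀ n hF r hr hrq hrF (B ^ m) hB' hB'r hB'1
    refine hno k' hk1 (le_trans hk2 (le_trans ?_ hrank)) hk3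
    -- rank (B^m - 1) ≤ rank (x - 1)
    have e1 : ((B ^ m : GL (Fin n) F) : Matrix (Fin n) (Fin n) F) - 1 =
        ((k⁻¹ : GL (Fin n) F) : Matrix (Fin n) (Fin n) F) *
          (((x : Matrix (Fin n) (Fin n) F) - 1) *
            ∑ j ∈ Finset.range m, (x : Matrix (Fin n) (Fin n) F) ^ j) *
          (k : Matrix (Fin n) (Fin n) F) := by
      rw [mul_geom_sum, ← Units.val_pow_eq_pow_val, hxm]
      have hk1' : ((k⁻¹ : GL (Fin n) F) : Matrix (Fin n) (Fin n) F) *
          (k : Matrix (Fin n) (Fin n) F) = 1 := by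
        rw [← Units.val_mul, inv_mul_cancel]; rfl
      rw [Matrix.mul_sub, Matrix.sub_mul, Matrix.mul_one, hk1']
      congr 1
      rw [← Units.val_mul, ← Units.val_mul]
      congr 1
      group
    rw [e1]
    refine le_trans (Matrix.rank_mul_le_left _ _) ?_
    refine le_trans (Matrix.rank_mul_le_right _ _) ?_
    exact Matrix.rank_mul_le_left _ _

end Cfsg.Agent.Lib.Helper16.U82
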