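import Mathlib
import Cfsg.Agent.Lib.Helper16.U82.Defs
import Cfsg.Agent.Lib.Helper16.U82A3
import Cfsg.Agent.S0755

/-!
# Project U82, row E7: a symmetric labelling gives an element similar to its `ustar`
-/

set_option autoImplicit false

namespace Cfsg.Agent.Lib.Helper16.U82

open Matrix
open scoped MatrixGroups

/-- `ustar` of an invertible diagonal matrix -/
theorem u82e7_ustar_diag {F : Type*} [Field F] (q₀ n : ℕ) (hq : q₀ ≠ 0) (d : Fin n → F)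
    (hd : ∀ i, d i ≠ 0) :
    ustar q₀ (Matrix.diagonal d) = Matrix.diagonal (fun i => ((d i) ^ q₀)⁻¹) := by
  classical
  unfold ustar
  have h1 : (Matrix.diagonal d).map (fun a : F => a ^ q₀) = Matrix.diagonal (fun i => d i ^ q₀) := by
    rw [Matrix.diagonal_map (f := fun a : F => a ^ q₀) (zero_pow hq)]
  rw [h1, Matrix.diagonal_transpose]
  apply Matrix.inv_eq_right_inv
  rw [Matrix.diagonal_mul_diagonal, ← Matrix.diagonal_one]
  congr 1
  funext i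
  exact mul_inv_cancel₀ (pow_ne_zero _ (hd i))

/-- E7 SYMIN [M-L]: a symmetric labelling: a scalar multiple of `Dg ζ a` is similar to its `ustar`
(`e` with `e^(q₀+1) = ζ^(-t)`: norm onto the fixed field; `ustar (e • Dg ζ a)` is the diagonal matrix
of the `(e ζ^(a i))^(-q₀) = e ζ^(t - a i)`; `PGLR.diag_conj_of_card`). -/
theorem u82_sym_in {F : Type*} [Field F] [Fintype F] (q₀ n r : ℕ) [NeZero r]
    (hF : Fintype.card F = q₀ ^ 2) (ζ : F) (hζ : IsPrimitiveRoot ζ r) (hζq : ζ ^ q₀ = ζ)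
    (a : Fin n → ZMod r) (t : ZMod r) (hsym : ∀ j, PGLR.cnt a j = PGLR.cnt a (t - j)) :
    ∃ e : Fˣ, IsConj ((e : F) • PGLR.Dg ζ a) (ustar q₀ ((e : F) • PGLR.Dg ζ a)) := by
  classical
  have hq : q₀ ≠ 0 := by
    rintro rfl
    rw [zero_pow (by norm_num)] at hF
    exact Fintype.card_ne_zero hF
  have hζ1 : ζ ^ r = 1 := hζ.pow_eq_one
  obtain ⟨σ, hσ⟩ := Cfsg.Agent.Lib.Lead.exists_frob hF
  have hσσ : ∀ x, σ (σ x) = x := Cfsg.Agent.Lib.Lead.frob_frob hF σ hσ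
  have hσne := u82a3_frob_ne q₀ hF σ hσ
  have hevq : ∀ j : ZMod r, (PGLR.ev ζ j) ^ q₀ = PGLR.ev ζ j := by
    intro j
    unfold PGLR.ev
    rw [← pow_mul, mul_comm, pow_mul, hζq]
  have hcfix : σ (PGLR.ev ζ (-t)) = PGLR.ev ζ (-t) := by rw [hσ, hevq]
  obtain ⟨e0, he0⟩ := Cfsg.Agent.S0755.norm_surj σ hσne hσσ (PGLR.ev ζ (-t)) hcfix
  have hc0 : PGLR.ev ζ (-t) ≠ 0 := PGLR.ev_ne_zero ζ hζ1 _
  have he00 : e0 ≠ 0 := by
    rintro rfl
    rw [mul_zero] at he0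
    exact hc0 he0.symm
  rw [hσ] at he0
  refine ⟨Units.mk0 e0 he00, ?_⟩
  show IsConj (e0 • PGLR.Dg ζ a) (ustar q₀ (e0 • PGLR.Dg ζ a))
  set a' : Fin n → ZMod r := fun i => t - a i with ha'
  have hustar : ustar q₀ (e0 • PGLR.Dg ζ a) = e0 • PGLR.Dg ζ a' := by
    have h1 : e0 • PGLR.Dg ζ a = Matrix.diagonal (fun i => e0 * PGLR.ev ζ (a i)) := by
      unfold PGLR.Dg
      ext i j
      by_cases hij : i = j
      · subst hij
        simp
      · simp [Matrix.diagonal_apply_ne _ hij]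
    have h2 : e0 • PGLR.Dg ζ a' = Matrix.diagonal (fun i => e0 * PGLR.ev ζ (a' i)) := by
      unfold PGLR.Dg
      ext i j
      by_cases hij : i = j
      · subst hij
        simp
      · simp [Matrix.diagonal_apply_ne _ hij]
    rw [h1, h2, u82e7_ustar_diag q₀ n hq _
      (fun i => mul_ne_zero he00 (PGLR.ev_ne_zero ζ hζ1 _))]
    congr 1
    funext i
    have hE0 : PGLR.ev ζ (a i) ≠ 0 := PGLR.ev_ne_zero ζ hζ1 _
    have hT0 : PGLR.ev ζ t ≠ 0 := PGLR.ev_ne_zero ζ hζ1 _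
    have h3 : PGLR.ev ζ (a' i) = PGLR.ev ζ t * (PGLR.ev ζ (a i))⁻¹ := by
      rw [ha']
      show PGLR.ev ζ (t - a i) = _
      rw [sub_eq_add_neg, PGLR.ev_add ζ hζ1, PGLR.ev_neg ζ hζ1]
    rw [PGLR.ev_neg ζ hζ1] at he0
    rw [mul_pow, hevq, h3]
    symm
    apply eq_inv_of_mul_eq_one_left
    calc e0 * (PGLR.ev ζ t * (PGLR.ev ζ (a i))⁻¹) * (e0 ^ q₀ * PGLR.ev ζ (a i))
        = (e0 ^ q₀ * e0) * PGLR.ev ζ t * ((PGLR.ev ζ (a i))⁻¹ * PGLR.ev ζ (a i)) := by ring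
      _ = 1 := by rw [he0, inv_mul_cancel₀ hT0, inv_mul_cancel₀ hE0, one_mul]
  rw [hustar]
  have hcnt : ∀ j, PGLR.cnt a j = PGLR.cnt a' j := by
    intro j
    rw [hsym j]
    unfold PGLR.cnt
    apply Nat.card_congr
    refine Equiv.subtypeEquivRight ?_
    intro i
    constructor
    · intro h
      show t - a i = j
      rw [h]; ring
    · intro h
      have h' : t - a i = j := h
      rw [← h']; ring
  obtain ⟨Q, hQ, hQc⟩ := PGLR.Dg_conj_of_cnt ζ hζ a a' hcnt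
  obtain ⟨u, hu⟩ := (Matrix.isUnit_iff_isUnit_det Q).2 hQ
  apply IsConj.symm
  refine ⟨u, ?_⟩
  show (u : Matrix (Fin n) (Fin n) F) * (e0 • PGLR.Dg ζ a') = (e0 • PGLR.Dg ζ a) * u
  rw [hu, Matrix.mul_smul, Matrix.smul_mul, hQc]

end Cfsg.Agent.Lib.Helper16.U82
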