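import Mathlib
import Cfsg.Agent.Lib.Helper16.U82.Defs
import Cfsg.Agent.Lib.Helper16.U82A3
import Cfsg.Agent.Lib.Helper16.U82A679
import Cfsg.Agent.Lib.Helper16.U82Misc
import Cfsg.Agent.Lib.Helper16.U82E7
import Cfsg.Agent.Lib.helper2.U82E5
import Cfsg.Agent.Lib.Helper25.U82E8
import Cfsg.Agent.Lib.Helper28.SSCONJSSPOW

/-!
# Project U82, row E9: the exceptional case `n = r ∈ {3, 5}`, `(q₀ - 1)_r = r`
-/

set_option autoImplicit false

namespace Cfsg.Agent.Lib.Helper16.U82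

open Matrix
open scoped MatrixGroups

/-- an intertwining invertible matrix gives `IsConj` -/
theorem u82e9_isConj_of_intertwine {F : Type*} [Field F] {n : ℕ}
    (A B Q : Matrix (Fin n) (Fin n) F) (hQ : IsUnit Q.det) (h : A * Q = Q * B) : IsConj A B := by
  classical
  obtain ⟨u, hu⟩ := (Matrix.isUnit_iff_isUnit_det Q).2 hQ
  apply IsConj.symm
  refine ⟨u, ?_⟩
  show (u : Matrix (Fin n) (Fin n) F) * B = A * u
  rw [hu, h]

/-- E9 EXCIN [M-L]: the exceptional case `n = r ∈ {3, 5}`, `(q₀ - 1)_r = r`: every element of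
order `r` is conjugate into `H` (E8, `PGLR.exists_diag`, E6a, E5, E7, A9, A6, A8;
`x^r = 1` is semisimple: `Cfsg.Agent.Lib.Helper28` `ss_of_pow_eq_one`). -/
theorem u82_exc_in {F : Type*} [Field F] [Fintype F] (q₀ : ℕ) (hF : Fintype.card F = q₀ ^ 2)
    (r : ℕ) (hr : r = 3 ∨ r = 5) (hv : padicValNat r (q₀ - 1) = 1)
    (f : (Fin r → F) → (Fin r → F) → F) (hf : Cfsg.Geo.IsUnitaryFormPow q₀ f)
    (x : GL (Fin r) F) (hx : x ∈ Cfsg.Geo.specialLinear (Fin r) F)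
    (hz : ∃ z : F, ((x ^ r : GL (Fin r) F) : Matrix (Fin r) (Fin r) F) =
      z • (1 : Matrix (Fin r) (Fin r) F))
    (hns : ∀ z : F, (x : Matrix (Fin r) (Fin r) F) ≠ z • (1 : Matrix (Fin r) (Fin r) F)) :
    ConjIn f x := by
  classical
  have hr' : r.Prime := by rcases hr with rfl | rfl <;> norm_num
  have hr2 : r ≠ 2 := by rcases hr with rfl | rfl <;> norm_num
  haveI : NeZero r := ⟨hr'.ne_zero⟩
  haveI : Fact r.Prime := ⟨hr'⟩
  have hrq : r ∣ q₀ - 1 := dvd_of_one_le_padicValNat (by omega)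
  have hq10 : q₀ - 1 ≠ 0 := by
    intro h0
    rw [h0, padicValNat_zero_right] at hv
    omega
  have hv' : padicValNat r (Fintype.card F - 1) = 1 := by
    rw [hF]
    have h1 : q₀ ^ 2 - 1 = (q₀ - 1) * (q₀ + 1) := by
      obtain ⟨m, hm⟩ : ∃ m, q₀ = m + 1 := ⟨q₀ - 1, by omega⟩
      subst hm
      simp only [Nat.add_sub_cancel]
      have : (m + 1) ^ 2 = m * (m + 1 + 1) + 1 := by ring
      rw [this, Nat.add_sub_cancel]
    have h2 : ¬ r ∣ q₀ + 1 := by
      intro h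
      have h3 : r ∣ (q₀ + 1) - (q₀ - 1) := Nat.dvd_sub h hrq
      have h4 : (q₀ + 1) - (q₀ - 1) = 2 := by omega
      rw [h4] at h3
      have := Nat.le_of_dvd (by norm_num) h3
      have := hr'.two_le
      omega
    rw [h1, padicValNat.mul hq10 (by omega), hv, padicValNat.eq_zero_of_not_dvd h2]
  obtain ⟨z, hz⟩ := hz
  have hz1 : z = 1 := u82_exc_z r hr' hr2 hv' x hx z hz
  have hxr : (x : Matrix (Fin r) (Fin r) F) ^ r = 1 := by
    rw [← Units.val_pow_eq_pow_val, hz, hz1, one_smul]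
  obtain ⟨ζ, hζ, hζq⟩ := u82_zeta q₀ r hF hr' hrq
  have hζ1 : ζ ^ r = 1 := hζ.pow_eq_one
  have hrF : (r : F) ≠ 0 := (hζ.neZero').out
  obtain ⟨P, χ, hP, hχ, hxP⟩ :=
    PGLR.exists_diag (x : Matrix (Fin r) (Fin r) F) r hr'.pos ζ hζ hxr
  have hlab : ∀ i, ∃ j : ZMod r, PGLR.ev ζ j = χ i := fun i => PGLR.ev_surj ζ hζ (χ i) (hχ i)
  choose a ha using hlab
  have hD : Matrix.diagonal χ = PGLR.Dg ζ a := by
    unfold PGLR.Dg
    congr 1
    funext i
    exact (ha i).symm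
  rw [hD] at hxP
  have hdetx : (x : Matrix (Fin r) (Fin r) F).det = 1 := by
    have h1 := MonoidHom.mem_ker.1 hx
    have h2 := congrArg Units.val h1
    rwa [Matrix.GeneralLinearGroup.val_det_apply] at h2
  have hdetD : (PGLR.Dg ζ a).det = 1 := by
    have h1 := congrArg Matrix.det hxP
    rw [Matrix.det_mul, Matrix.det_mul, hdetx, one_mul] at h1
    have h2 : P.det * 1 = P.det * (PGLR.Dg ζ a).det := by rw [mul_one]; exact h1
    exact (mul_left_cancel₀ hP.ne_zero h2).symm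
  have hs : ∑ i, a i = 0 := by
    rw [u82_det_Dg r r ζ hζ1 a] at hdetD
    apply PGLR.ev_injective ζ hζ
    rw [hdetD, PGLR.ev_zero]
  have hPinv : P * P⁻¹ = 1 := Matrix.mul_nonsing_inv P hP
  have hns' : ∀ j, PGLR.cnt a j ≠ r := by
    intro j hj
    obtain ⟨c, hc⟩ := (PGLR.Dg_scalar_iff ζ hζ hr'.pos a).2 ⟨j, hj⟩
    apply hns c
    rw [hc, Matrix.mul_smul, Matrix.mul_one] at hxP
    have h1 : (x : Matrix (Fin r) (Fin r) F) * P * P⁻¹ = c • P * P⁻¹ := by rw [hxP]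
    rwa [Matrix.mul_assoc, hPinv, Matrix.mul_one, Matrix.smul_mul, hPinv] at h1
  obtain ⟨t, ht⟩ := u82_comb_exc r hr a hs hns'
  obtain ⟨e, he⟩ := u82_sym_in q₀ r r hF ζ hζ hζq a t ht
  obtain ⟨A, hA⟩ := u82a3_smul_gl e x
  -- `A = e • x` is similar to `e • Dg ζ a`
  have hc1 : IsConj (A : Matrix (Fin r) (Fin r) F) ((e : F) • PGLR.Dg ζ a) := by
    apply u82e9_isConj_of_intertwine _ _ P hP
    rw [hA, Matrix.smul_mul, Matrix.mul_smul, hxP]
  have hAdet : IsUnit (A : Matrix (Fin r) (Fin r) F).det := by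
    have := (Matrix.isUnit_iff_isUnit_det (A : Matrix (Fin r) (Fin r) F)).1 A.isUnit
    exact this
  have hc2 : IsConj (ustar q₀ (A : Matrix (Fin r) (Fin r) F)) (ustar q₀ ((e : F) • PGLR.Dg ζ a)) :=
    u82_star_conj q₀ r hF _ _ hAdet hc1
  have hc : IsConj (A : Matrix (Fin r) (Fin r) F) (ustar q₀ (A : Matrix (Fin r) (Fin r) F)) :=
    (hc1.trans he).trans hc2.symm
  have hGL : ConjInGL f x := u82_crit_in_star q₀ r hF f hf x A e hA hc
  have hss : Module.End.IsSemisimple (Matrix.toLin' (x : Matrix (Fin r) (Fin r) F)) :=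
    Cfsg.Agent.Lib.helper6.SSCONJ.ss_of_pow_eq_one _ r hrF hxr
  exact u82_sl_of_gl_ss hr'.one_le f x hss hGL

end Cfsg.Agent.Lib.Helper16.U82
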