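import Mathlib
import Cfsg.Agent.Lib.Helper16.U82.Defs
import Cfsg.Agent.Lib.helper8.U82B7
import Cfsg.Agent.Lib.Helper20.U82B8
import Cfsg.Agent.Lib.Helper16.U82C3
import Cfsg.Agent.Lib.helper7.U82C4
import Cfsg.Agent.Lib.Helper16.U82D5
import Cfsg.Agent.Lib.Helper24.U82E6
import Cfsg.Agent.Lib.Helper16.U82E9

/-!
# Project U82 (statement S5982): assembly
-/

set_option autoImplicit false

namespace Cfsg.Agent.Lib.Helper16.U82

open Matrix Cfsg.Agent.Lib.Helper16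
open scoped MatrixGroups

theorem u82_main {F : Type*} [Field F] [Fintype F] {p : ℕ} [Fact p.Prime] [CharP F p] {q : ℕ}
    (hq : Fintype.card F = q)
    (q₀ : ℕ) (hq₀ : q = q₀ ^ 2) (n : ℕ) (hn : 3 ≤ n) (f : (Fin n → F) → (Fin n → F) → F)
    (hf : Cfsg.Geo.IsUnitaryFormPow q₀ f)
    (r : ℕ) [Fact r.Prime] (hr : r = 2 ∨ r ≠ p) (hgap : ¬ (n = 6 ∧ r = 3))
    (hΩ : r ∣ (Cfsg.Geo.similarityGroup f).relIndex (Cfsg.Geo.specialLinear (Fin n) F)) :
    (∀ x ∈ Cfsg.Geo.specialLinear (Fin n) F,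
      (∃ z : F, ((x ^ r : GL (Fin n) F) : Matrix (Fin n) (Fin n) F) =
        z • (1 : Matrix (Fin n) (Fin n) F)) →
      (∀ z : F, (x : Matrix (Fin n) (Fin n) F) ≠ z • (1 : Matrix (Fin n) (Fin n) F)) →
      ∃ g ∈ Cfsg.Geo.specialLinear (Fin n) F, g⁻¹ * x * g ∈ Cfsg.Geo.similarityGroup f) ↔
    ((r = 2 ∧ (p = 2 ∨ padicValNat 2 n ≤ padicValNat 2 (q - 1))) ∨
      ((r = 3 ∨ r = 5) ∧ n = r ∧ padicValNat r (q₀ - 1) = 1)) := by
  subst hq₀
  have hF : Fintype.card F = q₀ ^ 2 := hq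
  have hrp : r.Prime := Fact.out
  have hpp : p.Prime := Fact.out
  have hn1 : 1 ≤ n := by omega
  have hq2 : 2 ≤ q₀ := by
    have h1 : 1 < Fintype.card F := Fintype.one_lt_card
    rw [hF] at h1
    by_contra hlt
    have h3 : q₀ ≤ 1 := by omega
    have h4 : q₀ ^ 2 ≤ 1 := by
      interval_cases q₀ <;> simp
    omega
  constructor
  · intro hall
    by_cases hr2 : r = 2
    · left
      refine ⟨hr2, ?_⟩
      by_contra hcon
      obtain ⟨hp2, hv'⟩ := not_or.mp hcon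
      have hv := not_le.mp hv'
      have h2F : (2 : F) ≠ 0 := by
        intro h
        have h5 : ((2 : ℕ) : F) = 0 := by exact_mod_cast h
        have h6 : p ∣ 2 := (CharP.cast_eq_zero_iff F p 2).mp h5
        exact hp2 ((Nat.prime_dvd_prime_iff_eq hpp Nat.prime_two).mp h6)
      obtain ⟨x, hxS, hxz, hxns, hxnot⟩ := u82_two_der q₀ n hF hn1 h2F f hf hv
      subst hr2
      obtain ⟨g, _, hgH⟩ := hall x hxS hxz hxns
      exact hxnot ⟨g, hgH⟩
    · right
      have hrp' : r ≠ p := hr.resolve_left hr2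
      have hrF : (r : F) ≠ 0 := by
        intro h
        have h6 : p ∣ r := (CharP.cast_eq_zero_iff F p r).mp h
        exact hrp' ((Nat.prime_dvd_prime_iff_eq hpp hrp).mp h6).symm
      have hrq : ¬ r ∣ q₀ := by
        intro h
        obtain ⟨m, hpm, hcard⟩ := FiniteField.card F p
        have h1 : r ∣ p ^ (m : ℕ) := by
          rw [← hcard, hF]
          exact dvd_pow h two_ne_zero
        have h2 := hrp.dvd_of_dvd_pow h1
        exact hrp' ((Nat.prime_dvd_prime_iff_eq hrp hpm).mp h2)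
      obtain ⟨k, hk1, hkn, hk⟩ := u82_index q₀ n hF f hf r hrp hrq hΩ
      rcases u82_arith q₀ n r hq2 hrp hr2 hrq k hk1 hkn hk with h1 | ⟨hr1, i, hi2, hin, hri, hno⟩
      · by_contra hexc
        obtain ⟨x, hxS, hxz, hxns, hxnot⟩ := u82_der_c q₀ n hF hn f hf r hrp hr2 h1 hgap hexc
        obtain ⟨g, _, hgH⟩ := hall x hxS hxz hxns
        exact hxnot ⟨g, hgH⟩
      · exfalso
        obtain ⟨x, hxS, hxr, hxns, hxnot⟩ :=
          u82_der_ab q₀ n hF hn1 f hf r hrp hrq hrF hr1 i hi2 hin hri hno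
        have hxz : ∃ z : F, ((x ^ r : GL (Fin n) F) : Matrix (Fin n) (Fin n) F) =
            z • (1 : Matrix (Fin n) (Fin n) F) := ⟨1, by rw [hxr, one_smul]; rfl⟩
        obtain ⟨g, _, hgH⟩ := hall x hxS hxz hxns
        exact hxnot ⟨g, hgH⟩
  · rintro (⟨hr2, hcond⟩ | ⟨hr35, hnr, hv⟩)
    · subst hr2
      intro x hxS hxz _
      exact u82_two_in q₀ n hF hn1 f hf hcond x hxS hxz
    · subst hnr
      intro x hxS hxz hxns
      exact u82_exc_in q₀ hF n hr35 hv f hf x hxS hxz hxns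

end Cfsg.Agent.Lib.Helper16.U82
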