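import Cfsg.Agent.Lib.Helper16.PU18
import Cfsg.Agent.Lib.helper6.HermGram

set_option autoImplicit false
set_option linter.unusedSectionVars false
set_option linter.unusedVariables false

namespace Cfsg.Agent.Lib.Helper16.UA

open Matrix Cfsg.Agent.Lib.Helper16.PU Cfsg.Agent.Lib.Helper16.PG

universe u
variable {n : ℕ} {F : Type u} [Field F] {q : ℕ}

/-- the sesquilinear form `Σ uᵢ σ(vᵢ)`. -/
def hf (σ : F ≃+* F) (u v : Fin n → F) : F := u ⬝ᵥ (⇑σ ∘ v)

theorem herm_eq_hf (σ : F ≃+* F) (hσ : ∀ a, σ a = a ^ q) (u v : Fin n → F) :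
    Cfsg.hermForm n F q u v = hf σ u v := herm_eq σ hσ u v

theorem hf_add_left (σ : F ≃+* F) (u u' v : Fin n → F) : hf σ (u + u') v = hf σ u v + hf σ u' v := by
  unfold hf; rw [add_dotProduct]

theorem hf_add_right (σ : F ≃+* F) (u v v' : Fin n → F) : hf σ u (v + v') = hf σ u v + hf σ u v' := by
  unfold hf; rw [comp_add, dotProduct_add]

theorem hf_smul_left (σ : F ≃+* F) (c : F) (u v : Fin n → F) : hf σ (c • u) v = c * hf σ u v := by
  unfold hf; rw [smul_dotProduct, smul_eq_mul]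

theorem hf_smul_right (σ : F ≃+* F) (c : F) (u v : Fin n → F) : hf σ u (c • v) = σ c * hf σ u v := by
  unfold hf; rw [comp_smul, dotProduct_smul, smul_eq_mul]

theorem hf_zero_left (σ : F ≃+* F) (v : Fin n → F) : hf σ 0 v = 0 := by
  unfold hf; rw [zero_dotProduct]

theorem hf_zero_right (σ : F ≃+* F) (u : Fin n → F) : hf σ u 0 = 0 := by
  unfold hf
  have : ⇑σ ∘ (0 : Fin n → F) = 0 := by funext i; simp
  rw [this, dotProduct_zero]

theorem hf_neg_left (σ : F ≃+* F) (u v : Fin n → F) : hf σ (-u) v = - hf σ u v := by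
  unfold hf; rw [neg_dotProduct]

theorem hf_neg_right (σ : F ≃+* F) (u v : Fin n → F) : hf σ u (-v) = - hf σ u v := by
  unfold hf
  have : ⇑σ ∘ (-v) = -(⇑σ ∘ v) := by funext i; simp
  rw [this, dotProduct_neg]

theorem hf_sub_left (σ : F ≃+* F) (u u' v : Fin n → F) : hf σ (u - u') v = hf σ u v - hf σ u' v := by
  rw [sub_eq_add_neg, hf_add_left, hf_neg_left, ← sub_eq_add_neg]

theorem hf_sub_right (σ : F ≃+* F) (u v v' : Fin n → F) : hf σ u (v - v') = hf σ u v - hf σ u v' := by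
  rw [sub_eq_add_neg, hf_add_right, hf_neg_right, ← sub_eq_add_neg]

theorem hf_swap (σ : F ≃+* F) (hσσ : ∀ x, σ (σ x) = x) (u v : Fin n → F) : σ (hf σ u v) = hf σ v u := by
  unfold hf
  have h1 := RingHom.map_dotProduct (σ : F →+* F) u (⇑σ ∘ v)
  have h2 : ⇑(σ : F →+* F) ∘ (⇑σ ∘ v) = v := by
    funext i
    simp only [Function.comp_apply, RingEquiv.coe_toRingHom]
    exact hσσ (v i)
  rw [h2] at h1
  rw [dotProduct_comm v]
  exact h1

theorem hf_swap_zero (σ : F ≃+* F) (hσσ : ∀ x, σ (σ x) = x) {u v : Fin n → F} (h : hf σ u v = 0) :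
    hf σ v u = 0 := by
  rw [← hf_swap σ hσσ, h, map_zero]

theorem hf_single_left (σ : F ≃+* F) (i : Fin n) (v : Fin n → F) :
    hf σ (Pi.single i 1) v = σ (v i) := by
  unfold hf; rw [single_one_dotProduct]; rfl

theorem hf_nondeg (σ : F ≃+* F) (v : Fin n → F) (h : ∀ x, hf σ x v = 0) : v = 0 := by
  funext i
  have := h (Pi.single i 1)
  rw [hf_single_left] at this
  exact (map_eq_zero_iff σ σ.injective).mp this

theorem hf_nondeg_left (σ : F ≃+* F) (hσσ : ∀ x, σ (σ x) = x) (v : Fin n → F)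
    (h : ∀ x, hf σ v x = 0) : v = 0 :=
  hf_nondeg σ v (fun x => hf_swap_zero σ hσσ (h x))

/-- equality of matrices from their action. -/
theorem mat_ext {M N : Matrix (Fin n) (Fin n) F} (h : ∀ x, M *ᵥ x = N *ᵥ x) : M = N := by
  ext i j
  have := congrFun (h (Pi.single j 1)) i
  rwa [Matrix.mulVec_single_one, Matrix.mulVec_single_one] at this

theorem su_ext {g h : ↥(Cfsg.SU n F q)}
    (H : ∀ x, (g.1 : Matrix (Fin n) (Fin n) F) *ᵥ x = (h.1 : Matrix (Fin n) (Fin n) F) *ᵥ x) : g = h := by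
  apply Subtype.ext
  apply Subtype.ext
  exact mat_ext H

/-- the rank-one update `x ↦ x + ⟨x, v⟩ u`. -/
def roM (σ : F ≃+* F) (u v : Fin n → F) : Matrix (Fin n) (Fin n) F :=
  1 + Matrix.vecMulVec u (⇑σ ∘ v)

theorem roM_mulVec (σ : F ≃+* F) (u v x : Fin n → F) : roM σ u v *ᵥ x = x + hf σ x v • u := by
  unfold roM hf
  rw [Matrix.add_mulVec, Matrix.one_mulVec, Matrix.vecMulVec_mulVec, op_smul_eq_smul, dotProduct_comm]

theorem roM_det (σ : F ≃+* F) (u v : Fin n → F) : (roM σ u v).det = 1 + hf σ u v := by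
  unfold roM hf
  rw [Matrix.vecMulVec_eq Unit, Matrix.det_one_add_replicateCol_mul_replicateRow, dotProduct_comm]

/-- the Siegel matrix `x ↦ x + ⟨x,e⟩ w − ⟨x,w⟩ e + c ⟨x,e⟩ e`. -/
def sgM (σ : F ≃+* F) (e w : Fin n → F) (c : F) : Matrix (Fin n) (Fin n) F :=
  roM σ (w + c • e) e * roM σ (-e) w

theorem sgM_mulVec (σ : F ≃+* F) {e : Fin n → F} (he : hf σ e e = 0) (w : Fin n → F) (c : F)
    (x : Fin n → F) :
    sgM σ e w c *ᵥ x = x + hf σ x e • w - hf σ x w • e + (c * hf σ x e) • e := by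
  unfold sgM
  rw [← Matrix.mulVec_mulVec, roM_mulVec, roM_mulVec, hf_add_left, hf_smul_left, hf_neg_left, he]
  simp only [smul_add, smul_neg, neg_zero, mul_zero, add_zero, smul_smul]
  rw [mul_comm (hf σ x e) c]
  abel

theorem sgM_det (σ : F ≃+* F) (hσσ : ∀ x, σ (σ x) = x) {e w : Fin n → F} (he : hf σ e e = 0)
    (hwe : hf σ w e = 0) (c : F) : (sgM σ e w c).det = 1 := by
  unfold sgM
  rw [Matrix.det_mul, roM_det, roM_det, hf_add_left, hf_smul_left, he, hwe, hf_neg_left,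
    hf_swap_zero σ hσσ hwe]
  simp

theorem sgM_pres (σ : F ≃+* F) (hσσ : ∀ x, σ (σ x) = x) {e w : Fin n → F} (he : hf σ e e = 0)
    (hwe : hf σ w e = 0) {c : F} (hc : c + σ c + hf σ w w = 0) (x y : Fin n → F) :
    hf σ (sgM σ e w c *ᵥ x) (sgM σ e w c *ᵥ y) = hf σ x y := by
  have hew : hf σ e w = 0 := hf_swap_zero σ hσσ hwe
  rw [sgM_mulVec σ he, sgM_mulVec σ he]
  simp only [hf_add_left, hf_add_right, hf_sub_left, hf_sub_right, hf_smul_left, hf_smul_right, he, hwe, hew,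
    map_mul, mul_zero, add_zero, sub_zero]
  rw [← hf_swap σ hσσ y w, ← hf_swap σ hσσ y e]
  linear_combination (hf σ x e * σ (hf σ y e)) * hc


section siegel
variable (q) (σ : F ≃+* F)

open Classical in
/-- the Siegel element of `SU_n` (the identity when the data are not admissible). -/
noncomputable def sgS (e w : Fin n → F) (c : F) : ↥(Cfsg.SU n F q) :=
  if h : (∀ a, σ a = a ^ q) ∧ (∀ x, σ (σ x) = x) ∧ hf σ e e = 0 ∧ hf σ w e = 0 ∧ c + σ c + hf σ w w = 0 then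
    ⟨⟨sgM σ e w c, sgM_det σ h.2.1 h.2.2.1 h.2.2.2.1 c⟩, fun x y => by
      rw [herm_eq_hf σ h.1, herm_eq_hf σ h.1]
      exact sgM_pres σ h.2.1 h.2.2.1 h.2.2.2.1 h.2.2.2.2 x y⟩
  else 1

variable {q σ}
variable (hσ : ∀ a, σ a = a ^ q) (hσσ : ∀ x, σ (σ x) = x)
include hσ hσσ

theorem sgS_val {e w : Fin n → F} {c : F} (he : hf σ e e = 0) (hwe : hf σ w e = 0)
    (hc : c + σ c + hf σ w w = 0) :
    ((sgS q σ e w c).1 : Matrix (Fin n) (Fin n) F) = sgM σ e w c := by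
  unfold sgS
  rw [dif_pos ⟨hσ, hσσ, he, hwe, hc⟩]

theorem sgS_mulVec {e w : Fin n → F} {c : F} (he : hf σ e e = 0) (hwe : hf σ w e = 0)
    (hc : c + σ c + hf σ w w = 0) (x : Fin n → F) :
    ((sgS q σ e w c).1 : Matrix (Fin n) (Fin n) F) *ᵥ x =
      x + hf σ x e • w - hf σ x w • e + (c * hf σ x e) • e := by
  rw [sgS_val hσ hσσ he hwe hc, sgM_mulVec σ he]

theorem su_mul_mulVec (g h : ↥(Cfsg.SU n F q)) (x : Fin n → F) :
    ((g * h).1 : Matrix (Fin n) (Fin n) F) *ᵥ x =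
      (g.1 : Matrix (Fin n) (Fin n) F) *ᵥ ((h.1 : Matrix (Fin n) (Fin n) F) *ᵥ x) := by
  rw [Matrix.mulVec_mulVec]
  rfl

omit hσσ in
theorem su_pres (g : ↥(Cfsg.SU n F q)) (x y : Fin n → F) :
    hf σ ((g.1 : Matrix (Fin n) (Fin n) F) *ᵥ x) ((g.1 : Matrix (Fin n) (Fin n) F) *ᵥ y) = hf σ x y := by
  rw [← herm_eq_hf σ hσ, ← herm_eq_hf σ hσ]
  exact g.2 x y

theorem sgS_mul {e w w' : Fin n → F} {c c' : F} (he : hf σ e e = 0) (hwe : hf σ w e = 0)
    (hwe' : hf σ w' e = 0) (hc : c + σ c + hf σ w w = 0) (hc' : c' + σ c' + hf σ w' w' = 0) :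
    sgS q σ e w c * sgS q σ e w' c' = sgS q σ e (w + w') (c + c' - hf σ w' w) := by
  have hew : hf σ e w = 0 := hf_swap_zero σ hσσ hwe
  have hwe'' : hf σ (w + w') e = 0 := by rw [hf_add_left, hwe, hwe', add_zero]
  have hc'' : (c + c' - hf σ w' w) + σ (c + c' - hf σ w' w) + hf σ (w + w') (w + w') = 0 := by
    simp only [hf_add_left, hf_add_right, map_add, map_sub]
    rw [hf_swap σ hσσ w' w]
    linear_combination hc + hc'
  apply su_ext
  intro x
  rw [su_mul_mulVec hσ hσσ, sgS_mulVec hσ hσσ he hwe' hc', sgS_mulVec hσ hσσ he hwe hc,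
    sgS_mulVec hσ hσσ he hwe'' hc'']
  simp only [hf_add_left, hf_add_right, hf_sub_left, hf_smul_left, he, hwe', hew, mul_zero, add_zero,
    sub_zero]
  module


theorem sgS_one {e : Fin n → F} (he : hf σ e e = 0) : sgS q σ e 0 0 = 1 := by
  apply su_ext
  intro x
  rw [sgS_mulVec hσ hσσ he (hf_zero_left σ e) (by rw [map_zero, hf_zero_left]; ring)]
  show _ = (1 : Matrix (Fin n) (Fin n) F) *ᵥ x
  rw [Matrix.one_mulVec, hf_zero_right]
  simp

theorem sgS_inv {e w : Fin n → F} {c : F} (he : hf σ e e = 0) (hwe : hf σ w e = 0)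
    (hc : c + σ c + hf σ w w = 0) : (sgS q σ e w c)⁻¹ = sgS q σ e (-w) (σ c) := by
  symm
  apply eq_inv_of_mul_eq_one_right
  have hwe' : hf σ (-w) e = 0 := by rw [hf_neg_left, hwe, neg_zero]
  have hc' : σ c + σ (σ c) + hf σ (-w) (-w) = 0 := by
    rw [hσσ, hf_neg_left, hf_neg_right, neg_neg]
    linear_combination hc
  rw [sgS_mul hσ hσσ he hwe hwe' hc hc']
  have h1 : w + -w = 0 := add_neg_cancel w
  have h2 : c + σ c - hf σ (-w) w = 0 := by
    rw [hf_neg_left]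
    linear_combination hc
  rw [h1, h2]
  exact sgS_one hσ hσσ he

theorem su_inv_mulVec (g : ↥(Cfsg.SU n F q)) (x : Fin n → F) :
    ((g⁻¹).1 : Matrix (Fin n) (Fin n) F) *ᵥ ((g.1 : Matrix (Fin n) (Fin n) F) *ᵥ x) = x := by
  rw [← su_mul_mulVec hσ hσσ, inv_mul_cancel]
  show (1 : Matrix (Fin n) (Fin n) F) *ᵥ x = x
  rw [Matrix.one_mulVec]

theorem su_mulVec_inv (g : ↥(Cfsg.SU n F q)) (x : Fin n → F) :
    (g.1 : Matrix (Fin n) (Fin n) F) *ᵥ (((g⁻¹).1 : Matrix (Fin n) (Fin n) F) *ᵥ x) = x := by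
  rw [← su_mul_mulVec hσ hσσ, mul_inv_cancel]
  show (1 : Matrix (Fin n) (Fin n) F) *ᵥ x = x
  rw [Matrix.one_mulVec]

theorem su_pres_inv (g : ↥(Cfsg.SU n F q)) (x y : Fin n → F) :
    hf σ (((g⁻¹).1 : Matrix (Fin n) (Fin n) F) *ᵥ x) y = hf σ x ((g.1 : Matrix (Fin n) (Fin n) F) *ᵥ y) := by
  rw [← su_pres hσ g, su_mulVec_inv hσ hσσ]

theorem sgS_conj (g : ↥(Cfsg.SU n F q)) {e w : Fin n → F} {c : F} (he : hf σ e e = 0)
    (hwe : hf σ w e = 0) (hc : c + σ c + hf σ w w = 0) :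
    g * sgS q σ e w c * g⁻¹ = sgS q σ ((g.1 : Matrix (Fin n) (Fin n) F) *ᵥ e)
      ((g.1 : Matrix (Fin n) (Fin n) F) *ᵥ w) c := by
  have he' : hf σ ((g.1 : Matrix (Fin n) (Fin n) F) *ᵥ e) ((g.1 : Matrix (Fin n) (Fin n) F) *ᵥ e) = 0 := by
    rw [su_pres hσ, he]
  have hwe' : hf σ ((g.1 : Matrix (Fin n) (Fin n) F) *ᵥ w) ((g.1 : Matrix (Fin n) (Fin n) F) *ᵥ e) = 0 := by
    rw [su_pres hσ, hwe]
  have hc' : c + σ c + hf σ ((g.1 : Matrix (Fin n) (Fin n) F) *ᵥ w)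
      ((g.1 : Matrix (Fin n) (Fin n) F) *ᵥ w) = 0 := by
    rw [su_pres hσ, hc]
  apply su_ext
  intro x
  rw [su_mul_mulVec hσ hσσ, su_mul_mulVec hσ hσσ, sgS_mulVec hσ hσσ he hwe hc,
    sgS_mulVec hσ hσσ he' hwe' hc', su_pres_inv hσ hσσ, su_pres_inv hσ hσσ]
  simp only [Matrix.mulVec_add, Matrix.mulVec_sub, Matrix.mulVec_smul, su_mulVec_inv hσ hσσ]

theorem sgS_smul {e w : Fin n → F} {c : F} (l : F) (he : hf σ e e = 0) (hwe : hf σ w e = 0)
    (hc : c + σ c + hf σ w w = 0) :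
    sgS q σ (l • e) w c = sgS q σ e (σ l • w) (l * σ l * c) := by
  have he' : hf σ (l • e) (l • e) = 0 := by rw [hf_smul_left, hf_smul_right, he, mul_zero, mul_zero]
  have hwe' : hf σ w (l • e) = 0 := by rw [hf_smul_right, hwe, mul_zero]
  have hwe'' : hf σ (σ l • w) e = 0 := by rw [hf_smul_left, hwe, mul_zero]
  have hc'' : l * σ l * c + σ (l * σ l * c) + hf σ (σ l • w) (σ l • w) = 0 := by
    rw [hf_smul_left, hf_smul_right, map_mul, map_mul, hσσ]
    linear_combination (l * σ l) * hc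
  apply su_ext
  intro x
  rw [sgS_mulVec hσ hσσ he' hwe' hc, sgS_mulVec hσ hσσ he hwe'' hc'']
  simp only [hf_smul_right, hσσ]
  module

/-- unitary transvections. -/
noncomputable def tvS (q : ℕ) (σ : F ≃+* F) (e : Fin n → F) (a : F) : ↥(Cfsg.SU n F q) := sgS q σ e 0 a

theorem tvS_mulVec {e : Fin n → F} {a : F} (he : hf σ e e = 0) (ha : a + σ a = 0) (x : Fin n → F) :
    ((tvS q σ e a).1 : Matrix (Fin n) (Fin n) F) *ᵥ x = x + (a * hf σ x e) • e := by
  unfold tvS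
  rw [sgS_mulVec hσ hσσ he (hf_zero_left σ e) (by rw [hf_zero_left, add_zero]; exact ha), hf_zero_right]
  simp

theorem tvS_mul {e : Fin n → F} {a b : F} (he : hf σ e e = 0) (ha : a + σ a = 0) (hb : b + σ b = 0) :
    tvS q σ e a * tvS q σ e b = tvS q σ e (a + b) := by
  unfold tvS
  rw [sgS_mul hσ hσσ he (hf_zero_left σ e) (hf_zero_left σ e) (by rw [hf_zero_left, add_zero]; exact ha)
    (by rw [hf_zero_left, add_zero]; exact hb), add_zero, hf_zero_left, sub_zero]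

theorem tvS_conj (g : ↥(Cfsg.SU n F q)) {e : Fin n → F} {a : F} (he : hf σ e e = 0) (ha : a + σ a = 0) :
    g * tvS q σ e a * g⁻¹ = tvS q σ ((g.1 : Matrix (Fin n) (Fin n) F) *ᵥ e) a := by
  unfold tvS
  rw [sgS_conj hσ hσσ g he (hf_zero_left σ e) (by rw [hf_zero_left, add_zero]; exact ha), Matrix.mulVec_zero]

theorem tvS_smul {e : Fin n → F} {a : F} (l : F) (he : hf σ e e = 0) (ha : a + σ a = 0) :
    tvS q σ (l • e) a = tvS q σ e (l * σ l * a) := by
  unfold tvS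
  rw [sgS_smul hσ hσσ l he (hf_zero_left σ e) (by rw [hf_zero_left, add_zero]; exact ha), smul_zero]

end siegel

end Cfsg.Agent.Lib.Helper16.UA
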