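import Cfsg.Agent.Lib.Helper16.UA9

set_option autoImplicit false
set_option linter.unusedSectionVars false
set_option linter.unusedVariables false

namespace Cfsg.Agent.Lib.Helper16.UA

open Matrix Cfsg.Agent.Lib.Helper16.PU Cfsg.Agent.Lib.Helper16.PG
open Cfsg.Agent.Lib.Helper16.SPA (par par_refl par_symm par_trans par_ne_zero par_smul)

universe u
variable {n : ℕ} {F : Type u} [Field F] {q : ℕ}

section
variable {σ : F ≃+* F} (hσ : ∀ a, σ a = a ^ q) (hσσ : ∀ x, σ (σ x) = x)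
include hσ hσσ

/-- conjugating a Siegel element by an element fixing the point `e`. -/
theorem sgS_conj_stab (h : ↥(Cfsg.SU n F q)) {e w : Fin n → F} {c l : F} (he0 : e ≠ 0) (he : hf σ e e = 0)
    (hwe : hf σ w e = 0) (hc : c + σ c + hf σ w w = 0) (hl : h.1.1 *ᵥ e = l • e) :
    h * sgS q σ e w c * h⁻¹ = sgS q σ e (σ l • (h.1.1 *ᵥ w)) (l * σ l * c) := by
  rw [sgS_conj hσ hσσ h he hwe hc, hl]
  have hl0 : l ≠ 0 := by
    rintro rfl
    rw [zero_smul] at hl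
    exact su_mulVec_ne_zero hσ hσσ h he0 hl
  have hwe' : hf σ (h.1.1 *ᵥ w) e = 0 := by
    have := su_pres hσ h w e
    rw [hl, hf_smul_right, hwe] at this
    rcases mul_eq_zero.mp this with h1 | h1
    · exact absurd ((map_eq_zero σ).mp h1) hl0
    · exact h1
  have hc' : c + σ c + hf σ (h.1.1 *ᵥ w) (h.1.1 *ᵥ w) = 0 := by rw [su_pres hσ, hc]
  exact sgS_smul hσ hσσ l he hwe' hc'

theorem sgS_mem_Qa_inter {e r : Fin n → F} (hee : hf σ e e = 0) (hrr : hf σ r r = 0) (hre : hf σ r e = 0)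
    (κ : F) : sgS q σ e (κ • r) 0 ∈ Qa q σ r := by
  have hwe : hf σ (κ • r) e = 0 := by rw [hf_smul_left, hre, mul_zero]
  have hc : (0 : F) + σ 0 + hf σ (κ • r) (κ • r) = 0 := by
    rw [hf_smul_left, hf_smul_right, hrr, map_zero]; ring
  rw [mem_Qa_iff]
  refine ⟨?_, fun x hx => ⟨κ * hf σ x e, ?_⟩⟩
  · rw [sgS_mulVec hσ hσσ hee hwe hc, hre, hf_smul_right, hrr]
    simp
  · rw [sgS_mulVec hσ hσσ hee hwe hc, hf_smul_right, hx]
    simp only [mul_zero, zero_smul, sub_zero, zero_mul, add_zero, smul_smul]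
    rw [mul_comm]

theorem Qa_inter {e f r : Fin n → F} (he0 : e ≠ 0) (hee : hf σ e e = 0) (hfe : hf σ f e = 1)
    (hre : hf σ r e = 0) (hrf : hf σ r f = 0) {u : ↥(Cfsg.SU n F q)} (hu : u ∈ Qa q σ e)
    (hu' : u ∈ Qa q σ r) : ∃ κ : F, u = sgS q σ e (κ • r) 0 := by
  obtain ⟨w, c, hwe, hwf, hc, rfl⟩ := Qa_normal_form hσ hσσ he0 hee hfe hu
  have hef : hf σ e f = 1 := hyp_swap hσσ hfe
  have hfr : hf σ f r = 0 := hf_swap_zero σ hσσ hrf
  have hfw : hf σ f w = 0 := hf_swap_zero σ hσσ hwf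
  obtain ⟨k, hk⟩ := hu'.2 f hfr
  rw [sgS_mulVec hσ hσσ hee hwe hc, hfe, hfw] at hk
  simp only [one_smul, zero_smul, sub_zero, mul_one] at hk
  have h1 : w + c • e = k • r := by
    have h2 : f + (w + c • e) = f + k • r := by rw [← add_assoc]; exact hk
    exact add_left_cancel h2
  have h3 := congrArg (fun v => hf σ v f) h1
  simp only [hf_add_left, hf_smul_left, hwf, hef, hrf, mul_one, mul_zero, zero_add] at h3
  rw [h3, zero_smul, add_zero] at h1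
  exact ⟨k, by rw [h1, h3]⟩

end

section fin
variable [Fintype F] {σ : F ≃+* F} (hF : Fintype.card F = q ^ 2) (hσ : ∀ a, σ a = a ^ q)
include hF hσ

/-- automorphisms map point stabilisers to point stabilisers. -/
theorem aut_stab (hn : 3 ≤ n) (α : MulAut (Cfsg.PSU n F q)) {x x' : Fin n → F} (hx0 : x ≠ 0)
    (hxx : hf σ x x = 0) (hx0' : x' ≠ 0) (hxx' : hf σ x' x' = 0)
    (hx : (Xb q σ x).map α.toMonoidHom = Xb q σ x') (h h' : ↥(Cfsg.SU n F q))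
    (hh : α (mkU n F q h) = mkU n F q h') {l : F} (hl : h.1.1 *ᵥ x = l • x) :
    ∃ l' : F, h'.1.1 *ᵥ x' = l' • x' := by
  have hσσ := bar_bar hF σ hσ
  have h1 := Xb_map_equiv hσ α hxx hxx' hx hσσ h h' hh
  have hl0 : l ≠ 0 := by
    rintro rfl
    rw [zero_smul] at hl
    exact su_mulVec_ne_zero hσ hσσ h hx0 hl
  rw [hl, Xb_smul hσ hσσ hxx hl0, hx] at h1
  have hge' : hf σ (h'.1.1 *ᵥ x') (h'.1.1 *ᵥ x') = 0 := by rw [su_pres hσ, hxx']
  obtain ⟨c, hc0, hc⟩ := par_of_Xb_eq hF hσ hn hx0' hxx' hge' h1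
  exact ⟨c, hc⟩

/-- two `p`-elements with the same image in `PSU` coincide. -/
theorem eq_of_mkU_eq_pelement (p : ℕ) [Fact p.Prime] [CharP F p] (hn : 3 ≤ n) {u₁ u₂ : ↥(Cfsg.SU n F q)}
    {k₁ k₂ : ℕ} (h₁ : u₁ ^ p ^ k₁ = 1) (h₂ : u₂ ^ p ^ k₂ = 1) (h : mkU n F q u₁ = mkU n F q u₂) :
    u₁ = u₂ := by
  rw [mkU_eq_iff] at h
  have hc : Commute u₁ (u₁⁻¹ * u₂) := (Subgroup.mem_center_iff.mp h u₁)
  have h3 : u₂ = u₁ * (u₁⁻¹ * u₂) := by group
  have h4 : u₁ ^ p ^ (k₁ + k₂) = 1 := by rw [pow_add, pow_mul, h₁, one_pow]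
  have h5 : u₂ ^ p ^ (k₁ + k₂) = 1 := by rw [pow_add, mul_comm, pow_mul, h₂, one_pow]
  have h6 : (u₁⁻¹ * u₂) ^ p ^ (k₁ + k₂) = 1 := by
    have := hc.mul_pow (p ^ (k₁ + k₂))
    rw [← h3, h5, h4, one_mul] at this
    exact this.symm
  have h7 := center_pow_eq_one hF hσ p hn _ h _ h6
  rw [h3, h7, mul_one]

section qdata
variable (p : ℕ) [Fact p.Prime] [CharP F p] (hn : 3 ≤ n) {α : MulAut (Cfsg.PSU n F q)}
  {e f : Fin n → F} (he0 : e ≠ 0) (hee : hf σ e e = 0) (hff : hf σ f f = 0) (hfe : hf σ f e = 1)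
  {ψ : (Fin n → F) → (Fin n → F)} {θ : (Fin n → F) → F → F} (hD : QData q σ α e f ψ θ)
include p hn he0 hee hfe hD

/-- the action of a torus element. -/
theorem QData.torus {w : Fin n → F} {c : F} (hwe : hf σ w e = 0) (hwf : hf σ w f = 0)
    (hc : c + σ c + hf σ w w = 0) (h h' : ↥(Cfsg.SU n F q)) (hh : α (mkU n F q h) = mkU n F q h')
    {l l' : F} (hl : h.1.1 *ᵥ e = l • e) (hl' : h'.1.1 *ᵥ e = l' • e)
    (hhw : hf σ (h.1.1 *ᵥ w) f = 0) (hhw' : hf σ (h'.1.1 *ᵥ (ψ w)) f = 0) :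
    ψ (σ l • (h.1.1 *ᵥ w)) = σ l' • (h'.1.1 *ᵥ (ψ w)) ∧
      θ (σ l • (h.1.1 *ᵥ w)) (l * σ l * c) = l' * σ l' * θ w c := by
  have hσσ := bar_bar hF σ hσ
  obtain ⟨h1, h2, h3, h4⟩ := hD.spec w c hwe hwf hc
  have hl0 : l ≠ 0 := by
    rintro rfl
    rw [zero_smul] at hl
    exact su_mulVec_ne_zero hσ hσσ h he0 hl
  have hl0' : l' ≠ 0 := by
    rintro rfl
    rw [zero_smul] at hl'
    exact su_mulVec_ne_zero hσ hσσ h' he0 hl'
  have hperp : ∀ (g : ↥(Cfsg.SU n F q)) (m : F) (y : Fin n → F), m ≠ 0 → g.1.1 *ᵥ e = m • e →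
      hf σ y e = 0 → hf σ (g.1.1 *ᵥ y) e = 0 := by
    intro g m y hm hg hy
    have := su_pres hσ g y e
    rw [hg, hf_smul_right, hy] at this
    rcases mul_eq_zero.mp this with h5 | h5
    · exact absurd ((map_eq_zero σ).mp h5) hm
    · exact h5
  have hA1 : hf σ (σ l • (h.1.1 *ᵥ w)) e = 0 := by
    rw [hf_smul_left, hperp h l w hl0 hl hwe, mul_zero]
  have hA2 : hf σ (σ l • (h.1.1 *ᵥ w)) f = 0 := by rw [hf_smul_left, hhw, mul_zero]
  have hA3 : (l * σ l * c) + σ (l * σ l * c) + hf σ (σ l • (h.1.1 *ᵥ w)) (σ l • (h.1.1 *ᵥ w)) = 0 := by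
    rw [hf_smul_left, hf_smul_right, su_pres hσ, map_mul, map_mul, hσσ]
    linear_combination (l * σ l) * hc
  have hB1 : hf σ (σ l' • (h'.1.1 *ᵥ (ψ w))) e = 0 := by
    rw [hf_smul_left, hperp h' l' (ψ w) hl0' hl' h1, mul_zero]
  have hB2 : hf σ (σ l' • (h'.1.1 *ᵥ (ψ w))) f = 0 := by rw [hf_smul_left, hhw', mul_zero]
  have hB3 : (l' * σ l' * θ w c) + σ (l' * σ l' * θ w c) +
      hf σ (σ l' • (h'.1.1 *ᵥ (ψ w))) (σ l' • (h'.1.1 *ᵥ (ψ w))) = 0 := by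
    rw [hf_smul_left, hf_smul_right, su_pres hσ, map_mul, map_mul, hσσ]
    linear_combination (l' * σ l') * h3
  obtain ⟨m1, m2, m3, m4⟩ := hD.spec _ _ hA1 hA2 hA3
  have hm : α (mkU n F q (h * sgS q σ e w c * h⁻¹)) =
      mkU n F q (h' * sgS q σ e (ψ w) (θ w c) * h'⁻¹) := by
    simp only [map_mul, map_inv, h4, hh]
  rw [sgS_conj_stab hσ hσσ h he0 hee hwe hc hl, sgS_conj_stab hσ hσσ h' he0 hee h1 h3 hl', m4] at hm
  have m4 := hm.symm
  have h5 := mkU_inj_Qa hF hσ p hn he0 hee (sgS_mem_Qa hσ hσσ hee hB1 hB3)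
    (sgS_mem_Qa hσ hσσ hee m1 m3) m4
  obtain ⟨h6, h7⟩ := sgS_normal_inj hσ hσσ hee hfe hB1 hB2 hB3 m1 m2 m3 h5
  exact ⟨h6.symm, h7.symm⟩

/-- semilinearity along a line on which enough torus elements act. -/
theorem QData.line_semilinear (he : (Xb q σ e).map α.toMonoidHom = Xb q σ e)
    {v v' : Fin n → F} (hv0 : v ≠ 0) (hve : hf σ v e = 0) (hvf : hf σ v f = 0)
    (hline : ∀ κ : F, ∃ κ' : F, ψ (κ • v) = κ' • v')
    (S : Set F) (hgen : ∀ K : Subfield F, S ⊆ K → K = ⊤)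
    (hS : ∀ m ∈ S, ∃ (h h' : ↥(Cfsg.SU n F q)) (l ρ l' ρ' : F), α (mkU n F q h) = mkU n F q h' ∧
      h.1.1 *ᵥ e = l • e ∧ h'.1.1 *ᵥ e = l' • e ∧ h.1.1 *ᵥ v = ρ • v ∧ h'.1.1 *ᵥ v' = ρ' • v' ∧
      m = σ l * ρ) :
    ∃ τ : F ≃+* F, ∀ κ : F, ψ (κ • v) = τ κ • ψ v := by
  have hσσ := bar_bar hF σ hσ
  have hWe : ∀ κ : F, hf σ (κ • v) e = 0 := fun κ => by rw [hf_smul_left, hve, mul_zero]
  have hWf : ∀ κ : F, hf σ (κ • v) f = 0 := fun κ => by rw [hf_smul_left, hvf, mul_zero]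
  have hv0' : v' ≠ 0 := by
    rintro rfl
    obtain ⟨κ', hκ'⟩ := hline 1
    rw [smul_zero, one_smul] at hκ'
    exact hv0 (hD.inj hF hσ p hn he0 hee hfe hve hvf he hκ')
  choose ψ₁ hψ₁ using hline
  have hadd : ∀ x y, ψ₁ (x + y) = ψ₁ x + ψ₁ y := by
    intro x y
    have h1 := hD.add hF hσ p hn he0 hee hfe (hWe x) (hWf x) (hWe y) (hWf y)
    rw [← add_smul, hψ₁, hψ₁, hψ₁, ← add_smul] at h1
    exact smul_left_injective F hv0' h1
  have hinj : ∀ x, ψ₁ x = 0 → x = 0 := by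
    intro x hx
    have h1 := hψ₁ x
    rw [hx, zero_smul] at h1
    have h2 := hD.inj hF hσ p hn he0 hee hfe (hWe x) (hWf x) he h1
    rcases smul_eq_zero.mp h2 with h3 | h3
    · exact h3
    · exact absurd h3 hv0
  have hS' : ∀ m ∈ S, ∃ m' : F, ∀ κ, ψ₁ (m * κ) = m' * ψ₁ κ := by
    intro m hm
    obtain ⟨h, h', l, ρ, l', ρ', hh, hl, hl', hρ, hρ', rfl⟩ := hS m hm
    refine ⟨σ l' * ρ', fun κ => ?_⟩
    obtain ⟨c, hc⟩ := exists_adm hF hσ (κ • v)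
    have hhw : hf σ (h.1.1 *ᵥ (κ • v)) f = 0 := by
      rw [Matrix.mulVec_smul, hρ, hf_smul_left, hf_smul_left, hvf, mul_zero, mul_zero]
    have hvf' : hf σ v' f = 0 := by
      obtain ⟨k1, k2, k3, k4⟩ := hD.spec v _ hve hvf (Classical.choose_spec (exists_adm hF hσ v))
      have h5 := hψ₁ 1
      rw [one_smul] at h5
      rw [h5, hf_smul_left] at k2
      rcases mul_eq_zero.mp k2 with h6 | h6
      · exfalso
        have := hinj 1 h6
        exact one_ne_zero this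
      · exact h6
    have hhw' : hf σ (h'.1.1 *ᵥ (ψ (κ • v))) f = 0 := by
      rw [hψ₁, Matrix.mulVec_smul, hρ', hf_smul_left, hf_smul_left, hvf', mul_zero, mul_zero]
    have h1 := (hD.torus hF hσ p hn he0 hee hfe (hWe κ) (hWf κ) hc h h' hh hl hl' hhw hhw').1
    rw [Matrix.mulVec_smul, hρ, smul_smul, smul_smul, hψ₁, hψ₁, Matrix.mulVec_smul, hρ', smul_smul,
      smul_smul] at h1
    have h2 := smul_left_injective F hv0' h1
    rw [show σ l * ρ * κ = σ l * κ * ρ by ring, h2]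
    ring
  obtain ⟨τ, hτ⟩ := semilinear_of_torus ψ₁ hadd (fun h => one_ne_zero (hinj 1 h)) S hS' hgen
  refine ⟨τ, fun κ => ?_⟩
  have h1 := hψ₁ 1
  rw [one_smul] at h1
  rw [hψ₁, h1, hτ κ, smul_smul]

end qdata

end fin

end Cfsg.Agent.Lib.Helper16.UA
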