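import Cfsg.Agent.Lib.Helper16.UA10

set_option autoImplicit false
set_option linter.unusedSectionVars false
set_option linter.unusedVariables false

namespace Cfsg.Agent.Lib.Helper16.UA

open Matrix Cfsg.Agent.Lib.Helper16.PU Cfsg.Agent.Lib.Helper16.PG
open Cfsg.Agent.Lib.Helper16.SPA (par par_refl par_symm par_trans par_ne_zero par_smul)

universe u
variable {n : ℕ} {F : Type u} [Field F] {q : ℕ}

section fin
variable [Fintype F] {σ : F ≃+* F} (hF : Fintype.card F = q ^ 2) (hσ : ∀ a, σ a = a ^ q)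
include hF hσ

section qdata
variable (p : ℕ) [Fact p.Prime] [CharP F p] (hn : 3 ≤ n) {α : MulAut (Cfsg.PSU n F q)}
  {e f : Fin n → F} (he0 : e ≠ 0) (hee : hf σ e e = 0) (hff : hf σ f f = 0) (hfe : hf σ f e = 1)
  {ψ : (Fin n → F) → (Fin n → F)} {θ : (Fin n → F) → F → F} (hD : QData q σ α e f ψ θ)
  (he : (Xb q σ e).map α.toMonoidHom = Xb q σ e) (hfX : (Xb q σ f).map α.toMonoidHom = Xb q σ f)
include p hn he0 hee hff hfe hD he hfX

/-- the image of an isotropic vector of `W`. -/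
theorem QData.iso_image {r : Fin n → F} (hr0 : r ≠ 0) (hrr : hf σ r r = 0) (hre : hf σ r e = 0)
    (hrf : hf σ r f = 0) :
    ∃ r' : Fin n → F, r' ≠ 0 ∧ hf σ r' r' = 0 ∧ hf σ r' e = 0 ∧ hf σ r' f = 0 ∧
      (Xb q σ r).map α.toMonoidHom = Xb q σ r' ∧
      (∀ κ : F, ∃ κ' : F, ψ (κ • r) = κ' • r' ∧ θ (κ • r) 0 = 0) := by
  have hσσ := bar_bar hF σ hσ
  have hf0 : f ≠ 0 := by
    rintro rfl
    rw [hf_zero_left] at hfe
    exact zero_ne_one hfe
  obtain ⟨r', hr0', hrr', hr⟩ := aut_Xb hF hσ p hn hr0 hrr α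
  have hre' : hf σ r' e = 0 :=
    (perp_iff_of_map hF hσ hn α hr0 hrr hee hr0' hrr' hee hr he).mp hre
  have hrf' : hf σ r' f = 0 :=
    (perp_iff_of_map hF hσ hn α hr0 hrr hff hr0' hrr' hff hr hfX).mp hrf
  refine ⟨r', hr0', hrr', hre', hrf', hr, fun κ => ?_⟩
  have hwe : hf σ (κ • r) e = 0 := by rw [hf_smul_left, hre, mul_zero]
  have hwf : hf σ (κ • r) f = 0 := by rw [hf_smul_left, hrf, mul_zero]
  have hc : (0 : F) + σ 0 + hf σ (κ • r) (κ • r) = 0 := by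
    rw [hf_smul_left, hf_smul_right, hrr, map_zero]; ring
  obtain ⟨h1, h2, h3, h4⟩ := hD.spec (κ • r) 0 hwe hwf hc
  obtain ⟨u₂, hu₂, h5⟩ := aut_Qb hF hσ p hn α hr0 hrr hr0' hrr' hr
    (sgS_mem_Qa_inter hσ hσσ hee hrr hre κ)
  have hu₁ : sgS q σ e (ψ (κ • r)) (θ (κ • r) 0) ∈ Qa q σ e := sgS_mem_Qa hσ hσσ hee h1 h3
  obtain ⟨k₁, hk₁⟩ := Qa_isPGroup hF hσ p he0 hee ⟨_, hu₁⟩
  obtain ⟨k₂, hk₂⟩ := Qa_isPGroup hF hσ p hr0' hrr' ⟨_, hu₂⟩
  have hk₁' : (sgS q σ e (ψ (κ • r)) (θ (κ • r) 0)) ^ p ^ k₁ = 1 := by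
    have := congrArg Subtype.val hk₁
    simpa using this
  have hk₂' : u₂ ^ p ^ k₂ = 1 := by
    have := congrArg Subtype.val hk₂
    simpa using this
  have h6 := eq_of_mkU_eq_pelement hF hσ p hn hk₁' hk₂' (h4.symm.trans h5)
  rw [← h6] at hu₂
  obtain ⟨κ', hκ'⟩ := Qa_inter hσ hσσ he0 hee hfe hre' hrf' hu₁ hu₂
  have hwe' : hf σ (κ' • r') e = 0 := by rw [hf_smul_left, hre', mul_zero]
  have hwf' : hf σ (κ' • r') f = 0 := by rw [hf_smul_left, hrf', mul_zero]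
  have hc' : (0 : F) + σ 0 + hf σ (κ' • r') (κ' • r') = 0 := by
    rw [hf_smul_left, hf_smul_right, hrr', map_zero]; ring
  obtain ⟨h7, h8⟩ := sgS_normal_inj hσ hσσ hee hfe h1 h2 h3 hwe' hwf' hc' hκ'
  exact ⟨κ', h7, h8⟩

/-- semilinearity along the line of an isotropic vector of `W` (`n ≥ 4`). -/
theorem QData.iso_line (hn4 : 4 ≤ n) {r : Fin n → F} (hr0 : r ≠ 0) (hrr : hf σ r r = 0)
    (hre : hf σ r e = 0) (hrf : hf σ r f = 0) :
    ∃ τ : F ≃+* F, ∀ κ : F, ψ (κ • r) = τ κ • ψ r := by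
  have hσσ := bar_bar hF σ hσ
  obtain ⟨r', hr0', hrr', hre', hrf', hr, hline⟩ :=
    hD.iso_image hF hσ p hn he0 hee hff hfe he hfX hr0 hrr hre hrf
  obtain ⟨s, hss, hsr, hse, hsf⟩ := exists_hyp_partner_W hF hσ hee hff hfe hr0 hrr hre hrf
  apply hD.line_semilinear hF hσ p hn he0 hee hfe he hr0 hre hrf
    (fun κ => ⟨(hline κ).choose, (hline κ).choose_spec.1⟩) {m | ∃ l : F, l ≠ 0 ∧ m = σ l ^ 2}
  · intro K hK
    apply gen4 hF hσ K
    intro l hl
    exact hK ⟨l, hl, rfl⟩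
  · rintro m ⟨l, hl, rfl⟩
    obtain ⟨t, ht1, ht2, ht3⟩ := exists_torus4 hF hσ hee hff hfe hrr hss hsr hre hrf hse hsf hl
    obtain ⟨t', ht'⟩ := mkU_surjective (α (mkU n F q t))
    obtain ⟨l', hl'⟩ := aut_stab hF hσ hn α he0 hee he0 hee he t t' ht'.symm ht1
    obtain ⟨ρ', hρ'⟩ := aut_stab hF hσ hn α hr0 hrr hr0' hrr' hr t t' ht'.symm ht2
    exact ⟨t, t', l, σ l, l', ρ', ht'.symm, ht1, hl', ht2, hρ', pow_two _⟩

/-- the image of an isotropic vector of `W` is a nonzero multiple of `r'`. -/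
theorem QData.iso_image_ne {r : Fin n → F} (hr0 : r ≠ 0) (hrr : hf σ r r = 0) (hre : hf σ r e = 0)
    (hrf : hf σ r f = 0) :
    ∃ (r' : Fin n → F) (k : F), k ≠ 0 ∧ r' ≠ 0 ∧ hf σ r' r' = 0 ∧
      (Xb q σ r).map α.toMonoidHom = Xb q σ r' ∧ ψ r = k • r' := by
  obtain ⟨r', hr0', hrr', hre', hrf', hr, hline⟩ :=
    hD.iso_image hF hσ p hn he0 hee hff hfe he hfX hr0 hrr hre hrf
  obtain ⟨k, hk, _⟩ := hline 1
  rw [one_smul] at hk
  refine ⟨r', k, ?_, hr0', hrr', hr, hk⟩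
  rintro rfl
  rw [zero_smul] at hk
  exact hr0 (hD.inj hF hσ p hn he0 hee hfe hre hrf he hk)

/-- gluing along a hyperbolic pair in `W`. -/
theorem QData.glue (hn4 : 4 ≤ n) (τ : F ≃+* F) {r s : Fin n → F} (hrr : hf σ r r = 0)
    (hre : hf σ r e = 0) (hrf : hf σ r f = 0) (hss : hf σ s s = 0) (hse : hf σ s e = 0)
    (hsf : hf σ s f = 0) (hsr : hf σ s r = 1) (hP : ∀ κ : F, ψ (κ • r) = τ κ • ψ r) :
    ∀ κ : F, ψ (κ • s) = τ κ • ψ s := by
  have hσσ := bar_bar hF σ hσ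
  have hrs : hf σ r s = 1 := hyp_swap hσσ hsr
  have hr0 : r ≠ 0 := by
    rintro rfl
    rw [hf_zero_right] at hsr
    exact zero_ne_one hsr
  have hs0 : s ≠ 0 := by
    rintro rfl
    rw [hf_zero_left] at hsr
    exact zero_ne_one hsr
  obtain ⟨a, ha0, ha⟩ := exists_skew hF σ hσ
  obtain ⟨τs, hτs⟩ := hD.iso_line hF hσ p hn he0 hee hff hfe he hfX hn4 hs0 hss hse hsf
  have hv0 : r + a • s ≠ 0 := by
    intro h0
    have := congrArg (fun v => hf σ v s) h0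
    simp only [hf_add_left, hf_smul_left, hrs, hss, hf_zero_left, mul_zero, add_zero] at this
    exact one_ne_zero this
  have hvv : hf σ (r + a • s) (r + a • s) = 0 := by
    simp only [hf_add_left, hf_add_right, hf_smul_left, hf_smul_right, hrr, hss, hrs, hsr, ha]
    ring
  have hve : hf σ (r + a • s) e = 0 := by rw [hf_add_left, hf_smul_left, hre, hse]; ring
  have hvf : hf σ (r + a • s) f = 0 := by rw [hf_add_left, hf_smul_left, hrf, hsf]; ring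
  obtain ⟨τ₂, hτ₂⟩ := hD.iso_line hF hσ p hn he0 hee hff hfe he hfX hn4 hv0 hvv hve hvf
  -- independence of ψ r and ψ s
  obtain ⟨r', k, hk0, hr0', hrr', hr, hψr⟩ :=
    hD.iso_image_ne hF hσ p hn he0 hee hff hfe he hfX hr0 hrr hre hrf
  obtain ⟨s', k', hk0', hs0', hss', hs, hψs⟩ :=
    hD.iso_image_ne hF hσ p hn he0 hee hff hfe he hfX hs0 hss hse hsf
  have hsr' : hf σ s' r' ≠ 0 := by
    intro h0
    have := (perp_iff_of_map hF hσ hn α hs0 hss hrr hs0' hss' hrr' hs hr).mpr h0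
    rw [hsr] at this
    exact one_ne_zero this
  have hindep : ∀ x y : F, x • ψ r + y • ψ s = 0 → x = 0 ∧ y = 0 := by
    intro x y hxy
    rw [hψr, hψs, smul_smul, smul_smul] at hxy
    have h1 := congrArg (fun v => hf σ v r') hxy
    simp only [hf_add_left, hf_smul_left, hrr', hf_zero_left, mul_zero, zero_add] at h1
    have hy : y = 0 := by
      rcases mul_eq_zero.mp h1 with h2 | h2
      · rcases mul_eq_zero.mp h2 with h3 | h3
        · exact h3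
        · exact absurd h3 hk0'
      · exact absurd h2 hsr'
    rw [hy, zero_mul, zero_smul, add_zero] at hxy
    rcases smul_eq_zero.mp hxy with h2 | h2
    · rcases mul_eq_zero.mp h2 with h3 | h3
      · exact ⟨h3, hy⟩
      · exact absurd h3 hk0
    · exact absurd h2 hr0'
  intro κ
  have hWe : ∀ c : F, hf σ (c • r) e = 0 := fun c => by rw [hf_smul_left, hre, mul_zero]
  have hWf : ∀ c : F, hf σ (c • r) f = 0 := fun c => by rw [hf_smul_left, hrf, mul_zero]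
  have hWe' : ∀ c : F, hf σ (c • s) e = 0 := fun c => by rw [hf_smul_left, hse, mul_zero]
  have hWf' : ∀ c : F, hf σ (c • s) f = 0 := fun c => by rw [hf_smul_left, hsf, mul_zero]
  have h1 := hτ₂ κ
  rw [smul_add, smul_smul, hD.add hF hσ p hn he0 hee hfe (hWe κ) (hWf κ) (hWe' _) (hWf' _),
    hD.add hF hσ p hn he0 hee hfe hre hrf (hWe' a) (hWf' a), hP κ, hτs (κ * a), hτs a, map_mul] at h1
  have h2 : (τ κ - τ₂ κ) • ψ r + ((τs κ - τ₂ κ) * τs a) • ψ s = 0 := by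
    rw [sub_smul, sub_mul, sub_smul, mul_smul, mul_smul]
    rw [smul_add, mul_smul] at h1
    have h1' := sub_eq_zero.mpr h1
    rw [← h1']
    abel
  obtain ⟨h3, h4⟩ := hindep _ _ h2
  have h5 : τs a ≠ 0 := (map_ne_zero τs).mpr ha0
  have h6 : τs κ = τ₂ κ := by
    rcases mul_eq_zero.mp h4 with h7 | h7
    · exact sub_eq_zero.mp h7
    · exact absurd h7 h5
  rw [hτs κ, h6, ← sub_eq_zero.mp h3]

/-- `ψ` is semilinear on `W` (`n ≥ 4`). -/
theorem QData.semilinear4 (hn4 : 4 ≤ n) :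
    ∃ τ : F ≃+* F, ∀ w, hf σ w e = 0 → hf σ w f = 0 → ∀ κ : F, ψ (κ • w) = τ κ • ψ w := by
  have hσσ := bar_bar hF σ hσ
  obtain ⟨r₀, hr₀0, hr₀r₀, hr₀e, hr₀f⟩ := exists_iso_W hF hσ hn4 hee hff hfe
  obtain ⟨s₀, hs₀s₀, hs₀r₀, hs₀e, hs₀f⟩ := exists_hyp_partner_W hF hσ hee hff hfe hr₀0 hr₀r₀ hr₀e hr₀f
  have hr₀s₀ : hf σ r₀ s₀ = 1 := hyp_swap hσσ hs₀r₀
  obtain ⟨τ, hτ⟩ := hD.iso_line hF hσ p hn he0 hee hff hfe he hfX hn4 hr₀0 hr₀r₀ hr₀e hr₀f
  refine ⟨τ, ?_⟩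
  have hPs₀ := hD.glue hF hσ p hn he0 hee hff hfe he hfX hn4 τ hr₀r₀ hr₀e hr₀f hs₀s₀ hs₀e hs₀f hs₀r₀ hτ
  -- scaling
  have hscale : ∀ (w : Fin n → F) (c : F), hf σ w e = 0 → hf σ w f = 0 →
      (∀ κ : F, ψ (κ • w) = τ κ • ψ w) → ∀ κ : F, ψ (κ • (c • w)) = τ κ • ψ (c • w) := by
    intro w c _ _ hw κ
    rw [smul_smul, hw, hw c, smul_smul, map_mul]
  -- subtraction
  have hsub : ∀ (w w' : Fin n → F), hf σ w e = 0 → hf σ w f = 0 → hf σ w' e = 0 → hf σ w' f = 0 →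
      (∀ κ : F, ψ (κ • w) = τ κ • ψ w) → (∀ κ : F, ψ (κ • w') = τ κ • ψ w') →
      ∀ κ : F, ψ (κ • (w - w')) = τ κ • ψ (w - w') := by
    intro w w' h1 h2 h3 h4 hw hw' κ
    have k1 : hf σ (κ • w) e = 0 := by rw [hf_smul_left, h1, mul_zero]
    have k2 : hf σ (κ • w) f = 0 := by rw [hf_smul_left, h2, mul_zero]
    have k3 : hf σ (κ • w') e = 0 := by rw [hf_smul_left, h3, mul_zero]
    have k4 : hf σ (κ • w') f = 0 := by rw [hf_smul_left, h4, mul_zero]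
    rw [smul_sub, hD.sub hF hσ p hn he0 hee hfe k1 k2 k3 k4, hD.sub hF hσ p hn he0 hee hfe h1 h2 h3 h4,
      hw, hw', smul_sub]
  have hadd : ∀ (w w' : Fin n → F), hf σ w e = 0 → hf σ w f = 0 → hf σ w' e = 0 → hf σ w' f = 0 →
      (∀ κ : F, ψ (κ • w) = τ κ • ψ w) → (∀ κ : F, ψ (κ • w') = τ κ • ψ w') →
      ∀ κ : F, ψ (κ • (w + w')) = τ κ • ψ (w + w') := by
    intro w w' h1 h2 h3 h4 hw hw' κ
    have k1 : hf σ (κ • w) e = 0 := by rw [hf_smul_left, h1, mul_zero]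
    have k2 : hf σ (κ • w) f = 0 := by rw [hf_smul_left, h2, mul_zero]
    have k3 : hf σ (κ • w') e = 0 := by rw [hf_smul_left, h3, mul_zero]
    have k4 : hf σ (κ • w') f = 0 := by rw [hf_smul_left, h4, mul_zero]
    rw [smul_add, hD.add hF hσ p hn he0 hee hfe k1 k2 k3 k4, hD.add hF hσ p hn he0 hee hfe h1 h2 h3 h4,
      hw, hw', smul_add]
  -- a vector pairing nontrivially with an isotropic vector satisfying P
  have hpair : ∀ (x r : Fin n → F), hf σ x x = 0 → hf σ x e = 0 → hf σ x f = 0 →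
      hf σ r r = 0 → hf σ r e = 0 → hf σ r f = 0 → hf σ r x ≠ 0 →
      (∀ κ : F, ψ (κ • x) = τ κ • ψ x) → ∀ κ : F, ψ (κ • r) = τ κ • ψ r := by
    intro x r hxx hxe hxf hrr hre hrf hrx hPx
    set c := (hf σ r x)⁻¹ with hc
    have h1 : hf σ (c • r) x = 1 := by rw [hf_smul_left, hc, inv_mul_cancel₀ hrx]
    have h2 : hf σ (c • r) (c • r) = 0 := by rw [hf_smul_left, hf_smul_right, hrr, mul_zero, mul_zero]
    have h3 : hf σ (c • r) e = 0 := by rw [hf_smul_left, hre, mul_zero]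
    have h4 : hf σ (c • r) f = 0 := by rw [hf_smul_left, hrf, mul_zero]
    have h5 := hD.glue hF hσ p hn he0 hee hff hfe he hfX hn4 τ hxx hxe hxf h2 h3 h4 h1 hPx
    have h6 := hscale (c • r) c⁻¹ h3 h4 h5
    have hc0 : c ≠ 0 := inv_ne_zero hrx
    rw [smul_smul, inv_mul_cancel₀ hc0, one_smul] at h6
    exact h6
  -- all isotropic vectors of W
  have hiso : ∀ r : Fin n → F, hf σ r r = 0 → hf σ r e = 0 → hf σ r f = 0 →
      ∀ κ : F, ψ (κ • r) = τ κ • ψ r := by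
    intro r hrr hre hrf
    by_cases h1 : hf σ r r₀ = 0
    · by_cases h2 : hf σ r s₀ = 0
      · -- r + r₀ pairs with s₀
        have h3 : hf σ (r + r₀) (r + r₀) = 0 := by
          simp only [hf_add_left, hf_add_right, hrr, hr₀r₀, h1, hf_swap_zero σ hσσ h1]
          ring
        have h4 : hf σ (r + r₀) e = 0 := by rw [hf_add_left, hre, hr₀e, add_zero]
        have h5 : hf σ (r + r₀) f = 0 := by rw [hf_add_left, hrf, hr₀f, add_zero]
        have h6 : hf σ (r + r₀) s₀ ≠ 0 := by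
          rw [hf_add_left, h2, hr₀s₀, zero_add]
          exact one_ne_zero
        have h7 := hpair s₀ (r + r₀) hs₀s₀ hs₀e hs₀f h3 h4 h5 h6 hPs₀
        have h8 := hsub (r + r₀) r₀ h4 h5 hr₀e hr₀f h7 hτ
        rwa [add_sub_cancel_right] at h8
      · exact hpair s₀ r hs₀s₀ hs₀e hs₀f hrr hre hrf h2 hPs₀
    · exact hpair r₀ r hr₀r₀ hr₀e hr₀f hrr hre hrf h1 hτ
  -- all of W
  intro w hwe hwf
  have hW := W_induction hF hσ hn4 hee hff hfe
    (fun y => hf σ y e = 0 ∧ hf σ y f = 0 ∧ ∀ κ : F, ψ (κ • y) = τ κ • ψ y)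
    (by
      rintro y z ⟨h1, h2, h3⟩ ⟨k1, k2, k3⟩
      refine ⟨?_, ?_, hadd y z h1 h2 k1 k2 h3 k3⟩
      · rw [hf_add_left, h1, k1, add_zero]
      · rw [hf_add_left, h2, k2, add_zero])
    (fun r hrr hre hrf => ⟨hre, hrf, hiso r hrr hre hrf⟩)
  exact (hW w hwe hwf).2.2

/-- `ψ` is semilinear on `W` (`n = 3`, `q ≥ 3`). -/
theorem QData.semilinear3 (hn3 : n = 3) (hq : 3 ≤ q) :
    ∃ τ : F ≃+* F, ∀ w, hf σ w e = 0 → hf σ w f = 0 → ∀ κ : F, ψ (κ • w) = τ κ • ψ w := by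
  have hσσ := bar_bar hF σ hσ
  have hef : hf σ e f = 1 := hyp_swap hσσ hfe
  have hf0 : f ≠ 0 := by
    rintro rfl
    rw [hf_zero_left] at hfe
    exact zero_ne_one hfe
  obtain ⟨u, hu⟩ := exists_not_span hF hσ hn e f
  set d := prW σ e f u with hd
  have hde : hf σ d e = 0 := prW_perp_e hee hfe u
  have hdf : hf σ d f = 0 := prW_perp_f hσσ hff hfe u
  have hd0 : d ≠ 0 := by
    intro h0
    apply hu (hf σ u f) (hf σ u e)
    have := prW_decomp (σ := σ) e f u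
    rw [← hd, h0, zero_add, add_comm] at this
    exact this
  have hdne : ¬ ∃ k : F, d = k • e := by
    rintro ⟨k, hk⟩
    have h1 := hdf
    rw [hk, hf_smul_left, hef, mul_one] at h1
    rw [h1, zero_smul] at hk
    exact hd0 hk
  have hWd : ∀ w, hf σ w e = 0 → hf σ w f = 0 → ∃ c : F, w = c • d := by
    intro w hwe hwf
    obtain ⟨a, b, hab⟩ := perp_span3 hF hσ hn3 he0 hee hde hwe hdne
    have h1 := hwf
    rw [hab, hf_add_left, hf_smul_left, hf_smul_left, hef, hdf, mul_one, mul_zero, add_zero] at h1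
    rw [h1, zero_smul, zero_add] at hab
    exact ⟨b, hab⟩
  have hdd : hf σ d d ≠ 0 := by
    intro h0
    obtain ⟨d', _, hd'd, hd'e, hd'f⟩ := exists_hyp_partner_W hF hσ hee hff hfe hd0 h0 hde hdf
    obtain ⟨c, hc⟩ := hWd d' hd'e hd'f
    rw [hc, hf_smul_left, h0, mul_zero] at hd'd
    exact zero_ne_one hd'd
  have hWe : ∀ κ : F, hf σ (κ • d) e = 0 := fun κ => by rw [hf_smul_left, hde, mul_zero]
  have hWf : ∀ κ : F, hf σ (κ • d) f = 0 := fun κ => by rw [hf_smul_left, hdf, mul_zero]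
  have hline : ∀ κ : F, ∃ κ' : F, ψ (κ • d) = κ' • d := by
    intro κ
    obtain ⟨c, hc⟩ := exists_adm hF hσ (κ • d)
    obtain ⟨h1, h2, _, _⟩ := hD.spec (κ • d) c (hWe κ) (hWf κ) hc
    exact hWd _ h1 h2
  obtain ⟨τ, hτ⟩ := hD.line_semilinear hF hσ p hn he0 hee hfe he hd0 hde hdf hline
    {m | ∃ l : F, l ≠ 0 ∧ m = σ l ^ 2 / l}
    (by
      intro K hK
      apply gen3 hF hσ hq K
      intro l hl
      exact hK ⟨l, hl, rfl⟩)
    (by
      rintro m ⟨l, hl, rfl⟩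
      obtain ⟨t, ht1, ht2, ht3⟩ := exists_torus3 hF hσ hee hff hfe hde hdf hdd hl
      obtain ⟨t', ht'⟩ := mkU_surjective (α (mkU n F q t))
      obtain ⟨l', hl'⟩ := aut_stab hF hσ hn α he0 hee he0 hee he t t' ht'.symm ht1
      obtain ⟨l'', hl''⟩ := aut_stab hF hσ hn α hf0 hff hf0 hff hfX t t' ht'.symm ht3
      have hl0' : l' ≠ 0 := by
        rintro rfl
        rw [zero_smul] at hl'
        exact su_mulVec_ne_zero hσ hσσ t' he0 hl'
      have hl0'' : l'' ≠ 0 := by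
        rintro rfl
        rw [zero_smul] at hl''
        exact su_mulVec_ne_zero hσ hσσ t' hf0 hl''
      have h1 : hf σ (t'.1.1 *ᵥ d) e = 0 := by
        have := su_pres hσ t' d e
        rw [hl', hf_smul_right, hde] at this
        rcases mul_eq_zero.mp this with h5 | h5
        · exact absurd ((map_eq_zero σ).mp h5) hl0'
        · exact h5
      have h2 : hf σ (t'.1.1 *ᵥ d) f = 0 := by
        have := su_pres hσ t' d f
        rw [hl'', hf_smul_right, hdf] at this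
        rcases mul_eq_zero.mp this with h5 | h5
        · exact absurd ((map_eq_zero σ).mp h5) hl0''
        · exact h5
      obtain ⟨ρ', hρ'⟩ := hWd _ h1 h2
      refine ⟨t, t', l, σ l / l, l', ρ', ht'.symm, ht1, hl', ht2, hρ', ?_⟩
      rw [pow_two]
      ring)
  refine ⟨τ, fun w hwe hwf κ => ?_⟩
  obtain ⟨c, rfl⟩ := hWd w hwe hwf
  rw [smul_smul, hτ, hτ c, smul_smul, map_mul]

/-- `ψ` is semilinear on `W`. -/
theorem QData.semilinear (hs : ¬ (n = 3 ∧ q = 2)) :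
    ∃ τ : F ≃+* F, ∀ w, hf σ w e = 0 → hf σ w f = 0 → ∀ κ : F, ψ (κ • w) = τ κ • ψ w := by
  by_cases hn3 : n = 3
  · have hq2 := q_ge_two' hF
    have hq : 3 ≤ q := by
      by_contra hcon
      exact hs ⟨hn3, by omega⟩
    exact hD.semilinear3 hF hσ p hn he0 hee hff hfe he hfX hn3 hq
  · exact hD.semilinear4 hF hσ p hn he0 hee hff hfe he hfX (by omega)

end qdata

end fin

end Cfsg.Agent.Lib.Helper16.UA
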