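import Cfsg.Agent.Lib.Helper16.UA11

set_option autoImplicit false
set_option linter.unusedSectionVars false
set_option linter.unusedVariables false

namespace Cfsg.Agent.Lib.Helper16.UA

open Matrix Cfsg.Agent.Lib.Helper16.PU Cfsg.Agent.Lib.Helper16.PG
open Cfsg.Agent.Lib.Helper16.SPA (par par_refl par_symm par_trans par_ne_zero par_smul)

universe u
variable {n : ℕ} {F : Type u} [Field F] {q : ℕ}

section fin
variable [Fintype F] {σ : F ≃+* F} (hF : Fintype.card F = q ^ 2) (hσ : ∀ a, σ a = a ^ q)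
include hF hσ

/-- a pair of vectors of `W` pairing to one. -/
theorem exists_pair_W (hn : 3 ≤ n) {e f : Fin n → F} (hee : hf σ e e = 0) (hff : hf σ f f = 0)
    (hfe : hf σ f e = 1) :
    ∃ w₀ w₀' : Fin n → F, hf σ w₀ e = 0 ∧ hf σ w₀ f = 0 ∧ hf σ w₀' e = 0 ∧ hf σ w₀' f = 0 ∧
      hf σ w₀ w₀' = 1 := by
  have hσσ := bar_bar hF σ hσ
  obtain ⟨u, hu⟩ := exists_not_span hF hσ hn e f
  set d := prW σ e f u with hd
  have hde : hf σ d e = 0 := prW_perp_e hee hfe u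
  have hdf : hf σ d f = 0 := prW_perp_f hσσ hff hfe u
  have hd0 : d ≠ 0 := by
    intro h0
    apply hu (hf σ u f) (hf σ u e)
    have := prW_decomp (σ := σ) e f u
    rw [← hd, h0, zero_add, add_comm] at this
    exact this
  obtain ⟨x, hx⟩ := exists_dual hσ hσσ hd0
  refine ⟨prW σ e f x, d, prW_perp_e hee hfe x, prW_perp_f hσσ hff hfe x, hde, hdf, ?_⟩
  unfold prW
  rw [hf_sub_left, hf_sub_left, hf_smul_left, hf_smul_left, hf_swap_zero σ hσσ hde,
    hf_swap_zero σ hσσ hdf, hx]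
  ring

/-- trace-zero elements are of the form `x - σ x`. -/
theorem exists_T {a : F} (ha : a + σ a = 0) : ∃ x : F, x - σ x = a := by
  have hσσ := bar_bar hF σ hσ
  obtain ⟨θm, hθ⟩ := exists_moved hF σ hσ
  have hy : θm - σ θm ≠ 0 := sub_ne_zero.mpr (Ne.symm hθ)
  refine ⟨a / (θm - σ θm) * θm, ?_⟩
  have h1 : σ (a / (θm - σ θm)) = a / (θm - σ θm) := by
    rw [map_div₀, map_sub, hσσ]
    have h2 : σ a = -a := by linear_combination ha
    rw [h2]
    have h3 : σ θm - θm = -(θm - σ θm) := by ring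
    rw [h3, neg_div_neg_eq]
  rw [map_mul, h1, ← mul_sub, div_mul_cancel₀ _ hy]

/-- in dimension three, `W` is an anisotropic line. -/
theorem exists_d3 (hn3 : n = 3) {e f : Fin n → F} (he0 : e ≠ 0) (hee : hf σ e e = 0) (hff : hf σ f f = 0)
    (hfe : hf σ f e = 1) :
    ∃ d : Fin n → F, d ≠ 0 ∧ hf σ d e = 0 ∧ hf σ d f = 0 ∧ hf σ d d ≠ 0 ∧
      ∀ w, hf σ w e = 0 → hf σ w f = 0 → ∃ c : F, w = c • d := by
  have hσσ := bar_bar hF σ hσ
  have hef : hf σ e f = 1 := hyp_swap hσσ hfe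
  obtain ⟨u, hu⟩ := exists_not_span hF hσ (by omega) e f
  set d := prW σ e f u with hd
  have hde : hf σ d e = 0 := prW_perp_e hee hfe u
  have hdf : hf σ d f = 0 := prW_perp_f hσσ hff hfe u
  have hd0 : d ≠ 0 := by
    intro h0
    apply hu (hf σ u f) (hf σ u e)
    have := prW_decomp (σ := σ) e f u
    rw [← hd, h0, zero_add, add_comm] at this
    exact this
  have hdne : ¬ ∃ k : F, d = k • e := by
    rintro ⟨k, hk⟩
    have h1 := hdf
    rw [hk, hf_smul_left, hef, mul_one] at h1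
    rw [h1, zero_smul] at hk
    exact hd0 hk
  have hWd : ∀ w, hf σ w e = 0 → hf σ w f = 0 → ∃ c : F, w = c • d := by
    intro w hwe hwf
    obtain ⟨a, b, hab⟩ := perp_span3 hF hσ hn3 he0 hee hde hwe hdne
    have h1 := hwf
    rw [hab, hf_add_left, hf_smul_left, hf_smul_left, hef, hdf, mul_one, mul_zero, add_zero] at h1
    rw [h1, zero_smul, zero_add] at hab
    exact ⟨b, hab⟩
  refine ⟨d, hd0, hde, hdf, ?_, hWd⟩
  intro h0
  obtain ⟨d', _, hd'd, hd'e, hd'f⟩ := exists_hyp_partner_W hF hσ hee hff hfe hd0 h0 hde hdf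
  obtain ⟨c, hc⟩ := hWd d' hd'e hd'f
  rw [hc, hf_smul_left, h0, mul_zero] at hd'd
  exact zero_ne_one hd'd

section qdata
variable (p : ℕ) [Fact p.Prime] [CharP F p] (hn : 3 ≤ n) {α : MulAut (Cfsg.PSU n F q)}
  {e f : Fin n → F} (he0 : e ≠ 0) (hee : hf σ e e = 0) (hff : hf σ f f = 0) (hfe : hf σ f e = 1)
  {ψ : (Fin n → F) → (Fin n → F)} {θ : (Fin n → F) → F → F} (hD : QData q σ α e f ψ θ)
  (he : (Xb q σ e).map α.toMonoidHom = Xb q σ e) (hfX : (Xb q σ f).map α.toMonoidHom = Xb q σ f)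
  {τ : F ≃+* F} (hτ : ∀ w, hf σ w e = 0 → hf σ w f = 0 → ∀ κ : F, ψ (κ • w) = τ κ • ψ w)
include p hn he0 hee hff hfe hD he hfX hτ

/-- `ψ` is a semi-similitude of `W`. -/
theorem QData.form :
    ∃ ν : F, ν ≠ 0 ∧ σ ν = ν ∧ (∀ w w', hf σ w e = 0 → hf σ w f = 0 → hf σ w' e = 0 → hf σ w' f = 0 →
      hf σ (ψ w) (ψ w') = ν * τ (hf σ w w')) ∧ (∀ a : F, a + σ a = 0 → θ 0 a = ν * τ a) := by
  have hσσ := bar_bar hF σ hσ
  obtain ⟨w₀, w₀', h1, h2, h3, h4, h5⟩ := exists_pair_W hF hσ hn hee hff hfe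
  set ν := hf σ (ψ w₀) (ψ w₀') with hν
  have hcomm : ∀ x : F, τ (σ x) = σ (τ x) := fun x => bar_comm σ hσ τ x
  -- the relation for scalar multiples
  have hrel : ∀ (w w' : Fin n → F), hf σ w e = 0 → hf σ w f = 0 → hf σ w' e = 0 → hf σ w' f = 0 →
      ∀ κ : F, θ 0 (κ * hf σ w w' - σ (κ * hf σ w w')) =
        τ κ * hf σ (ψ w) (ψ w') - σ (τ κ * hf σ (ψ w) (ψ w')) := by
    intro w w' k1 k2 k3 k4 κ
    have k1' : hf σ (κ • w) e = 0 := by rw [hf_smul_left, k1, mul_zero]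
    have k2' : hf σ (κ • w) f = 0 := by rw [hf_smul_left, k2, mul_zero]
    have := hD.comm_rel hF hσ p hn he0 hee hfe k1' k2' k3 k4
    rw [hτ w k1 k2, hf_smul_left, hf_smul_left, ← hf_swap σ hσσ (κ • w) w', ← hf_swap σ hσσ (τ κ • ψ w) (ψ w'),
      hf_smul_left, hf_smul_left] at this
    exact this
  have hbase : ∀ κ : F, θ 0 (κ - σ κ) = τ κ * ν - σ (τ κ * ν) := by
    intro κ
    have := hrel w₀ w₀' h1 h2 h3 h4 κ
    rw [h5, mul_one] at this
    exact this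
  obtain ⟨θm, hθm⟩ := exists_moved hF σ hσ
  have hform : ∀ w w', hf σ w e = 0 → hf σ w f = 0 → hf σ w' e = 0 → hf σ w' f = 0 →
      hf σ (ψ w) (ψ w') = ν * τ (hf σ w w') := by
    intro w w' k1 k2 k3 k4
    by_contra hne
    set δ := hf σ (ψ w) (ψ w') - ν * τ (hf σ w w') with hδ
    have hδ0 : δ ≠ 0 := sub_ne_zero.mpr hne
    have hall : ∀ κ : F, τ κ * δ - σ (τ κ * δ) = 0 := by
      intro κ
      have e1 := hrel w w' k1 k2 k3 k4 κ
      have e2 := hbase (κ * hf σ w w')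
      rw [e2, map_mul] at e1
      have e3 : τ κ * δ = τ κ * hf σ (ψ w) (ψ w') - τ κ * τ (hf σ w w') * ν := by rw [hδ]; ring
      rw [e3, map_sub]
      linear_combination -e1
    obtain ⟨κ, hκ⟩ := τ.surjective (θm / δ)
    have := hall κ
    rw [hκ, div_mul_cancel₀ _ hδ0] at this
    exact hθm (sub_eq_zero.mp this).symm
  have hνσ : σ ν = ν := by
    have e1 := hform w₀' w₀ h3 h4 h1 h2
    rw [← hf_swap σ hσσ w₀ w₀', h5, map_one, map_one, mul_one, ← hf_swap σ hσσ (ψ w₀) (ψ w₀')] at e1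
    exact e1
  have hν0 : ν ≠ 0 := by
    intro h0
    obtain ⟨x₁, m1, m2, m3⟩ := hD.surj hF hσ p hn he0 hee hfe he h1 h2
    obtain ⟨x₂, m4, m5, m6⟩ := hD.surj hF hσ p hn he0 hee hfe he h3 h4
    have := hform x₁ x₂ m1 m2 m4 m5
    rw [m3, m6, h5, h0, zero_mul] at this
    exact one_ne_zero this
  refine ⟨ν, hν0, hνσ, hform, fun a ha => ?_⟩
  obtain ⟨x, hx⟩ := exists_T hF hσ ha
  rw [← hx, hbase x, map_mul, hνσ, map_sub, hcomm]
  ring

section eta
variable {ν : F} (hν0 : ν ≠ 0) (hνσ : σ ν = ν)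
  (hform : ∀ w w', hf σ w e = 0 → hf σ w f = 0 → hf σ w' e = 0 → hf σ w' f = 0 →
      hf σ (ψ w) (ψ w') = ν * τ (hf σ w w'))
  (hθ0 : ∀ a : F, a + σ a = 0 → θ 0 a = ν * τ a)
include hν0 hνσ hform hθ0

theorem QData.eta_indep {w : Fin n → F} {c₁ c₂ : F} (hwe : hf σ w e = 0) (hwf : hf σ w f = 0)
    (hc₁ : c₁ + σ c₁ + hf σ w w = 0) (hc₂ : c₂ + σ c₂ + hf σ w w = 0) :
    θ w c₁ - ν * τ c₁ = θ w c₂ - ν * τ c₂ := by
  have ha : (c₁ - c₂) + σ (c₁ - c₂) = 0 := by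
    rw [map_sub]
    linear_combination hc₁ - hc₂
  have h1 := hD.theta_add hF hσ p hn he0 hee hfe hwe hwf hc₂ ha
  rw [add_sub_cancel, hθ0 _ ha, map_sub] at h1
  rw [h1]
  ring

theorem QData.eta_add {w w' : Fin n → F} {c c' c'' : F} (hwe : hf σ w e = 0) (hwf : hf σ w f = 0)
    (hc : c + σ c + hf σ w w = 0) (hwe' : hf σ w' e = 0) (hwf' : hf σ w' f = 0)
    (hc' : c' + σ c' + hf σ w' w' = 0) (hc'' : c'' + σ c'' + hf σ (w + w') (w + w') = 0) :
    θ (w + w') c'' - ν * τ c'' = (θ w c - ν * τ c) + (θ w' c' - ν * τ c') := by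
  have hσσ := bar_bar hF σ hσ
  have hwe'' : hf σ (w + w') e = 0 := by rw [hf_add_left, hwe, hwe', add_zero]
  have hwf'' : hf σ (w + w') f = 0 := by rw [hf_add_left, hwf, hwf', add_zero]
  have hc3 : (c + c' - hf σ w' w) + σ (c + c' - hf σ w' w) + hf σ (w + w') (w + w') = 0 := by
    simp only [hf_add_left, hf_add_right, map_add, map_sub]
    rw [hf_swap σ hσσ w' w]
    linear_combination hc + hc'
  rw [hD.eta_indep hF hσ p hn he0 hee hff hfe he hfX hτ hν0 hνσ hform hθ0 hwe'' hwf'' hc'' hc3,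
    (hD.mul hF hσ p hn he0 hee hfe hwe hwf hc hwe' hwf' hc').2, hform w' w hwe' hwf' hwe hwf, map_sub,
    map_add]
  ring

theorem QData.eta_trace {w : Fin n → F} {c : F} (hwe : hf σ w e = 0) (hwf : hf σ w f = 0)
    (hc : c + σ c + hf σ w w = 0) : (θ w c - ν * τ c) + σ (θ w c - ν * τ c) = 0 := by
  obtain ⟨h1, h2, h3, h4⟩ := hD.spec w c hwe hwf hc
  rw [hform w w hwe hwf hwe hwf] at h3
  have h5 : τ (c + σ c + hf σ w w) = 0 := by rw [hc, map_zero]
  rw [map_add, map_add, bar_comm σ hσ τ c] at h5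
  rw [map_sub, map_mul, hνσ]
  linear_combination h3 - ν * h5

theorem QData.eta_zero4 (hn4 : 4 ≤ n) {w : Fin n → F} {c : F} (hwe : hf σ w e = 0) (hwf : hf σ w f = 0)
    (hc : c + σ c + hf σ w w = 0) : θ w c = ν * τ c := by
  have hσσ := bar_bar hF σ hσ
  have hW := W_induction hF hσ hn4 hee hff hfe
    (fun y => hf σ y e = 0 ∧ hf σ y f = 0 ∧ ∀ c : F, c + σ c + hf σ y y = 0 → θ y c - ν * τ c = 0)
    (by
      rintro y z ⟨h1, h2, h3⟩ ⟨k1, k2, k3⟩
      refine ⟨?_, ?_, fun c'' hc'' => ?_⟩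
      · rw [hf_add_left, h1, k1, add_zero]
      · rw [hf_add_left, h2, k2, add_zero]
      · obtain ⟨c, hc⟩ := exists_adm hF hσ y
        obtain ⟨c', hc'⟩ := exists_adm hF hσ z
        rw [hD.eta_add hF hσ p hn he0 hee hff hfe he hfX hτ hν0 hνσ hform hθ0 h1 h2 hc k1 k2 hc' hc'',
          h3 c hc, k3 c' hc', add_zero])
    (by
      intro r hrr hre hrf
      refine ⟨hre, hrf, fun c hc => ?_⟩
      have h0 : (0 : F) + σ 0 + hf σ r r = 0 := by rw [hrr, map_zero]; ring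
      rw [hD.eta_indep hF hσ p hn he0 hee hff hfe he hfX hτ hν0 hνσ hform hθ0 hre hrf hc h0]
      by_cases hr0 : r = 0
      · subst hr0
        have h00 : (0 : F) + σ 0 = 0 := by rw [map_zero, add_zero]
        rw [hθ0 0 h00, map_zero, mul_zero, sub_zero]
      · obtain ⟨r', _, _, _, _, _, hline⟩ :=
          hD.iso_image hF hσ p hn he0 hee hff hfe he hfX hr0 hrr hre hrf
        obtain ⟨κ', _, hκ'⟩ := hline 1
        rw [one_smul] at hκ'
        rw [hκ', map_zero, mul_zero, sub_zero])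
  exact sub_eq_zero.mp ((hW w hwe hwf).2.2 c hc)

theorem QData.eta_zero3 (hn3 : n = 3) (hq : 3 ≤ q) {w : Fin n → F} {c : F} (hwe : hf σ w e = 0)
    (hwf : hf σ w f = 0) (hc : c + σ c + hf σ w w = 0) : θ w c = ν * τ c := by
  have hσσ := bar_bar hF σ hσ
  have hf0 : f ≠ 0 := by
    rintro rfl
    rw [hf_zero_left] at hfe
    exact zero_ne_one hfe
  obtain ⟨d, hd0, hde, hdf, hdd, hWd⟩ := exists_d3 hF hσ hn3 he0 hee hff hfe
  choose c₀ hc₀ using fun κ : F => exists_adm (n := n) hF hσ (κ • d)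
  have hWe : ∀ κ : F, hf σ (κ • d) e = 0 := fun κ => by rw [hf_smul_left, hde, mul_zero]
  have hWf : ∀ κ : F, hf σ (κ • d) f = 0 := fun κ => by rw [hf_smul_left, hdf, mul_zero]
  set η₁ : F → F := fun κ => θ (κ • d) (c₀ κ) - ν * τ (c₀ κ) with hη₁
  have hη₁add : ∀ x y, η₁ (x + y) = η₁ x + η₁ y := by
    intro x y
    have hc3 := hc₀ (x + y)
    rw [add_smul] at hc3
    have := hD.eta_add hF hσ p hn he0 hee hff hfe he hfX hτ hν0 hνσ hform hθ0 (hWe x) (hWf x) (hc₀ x)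
      (hWe y) (hWf y) (hc₀ y) hc3
    show θ ((x + y) • d) (c₀ (x + y)) - ν * τ (c₀ (x + y)) = _
    rw [add_smul]
    exact this
  have hη₁tr : ∀ x, η₁ x + σ (η₁ x) = 0 := fun x =>
    hD.eta_trace hF hσ p hn he0 hee hff hfe he hfX hτ hν0 hνσ hform hθ0 (hWe x) (hWf x) (hc₀ x)
  -- it suffices that η₁ vanishes
  suffices hzero : ∀ κ, η₁ κ = 0 by
    obtain ⟨κ, rfl⟩ := hWd w hwe hwf
    have h1 := hD.eta_indep hF hσ p hn he0 hee hff hfe he hfX hτ hν0 hνσ hform hθ0 hwe hwf hc (hc₀ κ)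
    have h2 : θ (κ • d) (c₀ κ) - ν * τ (c₀ κ) = 0 := hzero κ
    rw [h2] at h1
    exact sub_eq_zero.mp h1
  by_contra hcon
  push Not at hcon
  obtain ⟨κ₀, hκ₀⟩ := hcon
  -- the torus relation
  have htorus : ∀ l : F, l ≠ 0 → ∃ N' : F, ∀ y : F, η₁ (σ l ^ 2 / l * y) = N' * η₁ y := by
    intro l hl
    obtain ⟨t, ht1, ht2, ht3⟩ := exists_torus3 hF hσ hee hff hfe hde hdf hdd hl
    obtain ⟨t', ht'⟩ := mkU_surjective (α (mkU n F q t))
    obtain ⟨l', hl'⟩ := aut_stab hF hσ hn α he0 hee he0 hee he t t' ht'.symm ht1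
    obtain ⟨l'', hl''⟩ := aut_stab hF hσ hn α hf0 hff hf0 hff hfX t t' ht'.symm ht3
    have hl0' : l' ≠ 0 := by
      rintro rfl
      rw [zero_smul] at hl'
      exact su_mulVec_ne_zero hσ hσσ t' he0 hl'
    have hl0'' : l'' ≠ 0 := by
      rintro rfl
      rw [zero_smul] at hl''
      exact su_mulVec_ne_zero hσ hσσ t' hf0 hl''
    have hperpf : ∀ y : Fin n → F, hf σ y f = 0 → hf σ (t'.1.1 *ᵥ y) f = 0 := by
      intro y hy
      have := su_pres hσ t' y f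
      rw [hl'', hf_smul_right, hy] at this
      rcases mul_eq_zero.mp this with h5 | h5
      · exact absurd ((map_eq_zero σ).mp h5) hl0''
      · exact h5
    have hperpf' : ∀ y : Fin n → F, hf σ y f = 0 → hf σ (t.1.1 *ᵥ y) f = 0 := by
      intro y hy
      have := su_pres hσ t y f
      rw [ht3, hf_smul_right, hy] at this
      rcases mul_eq_zero.mp this with h5 | h5
      · have h6 : (σ l)⁻¹ = 0 := (map_eq_zero σ).mp h5
        exact absurd (inv_eq_zero.mp h6) ((map_ne_zero σ).mpr hl)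
      · exact h5
    -- the multiplier on transvections
    obtain ⟨a, ha0, ha⟩ := exists_skew hF σ hσ
    have ha' : a + σ a = 0 := by rw [ha]; ring
    have h0e : hf σ (0 : Fin n → F) e = 0 := hf_zero_left σ e
    have h0f : hf σ (0 : Fin n → F) f = 0 := hf_zero_left σ f
    have ha'' : a + σ a + hf σ (0 : Fin n → F) 0 = 0 := by rw [hf_zero_left, add_zero]; exact ha'
    have hψ0 : ψ 0 = 0 := hD.zero hF hσ p hn he0 hee hfe
    have hN : l' * σ l' = τ (l * σ l) := by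
      have h1 := (hD.torus hF hσ p hn he0 hee hfe h0e h0f ha'' t t' ht'.symm ht1 hl'
        (by rw [Matrix.mulVec_zero]; exact h0f) (by rw [hψ0, Matrix.mulVec_zero]; exact h0f)).2
      rw [Matrix.mulVec_zero, smul_zero] at h1
      have ha3 : (l * σ l * a) + σ (l * σ l * a) = 0 := by
        rw [map_mul, map_mul, hσσ]
        linear_combination (l * σ l) * ha'
      rw [hθ0 _ ha3, hθ0 _ ha', map_mul] at h1
      have hτa : τ a ≠ 0 := (map_ne_zero τ).mpr ha0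
      have h2 : (τ (l * σ l) - l' * σ l') * (ν * τ a) = 0 := by linear_combination h1
      rcases mul_eq_zero.mp h2 with h3 | h3
      · exact (sub_eq_zero.mp h3).symm
      · exact absurd h3 (mul_ne_zero hν0 hτa)
    refine ⟨τ (l * σ l), fun y => ?_⟩
    have h1 := (hD.torus hF hσ p hn he0 hee hfe (hWe y) (hWf y) (hc₀ y) t t' ht'.symm ht1 hl'
      (hperpf' _ (hWf y)) (hperpf _ (hD.spec _ _ (hWe y) (hWf y) (hc₀ y)).2.1)).2
    have h2 : σ l • (t.1.1 *ᵥ (y • d)) = (σ l ^ 2 / l * y) • d := by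
      rw [Matrix.mulVec_smul, ht2, smul_smul, smul_smul]
      congr 1
      field_simp
    rw [h2, hN] at h1
    have hadm : (l * σ l * c₀ y) + σ (l * σ l * c₀ y) +
        hf σ ((σ l ^ 2 / l * y) • d) ((σ l ^ 2 / l * y) • d) = 0 := by
      rw [← h2, hf_smul_left, hf_smul_right, su_pres hσ, map_mul, map_mul, hσσ]
      linear_combination (l * σ l) * hc₀ y
    have h3 := hD.eta_indep hF hσ p hn he0 hee hff hfe he hfX hτ hν0 hνσ hform hθ0
      (hWe (σ l ^ 2 / l * y)) (hWf (σ l ^ 2 / l * y)) (hc₀ (σ l ^ 2 / l * y)) hadm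
    show θ ((σ l ^ 2 / l * y) • d) (c₀ (σ l ^ 2 / l * y)) - ν * τ (c₀ (σ l ^ 2 / l * y)) =
      τ (l * σ l) * (θ (y • d) (c₀ y) - ν * τ (c₀ y))
    rw [h3, h1]
    simp only [map_mul]
    ring
  -- apply the torus lemma to y ↦ η₁ (y κ₀)
  obtain ⟨τ', hτ'⟩ := semilinear_of_torus (fun y => η₁ (y * κ₀))
    (fun x y => by show η₁ ((x + y) * κ₀) = _; rw [add_mul, hη₁add])
    (by show η₁ (1 * κ₀) ≠ 0; rw [one_mul]; exact hκ₀)
    {m | ∃ l : F, l ≠ 0 ∧ m = σ l ^ 2 / l}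
    (by
      rintro m ⟨l, hl, rfl⟩
      obtain ⟨N', hN'⟩ := htorus l hl
      refine ⟨N', fun κ => ?_⟩
      show η₁ (σ l ^ 2 / l * κ * κ₀) = N' * η₁ (κ * κ₀)
      rw [mul_assoc, hN'])
    (by
      intro K hK
      apply gen3 hF hσ hq K
      intro l hl
      exact hK ⟨l, hl, rfl⟩)
  obtain ⟨z₀, hz₀⟩ := exists_tr hF hσ 1 (map_one σ)
  obtain ⟨y, hy⟩ := τ'.surjective (z₀ / η₁ (1 * κ₀))
  have h1 : η₁ (y * κ₀) = τ' y * η₁ (1 * κ₀) := hτ' y
  rw [hy, div_mul_cancel₀] at h1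
  · have h2 := hη₁tr (y * κ₀)
    rw [h1, hz₀] at h2
    exact one_ne_zero h2
  · rw [one_mul]; exact hκ₀

theorem QData.eta_zero (hs : ¬ (n = 3 ∧ q = 2)) {w : Fin n → F} {c : F} (hwe : hf σ w e = 0)
    (hwf : hf σ w f = 0) (hc : c + σ c + hf σ w w = 0) : θ w c = ν * τ c := by
  by_cases hn3 : n = 3
  · have hq2 := q_ge_two' hF
    have hq : 3 ≤ q := by
      by_contra hcon
      exact hs ⟨hn3, by omega⟩
    exact hD.eta_zero3 hF hσ p hn he0 hee hff hfe he hfX hτ hν0 hνσ hform hθ0 hn3 hq hwe hwf hc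
  · exact hD.eta_zero4 hF hσ p hn he0 hee hff hfe he hfX hτ hν0 hνσ hform hθ0 (by omega) hwe hwf hc

end eta

end qdata

end fin

end Cfsg.Agent.Lib.Helper16.UA
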