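import Cfsg.Agent.Lib.Helper16.UA12

set_option autoImplicit false
set_option linter.unusedSectionVars false
set_option linter.unusedVariables false

namespace Cfsg.Agent.Lib.Helper16.UA

open Matrix Cfsg.Agent.Lib.Helper16.PU Cfsg.Agent.Lib.Helper16.PG
open Cfsg.Agent.Lib.Helper16.SPA (par par_refl par_symm par_trans par_ne_zero par_smul)

universe u
variable {n : ℕ} {F : Type u} [Field F] {q : ℕ}

section fin
variable [Fintype F] {σ : F ≃+* F} (hF : Fintype.card F = q ^ 2) (hσ : ∀ a, σ a = a ^ q)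
include hF hσ

omit [Fintype F] hF in
theorem hf_comp (τ : F ≃+* F) (x y : Fin n → F) : hf σ (⇑τ ∘ x) (⇑τ ∘ y) = τ (hf σ x y) := by
  rw [← herm_eq_hf σ hσ, ← herm_eq_hf σ hσ]
  exact herm_comp τ x y

/-- a semilinear semi-similitude is `x ↦ X (τ ∘ x)` for a Hermitian similitude `X`. -/
theorem exists_simU_of_semilinear (τ : F ≃+* F) (ν : F) (hν0 : ν ≠ 0) (Φ : (Fin n → F) → (Fin n → F))
    (hadd : ∀ x y, Φ (x + y) = Φ x + Φ y) (hsmul : ∀ (κ : F) x, Φ (κ • x) = τ κ • Φ x)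
    (hform : ∀ x y, hf σ (Φ x) (Φ y) = ν * τ (hf σ x y)) :
    ∃ X : ↥(simU n F q), ∀ x, (X.1 : Matrix (Fin n) (Fin n) F) *ᵥ (⇑τ ∘ x) = Φ x := by
  classical
  have hσσ := bar_bar hF σ hσ
  set M : Matrix (Fin n) (Fin n) F := Matrix.of (fun i j => Φ (Pi.single j 1) i) with hM
  have hMx : ∀ x, M *ᵥ (⇑τ ∘ x) = Φ x := by
    intro x
    have h1 : Φ x = ∑ j, τ (x j) • Φ (Pi.single j 1) := by
      conv_lhs => rw [pi_eq_sum_univ' x]
      have := map_sum (AddMonoidHom.mk' Φ hadd) (fun j => x j • (Pi.single j 1 : Fin n → F)) Finset.univ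
      simp only [AddMonoidHom.mk'_apply] at this
      rw [this]
      apply Finset.sum_congr rfl
      intro j _
      rw [hsmul]
    rw [h1]
    funext i
    rw [Matrix.mulVec, dotProduct, Finset.sum_apply]
    apply Finset.sum_congr rfl
    intro j _
    simp only [hM, Matrix.of_apply, Function.comp_apply, Pi.smul_apply, smul_eq_mul]
    ring
  have hτsurj : ∀ y : Fin n → F, ∃ x : Fin n → F, ⇑τ ∘ x = y := fun y =>
    ⟨⇑τ.symm ∘ y, by funext i; simp⟩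
  have hinj : Function.Injective M.mulVec := by
    intro y y' hyy'
    obtain ⟨x, rfl⟩ := hτsurj y
    obtain ⟨x', rfl⟩ := hτsurj y'
    have h1 : Φ x = Φ x' := by rw [← hMx, ← hMx]; exact hyy'
    have h2 : x - x' = 0 := by
      apply hf_nondeg_left σ hσσ
      intro z
      have h3 := hform (x - x') z
      have h4 : Φ (x - x') = 0 := by
        have := hadd (x - x') x'
        rw [sub_add_cancel, h1] at this
        exact add_eq_right.mp this.symm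
      rw [h4, hf_zero_left] at h3
      rcases mul_eq_zero.mp h3.symm with h5 | h5
      · exact absurd h5 hν0
      · exact (map_eq_zero τ).mp h5
    rw [sub_eq_zero.mp h2]
  have hunit : IsUnit M := Matrix.mulVec_injective_iff_isUnit.mp hinj
  have hXmem : hunit.unit ∈ simU n F q := by
    rw [mem_simU_iff]
    refine ⟨Units.mk0 ν hν0, fun u v => ?_⟩
    obtain ⟨x, rfl⟩ := hτsurj u
    obtain ⟨x', rfl⟩ := hτsurj v
    show Cfsg.hermForm n F q (M *ᵥ _) (M *ᵥ _) = _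
    rw [hMx, hMx, herm_eq_hf σ hσ, herm_eq_hf σ hσ, hform, hf_comp hσ, Units.val_mk0]
  exact ⟨⟨hunit.unit, hXmem⟩, hMx⟩

section beta
variable {τ : F ≃+* F} {ν : F} (hν0 : ν ≠ 0) (hνσ : σ ν = ν) {Φ : (Fin n → F) → (Fin n → F)}
  (hadd : ∀ x y, Φ (x + y) = Φ x + Φ y) (hsmul : ∀ (κ : F) x, Φ (κ • x) = τ κ • Φ x)
  (hform : ∀ x y, hf σ (Φ x) (Φ y) = ν * τ (hf σ x y))
  {X : ↥(simU n F q)} (hX : ∀ x, (X.1 : Matrix (Fin n) (Fin n) F) *ᵥ (⇑τ ∘ x) = Φ x)
include hν0 hνσ hadd hsmul hform hX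

omit [Fintype F] hF hσ hν0 hνσ hadd hsmul hform in
theorem beta_lift (s : ↥(Cfsg.SU n F q)) (z : Fin n → F) :
    (conjSU X (fieldSU τ s)).1.1 *ᵥ (Φ z) = Φ (s.1.1 *ᵥ z) := by
  have h1 : (conjSU X (fieldSU τ s)).1.1 = (X.1 : Matrix (Fin n) (Fin n) F) * (s.1.1).map ⇑τ *
      ((X.1⁻¹ : GL (Fin n) F) : Matrix (Fin n) (Fin n) F) := rfl
  rw [h1, ← hX z, Matrix.mulVec_mulVec, Matrix.mul_assoc, Matrix.mul_assoc, ← Units.val_mul,
    inv_mul_cancel, Units.val_one, Matrix.mul_one, ← Matrix.mulVec_mulVec, ← map_mulVec_comp, hX]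

omit [Fintype F] hF hσ hν0 hνσ hadd hsmul hform in
theorem Phi_surj (y : Fin n → F) : ∃ z, Φ z = y := by
  refine ⟨⇑τ.symm ∘ (((X.1⁻¹ : GL (Fin n) F) : Matrix (Fin n) (Fin n) F) *ᵥ y), ?_⟩
  rw [← hX]
  have : ⇑τ ∘ (⇑τ.symm ∘ (((X.1⁻¹ : GL (Fin n) F) : Matrix (Fin n) (Fin n) F) *ᵥ y)) =
      ((X.1⁻¹ : GL (Fin n) F) : Matrix (Fin n) (Fin n) F) *ᵥ y := by
    funext i
    simp
  rw [this, Matrix.mulVec_mulVec, ← Units.val_mul, mul_inv_cancel, Units.val_one, Matrix.one_mulVec]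

theorem beta_tvS {x : Fin n → F} (hxx : hf σ x x = 0) {a : F} (ha : a + σ a = 0) :
    conjSU X (fieldSU τ (tvS q σ x a)) = tvS q σ (Φ x) (τ a / ν) := by
  have hσσ := bar_bar hF σ hσ
  have hΦx : hf σ (Φ x) (Φ x) = 0 := by rw [hform, hxx, map_zero, mul_zero]
  have ha' : τ a / ν + σ (τ a / ν) = 0 := by
    rw [map_div₀, hνσ, ← bar_comm σ hσ τ a, ← add_div, ← map_add, ha, map_zero, zero_div]
  apply su_ext
  intro y
  obtain ⟨z, rfl⟩ := Phi_surj hX y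
  rw [beta_lift hX, tvS_mulVec hσ hσσ hxx ha, tvS_mulVec hσ hσσ hΦx ha', hadd, hsmul, hform, map_mul]
  congr 1
  congr 1
  field_simp

theorem beta_Xb {x : Fin n → F} (hxx : hf σ x x = 0) :
    (Xb q σ x).map (PhiU n F q X * fieldU n q τ).toMonoidHom = Xb q σ (Φ x) := by
  have hσσ := bar_bar hF σ hσ
  have hel : ∀ a : F, a + σ a = 0 → (PhiU n F q X * fieldU n q τ) (mkU n F q (tvS q σ x a)) =
      mkU n F q (tvS q σ (Φ x) (τ a / ν)) := by
    intro a ha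
    show PhiU n F q X (fieldU n q τ (QuotientGroup.mk (tvS q σ x a))) = _
    rw [fieldU_mk, PhiU_mk, beta_tvS hF hσ hν0 hνσ hadd hsmul hform hX hxx ha]
    rfl
  ext y
  constructor
  · rintro ⟨_, hy, rfl⟩
    obtain ⟨a, ha, rfl⟩ := (mem_Xb_iff σ x _).mp hy
    rw [mem_Xb_iff]
    refine ⟨τ a / ν, ?_, hel a ha⟩
    rw [map_div₀, hνσ, ← bar_comm σ hσ τ a, ← add_div, ← map_add, ha, map_zero, zero_div]
  · intro hy
    obtain ⟨a', ha', rfl⟩ := (mem_Xb_iff σ (Φ x) _).mp hy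
    have ha : τ.symm (ν * a') + σ (τ.symm (ν * a')) = 0 := by
      have h1 : σ (τ.symm (ν * a')) = τ.symm (σ (ν * a')) := (bar_comm σ hσ τ.symm (ν * a')).symm
      rw [h1, ← map_add, map_mul, hνσ, ← mul_add, ha', mul_zero, map_zero]
    refine ⟨mkU n F q (tvS q σ x (τ.symm (ν * a'))), (mem_Xb_iff σ x _).mpr ⟨_, ha, rfl⟩, ?_⟩
    show (PhiU n F q X * fieldU n q τ) (mkU n F q (tvS q σ x (τ.symm (ν * a')))) = _
    rw [hel _ ha, RingEquiv.apply_symm_apply, mul_div_cancel_left₀ _ hν0]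

end beta

end fin

end Cfsg.Agent.Lib.Helper16.UA
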