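import Cfsg.Agent.Lib.Helper16.UA13

set_option autoImplicit false
set_option linter.unusedSectionVars false
set_option linter.unusedVariables false

namespace Cfsg.Agent.Lib.Helper16.UA

open Matrix Cfsg.Agent.Lib.Helper16.PU Cfsg.Agent.Lib.Helper16.PG
open Cfsg.Agent.Lib.Helper16.SPA (par par_refl par_symm par_trans par_ne_zero par_smul)

universe u
variable {n : ℕ} {F : Type u} [Field F] {q : ℕ}

/-- the semilinear map attached to the data of an automorphism. -/
def PhiQ (σ τ : F ≃+* F) (ν : F) (e f : Fin n → F) (ψ : (Fin n → F) → (Fin n → F)) (x : Fin n → F) :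
    Fin n → F :=
  ψ (prW σ e f x) + τ (hf σ x e) • f + (ν * τ (hf σ x f)) • e

theorem prW_add (σ : F ≃+* F) (e f x y : Fin n → F) : prW σ e f (x + y) = prW σ e f x + prW σ e f y := by
  unfold prW
  rw [hf_add_left, hf_add_left]
  module

theorem prW_smul (σ : F ≃+* F) (e f : Fin n → F) (κ : F) (x : Fin n → F) :
    prW σ e f (κ • x) = κ • prW σ e f x := by
  unfold prW
  rw [hf_smul_left, hf_smul_left]
  module

/-- an element of `SU` as an element of `GL`. -/
def suGL (s : ↥(Cfsg.SU n F q)) : GL (Fin n) F where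
  val := s.1.1
  inv := (s⁻¹).1.1
  val_inv := by
    have := congrArg (fun t : ↥(Cfsg.SU n F q) => t.1.1) (mul_inv_cancel s)
    exact this
  inv_val := by
    have := congrArg (fun t : ↥(Cfsg.SU n F q) => t.1.1) (inv_mul_cancel s)
    exact this

theorem suGL_mem (s : ↥(Cfsg.SU n F q)) : suGL s ∈ simU n F q := by
  rw [mem_simU_iff]
  refine ⟨1, fun u v => ?_⟩
  rw [Units.val_one, one_mul]
  exact s.2 u v

theorem PhiU_suGL (s : ↥(Cfsg.SU n F q)) :
    PhiU n F q ⟨suGL s, suGL_mem s⟩ = MulAut.conj (mkU n F q s) := by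
  apply MulEquiv.ext
  intro y
  obtain ⟨t, rfl⟩ := mkU_surjective y
  show PhiU n F q ⟨suGL s, suGL_mem s⟩ (QuotientGroup.mk t) = _
  rw [PhiU_mk, MulAut.conj_apply, ← map_inv, ← map_mul, ← map_mul]
  show mkU n F q _ = _
  congr 1

section fin
variable [Fintype F] {σ : F ≃+* F} (hF : Fintype.card F = q ^ 2) (hσ : ∀ a, σ a = a ^ q)
include hF hσ

section qdata
variable (p : ℕ) [Fact p.Prime] [CharP F p] (hn : 3 ≤ n) {α : MulAut (Cfsg.PSU n F q)}
  {e f : Fin n → F} (he0 : e ≠ 0) (hee : hf σ e e = 0) (hff : hf σ f f = 0) (hfe : hf σ f e = 1)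
  {ψ : (Fin n → F) → (Fin n → F)} {θ : (Fin n → F) → F → F} (hD : QData q σ α e f ψ θ)
  (he : (Xb q σ e).map α.toMonoidHom = Xb q σ e) (hfX : (Xb q σ f).map α.toMonoidHom = Xb q σ f)
  {τ : F ≃+* F} (hτ : ∀ w, hf σ w e = 0 → hf σ w f = 0 → ∀ κ : F, ψ (κ • w) = τ κ • ψ w)
  {ν : F} (hν0 : ν ≠ 0) (hνσ : σ ν = ν)
  (hform : ∀ w w', hf σ w e = 0 → hf σ w f = 0 → hf σ w' e = 0 → hf σ w' f = 0 →
      hf σ (ψ w) (ψ w') = ν * τ (hf σ w w'))
  (hθ : ∀ w c, hf σ w e = 0 → hf σ w f = 0 → c + σ c + hf σ w w = 0 → θ w c = ν * τ c)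
include p hn he0 hee hff hfe hD he hfX hτ hν0 hνσ hform hθ

theorem QData.psi_W {w : Fin n → F} (hwe : hf σ w e = 0) (hwf : hf σ w f = 0) :
    hf σ (ψ w) e = 0 ∧ hf σ (ψ w) f = 0 := by
  obtain ⟨c, hc⟩ := exists_adm hF hσ w
  obtain ⟨h1, h2, _, _⟩ := hD.spec w c hwe hwf hc
  exact ⟨h1, h2⟩

theorem QData.PhiQ_add (x y : Fin n → F) :
    PhiQ σ τ ν e f ψ (x + y) = PhiQ σ τ ν e f ψ x + PhiQ σ τ ν e f ψ y := by
  have hσσ := bar_bar hF σ hσ
  unfold PhiQ
  rw [prW_add, hD.add hF hσ p hn he0 hee hfe (prW_perp_e hee hfe x) (prW_perp_f hσσ hff hfe x)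
    (prW_perp_e hee hfe y) (prW_perp_f hσσ hff hfe y), hf_add_left, hf_add_left, map_add, map_add]
  module

theorem QData.PhiQ_smul (κ : F) (x : Fin n → F) :
    PhiQ σ τ ν e f ψ (κ • x) = τ κ • PhiQ σ τ ν e f ψ x := by
  have hσσ := bar_bar hF σ hσ
  unfold PhiQ
  rw [prW_smul, hτ _ (prW_perp_e hee hfe x) (prW_perp_f hσσ hff hfe x), hf_smul_left, hf_smul_left,
    map_mul, map_mul]
  module

theorem QData.PhiQ_form (x y : Fin n → F) :
    hf σ (PhiQ σ τ ν e f ψ x) (PhiQ σ τ ν e f ψ y) = ν * τ (hf σ x y) := by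
  have hσσ := bar_bar hF σ hσ
  have hef : hf σ e f = 1 := hyp_swap hσσ hfe
  have hxe := prW_perp_e hee hfe x
  have hxf := prW_perp_f hσσ hff hfe x
  have hye := prW_perp_e hee hfe y
  have hyf := prW_perp_f hσσ hff hfe y
  obtain ⟨h1, h2⟩ := hD.psi_W hF hσ p hn he0 hee hff hfe he hfX hτ hν0 hνσ hform hθ hxe hxf
  obtain ⟨h3, h4⟩ := hD.psi_W hF hσ p hn he0 hee hff hfe he hfX hτ hν0 hνσ hform hθ hye hyf
  have hxy : hf σ x y = hf σ (prW σ e f x) (prW σ e f y) + hf σ x e * σ (hf σ y f) +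
      hf σ x f * σ (hf σ y e) := by
    conv_lhs => rw [prW_decomp (σ := σ) e f x, prW_decomp (σ := σ) e f y]
    simp only [hf_add_left, hf_add_right, hf_smul_left, hf_smul_right, hee, hff, hfe, hef, hxe, hxf,
      hf_swap_zero σ hσσ hye, hf_swap_zero σ hσσ hyf]
    ring
  unfold PhiQ
  simp only [hf_add_left, hf_add_right, hf_smul_left, hf_smul_right, hee, hff, hfe, hef, h1, h2,
    hf_swap_zero σ hσσ h3, hf_swap_zero σ hσσ h4, hform _ _ hxe hxf hye hyf]
  rw [hxy, map_add, map_add, map_mul, map_mul, map_mul, hνσ, bar_comm σ hσ τ, bar_comm σ hσ τ]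
  ring

theorem QData.PhiQ_iso {x : Fin n → F} (hxx : hf σ x x = 0) :
    hf σ (PhiQ σ τ ν e f ψ x) (PhiQ σ τ ν e f ψ x) = 0 := by
  rw [hD.PhiQ_form hF hσ p hn he0 hee hff hfe he hfX hτ hν0 hνσ hform hθ, hxx, map_zero, mul_zero]

/-- the automorphism acts on the transvection groups as the semilinear map `PhiQ`. -/
theorem QData.agree {x : Fin n → F} (hx0 : x ≠ 0) (hxx : hf σ x x = 0) :
    (Xb q σ x).map α.toMonoidHom = Xb q σ (PhiQ σ τ ν e f ψ x) := by
  have hσσ := bar_bar hF σ hσ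
  have hef : hf σ e f = 1 := hyp_swap hσσ hfe
  have hψ0 : ψ 0 = 0 := hD.zero hF hσ p hn he0 hee hfe
  have hPe : PhiQ σ τ ν e f ψ e = ν • e := by
    unfold PhiQ
    have h1 : prW σ e f e = 0 := by
      unfold prW
      rw [hee, hef, zero_smul, one_smul, sub_zero, sub_self]
    rw [h1, hψ0, hee, hef, map_zero, map_one, zero_smul, mul_one, zero_add, zero_add]
  have hsm := hD.PhiQ_smul hF hσ p hn he0 hee hff hfe he hfX hτ hν0 hνσ hform hθ
  have hiso := fun {y : Fin n → F} (hy : hf σ y y = 0) =>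
    hD.PhiQ_iso hF hσ p hn he0 hee hff hfe he hfX hτ hν0 hνσ hform hθ hy
  by_cases hxe : hf σ x e = 0
  · -- x ⊥ e
    set xW := prW σ e f x with hxW
    have hxWe : hf σ xW e = 0 := prW_perp_e hee hfe x
    have hxWf : hf σ xW f = 0 := prW_perp_f hσσ hff hfe x
    have hdec : x = xW + hf σ x f • e := by
      have := prW_decomp (σ := σ) e f x
      rw [hxe, zero_smul, add_zero] at this
      exact this
    have hPx : PhiQ σ τ ν e f ψ x = ψ xW + (ν * τ (hf σ x f)) • e := by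
      unfold PhiQ
      rw [hxe, map_zero, zero_smul, add_zero]
    by_cases hxW0 : xW = 0
    · rw [hxW0, zero_add] at hdec
      have hb0 : hf σ x f ≠ 0 := by
        intro h0
        rw [h0, zero_smul] at hdec
        exact hx0 hdec
      rw [hPx, hxW0, hψ0, zero_add]
      conv_lhs => rw [hdec]
      rw [Xb_smul hσ hσσ hee hb0, he,
        Xb_smul hσ hσσ hee (mul_ne_zero hν0 ((map_ne_zero τ).mpr hb0))]
    · have hxWW : hf σ xW xW = 0 := by
        have h1 := hxx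
        rw [hdec] at h1
        simp only [hf_add_left, hf_add_right, hf_smul_left, hf_smul_right, hee, hxWe,
          hf_swap_zero σ hσσ hxWe, mul_zero, add_zero] at h1
        exact h1
      obtain ⟨r', k, hk0, hr0', hrr', hr, hψr⟩ :=
        hD.iso_image_ne hF hσ p hn he0 hee hff hfe he hfX hxW0 hxWW hxWe hxWf
      -- choose w with ⟨xW, w⟩ = -b
      obtain ⟨y, hy⟩ := exists_dual hσ hσσ hxW0
      set w := σ (-(hf σ x f)) • prW σ e f y with hw
      have hwe : hf σ w e = 0 := by rw [hw, hf_smul_left, prW_perp_e hee hfe, mul_zero]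
      have hwf : hf σ w f = 0 := by rw [hw, hf_smul_left, prW_perp_f hσσ hff hfe, mul_zero]
      have hxWw : hf σ xW w = -(hf σ x f) := by
        have h1 : hf σ (prW σ e f y) xW = 1 := by
          unfold prW
          rw [hf_sub_left, hf_sub_left, hf_smul_left, hf_smul_left, hf_swap_zero σ hσσ hxWe,
            hf_swap_zero σ hσσ hxWf, hy]
          ring
        rw [hw, hf_smul_right, hσσ, ← hf_swap σ hσσ (prW σ e f y) xW, h1, map_one, mul_one]
      obtain ⟨c, hc⟩ := exists_adm hF hσ w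
      obtain ⟨m1, m2, m3, m4⟩ := hD.spec w c hwe hwf hc
      have hux : (sgS q σ e w c).1.1 *ᵥ xW = x := by
        rw [sgS_mulVec hσ hσσ hee hwe hc, hxWe, hxWw]
        conv_rhs => rw [hdec]
        simp
      have h1 := Xb_map_equiv hσ α hxWW hrr' hr hσσ _ _ m4
      rw [hux] at h1
      rw [h1]
      apply Xb_eq_of_par hσ hσσ
      · rw [su_pres hσ, hrr']
      · refine ⟨k, hk0, ?_⟩
        rw [hPx, ← Matrix.mulVec_smul, ← hψr, sgS_mulVec hσ hσσ hee m1 m3, (hD.psi_W hF hσ p hn he0 hee hff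
          hfe he hfX hτ hν0 hνσ hform hθ hxWe hxWf).1, hform _ _ hxWe hxWf hwe hwf, hxWw, map_neg]
        simp
  · -- ⟨x, e⟩ ≠ 0
    set a := hf σ x e with ha
    set x₁ := a⁻¹ • x with hx₁
    have hx₁e : hf σ x₁ e = 1 := by rw [hx₁, hf_smul_left, ← ha, inv_mul_cancel₀ hxe]
    have hx₁x₁ : hf σ x₁ x₁ = 0 := by rw [hx₁, hf_smul_left, hf_smul_right, hxx, mul_zero, mul_zero]
    have hxa : x = a • x₁ := by rw [hx₁, smul_smul, mul_inv_cancel₀ hxe, one_smul]
    set w := prW σ e f x₁ with hw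
    set c := hf σ x₁ f with hc
    have hwe : hf σ w e = 0 := prW_perp_e hee hfe x₁
    have hwf : hf σ w f = 0 := prW_perp_f hσσ hff hfe x₁
    have hdec : x₁ = f + w + c • e := by
      have := prW_decomp (σ := σ) e f x₁
      rw [hx₁e, one_smul, ← hw, ← hc] at this
      rw [this]
      abel
    have hadm : c + σ c + hf σ w w = 0 := by
      have h1 := hx₁x₁
      rw [hdec] at h1
      simp only [hf_add_left, hf_add_right, hf_smul_left, hf_smul_right, hee, hff, hfe, hef, hwe, hwf,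
        hf_swap_zero σ hσσ hwe, hf_swap_zero σ hσσ hwf] at h1
      linear_combination h1
    obtain ⟨m1, m2, m3, m4⟩ := hD.spec w c hwe hwf hadm
    have huf : (sgS q σ e w c).1.1 *ᵥ f = x₁ := by
      rw [sgS_mulVec hσ hσσ hee hwe hadm, hfe, hf_swap_zero σ hσσ hwf, hdec]
      simp
    have h1 := Xb_map_equiv hσ α hff hff hfX hσσ _ _ m4
    rw [huf] at h1
    have hP₁ : PhiQ σ τ ν e f ψ x₁ = (sgS q σ e (ψ w) (θ w c)).1.1 *ᵥ f := by
      rw [sgS_mulVec hσ hσσ hee m1 m3, hfe, hf_swap_zero σ hσσ m2, hθ w c hwe hwf hadm]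
      unfold PhiQ
      rw [hx₁e, map_one, ← hw, ← hc]
      simp only [one_smul, zero_smul, sub_zero, mul_one]
      abel
    have hx₁0 : x₁ ≠ 0 := by
      rintro h0
      rw [h0, hf_zero_left] at hx₁e
      exact zero_ne_one hx₁e
    rw [hxa, Xb_smul hσ hσσ hx₁x₁ hxe, hsm, Xb_smul hσ hσσ (hiso hx₁x₁) ((map_ne_zero τ).mpr hxe), h1, hP₁]

end qdata


end fin

end Cfsg.Agent.Lib.Helper16.UA
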