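import Cfsg.Agent.Lib.Helper16.UA14

set_option autoImplicit false
set_option linter.unusedSectionVars false
set_option linter.unusedVariables false

namespace Cfsg.Agent.Lib.Helper16.UA

open Matrix Cfsg.Agent.Lib.Helper16.PU Cfsg.Agent.Lib.Helper16.PG
open Cfsg.Agent.Lib.Helper16.SPA (par par_refl par_symm par_trans par_ne_zero par_smul)

universe u
variable {n : ℕ} {F : Type u} [Field F] {q : ℕ}

section fin
variable [Fintype F] {σ : F ≃+* F} (hF : Fintype.card F = q ^ 2) (hσ : ∀ a, σ a = a ^ q)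
include hF hσ

/-- an automorphism fixing the two transvection groups of a hyperbolic pair is induced by a semilinear
semi-similitude. -/
theorem aut_normalized (p : ℕ) [Fact p.Prime] [CharP F p] (hn : 3 ≤ n) (hs : ¬ (n = 3 ∧ q = 2))
    (α : MulAut (Cfsg.PSU n F q)) {e f : Fin n → F} (he0 : e ≠ 0) (hee : hf σ e e = 0)
    (hff : hf σ f f = 0) (hfe : hf σ f e = 1) (he : (Xb q σ e).map α.toMonoidHom = Xb q σ e)
    (hfX : (Xb q σ f).map α.toMonoidHom = Xb q σ f) :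
    ∃ (X : ↥(simU n F q)) (τ : F ≃+* F), α = PhiU n F q X * fieldU n q τ := by
  obtain ⟨ψ, θ, hD⟩ := exists_QData hF hσ p hn α he0 hee hfe he
  obtain ⟨τ, hτ⟩ := hD.semilinear hF hσ p hn he0 hee hff hfe he hfX hs
  obtain ⟨ν, hν0, hνσ, hform, hθ0⟩ := hD.form hF hσ p hn he0 hee hff hfe he hfX hτ
  have hθ : ∀ w c, hf σ w e = 0 → hf σ w f = 0 → c + σ c + hf σ w w = 0 → θ w c = ν * τ c :=
    fun w c h1 h2 h3 => hD.eta_zero hF hσ p hn he0 hee hff hfe he hfX hτ hν0 hνσ hform hθ0 hs h1 h2 h3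
  have hadd := hD.PhiQ_add hF hσ p hn he0 hee hff hfe he hfX hτ hν0 hνσ hform hθ
  have hsmul := hD.PhiQ_smul hF hσ p hn he0 hee hff hfe he hfX hτ hν0 hνσ hform hθ
  have hform' := hD.PhiQ_form hF hσ p hn he0 hee hff hfe he hfX hτ hν0 hνσ hform hθ
  obtain ⟨X, hX⟩ := exists_simU_of_semilinear hF hσ τ ν hν0 (PhiQ σ τ ν e f ψ) hadd hsmul hform'
  refine ⟨X, τ, ?_⟩
  set β := PhiU n F q X * fieldU n q τ with hβ
  have h1 : β⁻¹ * α = 1 := by
    apply eq_one_of_fix_Xb hF hσ hn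
    intro x hx0 hxx
    have k1 := hD.agree hF hσ p hn he0 hee hff hfe he hfX hτ hν0 hνσ hform hθ hx0 hxx
    have k2 := beta_Xb hF hσ hν0 hνσ hadd hsmul hform' hX hxx
    have k3 : (β⁻¹ * α).toMonoidHom = (β⁻¹).toMonoidHom.comp α.toMonoidHom := rfl
    rw [k3, ← Subgroup.map_map, k1, ← k2, Subgroup.map_map]
    have k4 : (β⁻¹).toMonoidHom.comp β.toMonoidHom = MonoidHom.id _ := by
      ext y
      show (β⁻¹ * β) y = y
      rw [inv_mul_cancel]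
      rfl
    rw [← hβ, k4, Subgroup.map_id]
  have h2 := congrArg (fun t => β * t) h1
  simp only [mul_inv_cancel_left, mul_one] at h2
  exact h2

/-- every automorphism of `PSU_n(q)` is induced by a semilinear semi-similitude. -/
theorem aut_eq (p : ℕ) [Fact p.Prime] [CharP F p] (hn : 3 ≤ n) (hs : ¬ (n = 3 ∧ q = 2))
    (α : MulAut (Cfsg.PSU n F q)) :
    ∃ (X : ↥(simU n F q)) (τ : F ≃+* F), α = PhiU n F q X * fieldU n q τ := by
  have hσσ := bar_bar hF σ hσ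
  obtain ⟨μ, hμ, _⟩ := exists_mu hF σ hσ
  have h01 : (⟨0, by omega⟩ : Fin n) ≠ ⟨1, by omega⟩ := by simp [Fin.ext_iff]
  set e := isoV (⟨0, by omega⟩ : Fin n) ⟨1, by omega⟩ μ with he_def
  have he0 : e ≠ 0 := isoV_ne_zero σ _ _ h01 μ
  have hee : hf σ e e = 0 := isoV_iso σ _ _ h01 μ hμ
  obtain ⟨f, hff, hfe⟩ := exists_hyp_partner hF hσ he0 hee
  have hf0 : f ≠ 0 := by
    rintro rfl
    rw [hf_zero_left] at hfe
    exact zero_ne_one hfe
  obtain ⟨e₁, he₁0, he₁e₁, he₁⟩ := aut_Xb hF hσ p hn he0 hee α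
  obtain ⟨f₁, hf₁0, hf₁f₁, hf₁⟩ := aut_Xb hF hσ p hn hf0 hff α
  have hne : hf σ f₁ e₁ ≠ 0 := by
    intro h
    have := (perp_iff_of_map hF hσ hn α hf0 hff hee hf₁0 hf₁f₁ he₁e₁ hf₁ he₁).mpr h
    rw [hfe] at this
    exact one_ne_zero this
  set f₂ := (hf σ f₁ e₁)⁻¹ • f₁ with hf₂
  have hf₂f₂ : hf σ f₂ f₂ = 0 := by
    rw [hf₂, hf_smul_left, hf_smul_right, hf₁f₁, mul_zero, mul_zero]
  have hf₂e₁ : hf σ f₂ e₁ = 1 := by
    rw [hf₂, hf_smul_left, inv_mul_cancel₀ hne]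
  obtain ⟨s, l, hl, hse, hsf⟩ := exists_su_hyp hF hσ he₁e₁ hf₂f₂ hf₂e₁ hee hff hfe
  set α₁ := MulAut.conj (mkU n F q s) * α with hα₁
  have k3 : α₁.toMonoidHom = (MulAut.conj (mkU n F q s)).toMonoidHom.comp α.toMonoidHom := rfl
  have h1 : (Xb q σ e).map α₁.toMonoidHom = Xb q σ e := by
    rw [k3, ← Subgroup.map_map, he₁, Xb_conj hσ hσσ s he₁e₁, hse, Xb_smul hσ hσσ hee hl]
  have h2 : (Xb q σ f).map α₁.toMonoidHom = Xb q σ f := by
    have hl' : (σ l)⁻¹ ≠ 0 := inv_ne_zero ((map_ne_zero σ).mpr hl)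
    rw [k3, ← Subgroup.map_map, hf₁, ← Xb_smul hσ hσσ hf₁f₁ (inv_ne_zero hne), Xb_conj hσ hσσ s hf₂f₂, hsf,
      Xb_smul hσ hσσ hff hl']
  obtain ⟨X, τ, hX⟩ := aut_normalized hF hσ p hn hs α₁ he0 hee hff hfe h1 h2
  refine ⟨⟨suGL s⁻¹, suGL_mem s⁻¹⟩ * X, τ, ?_⟩
  rw [map_mul, PhiU_suGL, mul_assoc, ← hX, hα₁, ← mul_assoc, ← map_mul, ← map_mul, inv_mul_cancel, map_one,
    map_one, one_mul]

end fin

end Cfsg.Agent.Lib.Helper16.UA
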