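import Cfsg.Agent.Lib.Helper16.UA15

set_option autoImplicit false
set_option linter.unusedSectionVars false
set_option linter.unusedVariables false

namespace Cfsg.Agent.Lib.Helper16.UA

open Matrix Cfsg.Agent.Lib.Helper16.PU Cfsg.Agent.Lib.Helper16.PG

universe u
variable {n : ℕ} {F : Type u} [Field F] {q : ℕ}

section fin
variable [Fintype F] (hF : Fintype.card F = q ^ 2)
include hF

theorem aut_eq' (hn : 3 ≤ n) (hs : ¬ (n = 3 ∧ q = 2)) (α : MulAut (Cfsg.PSU n F q)) :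
    ∃ (X : ↥(simU n F q)) (τ : F ≃+* F), α = PhiU n F q X * fieldU n q τ := by
  obtain ⟨σ, hσ⟩ := exists_bar hF
  obtain ⟨p, a, hp, hchar, hqp⟩ := Cfsg.Agent.Lib.Helper16.exists_char_pow hF
  have := Fact.mk hp
  exact aut_eq hF hσ p hn hs α

theorem aut_eq_GU (hn : 3 ≤ n) (hs : ¬ (n = 3 ∧ q = 2)) (α : MulAut (Cfsg.PSU n F q)) :
    ∃ (g : ↥(simU n F q)) (τ : F ≃+* F), g.1 ∈ Cfsg.GU n F q ∧ α = PhiU n F q g * fieldU n q τ := by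
  obtain ⟨X, τ, rfl⟩ := aut_eq' hF hn hs α
  obtain ⟨σ, hσ⟩ := exists_bar hF
  obtain ⟨ν, g, hg, hX⟩ := simU_factor hF σ hσ (by omega) X.1 X.2
  have hgs : g ∈ simU n F q := GU_le_simU hg
  have hνs : scalG (Fin n) ν ∈ simU n F q := by
    have : scalG (Fin n) ν = X.1 * g⁻¹ := by rw [hX, mul_inv_cancel_right]
    rw [this]
    exact Subgroup.mul_mem _ X.2 (Subgroup.inv_mem _ hgs)
  refine ⟨⟨g, hgs⟩, τ, hg, ?_⟩
  have h1 : X = ⟨scalG (Fin n) ν, hνs⟩ * ⟨g, hgs⟩ := Subtype.ext hX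
  rw [h1, map_mul, PhiU_scal, one_mul]

theorem S2692_aux (hn : 3 ≤ n) (hs : ¬ (n = 3 ∧ q = 2)) (β : MulAut (Cfsg.PSU n F q)) :
    ∃ (δ φ : MulAut (Cfsg.PSU n F q)) (σ : F ≃+* F),
      Cfsg.IsInnerDiagonalAutPSU δ ∧ Cfsg.IsFieldAutPSUOf σ φ ∧ β = δ * φ := by
  obtain ⟨g, τ, hg, h⟩ := aut_eq_GU hF hn hs β
  exact ⟨PhiU n F q g, fieldU n q τ, τ, (isInnerDiagU_iff _).mpr ⟨g, hg, rfl⟩, (isFieldAutU_iff τ _).mpr rfl, h⟩

theorem S2691_aux (hn : 3 ≤ n) (hs : ¬ (n = 3 ∧ q = 2)) : Cfsg.gammaPSU n F q = ⊤ := by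
  rw [eq_top_iff]
  intro α _
  apply Subgroup.subset_closure
  obtain ⟨g, τ, hg, rfl⟩ := aut_eq_GU hF hn hs α
  refine ⟨g.1, τ, hg, ?_⟩
  intro s s' hs
  rw [MulAut.mul_apply, fieldU_mk, PhiU_mk]
  congr 1
  apply Subtype.ext
  apply Subtype.ext
  rw [conjSU_val, conjSL_val, fieldSU_val, hs]

end fin

end Cfsg.Agent.Lib.Helper16.UA
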