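import Cfsg.Agent.Lib.Helper16.UA16
import Cfsg.Agent.Lib.Helper16.AP18
import Cfsg.Agent.S0783

set_option autoImplicit false
set_option linter.unusedSectionVars false
set_option linter.unusedVariables false

namespace Cfsg.Agent.Lib.Helper16.UA

open Matrix Cfsg.Agent.Lib.Helper16.PU Cfsg.Agent.Lib.Helper16.PG

universe u
variable {n : ℕ} {F : Type u} [Field F] {q : ℕ}

/-- the field automorphisms of `PSU_n` as a homomorphism. -/
noncomputable def fieldUHom (n : ℕ) (F : Type u) [Field F] (q : ℕ) :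
    RingAut F →* MulAut (Cfsg.PSU n F q) where
  toFun := fieldU n q
  map_one' := fieldU_refl
  map_mul' τ₁ τ₂ := fieldU_mul τ₁ τ₂

theorem fieldUHom_apply (τ : RingAut F) : fieldUHom n F q τ = fieldU n q τ := rfl

theorem suGL_mem_GU (s : ↥(Cfsg.SU n F q)) : suGL s ∈ Cfsg.GU n F q := fun u v => s.2 u v

theorem conj_mkU_eq_PhiU (s : ↥(Cfsg.SU n F q)) :
    MulAut.conj (mkU n F q s) = PhiU n F q ⟨suGL s, suGL_mem s⟩ := (PhiU_suGL s).symm

section fin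
variable [Fintype F] (hF : Fintype.card F = q ^ 2)
include hF

theorem PhiU_eq_GU (X : ↥(simU n F q)) (hn : 1 ≤ n) :
    ∃ g : ↥(simU n F q), g.1 ∈ Cfsg.GU n F q ∧ PhiU n F q X = PhiU n F q g := by
  obtain ⟨σ, hσ⟩ := exists_bar hF
  obtain ⟨ν, g, hg, hX⟩ := simU_factor hF σ hσ hn X.1 X.2
  have hgs : g ∈ simU n F q := GU_le_simU hg
  have hνs : scalG (Fin n) ν ∈ simU n F q := by
    have : scalG (Fin n) ν = X.1 * g⁻¹ := by rw [hX, mul_inv_cancel_right]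
    rw [this]
    exact Subgroup.mul_mem _ X.2 (Subgroup.inv_mem _ hgs)
  refine ⟨⟨g, hgs⟩, hg, ?_⟩
  have h1 : X = ⟨scalG (Fin n) ν, hνs⟩ * ⟨g, hgs⟩ := Subtype.ext hX
  rw [h1, map_mul, PhiU_scal, one_mul]

theorem PhiU_range_normal (hn : 3 ≤ n) (hs : ¬ (n = 3 ∧ q = 2)) : ((PhiU n F q).range).Normal := by
  constructor
  rintro _ ⟨Y, rfl⟩ β
  obtain ⟨X, τ, rfl⟩ := aut_eq' hF hn hs β
  have h2 : fieldU n q τ * PhiU n F q Y * (fieldU n q τ)⁻¹ =
      PhiU n F q ⟨mapGL n τ Y.1, mapGL_mem_simU τ Y.1 Y.2⟩ := by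
    rw [field_conj, mul_assoc, mul_inv_cancel, mul_one]
  refine ⟨X * ⟨mapGL n τ Y.1, mapGL_mem_simU τ Y.1 Y.2⟩ * X⁻¹, ?_⟩
  rw [map_mul, map_mul, ← h2, map_inv]
  simp only [mul_assoc, _root_.mul_inv_rev]

theorem psiU_bijective (hn : 3 ≤ n) (hs : ¬ (n = 3 ∧ q = 2)) [hN : ((PhiU n F q).range).Normal] :
    Function.Bijective ((QuotientGroup.mk' (PhiU n F q).range).comp (fieldUHom n F q)) := by
  constructor
  · rw [injective_iff_map_eq_one]
    intro τ hτ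
    rw [MonoidHom.comp_apply, QuotientGroup.mk'_apply, QuotientGroup.eq_one_iff] at hτ
    obtain ⟨Z, hZ⟩ := hτ
    exact fieldU_eq_PhiU hF hn τ Z hZ.symm
  · intro y
    induction y using QuotientGroup.induction_on with
    | H β =>
      obtain ⟨X, τ, rfl⟩ := aut_eq' hF hn hs β
      refine ⟨τ, ?_⟩
      rw [MonoidHom.comp_apply, QuotientGroup.mk'_apply, QuotientGroup.mk_mul]
      have : ((PhiU n F q X : MulAut (Cfsg.PSU n F q)) :
          MulAut (Cfsg.PSU n F q) ⧸ (PhiU n F q).range) = 1 :=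
        (QuotientGroup.eq_one_iff _).mpr ⟨X, rfl⟩
      rw [this, one_mul]
      rfl

/-- `Aut / Inndiag ≅ Gal(F)`. -/
noncomputable def psiUEquiv (hn : 3 ≤ n) (hs : ¬ (n = 3 ∧ q = 2)) [hN : ((PhiU n F q).range).Normal] :
    RingAut F ≃* MulAut (Cfsg.PSU n F q) ⧸ (PhiU n F q).range :=
  MulEquiv.ofBijective _ (psiU_bijective hF hn hs)

/-- the projection of `Aut(PSU_n)` onto `Gal(F)`. -/
noncomputable def ThetaU (hn : 3 ≤ n) (hs : ¬ (n = 3 ∧ q = 2)) [hN : ((PhiU n F q).range).Normal] :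
    MulAut (Cfsg.PSU n F q) →* RingAut F :=
  (psiUEquiv hF hn hs).symm.toMonoidHom.comp (QuotientGroup.mk' (PhiU n F q).range)

theorem ThetaU_eq_one_iff (hn : 3 ≤ n) (hs : ¬ (n = 3 ∧ q = 2)) [hN : ((PhiU n F q).range).Normal]
    (β : MulAut (Cfsg.PSU n F q)) : ThetaU hF hn hs β = 1 ↔ β ∈ (PhiU n F q).range := by
  unfold ThetaU
  rw [MonoidHom.comp_apply, MulEquiv.coe_toMonoidHom, MulEquiv.map_eq_one_iff, QuotientGroup.mk'_apply,
    QuotientGroup.eq_one_iff]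

theorem ThetaU_surjective (hn : 3 ≤ n) (hs : ¬ (n = 3 ∧ q = 2)) [hN : ((PhiU n F q).range).Normal] :
    Function.Surjective (ThetaU (n := n) (F := F) hF hn hs) := by
  unfold ThetaU
  exact (psiUEquiv hF hn hs).symm.surjective.comp (QuotientGroup.mk'_surjective _)

theorem Inn_le_ker_ThetaU (hn : 3 ≤ n) (hs : ¬ (n = 3 ∧ q = 2)) [hN : ((PhiU n F q).range).Normal] :
    Cfsg.Inn (Cfsg.PSU n F q) ≤ (ThetaU hF hn hs).ker := by
  rintro _ ⟨k, rfl⟩
  rw [MonoidHom.mem_ker, ThetaU_eq_one_iff]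
  obtain ⟨s, rfl⟩ := mkU_surjective k
  exact ⟨_, (conj_mkU_eq_PhiU s).symm⟩

/-- the induced map on `Out`. -/
noncomputable def ThetaUOut (hn : 3 ≤ n) (hs : ¬ (n = 3 ∧ q = 2)) [hN : ((PhiU n F q).range).Normal] :
    Cfsg.Out (Cfsg.PSU n F q) →* RingAut F :=
  QuotientGroup.lift (Cfsg.Inn (Cfsg.PSU n F q)) (ThetaU hF hn hs) (Inn_le_ker_ThetaU hF hn hs)

theorem ThetaUOut_mk (hn : 3 ≤ n) (hs : ¬ (n = 3 ∧ q = 2)) [hN : ((PhiU n F q).range).Normal]
    (β : MulAut (Cfsg.PSU n F q)) :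
    ThetaUOut hF hn hs (QuotientGroup.mk β) = ThetaU hF hn hs β := rfl

theorem ThetaUOut_surjective (hn : 3 ≤ n) (hs : ¬ (n = 3 ∧ q = 2)) [hN : ((PhiU n F q).range).Normal] :
    Function.Surjective (ThetaUOut (n := n) (F := F) hF hn hs) := by
  intro y
  obtain ⟨β, hβ⟩ := ThetaU_surjective hF hn hs y
  exact ⟨QuotientGroup.mk β, hβ⟩

end fin

/-- the diagonal outer automorphisms. -/
noncomputable def DOutU (n : ℕ) (F : Type u) [Field F] (q : ℕ) :
    ↥(simU n F q) →* Cfsg.Out (Cfsg.PSU n F q) :=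
  (QuotientGroup.mk' (Cfsg.Inn (Cfsg.PSU n F q))).comp (PhiU n F q)

/-- the diagonal outer automorphisms, from `GU`. -/
noncomputable def DOutG (n : ℕ) (F : Type u) [Field F] (q : ℕ) :
    ↥(Cfsg.GU n F q) →* Cfsg.Out (Cfsg.PSU n F q) :=
  (DOutU n F q).comp (Subgroup.inclusion GU_le_simU)

section fin
variable [Fintype F] (hF : Fintype.card F = q ^ 2)
include hF

theorem ThetaUOut_ker (hn : 3 ≤ n) (hs : ¬ (n = 3 ∧ q = 2)) [hN : ((PhiU n F q).range).Normal] :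
    (ThetaUOut (n := n) (F := F) hF hn hs).ker = (DOutU n F q).range := by
  ext x
  induction x using QuotientGroup.induction_on with
  | H β =>
    rw [MonoidHom.mem_ker, ThetaUOut_mk, ThetaU_eq_one_iff, MonoidHom.mem_range]
    constructor
    · rintro ⟨g, rfl⟩
      exact ⟨g, rfl⟩
    · rintro ⟨g, hg⟩
      have h1 : (QuotientGroup.mk (PhiU n F q g) : Cfsg.Out (Cfsg.PSU n F q)) =
          QuotientGroup.mk β := hg
      rw [QuotientGroup.eq] at h1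
      obtain ⟨k, hk⟩ := h1
      obtain ⟨s, rfl⟩ := mkU_surjective k
      rw [conj_mkU_eq_PhiU] at hk
      refine ⟨g * ⟨suGL s, suGL_mem s⟩, ?_⟩
      rw [map_mul, hk, mul_inv_cancel_left]

theorem DOutG_range (hn : 1 ≤ n) : (DOutG n F q).range = (DOutU n F q).range := by
  ext x
  constructor
  · rintro ⟨g, rfl⟩
    exact ⟨_, rfl⟩
  · rintro ⟨X, rfl⟩
    obtain ⟨g, hg, hX⟩ := PhiU_eq_GU hF X hn
    refine ⟨⟨g.1, hg⟩, ?_⟩
    show (QuotientGroup.mk' _) (PhiU n F q _) = (QuotientGroup.mk' _) (PhiU n F q X)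
    rw [hX]
    rfl

end fin

end Cfsg.Agent.Lib.Helper16.UA
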