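import Cfsg.Agent.Lib.Helper16.UA17

set_option autoImplicit false
set_option linter.unusedSectionVars false
set_option linter.unusedVariables false

namespace Cfsg.Agent.Lib.Helper16.UA

open Matrix Cfsg.Agent.Lib.Helper16.PU Cfsg.Agent.Lib.Helper16.PG

universe u
variable {n : ℕ} {F : Type u} [Field F] {q : ℕ}

theorem DOutG_eq_one_iff (g : ↥(Cfsg.GU n F q)) :
    DOutG n F q g = 1 ↔ PhiU n F q ⟨g.1, GU_le_simU g.2⟩ ∈ Cfsg.Inn (Cfsg.PSU n F q) := by
  unfold DOutG DOutU
  rw [MonoidHom.comp_apply, MonoidHom.comp_apply, QuotientGroup.mk'_apply, QuotientGroup.eq_one_iff]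
  rfl

section fin
variable [Fintype F] (hF : Fintype.card F = q ^ 2)
include hF

theorem DOutG_ker (hn : 3 ≤ n) :
    (DOutG n F q).ker = (Matrix.GeneralLinearGroup.det : GL (Fin n) F →* Fˣ).ker.subgroupOf (Cfsg.GU n F q) ⊔
        Subgroup.center ↥(Cfsg.GU n F q) := by
  apply le_antisymm
  · intro g hg
    rw [MonoidHom.mem_ker, DOutG_eq_one_iff] at hg
    obtain ⟨k, hk⟩ := hg
    obtain ⟨s, rfl⟩ := mkU_surjective k
    rw [conj_mkU_eq_PhiU, PhiU_eq_iff hF hn] at hk
    obtain ⟨c, hc⟩ := hk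
    -- g = c⁻¹ • s
    set t : ↥(Cfsg.GU n F q) := ⟨suGL s, suGL_mem_GU s⟩ with ht
    have ht1 : t ∈ (Matrix.GeneralLinearGroup.det : GL (Fin n) F →* Fˣ).ker.subgroupOf (Cfsg.GU n F q) := by
      rw [Subgroup.mem_subgroupOf, MonoidHom.mem_ker]
      apply Units.ext
      rw [Matrix.GeneralLinearGroup.val_det_apply, Units.val_one]
      exact s.1.2
    have hz : t⁻¹ * g ∈ Subgroup.center ↥(Cfsg.GU n F q) := by
      have hval : (((t⁻¹ * g : ↥(Cfsg.GU n F q)) : GL (Fin n) F) : Matrix (Fin n) (Fin n) F) =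
          ((c : F)⁻¹) • (1 : Matrix (Fin n) (Fin n) F) := by
        have h1 : ((g : GL (Fin n) F) : Matrix (Fin n) (Fin n) F) =
            (c : F)⁻¹ • ((t : GL (Fin n) F) : Matrix (Fin n) (Fin n) F) := by
          have : ((t : GL (Fin n) F) : Matrix (Fin n) (Fin n) F) =
              (c : F) • ((g : GL (Fin n) F) : Matrix (Fin n) (Fin n) F) := hc
          rw [this, smul_smul, inv_mul_cancel₀ c.ne_zero, one_smul]
        show (((t⁻¹ : ↥(Cfsg.GU n F q)) : GL (Fin n) F) : Matrix (Fin n) (Fin n) F) *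
          ((g : GL (Fin n) F) : Matrix (Fin n) (Fin n) F) = _
        rw [h1, Matrix.mul_smul]
        congr 1
        have := congrArg (fun y : ↥(Cfsg.GU n F q) => ((y : GL (Fin n) F) : Matrix (Fin n) (Fin n) F))
          (inv_mul_cancel t)
        exact this
      rw [Subgroup.mem_center_iff]
      intro h
      apply Subtype.ext
      apply Units.ext
      show ((h : GL (Fin n) F) : Matrix (Fin n) (Fin n) F) *
          (((t⁻¹ * g : ↥(Cfsg.GU n F q)) : GL (Fin n) F) : Matrix (Fin n) (Fin n) F) =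
        (((t⁻¹ * g : ↥(Cfsg.GU n F q)) : GL (Fin n) F) : Matrix (Fin n) (Fin n) F) *
          ((h : GL (Fin n) F) : Matrix (Fin n) (Fin n) F)
      rw [hval, Matrix.mul_smul, Matrix.smul_mul, Matrix.mul_one, Matrix.one_mul]
    have : g = t * (t⁻¹ * g) := by rw [mul_inv_cancel_left]
    rw [this]
    exact Subgroup.mul_mem_sup ht1 hz
  · apply sup_le
    · intro g hg
      rw [Subgroup.mem_subgroupOf, MonoidHom.mem_ker] at hg
      rw [MonoidHom.mem_ker, DOutG_eq_one_iff]
      have hdet : ((g : GL (Fin n) F) : Matrix (Fin n) (Fin n) F).det = 1 := by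
        have := congrArg Units.val hg
        rw [Matrix.GeneralLinearGroup.val_det_apply, Units.val_one] at this
        exact this
      set s : ↥(Cfsg.SU n F q) := ⟨⟨((g : GL (Fin n) F) : Matrix (Fin n) (Fin n) F), hdet⟩, fun u v => g.2 u v⟩
        with hs
      refine ⟨mkU n F q s, ?_⟩
      rw [conj_mkU_eq_PhiU]
      congr 1
      apply Subtype.ext
      apply Units.ext
      rfl
    · intro g hg
      rw [MonoidHom.mem_ker, DOutG_eq_one_iff]
      rw [Subgroup.mem_center_iff] at hg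
      have : PhiU n F q ⟨g.1, GU_le_simU g.2⟩ = 1 := by
        apply MulEquiv.ext
        intro y
        obtain ⟨s, rfl⟩ := mkU_surjective y
        show PhiU n F q ⟨g.1, GU_le_simU g.2⟩ (QuotientGroup.mk s) = QuotientGroup.mk s
        rw [PhiU_mk]
        congr 1
        apply Subtype.ext
        apply Subtype.ext
        rw [conjSU_val, conjSL_val]
        have h1 := hg ⟨suGL s, suGL_mem_GU s⟩
        have h2 := congrArg (fun y : ↥(Cfsg.GU n F q) => ((y : GL (Fin n) F) : Matrix (Fin n) (Fin n) F)) h1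
        have h3 : (s.1 : Matrix (Fin n) (Fin n) F) * ((g : GL (Fin n) F) : Matrix (Fin n) (Fin n) F) =
            ((g : GL (Fin n) F) : Matrix (Fin n) (Fin n) F) * (s.1 : Matrix (Fin n) (Fin n) F) := h2
        show ((g : GL (Fin n) F) : Matrix (Fin n) (Fin n) F) * (s.1 : Matrix (Fin n) (Fin n) F) *
          (((g : GL (Fin n) F)⁻¹ : GL (Fin n) F) : Matrix (Fin n) (Fin n) F) = _
        rw [← h3, Matrix.mul_assoc]
        have h4 : ((g : GL (Fin n) F) : Matrix (Fin n) (Fin n) F) *
            (((g : GL (Fin n) F)⁻¹ : GL (Fin n) F) : Matrix (Fin n) (Fin n) F) = 1 := by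
          rw [← Units.val_mul, mul_inv_cancel, Units.val_one]
        rw [h4, Matrix.mul_one]
      rw [this]
      exact Subgroup.one_mem _

theorem DOutU_range_cyclic_card (hn : 3 ≤ n) :
    IsCyclic ↥(DOutU n F q).range ∧ Nat.card ↥(DOutU n F q).range = Nat.gcd n (q + 1) := by
  obtain ⟨φ₀, hsurj, hker⟩ := Cfsg.Agent.S0783.result hF n (by omega)
  rw [← DOutG_range hF (by omega)]
  have hk : (DOutG n F q).ker = φ₀.ker := by rw [hker, DOutG_ker hF hn]
  have E : ↥(DOutG n F q).range ≃* Multiplicative (ZMod (Nat.gcd n (q + 1))) :=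
    ((QuotientGroup.quotientKerEquivRange (DOutG n F q)).symm.trans
      (QuotientGroup.quotientMulEquivOfEq hk)).trans (QuotientGroup.quotientKerEquivOfSurjective φ₀ hsurj)
  have hg0 : Nat.gcd n (q + 1) ≠ 0 := by
    intro h
    rw [Nat.gcd_eq_zero_iff] at h
    omega
  have : NeZero (Nat.gcd n (q + 1)) := ⟨hg0⟩
  constructor
  · exact isCyclic_of_surjective E.symm E.symm.surjective
  · rw [Nat.card_congr E.toEquiv, Nat.card_eq_fintype_card, Fintype.card_multiplicative, ZMod.card]

end fin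

end Cfsg.Agent.Lib.Helper16.UA
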