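import Cfsg.Agent.Lib.Helper16.UA1

set_option autoImplicit false
set_option linter.unusedSectionVars false
set_option linter.unusedVariables false

namespace Cfsg.Agent.Lib.Helper16.UA

open Matrix Cfsg.Agent.Lib.Helper16.PU Cfsg.Agent.Lib.Helper16.PG

universe u
variable {n : ℕ} {F : Type u} [Field F] {q : ℕ}

/-- the unipotent radical of the stabiliser of the isotropic point `⟨e⟩`. -/
def Qa (q : ℕ) (σ : F ≃+* F) (e : Fin n → F) : Subgroup ↥(Cfsg.SU n F q) where
  carrier := {g | (g.1 : Matrix (Fin n) (Fin n) F) *ᵥ e = e ∧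
    ∀ x, hf σ x e = 0 → ∃ k : F, (g.1 : Matrix (Fin n) (Fin n) F) *ᵥ x = x + k • e}
  one_mem' := by
    refine ⟨?_, fun x _ => ⟨0, ?_⟩⟩
    · show (1 : Matrix (Fin n) (Fin n) F) *ᵥ e = e
      rw [Matrix.one_mulVec]
    · show (1 : Matrix (Fin n) (Fin n) F) *ᵥ x = _
      rw [Matrix.one_mulVec, zero_smul, add_zero]
  mul_mem' := by
    rintro g h ⟨hg1, hg2⟩ ⟨hh1, hh2⟩
    have hmul : ∀ x, ((g * h).1 : Matrix (Fin n) (Fin n) F) *ᵥ x =
        (g.1 : Matrix (Fin n) (Fin n) F) *ᵥ ((h.1 : Matrix (Fin n) (Fin n) F) *ᵥ x) := by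
      intro x
      rw [Matrix.mulVec_mulVec]; rfl
    refine ⟨by rw [hmul, hh1, hg1], fun x hx => ?_⟩
    obtain ⟨k, hk⟩ := hh2 x hx
    obtain ⟨k', hk'⟩ := hg2 x hx
    refine ⟨k' + k, ?_⟩
    rw [hmul, hk, Matrix.mulVec_add, Matrix.mulVec_smul, hg1, hk', add_smul, add_assoc]
  inv_mem' := by
    rintro g ⟨hg1, hg2⟩
    have hinv : ∀ x, ((g⁻¹).1 : Matrix (Fin n) (Fin n) F) *ᵥ ((g.1 : Matrix (Fin n) (Fin n) F) *ᵥ x) = x := by
      intro x
      rw [Matrix.mulVec_mulVec]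
      have : ((g⁻¹).1 : Matrix (Fin n) (Fin n) F) * (g.1 : Matrix (Fin n) (Fin n) F) = 1 := by
        have := congrArg (fun s : ↥(Cfsg.SU n F q) => ((s.1 : Matrix.SpecialLinearGroup (Fin n) F) :
          Matrix (Fin n) (Fin n) F)) (inv_mul_cancel g)
        exact this
      rw [this, Matrix.one_mulVec]
    have he : ((g⁻¹).1 : Matrix (Fin n) (Fin n) F) *ᵥ e = e := by
      have := hinv e
      rwa [hg1] at this
    refine ⟨he, fun x hx => ?_⟩
    obtain ⟨k, hk⟩ := hg2 x hx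
    refine ⟨-k, ?_⟩
    have h1 := hinv x
    rw [hk, Matrix.mulVec_add, Matrix.mulVec_smul, he] at h1
    rw [neg_smul, ← sub_eq_add_neg, eq_sub_iff_add_eq]
    exact h1

theorem mem_Qa_iff (σ : F ≃+* F) (e : Fin n → F) (g : ↥(Cfsg.SU n F q)) :
    g ∈ Qa q σ e ↔ (g.1 : Matrix (Fin n) (Fin n) F) *ᵥ e = e ∧
      ∀ x, hf σ x e = 0 → ∃ k : F, (g.1 : Matrix (Fin n) (Fin n) F) *ᵥ x = x + k • e := Iff.rfl

section
variable {σ : F ≃+* F} (hσ : ∀ a, σ a = a ^ q) (hσσ : ∀ x, σ (σ x) = x)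
include hσ hσσ

theorem sgS_mem_Qa {e w : Fin n → F} {c : F} (he : hf σ e e = 0) (hwe : hf σ w e = 0)
    (hc : c + σ c + hf σ w w = 0) : sgS q σ e w c ∈ Qa q σ e := by
  rw [mem_Qa_iff]
  refine ⟨?_, fun x hx => ⟨- hf σ x w, ?_⟩⟩
  · rw [sgS_mulVec hσ hσσ he hwe hc, he, hf_swap_zero σ hσσ hwe]
    simp
  · rw [sgS_mulVec hσ hσσ he hwe hc, hx]
    simp [sub_eq_add_neg]

/-- there is a vector pairing to one with a given non-zero vector. -/
theorem exists_dual {e : Fin n → F} (he0 : e ≠ 0) : ∃ f : Fin n → F, hf σ f e = 1 := by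
  by_contra hcon
  push Not at hcon
  apply he0
  apply hf_nondeg σ
  intro x
  by_contra hx
  apply hcon ((hf σ x e)⁻¹ • x)
  rw [hf_smul_left, inv_mul_cancel₀ hx]

/-- the double perpendicular of a line. -/
theorem perp_perp_line {e v : Fin n → F} (he0 : e ≠ 0)
    (h : ∀ w, hf σ w e = 0 → hf σ v w = 0) : ∃ k : F, v = k • e := by
  obtain ⟨f, hf1⟩ := exists_dual hσ hσσ he0
  refine ⟨hf σ v f, ?_⟩
  rw [← sub_eq_zero]
  apply hf_nondeg_left σ hσσ
  intro x
  have h1 : hf σ (x - hf σ x e • f) e = 0 := by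
    rw [hf_sub_left, hf_smul_left, hf1, mul_one, sub_self]
  have h2 := h _ h1
  rw [hf_sub_right, hf_smul_right, sub_eq_zero] at h2
  rw [hf_sub_left, hf_smul_left, h2, ← hf_swap σ hσσ x e]
  ring

/-- two elements of `Qa` agreeing on a vector not perpendicular to `e` coincide. -/
theorem Qa_ext {e f : Fin n → F} (hfe : hf σ f e = 1) {g g' : ↥(Cfsg.SU n F q)}
    (hg : g ∈ Qa q σ e) (hg' : g' ∈ Qa q σ e)
    (h : (g.1 : Matrix (Fin n) (Fin n) F) *ᵥ f = (g'.1 : Matrix (Fin n) (Fin n) F) *ᵥ f) : g = g' := by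
  have hk : g⁻¹ * g' ∈ Qa q σ e := mul_mem (inv_mem hg) hg'
  suffices hone : g⁻¹ * g' = 1 by
    have := congrArg (fun z => g * z) hone
    simpa using this.symm
  set k := g⁻¹ * g' with hkdef
  have hkf : (k.1 : Matrix (Fin n) (Fin n) F) *ᵥ f = f := by
    rw [hkdef, su_mul_mulVec hσ hσσ, ← h, su_inv_mulVec hσ hσσ]
  have hef : hf σ e f = 1 := by rw [← hf_swap σ hσσ, hfe, map_one]
  have hperp : ∀ x, hf σ x e = 0 → (k.1 : Matrix (Fin n) (Fin n) F) *ᵥ x = x := by
    intro x hx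
    obtain ⟨κ, hκ⟩ := hk.2 x hx
    have h1 := su_pres hσ k x f
    rw [hκ, hkf, hf_add_left, hf_smul_left, hef, mul_one, add_eq_left] at h1
    rw [hκ, h1, zero_smul, add_zero]
  apply su_ext
  intro x
  show _ = (1 : Matrix (Fin n) (Fin n) F) *ᵥ x
  rw [Matrix.one_mulVec]
  have hx : x = (x - hf σ x e • f) + hf σ x e • f := by abel
  have h1 : hf σ (x - hf σ x e • f) e = 0 := by
    rw [hf_sub_left, hf_smul_left, hfe, mul_one, sub_self]
  conv_lhs => rw [hx]
  rw [Matrix.mulVec_add, Matrix.mulVec_smul, hkf, hperp _ h1]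
  abel

/-- elements of `Qa` are Siegel elements. -/
theorem Qa_eq_sgS {e : Fin n → F} (he0 : e ≠ 0) (he : hf σ e e = 0) {g : ↥(Cfsg.SU n F q)}
    (hg : g ∈ Qa q σ e) :
    ∃ (w : Fin n → F) (c : F), hf σ w e = 0 ∧ c + σ c + hf σ w w = 0 ∧ g = sgS q σ e w c := by
  obtain ⟨f, hfe⟩ := exists_dual hσ hσσ he0
  have hef : hf σ e f = 1 := by rw [← hf_swap σ hσσ, hfe, map_one]
  set y := (g.1 : Matrix (Fin n) (Fin n) F) *ᵥ f - f with hy
  have hgf : (g.1 : Matrix (Fin n) (Fin n) F) *ᵥ f = f + y := by rw [hy]; abel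
  have hye : hf σ y e = 0 := by
    rw [hy, hf_sub_left, hfe]
    have := su_pres hσ g f e
    rw [hg.1] at this
    rw [this, hfe, sub_self]
  have hc : hf σ f y + σ (hf σ f y) + hf σ y y = 0 := by
    have h1 := su_pres hσ g f f
    rw [hgf, hf_add_left, hf_add_right, hf_add_right] at h1
    rw [hf_swap σ hσσ]
    linear_combination h1
  refine ⟨y, hf σ f y, hye, hc, ?_⟩
  apply Qa_ext hσ hσσ hfe hg (sgS_mem_Qa hσ hσσ he hye hc)
  rw [sgS_mulVec hσ hσσ he hye hc, hfe, hgf]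
  simp

end


section finite
variable [Fintype F] {σ : F ≃+* F} (hF : Fintype.card F = q ^ 2) (hσ : ∀ a, σ a = a ^ q)
include hF hσ

theorem exists_tr (s : F) (hs : σ s = s) : ∃ c : F, c + σ c = s := by
  obtain ⟨c, hc⟩ := Cfsg.Agent.Lib.Lead.HI.trace_surj hF s (by rw [← hσ, hs])
  exact ⟨c, by rw [hσ, hc]⟩

theorem exists_adm (w : Fin n → F) : ∃ c : F, c + σ c + hf σ w w = 0 := by
  have hσσ := bar_bar hF σ hσ
  obtain ⟨c, hc⟩ := exists_tr hF hσ (- hf σ w w) (by rw [map_neg, hf_swap σ hσσ])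
  exact ⟨c, by rw [hc]; ring⟩

theorem tvS_pow {e : Fin n → F} {a : F} (he : hf σ e e = 0) (ha : a + σ a = 0) (k : ℕ) :
    (tvS q σ e a) ^ k = tvS q σ e (k * a) := by
  have hσσ := bar_bar hF σ hσ
  induction k with
  | zero =>
    rw [pow_zero, Nat.cast_zero, zero_mul]
    exact (sgS_one hσ hσσ he).symm
  | succ k ih =>
    have hka : (k : F) * a + σ ((k : F) * a) = 0 := by
      rw [map_mul, map_natCast]
      linear_combination (k : F) * ha
    rw [pow_succ, ih, tvS_mul hσ hσσ he hka ha]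
    congr 1
    push_cast
    ring

theorem sgS_pow {e w : Fin n → F} {c : F} (he : hf σ e e = 0) (hwe : hf σ w e = 0)
    (hc : c + σ c + hf σ w w = 0) (k : ℕ) :
    ∃ c' : F, c' + σ c' + hf σ ((k : F) • w) ((k : F) • w) = 0 ∧
      (sgS q σ e w c) ^ k = sgS q σ e ((k : F) • w) c' := by
  have hσσ := bar_bar hF σ hσ
  induction k with
  | zero =>
    refine ⟨0, ?_, ?_⟩
    · rw [Nat.cast_zero, zero_smul, hf_zero_left, map_zero]; ring
    · rw [pow_zero, Nat.cast_zero, zero_smul]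
      exact (sgS_one hσ hσσ he).symm
  | succ k ih =>
    obtain ⟨c', hc', hpow⟩ := ih
    have hkw : hf σ ((k : F) • w) e = 0 := by rw [hf_smul_left, hwe, mul_zero]
    refine ⟨c' + c - hf σ w ((k : F) • w), ?_, ?_⟩
    · have h1 : ((k + 1 : ℕ) : F) • w = (k : F) • w + w := by
        push_cast
        rw [add_smul, one_smul]
      rw [h1]
      simp only [hf_add_left, hf_add_right, map_add, map_sub]
      rw [hf_swap σ hσσ w ((k : F) • w)]
      linear_combination hc' + hc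
    · rw [pow_succ, hpow, sgS_mul hσ hσσ he hkw hwe hc' hc]
      congr 1
      push_cast
      rw [add_smul, one_smul]

theorem Qa_isPGroup (p : ℕ) [Fact p.Prime] [CharP F p] {e : Fin n → F} (he0 : e ≠ 0)
    (he : hf σ e e = 0) : IsPGroup p ↥(Qa q σ e) := by
  have hσσ := bar_bar hF σ hσ
  rintro ⟨g, hg⟩
  refine ⟨2, ?_⟩
  apply Subtype.ext
  rw [Subgroup.coe_pow, Subgroup.coe_one]
  show g ^ p ^ 2 = 1
  obtain ⟨w, c, hwe, hc, rfl⟩ := Qa_eq_sgS hσ hσσ he0 he hg
  obtain ⟨c', hc', hpow⟩ := sgS_pow hF hσ he hwe hc p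
  rw [CharP.cast_eq_zero F p, zero_smul] at hpow hc'
  rw [pow_two, pow_mul, hpow]
  have hc'' : c' + σ c' = 0 := by
    rw [hf_zero_left, add_zero] at hc'
    exact hc'
  show (tvS q σ e c') ^ p = 1
  rw [tvS_pow hF hσ he hc'', CharP.cast_eq_zero F p, zero_mul]
  exact sgS_one hσ hσσ he

/-- a vector outside the span of two given vectors. -/
theorem exists_not_span (hn : 3 ≤ n) (e f : Fin n → F) :
    ∃ u : Fin n → F, ∀ a b : F, u ≠ a • e + b • f := by
  by_contra hcon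
  push Not at hcon
  have hspan : Submodule.span F {e, f} = ⊤ := by
    rw [eq_top_iff]
    intro u _
    obtain ⟨a, b, hab⟩ := hcon u
    rw [hab]
    exact Submodule.add_mem _ (Submodule.smul_mem _ _ (Submodule.subset_span (by simp)))
      (Submodule.smul_mem _ _ (Submodule.subset_span (by simp)))
  classical
  have hspan' : Submodule.span F ((({e, f} : Finset (Fin n → F)) : Set (Fin n → F))) = ⊤ := by
    rw [← hspan]
    congr 1
    ext x
    simp
  have h1 := finrank_span_finset_le_card (R := F) ({e, f} : Finset (Fin n → F))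
  unfold Set.finrank at h1
  rw [hspan', finrank_top, Module.finrank_fin_fun] at h1
  have h2 : ({e, f} : Finset (Fin n → F)).card ≤ 2 := Finset.card_le_two
  omega

/-- the only vectors fixed by `Qa e` are the multiples of `e`. -/
theorem Qa_fixed (hn : 3 ≤ n) {e : Fin n → F} (he0 : e ≠ 0) (he : hf σ e e = 0) (v : Fin n → F)
    (hv : ∀ g ∈ Qa q σ e, (g.1 : Matrix (Fin n) (Fin n) F) *ᵥ v = v) : ∃ k : F, v = k • e := by
  have hσσ := bar_bar hF σ hσ
  have key : ∀ w, hf σ w e = 0 → hf σ v e • w = hf σ v w • e - (0 : F) • e ∨ True := fun _ _ => Or.inr trivial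
  have hrel : ∀ (w : Fin n → F) (c : F), hf σ w e = 0 → c + σ c + hf σ w w = 0 →
      hf σ v e • w = (hf σ v w - c * hf σ v e) • e := by
    intro w c hwe hc
    have h1 := hv _ (sgS_mem_Qa hσ hσσ he hwe hc)
    rw [sgS_mulVec hσ hσσ he hwe hc] at h1
    have h2 : hf σ v e • w - hf σ v w • e + (c * hf σ v e) • e = 0 := by
      have : v + (hf σ v e • w - hf σ v w • e + (c * hf σ v e) • e) = v + 0 := by
        rw [add_zero]
        conv_rhs => rw [← h1]
        abel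
      exact add_left_cancel this
    rw [sub_smul]
    rw [← sub_eq_zero]
    rw [← h2]
    abel
  have hve : hf σ v e = 0 := by
    by_contra hne
    obtain ⟨f, hfe⟩ := exists_dual hσ hσσ he0
    obtain ⟨u, hu⟩ := exists_not_span hF hσ hn e f
    set w := u - hf σ u e • f with hw
    have hwe : hf σ w e = 0 := by rw [hw, hf_sub_left, hf_smul_left, hfe, mul_one, sub_self]
    obtain ⟨c, hc⟩ := exists_adm hF hσ w
    have h1 := hrel w c hwe hc
    apply hu ((hf σ v e)⁻¹ * (hf σ v w - c * hf σ v e)) (hf σ u e)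
    have h2 : w = ((hf σ v e)⁻¹ * (hf σ v w - c * hf σ v e)) • e := by
      rw [mul_smul, ← h1, smul_smul, inv_mul_cancel₀ hne, one_smul]
    rw [← h2, hw]
    abel
  apply perp_perp_line hσ hσσ he0
  intro w hwe
  obtain ⟨c, hc⟩ := exists_adm hF hσ w
  have h1 := hrel w c hwe hc
  rw [hve, zero_smul, mul_zero, sub_zero] at h1
  rcases smul_eq_zero.mp h1.symm with h | h
  · exact h
  · exact absurd h he0

end finite

end Cfsg.Agent.Lib.Helper16.UA
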