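import Cfsg.Agent.Lib.Helper16.UA2
import Cfsg.Agent.Lib.Helper16.SPA5

set_option autoImplicit false
set_option linter.unusedSectionVars false
set_option linter.unusedVariables false

namespace Cfsg.Agent.Lib.Helper16.UA

open Matrix Cfsg.Agent.Lib.Helper16.PU Cfsg.Agent.Lib.Helper16.PG
open Cfsg.Agent.Lib.Helper16.AP (Zs mem_Zs_iff map_Zs)
open Cfsg.Agent.Lib.Helper16.SPA (map_Zs_le)

universe u
variable {n : ℕ} {F : Type u} [Field F] {q : ℕ}

theorem su_one_mulVec (x : Fin n → F) :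
    ((1 : ↥(Cfsg.SU n F q)).1 : Matrix (Fin n) (Fin n) F) *ᵥ x = x := by
  show (1 : Matrix (Fin n) (Fin n) F) *ᵥ x = x
  rw [Matrix.one_mulVec]

theorem su_mul_mulVec' (g h : ↥(Cfsg.SU n F q)) (x : Fin n → F) :
    ((g * h).1 : Matrix (Fin n) (Fin n) F) *ᵥ x =
      (g.1 : Matrix (Fin n) (Fin n) F) *ᵥ ((h.1 : Matrix (Fin n) (Fin n) F) *ᵥ x) := by
  rw [Matrix.mulVec_mulVec]
  rfl

/-- the action of `SU` on vectors. -/
@[reducible] def suAct (n : ℕ) (F : Type u) [Field F] (q : ℕ) :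
    MulAction ↥(Cfsg.SU n F q) (Fin n → F) where
  smul g v := (g.1 : Matrix (Fin n) (Fin n) F) *ᵥ v
  one_smul v := su_one_mulVec v
  mul_smul g h v := su_mul_mulVec' g h v

theorem exists_fixed_vector_su [Fintype F] (p : ℕ) [Fact p.Prime] [CharP F p] (hn : 1 ≤ n)
    (P : Subgroup ↥(Cfsg.SU n F q)) (hP : IsPGroup p ↥P) :
    ∃ v : Fin n → F, v ≠ 0 ∧ ∀ g ∈ P, (g.1 : Matrix (Fin n) (Fin n) F) *ᵥ v = v := by
  classical
  let _ := suAct n F q
  obtain ⟨f, hp, hF⟩ := FiniteField.card F p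
  have hcard : p ∣ Nat.card (Fin n → F) := by
    rw [Nat.card_eq_fintype_card, Fintype.card_fun, hF, Fintype.card_fin, ← pow_mul]
    apply dvd_pow_self
    have : 0 < (f : ℕ) := f.pos
    have : 0 < (f : ℕ) * n := Nat.mul_pos this (by omega)
    omega
  have h0 : (0 : Fin n → F) ∈ MulAction.fixedPoints ↥P (Fin n → F) := by
    intro g
    show ((g : ↥(Cfsg.SU n F q)).1 : Matrix (Fin n) (Fin n) F) *ᵥ (0 : Fin n → F) = 0
    exact Matrix.mulVec_zero _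
  obtain ⟨v, hv, hv0⟩ := hP.exists_fixed_point_of_prime_dvd_card_of_fixed_point
    (Fin n → F) hcard h0
  refine ⟨v, fun h => hv0 h.symm, fun g hg => ?_⟩
  exact hv ⟨g, hg⟩

/-- the group of unitary transvections with centre `e`. -/
def Xs (q : ℕ) (σ : F ≃+* F) (e : Fin n → F) : Subgroup ↥(Cfsg.SU n F q) where
  carrier := {g | ∃ a : F, a + σ a = 0 ∧ g = tvS q σ e a}
  one_mem' := by
    refine ⟨0, by rw [map_zero, add_zero], ?_⟩
    by_cases h : (∀ a, σ a = a ^ q) ∧ (∀ x, σ (σ x) = x) ∧ hf σ e e = 0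
    · exact (sgS_one h.1 h.2.1 h.2.2).symm
    · unfold tvS sgS
      rw [dif_neg (fun h' => h ⟨h'.1, h'.2.1, h'.2.2.1⟩)]
  mul_mem' := by
    rintro _ _ ⟨a, ha, rfl⟩ ⟨b, hb, rfl⟩
    by_cases h : (∀ a, σ a = a ^ q) ∧ (∀ x, σ (σ x) = x) ∧ hf σ e e = 0
    · refine ⟨a + b, ?_, tvS_mul h.1 h.2.1 h.2.2 ha hb⟩
      rw [map_add]
      linear_combination ha + hb
    · refine ⟨0, by rw [map_zero, add_zero], ?_⟩
      unfold tvS sgS
      rw [dif_neg (fun h' => h ⟨h'.1, h'.2.1, h'.2.2.1⟩), dif_neg (fun h' => h ⟨h'.1, h'.2.1, h'.2.2.1⟩),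
        dif_neg (fun h' => h ⟨h'.1, h'.2.1, h'.2.2.1⟩), mul_one]
  inv_mem' := by
    rintro _ ⟨a, ha, rfl⟩
    by_cases h : (∀ a, σ a = a ^ q) ∧ (∀ x, σ (σ x) = x) ∧ hf σ e e = 0
    · refine ⟨-a, ?_, ?_⟩
      · rw [map_neg]
        linear_combination -ha
      · symm
        apply eq_inv_of_mul_eq_one_right
        have ha' : -a + σ (-a) = 0 := by
          rw [map_neg]
          linear_combination -ha
        rw [tvS_mul h.1 h.2.1 h.2.2 ha ha', add_neg_cancel]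
        exact sgS_one h.1 h.2.1 h.2.2
    · refine ⟨0, by rw [map_zero, add_zero], ?_⟩
      unfold tvS sgS
      rw [dif_neg (fun h' => h ⟨h'.1, h'.2.1, h'.2.2.1⟩), dif_neg (fun h' => h ⟨h'.1, h'.2.1, h'.2.2.1⟩),
        inv_one]

theorem mem_Xs_iff (σ : F ≃+* F) (e : Fin n → F) (g : ↥(Cfsg.SU n F q)) :
    g ∈ Xs q σ e ↔ ∃ a : F, a + σ a = 0 ∧ g = tvS q σ e a := Iff.rfl

section
variable {σ : F ≃+* F} (hσ : ∀ a, σ a = a ^ q) (hσσ : ∀ x, σ (σ x) = x)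
include hσ hσσ

theorem Xs_le_Qa {e : Fin n → F} (he : hf σ e e = 0) : Xs q σ e ≤ Qa q σ e := by
  rintro _ ⟨a, ha, rfl⟩
  exact sgS_mem_Qa hσ hσσ he (hf_zero_left σ e) (by rw [hf_zero_left, add_zero]; exact ha)

/-- an element fixing `e` and commuting with all Siegel elements at `e` is a transvection. -/
theorem central_Q [Fintype F] (hF : Fintype.card F = q ^ 2) {e : Fin n → F} (he0 : e ≠ 0)
    (he : hf σ e e = 0) (z : ↥(Cfsg.SU n F q))
    (hze : (z.1 : Matrix (Fin n) (Fin n) F) *ᵥ e = e)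
    (hcomm : ∀ (w : Fin n → F) (c : F), hf σ w e = 0 → c + σ c + hf σ w w = 0 →
      z * sgS q σ e w c = sgS q σ e w c * z) : z ∈ Xs q σ e := by
  obtain ⟨f, hfe⟩ := exists_dual hσ hσσ he0
  -- step 1: z lies in Qa
  have hzQ : z ∈ Qa q σ e := by
    rw [mem_Qa_iff]
    refine ⟨hze, fun w hwe => ?_⟩
    obtain ⟨c, hc⟩ := exists_adm hF hσ w
    have h1 := sgS_conj hσ hσσ z he hwe hc
    rw [hze, hcomm w c hwe hc, mul_assoc, mul_inv_cancel, mul_one] at h1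
    have hzwe : hf σ ((z.1 : Matrix (Fin n) (Fin n) F) *ᵥ w) e = 0 := by
      have := su_pres hσ z w e
      rw [hze] at this
      rw [this, hwe]
    have hc' : c + σ c + hf σ ((z.1 : Matrix (Fin n) (Fin n) F) *ᵥ w)
        ((z.1 : Matrix (Fin n) (Fin n) F) *ᵥ w) = 0 := by
      rw [su_pres hσ, hc]
    have h2 : ((sgS q σ e w c).1 : Matrix (Fin n) (Fin n) F) *ᵥ f =
        ((sgS q σ e ((z.1 : Matrix (Fin n) (Fin n) F) *ᵥ w) c).1 : Matrix (Fin n) (Fin n) F) *ᵥ f := by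
      rw [h1]
    rw [sgS_mulVec hσ hσσ he hwe hc, sgS_mulVec hσ hσσ he hzwe hc', hfe, one_smul, one_smul] at h2
    refine ⟨hf σ f ((z.1 : Matrix (Fin n) (Fin n) F) *ᵥ w) - hf σ f w, ?_⟩
    have h3 : (z.1 : Matrix (Fin n) (Fin n) F) *ᵥ w - hf σ f ((z.1 : Matrix (Fin n) (Fin n) F) *ᵥ w) • e =
        w - hf σ f w • e := by
      have h4 := h2
      rw [add_sub_assoc, add_assoc, add_sub_assoc, add_assoc] at h4
      have h5 := add_left_cancel h4
      have h6 := add_right_cancel h5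
      exact h6.symm
    rw [sub_eq_iff_eq_add] at h3
    refine h3.trans ?_
    rw [sub_smul]
    abel
  obtain ⟨w₀, c₀, hw₀e, hc₀, rfl⟩ := Qa_eq_sgS hσ hσσ he0 he hzQ
  -- step 2: symmetry
  have hsym : ∀ w, hf σ w e = 0 → hf σ w w₀ = hf σ w₀ w := by
    intro w hwe
    obtain ⟨c, hc⟩ := exists_adm hF hσ w
    have h1 := hcomm w c hwe hc
    rw [sgS_mul hσ hσσ he hw₀e hwe hc₀ hc, sgS_mul hσ hσσ he hwe hw₀e hc hc₀] at h1
    have hwe1 : hf σ (w₀ + w) e = 0 := by rw [hf_add_left, hw₀e, hwe, add_zero]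
    have hwe2 : hf σ (w + w₀) e = 0 := by rw [hf_add_left, hw₀e, hwe, add_zero]
    have hc1 : (c₀ + c - hf σ w w₀) + σ (c₀ + c - hf σ w w₀) + hf σ (w₀ + w) (w₀ + w) = 0 := by
      simp only [hf_add_left, hf_add_right, map_add, map_sub]
      rw [hf_swap σ hσσ w w₀]
      linear_combination hc + hc₀
    have hc2 : (c + c₀ - hf σ w₀ w) + σ (c + c₀ - hf σ w₀ w) + hf σ (w + w₀) (w + w₀) = 0 := by
      simp only [hf_add_left, hf_add_right, map_add, map_sub]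
      rw [hf_swap σ hσσ w₀ w]
      linear_combination hc + hc₀
    have h2 : ((sgS q σ e (w₀ + w) (c₀ + c - hf σ w w₀)).1 : Matrix (Fin n) (Fin n) F) *ᵥ f =
        ((sgS q σ e (w + w₀) (c + c₀ - hf σ w₀ w)).1 : Matrix (Fin n) (Fin n) F) *ᵥ f := by
      rw [h1]
    rw [sgS_mulVec hσ hσσ he hwe1 hc1, sgS_mulVec hσ hσσ he hwe2 hc2, hfe, one_smul, one_smul,
      mul_one, mul_one, add_comm w w₀] at h2
    have h3 := add_left_cancel h2
    have h4 : (c₀ + c - hf σ w w₀ - (c + c₀ - hf σ w₀ w)) • e = 0 := by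
      rw [sub_smul, h3, sub_self]
    rcases smul_eq_zero.mp h4 with h5 | h5
    · linear_combination -h5
    · exact absurd h5 he0
  -- step 3: w₀ is a multiple of e
  obtain ⟨θ, hθ⟩ := exists_moved hF σ hσ
  have hperp : ∀ w, hf σ w e = 0 → hf σ w₀ w = 0 := by
    intro w hwe
    have h1 := hsym w hwe
    have h2 := hsym (θ • w) (by rw [hf_smul_left, hwe, mul_zero])
    rw [hf_smul_left, hf_smul_right, h1] at h2
    have h3 : (θ - σ θ) * hf σ w₀ w = 0 := by linear_combination h2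
    rcases mul_eq_zero.mp h3 with h4 | h4
    · exact absurd (sub_eq_zero.mp h4).symm hθ
    · exact h4
  obtain ⟨k, hk⟩ := perp_perp_line hσ hσσ he0 hperp
  subst hk
  refine ⟨c₀ + k - σ k, ?_, ?_⟩
  · rw [hf_smul_left, hf_smul_right, he, mul_zero, mul_zero, add_zero] at hc₀
    rw [map_sub, map_add, hσσ]
    linear_combination hc₀
  · have ha : (c₀ + k - σ k) + σ (c₀ + k - σ k) = 0 := by
      rw [hf_smul_left, hf_smul_right, he, mul_zero, mul_zero, add_zero] at hc₀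
      rw [map_sub, map_add, hσσ]
      linear_combination hc₀
    apply su_ext
    intro x
    rw [sgS_mulVec hσ hσσ he hw₀e hc₀, tvS_mulVec hσ hσσ he ha, hf_smul_right]
    module

end

section sylow
variable [Fintype F] {σ : F ≃+* F} (hF : Fintype.card F = q ^ 2) (hσ : ∀ a, σ a = a ^ q)
include hF hσ

theorem sylow_fix (p : ℕ) [Fact p.Prime] [CharP F p] (hn : 3 ≤ n) {e : Fin n → F} (he0 : e ≠ 0)
    (he : hf σ e e = 0) (P : Sylow p ↥(Cfsg.SU n F q)) (hQ : Qa q σ e ≤ P) :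
    ∀ g ∈ P, (g.1 : Matrix (Fin n) (Fin n) F) *ᵥ e = e := by
  obtain ⟨v, hv0, hv⟩ := exists_fixed_vector_su p (by omega) P.toSubgroup P.2
  obtain ⟨k, hk⟩ := Qa_fixed hF hσ hn he0 he v (fun g hg => hv g (hQ hg))
  have hk0 : k ≠ 0 := by
    rintro rfl
    rw [zero_smul] at hk
    exact hv0 hk
  intro g hg
  have h2 := hv g hg
  rw [hk, Matrix.mulVec_smul] at h2
  exact smul_right_injective _ hk0 h2

theorem Zs_sylow_eq (p : ℕ) [Fact p.Prime] [CharP F p] (hn : 3 ≤ n) {e : Fin n → F} (he0 : e ≠ 0)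
    (he : hf σ e e = 0) (P : Sylow p ↥(Cfsg.SU n F q)) (hQ : Qa q σ e ≤ P) :
    Zs (P : Subgroup ↥(Cfsg.SU n F q)) = Xs q σ e := by
  have hσσ := bar_bar hF σ hσ
  have hfix := sylow_fix hF hσ p hn he0 he P hQ
  apply le_antisymm
  · intro z hz
    rw [mem_Zs_iff] at hz
    apply central_Q hσ hσσ hF he0 he z (hfix z hz.1)
    intro w c hwe hc
    exact (hz.2 _ (hQ (sgS_mem_Qa hσ hσσ he hwe hc))).symm
  · intro t ht
    rw [mem_Zs_iff]
    refine ⟨hQ (Xs_le_Qa hσ hσσ he ht), fun g hg => ?_⟩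
    obtain ⟨a, ha, rfl⟩ := ht
    have h1 := tvS_conj hσ hσσ g he ha
    rw [hfix g hg] at h1
    have h2 : g * tvS q σ e a = (g * tvS q σ e a * g⁻¹) * g := by group
    rw [h2, h1]

end sylow


/-- the projection `SU → PSU`. -/
def mkU (n : ℕ) (F : Type u) [Field F] (q : ℕ) : ↥(Cfsg.SU n F q) →* Cfsg.PSU n F q :=
  QuotientGroup.mk' _

theorem mkU_surjective : Function.Surjective (mkU n F q) := QuotientGroup.mk'_surjective _

theorem mkU_eq_iff (a b : ↥(Cfsg.SU n F q)) :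
    mkU n F q a = mkU n F q b ↔ a⁻¹ * b ∈ Subgroup.center ↥(Cfsg.SU n F q) := QuotientGroup.eq

theorem mkU_eq_one_iff (a : ↥(Cfsg.SU n F q)) :
    mkU n F q a = 1 ↔ a ∈ Subgroup.center ↥(Cfsg.SU n F q) := QuotientGroup.eq_one_iff a

/-- the image of the transvection group in `PSU`. -/
def Xb (q : ℕ) (σ : F ≃+* F) (e : Fin n → F) : Subgroup (Cfsg.PSU n F q) := (Xs q σ e).map (mkU n F q)

theorem mem_Xb_iff (σ : F ≃+* F) (e : Fin n → F) (x : Cfsg.PSU n F q) :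
    x ∈ Xb q σ e ↔ ∃ a : F, a + σ a = 0 ∧ x = mkU n F q (tvS q σ e a) := by
  constructor
  · rintro ⟨_, ⟨a, ha, rfl⟩, rfl⟩
    exact ⟨a, ha, rfl⟩
  · rintro ⟨a, ha, rfl⟩
    exact ⟨_, ⟨a, ha, rfl⟩, rfl⟩

section
variable {σ : F ≃+* F} (hσ : ∀ a, σ a = a ^ q) (hσσ : ∀ x, σ (σ x) = x)
include hσ hσσ

theorem Xs_conj (g : ↥(Cfsg.SU n F q)) {e : Fin n → F} (he : hf σ e e = 0) :
    (Xs q σ e).map (MulAut.conj g).toMonoidHom = Xs q σ ((g.1 : Matrix (Fin n) (Fin n) F) *ᵥ e) := by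
  ext x
  constructor
  · rintro ⟨_, ⟨a, ha, rfl⟩, rfl⟩
    refine ⟨a, ha, ?_⟩
    show g * tvS q σ e a * g⁻¹ = _
    exact tvS_conj hσ hσσ g he ha
  · rintro ⟨a, ha, rfl⟩
    refine ⟨_, ⟨a, ha, rfl⟩, ?_⟩
    show g * tvS q σ e a * g⁻¹ = _
    exact tvS_conj hσ hσσ g he ha

theorem Xb_conj (g : ↥(Cfsg.SU n F q)) {e : Fin n → F} (he : hf σ e e = 0) :
    (Xb q σ e).map (MulAut.conj (mkU n F q g)).toMonoidHom =
      Xb q σ ((g.1 : Matrix (Fin n) (Fin n) F) *ᵥ e) := by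
  unfold Xb
  rw [← Xs_conj hσ hσσ g he, Subgroup.map_map, Subgroup.map_map]
  congr 1

end

section transfer
variable [Fintype F] {σ : F ≃+* F} (hF : Fintype.card F = q ^ 2) (hσ : ∀ a, σ a = a ^ q)
include hF hσ

/-- a central element of `p`-power order is trivial. -/
theorem center_pow_eq_one (p : ℕ) [Fact p.Prime] [CharP F p] (hn : 3 ≤ n)
    (z : ↥(Cfsg.SU n F q)) (hz : z ∈ Subgroup.center ↥(Cfsg.SU n F q)) (k : ℕ) (hk : z ^ p ^ k = 1) :
    z = 1 := by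
  obtain ⟨d, hd⟩ := center_SU_scalar hF hn z hz
  have h1 : ((z ^ p ^ k).1 : Matrix (Fin n) (Fin n) F) = (d ^ p ^ k) • 1 := by
    have : ((z ^ p ^ k).1 : Matrix (Fin n) (Fin n) F) = (z.1 : Matrix (Fin n) (Fin n) F) ^ p ^ k := by
      rw [Subgroup.coe_pow, Matrix.SpecialLinearGroup.coe_pow]
    rw [this, hd, smul_pow, one_pow]
  rw [hk] at h1
  have h2 : (1 : F) = d ^ p ^ k := by
    have h3 := congrFun (congrFun h1 ⟨0, by omega⟩) ⟨0, by omega⟩
    simpa using h3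
  have h4 : (d - 1) ^ p ^ k = 0 := by
    rw [sub_pow_char_pow, ← h2, one_pow, sub_self]
  have h5 : d = 1 := by
    have := pow_eq_zero_iff (pow_ne_zero k (Fact.out : p.Prime).ne_zero) |>.mp h4
    exact sub_eq_zero.mp this
  apply Subtype.ext
  apply Subtype.ext
  rw [hd, h5, one_smul]
  rfl

theorem Zs_map_mkU_le (p : ℕ) [Fact p.Prime] [CharP F p] (hn : 3 ≤ n)
    (P : Subgroup ↥(Cfsg.SU n F q)) (hP : IsPGroup p ↥P) :
    Zs (P.map (mkU n F q)) ≤ (Zs P).map (mkU n F q) := by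
  intro zb hzb
  rw [mem_Zs_iff] at hzb
  obtain ⟨⟨z, hz, rfl⟩, hc⟩ := hzb
  refine ⟨z, ?_, rfl⟩
  show z ∈ Zs P
  rw [mem_Zs_iff]
  refine ⟨hz, fun h hh => ?_⟩
  have h1 := hc _ (Subgroup.mem_map_of_mem _ hh)
  rw [← map_mul, ← map_mul, mkU_eq_iff] at h1
  have h2 : (h * z)⁻¹ * (z * h) ∈ P := mul_mem (inv_mem (mul_mem hh hz)) (mul_mem hz hh)
  obtain ⟨k, hk⟩ := hP ⟨_, h2⟩
  have hk' : ((h * z)⁻¹ * (z * h)) ^ p ^ k = 1 := by
    have := congrArg Subtype.val hk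
    simpa using this
  have h3 := center_pow_eq_one hF hσ p hn _ h1 k hk'
  have h4 : h * z * ((h * z)⁻¹ * (z * h)) = h * z * 1 := by rw [h3]
  rw [mul_one, mul_inv_cancel_left] at h4
  exact h4.symm

theorem aut_Xb (p : ℕ) [Fact p.Prime] [CharP F p] (hn : 3 ≤ n) {e : Fin n → F} (he0 : e ≠ 0)
    (he : hf σ e e = 0) (α : MulAut (Cfsg.PSU n F q)) :
    ∃ e' : Fin n → F, e' ≠ 0 ∧ hf σ e' e' = 0 ∧ (Xb q σ e).map α.toMonoidHom = Xb q σ e' := by
  have hσσ := bar_bar hF σ hσ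
  obtain ⟨P₁, hQ⟩ := (Qa_isPGroup hF hσ p he0 he).exists_le_sylow
  set Pb : Sylow p (Cfsg.PSU n F q) := P₁.mapSurjective mkU_surjective with hPb_def
  obtain ⟨xb, hx⟩ := MulAction.exists_smul_eq (Cfsg.PSU n F q) Pb (α • Pb)
  have h1 := congrArg (fun P : Sylow p (Cfsg.PSU n F q) => P.toSubgroup) hx
  simp only [Sylow.coe_subgroup_smul, Sylow.pointwise_smul_def] at h1
  obtain ⟨x, rfl⟩ := mkU_surjective xb
  have hPb : (Pb : Subgroup (Cfsg.PSU n F q)) = P₁.toSubgroup.map (mkU n F q) := rfl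
  have h2 : (Pb : Subgroup (Cfsg.PSU n F q)).map (MulAut.conj (mkU n F q x)).toMonoidHom =
      (Pb : Subgroup (Cfsg.PSU n F q)).map α.toMonoidHom := h1
  have hZ : Zs (Pb : Subgroup (Cfsg.PSU n F q)) = Xb q σ e := by
    rw [hPb]
    unfold Xb
    rw [← Zs_sylow_eq hF hσ p hn he0 he P₁ hQ]
    exact le_antisymm (Zs_map_mkU_le hF hσ p hn _ P₁.2) (map_Zs_le _ _)
  refine ⟨(x.1 : Matrix (Fin n) (Fin n) F) *ᵥ e, ?_, ?_, ?_⟩
  · intro h
    apply he0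
    have := su_inv_mulVec hσ hσσ x e
    rw [h, Matrix.mulVec_zero] at this
    exact this.symm
  · rw [su_pres hσ, he]
  · rw [← hZ, map_Zs, ← h2, ← map_Zs, hZ, Xb_conj hσ hσσ x he]

end transfer

end Cfsg.Agent.Lib.Helper16.UA
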