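import Cfsg.Agent.Lib.Helper16.UA3

set_option autoImplicit false
set_option linter.unusedSectionVars false
set_option linter.unusedVariables false

namespace Cfsg.Agent.Lib.Helper16.UA

open Matrix Cfsg.Agent.Lib.Helper16.PU Cfsg.Agent.Lib.Helper16.PG
open Cfsg.Agent.Lib.Helper16.SPA (par par_refl par_symm par_trans par_ne_zero par_smul)

universe u
variable {n : ℕ} {F : Type u} [Field F] {q : ℕ}

section
variable {σ : F ≃+* F} (hσ : ∀ a, σ a = a ^ q) (hσσ : ∀ x, σ (σ x) = x)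
include hσ hσσ

theorem su_mulVec_ne_zero (g : ↥(Cfsg.SU n F q)) {v : Fin n → F} (hv : v ≠ 0) : g.1.1 *ᵥ v ≠ 0 := by
  intro h
  apply hv
  have := su_inv_mulVec hσ hσσ g v
  rw [h, Matrix.mulVec_zero] at this
  exact this.symm

theorem Xs_smul_le {e : Fin n → F} (he : hf σ e e = 0) (l : F) : Xs q σ (l • e) ≤ Xs q σ e := by
  rintro _ ⟨a, ha, rfl⟩
  refine ⟨l * σ l * a, ?_, tvS_smul hσ hσσ l he ha⟩
  rw [map_mul, map_mul, hσσ]
  linear_combination (l * σ l) * ha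

theorem Xs_smul {e : Fin n → F} (he : hf σ e e = 0) {l : F} (hl : l ≠ 0) : Xs q σ (l • e) = Xs q σ e := by
  apply le_antisymm (Xs_smul_le hσ hσσ he l)
  have he' : hf σ (l • e) (l • e) = 0 := by rw [hf_smul_left, hf_smul_right, he, mul_zero, mul_zero]
  have := Xs_smul_le hσ hσσ he' l⁻¹
  rwa [smul_smul, inv_mul_cancel₀ hl, one_smul] at this

theorem Xb_smul {e : Fin n → F} (he : hf σ e e = 0) {l : F} (hl : l ≠ 0) : Xb q σ (l • e) = Xb q σ e := by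
  unfold Xb
  rw [Xs_smul hσ hσσ he hl]

theorem Xb_eq_of_par {e e' : Fin n → F} (he : hf σ e e = 0) (h : par e e') : Xb q σ e = Xb q σ e' := by
  obtain ⟨c, hc, rfl⟩ := h
  exact (Xb_smul hσ hσσ he hc).symm

theorem iso_of_par {e e' : Fin n → F} (he : hf σ e e = 0) (h : par e e') : hf σ e' e' = 0 := by
  obtain ⟨c, hc, rfl⟩ := h
  rw [hf_smul_left, hf_smul_right, he, mul_zero, mul_zero]

end

section fin
variable [Fintype F] {σ : F ≃+* F} (hF : Fintype.card F = q ^ 2) (hσ : ∀ a, σ a = a ^ q)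
include hF hσ

theorem par_of_tvS_eq (hn : 3 ≤ n) {e e' : Fin n → F} (he0 : e ≠ 0) (he : hf σ e e = 0)
    (he' : hf σ e' e' = 0) {a a' : F} (ha0 : a ≠ 0) (ha : a + σ a = 0) (ha' : a' + σ a' = 0)
    (z : ↥(Cfsg.SU n F q)) (hz : z ∈ Subgroup.center ↥(Cfsg.SU n F q))
    (h : tvS q σ e a = z * tvS q σ e' a') : par e' e := by
  have hσσ := bar_bar hF σ hσ
  obtain ⟨d, hd⟩ := center_SU_scalar hF hn z hz
  have hx : ∀ x : Fin n → F, x + (a * hf σ x e) • e = d • (x + (a' * hf σ x e') • e') := by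
    intro x
    have h1 : (tvS q σ e a).1.1 *ᵥ x = (z * tvS q σ e' a').1.1 *ᵥ x := by rw [h]
    rw [su_mul_mulVec hσ hσσ, tvS_mulVec hσ hσσ he ha, tvS_mulVec hσ hσσ he' ha'] at h1
    rw [h1]
    show z.1.1 *ᵥ _ = _
    rw [hd, Matrix.smul_mulVec, Matrix.one_mulVec]
  have hd1 : d = 1 := by
    by_contra hne
    have hne' : (1 - d) ≠ 0 := sub_ne_zero.mpr (Ne.symm hne)
    obtain ⟨u, hu⟩ := exists_not_span hF hσ hn e e'
    apply hu (- (1 - d)⁻¹ * (a * hf σ u e)) ((1 - d)⁻¹ * (d * (a' * hf σ u e')))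
    have h2 := hx u
    have h3 : (1 - d) • u = (d * (a' * hf σ u e')) • e' - (a * hf σ u e) • e := by
      rw [sub_smul, one_smul, sub_eq_sub_iff_add_eq_add]
      rw [smul_add, smul_smul] at h2
      rw [h2]
      abel
    have h4 : u = (1 - d)⁻¹ • ((d * (a' * hf σ u e')) • e' - (a * hf σ u e) • e) := by
      rw [← h3, smul_smul, inv_mul_cancel₀ hne', one_smul]
    refine h4.trans ?_
    rw [smul_sub, smul_smul, smul_smul, neg_mul, neg_smul]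
    abel
  obtain ⟨f, hfe⟩ := exists_dual hσ hσσ he0
  have h2 := hx f
  rw [hd1, one_smul, hfe, mul_one] at h2
  have h3 : a • e = (a' * hf σ f e') • e' := add_left_cancel h2
  have h4 : e = (a⁻¹ * (a' * hf σ f e')) • e' := by
    rw [mul_smul, ← h3, smul_smul, inv_mul_cancel₀ ha0, one_smul]
  refine ⟨a⁻¹ * (a' * hf σ f e'), ?_, h4⟩
  intro h0
  rw [h0, zero_smul] at h4
  exact he0 h4

theorem par_of_Xb_eq (hn : 3 ≤ n) {e e' : Fin n → F} (he0 : e ≠ 0) (he : hf σ e e = 0)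
    (he' : hf σ e' e' = 0) (h : Xb q σ e = Xb q σ e') : par e e' := by
  have hσσ := bar_bar hF σ hσ
  obtain ⟨a, ha0, ha⟩ := exists_skew hF σ hσ
  have ha' : a + σ a = 0 := by rw [ha]; ring
  have h1 : mkU n F q (tvS q σ e a) ∈ Xb q σ e' := by
    rw [← h]
    exact (mem_Xb_iff σ e _).mpr ⟨a, ha', rfl⟩
  obtain ⟨a', ha'', h2⟩ := (mem_Xb_iff σ e' _).mp h1
  rw [eq_comm, mkU_eq_iff] at h2
  have h3 : tvS q σ e a = ((tvS q σ e' a')⁻¹ * tvS q σ e a) * tvS q σ e' a' := by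
    have hc := Subgroup.mem_center_iff.mp h2 (tvS q σ e' a')
    rw [← hc]
    group
  exact par_symm (par_of_tvS_eq hF hσ hn he0 he he' ha0 ha' ha'' _ h2 h3)

/-- the transvection groups commute. -/
def XComm (q : ℕ) (σ : F ≃+* F) (e e' : Fin n → F) : Prop :=
  ∀ x ∈ Xb q σ e, ∀ y ∈ Xb q σ e', x * y = y * x

theorem XComm_of_perp {e e' : Fin n → F} (he : hf σ e e = 0) (he' : hf σ e' e' = 0)
    (h : hf σ e e' = 0) : XComm q σ e e' := by
  have hσσ := bar_bar hF σ hσ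
  intro x hx y hy
  obtain ⟨a, ha, rfl⟩ := (mem_Xb_iff σ e _).mp hx
  obtain ⟨b, hb, rfl⟩ := (mem_Xb_iff σ e' _).mp hy
  rw [← map_mul, ← map_mul]
  congr 1
  have h1 := tvS_conj hσ hσσ (tvS q σ e' b) he ha
  rw [tvS_mulVec hσ hσσ he' hb, h, mul_zero, zero_smul, add_zero] at h1
  have h2 : tvS q σ e' b * tvS q σ e a = (tvS q σ e' b * tvS q σ e a * (tvS q σ e' b)⁻¹) * tvS q σ e' b := by
    group
  rw [h2, h1]

theorem perp_of_XComm (hn : 3 ≤ n) {e e' : Fin n → F} (he0 : e ≠ 0) (he : hf σ e e = 0)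
    (he' : hf σ e' e' = 0) (h : XComm q σ e e') : hf σ e e' = 0 := by
  have hσσ := bar_bar hF σ hσ
  by_contra hne
  obtain ⟨a, ha0, ha⟩ := exists_skew hF σ hσ
  have ha' : a + σ a = 0 := by rw [ha]; ring
  have h1 := h _ ((mem_Xb_iff σ e _).mpr ⟨a, ha', rfl⟩) _ ((mem_Xb_iff σ e' _).mpr ⟨a, ha', rfl⟩)
  rw [← map_mul, ← map_mul, mkU_eq_iff] at h1
  set z := (tvS q σ e a * tvS q σ e' a)⁻¹ * (tvS q σ e' a * tvS q σ e a) with hz
  have h2 := tvS_conj hσ hσσ (tvS q σ e' a) he ha'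
  rw [tvS_mulVec hσ hσσ he' ha'] at h2
  set e'' := e + (a * hf σ e e') • e' with he''
  have hiso'' : hf σ e'' e'' = 0 := by
    have := su_pres hσ (tvS q σ e' a) e e
    rw [tvS_mulVec hσ hσσ he' ha', ← he''] at this
    rw [this, he]
  have h3 : tvS q σ e a = z⁻¹ * tvS q σ e'' a := by
    have hc := Subgroup.mem_center_iff.mp h1
    have hzB : tvS q σ e' a * z * (tvS q σ e' a)⁻¹ = z := by
      rw [hc (tvS q σ e' a)]
      group
    have h5 : tvS q σ e' a * tvS q σ e a * (tvS q σ e' a)⁻¹ =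
        tvS q σ e a * (tvS q σ e' a * z * (tvS q σ e' a)⁻¹) := by
      rw [hz]
      group
    rw [hzB] at h5
    rw [← h2, h5, hc (tvS q σ e a)]
    group
  have h4 := par_of_tvS_eq hF hσ hn he0 he hiso'' ha0 ha' ha' _ (inv_mem h1) h3
  obtain ⟨c, hc0, hc⟩ := h4
  have h5 : (a * hf σ e e') • e' = (c⁻¹ - 1) • e := by
    have h6 : e'' = c⁻¹ • e := by
      rw [hc, smul_smul, inv_mul_cancel₀ hc0, one_smul]
    rw [sub_smul, one_smul, ← h6, he'']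
    abel
  have h7 : e' = ((a * hf σ e e')⁻¹ * (c⁻¹ - 1)) • e := by
    rw [mul_smul, ← h5, smul_smul, inv_mul_cancel₀ (mul_ne_zero ha0 hne), one_smul]
  apply hne
  rw [h7, hf_smul_right, he, mul_zero]

theorem XComm_iff (hn : 3 ≤ n) {e e' : Fin n → F} (he0 : e ≠ 0) (he : hf σ e e = 0)
    (he' : hf σ e' e' = 0) : XComm q σ e e' ↔ hf σ e e' = 0 :=
  ⟨perp_of_XComm hF hσ hn he0 he he', XComm_of_perp hF hσ he he'⟩

omit [Fintype F] hF in
theorem Xb_map_equiv (α : MulAut (Cfsg.PSU n F q)) {e e' : Fin n → F} (he : hf σ e e = 0)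
    (he' : hf σ e' e' = 0) (h : (Xb q σ e).map α.toMonoidHom = Xb q σ e')
    (hσσ : ∀ x, σ (σ x) = x) (g g' : ↥(Cfsg.SU n F q))
    (hg : α (mkU n F q g) = mkU n F q g') :
    (Xb q σ (g.1.1 *ᵥ e)).map α.toMonoidHom = Xb q σ (g'.1.1 *ᵥ e') := by
  rw [← Xb_conj hσ hσσ g he, ← Xb_conj hσ hσσ g' he', ← h, Subgroup.map_map, Subgroup.map_map]
  congr 1
  apply MonoidHom.ext
  intro y
  show α (mkU n F q g * y * (mkU n F q g)⁻¹) = mkU n F q g' * α y * (mkU n F q g')⁻¹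
  rw [map_mul, map_mul, map_inv, hg]

omit [Fintype F] hF hσ in
theorem isoV_ne_zero (σ : F ≃+* F) (i j : Fin n) (hij : i ≠ j) (μ : F) : isoV i j μ ≠ 0 := by
  intro h
  have := isoV_dual σ i j hij μ
  rw [h] at this
  have h0 : (⇑σ ∘ (0 : Fin n → F)) = 0 := by funext k; simp
  rw [h0, zero_dotProduct] at this
  exact zero_ne_one this

theorem eq_one_of_fix_Xb (hn : 3 ≤ n) (α : MulAut (Cfsg.PSU n F q))
    (h : ∀ e : Fin n → F, e ≠ 0 → hf σ e e = 0 → (Xb q σ e).map α.toMonoidHom = Xb q σ e) : α = 1 := by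
  have hσσ := bar_bar hF σ hσ
  obtain ⟨μ, hμ, hμ2⟩ := exists_mu hF σ hσ
  have hμ0 : μ ≠ 0 := by
    rintro rfl
    rw [zero_mul] at hμ
    exact one_ne_zero (neg_eq_zero.mp hμ.symm)
  apply MulEquiv.ext
  intro y
  obtain ⟨g, rfl⟩ := mkU_surjective y
  obtain ⟨g', hg'⟩ := mkU_surjective (α (mkU n F q g))
  show α (mkU n F q g) = mkU n F q g
  rw [← hg', eq_comm, mkU_eq_iff]
  have hline : ∀ e : Fin n → F, e ≠ 0 → hf σ e e = 0 → ∃ l : F, (g⁻¹ * g').1.1 *ᵥ e = l • e := by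
    intro e he0 he
    have h1 := Xb_map_equiv hσ α he he (h e he0 he) hσσ g g' hg'.symm
    have hge0 := su_mulVec_ne_zero hσ hσσ g he0
    have hge : hf σ (g.1.1 *ᵥ e) (g.1.1 *ᵥ e) = 0 := by rw [su_pres hσ, he]
    have hge' : hf σ (g'.1.1 *ᵥ e) (g'.1.1 *ᵥ e) = 0 := by rw [su_pres hσ, he]
    rw [h _ hge0 hge] at h1
    obtain ⟨c, hc0, hc⟩ := par_of_Xb_eq hF hσ hn hge0 hge hge' h1
    refine ⟨c, ?_⟩
    rw [su_mul_mulVec hσ hσσ, hc, Matrix.mulVec_smul, su_inv_mulVec hσ hσσ]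
  obtain ⟨d, hd⟩ := scalar_of_fix_lines hn μ hμ0 hμ2 (g⁻¹ * g').1.1 (fun i j hij =>
    hline _ (isoV_ne_zero σ i j hij μ) (isoV_iso σ i j hij μ hμ))
  rw [Subgroup.mem_center_iff]
  intro k
  apply Subtype.ext
  apply Subtype.ext
  show k.1.1 * (g⁻¹ * g').1.1 = (g⁻¹ * g').1.1 * k.1.1
  rw [hd]
  simp

end fin

end Cfsg.Agent.Lib.Helper16.UA
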