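import Cfsg.Agent.Lib.Helper16.UA4

set_option autoImplicit false
set_option linter.unusedSectionVars false
set_option linter.unusedVariables false

namespace Cfsg.Agent.Lib.Helper16.UA

open Matrix Cfsg.Agent.Lib.Helper16.PU Cfsg.Agent.Lib.Helper16.PG
open Cfsg.Agent.Lib.Helper16.SPA (par par_refl par_symm par_trans par_ne_zero par_smul)

universe u
variable {n : ℕ} {F : Type u} [Field F] {q : ℕ}

/-- projection to the orthogonal complement of a hyperbolic pair. -/
def prW (σ : F ≃+* F) (e f x : Fin n → F) : Fin n → F := x - hf σ x e • f - hf σ x f • e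

section
variable {σ : F ≃+* F} (hσ : ∀ a, σ a = a ^ q) (hσσ : ∀ x, σ (σ x) = x)
include hσ hσσ

omit hσ hσσ in
theorem prW_perp_e {e f : Fin n → F} (he : hf σ e e = 0) (hfe : hf σ f e = 1) (x : Fin n → F) :
    hf σ (prW σ e f x) e = 0 := by
  unfold prW
  rw [hf_sub_left, hf_sub_left, hf_smul_left, hf_smul_left, he, hfe]
  ring

omit hσ in
theorem hyp_swap {e f : Fin n → F} (hfe : hf σ f e = 1) : hf σ e f = 1 := by
  rw [← hf_swap σ hσσ, hfe, map_one]

omit hσ in
theorem prW_perp_f {e f : Fin n → F} (hff : hf σ f f = 0) (hfe : hf σ f e = 1) (x : Fin n → F) :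
    hf σ (prW σ e f x) f = 0 := by
  unfold prW
  rw [hf_sub_left, hf_sub_left, hf_smul_left, hf_smul_left, hff, hyp_swap hσσ hfe]
  ring

omit hσ hσσ in
theorem prW_of_perp {e f x : Fin n → F} (hxe : hf σ x e = 0) (hxf : hf σ x f = 0) : prW σ e f x = x := by
  unfold prW
  rw [hxe, hxf, zero_smul, zero_smul, sub_zero, sub_zero]

omit hσ hσσ in
theorem prW_decomp (e f x : Fin n → F) : x = prW σ e f x + hf σ x e • f + hf σ x f • e := by
  unfold prW
  abel

/-- dual vectors for two independent vectors. -/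
theorem exists_dual_pair {e r : Fin n → F} (he0 : e ≠ 0) (hr : ¬ ∃ k : F, r = k • e) :
    ∃ f r' : Fin n → F, hf σ f e = 1 ∧ hf σ f r = 0 ∧ hf σ r' r = 1 ∧ hf σ r' e = 0 := by
  have h1 : ∃ w, hf σ w e = 0 ∧ hf σ r w ≠ 0 := by
    by_contra hcon
    push Not at hcon
    exact hr (perp_perp_line hσ hσσ he0 hcon)
  obtain ⟨w, hwe, hrw⟩ := h1
  have hwr : hf σ w r ≠ 0 := by
    intro h
    exact hrw (hf_swap_zero σ hσσ h)
  obtain ⟨f₀, hf₀⟩ := exists_dual hσ hσσ he0
  refine ⟨f₀ - hf σ f₀ r • ((hf σ w r)⁻¹ • w), (hf σ w r)⁻¹ • w, ?_, ?_, ?_, ?_⟩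
  · rw [hf_sub_left, hf_smul_left, hf_smul_left, hwe, hf₀]
    ring
  · rw [hf_sub_left, hf_smul_left, hf_smul_left, inv_mul_cancel₀ hwr]
    ring
  · rw [hf_smul_left, inv_mul_cancel₀ hwr]
  · rw [hf_smul_left, hwe, mul_zero]

/-- the double perpendicular of a plane. -/
theorem perp_perp_plane {e r v : Fin n → F} (he0 : e ≠ 0) (hr : ¬ ∃ k : F, r = k • e)
    (h : ∀ t, hf σ t e = 0 → hf σ t r = 0 → hf σ v t = 0) : ∃ a b : F, v = a • e + b • r := by
  obtain ⟨f, r', h1, h2, h3, h4⟩ := exists_dual_pair hσ hσσ he0 hr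
  refine ⟨hf σ v f, hf σ v r', ?_⟩
  rw [← sub_eq_zero]
  apply hf_nondeg_left σ hσσ
  intro x
  have ht1 : hf σ (x - hf σ x e • f - hf σ x r • r') e = 0 := by
    rw [hf_sub_left, hf_sub_left, hf_smul_left, hf_smul_left, h1, h4]
    ring
  have ht2 : hf σ (x - hf σ x e • f - hf σ x r • r') r = 0 := by
    rw [hf_sub_left, hf_sub_left, hf_smul_left, hf_smul_left, h2, h3]
    ring
  have h5 := h _ ht1 ht2
  rw [hf_sub_right, hf_sub_right, hf_smul_right, hf_smul_right, hf_swap σ hσσ, hf_swap σ hσσ] at h5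
  rw [hf_sub_left, hf_add_left, hf_smul_left, hf_smul_left]
  linear_combination h5

end

section fin
variable [Fintype F] {σ : F ≃+* F} (hF : Fintype.card F = q ^ 2) (hσ : ∀ a, σ a = a ^ q)
include hF hσ

/-- a hyperbolic partner. -/
theorem exists_hyp_partner {e : Fin n → F} (he0 : e ≠ 0) (he : hf σ e e = 0) :
    ∃ f : Fin n → F, hf σ f f = 0 ∧ hf σ f e = 1 := by
  have hσσ := bar_bar hF σ hσ
  obtain ⟨f₀, hf₀⟩ := exists_dual hσ hσσ he0
  obtain ⟨c, hc⟩ := exists_adm hF hσ f₀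
  refine ⟨f₀ + c • e, ?_, ?_⟩
  · simp only [hf_add_left, hf_add_right, hf_smul_left, hf_smul_right, he, hf₀, hyp_swap hσσ hf₀]
    linear_combination hc
  · rw [hf_add_left, hf_smul_left, he, hf₀]
    ring

/-- an isotropic vector perpendicular to all isotropic vectors of `⟨e, r⟩^⊥` lies in `⟨e, r⟩`. -/
theorem lin_iso {e r s : Fin n → F} (he0 : e ≠ 0) (he : hf σ e e = 0) (hr : ¬ ∃ k : F, r = k • e)
    (hrr : hf σ r r = 0) (hre : hf σ r e = 0) (hs : hf σ s s = 0)
    (h : ∀ t, hf σ t t = 0 → hf σ t e = 0 → hf σ t r = 0 → hf σ t s = 0) :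
    ∃ a b : F, s = a • e + b • r := by
  have hσσ := bar_bar hF σ hσ
  have her : hf σ e r = 0 := hf_swap_zero σ hσσ hre
  have hse : hf σ s e = 0 := hf_swap_zero σ hσσ (h e he he her)
  have hsr : hf σ s r = 0 := hf_swap_zero σ hσσ (h r hrr hre hrr)
  apply perp_perp_plane hσ hσσ he0 hr
  intro t hte htr
  by_contra hne
  obtain ⟨y, hy⟩ := exists_tr hF hσ (- hf σ t t) (by rw [map_neg, hf_swap σ hσσ])
  set c := y / hf σ s t with hc
  have hcy : c * hf σ s t = y := by rw [hc, div_mul_cancel₀ _ hne]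
  have h1 : hf σ (t + c • s) (t + c • s) = 0 := by
    simp only [hf_add_left, hf_add_right, hf_smul_left, hf_smul_right, hs, mul_zero, add_zero]
    rw [← hf_swap σ hσσ s t, ← map_mul, hcy]
    linear_combination hy
  have h2 : hf σ (t + c • s) e = 0 := by rw [hf_add_left, hf_smul_left, hte, hse]; ring
  have h3 : hf σ (t + c • s) r = 0 := by rw [hf_add_left, hf_smul_left, htr, hsr]; ring
  have h4 := h _ h1 h2 h3
  rw [hf_add_left, hf_smul_left, hs, mul_zero, add_zero] at h4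
  exact hne (hf_swap_zero σ hσσ h4)

/-- in dimension three the perpendicular of an isotropic point is a plane. -/
theorem perp_span3 (hn : n = 3) {e x y : Fin n → F} (he0 : e ≠ 0) (he : hf σ e e = 0)
    (hxe : hf σ x e = 0) (hye : hf σ y e = 0) (hx : ¬ ∃ k : F, x = k • e) :
    ∃ a b : F, y = a • e + b • x := by
  have hσσ := bar_bar hF σ hσ
  obtain ⟨f, hff, hfe⟩ := exists_hyp_partner hF hσ he0 he
  have hdep : ¬ LinearIndependent F ![e, f, x, y] := by
    intro hli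
    have := hli.fintype_card_le_finrank
    rw [Module.finrank_fin_fun, Fintype.card_fin, hn] at this
    omega
  rw [Fintype.not_linearIndependent_iff] at hdep
  obtain ⟨g, hg, hg0⟩ := hdep
  rw [Fin.sum_univ_four] at hg
  simp only [Matrix.cons_val_zero, Matrix.cons_val_one, Matrix.cons_val_two, Matrix.cons_val_three,
    Matrix.head_cons, Matrix.tail_cons] at hg
  have hg1 : g 1 = 0 := by
    have := congrArg (fun v => hf σ v e) hg
    simp only [hf_add_left, hf_smul_left, he, hfe, hxe, hye, hf_zero_left, mul_zero, mul_one, add_zero,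
      zero_add] at this
    exact this
  rw [hg1, zero_smul, add_zero] at hg
  by_cases h3 : g 3 = 0
  · rw [h3, zero_smul, add_zero] at hg
    by_cases h2 : g 2 = 0
    · rw [h2, zero_smul, add_zero] at hg
      have h0 : g 0 = 0 := by
        rcases smul_eq_zero.mp hg with h | h
        · exact h
        · exact absurd h he0
      exfalso
      obtain ⟨i, hi⟩ := hg0
      fin_cases i
      · exact hi h0
      · exact hi hg1
      · exact hi h2
      · exact hi h3
    · exfalso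
      apply hx
      refine ⟨-(g 2)⁻¹ * g 0, ?_⟩
      have h4 : g 2 • x = -(g 0 • e) := eq_neg_of_add_eq_zero_right hg
      have h5 : x = (g 2)⁻¹ • (g 2 • x) := by rw [smul_smul, inv_mul_cancel₀ h2, one_smul]
      rw [h5, h4, smul_neg, smul_smul, neg_mul, neg_smul]
  · refine ⟨-(g 3)⁻¹ * g 0, -(g 3)⁻¹ * g 2, ?_⟩
    have h4 : g 3 • y = -(g 0 • e + g 2 • x) := eq_neg_of_add_eq_zero_right hg
    have h5 : y = (g 3)⁻¹ • (g 3 • y) := by rw [smul_smul, inv_mul_cancel₀ h3, one_smul]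
    rw [h5, h4, smul_neg, smul_add, smul_smul, smul_smul, neg_mul, neg_mul, neg_smul, neg_smul, neg_add]

/-- a vector outside the span of three given vectors. -/
theorem exists_not_span3 (hn : 4 ≤ n) (e f w : Fin n → F) :
    ∃ u : Fin n → F, ∀ a b c : F, u ≠ a • e + b • f + c • w := by
  by_contra hcon
  push Not at hcon
  classical
  have hspan : Submodule.span F ((({e, f, w} : Finset (Fin n → F)) : Set (Fin n → F))) = ⊤ := by
    rw [eq_top_iff]
    intro u _
    obtain ⟨a, b, c, hab⟩ := hcon u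
    rw [hab]
    exact Submodule.add_mem _ (Submodule.add_mem _
      (Submodule.smul_mem _ _ (Submodule.subset_span (by simp)))
      (Submodule.smul_mem _ _ (Submodule.subset_span (by simp))))
      (Submodule.smul_mem _ _ (Submodule.subset_span (by simp)))
  have h1 := finrank_span_finset_le_card (R := F) ({e, f, w} : Finset (Fin n → F))
  unfold Set.finrank at h1
  rw [hspan, finrank_top, Module.finrank_fin_fun] at h1
  have h2 : ({e, f, w} : Finset (Fin n → F)).card ≤ 3 := Finset.card_le_three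
  omega

/-- a non-zero isotropic vector perpendicular to a hyperbolic pair. -/
theorem exists_iso_W (hn : 4 ≤ n) {e f : Fin n → F} (he : hf σ e e = 0) (hff : hf σ f f = 0)
    (hfe : hf σ f e = 1) :
    ∃ r : Fin n → F, r ≠ 0 ∧ hf σ r r = 0 ∧ hf σ r e = 0 ∧ hf σ r f = 0 := by
  have hσσ := bar_bar hF σ hσ
  obtain ⟨u, hu⟩ := exists_not_span hF hσ (by omega) e f
  set w₁ := prW σ e f u with hw₁
  have hw₁e : hf σ w₁ e = 0 := prW_perp_e he hfe u
  have hw₁f : hf σ w₁ f = 0 := prW_perp_f hσσ hff hfe u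
  have hw₁0 : w₁ ≠ 0 := by
    intro h0
    apply hu (hf σ u f) (hf σ u e)
    have := prW_decomp (σ := σ) e f u
    rw [← hw₁, h0, zero_add, add_comm] at this
    exact this
  by_cases hiso1 : hf σ w₁ w₁ = 0
  · exact ⟨w₁, hw₁0, hiso1, hw₁e, hw₁f⟩
  obtain ⟨u₂, hu₂⟩ := exists_not_span3 hF hσ hn e f w₁
  obtain ⟨P, hP⟩ : ∃ P, P = prW σ e f u₂ := ⟨_, rfl⟩
  have hPe : hf σ P e = 0 := by rw [hP]; exact prW_perp_e he hfe u₂
  have hPf : hf σ P f = 0 := by rw [hP]; exact prW_perp_f hσσ hff hfe u₂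
  have hPdec : u₂ = P + hf σ u₂ e • f + hf σ u₂ f • e := by rw [hP]; exact prW_decomp e f u₂
  obtain ⟨c, hc⟩ : ∃ c, c = hf σ P w₁ / hf σ w₁ w₁ := ⟨_, rfl⟩
  set w₂ := P - c • w₁ with hw₂
  have hw₂e : hf σ w₂ e = 0 := by
    rw [hw₂, hf_sub_left, hf_smul_left, hw₁e, hPe]
    ring
  have hw₂f : hf σ w₂ f = 0 := by
    rw [hw₂, hf_sub_left, hf_smul_left, hw₁f, hPf]
    ring
  have hw₂w₁ : hf σ w₂ w₁ = 0 := by
    rw [hw₂, hf_sub_left, hf_smul_left, hc, div_mul_cancel₀ _ hiso1, sub_self]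
  have hw₂0 : w₂ ≠ 0 := by
    intro h0
    apply hu₂ (hf σ u₂ f) (hf σ u₂ e) c
    have h2 : P = c • w₁ := sub_eq_zero.mp h0
    rw [h2] at hPdec
    refine hPdec.trans ?_
    abel
  by_cases hiso2 : hf σ w₂ w₂ = 0
  · exact ⟨w₂, hw₂0, hiso2, hw₂e, hw₂f⟩
  have hfix : σ (-(hf σ w₁ w₁ / hf σ w₂ w₂)) = -(hf σ w₁ w₁ / hf σ w₂ w₂) := by
    rw [map_neg, map_div₀, hf_swap σ hσσ, hf_swap σ hσσ]
  obtain ⟨κ, hκ0, hκ⟩ := exists_norm' hF σ hσ (-(hf σ w₁ w₁ / hf σ w₂ w₂))
    (neg_ne_zero.mpr (div_ne_zero hiso1 hiso2)) hfix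
  have hw₁w₂ : hf σ w₁ w₂ = 0 := hf_swap_zero σ hσσ hw₂w₁
  refine ⟨w₁ + κ • w₂, ?_, ?_, ?_, ?_⟩
  · intro h0
    apply hiso1
    have h1 : hf σ w₁ w₁ = hf σ (w₁ + κ • w₂) w₁ - κ * hf σ w₂ w₁ := by
      rw [hf_add_left, hf_smul_left]; ring
    rw [h1, h0, hf_zero_left, hw₂w₁]
    ring
  · simp only [hf_add_left, hf_add_right, hf_smul_left, hf_smul_right, hw₁w₂, hw₂w₁, mul_zero, add_zero,
      zero_add]
    have : σ κ * (κ * hf σ w₂ w₂) = (κ * σ κ) * hf σ w₂ w₂ := by ring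
    rw [this, hκ, neg_mul, div_mul_cancel₀ _ hiso2, add_neg_cancel]
  · rw [hf_add_left, hf_smul_left, hw₁e, hw₂e]; ring
  · rw [hf_add_left, hf_smul_left, hw₁f, hw₂f]; ring

/-- a hyperbolic partner inside the complement of a hyperbolic pair. -/
theorem exists_hyp_partner_W {e f r : Fin n → F} (he : hf σ e e = 0) (hff : hf σ f f = 0)
    (hfe : hf σ f e = 1) (hr0 : r ≠ 0) (hrr : hf σ r r = 0) (hre : hf σ r e = 0) (hrf : hf σ r f = 0) :
    ∃ s : Fin n → F, hf σ s s = 0 ∧ hf σ s r = 1 ∧ hf σ s e = 0 ∧ hf σ s f = 0 := by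
  have hσσ := bar_bar hF σ hσ
  obtain ⟨s₀, hs₀⟩ := exists_dual hσ hσσ hr0
  have her : hf σ e r = 0 := hf_swap_zero σ hσσ hre
  have hfr : hf σ f r = 0 := hf_swap_zero σ hσσ hrf
  set s₁ := prW σ e f s₀ with hs₁
  have hs₁e : hf σ s₁ e = 0 := prW_perp_e he hfe s₀
  have hs₁f : hf σ s₁ f = 0 := prW_perp_f hσσ hff hfe s₀
  have hs₁r : hf σ s₁ r = 1 := by
    rw [hs₁]
    unfold prW
    rw [hf_sub_left, hf_sub_left, hf_smul_left, hf_smul_left, her, hfr, hs₀]
    ring
  obtain ⟨c, hc⟩ := exists_adm hF hσ s₁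
  refine ⟨s₁ + c • r, ?_, ?_, ?_, ?_⟩
  · simp only [hf_add_left, hf_add_right, hf_smul_left, hf_smul_right, hrr, hs₁r, hyp_swap hσσ hs₁r]
    linear_combination hc
  · rw [hf_add_left, hf_smul_left, hrr, hs₁r]; ring
  · rw [hf_add_left, hf_smul_left, hre, hs₁e]; ring
  · rw [hf_add_left, hf_smul_left, hrf, hs₁f]; ring

/-- the complement of a hyperbolic pair is spanned by its isotropic vectors (`n ≥ 4`). -/
theorem W_induction (hn : 4 ≤ n) {e f : Fin n → F} (he : hf σ e e = 0) (hff : hf σ f f = 0)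
    (hfe : hf σ f e = 1) (P : (Fin n → F) → Prop) (hadd : ∀ x y, P x → P y → P (x + y))
    (hiso : ∀ r, hf σ r r = 0 → hf σ r e = 0 → hf σ r f = 0 → P r) :
    ∀ w, hf σ w e = 0 → hf σ w f = 0 → P w := by
  have hσσ := bar_bar hF σ hσ
  obtain ⟨r, hr0, hrr, hre, hrf⟩ := exists_iso_W hF hσ hn he hff hfe
  obtain ⟨s, hss, hsr, hse, hsf⟩ := exists_hyp_partner_W hF hσ he hff hfe hr0 hrr hre hrf
  have hrs : hf σ r s = 1 := hyp_swap hσσ hsr
  intro w hwe hwf
  set w₃ := w - hf σ w s • r - hf σ w r • s with hw₃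
  obtain ⟨c, hc⟩ := exists_adm hF hσ w₃
  have hw₃r : hf σ w₃ r = 0 := by
    rw [hw₃, hf_sub_left, hf_sub_left, hf_smul_left, hf_smul_left, hrr, hsr]; ring
  have hw₃s : hf σ w₃ s = 0 := by
    rw [hw₃, hf_sub_left, hf_sub_left, hf_smul_left, hf_smul_left, hss, hrs]; ring
  have hw₃e : hf σ w₃ e = 0 := by
    rw [hw₃, hf_sub_left, hf_sub_left, hf_smul_left, hf_smul_left, hre, hse, hwe]; ring
  have hw₃f : hf σ w₃ f = 0 := by
    rw [hw₃, hf_sub_left, hf_sub_left, hf_smul_left, hf_smul_left, hrf, hsf, hwf]; ring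
  have hrw₃ : hf σ r w₃ = 0 := hf_swap_zero σ hσσ hw₃r
  have hsw₃ : hf σ s w₃ = 0 := hf_swap_zero σ hσσ hw₃s
  have hw : w = ((hf σ w s - c) • r + (hf σ w r - 1) • s) + (w₃ + c • r + s) := by
    rw [hw₃]
    module
  rw [hw]
  apply hadd
  · apply hadd
    · apply hiso
      · rw [hf_smul_left, hf_smul_right, hrr, mul_zero, mul_zero]
      · rw [hf_smul_left, hre, mul_zero]
      · rw [hf_smul_left, hrf, mul_zero]
    · apply hiso
      · rw [hf_smul_left, hf_smul_right, hss, mul_zero, mul_zero]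
      · rw [hf_smul_left, hse, mul_zero]
      · rw [hf_smul_left, hsf, mul_zero]
  · apply hiso
    · simp only [hf_add_left, hf_add_right, hf_smul_left, hf_smul_right, hrr, hss, hrs, hsr, hw₃r, hw₃s,
        hrw₃, hsw₃]
      linear_combination hc
    · simp only [hf_add_left, hf_smul_left, hre, hse, hw₃e]; ring
    · simp only [hf_add_left, hf_smul_left, hrf, hsf, hw₃f]; ring

end fin

end Cfsg.Agent.Lib.Helper16.UA
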