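import Cfsg.Agent.Lib.Helper16.UA5

set_option autoImplicit false
set_option linter.unusedSectionVars false
set_option linter.unusedVariables false

namespace Cfsg.Agent.Lib.Helper16.UA

open Matrix Cfsg.Agent.Lib.Helper16.PU Cfsg.Agent.Lib.Helper16.PG
open Cfsg.Agent.Lib.Helper16.SPA (par par_refl par_symm par_trans par_ne_zero par_smul)

universe u
variable {n : ℕ} {F : Type u} [Field F] {q : ℕ}

/-- `s` is perpendicular to all isotropic vectors perpendicular to `e` and `r`. -/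
def Lin (σ : F ≃+* F) (e r s : Fin n → F) : Prop :=
  ∀ t, hf σ t t = 0 → hf σ t e = 0 → hf σ t r = 0 → hf σ t s = 0

/-- `g` fixes the point `e` and all totally isotropic lines through it. -/
def Kp (σ : F ≃+* F) (e : Fin n → F) (g : ↥(Cfsg.SU n F q)) : Prop :=
  (∃ l : F, g.1.1 *ᵥ e = l • e) ∧
    ∀ r, r ≠ 0 → hf σ r r = 0 → hf σ r e = 0 → Lin σ e r (g.1.1 *ᵥ r)

section fin
variable [Fintype F] {σ : F ≃+* F} (hF : Fintype.card F = q ^ 2) (hσ : ∀ a, σ a = a ^ q)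
include hF hσ

theorem XComm_map (α : MulAut (Cfsg.PSU n F q)) {x y x' y' : Fin n → F}
    (hx : (Xb q σ x).map α.toMonoidHom = Xb q σ x') (hy : (Xb q σ y).map α.toMonoidHom = Xb q σ y')
    (h : XComm q σ x y) : XComm q σ x' y' := by
  intro a ha b hb
  rw [← hx] at ha
  rw [← hy] at hb
  obtain ⟨a₀, ha₀, rfl⟩ := ha
  obtain ⟨b₀, hb₀, rfl⟩ := hb
  show α a₀ * α b₀ = α b₀ * α a₀
  rw [← map_mul, ← map_mul, h a₀ ha₀ b₀ hb₀]

theorem map_symm_of_map (α : MulAut (Cfsg.PSU n F q)) {x x' : Fin n → F}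
    (hx : (Xb q σ x).map α.toMonoidHom = Xb q σ x') :
    (Xb q σ x').map (α⁻¹).toMonoidHom = Xb q σ x := by
  rw [← hx, Subgroup.map_map]
  have : (α⁻¹).toMonoidHom.comp α.toMonoidHom = MonoidHom.id _ := by
    apply MonoidHom.ext
    intro z
    show α⁻¹ (α z) = z
    exact MulEquiv.symm_apply_apply _ z
  rw [this, Subgroup.map_id]

theorem perp_iff_of_map (hn : 3 ≤ n) (α : MulAut (Cfsg.PSU n F q)) {x y x' y' : Fin n → F}
    (hx0 : x ≠ 0) (hxx : hf σ x x = 0) (hyy : hf σ y y = 0)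
    (hx0' : x' ≠ 0) (hxx' : hf σ x' x' = 0) (hyy' : hf σ y' y' = 0)
    (hx : (Xb q σ x).map α.toMonoidHom = Xb q σ x') (hy : (Xb q σ y).map α.toMonoidHom = Xb q σ y') :
    hf σ x y = 0 ↔ hf σ x' y' = 0 := by
  rw [← XComm_iff hF hσ hn hx0 hxx hyy, ← XComm_iff hF hσ hn hx0' hxx' hyy']
  exact ⟨XComm_map hF hσ α hx hy,
    XComm_map hF hσ α⁻¹ (map_symm_of_map hF hσ α hx) (map_symm_of_map hF hσ α hy)⟩

/-- every transvection group is the image of one. -/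
theorem aut_Xb_surj (p : ℕ) [Fact p.Prime] [CharP F p] (hn : 3 ≤ n) {e' : Fin n → F} (he0' : e' ≠ 0)
    (he' : hf σ e' e' = 0) (α : MulAut (Cfsg.PSU n F q)) :
    ∃ e : Fin n → F, e ≠ 0 ∧ hf σ e e = 0 ∧ (Xb q σ e).map α.toMonoidHom = Xb q σ e' := by
  obtain ⟨e, he0, he, h⟩ := aut_Xb hF hσ p hn he0' he' α⁻¹
  refine ⟨e, he0, he, ?_⟩
  have := map_symm_of_map hF hσ α⁻¹ h
  rwa [inv_inv] at this

theorem Lin_map (p : ℕ) [Fact p.Prime] [CharP F p] (hn : 3 ≤ n) (α : MulAut (Cfsg.PSU n F q))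
    {e r s e' r' s' : Fin n → F}
    (hee : hf σ e e = 0) (hrr : hf σ r r = 0) (hss : hf σ s s = 0)
    (hee' : hf σ e' e' = 0) (hrr' : hf σ r' r' = 0) (hss' : hf σ s' s' = 0)
    (he : (Xb q σ e).map α.toMonoidHom = Xb q σ e') (hr : (Xb q σ r).map α.toMonoidHom = Xb q σ r')
    (hs : (Xb q σ s).map α.toMonoidHom = Xb q σ s') (h : Lin σ e r s) : Lin σ e' r' s' := by
  intro t' htt' hte' htr'
  by_cases ht0' : t' = 0
  · rw [ht0', hf_zero_left]
  obtain ⟨t, ht0, htt, ht⟩ := aut_Xb_surj hF hσ p hn ht0' htt' α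
  have h1 := (perp_iff_of_map hF hσ hn α ht0 htt hee ht0' htt' hee' ht he).mpr hte'
  have h2 := (perp_iff_of_map hF hσ hn α ht0 htt hrr ht0' htt' hrr' ht hr).mpr htr'
  exact (perp_iff_of_map hF hσ hn α ht0 htt hss ht0' htt' hss' ht hs).mp (h t htt h1 h2)

theorem Kp_map (p : ℕ) [Fact p.Prime] [CharP F p] (hn : 3 ≤ n) (α : MulAut (Cfsg.PSU n F q))
    {e e' : Fin n → F} (he0 : e ≠ 0) (hee : hf σ e e = 0) (he0' : e' ≠ 0) (hee' : hf σ e' e' = 0)
    (he : (Xb q σ e).map α.toMonoidHom = Xb q σ e') (g g' : ↥(Cfsg.SU n F q))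
    (hg : α (mkU n F q g) = mkU n F q g') (h : Kp σ e g) : Kp σ e' g' := by
  have hσσ := bar_bar hF σ hσ
  obtain ⟨⟨l, hl⟩, hK⟩ := h
  constructor
  · have h1 := Xb_map_equiv hσ α hee hee' he hσσ g g' hg
    have hl0 : l ≠ 0 := by
      rintro rfl
      rw [zero_smul] at hl
      exact su_mulVec_ne_zero hσ hσσ g he0 hl
    rw [hl, Xb_smul hσ hσσ hee hl0, he] at h1
    have hge' : hf σ (g'.1.1 *ᵥ e') (g'.1.1 *ᵥ e') = 0 := by rw [su_pres hσ, hee']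
    obtain ⟨c, hc0, hc⟩ := par_of_Xb_eq hF hσ hn he0' hee' hge' h1
    exact ⟨c, hc⟩
  · intro r' hr0' hrr' hre'
    obtain ⟨r, hr0, hrr, hr⟩ := aut_Xb_surj hF hσ p hn hr0' hrr' α
    have hre : hf σ r e = 0 :=
      (perp_iff_of_map hF hσ hn α hr0 hrr hee hr0' hrr' hee' hr he).mpr hre'
    have h1 := Xb_map_equiv hσ α hrr hrr' hr hσσ g g' hg
    have hgr : hf σ (g.1.1 *ᵥ r) (g.1.1 *ᵥ r) = 0 := by rw [su_pres hσ, hrr]
    have hgr' : hf σ (g'.1.1 *ᵥ r') (g'.1.1 *ᵥ r') = 0 := by rw [su_pres hσ, hrr']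
    exact Lin_map hF hσ p hn α hee hrr hgr hee' hrr' hgr' he hr h1 (hK r hr0 hrr hre)

omit [Fintype F] hF in
theorem Qa_Kp (hσσ : ∀ x, σ (σ x) = x) {e : Fin n → F} {u : ↥(Cfsg.SU n F q)} (hu : u ∈ Qa q σ e) :
    Kp σ e u := by
  refine ⟨⟨1, by rw [hu.1, one_smul]⟩, fun r hr0 hrr hre => ?_⟩
  obtain ⟨k, hk⟩ := hu.2 r hre
  intro t htt hte htr
  rw [hk, hf_add_right, hf_smul_right, htr, hte]
  ring

omit [Fintype F] hF hσ in
theorem pow_char_eq_one (p : ℕ) [Fact p.Prime] [CharP F p] {b : F} (k : ℕ) (h : b ^ p ^ k = 1) : b = 1 := by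
  have h4 : (b - 1) ^ p ^ k = 0 := by
    rw [sub_pow_char_pow, h, one_pow, sub_self]
  have := pow_eq_zero_iff (pow_ne_zero k (Fact.out : p.Prime).ne_zero) |>.mp h4
  exact sub_eq_zero.mp this

omit [Fintype F] hF in
theorem pow_eig_one (hσσ : ∀ x, σ (σ x) = x) (p : ℕ) [Fact p.Prime] [CharP F p] (g : ↥(Cfsg.SU n F q))
    {e : Fin n → F} (he0 : e ≠ 0) (l : F) (hge : g.1.1 *ᵥ e = l • e) (k : ℕ) (hk : g ^ p ^ k = 1) : l = 1 := by
  have hpow : ∀ m : ℕ, (g ^ m).1.1 *ᵥ e = l ^ m • e := by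
    intro m
    induction m with
    | zero => rw [pow_zero, pow_zero, one_smul]; exact su_one_mulVec e
    | succ m ih =>
      rw [pow_succ, su_mul_mulVec hσ hσσ, hge, Matrix.mulVec_smul, ih, smul_smul, pow_succ, mul_comm]
  have h1 := hpow (p ^ k)
  rw [hk, su_one_mulVec] at h1
  apply pow_char_eq_one p k
  have h2 : (l ^ p ^ k - 1) • e = 0 := by rw [sub_smul, one_smul, ← h1, sub_self]
  rcases smul_eq_zero.mp h2 with h | h
  · exact sub_eq_zero.mp h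
  · exact absurd h he0

omit [Fintype F] hF in
theorem pow_coeff_one (hσσ : ∀ x, σ (σ x) = x) (p : ℕ) [Fact p.Prime] [CharP F p] (g : ↥(Cfsg.SU n F q))
    {e x : Fin n → F} (hge : g.1.1 *ᵥ e = e) (a b : F) (hgx : g.1.1 *ᵥ x = a • e + b • x)
    (hx : ¬ ∃ k : F, x = k • e) (k : ℕ) (hk : g ^ p ^ k = 1) : b = 1 := by
  have hpe : ∀ m : ℕ, (g ^ m).1.1 *ᵥ e = e := by
    intro m
    induction m with
    | zero => rw [pow_zero]; exact su_one_mulVec e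
    | succ m ih => rw [pow_succ, su_mul_mulVec hσ hσσ, hge, ih]
  have hpow : ∀ m : ℕ, ∃ c : F, (g ^ m).1.1 *ᵥ x = c • e + b ^ m • x := by
    intro m
    induction m with
    | zero => exact ⟨0, by rw [pow_zero, pow_zero, one_smul, zero_smul, zero_add]; exact su_one_mulVec x⟩
    | succ m ih =>
      obtain ⟨c, hc⟩ := ih
      refine ⟨a + b * c, ?_⟩
      rw [pow_succ, su_mul_mulVec hσ hσσ, hgx, Matrix.mulVec_add, Matrix.mulVec_smul, Matrix.mulVec_smul,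
        hpe, hc, pow_succ]
      module
  obtain ⟨c, hc⟩ := hpow (p ^ k)
  rw [hk, su_one_mulVec] at hc
  apply pow_char_eq_one p k
  by_contra hne
  apply hx
  refine ⟨(1 - b ^ p ^ k)⁻¹ * c, ?_⟩
  have hne' : (1 - b ^ p ^ k) ≠ 0 := sub_ne_zero.mpr (Ne.symm hne)
  have h2 : (1 - b ^ p ^ k) • x = c • e := by
    rw [sub_smul, one_smul, sub_eq_iff_eq_add]
    exact hc
  rw [mul_smul, ← h2, smul_smul, inv_mul_cancel₀ hne', one_smul]

/-- a `p`-element fixing the point `e` and all totally isotropic lines through it lies in `Qa e`. -/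
theorem Kp_pelement_mem_Qa (p : ℕ) [Fact p.Prime] [CharP F p] (hn : 3 ≤ n) {e : Fin n → F} (he0 : e ≠ 0)
    (hee : hf σ e e = 0) (g : ↥(Cfsg.SU n F q)) (hK : Kp σ e g) (k : ℕ) (hk : g ^ p ^ k = 1) :
    g ∈ Qa q σ e := by
  have hσσ := bar_bar hF σ hσ
  obtain ⟨⟨l, hl⟩, hK⟩ := hK
  have hl1 := pow_eig_one hσ hσσ p g he0 l hl k hk
  rw [hl1, one_smul] at hl
  rw [mem_Qa_iff]
  refine ⟨hl, ?_⟩
  -- isotropic vectors
  have hiso : ∀ r, hf σ r r = 0 → hf σ r e = 0 → ∃ c : F, g.1.1 *ᵥ r = r + c • e := by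
    intro r hrr hre
    by_cases hr : ∃ c : F, r = c • e
    · obtain ⟨c, rfl⟩ := hr
      exact ⟨0, by rw [Matrix.mulVec_smul, hl, zero_smul, add_zero]⟩
    · have hr0 : r ≠ 0 := by
        rintro rfl
        exact hr ⟨0, by rw [zero_smul]⟩
      have hgr : hf σ (g.1.1 *ᵥ r) (g.1.1 *ᵥ r) = 0 := by rw [su_pres hσ, hrr]
      obtain ⟨a, b, hab⟩ := lin_iso hF hσ he0 hee hr hrr hre hgr (hK r hr0 hrr hre)
      have hb := pow_coeff_one hσ hσσ p g hl a b hab hr k hk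
      exact ⟨a, by rw [hab, hb, one_smul, add_comm]⟩
  intro x hxe
  by_cases hn3 : n = 3
  · by_cases hx : ∃ c : F, x = c • e
    · obtain ⟨c, rfl⟩ := hx
      exact ⟨0, by rw [Matrix.mulVec_smul, hl, zero_smul, add_zero]⟩
    · have hgxe : hf σ (g.1.1 *ᵥ x) e = 0 := by
        have := su_pres hσ g x e
        rw [hl] at this
        rw [this, hxe]
      obtain ⟨a, b, hab⟩ := perp_span3 hF hσ hn3 he0 hee hxe hgxe hx
      have hb := pow_coeff_one hσ hσσ p g hl a b hab hx k hk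
      exact ⟨a, by rw [hab, hb, one_smul, add_comm]⟩
  · have hn4 : 4 ≤ n := by omega
    obtain ⟨f, hff, hfe⟩ := exists_hyp_partner hF hσ he0 hee
    have hW := W_induction hF hσ hn4 hee hff hfe (fun y => ∃ c : F, g.1.1 *ᵥ y = y + c • e)
      (by
        rintro y z ⟨c, hc⟩ ⟨d, hd⟩
        refine ⟨c + d, ?_⟩
        rw [Matrix.mulVec_add, hc, hd]
        module)
      (fun r hrr hre _ => hiso r hrr hre)
    obtain ⟨c, hc⟩ := hW (prW σ e f x) (prW_perp_e hee hfe x) (prW_perp_f hσσ hff hfe x)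
    have hdec := prW_decomp (σ := σ) e f x
    rw [hxe, zero_smul, add_zero] at hdec
    refine ⟨c, ?_⟩
    conv_lhs => rw [hdec]
    rw [Matrix.mulVec_add, Matrix.mulVec_smul, hl, hc]
    conv_rhs => rw [hdec]
    abel

/-- a `p`-element of `PSU` lifts to a `p`-element of `SU`. -/
theorem lift_pelement (p : ℕ) [Fact p.Prime] [CharP F p] (hn : 3 ≤ n) (y : Cfsg.PSU n F q) (k : ℕ)
    (hy : y ^ p ^ k = 1) : ∃ g : ↥(Cfsg.SU n F q), mkU n F q g = y ∧ g ^ p ^ k = 1 := by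
  obtain ⟨g₀, rfl⟩ := mkU_surjective y
  rw [← map_pow, mkU_eq_one_iff] at hy
  have hndvd : ¬ p ∣ Nat.card ↥(Subgroup.center ↥(Cfsg.SU n F q)) := by
    intro hdvd
    obtain ⟨x, hx⟩ := exists_prime_orderOf_dvd_card' p hdvd
    have h1 : x ^ p = 1 := by rw [← hx]; exact pow_orderOf_eq_one x
    have h2 : (x : ↥(Cfsg.SU n F q)) ^ p ^ 1 = 1 := by
      rw [pow_one, ← Subgroup.coe_pow, h1, Subgroup.coe_one]
    have h3 := center_pow_eq_one hF hσ p hn x.1 x.2 1 h2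
    have h4 : x = 1 := Subtype.ext h3
    rw [h4, orderOf_one] at hx
    exact (Fact.out : p.Prime).one_lt.ne hx
  have hcop : (Nat.card ↥(Subgroup.center ↥(Cfsg.SU n F q))).Coprime (p ^ k) :=
    Nat.Coprime.pow_right k ((Nat.Prime.coprime_iff_not_dvd Fact.out).mpr hndvd).symm
  obtain ⟨ζ, hζ⟩ := (powCoprime hcop).surjective (⟨g₀ ^ p ^ k, hy⟩⁻¹)
  rw [powCoprime_apply] at hζ
  have hζ' : (ζ : ↥(Cfsg.SU n F q)) ^ p ^ k = (g₀ ^ p ^ k)⁻¹ := by
    have := congrArg Subtype.val hζ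
    simpa using this
  refine ⟨g₀ * ζ, ?_, ?_⟩
  · rw [map_mul, (mkU_eq_one_iff _).mpr ζ.2, mul_one]
  · have hcomm : Commute g₀ (ζ : ↥(Cfsg.SU n F q)) := (Subgroup.mem_center_iff.mp ζ.2 g₀)
    rw [hcomm.mul_pow, hζ', mul_inv_cancel]

/-- automorphisms permute the images of the unipotent radicals `Qa e`. -/
theorem aut_Qb (p : ℕ) [Fact p.Prime] [CharP F p] (hn : 3 ≤ n) (α : MulAut (Cfsg.PSU n F q))
    {e e' : Fin n → F} (he0 : e ≠ 0) (hee : hf σ e e = 0) (he0' : e' ≠ 0) (hee' : hf σ e' e' = 0)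
    (he : (Xb q σ e).map α.toMonoidHom = Xb q σ e') {u : ↥(Cfsg.SU n F q)} (hu : u ∈ Qa q σ e) :
    ∃ u' : ↥(Cfsg.SU n F q), u' ∈ Qa q σ e' ∧ α (mkU n F q u) = mkU n F q u' := by
  have hσσ := bar_bar hF σ hσ
  obtain ⟨k, hk⟩ := Qa_isPGroup hF hσ p he0 hee ⟨u, hu⟩
  have hk' : u ^ p ^ k = 1 := by
    have := congrArg Subtype.val hk
    simpa using this
  have h1 : (α (mkU n F q u)) ^ p ^ k = 1 := by
    rw [← map_pow, ← map_pow, hk', map_one, map_one]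
  obtain ⟨u', hu', hk''⟩ := lift_pelement hF hσ p hn _ k h1
  refine ⟨u', ?_, hu'.symm⟩
  apply Kp_pelement_mem_Qa hF hσ p hn he0' hee' u' _ k hk''
  exact Kp_map hF hσ p hn α he0 hee he0' hee' he u u' hu'.symm (Qa_Kp hσ hσσ hu)

end fin

end Cfsg.Agent.Lib.Helper16.UA
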