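import Cfsg.Agent.Lib.Helper16.UA6

set_option autoImplicit false
set_option linter.unusedSectionVars false
set_option linter.unusedVariables false

namespace Cfsg.Agent.Lib.Helper16.UA

open Matrix Cfsg.Agent.Lib.Helper16.PU Cfsg.Agent.Lib.Helper16.PG
open Cfsg.Agent.Lib.Helper16.SPA (par par_refl par_symm par_trans par_ne_zero par_smul)

universe u
variable {n : ℕ} {F : Type u} [Field F] {q : ℕ}

/-- the hyperbolic rotation `e ↦ l e`, `f ↦ σ(l)⁻¹ f`. -/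
def hrM (σ : F ≃+* F) (e f : Fin n → F) (l : F) : Matrix (Fin n) (Fin n) F :=
  roM σ ((l - 1) • e) f * roM σ (((σ l)⁻¹ - 1) • f) e

theorem hrM_mulVec (σ : F ≃+* F) {e f : Fin n → F} (hff : hf σ f f = 0) (l : F) (x : Fin n → F) :
    hrM σ e f l *ᵥ x = x + (((σ l)⁻¹ - 1) * hf σ x e) • f + ((l - 1) * hf σ x f) • e := by
  unfold hrM
  rw [← Matrix.mulVec_mulVec, roM_mulVec, roM_mulVec, hf_add_left, hf_smul_left, hf_smul_left, hff]
  simp only [mul_zero, add_zero, smul_smul]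
  rw [mul_comm (hf σ x e), mul_comm (hf σ x f)]

theorem hrM_det (σ : F ≃+* F) {e f : Fin n → F} (hfe : hf σ f e = 1) (hef : hf σ e f = 1) {l : F} :
    (hrM σ e f l).det = l * (σ l)⁻¹ := by
  unfold hrM
  rw [Matrix.det_mul, roM_det, roM_det, hf_smul_left, hf_smul_left, hfe, hef]
  ring

theorem hrM_pres (σ : F ≃+* F) (hσσ : ∀ x, σ (σ x) = x) {e f : Fin n → F} (hee : hf σ e e = 0)
    (hff : hf σ f f = 0) (hfe : hf σ f e = 1) {l : F} (hl : l ≠ 0) (x y : Fin n → F) :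
    hf σ (hrM σ e f l *ᵥ x) (hrM σ e f l *ᵥ y) = hf σ x y := by
  have hef : hf σ e f = 1 := by rw [← hf_swap σ hσσ, hfe, map_one]
  have hσl : σ l ≠ 0 := (map_ne_zero σ).mpr hl
  rw [hrM_mulVec σ hff, hrM_mulVec σ hff]
  simp only [hf_add_left, hf_add_right, hf_smul_left, hf_smul_right, hee, hff, hfe, hef, map_mul, map_sub,
    map_one, map_inv₀, hσσ, mul_zero, add_zero, mul_one]
  rw [hf_swap σ hσσ y e, hf_swap σ hσσ y f]
  field_simp
  ring

/-- the quasi-reflection `d ↦ μ d`. -/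
def qrM (σ : F ≃+* F) (d : Fin n → F) (μ : F) : Matrix (Fin n) (Fin n) F :=
  roM σ (((μ - 1) / hf σ d d) • d) d

theorem qrM_mulVec (σ : F ≃+* F) (d : Fin n → F) (μ : F) (x : Fin n → F) :
    qrM σ d μ *ᵥ x = x + ((μ - 1) / hf σ d d * hf σ x d) • d := by
  unfold qrM
  rw [roM_mulVec, smul_smul, mul_comm]

theorem qrM_det (σ : F ≃+* F) {d : Fin n → F} (hd : hf σ d d ≠ 0) (μ : F) : (qrM σ d μ).det = μ := by
  unfold qrM
  rw [roM_det, hf_smul_left, div_mul_cancel₀ _ hd]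
  ring

theorem qrM_pres (σ : F ≃+* F) (hσσ : ∀ x, σ (σ x) = x) {d : Fin n → F} (hd : hf σ d d ≠ 0) {μ : F}
    (hμ : μ * σ μ = 1) (x y : Fin n → F) :
    hf σ (qrM σ d μ *ᵥ x) (qrM σ d μ *ᵥ y) = hf σ x y := by
  rw [qrM_mulVec, qrM_mulVec]
  have hN : σ (hf σ d d) = hf σ d d := hf_swap σ hσσ d d
  simp only [hf_add_left, hf_add_right, hf_smul_left, hf_smul_right, map_mul, map_sub, map_one, map_div₀, hN]
  rw [hf_swap σ hσσ y d]
  field_simp
  linear_combination (hf σ x d * hf σ d y) * hμ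

/-- an element of `SU` from a matrix. -/
def suOf {σ : F ≃+* F} (hσ : ∀ a, σ a = a ^ q) (M : Matrix (Fin n) (Fin n) F) (hdet : M.det = 1)
    (hpres : ∀ x y, hf σ (M *ᵥ x) (M *ᵥ y) = hf σ x y) : ↥(Cfsg.SU n F q) :=
  ⟨⟨M, hdet⟩, fun x y => by
    rw [herm_eq_hf σ hσ, herm_eq_hf σ hσ]
    exact hpres x y⟩

theorem suOf_val {σ : F ≃+* F} (hσ : ∀ a, σ a = a ^ q) (M : Matrix (Fin n) (Fin n) F) (hdet : M.det = 1)
    (hpres : ∀ x y, hf σ (M *ᵥ x) (M *ᵥ y) = hf σ x y) : (suOf hσ M hdet hpres).1.1 = M := rfl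

section fin
variable [Fintype F] {σ : F ≃+* F} (hF : Fintype.card F = q ^ 2) (hσ : ∀ a, σ a = a ^ q)
include hF hσ

/-- a torus element for two orthogonal hyperbolic pairs. -/
theorem exists_torus4 {e f r s : Fin n → F} (hee : hf σ e e = 0) (hff : hf σ f f = 0) (hfe : hf σ f e = 1)
    (hrr : hf σ r r = 0) (hss : hf σ s s = 0) (hsr : hf σ s r = 1)
    (hre : hf σ r e = 0) (hrf : hf σ r f = 0) (hse : hf σ s e = 0) (hsf : hf σ s f = 0)
    {l : F} (hl : l ≠ 0) :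
    ∃ t : ↥(Cfsg.SU n F q), t.1.1 *ᵥ e = l • e ∧ t.1.1 *ᵥ r = σ l • r ∧ t.1.1 *ᵥ f = (σ l)⁻¹ • f := by
  have hσσ := bar_bar hF σ hσ
  have hσl : σ l ≠ 0 := (map_ne_zero σ).mpr hl
  have hef : hf σ e f = 1 := hyp_swap hσσ hfe
  have hrs : hf σ r s = 1 := hyp_swap hσσ hsr
  have her : hf σ e r = 0 := hf_swap_zero σ hσσ hre
  have hfr : hf σ f r = 0 := hf_swap_zero σ hσσ hrf
  have hes : hf σ e s = 0 := hf_swap_zero σ hσσ hse
  have hfs : hf σ f s = 0 := hf_swap_zero σ hσσ hsf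
  have hdet : (hrM σ e f l * hrM σ r s (σ l)).det = 1 := by
    rw [Matrix.det_mul, hrM_det σ hfe hef, hrM_det σ hsr hrs, hσσ]
    field_simp
  have hpres : ∀ x y, hf σ ((hrM σ e f l * hrM σ r s (σ l)) *ᵥ x) ((hrM σ e f l * hrM σ r s (σ l)) *ᵥ y) =
      hf σ x y := by
    intro x y
    rw [← Matrix.mulVec_mulVec, ← Matrix.mulVec_mulVec, hrM_pres σ hσσ hee hff hfe hl,
      hrM_pres σ hσσ hrr hss hsr hσl]
  refine ⟨suOf hσ _ hdet hpres, ?_, ?_, ?_⟩
  · rw [suOf_val, ← Matrix.mulVec_mulVec, hrM_mulVec σ hss, her, hes, mul_zero, mul_zero, zero_smul,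
      zero_smul, add_zero, add_zero, hrM_mulVec σ hff, hee, hef, mul_zero, zero_smul, add_zero, mul_one]
    rw [sub_smul, one_smul]
    abel
  · rw [suOf_val, ← Matrix.mulVec_mulVec, hrM_mulVec σ hss, hrr, hrs, mul_zero, zero_smul, add_zero, mul_one,
      hrM_mulVec σ hff]
    simp only [hf_add_left, hf_smul_left, hre, hrf, mul_zero, add_zero, zero_smul]
    rw [sub_smul, one_smul]
    abel
  · rw [suOf_val, ← Matrix.mulVec_mulVec, hrM_mulVec σ hss, hfr, hfs, mul_zero, mul_zero, zero_smul,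
      zero_smul, add_zero, add_zero, hrM_mulVec σ hff, hff, hfe, mul_zero, zero_smul, add_zero, mul_one]
    rw [sub_smul, one_smul]
    abel

/-- a torus element for a hyperbolic pair and an anisotropic vector. -/
theorem exists_torus3 {e f d : Fin n → F} (hee : hf σ e e = 0) (hff : hf σ f f = 0) (hfe : hf σ f e = 1)
    (hde : hf σ d e = 0) (hdf : hf σ d f = 0) (hdd : hf σ d d ≠ 0) {l : F} (hl : l ≠ 0) :
    ∃ t : ↥(Cfsg.SU n F q), t.1.1 *ᵥ e = l • e ∧ t.1.1 *ᵥ d = (σ l / l) • d ∧ t.1.1 *ᵥ f = (σ l)⁻¹ • f := by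
  have hσσ := bar_bar hF σ hσ
  have hσl : σ l ≠ 0 := (map_ne_zero σ).mpr hl
  have hef : hf σ e f = 1 := hyp_swap hσσ hfe
  have hed : hf σ e d = 0 := hf_swap_zero σ hσσ hde
  have hfd : hf σ f d = 0 := hf_swap_zero σ hσσ hdf
  have hμ : (σ l / l) * σ (σ l / l) = 1 := by
    rw [map_div₀, hσσ]
    field_simp
  have hdet : (hrM σ e f l * qrM σ d (σ l / l)).det = 1 := by
    rw [Matrix.det_mul, hrM_det σ hfe hef, qrM_det σ hdd]
    field_simp
  have hpres : ∀ x y, hf σ ((hrM σ e f l * qrM σ d (σ l / l)) *ᵥ x) ((hrM σ e f l * qrM σ d (σ l / l)) *ᵥ y) =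
      hf σ x y := by
    intro x y
    rw [← Matrix.mulVec_mulVec, ← Matrix.mulVec_mulVec, hrM_pres σ hσσ hee hff hfe hl,
      qrM_pres σ hσσ hdd hμ]
  refine ⟨suOf hσ _ hdet hpres, ?_, ?_, ?_⟩
  · rw [suOf_val, ← Matrix.mulVec_mulVec, qrM_mulVec, hed, mul_zero, zero_smul, add_zero,
      hrM_mulVec σ hff, hee, hef, mul_zero, zero_smul, add_zero, mul_one]
    rw [sub_smul, one_smul]
    abel
  · rw [suOf_val, ← Matrix.mulVec_mulVec, qrM_mulVec, div_mul_cancel₀ _ hdd, hrM_mulVec σ hff]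
    simp only [hf_add_left, hf_smul_left, hde, hdf, mul_zero, add_zero, zero_smul]
    rw [sub_smul, one_smul]
    abel
  · rw [suOf_val, ← Matrix.mulVec_mulVec, qrM_mulVec, hfd, mul_zero, zero_smul, add_zero,
      hrM_mulVec σ hff, hff, hfe, mul_zero, zero_smul, add_zero, mul_one]
    rw [sub_smul, one_smul]
    abel

/-- Hilbert 90 in dimension one. -/
theorem exists_h90 (δ : F) (hδ : δ * σ δ = 1) : ∃ l : F, l ≠ 0 ∧ σ l = δ * l := by
  have hσσ := bar_bar hF σ hσ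
  by_cases h1 : 1 + σ δ = 0
  · obtain ⟨θ, hθ⟩ := exists_moved hF σ hσ
    refine ⟨θ - σ θ, sub_ne_zero.mpr (Ne.symm hθ), ?_⟩
    have hδ1 : δ = -1 := by
      have h2 : σ δ = -1 := by linear_combination h1
      have h3 := congrArg σ h2
      rw [hσσ, map_neg, map_one] at h3
      exact h3
    rw [map_sub, hσσ, hδ1]
    ring
  · refine ⟨1 + σ δ, h1, ?_⟩
    rw [map_add, map_one, hσσ]
    linear_combination -hδ

omit [Fintype F] hF in
theorem hyp_linearIndependent (hσσ : ∀ x, σ (σ x) = x) {e f : Fin n → F} (hee : hf σ e e = 0)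
    (hff : hf σ f f = 0) (hfe : hf σ f e = 1) :
    LinearIndependent F ![e, f] := by
  rw [LinearIndependent.pair_iff]
  intro s t hst
  have hef : hf σ e f = 1 := hyp_swap hσσ hfe
  have h1 := congrArg (fun v => hf σ v e) hst
  have h2 := congrArg (fun v => hf σ v f) hst
  simp only [hf_add_left, hf_smul_left, hee, hff, hfe, hef, hf_zero_left, mul_zero, mul_one, zero_add,
    add_zero] at h1 h2
  exact ⟨h2, h1⟩

/-- `SU` is transitive on hyperbolic pairs up to scalars. -/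
theorem exists_su_hyp {e f e' f' : Fin n → F} (hee : hf σ e e = 0) (hff : hf σ f f = 0) (hfe : hf σ f e = 1)
    (hee' : hf σ e' e' = 0) (hff' : hf σ f' f' = 0) (hfe' : hf σ f' e' = 1) :
    ∃ (s : ↥(Cfsg.SU n F q)) (l : F), l ≠ 0 ∧ s.1.1 *ᵥ e = l • e' ∧ s.1.1 *ᵥ f = (σ l)⁻¹ • f' := by
  have hσσ := bar_bar hF σ hσ
  have hef : hf σ e f = 1 := hyp_swap hσσ hfe
  have hef' : hf σ e' f' = 1 := hyp_swap hσσ hfe'
  obtain ⟨g, hg, hgv⟩ := Cfsg.Agent.Lib.helper6.HF.witt_tuple_gram hF ![e, f] ![e', f']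
    (hyp_linearIndependent hσ hσσ hee hff hfe) (hyp_linearIndependent hσ hσσ hee' hff' hfe')
    (by
      intro i j
      rw [herm_eq_hf σ hσ, herm_eq_hf σ hσ]
      fin_cases i <;> fin_cases j <;> simp [hee, hff, hfe, hef, hee', hff', hfe', hef'])
  have hge : (g : Matrix (Fin n) (Fin n) F) *ᵥ e = e' := hgv 0
  have hgf : (g : Matrix (Fin n) (Fin n) F) *ᵥ f = f' := hgv 1
  have hgpres : ∀ x y, hf σ ((g : Matrix (Fin n) (Fin n) F) *ᵥ x) ((g : Matrix (Fin n) (Fin n) F) *ᵥ y) =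
      hf σ x y := by
    intro x y
    rw [← herm_eq_hf σ hσ, ← herm_eq_hf σ hσ]
    exact hg x y
  have hδ : (g : Matrix (Fin n) (Fin n) F).det * σ (g : Matrix (Fin n) (Fin n) F).det = 1 := by
    have h1 := (mem_GU_iff_mat σ hσ g).mp hg
    have h2 := congrArg Matrix.det h1
    rw [Matrix.det_mul, Matrix.det_transpose, Matrix.det_one] at h2
    rw [← h2]
    congr 1
    exact RingHom.map_det (σ : F →+* F) _
  obtain ⟨l, hl0, hl⟩ := exists_h90 hF hσ _ hδ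
  have hσl : σ l ≠ 0 := (map_ne_zero σ).mpr hl0
  have hdet : (hrM σ e' f' l * (g : Matrix (Fin n) (Fin n) F)).det = 1 := by
    rw [Matrix.det_mul, hrM_det σ hfe' hef', hl]
    have hd0 : (g : Matrix (Fin n) (Fin n) F).det ≠ 0 := by
      intro h0
      rw [h0, zero_mul] at hδ
      exact zero_ne_one hδ
    field_simp
  have hpres : ∀ x y, hf σ ((hrM σ e' f' l * (g : Matrix (Fin n) (Fin n) F)) *ᵥ x)
      ((hrM σ e' f' l * (g : Matrix (Fin n) (Fin n) F)) *ᵥ y) = hf σ x y := by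
    intro x y
    rw [← Matrix.mulVec_mulVec, ← Matrix.mulVec_mulVec, hrM_pres σ hσσ hee' hff' hfe' hl0, hgpres]
  refine ⟨suOf hσ _ hdet hpres, l, hl0, ?_, ?_⟩
  · rw [suOf_val, ← Matrix.mulVec_mulVec, hge, hrM_mulVec σ hff', hee', hef', mul_zero, zero_smul, add_zero,
      mul_one]
    rw [sub_smul, one_smul]
    abel
  · rw [suOf_val, ← Matrix.mulVec_mulVec, hgf, hrM_mulVec σ hff', hff', hfe', mul_zero, zero_smul, add_zero,
      mul_one]
    rw [sub_smul, one_smul]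
    abel

end fin

end Cfsg.Agent.Lib.Helper16.UA
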