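import Cfsg.Agent.Lib.Helper16.UA7

set_option autoImplicit false
set_option linter.unusedSectionVars false
set_option linter.unusedVariables false

namespace Cfsg.Agent.Lib.Helper16.UA

open Matrix Cfsg.Agent.Lib.Helper16.PU Cfsg.Agent.Lib.Helper16.PG
open Cfsg.Agent.Lib.Helper16.SPA (par par_refl par_symm par_trans par_ne_zero par_smul)

universe u
variable {n : ℕ} {F : Type u} [Field F] {q : ℕ}

section
variable {σ : F ≃+* F} (hσ : ∀ a, σ a = a ^ q) (hσσ : ∀ x, σ (σ x) = x)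
include hσ hσσ

theorem sgS_add_e {e w : Fin n → F} {c : F} (k : F) (he : hf σ e e = 0) (hwe : hf σ w e = 0)
    (hc : c + σ c + hf σ w w = 0) :
    sgS q σ e (w + k • e) c = sgS q σ e w (c + k - σ k) := by
  have hew : hf σ e w = 0 := hf_swap_zero σ hσσ hwe
  have hwe' : hf σ (w + k • e) e = 0 := by rw [hf_add_left, hf_smul_left, hwe, he]; ring
  have hc' : c + σ c + hf σ (w + k • e) (w + k • e) = 0 := by
    simp only [hf_add_left, hf_add_right, hf_smul_left, hf_smul_right, he, hwe, hew, mul_zero, add_zero]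
    exact hc
  have hc'' : (c + k - σ k) + σ (c + k - σ k) + hf σ w w = 0 := by
    rw [map_sub, map_add, hσσ]
    linear_combination hc
  apply su_ext
  intro x
  rw [sgS_mulVec hσ hσσ he hwe' hc', sgS_mulVec hσ hσσ he hwe hc'', hf_add_right, hf_smul_right]
  module

/-- normal form of the elements of `Qa e` relative to a hyperbolic partner `f`. -/
theorem Qa_normal_form {e f : Fin n → F} (he0 : e ≠ 0) (hee : hf σ e e = 0) (hfe : hf σ f e = 1)
    {u : ↥(Cfsg.SU n F q)} (hu : u ∈ Qa q σ e) :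
    ∃ (w : Fin n → F) (c : F), hf σ w e = 0 ∧ hf σ w f = 0 ∧ c + σ c + hf σ w w = 0 ∧ u = sgS q σ e w c := by
  obtain ⟨y, c₀, hye, hc₀, rfl⟩ := Qa_eq_sgS hσ hσσ he0 hee hu
  have hef : hf σ e f = 1 := hyp_swap hσσ hfe
  have hey : hf σ e y = 0 := hf_swap_zero σ hσσ hye
  set k := hf σ y f with hk
  have hwe : hf σ (y - k • e) e = 0 := by rw [hf_sub_left, hf_smul_left, hye, hee]; ring
  have hwf : hf σ (y - k • e) f = 0 := by rw [hf_sub_left, hf_smul_left, hef, ← hk]; ring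
  have hcw : c₀ + σ c₀ + hf σ (y - k • e) (y - k • e) = 0 := by
    simp only [hf_sub_left, hf_sub_right, hf_smul_left, hf_smul_right, hee, hye, hey, mul_zero, sub_zero]
    exact hc₀
  refine ⟨y - k • e, c₀ + k - σ k, hwe, hwf, ?_, ?_⟩
  · rw [map_sub, map_add, hσσ]
    linear_combination hcw
  · rw [← sgS_add_e hσ hσσ k hee hwe hcw]
    congr 1
    abel

/-- uniqueness of the normal form. -/
theorem sgS_normal_inj {e f w w' : Fin n → F} {c c' : F} (hee : hf σ e e = 0) (hfe : hf σ f e = 1)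
    (hwe : hf σ w e = 0) (hwf : hf σ w f = 0) (hc : c + σ c + hf σ w w = 0)
    (hwe' : hf σ w' e = 0) (hwf' : hf σ w' f = 0) (hc' : c' + σ c' + hf σ w' w' = 0)
    (h : sgS q σ e w c = sgS q σ e w' c') : w = w' ∧ c = c' := by
  have hef : hf σ e f = 1 := hyp_swap hσσ hfe
  have hfw : hf σ f w = 0 := hf_swap_zero σ hσσ hwf
  have hfw' : hf σ f w' = 0 := hf_swap_zero σ hσσ hwf'
  have h1 : (sgS q σ e w c).1.1 *ᵥ f = (sgS q σ e w' c').1.1 *ᵥ f := by rw [h]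
  rw [sgS_mulVec hσ hσσ hee hwe hc, sgS_mulVec hσ hσσ hee hwe' hc', hfe, hfw, hfw'] at h1
  simp only [one_smul, zero_smul, sub_zero, mul_one] at h1
  have h2 : w + c • e = w' + c' • e := by
    have h3 : f + (w + c • e) = f + (w' + c' • e) := by
      rw [← add_assoc, ← add_assoc]
      exact h1
    exact add_left_cancel h3
  have h4 := congrArg (fun v => hf σ v f) h2
  simp only [hf_add_left, hf_smul_left, hwf, hwf', hef, mul_one, zero_add] at h4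
  refine ⟨?_, h4⟩
  rw [h4] at h2
  exact add_right_cancel h2

end

section fin
variable [Fintype F] {σ : F ≃+* F} (hF : Fintype.card F = q ^ 2) (hσ : ∀ a, σ a = a ^ q)
include hF hσ

/-- the projection to `PSU` is injective on `Qa e`. -/
theorem mkU_inj_Qa (p : ℕ) [Fact p.Prime] [CharP F p] (hn : 3 ≤ n) {e : Fin n → F} (he0 : e ≠ 0)
    (hee : hf σ e e = 0) {u u' : ↥(Cfsg.SU n F q)} (hu : u ∈ Qa q σ e) (hu' : u' ∈ Qa q σ e)
    (h : mkU n F q u = mkU n F q u') : u = u' := by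
  rw [mkU_eq_iff] at h
  have h1 : u⁻¹ * u' ∈ Qa q σ e := mul_mem (inv_mem hu) hu'
  obtain ⟨k, hk⟩ := Qa_isPGroup hF hσ p he0 hee ⟨_, h1⟩
  have hk' : (u⁻¹ * u') ^ p ^ k = 1 := by
    have := congrArg Subtype.val hk
    simpa using this
  have h2 := center_pow_eq_one hF hσ p hn _ h k hk'
  have h3 : u * (u⁻¹ * u') = u * 1 := by rw [h2]
  rw [mul_one, mul_inv_cancel_left] at h3
  exact h3.symm

/-- the image of a Siegel element under an automorphism fixing `Xb e`. -/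
theorem aut_sgS (p : ℕ) [Fact p.Prime] [CharP F p] (hn : 3 ≤ n) (α : MulAut (Cfsg.PSU n F q))
    {e f : Fin n → F} (he0 : e ≠ 0) (hee : hf σ e e = 0) (hfe : hf σ f e = 1)
    (he : (Xb q σ e).map α.toMonoidHom = Xb q σ e) {w : Fin n → F} {c : F} (hwe : hf σ w e = 0)
    (hc : c + σ c + hf σ w w = 0) :
    ∃ (w' : Fin n → F) (c' : F), hf σ w' e = 0 ∧ hf σ w' f = 0 ∧ c' + σ c' + hf σ w' w' = 0 ∧
      α (mkU n F q (sgS q σ e w c)) = mkU n F q (sgS q σ e w' c') := by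
  have hσσ := bar_bar hF σ hσ
  obtain ⟨u', hu', h1⟩ := aut_Qb hF hσ p hn α he0 hee he0 hee he (sgS_mem_Qa hσ hσσ hee hwe hc)
  obtain ⟨w', c', h2, h3, h4, rfl⟩ := Qa_normal_form hσ hσσ he0 hee hfe hu'
  exact ⟨w', c', h2, h3, h4, h1⟩

/-- the image of a transvection under an automorphism fixing `Xb e`. -/
theorem aut_tvS (α : MulAut (Cfsg.PSU n F q)) {e : Fin n → F}
    (he : (Xb q σ e).map α.toMonoidHom = Xb q σ e) {a : F} (ha : a + σ a = 0) :
    ∃ a' : F, a' + σ a' = 0 ∧ α (mkU n F q (tvS q σ e a)) = mkU n F q (tvS q σ e a') := by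
  have h1 : α (mkU n F q (tvS q σ e a)) ∈ (Xb q σ e).map α.toMonoidHom :=
    Subgroup.mem_map_of_mem _ ((mem_Xb_iff σ e _).mpr ⟨a, ha, rfl⟩)
  rw [he] at h1
  exact (mem_Xb_iff σ e _).mp h1

/-- the `w`-component of the image does not depend on `c`. -/
theorem aut_sgS_indep (p : ℕ) [Fact p.Prime] [CharP F p] (hn : 3 ≤ n) (α : MulAut (Cfsg.PSU n F q))
    {e f : Fin n → F} (he0 : e ≠ 0) (hee : hf σ e e = 0) (hfe : hf σ f e = 1)
    (he : (Xb q σ e).map α.toMonoidHom = Xb q σ e) {w : Fin n → F} {c₁ c₂ : F} (hwe : hf σ w e = 0)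
    (hc₁ : c₁ + σ c₁ + hf σ w w = 0) (hc₂ : c₂ + σ c₂ + hf σ w w = 0)
    {w₁ w₂ : Fin n → F} {d₁ d₂ : F}
    (hw₁e : hf σ w₁ e = 0) (hw₁f : hf σ w₁ f = 0) (hd₁ : d₁ + σ d₁ + hf σ w₁ w₁ = 0)
    (hw₂e : hf σ w₂ e = 0) (hw₂f : hf σ w₂ f = 0) (hd₂ : d₂ + σ d₂ + hf σ w₂ w₂ = 0)
    (h₁ : α (mkU n F q (sgS q σ e w c₁)) = mkU n F q (sgS q σ e w₁ d₁))
    (h₂ : α (mkU n F q (sgS q σ e w c₂)) = mkU n F q (sgS q σ e w₂ d₂)) : w₁ = w₂ := by
  have hσσ := bar_bar hF σ hσ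
  have ha : (c₁ - c₂) + σ (c₁ - c₂) = 0 := by
    rw [map_sub]
    linear_combination hc₁ - hc₂
  have h0 : hf σ (0 : Fin n → F) e = 0 := hf_zero_left σ e
  have h1 : sgS q σ e w c₁ = sgS q σ e w c₂ * tvS q σ e (c₁ - c₂) := by
    unfold tvS
    rw [sgS_mul hσ hσσ hee hwe h0 hc₂ (by rw [hf_zero_left, add_zero]; exact ha), hf_zero_left, add_zero]
    congr 1
    ring
  obtain ⟨a', ha', h3⟩ := aut_tvS hF hσ α he ha
  rw [h1, map_mul, map_mul, h₂, h3, ← map_mul] at h₁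
  unfold tvS at h₁
  rw [sgS_mul hσ hσσ hee hw₂e h0 hd₂ (by rw [hf_zero_left, add_zero]; exact ha'), hf_zero_left, add_zero,
    sub_zero] at h₁
  have hd₂' : (d₂ + a') + σ (d₂ + a') + hf σ w₂ w₂ = 0 := by
    rw [map_add]
    linear_combination hd₂ + ha'
  have h4 := mkU_inj_Qa hF hσ p hn he0 hee (sgS_mem_Qa hσ hσσ hee hw₂e hd₂')
    (sgS_mem_Qa hσ hσσ hee hw₁e hd₁) h₁
  exact (sgS_normal_inj hσ hσσ hee hfe hw₂e hw₂f hd₂' hw₁e hw₁f hd₁ h4).1.symm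

/-- the data describing an automorphism on the image of `Qa e`. -/
structure QData (q : ℕ) (σ : F ≃+* F) (α : MulAut (Cfsg.PSU n F q)) (e f : Fin n → F)
    (ψ : (Fin n → F) → (Fin n → F)) (θ : (Fin n → F) → F → F) : Prop where
  spec : ∀ w c, hf σ w e = 0 → hf σ w f = 0 → c + σ c + hf σ w w = 0 →
    hf σ (ψ w) e = 0 ∧ hf σ (ψ w) f = 0 ∧ θ w c + σ (θ w c) + hf σ (ψ w) (ψ w) = 0 ∧
      α (mkU n F q (sgS q σ e w c)) = mkU n F q (sgS q σ e (ψ w) (θ w c))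

theorem exists_QData (p : ℕ) [Fact p.Prime] [CharP F p] (hn : 3 ≤ n) (α : MulAut (Cfsg.PSU n F q))
    {e f : Fin n → F} (he0 : e ≠ 0) (hee : hf σ e e = 0) (hfe : hf σ f e = 1)
    (he : (Xb q σ e).map α.toMonoidHom = Xb q σ e) :
    ∃ (ψ : (Fin n → F) → (Fin n → F)) (θ : (Fin n → F) → F → F), QData q σ α e f ψ θ := by
  classical
  choose c₀ hc₀ using fun w : Fin n → F => exists_adm (n := n) hF hσ w
  have key : ∀ (w : Fin n → F) (c : F), ∃ (w' : Fin n → F) (c' : F),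
      hf σ w e = 0 → c + σ c + hf σ w w = 0 →
        (hf σ w' e = 0 ∧ hf σ w' f = 0 ∧ c' + σ c' + hf σ w' w' = 0 ∧
          α (mkU n F q (sgS q σ e w c)) = mkU n F q (sgS q σ e w' c')) := by
    intro w c
    by_cases h : hf σ w e = 0 ∧ c + σ c + hf σ w w = 0
    · obtain ⟨w', c', h1⟩ := aut_sgS hF hσ p hn α he0 hee hfe he h.1 h.2
      exact ⟨w', c', fun _ _ => h1⟩
    · exact ⟨0, 0, fun h1 h2 => absurd ⟨h1, h2⟩ h⟩
  choose G H hGH using key
  refine ⟨fun w => G w (c₀ w), H, ⟨fun w c hwe hwf hc => ?_⟩⟩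
  obtain ⟨h1, h2, h3, h4⟩ := hGH w c hwe hc
  obtain ⟨k1, k2, k3, k4⟩ := hGH w (c₀ w) hwe (hc₀ w)
  have hind := aut_sgS_indep hF hσ p hn α he0 hee hfe he hwe hc (hc₀ w) h1 h2 h3 k1 k2 k3 h4 k4
  show hf σ (G w (c₀ w)) e = 0 ∧ hf σ (G w (c₀ w)) f = 0 ∧ _ ∧ _
  rw [← hind]
  exact ⟨h1, h2, h3, h4⟩

section qdata
variable (p : ℕ) [Fact p.Prime] [CharP F p] (hn : 3 ≤ n) {α : MulAut (Cfsg.PSU n F q)}
  {e f : Fin n → F} (he0 : e ≠ 0) (hee : hf σ e e = 0) (hff : hf σ f f = 0) (hfe : hf σ f e = 1)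
  {ψ : (Fin n → F) → (Fin n → F)} {θ : (Fin n → F) → F → F} (hD : QData q σ α e f ψ θ)
include p hn he0 hee hfe hD

theorem QData.mul {w w' : Fin n → F} {c c' : F} (hwe : hf σ w e = 0) (hwf : hf σ w f = 0)
    (hc : c + σ c + hf σ w w = 0) (hwe' : hf σ w' e = 0) (hwf' : hf σ w' f = 0)
    (hc' : c' + σ c' + hf σ w' w' = 0) :
    ψ (w + w') = ψ w + ψ w' ∧
      θ (w + w') (c + c' - hf σ w' w) = θ w c + θ w' c' - hf σ (ψ w') (ψ w) := by
  have hσσ := bar_bar hF σ hσ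
  obtain ⟨h1, h2, h3, h4⟩ := hD.spec w c hwe hwf hc
  obtain ⟨k1, k2, k3, k4⟩ := hD.spec w' c' hwe' hwf' hc'
  have hwe'' : hf σ (w + w') e = 0 := by rw [hf_add_left, hwe, hwe', add_zero]
  have hwf'' : hf σ (w + w') f = 0 := by rw [hf_add_left, hwf, hwf', add_zero]
  have hc'' : (c + c' - hf σ w' w) + σ (c + c' - hf σ w' w) + hf σ (w + w') (w + w') = 0 := by
    simp only [hf_add_left, hf_add_right, map_add, map_sub]
    rw [hf_swap σ hσσ w' w]
    linear_combination hc + hc'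
  obtain ⟨m1, m2, m3, m4⟩ := hD.spec (w + w') _ hwe'' hwf'' hc''
  rw [← sgS_mul hσ hσσ hee hwe hwe' hc hc', map_mul, map_mul, h4, k4, ← map_mul,
    sgS_mul hσ hσσ hee h1 k1 h3 k3] at m4
  have hpe : hf σ (ψ w + ψ w') e = 0 := by rw [hf_add_left, h1, k1, add_zero]
  have hpf : hf σ (ψ w + ψ w') f = 0 := by rw [hf_add_left, h2, k2, add_zero]
  have hpc : (θ w c + θ w' c' - hf σ (ψ w') (ψ w)) + σ (θ w c + θ w' c' - hf σ (ψ w') (ψ w)) +
      hf σ (ψ w + ψ w') (ψ w + ψ w') = 0 := by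
    simp only [hf_add_left, hf_add_right, map_add, map_sub]
    rw [hf_swap σ hσσ (ψ w') (ψ w)]
    linear_combination h3 + k3
  have h5 := mkU_inj_Qa hF hσ p hn he0 hee (sgS_mem_Qa hσ hσσ hee hpe hpc)
    (sgS_mem_Qa hσ hσσ hee m1 m3) m4
  obtain ⟨h6, h7⟩ := sgS_normal_inj hσ hσσ hee hfe hpe hpf hpc m1 m2 m3 h5
  exact ⟨h6.symm, h7.symm⟩

theorem QData.add {w w' : Fin n → F} (hwe : hf σ w e = 0) (hwf : hf σ w f = 0)
    (hwe' : hf σ w' e = 0) (hwf' : hf σ w' f = 0) : ψ (w + w') = ψ w + ψ w' := by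
  obtain ⟨c, hc⟩ := exists_adm hF hσ w
  obtain ⟨c', hc'⟩ := exists_adm hF hσ w'
  exact (hD.mul hF hσ p hn he0 hee hfe hwe hwf hc hwe' hwf' hc').1

theorem QData.zero : ψ 0 = 0 := by
  have h0e : hf σ (0 : Fin n → F) e = 0 := hf_zero_left σ e
  have h0f : hf σ (0 : Fin n → F) f = 0 := hf_zero_left σ f
  have := hD.add hF hσ p hn he0 hee hfe h0e h0f h0e h0f
  rw [add_zero] at this
  exact left_eq_add.mp this

theorem QData.neg {w : Fin n → F} (hwe : hf σ w e = 0) (hwf : hf σ w f = 0) : ψ (-w) = - ψ w := by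
  have hwe' : hf σ (-w) e = 0 := by rw [hf_neg_left, hwe, neg_zero]
  have hwf' : hf σ (-w) f = 0 := by rw [hf_neg_left, hwf, neg_zero]
  have := hD.add hF hσ p hn he0 hee hfe hwe hwf hwe' hwf'
  rw [add_neg_cancel, hD.zero hF hσ p hn he0 hee hfe] at this
  exact (neg_eq_of_add_eq_zero_right this.symm).symm

theorem QData.sub {w w' : Fin n → F} (hwe : hf σ w e = 0) (hwf : hf σ w f = 0)
    (hwe' : hf σ w' e = 0) (hwf' : hf σ w' f = 0) : ψ (w - w') = ψ w - ψ w' := by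
  have hwe'' : hf σ (-w') e = 0 := by rw [hf_neg_left, hwe', neg_zero]
  have hwf'' : hf σ (-w') f = 0 := by rw [hf_neg_left, hwf', neg_zero]
  rw [sub_eq_add_neg, hD.add hF hσ p hn he0 hee hfe hwe hwf hwe'' hwf'',
    hD.neg hF hσ p hn he0 hee hfe hwe' hwf', ← sub_eq_add_neg]

theorem QData.theta_add {w : Fin n → F} {c a : F} (hwe : hf σ w e = 0) (hwf : hf σ w f = 0)
    (hc : c + σ c + hf σ w w = 0) (ha : a + σ a = 0) : θ w (c + a) = θ w c + θ 0 a := by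
  have h0e : hf σ (0 : Fin n → F) e = 0 := hf_zero_left σ e
  have h0f : hf σ (0 : Fin n → F) f = 0 := hf_zero_left σ f
  have ha' : a + σ a + hf σ (0 : Fin n → F) 0 = 0 := by rw [hf_zero_left, add_zero]; exact ha
  have := (hD.mul hF hσ p hn he0 hee hfe hwe hwf hc h0e h0f ha').2
  rw [add_zero, hf_zero_left, sub_zero, hD.zero hF hσ p hn he0 hee hfe, hf_zero_left, sub_zero] at this
  exact this

theorem QData.theta_zero_add {a b : F} (ha : a + σ a = 0) (hb : b + σ b = 0) :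
    θ 0 (a + b) = θ 0 a + θ 0 b := by
  have h0e : hf σ (0 : Fin n → F) e = 0 := hf_zero_left σ e
  have h0f : hf σ (0 : Fin n → F) f = 0 := hf_zero_left σ f
  have ha' : a + σ a + hf σ (0 : Fin n → F) 0 = 0 := by rw [hf_zero_left, add_zero]; exact ha
  exact hD.theta_add hF hσ p hn he0 hee hfe h0e h0f ha' hb

/-- the commutator relation. -/
theorem QData.comm_rel {w w' : Fin n → F} (hwe : hf σ w e = 0) (hwf : hf σ w f = 0)
    (hwe' : hf σ w' e = 0) (hwf' : hf σ w' f = 0) :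
    θ 0 (hf σ w w' - hf σ w' w) = hf σ (ψ w) (ψ w') - hf σ (ψ w') (ψ w) := by
  have hσσ := bar_bar hF σ hσ
  obtain ⟨c, hc⟩ := exists_adm hF hσ w
  obtain ⟨c', hc'⟩ := exists_adm hF hσ w'
  have h1 := (hD.mul hF hσ p hn he0 hee hfe hwe hwf hc hwe' hwf' hc').2
  have h2 := (hD.mul hF hσ p hn he0 hee hfe hwe' hwf' hc' hwe hwf hc).2
  have hwe'' : hf σ (w' + w) e = 0 := by rw [hf_add_left, hwe, hwe', add_zero]
  have hwf'' : hf σ (w' + w) f = 0 := by rw [hf_add_left, hwf, hwf', add_zero]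
  have hc'' : (c' + c - hf σ w w') + σ (c' + c - hf σ w w') + hf σ (w' + w) (w' + w) = 0 := by
    simp only [hf_add_left, hf_add_right, map_add, map_sub]
    rw [hf_swap σ hσσ w w']
    linear_combination hc + hc'
  have ha : (hf σ w w' - hf σ w' w) + σ (hf σ w w' - hf σ w' w) = 0 := by
    rw [map_sub, hf_swap σ hσσ, hf_swap σ hσσ]
    ring
  have h3 := hD.theta_add hF hσ p hn he0 hee hfe hwe'' hwf'' hc'' ha
  have h4 : c' + c - hf σ w w' + (hf σ w w' - hf σ w' w) = c + c' - hf σ w' w := by ring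
  rw [h4, add_comm w' w] at h3
  rw [add_comm w' w] at h2
  rw [h1, h2] at h3
  linear_combination -h3

theorem QData.inj {w : Fin n → F} (hwe : hf σ w e = 0) (hwf : hf σ w f = 0)
    (he : (Xb q σ e).map α.toMonoidHom = Xb q σ e) (h : ψ w = 0) : w = 0 := by
  have hσσ := bar_bar hF σ hσ
  obtain ⟨c, hc⟩ := exists_adm hF hσ w
  obtain ⟨h1, h2, h3, h4⟩ := hD.spec w c hwe hwf hc
  rw [h] at h4 h3
  have h5 : α (mkU n F q (sgS q σ e w c)) ∈ Xb q σ e := by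
    rw [h4]
    rw [hf_zero_left, add_zero] at h3
    exact (mem_Xb_iff σ e _).mpr ⟨θ w c, h3, rfl⟩
  rw [← he] at h5
  obtain ⟨y, hy, hy'⟩ := h5
  have h6 : y = mkU n F q (sgS q σ e w c) := α.injective hy'
  rw [h6] at hy
  obtain ⟨a, ha, h7⟩ := (mem_Xb_iff σ e _).mp hy
  have ha' : a + σ a + hf σ (0 : Fin n → F) 0 = 0 := by rw [hf_zero_left, add_zero]; exact ha
  have h8 := mkU_inj_Qa hF hσ p hn he0 hee (sgS_mem_Qa hσ hσσ hee hwe hc)
    (sgS_mem_Qa hσ hσσ hee (hf_zero_left σ e) ha') h7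
  exact (sgS_normal_inj hσ hσσ hee hfe hwe hwf hc (hf_zero_left σ e) (hf_zero_left σ f) ha' h8).1

theorem QData.surj (he : (Xb q σ e).map α.toMonoidHom = Xb q σ e) {w' : Fin n → F}
    (hwe' : hf σ w' e = 0) (hwf' : hf σ w' f = 0) :
    ∃ w, hf σ w e = 0 ∧ hf σ w f = 0 ∧ ψ w = w' := by
  have hσσ := bar_bar hF σ hσ
  obtain ⟨c', hc'⟩ := exists_adm hF hσ w'
  have he' := map_symm_of_map hF hσ α he
  obtain ⟨w, c, h1, h2, h3, h4⟩ := aut_sgS hF hσ p hn α⁻¹ he0 hee hfe he' hwe' hc'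
  refine ⟨w, h1, h2, ?_⟩
  obtain ⟨k1, k2, k3, k4⟩ := hD.spec w c h1 h2 h3
  have h5 : α (mkU n F q (sgS q σ e w c)) = mkU n F q (sgS q σ e w' c') := by
    rw [← h4]
    exact MulEquiv.apply_symm_apply α _
  rw [h5] at k4
  have h6 := mkU_inj_Qa hF hσ p hn he0 hee (sgS_mem_Qa hσ hσσ hee hwe' hc')
    (sgS_mem_Qa hσ hσσ hee k1 k3) k4
  exact (sgS_normal_inj hσ hσσ hee hfe hwe' hwf' hc' k1 k2 k3 h6).1.symm

end qdata

end fin

end Cfsg.Agent.Lib.Helper16.UA
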