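import Cfsg.Agent.Lib.Helper16.UA8

set_option autoImplicit false
set_option linter.unusedSectionVars false
set_option linter.unusedVariables false

namespace Cfsg.Agent.Lib.Helper16.UA

open Matrix Cfsg.Agent.Lib.Helper16.PU Cfsg.Agent.Lib.Helper16.PG
open Cfsg.Agent.Lib.Helper16.SPA (par par_refl par_symm par_trans par_ne_zero par_smul)

universe u
variable {n : ℕ} {F : Type u} [Field F] {q : ℕ}

/-- a subfield of `F_{q²}` with more than `q` elements is everything. -/
theorem subfield_eq_top [Fintype F] (hF : Fintype.card F = q ^ 2) (K : Subfield F)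
    (hK : q < Nat.card ↥K) : K = ⊤ := by
  by_contra hne
  have hx : ∃ x : F, x ∉ K := by
    by_contra hcon
    push Not at hcon
    exact hne (eq_top_iff.mpr fun x _ => hcon x)
  obtain ⟨x, hx⟩ := hx
  have hinj : Function.Injective (fun ab : ↥K × ↥K => (ab.1 : F) + (ab.2 : F) * x) := by
    rintro ⟨a, b⟩ ⟨a', b'⟩ h
    have hb : b = b' := by
      by_contra hbne
      have hbne' : (b : F) - (b' : F) ≠ 0 := fun h0 => hbne (Subtype.ext (sub_eq_zero.mp h0))
      apply hx
      have hx' : x = ((a' : F) - (a : F)) / ((b : F) - (b' : F)) := by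
        rw [eq_div_iff hbne']
        linear_combination h
      rw [hx']
      exact K.div_mem (K.sub_mem a'.2 a.2) (K.sub_mem b.2 b'.2)
    subst hb
    have ha : (a : F) = (a' : F) := add_right_cancel h
    rw [Subtype.ext ha]
  have h1 := Nat.card_le_card_of_injective _ hinj
  rw [Nat.card_prod, Nat.card_eq_fintype_card (α := F), hF] at h1
  nlinarith

/-- the subfield generated by the image of a multiplicative map with small fibres is everything. -/
theorem subfield_top_of_image [Fintype F] (hF : Fintype.card F = q ^ 2) (χ : F → F) (m : ℕ) (hm : 0 < m)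
    (hχ0 : ∀ l, l ≠ 0 → χ l ≠ 0)
    (hfib : ∀ l l', l ≠ 0 → l' ≠ 0 → χ l = χ l' → (l / l') ^ m = 1)
    (hcount : q * m < q ^ 2 - 1 + m) (K : Subfield F) (hK : ∀ l, l ≠ 0 → χ l ∈ K) : K = ⊤ := by
  classical
  apply subfield_eq_top hF
  set U : Finset F := Finset.univ.erase 0 with hU
  have hUcard : U.card = q ^ 2 - 1 := by
    rw [hU, Finset.card_erase_of_mem (Finset.mem_univ _), Finset.card_univ, hF]
  have hfiber : ∀ b ∈ U.image χ, (U.filter fun a => χ a = b).card ≤ m := by
    intro b hb
    obtain ⟨x₀, hx₀U, rfl⟩ := Finset.mem_image.mp hb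
    have hx₀ : x₀ ≠ 0 := (Finset.mem_erase.mp hx₀U).1
    calc (U.filter fun a => χ a = χ x₀).card
        ≤ (Polynomial.nthRootsFinset m (1 : F)).card := by
          apply Finset.card_le_card_of_injOn (fun a => a / x₀)
          · intro a ha
            have ha' := Finset.mem_filter.mp ha
            have ha0 : a ≠ 0 := (Finset.mem_erase.mp ha'.1).1
            rw [Finset.mem_coe, Polynomial.mem_nthRootsFinset hm]
            exact hfib a x₀ ha0 hx₀ ha'.2
          · intro a _ a' _ h
            simp only at h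
            field_simp at h
            exact h
      _ ≤ m := by
          unfold Polynomial.nthRootsFinset
          exact le_trans (Multiset.toFinset_card_le _) (Polynomial.card_nthRoots m 1)
  have h1 := Finset.card_le_mul_card_image U m hfiber
  rw [hUcard] at h1
  have h0 : (0 : F) ∉ U.image χ := by
    intro h
    obtain ⟨x, hxU, hx⟩ := Finset.mem_image.mp h
    exact hχ0 x (Finset.mem_erase.mp hxU).1 hx
  have hsub : ((insert 0 (U.image χ) : Finset F) : Set F) ⊆ (K : Set F) := by
    intro y hy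
    rw [Finset.mem_coe, Finset.mem_insert] at hy
    rcases hy with rfl | hy
    · exact K.zero_mem
    · obtain ⟨x, hxU, rfl⟩ := Finset.mem_image.mp hy
      exact hK x (Finset.mem_erase.mp hxU).1
  have h2 : (insert 0 (U.image χ) : Finset F).card ≤ Nat.card ↥K := by
    rw [← Set.ncard_coe_finset]
    have h3 : Nat.card ↥K = (K : Set F).ncard := Nat.card_coe_set_eq (K : Set F)
    rw [h3]
    exact Set.ncard_le_ncard hsub (Set.toFinite _)
  rw [Finset.card_insert_of_notMem h0] at h2
  by_contra hcon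
  push Not at hcon
  have h3 : m * ((U.image χ).card + 1) ≤ m * q := Nat.mul_le_mul_left m (le_trans h2 hcon)
  nlinarith

/-- an additive map compatible with enough scalars is semilinear. -/
theorem semilinear_of_torus [Fintype F] (ψ₁ : F → F) (hadd : ∀ x y, ψ₁ (x + y) = ψ₁ x + ψ₁ y)
    (h1 : ψ₁ 1 ≠ 0)
    (S : Set F) (hS : ∀ m ∈ S, ∃ m' : F, ∀ κ, ψ₁ (m * κ) = m' * ψ₁ κ)
    (hgen : ∀ K : Subfield F, S ⊆ K → K = ⊤) :
    ∃ τ : F ≃+* F, ∀ κ, ψ₁ κ = τ κ * ψ₁ 1 := by
  have h0 : ψ₁ 0 = 0 := by
    have := hadd 0 0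
    rw [add_zero] at this
    exact left_eq_add.mp this
  have hneg : ∀ x, ψ₁ (-x) = - ψ₁ x := by
    intro x
    have := hadd x (-x)
    rw [add_neg_cancel, h0] at this
    exact (neg_eq_of_add_eq_zero_right this.symm).symm
  set t : F → F := fun y => ψ₁ y / ψ₁ 1 with ht
  have ht1 : t 1 = 1 := div_self h1
  let A : Subfield F :=
    { carrier := {y | ∀ x, ψ₁ (y * x) = t y * ψ₁ x}
      mul_mem' := by
        intro y y' hy hy' x
        have h2 : t (y * y') = t y * t y' := by
          show ψ₁ (y * y') / ψ₁ 1 = t y * (ψ₁ y' / ψ₁ 1)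
          have := hy y'
          rw [this]
          ring
        rw [h2, mul_assoc, hy, hy', mul_assoc]
      one_mem' := by
        intro x
        rw [one_mul, ht1, one_mul]
      add_mem' := by
        intro y y' hy hy' x
        have h2 : t (y + y') = t y + t y' := by
          show ψ₁ (y + y') / ψ₁ 1 = ψ₁ y / ψ₁ 1 + ψ₁ y' / ψ₁ 1
          rw [hadd, add_div]
        rw [h2, add_mul, hadd, hy, hy', add_mul]
      zero_mem' := by
        intro x
        show ψ₁ (0 * x) = ψ₁ 0 / ψ₁ 1 * ψ₁ x
        rw [zero_mul, h0, zero_div, zero_mul]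
      neg_mem' := by
        intro y hy x
        show ψ₁ (-y * x) = ψ₁ (-y) / ψ₁ 1 * ψ₁ x
        rw [neg_mul, hneg, hneg, hy, neg_div, neg_mul]
      inv_mem' := by
        intro y hy x
        by_cases hy0 : y = 0
        · subst hy0
          show ψ₁ ((0 : F)⁻¹ * x) = ψ₁ (0 : F)⁻¹ / ψ₁ 1 * ψ₁ x
          rw [_root_.inv_zero, zero_mul, h0, zero_div, zero_mul]
        · have hty : t y ≠ 0 := by
            intro h0
            have := hy y⁻¹
            rw [mul_inv_cancel₀ hy0, h0, zero_mul] at this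
            exact h1 this
          have h2 : ∀ z, ψ₁ (y⁻¹ * z) = (t y)⁻¹ * ψ₁ z := by
            intro z
            have := hy (y⁻¹ * z)
            rw [mul_inv_cancel_left₀ hy0] at this
            rw [this, inv_mul_cancel_left₀ hty]
          have h3 : t y⁻¹ = (t y)⁻¹ := by
            show ψ₁ y⁻¹ / ψ₁ 1 = (t y)⁻¹
            have := h2 1
            rw [mul_one] at this
            rw [this, mul_div_assoc, div_self h1, mul_one]
          rw [h3]
          exact h2 x }
  have hSA : S ⊆ A := by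
    intro m hm x
    obtain ⟨m', hm'⟩ := hS m hm
    have h2 : t m = m' := by
      show ψ₁ m / ψ₁ 1 = m'
      have := hm' 1
      rw [mul_one] at this
      rw [this, mul_div_assoc, div_self h1, mul_one]
    rw [h2]
    exact hm' x
  have hA := hgen A hSA
  have hall : ∀ y x, ψ₁ (y * x) = t y * ψ₁ x := by
    intro y
    have : y ∈ A := by rw [hA]; exact Subfield.mem_top y
    exact this
  let τ₀ : F →+* F :=
    { toFun := t
      map_one' := ht1
      map_mul' := by
        intro y x
        show ψ₁ (y * x) / ψ₁ 1 = t y * (ψ₁ x / ψ₁ 1)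
        rw [hall]
        ring
      map_zero' := by
        show ψ₁ 0 / ψ₁ 1 = 0
        rw [h0, zero_div]
      map_add' := by
        intro y x
        show ψ₁ (y + x) / ψ₁ 1 = ψ₁ y / ψ₁ 1 + ψ₁ x / ψ₁ 1
        rw [hadd, add_div] }
  have hbij : Function.Bijective τ₀ :=
    ⟨τ₀.injective, Finite.surjective_of_injective τ₀.injective⟩
  refine ⟨RingEquiv.ofBijective τ₀ hbij, fun κ => ?_⟩
  show ψ₁ κ = ψ₁ κ / ψ₁ 1 * ψ₁ 1
  rw [div_mul_cancel₀ _ h1]

section gen
variable [Fintype F] {σ : F ≃+* F} (hF : Fintype.card F = q ^ 2) (hσ : ∀ a, σ a = a ^ q)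
include hF hσ

theorem gen4 (K : Subfield F) (hK : ∀ l : F, l ≠ 0 → σ l ^ 2 ∈ K) : K = ⊤ := by
  have hσσ := bar_bar hF σ hσ
  have hq2 := q_ge_two' hF
  apply subfield_top_of_image hF (fun l => σ l ^ 2) 2 (by norm_num) _ _ _ K hK
  · intro l hl
    exact pow_ne_zero 2 ((map_ne_zero σ).mpr hl)
  · intro l l' hl hl' h
    have h1 : σ (l / l') ^ 2 = 1 := by
      rw [map_div₀, div_pow, h, div_self (pow_ne_zero 2 ((map_ne_zero σ).mpr hl'))]
    have h2 := congrArg σ h1
    rw [map_pow, hσσ, map_one] at h2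
    exact h2
  · obtain ⟨k, rfl⟩ : ∃ k, q = k + 2 := ⟨q - 2, by omega⟩
    have : (k + 2) ^ 2 = k ^ 2 + 4 * k + 4 := by ring
    rw [this]
    have h3 : k ^ 2 + 4 * k + 4 - 1 = k ^ 2 + 4 * k + 3 := by omega
    rw [h3]
    nlinarith

theorem gen3 (hq : 3 ≤ q) (K : Subfield F) (hK : ∀ l : F, l ≠ 0 → σ l ^ 2 / l ∈ K) : K = ⊤ := by
  have hσσ := bar_bar hF σ hσ
  apply subfield_top_of_image hF (fun l => σ l ^ 2 / l) 3 (by norm_num) _ _ _ K hK
  · intro l hl
    exact div_ne_zero (pow_ne_zero 2 ((map_ne_zero σ).mpr hl)) hl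
  · intro l l' hl hl' h
    set y := l / l' with hy
    have hy0 : y ≠ 0 := div_ne_zero hl hl'
    have h1 : σ y ^ 2 = y := by
      rw [hy, map_div₀, div_pow]
      have hσl' : σ l' ≠ 0 := (map_ne_zero σ).mpr hl'
      rw [div_eq_div_iff hl hl'] at h
      field_simp
      linear_combination h
    have h2 := congrArg σ h1
    rw [map_pow, hσσ] at h2
    rw [← h2] at h1
    have h3 : y * (y ^ 3 - 1) = 0 := by linear_combination h1
    rcases mul_eq_zero.mp h3 with h4 | h4
    · exact absurd h4 hy0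
    · exact sub_eq_zero.mp h4
  · obtain ⟨k, rfl⟩ : ∃ k, q = k + 3 := ⟨q - 3, by omega⟩
    have : (k + 3) ^ 2 = k ^ 2 + 6 * k + 9 := by ring
    rw [this]
    have h3 : k ^ 2 + 6 * k + 9 - 1 = k ^ 2 + 6 * k + 8 := by omega
    rw [h3]
    nlinarith

end gen

end Cfsg.Agent.Lib.Helper16.UA
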