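import Mathlib
import Cfsg.Prelude.Def_Classical
import Cfsg.Prelude.Def_LieClassical
import Cfsg.Agent.Lib.Helper16.UnitaryFixed
import Cfsg.Agent.Lib.Helper16.SemiFixed

set_option autoImplicit false

open Matrix

namespace Cfsg.Agent.Lib.Helper16

section
variable {K : Type*} [Field K] [Fintype K]

theorem psiHom_kappa (K₀ : Subfield K) {n : ℕ} (hn : 1 ≤ n) (t : (↥K₀)ˣ) :
    psiHom K₀ n (kappaHom K₀ n t) = 1 := by
  have : kappaHom K₀ n t ∈ (psiHom K₀ n).ker := by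
    rw [psiHom_ker K₀ hn]
    exact ⟨t, rfl⟩
  exact this

theorem unitary_range_mp (σ : K ≃+* K) (K₀ : Subfield K) [Fintype K₀] (hK₀mem : ∀ x, x ∈ K₀ ↔ σ x = x)
    {q₀ r n p a p₀ b : ℕ} (hr : Odd r)
    (hK₀ : Fintype.card K₀ = q₀ ^ 2) (hp : p.Prime) [CharP K p] (hqp : q₀ ^ r = p ^ a)
    (hp₀ : p₀.Prime) [CharP K₀ p₀] (hq₀p : q₀ = p₀ ^ b) (hn : 1 ≤ n) (d : Kˣ) (h : GL (Fin n) K₀)
    (hd : d ∈ (powMonoidHom (q₀ ^ r + 1) : Kˣ →* Kˣ).ker) (hh : h ∈ Cfsg.GU n K₀ q₀) :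
    psiHom K₀ n (d, h) ∈ Cfsg.GU n K (q₀ ^ r) ∧ ∃ c : K, c ≠ 0 ∧
      ((psiHom K₀ n (d, h) : GL (Fin n) K) : Matrix (Fin n) (Fin n) K).map σ =
        c • ((psiHom K₀ n (d, h) : GL (Fin n) K) : Matrix (Fin n) (Fin n) K) := by
  have hq₀pos : 0 < q₀ := by
    rcases Nat.eq_zero_or_pos q₀ with h0 | h0
    · have : 1 < Fintype.card K₀ := Fintype.one_lt_card
      rw [hK₀, h0] at this
      omega
    · exact h0
  have hqpos : 0 < q₀ ^ r := pow_pos hq₀pos r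
  refine ⟨?_, (psiHom_range σ K₀ hK₀mem hn _).mp ⟨(d, h), rfl⟩⟩
  rw [mem_GU_iff_UMat hp hqp hqpos, psiHom_val]
  intro i j
  rw [UMat_smul_sum]
  have hd1 : (d : K) ^ (q₀ ^ r + 1) = 1 := by
    have := MonoidHom.mem_ker.mp hd
    rw [powMonoidHom_apply] at this
    have h2 := congrArg Units.val this
    simpa using h2
  rw [hd1, one_mul]
  exact (UMat_map_iff K₀ hr hK₀ _).mpr ((mem_GU_iff_UMat hp₀ hq₀p hq₀pos h).mp hh) i j

end

end Cfsg.Agent.Lib.Helper16
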