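import Mathlib
import Cfsg.Prelude.Def_Classical
import Cfsg.Prelude.Def_LieClassical
import Cfsg.Agent.Lib.Helper16.UnitaryFixed
import Cfsg.Agent.Lib.Helper16.SemiFixed
import Cfsg.Agent.Lib.Helper16.UnitaryFixed2

set_option autoImplicit false

open Matrix

namespace Cfsg.Agent.Lib.Helper16

section
variable {K : Type*} [Field K] [Fintype K]

theorem unitary_range_mpr (σ : K ≃+* K) (K₀ : Subfield K) [Fintype K₀] (hK₀mem : ∀ x, x ∈ K₀ ↔ σ x = x)
    {q₀ r n p a p₀ b : ℕ} (hr : Odd r) (hK : Fintype.card K = (q₀ ^ r) ^ 2)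
    (hK₀ : Fintype.card K₀ = q₀ ^ 2) (hp : p.Prime) [CharP K p] (hqp : q₀ ^ r = p ^ a)
    (hp₀ : p₀.Prime) [CharP K₀ p₀] (hq₀p : q₀ = p₀ ^ b) (hn : 1 ≤ n) (g : GL (Fin n) K)
    (hgU : g ∈ Cfsg.GU n K (q₀ ^ r))
    (hc : ∃ c : K, c ≠ 0 ∧ (g : Matrix (Fin n) (Fin n) K).map σ = c • (g : Matrix (Fin n) (Fin n) K)) :
    ∃ (d : Kˣ) (h : GL (Fin n) K₀), d ∈ (powMonoidHom (q₀ ^ r + 1) : Kˣ →* Kˣ).ker ∧ h ∈ Cfsg.GU n K₀ q₀ ∧
      psiHom K₀ n (d, h) = g := by
  have hq₀pos : 0 < q₀ := by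
    rcases Nat.eq_zero_or_pos q₀ with h0 | h0
    · have : 1 < Fintype.card K₀ := Fintype.one_lt_card
      rw [hK₀, h0] at this
      omega
    · exact h0
  set q := q₀ ^ r with hq
  have hqpos : 0 < q := pow_pos hq₀pos r
  obtain ⟨⟨d, h⟩, hdh⟩ := (psiHom_range σ K₀ hK₀mem hn g).mpr hc
  have hval : (g : Matrix (Fin n) (Fin n) K) = (d : K) • (h : Matrix (Fin n) (Fin n) K₀).map K₀.subtype := by
    rw [← hdh, psiHom_val]
  have hUg : UMat q (g : Matrix (Fin n) (Fin n) K) := (mem_GU_iff_UMat hp hqp hqpos g).mp hgU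
  set H := (h : Matrix (Fin n) (Fin n) K₀).map K₀.subtype with hH
  have hsum : ∀ i j, (d : K) ^ (q + 1) * ∑ l, H l i * (H l j) ^ q = if i = j then 1 else 0 := by
    intro i j
    rw [← UMat_smul_sum, ← hval]
    exact hUg i j
  let i₀ : Fin n := ⟨0, by omega⟩
  set lam₀ : K₀ := ∑ l, (h : Matrix (Fin n) (Fin n) K₀) l i₀ * ((h : Matrix (Fin n) (Fin n) K₀) l i₀) ^ q₀ with hlam₀
  have hd0 : (d : K) ^ (q + 1) ≠ 0 := pow_ne_zero _ d.ne_zero
  have hdiag : ∀ i, ∑ l, H l i * (H l i) ^ q = ((d : K) ^ (q + 1))⁻¹ := by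
    intro i
    have := hsum i i
    rw [if_pos rfl] at this
    exact eq_inv_of_mul_eq_one_right this
  have hoff : ∀ i j, i ≠ j → ∑ l, H l i * (H l j) ^ q = 0 := by
    intro i j hij
    have := hsum i j
    rw [if_neg hij] at this
    exact (mul_eq_zero.mp this).resolve_left hd0
  have hlam : K₀.subtype lam₀ = ((d : K) ^ (q + 1))⁻¹ := by
    rw [hlam₀, ← UMat_map_key K₀ hr hK₀, ← hH]
    exact hdiag i₀
  have hlam0 : lam₀ ≠ 0 := by
    intro h0
    rw [h0, map_zero] at hlam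
    exact inv_ne_zero hd0 hlam.symm
  have hdq : ((d : K) ^ (q + 1)) ^ q = (d : K) ^ (q + 1) := by
    have h1 : (d : K) ^ (q ^ 2) = d := by
      have := FiniteField.pow_card (d : K)
      rwa [hK] at this
    calc ((d : K) ^ (q + 1)) ^ q = (d : K) ^ (q ^ 2) * (d : K) ^ q := by
          rw [← pow_mul, ← pow_add]
          congr 1
          ring
      _ = (d : K) ^ (q + 1) := by rw [h1, pow_succ']
  have hlamq : (K₀.subtype lam₀) ^ q₀ = K₀.subtype lam₀ := by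
    have h1 := sub_pow_q K₀ hr hK₀ (K₀.subtype lam₀) lam₀.2
    rw [← h1, ← hq, hlam, inv_pow, hdq]
  have hlamq' : (Units.mk0 lam₀ hlam0) ^ (q₀ - 1) = 1 := by
    apply Units.ext
    apply K₀.subtype_injective
    rw [Units.val_pow_eq_pow_val, Units.val_mk0, Units.val_one, map_pow, map_one]
    have hne : K₀.subtype lam₀ ≠ 0 := by
      rw [hlam]; exact inv_ne_zero hd0
    apply mul_right_cancel₀ hne
    rw [one_mul, ← pow_succ, Nat.sub_add_cancel hq₀pos, hlamq]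
  obtain ⟨mu, hmu⟩ := norm_surj hK₀ (Units.mk0 lam₀ hlam0) hlamq'
  have hmu' : (K₀.subtype (mu : K₀)) ^ (q + 1) = K₀.subtype lam₀ := by
    have h1 := sub_pow_q K₀ hr hK₀ (K₀.subtype (mu : K₀)) (mu : K₀).2
    rw [pow_succ, hq, h1, ← pow_succ, ← map_pow]
    have := congrArg Units.val hmu
    rw [Units.val_pow_eq_pow_val, Units.val_mk0] at this
    rw [this]
  have hmune : K₀.subtype (mu : K₀) ≠ 0 := by
    intro h0
    exact mu.ne_zero (K₀.subtype_injective (by rw [h0, map_zero]))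
  refine ⟨d * ((Units.map K₀.subtype.toMonoidHom mu⁻¹)⁻¹), h * Matrix.GeneralLinearGroup.scalar (Fin n) mu⁻¹, ?_, ?_, ?_⟩
  · rw [MonoidHom.mem_ker, powMonoidHom_apply]
    apply Units.ext
    simp only [Units.val_pow_eq_pow_val, Units.val_mul, Units.val_inv_eq_inv_val, Units.coe_map, map_inv,
      inv_inv, Units.val_one]
    show ((d : K) * K₀.subtype (mu : K₀)) ^ (q + 1) = 1
    rw [mul_pow, hmu', hlam, mul_inv_cancel₀ hd0]
  · rw [mem_GU_iff_UMat hp₀ hq₀p hq₀pos, ← UMat_map_iff K₀ hr hK₀]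
    have hmat : ((h * Matrix.GeneralLinearGroup.scalar (Fin n) mu⁻¹ : GL (Fin n) K₀) : Matrix (Fin n) (Fin n) K₀).map K₀.subtype =
        (K₀.subtype (mu : K₀))⁻¹ • H := by
      ext i j
      simp only [Units.val_mul, Matrix.GeneralLinearGroup.coe_scalar, Matrix.map_apply, Matrix.smul_apply, smul_eq_mul,
        hH, Matrix.scalar_apply, Matrix.mul_diagonal, map_mul, Units.val_inv_eq_inv_val, map_inv₀]
      ring
    rw [hmat]
    intro i j
    rw [← hq, UMat_smul_sum, inv_pow, hmu', hlam, inv_inv]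
    by_cases hij : i = j
    · subst hij
      rw [hdiag, if_pos rfl, mul_inv_cancel₀ hd0]
    · rw [hoff i j hij, if_neg hij, mul_zero]
  · have : (d * ((Units.map K₀.subtype.toMonoidHom mu⁻¹)⁻¹), h * Matrix.GeneralLinearGroup.scalar (Fin n) mu⁻¹) =
        (d, h) * kappaHom K₀ n mu⁻¹ := by
      rw [kappaHom_apply]
      rfl
    rw [this, map_mul, psiHom_kappa K₀ hn, mul_one, hdh]

end

end Cfsg.Agent.Lib.Helper16
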