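import Mathlib
import Cfsg.Prelude.Def_Classical
import Cfsg.Prelude.Def_LieClassical
import Cfsg.Agent.Lib.Helper16.UnitaryFixed3

set_option autoImplicit false

open Matrix

namespace Cfsg.Agent.Lib.Helper16

section
variable {K : Type*} [Field K] [Fintype K]

theorem card_norm_ker {L : Type*} [Field L] [Fintype L] {s : ℕ} (hL : Fintype.card L = s ^ 2) :
    Nat.card (powMonoidHom (s + 1) : Lˣ →* Lˣ).ker = s + 1 := by
  have hs : 1 ≤ s := by
    by_contra hcon
    push Not at hcon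
    have : 1 < Fintype.card L := Fintype.one_lt_card
    rw [hL] at this
    interval_cases s
    omega
  obtain ⟨t, rfl⟩ : ∃ t, s = t + 1 := ⟨s - 1, by omega⟩
  have hcard : Nat.card Lˣ = t * (t + 2) := by
    rw [Nat.card_units, Nat.card_eq_fintype_card, hL]
    have : (t + 1) ^ 2 = t * (t + 2) + 1 := by ring
    rw [this, Nat.add_sub_cancel]
  rw [IsCyclic.card_powMonoidHom_ker, hcard]
  exact Nat.gcd_eq_right (Dvd.intro_left t rfl)

theorem unitary_count (σ : K ≃+* K) (K₀ : Subfield K) [Fintype K₀] (hK₀mem : ∀ x, x ∈ K₀ ↔ σ x = x)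
    {q₀ r n p a p₀ b : ℕ} (hr : Odd r) (hK : Fintype.card K = (q₀ ^ r) ^ 2)
    (hK₀ : Fintype.card K₀ = q₀ ^ 2) (hp : p.Prime) [CharP K p] (hqp : q₀ ^ r = p ^ a)
    (hp₀ : p₀.Prime) [CharP K₀ p₀] (hq₀p : q₀ = p₀ ^ b) (hn : 1 ≤ n) :
    Nat.card {g : ↥(Cfsg.GU n K (q₀ ^ r)) // ∃ c : K, c ≠ 0 ∧
        ((g : GL (Fin n) K) : Matrix (Fin n) (Fin n) K).map σ = c • ((g : GL (Fin n) K) : Matrix (Fin n) (Fin n) K)}
      * (q₀ + 1) = (q₀ ^ r + 1) * Nat.card ↥(Cfsg.GU n K₀ q₀) := by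
  have hq₀pos : 0 < q₀ := by
    rcases Nat.eq_zero_or_pos q₀ with h0 | h0
    · have : 1 < Fintype.card K₀ := Fintype.one_lt_card
      rw [hK₀, h0] at this
      omega
    · exact h0
  set q := q₀ ^ r with hq
  set U : Subgroup Kˣ := (powMonoidHom (q + 1) : Kˣ →* Kˣ).ker with hU
  set A : Subgroup (Kˣ × GL (Fin n) K₀) := U.prod (Cfsg.GU n K₀ q₀) with hA
  set f' : ↥A →* GL (Fin n) K := (psiHom K₀ n).comp A.subtype with hf'
  have hrange : ∀ g : GL (Fin n) K, g ∈ f'.range ↔ (g ∈ Cfsg.GU n K q ∧ ∃ c : K, c ≠ 0 ∧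
      (g : Matrix (Fin n) (Fin n) K).map σ = c • (g : Matrix (Fin n) (Fin n) K)) := by
    intro g
    constructor
    · rintro ⟨⟨⟨d, h⟩, hdh⟩, rfl⟩
      rw [hA, Subgroup.mem_prod] at hdh
      exact unitary_range_mp σ K₀ hK₀mem hr hK₀ hp hqp hp₀ hq₀p hn d h hdh.1 hdh.2
    · rintro ⟨hgU, hc⟩
      obtain ⟨d, h, hd, hh, hdh⟩ := unitary_range_mpr σ K₀ hK₀mem hr hK hK₀ hp hqp hp₀ hq₀p hn g hgU hc
      exact ⟨⟨(d, h), by rw [hA, Subgroup.mem_prod]; exact ⟨hd, hh⟩⟩, hdh⟩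
  have h1 : Nat.card {g : ↥(Cfsg.GU n K q) // ∃ c : K, c ≠ 0 ∧
        ((g : GL (Fin n) K) : Matrix (Fin n) (Fin n) K).map σ = c • ((g : GL (Fin n) K) : Matrix (Fin n) (Fin n) K)}
      = Nat.card f'.range := by
    apply Nat.card_congr
    refine (Equiv.subtypeSubtypeEquivSubtypeInter (fun g : GL (Fin n) K => g ∈ Cfsg.GU n K q)
      (fun g : GL (Fin n) K => ∃ c : K, c ≠ 0 ∧
        (g : Matrix (Fin n) (Fin n) K).map σ = c • (g : Matrix (Fin n) (Fin n) K))).trans ?_
    apply Equiv.subtypeEquivRight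
    intro g
    exact (hrange g).symm
  have hkermem : ∀ x : ↥A, x ∈ f'.ker ↔ ∃ t : (↥K₀)ˣ, t ^ (q₀ + 1) = 1 ∧ kappaHom K₀ n t = (x : Kˣ × GL (Fin n) K₀) := by
    rintro ⟨⟨d, h⟩, hdh⟩
    rw [hA, Subgroup.mem_prod] at hdh
    constructor
    · intro hk
      have hk' : (d, h) ∈ (psiHom K₀ n).ker := hk
      rw [psiHom_ker K₀ hn] at hk'
      obtain ⟨t, ht⟩ := hk'
      refine ⟨t, ?_, ht⟩
      have hd : d = (Units.map K₀.subtype.toMonoidHom t)⁻¹ := by
        rw [kappaHom_apply] at ht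
        exact (congrArg Prod.fst ht).symm
      have hd1 : (d : K) ^ (q + 1) = 1 := by
        have := MonoidHom.mem_ker.mp hdh.1
        rw [powMonoidHom_apply] at this
        have h2 := congrArg Units.val this
        simpa using h2
      have ht1 : (K₀.subtype (t : K₀)) ^ (q + 1) = 1 := by
        have : (d : K) = (K₀.subtype (t : K₀))⁻¹ := by
          rw [hd]; simp
        rw [this, inv_pow, inv_eq_one] at hd1
        exact hd1
      have h3 := sub_pow_q K₀ hr hK₀ (K₀.subtype (t : K₀)) (t : K₀).2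
      rw [pow_succ, hq, h3, ← pow_succ, ← map_pow] at ht1
      apply Units.ext
      apply K₀.subtype_injective
      rw [Units.val_pow_eq_pow_val, ht1, Units.val_one, map_one]
    · rintro ⟨t, -, ht⟩
      show (psiHom K₀ n) (d, h) = 1
      have : (d, h) = kappaHom K₀ n t := ht.symm
      rw [this, psiHom_kappa K₀ hn]
  have hkappaA : ∀ t : (↥K₀)ˣ, t ^ (q₀ + 1) = 1 → kappaHom K₀ n t ∈ A := by
    intro t ht
    rw [hA, Subgroup.mem_prod, kappaHom_apply]
    have ht' : (t : K₀) ^ (q₀ + 1) = 1 := by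
      have := congrArg Units.val ht
      simpa using this
    constructor
    · rw [hU, MonoidHom.mem_ker, powMonoidHom_apply]
      apply Units.ext
      simp only [Units.val_pow_eq_pow_val, Units.val_inv_eq_inv_val, Units.coe_map, Units.val_one, inv_pow,
        inv_eq_one]
      show (K₀.subtype (t : K₀)) ^ (q + 1) = 1
      have h3 := sub_pow_q K₀ hr hK₀ (K₀.subtype (t : K₀)) (t : K₀).2
      rw [pow_succ, hq, h3, ← pow_succ, ← map_pow, ht', map_one]
    · rw [mem_GU_iff_UMat hp₀ hq₀p hq₀pos]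
      intro i j
      simp only [Matrix.GeneralLinearGroup.coe_scalar, Matrix.scalar_apply, Matrix.diagonal_apply]
      rw [Finset.sum_eq_single i]
      · by_cases hij : i = j
        · subst hij
          simp only [if_true]
          rw [← pow_succ', ht']
        · simp [hij, hq₀pos.ne']
      · intro l _ hl
        simp [hl]
      · intro h'; exact absurd (Finset.mem_univ i) h'
  have h2 : Nat.card f'.ker = q₀ + 1 := by
    rw [← card_norm_ker hK₀]
    symm
    apply Nat.card_congr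
    refine Equiv.ofBijective (fun t => ⟨⟨kappaHom K₀ n t.1, hkappaA t.1 (by
      have := MonoidHom.mem_ker.mp t.2
      rwa [powMonoidHom_apply] at this)⟩, (hkermem _).mpr ⟨t.1, by
      have := MonoidHom.mem_ker.mp t.2
      rwa [powMonoidHom_apply] at this, rfl⟩⟩) ⟨?_, ?_⟩
    · intro s t hst
      have h3 := congrArg (fun x => ((x : ↥A) : Kˣ × GL (Fin n) K₀)) (congrArg Subtype.val hst)
      exact Subtype.ext (kappaHom_injective K₀ n h3)
    · rintro ⟨x, hx⟩
      obtain ⟨t, ht1, ht⟩ := (hkermem x).mp hx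
      refine ⟨⟨t, by rw [MonoidHom.mem_ker, powMonoidHom_apply]; exact ht1⟩, ?_⟩
      apply Subtype.ext
      apply Subtype.ext
      exact ht
  have h3 : Nat.card ↥A = (q + 1) * Nat.card ↥(Cfsg.GU n K₀ q₀) := by
    rw [hA, Nat.card_congr (Subgroup.prodEquiv U (Cfsg.GU n K₀ q₀)).toEquiv, Nat.card_prod, hU, card_norm_ker hK]
  rw [h1, ← h2, ← h3, ← Subgroup.index_ker, mul_comm, Subgroup.card_mul_index]

end

end Cfsg.Agent.Lib.Helper16
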