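import Mathlib
import Cfsg.Agent.Lib.Helper16.UExist2
import Cfsg.Agent.Lib.Helper16.UnitaryFixed4

set_option autoImplicit false
set_option linter.unusedSectionVars false
set_option linter.unusedSimpArgs false
set_option linter.unusedVariables false

namespace Cfsg.Agent.Lib.Helper16.RN

open Matrix Module

section
variable {ι : Type*} [Fintype ι] [DecidableEq ι] {F : Type*} [Field F]

theorem det_smul_one_add_nilp (c : F) (ν : Matrix ι ι F) (hν : IsNilpotent ν) :
    (c • (1 : Matrix ι ι F) + ν).det = c ^ Fintype.card ι := by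
  have h1 : IsNilpotent (-ν) := hν.neg
  have h2 := Matrix.isNilpotent_charpoly_sub_pow_of_isNilpotent h1
  have h3 : (-ν).charpoly = Polynomial.X ^ Fintype.card ι := by
    have := h2.eq_zero
    exact sub_eq_zero.mp this
  have h4 := Matrix.eval_charpoly (-ν) c
  rw [h3, Polynomial.eval_pow, Polynomial.eval_X] at h4
  rw [h4]
  congr 1
  rw [sub_neg_eq_add, Matrix.scalar_apply, Matrix.smul_one_eq_diagonal]

theorem det_Psi (k : ℕ) (N : Matrix ι ι F) (hnil : N ^ (k + 1) = 0) (c : Fin (k + 1) → F) :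
    (Psi k N c).det = (c 0) ^ Fintype.card ι := by
  rw [Psi_split]
  exact det_smul_one_add_nilp (c 0) _ (Psi_tail_nilp k N hnil c)

end

end Cfsg.Agent.Lib.Helper16.RN

namespace Cfsg.Agent.Lib.Helper16.RN

open Matrix Module

section
variable {ι : Type*} [Fintype ι] [DecidableEq ι] {F : Type*} [Field F]

theorem det_rel_of_conj (A : AdjData ι F) (k : ℕ) (t : Matrix ι ι F)
    (hcard : Fintype.card ι = k + 1) (hnil : t ^ (k + 1) = 0) (v : ι → F)
    (hv : (t ^ k) *ᵥ v ≠ 0) (ht : A.adj t = -t)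
    (U₀ : (Matrix ι ι F)ˣ) (hcomm : ∀ g : Matrix ι ι F, Commute g U₀.1 → Commute g t)
    (U U' y y' g : (Matrix ι ι F)ˣ) (hy : A.adjU y * y = 1) (hy' : A.adjU y' * y' = 1)
    (hg : A.adjU g * g = 1) (hyU : y * U₀ = U * y) (hyU' : y' * U₀ = U' * y')
    (hgU : g * U = U' * g) :
    ∃ e₀ : F, A.σ e₀ * e₀ = 1 ∧ y.1.det * g.1.det = y'.1.det * e₀ ^ Fintype.card ι := by
  obtain ⟨z, hz⟩ : ∃ z, z = y'⁻¹ * g * y := ⟨_, rfl⟩
  have hzU : z * U₀ = U₀ * z := by
    have h1 : y'⁻¹ * U' = U₀ * y'⁻¹ := by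
      have := congrArg (fun t => y'⁻¹ * t * y'⁻¹) hyU'
      simp only [mul_assoc, mul_inv_cancel, mul_one, inv_mul_cancel_left] at this
      exact this.symm
    rw [hz, mul_assoc, mul_assoc, hyU, ← mul_assoc g, hgU, mul_assoc, ← mul_assoc y'⁻¹, h1]
    simp only [mul_assoc]
  have hzt : Commute z.1 t := hcomm z.1 (congrArg Units.val hzU)
  obtain ⟨e, he⟩ := exists_Psi_of_commute k t hcard hnil v hv z.1 hzt
  have hadjy' : A.adjU y' = y'⁻¹ := eq_inv_of_mul_eq_one_left hy'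
  have hzz : A.adjU z * z = 1 := by
    rw [hz, A.adjU_mul, A.adjU_mul, A.adjU_inv, hadjy', inv_inv]
    calc A.adjU y * (A.adjU g * y') * (y'⁻¹ * g * y) = A.adjU y * (A.adjU g * g) * y := by group
      _ = 1 := by rw [hg, mul_one, hy]
  have hzz' : A.adj z.1 * z.1 = 1 := congrArg Units.val hzz
  rw [he, A.adj_Psi_skew k t ht, ← Psi_single k t] at hzz'
  have h0 := Psi_mul_coeff0 k t hnil v hv _ _ _ hzz'
  simp only [Pi.single_eq_same, Fin.val_zero, pow_zero, one_mul] at h0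
  refine ⟨e 0, h0.symm, ?_⟩
  have hyz : y' * z = g * y := by rw [hz]; group
  have h1 := congrArg (fun w : (Matrix ι ι F)ˣ => w.1.det) hyz
  simp only [Units.val_mul, Matrix.det_mul] at h1
  rw [he, det_Psi k t hnil] at h1
  rw [h1]; ring

end

end Cfsg.Agent.Lib.Helper16.RN
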