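import Cfsg.Agent.Lib.Helper16.UF1
import Cfsg.Agent.S0755

set_option autoImplicit false
set_option linter.unusedSectionVars false
set_option linter.unusedVariables false

namespace Cfsg.Agent.Lib.Helper16.UF

open Matrix Cfsg.Agent.Lib.Helper16.PU Cfsg.Agent.Lib.Helper16.PG Cfsg.Agent.Lib.Helper16.H9

universe u
variable {F : Type u} [Field F] {n : ℕ}

/-- a nondegenerate Hermitian matrix with entries in a subfield stable under the involution (and not fixed
by it) is congruent to the identity over that subfield. -/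
theorem herm_congr_one [Finite F] (K : Subfield F) (σ : F ≃+* F) (hσσ : ∀ x, σ (σ x) = x)
    (hKσ : ∀ x ∈ K, σ x ∈ K) (hl : ∃ l ∈ K, σ l ≠ l)
    (A : Matrix (Fin n) (Fin n) F) (hfix : ∀ i j, A i j ∈ K) (hherm : Aᵀ = A.map ⇑σ) (hdet : A.det ≠ 0) :
    ∃ C : Matrix (Fin n) (Fin n) F, (∀ i j, C i j ∈ K) ∧ C.det ≠ 0 ∧ Cᵀ * A * C.map ⇑σ = 1 := by
  classical
  have : Finite ↥K := Finite.of_injective (fun x : ↥K => (x : F)) Subtype.val_injective
  let σK : ↥K →+* ↥K :=
    { toFun := fun x => ⟨σ x.1, hKσ x.1 x.2⟩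
      map_one' := Subtype.ext (map_one σ)
      map_mul' := fun x y => Subtype.ext (map_mul σ x.1 y.1)
      map_zero' := Subtype.ext (map_zero σ)
      map_add' := fun x y => Subtype.ext (map_add σ x.1 y.1) }
  have hσKval : ∀ x : ↥K, ((σK x : ↥K) : F) = σ (x : F) := fun x => rfl
  have hσK2 : ∀ a : ↥K, σK (σK a) = a := fun a => Subtype.ext (hσσ a.1)
  have hσKne : σK ≠ RingHom.id ↥K := by
    obtain ⟨l, hlK, hlσ⟩ := hl
    intro h
    apply hlσ
    have := congrArg (fun f : ↥K →+* ↥K => ((f ⟨l, hlK⟩ : ↥K) : F)) h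
    exact this
  set A₁ : Matrix (Fin n) (Fin n) ↥K := fun i j => ⟨A i j, hfix i j⟩ with hA₁
  have hA₁map : A₁.map K.subtype = A := by
    ext i j
    rfl
  have hA₁herm : A₁.map σK = A₁ᵀ := by
    ext i j
    have := congrFun (congrFun hherm i) j
    rw [Matrix.transpose_apply, Matrix.map_apply] at this
    show σ (A i j) = A j i
    exact this.symm
  have hdet₁ : A₁.det ≠ 0 := by
    intro h0
    apply hdet
    rw [← hA₁map, ← RingHom.mapMatrix_apply, ← RingHom.map_det, h0, map_zero]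
  have hcomp_add : ∀ u v : Fin n → ↥K, (⇑σK ∘ (u + v)) = ⇑σK ∘ u + ⇑σK ∘ v := by
    intro u v
    funext i
    simp
  have hcomp_smul : ∀ (c : ↥K) (u : Fin n → ↥K), (⇑σK ∘ (c • u)) = σK c • (⇑σK ∘ u) := by
    intro c u
    funext i
    simp
  let B : (Fin n → ↥K) →ₛₗ[σK] (Fin n → ↥K) →ₗ[↥K] ↥K :=
    LinearMap.mk₂'ₛₗ σK (RingHom.id ↥K) (fun u v => v ⬝ᵥ (A₁ *ᵥ (⇑σK ∘ u)))
      (fun u₁ u₂ v => by
        rw [hcomp_add, Matrix.mulVec_add, dotProduct_add])
      (fun c u v => by
        rw [hcomp_smul, Matrix.mulVec_smul, dotProduct_smul])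
      (fun u v₁ v₂ => by
        rw [add_dotProduct])
      (fun c u v => by
        rw [smul_dotProduct]
        rfl)
  have hBapp : ∀ u v, B u v = v ⬝ᵥ (A₁ *ᵥ (⇑σK ∘ u)) := fun u v => rfl
  have hσσcomp : ∀ u : Fin n → ↥K, ⇑σK ∘ (⇑σK ∘ u) = u := by
    intro u
    funext i
    exact hσK2 (u i)
  have hS : B.IsSymm := by
    constructor
    intro u v
    rw [hBapp, hBapp, RingHom.map_dotProduct]
    have h1 : ⇑σK ∘ (A₁ *ᵥ (⇑σK ∘ u)) = A₁.map σK *ᵥ (⇑σK ∘ (⇑σK ∘ u)) := by
      funext i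
      rw [Function.comp_apply, RingHom.map_mulVec]
    rw [h1, hσσcomp, hA₁herm, Matrix.dotProduct_mulVec, Matrix.vecMul_transpose, dotProduct_comm]
  have hleft : ∀ u : Fin n → ↥K, (∀ v, B u v = 0) → u = 0 := by
    intro u hu
    have h1 : A₁ *ᵥ (⇑σK ∘ u) = 0 := by
      funext i
      have := hu (Pi.single i 1)
      rw [hBapp, single_one_dotProduct] at this
      exact this
    have h2 := Matrix.eq_zero_of_mulVec_eq_zero hdet₁ h1
    funext i
    have h3 := congrFun h2 i
    rw [Function.comp_apply, Pi.zero_apply] at h3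
    have h4 := congrArg σK h3
    rw [hσK2, map_zero] at h4
    exact h4
  have hND : B.Nondegenerate := by
    constructor
    · exact hleft
    · intro v hv
      apply hleft
      intro u
      rw [← hS.eq, hv u, map_zero]
  obtain ⟨b, hb⟩ := Cfsg.Agent.S0755.result σK hσKne hσK2 B hS hND
  have hfr : Module.finrank ↥K (Fin n → ↥K) = n := by
    rw [Module.finrank_fintype_fun_eq_card, Fintype.card_fin]
  set C₁ : Matrix (Fin n) (Fin n) ↥K := Matrix.of fun k i => b (Fin.cast hfr.symm i) k with hC₁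
  have hcong : C₁ᵀ * A₁ * C₁.map σK = 1 := by
    ext j i
    have h1 := hb (Fin.cast hfr.symm i) (Fin.cast hfr.symm j)
    rw [hBapp] at h1
    rw [Matrix.mul_assoc, Matrix.mul_apply, Matrix.one_apply]
    have h2 : (if Fin.cast hfr.symm i = Fin.cast hfr.symm j then (1 : ↥K) else 0) =
        if j = i then 1 else 0 := by
      by_cases hij : i = j
      · subst hij
        simp
      · rw [if_neg, if_neg (Ne.symm hij)]
        intro h
        exact hij (Fin.cast_injective _ h)
    rw [← h2, ← h1]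
    simp only [dotProduct, Matrix.transpose_apply, Matrix.mulVec, Matrix.mul_apply, Matrix.map_apply,
      Function.comp_apply]
    rfl
  set C : Matrix (Fin n) (Fin n) F := C₁.map K.subtype with hC
  have hCσ : C.map ⇑σ = (C₁.map σK).map K.subtype := by
    ext i j
    rfl
  have hcongF : Cᵀ * A * C.map ⇑σ = 1 := by
    have := congrArg (fun M : Matrix (Fin n) (Fin n) ↥K => M.map K.subtype) hcong
    simp only [Matrix.map_mul, Matrix.transpose_map, hA₁map] at this
    rw [hCσ, hC, this]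
    ext i j
    rw [Matrix.map_apply, Matrix.one_apply, Matrix.one_apply]
    split_ifs <;> simp
  refine ⟨C, fun i j => (C₁ i j).2, ?_, hcongF⟩
  intro h0
  have := congrArg Matrix.det hcongF
  rw [Matrix.det_mul, Matrix.det_mul, Matrix.det_transpose, h0, zero_mul, zero_mul, Matrix.det_one] at this
  exact zero_ne_one this

end Cfsg.Agent.Lib.Helper16.UF
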