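import Cfsg.Agent.Lib.Helper16.UF2

set_option autoImplicit false
set_option linter.unusedSectionVars false
set_option linter.unusedVariables false

namespace Cfsg.Agent.Lib.Helper16.UF

open Matrix Cfsg.Agent.Lib.Helper16.PU Cfsg.Agent.Lib.Helper16.PG Cfsg.Agent.Lib.Helper16.H9

universe u
variable {F : Type u} [Field F] {n : ℕ} {q : ℕ}

/-- Hilbert 90 for the group of Hermitian similitudes and a field automorphism of odd order. -/
theorem h90_simU [Fintype F] (hF : Fintype.card F = q ^ 2) (hn : 1 ≤ n) (σ : F ≃+* F) (hσ : ∀ a, σ a = a ^ q)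
    (τ : RingAut F) (r : ℕ) (hinj : ∀ i j, i < r → j < r → τ ^ i = τ ^ j → i = j) (hr0 : 0 < r)
    (hrodd : Odd r) (hτr : τ ^ r = 1) (g : GL (Fin n) F) (hg : g ∈ simU n F q) (hA : tw τ g r = 1) :
    ∃ h : GL (Fin n) F, h ∈ simU n F q ∧ g * mapGL n τ h = h := by
  classical
  have hσσ := bar_bar hF σ hσ
  have hcomm : ∀ x, τ (σ x) = σ (τ x) := fun x => bar_comm σ hσ τ x
  obtain ⟨B, hB⟩ := h90_GL τ r hinj hr0 hτr g hA
  obtain ⟨c, hc⟩ := (mem_simU_iff_mat σ hσ g).mp hg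
  have hcσ : σ (c : F) = c := simU_mult_fixed hF σ hσ hn _ _ hc
  set Bm : Matrix (Fin n) (Fin n) F := (B : Matrix (Fin n) (Fin n) F) with hBm
  set gm : Matrix (Fin n) (Fin n) F := (g : Matrix (Fin n) (Fin n) F) with hgm
  have hBval : gm * Bm.map ⇑τ = Bm := by
    have := congrArg (fun x : GL (Fin n) F => (x : Matrix (Fin n) (Fin n) F)) hB
    simp only [Units.val_mul, mapGL_val] at this
    exact this
  set A' : Matrix (Fin n) (Fin n) F := Bmᵀ * Bm.map ⇑σ with hA'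
  have hmapcomm : (Bm.map ⇑τ).map ⇑σ = (Bm.map ⇑σ).map ⇑τ := by
    ext i j
    rw [Matrix.map_apply, Matrix.map_apply, Matrix.map_apply, Matrix.map_apply, hcomm]
  have hA'τ : A' = (c : F) • A'.map ⇑τ := by
    have h1 : A' = (gm * Bm.map ⇑τ)ᵀ * (gm * Bm.map ⇑τ).map ⇑σ := by rw [hBval]
    have h3 : A'.map ⇑τ = (Bm.map ⇑τ)ᵀ * (Bm.map ⇑σ).map ⇑τ := by
      rw [hA', Matrix.map_mul, Matrix.transpose_map]
    have h2 : (Bm.map ⇑τ)ᵀ * gmᵀ * (gm.map ⇑σ * (Bm.map ⇑σ).map ⇑τ) =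
        (Bm.map ⇑τ)ᵀ * (gmᵀ * gm.map ⇑σ) * (Bm.map ⇑σ).map ⇑τ := by
      simp only [Matrix.mul_assoc]
    rw [h3]
    conv_lhs => rw [h1]
    rw [Matrix.transpose_mul, Matrix.map_mul, hmapcomm, h2, hc, Matrix.mul_smul, Matrix.mul_one, Matrix.smul_mul]
  have hA'herm : A'ᵀ = A'.map ⇑σ := by
    rw [hA', Matrix.transpose_mul, Matrix.transpose_transpose, Matrix.map_mul, map_map_bar hF σ hσ,
      Matrix.transpose_map]
  have hBdet : Bm.det ≠ 0 := by
    have h1 : IsUnit Bm.det := (Matrix.isUnit_iff_isUnit_det _).mp B.isUnit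
    exact h1.ne_zero
  have hBσdet : (Bm.map ⇑σ).det ≠ 0 := by
    have h1 : (Bm.map ⇑σ).det = σ Bm.det := by
      have := RingHom.map_det (σ : F →+* F) Bm
      exact this.symm
    rw [h1]
    exact (map_ne_zero σ).mpr hBdet
  have hdetA' : A'.det ≠ 0 := by
    rw [hA', Matrix.det_mul, Matrix.det_transpose]
    exact mul_ne_zero hBdet hBσdet
  obtain ⟨k₀, l₀, hk₀⟩ : ∃ k₀ l₀, A' k₀ l₀ ≠ 0 := by
    by_contra hno
    push Not at hno
    apply hdetA'
    have : A' = 0 := by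
      ext i j
      exact hno i j
    rw [this]
    have : Nonempty (Fin n) := ⟨⟨0, hn⟩⟩
    exact Matrix.det_zero
  have hc0 : (c : F) ≠ 0 := c.ne_zero
  have hentτ : ∀ i j, τ (A' i j) = (c : F)⁻¹ * A' i j := by
    intro i j
    have := congrFun (congrFun hA'τ i) j
    rw [Matrix.smul_apply, Matrix.map_apply, smul_eq_mul] at this
    rw [eq_inv_mul_iff_mul_eq₀ hc0]
    exact this.symm
  obtain ⟨θ, hθ⟩ := exists_moved hF σ hσ
  obtain ⟨l, hl, hlσ⟩ := exists_fixed_moved (σ : RingAut F) τ hσσ ⟨θ, hθ⟩ hrodd hτr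
  have hcinv : σ ((c : F)⁻¹) = (c : F)⁻¹ := by rw [map_inv₀, hcσ]
  obtain ⟨d, hd0, hdσ, hdτ⟩ := exists_semi_scalar σ τ hcomm hσσ hl hlσ hcinv hk₀ (hentτ k₀ l₀)
  set A : Matrix (Fin n) (Fin n) F := d⁻¹ • A' with hAdef
  set K : Subfield F := FixedPoints.subfield (Subgroup.zpowers (τ : RingAut F)) F with hK
  have hmemK : ∀ x, x ∈ K ↔ τ x = x := fun x => Cfsg.Agent.Lib.Helper16.mem_fixed_iff τ x
  have hAK : ∀ i j, A i j ∈ K := by
    intro i j
    rw [hmemK, hAdef, Matrix.smul_apply, smul_eq_mul, map_mul, map_inv₀, hdτ, hentτ]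
    field_simp
  have hAherm : Aᵀ = A.map ⇑σ := by
    rw [hAdef, Matrix.transpose_smul, hA'herm]
    ext i j
    rw [Matrix.smul_apply, Matrix.map_apply, Matrix.map_apply, Matrix.smul_apply, smul_eq_mul, smul_eq_mul,
      map_mul, map_inv₀, hdσ]
  have hAdet : A.det ≠ 0 := by
    rw [hAdef, Matrix.det_smul]
    exact mul_ne_zero (pow_ne_zero _ (inv_ne_zero hd0)) hdetA'
  have hKσ : ∀ x ∈ K, σ x ∈ K := by
    intro x hx
    rw [hmemK] at hx ⊢
    rw [hcomm, hx]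
  obtain ⟨C, hCK, hCdet, hCcong⟩ := herm_congr_one K σ hσσ hKσ ⟨l, (hmemK l).mpr hl, hlσ⟩ A hAK hAherm hAdet
  have hCτ : C.map ⇑τ = C := by
    ext i j
    rw [Matrix.map_apply]
    exact (hmemK (C i j)).mp (hCK i j)
  set Cg : GL (Fin n) F := Matrix.GeneralLinearGroup.mkOfDetNeZero C hCdet with hCg
  have hCgval : (Cg : Matrix (Fin n) (Fin n) F) = C := rfl
  refine ⟨B * Cg, ?_, ?_⟩
  · rw [mem_simU_iff_mat σ hσ]
    refine ⟨Units.mk0 d hd0, ?_⟩
    rw [Units.val_mul, hCgval, Units.val_mk0, Matrix.transpose_mul, Matrix.map_mul]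
    have h1 : Cᵀ * Bmᵀ * (Bm.map ⇑σ * C.map ⇑σ) = Cᵀ * A' * C.map ⇑σ := by
      rw [hA']
      simp only [Matrix.mul_assoc]
    have h2 : A' = d • A := by rw [hAdef, smul_smul, mul_inv_cancel₀ hd0, one_smul]
    rw [h1, h2, Matrix.mul_smul, Matrix.smul_mul, hCcong]
  · apply Units.ext
    rw [Units.val_mul, mapGL_val, Units.val_mul, hCgval, Matrix.map_mul, hCτ, ← Matrix.mul_assoc]
    show gm * Bm.map ⇑τ * C = Bm * C
    rw [hBval]

end Cfsg.Agent.Lib.Helper16.UF
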