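import Cfsg.Agent.Lib.Helper16.UF3
import Cfsg.Agent.Lib.Helper16.AF3

set_option autoImplicit false
set_option linter.unusedSectionVars false
set_option linter.unusedVariables false

namespace Cfsg.Agent.Lib.Helper16.UF

open Matrix Cfsg.Agent.Lib.Helper16.PU Cfsg.Agent.Lib.Helper16.PG Cfsg.Agent.Lib.Helper16.H9
  Cfsg.Agent.Lib.Helper16.UA

universe u
variable {F : Type u} [Field F] {n : ℕ} {q : ℕ}

/-- entrywise field automorphism on the Hermitian similitudes. -/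
noncomputable def mapSimU (n : ℕ) (q : ℕ) (τ : F ≃+* F) : ↥(simU n F q) →* ↥(simU n F q) where
  toFun X := ⟨mapGL n τ X.1, mapGL_mem_simU τ X.1 X.2⟩
  map_one' := Subtype.ext (map_one _)
  map_mul' X Y := Subtype.ext (map_mul _ _ _)

theorem mapSimU_val (τ : F ≃+* F) (X : ↥(simU n F q)) : (mapSimU n q τ X).1 = mapGL n τ X.1 := rfl

theorem fieldU_PhiU (τ : RingAut F) (X : ↥(simU n F q)) :
    fieldUHom n F q τ * PhiU n F q X = PhiU n F q (mapSimU n q τ X) * fieldUHom n F q τ :=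
  field_conj τ X

theorem tw_mem_simU (τ : RingAut F) (g : GL (Fin n) F) (hg : g ∈ simU n F q) (k : ℕ) :
    tw τ g k ∈ simU n F q := by
  induction k with
  | zero => rw [tw_zero]; exact one_mem _
  | succ k ih => rw [tw_succ]; exact mul_mem hg (mapGL_mem_simU τ _ ih)

theorem pow_PhiU_fieldU (τ : RingAut F) (g : GL (Fin n) F) (hg : g ∈ simU n F q) (k : ℕ) :
    (PhiU n F q ⟨g, hg⟩ * fieldUHom n F q τ) ^ k =
      PhiU n F q ⟨tw τ g k, tw_mem_simU τ g hg k⟩ * fieldUHom n F q (τ ^ k) := by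
  induction k with
  | zero =>
    rw [pow_zero, pow_zero, map_one]
    have : (⟨tw τ g 0, tw_mem_simU τ g hg 0⟩ : ↥(simU n F q)) = 1 := Subtype.ext (tw_zero τ g)
    rw [this, map_one, one_mul]
  | succ k ih =>
    rw [pow_succ', ih, pow_succ', map_mul]
    have h1 : (⟨tw τ g (k + 1), tw_mem_simU τ g hg (k + 1)⟩ : ↥(simU n F q)) =
        ⟨g, hg⟩ * mapSimU n q τ ⟨tw τ g k, tw_mem_simU τ g hg k⟩ := Subtype.ext (tw_succ τ g k)
    rw [h1, map_mul]
    calc PhiU n F q ⟨g, hg⟩ * fieldUHom n F q τ *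
          (PhiU n F q ⟨tw τ g k, tw_mem_simU τ g hg k⟩ * fieldUHom n F q (τ ^ k))
        = PhiU n F q ⟨g, hg⟩ * (fieldUHom n F q τ * PhiU n F q ⟨tw τ g k, tw_mem_simU τ g hg k⟩) *
            fieldUHom n F q (τ ^ k) := by simp only [mul_assoc]
      _ = _ := by rw [fieldU_PhiU]; simp only [mul_assoc]

section fin
variable [Fintype F] (hF : Fintype.card F = q ^ 2)
include hF

theorem scalGL_mem_simU (c : Fˣ) : scalGL n c ∈ simU n F q := by
  obtain ⟨σ, hσ⟩ := exists_bar hF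
  exact scalG_mem_simU σ hσ c

theorem PhiU_scalGL (c : Fˣ) : PhiU n F q ⟨scalGL n c, scalGL_mem_simU hF c⟩ = 1 :=
  PhiU_scal c (scalGL_mem_simU hF c)

theorem PhiU_eq_one_iff' (hn : 3 ≤ n) (X : ↥(simU n F q)) :
    PhiU n F q X = 1 ↔ ∃ c : Fˣ, X.1 = scalGL n c := by
  rw [PhiU_eq_one_iff hF hn]
  constructor
  · rintro ⟨c, hc⟩
    exact ⟨c, hc.symm⟩
  · rintro ⟨c, hc⟩
    exact ⟨c, hc.symm⟩

theorem fieldUHom_injective (hn : 3 ≤ n) : Function.Injective (fieldUHom n F q) := by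
  rw [injective_iff_map_eq_one]
  intro τ hτ
  have h1 : fieldU n q τ = PhiU n F q 1 := by
    rw [map_one]
    exact hτ
  exact fieldU_eq_PhiU hF hn τ 1 h1

theorem orderOf_fieldU (hn : 3 ≤ n) (τ : RingAut F) : orderOf (fieldUHom n F q τ) = orderOf τ :=
  orderOf_injective (fieldUHom n F q) (fieldUHom_injective hF hn) τ

/-- in the coset of a field automorphism of odd order, the elements of the same order are conjugate to it. -/
theorem field_conjU (hn : 3 ≤ n) (τ : RingAut F) (r : ℕ) (hord : orderOf τ = r) (hr0 : 0 < r) (hrodd : Odd r)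
    (g : ↥(simU n F q)) (hpow : (PhiU n F q g * fieldUHom n F q τ) ^ r = 1) :
    ∃ h : ↥(simU n F q), PhiU n F q g * fieldUHom n F q τ =
      PhiU n F q h * fieldUHom n F q τ * (PhiU n F q h)⁻¹ := by
  obtain ⟨σ, hσ⟩ := exists_bar hF
  have hn1 : 1 ≤ n := by omega
  have hτr : τ ^ r = 1 := by rw [← hord]; exact pow_orderOf_eq_one τ
  have hinj : ∀ i j, i < r → j < r → τ ^ i = τ ^ j → i = j := by
    intro i j hi hj hij
    rw [← hord] at hi hj
    exact pow_injOn_Iio_orderOf hi hj hij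
  obtain ⟨g, hg⟩ := g
  rw [pow_PhiU_fieldU, hτr, map_one, mul_one, PhiU_eq_one_iff' hF hn] at hpow
  obtain ⟨c, hc⟩ := hpow
  have hc' : tw τ g r = scalGL n c := hc
  have hfix : uσ τ c = c := by
    apply scalGL_injective hn1
    have e1 : tw τ g (r + 1) = g * scalGL n (uσ τ c) := by rw [tw_succ, hc', mapGL_scalGL]
    have e2 : tw τ g (r + 1) = g * scalGL n c := by
      rw [tw_add, hτr, mapGL_one_aut, tw_one, hc', scalGL_comm]
    exact mul_left_cancel (e1.symm.trans e2)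
  obtain ⟨d, hd⟩ := Cfsg.Agent.Lib.Helper16.H9.norm_surj τ r hinj hr0 hτr c hfix
  set g' := g * scalGL n d⁻¹ with hg'
  have hg'mem : g' ∈ simU n F q := mul_mem hg (scalGL_mem_simU hF _)
  have hg'tw : tw τ g' r = 1 := by
    rw [hg', tw_mul_scalGL, hc', ← scalGL_mul, ← nuHom_apply, map_inv, nuHom_apply, hd, mul_inv_cancel,
      scalGL_one]
  obtain ⟨B, hBmem, hB⟩ := h90_simU hF hn1 σ hσ τ r hinj hr0 hrodd hτr g' hg'mem hg'tw
  refine ⟨⟨B, hBmem⟩, ?_⟩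
  have hPg : PhiU n F q ⟨g, hg⟩ = PhiU n F q ⟨g', hg'mem⟩ := by
    have : (⟨g', hg'mem⟩ : ↥(simU n F q)) = ⟨g, hg⟩ * ⟨scalGL n d⁻¹, scalGL_mem_simU hF _⟩ := rfl
    rw [this, map_mul, PhiU_scalGL hF, mul_one]
  have hg'B : (⟨g', hg'mem⟩ : ↥(simU n F q)) = ⟨B, hBmem⟩ * (mapSimU n q τ ⟨B, hBmem⟩)⁻¹ := by
    apply eq_mul_inv_of_mul_eq
    exact Subtype.ext hB
  have h2 : fieldUHom n F q τ * (PhiU n F q ⟨B, hBmem⟩)⁻¹ =
      PhiU n F q (mapSimU n q τ ⟨B, hBmem⟩)⁻¹ * fieldUHom n F q τ := by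
    rw [← map_inv, fieldU_PhiU, map_inv]
  rw [mul_assoc (PhiU n F q ⟨B, hBmem⟩), h2, hPg, hg'B, map_mul, mul_assoc]

theorem S2711_aux (hn : 3 ≤ n) (hs : ¬ (n = 3 ∧ q = 2)) (x δ : MulAut (Cfsg.PSU n F q))
    (hx : Cfsg.IsFieldAutClassPSU x) {r : ℕ} (hr : r.Prime) (hxr : orderOf x = r)
    (hδ : δ ∈ Cfsg.inndiagPSU n F q) :
    orderOf (δ * x) = r ↔ Cfsg.IsConjUnder (Cfsg.inndiagPSU n F q) x (δ * x) := by
  rw [inndiagU_eq_range hF (by omega)] at hδ ⊢
  have hN : ((PhiU n F q).range).Normal := PhiU_range_normal hF hn hs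
  constructor
  · intro ho
    have hpow : (δ * x) ^ r = 1 := by rw [← ho]; exact pow_orderOf_eq_one _
    obtain ⟨α, φ, τ, hτne, hτodd, hφ, hαx⟩ := hx
    have hφ' : φ = fieldUHom n F q τ := (isFieldAutU_iff τ φ).mp hφ
    have hx₀ : α * x * α⁻¹ = fieldUHom n F q τ := by rw [hαx, hφ']
    have hord : orderOf (τ : RingAut F) = r := by
      rw [← orderOf_fieldU hF hn, ← hx₀, Cfsg.Agent.Lib.Helper16.AF.orderOf_conj_eq, hxr]
    have hrodd : Odd r := by
      rw [← hord]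
      exact hτodd
    apply coset_conj_transport (PhiU n F q).range α x (fieldUHom n F q τ) δ r hx₀ hδ hpow
    rintro _ ⟨g, rfl⟩ hg
    obtain ⟨h, hh⟩ := field_conjU hF hn τ r hord hr.pos hrodd g hg
    exact ⟨PhiU n F q h, ⟨h, rfl⟩, hh⟩
  · rintro ⟨h, hh, he⟩
    rw [he, Cfsg.Agent.Lib.Helper16.AF.orderOf_conj_eq, hxr]

end fin

end Cfsg.Agent.Lib.Helper16.UF
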