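import Cfsg.Agent.Lib.Helper16.UF4

set_option autoImplicit false
set_option linter.unusedSectionVars false
set_option linter.unusedVariables false

namespace Cfsg.Agent.Lib.Helper16.UF

open Matrix Cfsg.Agent.Lib.Helper16.PU Cfsg.Agent.Lib.Helper16.PG Cfsg.Agent.Lib.Helper16.H9
  Cfsg.Agent.Lib.Helper16.UA

universe u v
variable {F : Type u} [Field F] {n : ℕ} {q q₀ : ℕ} {F₀ : Type v} [Field F₀]

/-- base change of invertible matrices along a field embedding. -/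
noncomputable def inclGLU (n : ℕ) (j : F₀ →+* F) : GL (Fin n) F₀ →* GL (Fin n) F :=
  Matrix.GeneralLinearGroup.map j

theorem inclGLU_val (j : F₀ →+* F) (h : GL (Fin n) F₀) :
    ((inclGLU n j h : GL (Fin n) F) : Matrix (Fin n) (Fin n) F) = (h : Matrix (Fin n) (Fin n) F₀).map ⇑j := rfl

theorem map_smul_matU (j : F₀ →+* F) (c : F₀) (M : Matrix (Fin n) (Fin n) F₀) :
    (c • M).map ⇑j = j c • M.map ⇑j := by
  ext a b
  simp

theorem map_one_matU (j : F₀ →+* F) : (1 : Matrix (Fin n) (Fin n) F₀).map ⇑j = 1 :=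
  Matrix.map_one j (map_zero j) (map_one j)

theorem mapGL_inclGLU (j : F₀ →+* F) (τ : RingAut F) (hj : ∀ y, τ (j y) = j y) (h : GL (Fin n) F₀) :
    mapGL n τ (inclGLU n j h) = inclGLU n j h := by
  apply Units.ext
  rw [mapGL_val, inclGLU_val]
  ext a b
  rw [Matrix.map_apply, Matrix.map_apply, hj]

section fin
variable [Fintype F] [Fintype F₀] (hF : Fintype.card F = q ^ 2) (hF₀ : Fintype.card F₀ = q₀ ^ 2)
  (j : F₀ →+* F) (hjq : ∀ y : F₀, j (y ^ q₀) = (j y) ^ q)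
include hF hF₀ hjq

theorem map_bar_incl (σ : F ≃+* F) (hσ : ∀ a, σ a = a ^ q) (σ₀ : F₀ ≃+* F₀) (hσ₀ : ∀ a, σ₀ a = a ^ q₀)
    (M : Matrix (Fin n) (Fin n) F₀) : (M.map ⇑σ₀).map ⇑j = (M.map ⇑j).map ⇑σ := by
  ext a b
  rw [Matrix.map_apply, Matrix.map_apply, Matrix.map_apply, Matrix.map_apply, hσ₀, hσ, hjq]

theorem inclGLU_mem (h : GL (Fin n) F₀) (hh : h ∈ Cfsg.GU n F₀ q₀) : inclGLU n j h ∈ Cfsg.GU n F q := by
  obtain ⟨σ, hσ⟩ := exists_bar hF
  obtain ⟨σ₀, hσ₀⟩ := exists_bar hF₀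
  rw [mem_GU_iff_mat σ hσ]
  have h1 := (mem_GU_iff_mat σ₀ hσ₀ h).mp hh
  have h2 := congrArg (fun M : Matrix (Fin n) (Fin n) F₀ => M.map ⇑j) h1
  simp only [Matrix.map_mul, Matrix.transpose_map, map_one_matU] at h2
  rw [inclGLU_val, ← map_bar_incl hF hF₀ j hjq σ hσ σ₀ hσ₀]
  exact h2

/-- the embedding of the unitary group over the subfield. -/
noncomputable def inclGU : ↥(Cfsg.GU n F₀ q₀) →* ↥(simU n F q) where
  toFun H := ⟨inclGLU n j H.1, GU_le_simU (inclGLU_mem hF hF₀ j hjq H.1 H.2)⟩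
  map_one' := Subtype.ext (map_one _)
  map_mul' a b := Subtype.ext (map_mul _ _ _)

theorem inclGU_val (H : ↥(Cfsg.GU n F₀ q₀)) : (inclGU hF hF₀ j hjq H).1 = inclGLU n j H.1 := rfl

theorem inclGU_mem_GU (H : ↥(Cfsg.GU n F₀ q₀)) : (inclGU hF hF₀ j hjq H).1 ∈ Cfsg.GU n F q :=
  inclGLU_mem hF hF₀ j hjq H.1 H.2

/-- the automorphisms induced by the unitary group over the subfield. -/
noncomputable def LamU : ↥(Cfsg.GU n F₀ q₀) →* MulAut (Cfsg.PSU n F q) :=
  (PhiU n F q).comp (inclGU hF hF₀ j hjq)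

omit [Fintype F₀] hF₀ j hjq in
theorem mem_comap_centralizer_fieldU (hn : 3 ≤ n) (τ : RingAut F) (X : ↥(simU n F q)) :
    X ∈ (Subgroup.centralizer {fieldUHom n F q τ}).comap (PhiU n F q) ↔
      ∃ c : Fˣ, ((X.1 : GL (Fin n) F) : Matrix (Fin n) (Fin n) F).map ⇑τ =
        (c : F) • ((X.1 : GL (Fin n) F) : Matrix (Fin n) (Fin n) F) := by
  rw [Subgroup.mem_comap, Subgroup.mem_centralizer_iff]
  have key : PhiU n F q (mapSimU n q τ X) = PhiU n F q X ↔ ∃ c : Fˣ,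
      ((X.1 : GL (Fin n) F) : Matrix (Fin n) (Fin n) F).map ⇑τ =
        (c : F) • ((X.1 : GL (Fin n) F) : Matrix (Fin n) (Fin n) F) := by
    rw [PhiU_eq_iff hF hn]
    rfl
  constructor
  · intro h
    have h1 := h _ (Set.mem_singleton _)
    rw [fieldU_PhiU, mul_left_inj] at h1
    exact key.mp h1
  · intro h y hy
    rw [Set.mem_singleton_iff] at hy
    subst hy
    rw [fieldU_PhiU, mul_left_inj]
    exact key.mpr h

/-- the similitudes commuting with a field automorphism modulo scalars. -/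
theorem comap_centralizer_fieldU (hn : 3 ≤ n) (τ : RingAut F)
    (hj : ∀ x, (∃ y, j y = x) ↔ τ x = x) (X : ↥(simU n F q)) :
    X ∈ (Subgroup.centralizer {fieldUHom n F q τ}).comap (PhiU n F q) ↔
      ∃ (e : Fˣ) (H : ↥(Cfsg.GU n F₀ q₀)),
        X = ⟨scalGL n e, scalGL_mem_simU hF e⟩ * inclGU hF hF₀ j hjq H := by
  classical
  obtain ⟨σ, hσ⟩ := exists_bar hF
  obtain ⟨σ₀, hσ₀⟩ := exists_bar hF₀
  have hn1 : 1 ≤ n := by omega
  have hjfix : ∀ y, τ (j y) = j y := fun y => (hj _).mp ⟨y, rfl⟩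
  rw [mem_comap_centralizer_fieldU hF hn]
  constructor
  · rintro ⟨c, hg⟩
    set gm : Matrix (Fin n) (Fin n) F := ((X.1 : GL (Fin n) F) : Matrix (Fin n) (Fin n) F) with hgm
    have hgdet : gm.det ≠ 0 := by
      have h1 : IsUnit gm.det := (Matrix.isUnit_iff_isUnit_det _).mp X.1.isUnit
      exact h1.ne_zero
    have hne : ∃ a b, gm a b ≠ 0 := by
      by_contra hcon
      push Not at hcon
      have : gm = 0 := by ext a b; exact hcon a b
      rw [this] at hgdet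
      have : Nonempty (Fin n) := ⟨⟨0, by omega⟩⟩
      exact hgdet Matrix.det_zero
    obtain ⟨a₀, b₀, he⟩ := hne
    set e := gm a₀ b₀ with hedef
    have hc0 : (c : F) ≠ 0 := c.ne_zero
    have hτe : τ e = c * e := by
      have := congrFun (congrFun hg a₀) b₀
      simpa using this
    have hfix : ∀ a b, ∃ y : F₀, j y = e⁻¹ * gm a b := by
      intro a b
      rw [hj, map_mul, map_inv₀, hτe]
      have := congrFun (congrFun hg a) b
      simp only [Matrix.map_apply, Matrix.smul_apply, smul_eq_mul] at this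
      rw [this]
      field_simp
    choose H₀ hH₀ using hfix
    set Hm : Matrix (Fin n) (Fin n) F₀ := Matrix.of H₀ with hHm
    have hHmap : Hm.map ⇑j = e⁻¹ • gm := by
      ext a b
      rw [Matrix.map_apply, Matrix.smul_apply, smul_eq_mul, ← hH₀ a b]
      rfl
    -- the multiplier
    obtain ⟨ν, hν⟩ := (mem_simU_iff_mat σ hσ X.1).mp X.2
    rw [← hgm] at hν
    set ν' : F := e⁻¹ * σ e⁻¹ * (ν : F) with hν'
    have hν'0 : ν' ≠ 0 := mul_ne_zero (mul_ne_zero (inv_ne_zero he)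
      ((map_ne_zero σ).mpr (inv_ne_zero he))) ν.ne_zero
    have hsm : (e⁻¹ • gm).map ⇑σ = σ e⁻¹ • gm.map ⇑σ := by
      ext a b
      simp
    set M₀ : Matrix (Fin n) (Fin n) F₀ := Hmᵀ * Hm.map ⇑σ₀ with hM₀
    have hM₀map : M₀.map ⇑j = ν' • 1 := by
      rw [hM₀, Matrix.map_mul, Matrix.transpose_map, map_bar_incl hF hF₀ j hjq σ hσ σ₀ hσ₀, hHmap, hsm,
        Matrix.transpose_smul, Matrix.smul_mul, Matrix.mul_smul, hν, smul_smul, smul_smul, hν']
    set i₀ : Fin n := ⟨0, by omega⟩ with hi₀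
    set c₀ : F₀ := M₀ i₀ i₀ with hc₀
    have hjc₀ : j c₀ = ν' := by
      have := congrFun (congrFun hM₀map i₀) i₀
      rw [Matrix.map_apply, Matrix.smul_apply, Matrix.one_apply_eq, smul_eq_mul, mul_one] at this
      exact this
    have hc₀0 : c₀ ≠ 0 := by
      intro h0
      rw [h0, map_zero] at hjc₀
      exact hν'0 hjc₀.symm
    have hM₀eq : M₀ = c₀ • 1 := by
      ext a b
      apply j.injective
      have h1 := congrFun (congrFun hM₀map a) b
      rw [Matrix.map_apply] at h1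
      rw [h1, Matrix.smul_apply, Matrix.smul_apply, smul_eq_mul, smul_eq_mul, map_mul, hjc₀]
      congr 1
      by_cases hab : a = b
      · rw [hab, Matrix.one_apply_eq, Matrix.one_apply_eq, map_one]
      · rw [Matrix.one_apply_ne hab, Matrix.one_apply_ne hab, map_zero]
    have hc₀fix : σ₀ c₀ = c₀ := simU_mult_fixed hF₀ σ₀ hσ₀ hn1 Hm c₀ hM₀eq
    obtain ⟨e₁, he₁0, he₁⟩ := exists_norm' hF₀ σ₀ hσ₀ c₀ hc₀0 hc₀fix
    set H₁ : Matrix (Fin n) (Fin n) F₀ := e₁⁻¹ • Hm with hH₁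
    have hsm₀ : (e₁⁻¹ • Hm).map ⇑σ₀ = σ₀ e₁⁻¹ • Hm.map ⇑σ₀ := by
      ext a b
      simp
    have hH₁U : H₁ᵀ * H₁.map ⇑σ₀ = 1 := by
      rw [hH₁, hsm₀, Matrix.transpose_smul, Matrix.smul_mul, Matrix.mul_smul, ← hM₀, hM₀eq, smul_smul, smul_smul,
        ← he₁, map_inv₀]
      have hσe₁ : σ₀ e₁ ≠ 0 := (map_ne_zero σ₀).mpr he₁0
      have : e₁⁻¹ * (σ₀ e₁)⁻¹ * (e₁ * σ₀ e₁) = 1 := by field_simp
      rw [this, one_smul]
    have hH₁det : H₁.det ≠ 0 := by
      intro h0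
      have := congrArg Matrix.det hH₁U
      rw [Matrix.det_mul, Matrix.det_transpose, h0, zero_mul, Matrix.det_one] at this
      exact zero_ne_one this
    set Hg : GL (Fin n) F₀ := Matrix.GeneralLinearGroup.mkOfDetNeZero H₁ hH₁det with hHg
    have hHgval : (Hg : Matrix (Fin n) (Fin n) F₀) = H₁ := rfl
    have hHmem : Hg ∈ Cfsg.GU n F₀ q₀ := by
      rw [mem_GU_iff_mat σ₀ hσ₀, hHgval]
      exact hH₁U
    have hee : e * j e₁ ≠ 0 := mul_ne_zero he ((map_ne_zero j).mpr he₁0)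
    refine ⟨Units.mk0 (e * j e₁) hee, ⟨Hg, hHmem⟩, ?_⟩
    apply Subtype.ext
    apply Units.ext
    show gm = ((scalGL n (Units.mk0 (e * j e₁) hee) * inclGLU n j Hg : GL (Fin n) F) :
      Matrix (Fin n) (Fin n) F)
    rw [Units.val_mul, scalGL_val, inclGLU_val, hHgval, hH₁, map_smul_matU, hHmap, Matrix.smul_mul,
      Matrix.one_mul, smul_smul, smul_smul, Units.val_mk0, map_inv₀]
    have hje₁ : j e₁ ≠ 0 := (map_ne_zero j).mpr he₁0
    have : e * j e₁ * (j e₁)⁻¹ * e⁻¹ = 1 := by field_simp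
    rw [this, one_smul]
  · rintro ⟨e, H, rfl⟩
    refine ⟨uσ τ e / e, ?_⟩
    have h1 : mapGL n τ (scalGL n e * inclGLU n j H.1) =
        scalGL n (uσ τ e / e) * (scalGL n e * inclGLU n j H.1) := by
      rw [map_mul, mapGL_scalGL, mapGL_inclGLU j τ hjfix, ← mul_assoc, ← scalGL_mul, div_mul_cancel]
    have h2 := congrArg (fun x : GL (Fin n) F => (x : Matrix (Fin n) (Fin n) F)) h1
    simp only [mapGL_val] at h2
    rw [Units.val_mul (scalGL n (uσ τ e / e)), scalGL_val, Matrix.smul_mul, Matrix.one_mul] at h2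
    exact h2

end fin

end Cfsg.Agent.Lib.Helper16.UF
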