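import Cfsg.Agent.Lib.Helper16.UF5

set_option autoImplicit false
set_option linter.unusedSectionVars false
set_option linter.unusedVariables false

namespace Cfsg.Agent.Lib.Helper16.UF

open Matrix Cfsg.Agent.Lib.Helper16.PU Cfsg.Agent.Lib.Helper16.PG Cfsg.Agent.Lib.Helper16.H9
  Cfsg.Agent.Lib.Helper16.UA

universe u v
variable {F : Type u} [Field F] {n : ℕ} {q q₀ : ℕ} {F₀ : Type v} [Field F₀]

section fin
variable [Fintype F] [Fintype F₀] (hF : Fintype.card F = q ^ 2) (hF₀ : Fintype.card F₀ = q₀ ^ 2)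
  (j : F₀ →+* F) (hjq : ∀ y : F₀, j (y ^ q₀) = (j y) ^ q)
include hF hF₀ hjq

theorem LamU_range (hn : 3 ≤ n) (τ : RingAut F) (hj : ∀ x, (∃ y, j y = x) ↔ τ x = x) :
    (LamU (n := n) hF hF₀ j hjq).range =
      (PhiU n F q).range ⊓ Subgroup.centralizer {fieldUHom n F q τ} := by
  ext y
  constructor
  · rintro ⟨H, rfl⟩
    refine ⟨⟨inclGU hF hF₀ j hjq H, rfl⟩, ?_⟩
    have : inclGU hF hF₀ j hjq H ∈ (Subgroup.centralizer {fieldUHom n F q τ}).comap (PhiU n F q) := by
      rw [comap_centralizer_fieldU hF hF₀ j hjq hn τ hj]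
      refine ⟨1, H, ?_⟩
      have : (⟨scalGL n (1 : Fˣ), scalGL_mem_simU hF 1⟩ : ↥(simU n F q)) = 1 := Subtype.ext scalGL_one
      rw [this, one_mul]
    exact this
  · rintro ⟨⟨g, rfl⟩, hc⟩
    have hg : g ∈ (Subgroup.centralizer {fieldUHom n F q τ}).comap (PhiU n F q) := hc
    rw [comap_centralizer_fieldU hF hF₀ j hjq hn τ hj] at hg
    obtain ⟨e, H, rfl⟩ := hg
    refine ⟨H, ?_⟩
    rw [map_mul, PhiU_scalGL hF, one_mul]
    rfl

theorem LamU_ker (hn : 3 ≤ n) :
    (LamU (n := n) hF hF₀ j hjq).ker = (Cfsg.Geo.scalars (Fin n) F₀).subgroupOf (Cfsg.GU n F₀ q₀) := by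
  ext H
  rw [MonoidHom.mem_ker, Subgroup.mem_subgroupOf, Cfsg.Geo.mem_scalars_iff]
  unfold LamU
  rw [MonoidHom.comp_apply, PhiU_eq_one_iff' hF hn]
  constructor
  · rintro ⟨c, hc⟩
    have hval : (H.1 : Matrix (Fin n) (Fin n) F₀).map ⇑j = (c : F) • 1 := by
      have := congrArg (fun x : GL (Fin n) F => (x : Matrix (Fin n) (Fin n) F)) hc
      simp only [inclGU_val, inclGLU_val, scalGL_val] at this
      exact this
    set k₀ : Fin n := ⟨0, by omega⟩ with hk₀
    set c₀ : F₀ := (H.1 : Matrix (Fin n) (Fin n) F₀) k₀ k₀ with hc₀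
    have hjc₀ : j c₀ = c := by
      have := congrFun (congrFun hval k₀) k₀
      rw [Matrix.map_apply, Matrix.smul_apply, Matrix.one_apply_eq, smul_eq_mul, mul_one] at this
      exact this
    have hc₀0 : c₀ ≠ 0 := by
      intro h0
      rw [h0, map_zero] at hjc₀
      exact c.ne_zero hjc₀.symm
    refine ⟨Units.mk0 c₀ hc₀0, ?_⟩
    ext a b
    apply j.injective
    have := congrFun (congrFun hval a) b
    rw [Matrix.map_apply] at this
    rw [this, Units.val_mk0, Matrix.smul_apply, Matrix.smul_apply, smul_eq_mul, smul_eq_mul, map_mul, hjc₀]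
    congr 1
    by_cases hab : a = b
    · rw [hab, Matrix.one_apply_eq, Matrix.one_apply_eq, map_one]
    · rw [Matrix.one_apply_ne hab, Matrix.one_apply_ne hab, map_zero]
  · rintro ⟨c, hc⟩
    refine ⟨Units.map j.toMonoidHom c, ?_⟩
    apply Units.ext
    rw [inclGU_val, inclGLU_val, scalGL_val, hc]
    ext a b
    rw [Matrix.map_apply, Matrix.smul_apply, Matrix.smul_apply, smul_eq_mul, smul_eq_mul, map_mul]
    congr 1
    by_cases hab : a = b
    · rw [hab, Matrix.one_apply_eq, Matrix.one_apply_eq, map_one]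
    · rw [Matrix.one_apply_ne hab, Matrix.one_apply_ne hab, map_zero]

/-- the centraliser of a field automorphism in the inner-diagonal group. -/
noncomputable def centFieldEquivU (hn : 3 ≤ n) (τ : RingAut F) (hj : ∀ x, (∃ y, j y = x) ↔ τ x = x) :
    ↥((PhiU n F q).range ⊓ Subgroup.centralizer {fieldUHom n F q τ}) ≃* Cfsg.PGU n F₀ q₀ :=
  ((MulEquiv.subgroupCongr (LamU_range hF hF₀ j hjq hn τ hj).symm).trans
    (QuotientGroup.quotientKerEquivRange (LamU (n := n) hF hF₀ j hjq)).symm).trans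
    (QuotientGroup.quotientMulEquivOfEq (LamU_ker hF hF₀ j hjq hn))

end fin

end Cfsg.Agent.Lib.Helper16.UF
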