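import Cfsg.Agent.Lib.Helper16.UF6
import Cfsg.Agent.Lib.Helper16.SC3

set_option autoImplicit false
set_option linter.unusedSectionVars false
set_option linter.unusedVariables false

namespace Cfsg.Agent.Lib.Helper16.UF

open Matrix Cfsg.Agent.Lib.Helper16.PU Cfsg.Agent.Lib.Helper16.PG Cfsg.Agent.Lib.Helper16.H9
  Cfsg.Agent.Lib.Helper16.UA

universe u v
variable {F : Type u} [Field F] {n : ℕ} {q q₀ : ℕ} {F₀ : Type v} [Field F₀]

/-- the group of elements of norm one. -/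
def normOne (F : Type u) [Field F] (q : ℕ) : Subgroup Fˣ := (powMonoidHom (q + 1) : Fˣ →* Fˣ).ker

theorem mem_normOne_iff (x : Fˣ) : x ∈ normOne F q ↔ (x : F) ^ (q + 1) = 1 := by
  unfold normOne
  rw [MonoidHom.mem_ker, powMonoidHom_apply, Units.ext_iff, Units.val_pow_eq_pow_val, Units.val_one]

theorem card_normOne [Fintype F] (hF : Fintype.card F = q ^ 2) : Nat.card ↥(normOne F q) = q + 1 := by
  unfold normOne
  rw [IsCyclic.card_powMonoidHom_ker, Nat.card_units, Nat.card_eq_fintype_card, hF]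
  apply Nat.gcd_eq_right
  have := Nat.sq_sub_sq q 1
  rw [one_pow] at this
  rw [this]
  exact dvd_mul_right _ _

/-- inner-diagonal automorphisms from the general unitary group. -/
noncomputable def PhiG (n : ℕ) (F : Type u) [Field F] (q : ℕ) : ↥(Cfsg.GU n F q) →* MulAut (Cfsg.PSU n F q) :=
  (PhiU n F q).comp (Subgroup.inclusion GU_le_simU)

theorem PhiG_apply (g : ↥(Cfsg.GU n F q)) : PhiG n F q g = PhiU n F q ⟨g.1, GU_le_simU g.2⟩ := rfl

theorem prod_update_one (i₀ : Fin n) (y : F) : ∏ i, Function.update (fun _ : Fin n => (1 : F)) i₀ y i = y := by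
  rw [Finset.prod_update_of_mem (Finset.mem_univ i₀)]
  simp

section fin
variable [Fintype F] (hF : Fintype.card F = q ^ 2)
include hF

theorem PhiG_range (hn : 1 ≤ n) : (PhiG n F q).range = (PhiU n F q).range := by
  ext x
  constructor
  · rintro ⟨g, rfl⟩
    exact ⟨_, rfl⟩
  · rintro ⟨X, rfl⟩
    obtain ⟨g, hg, hX⟩ := PhiU_eq_GU hF X hn
    exact ⟨⟨g.1, hg⟩, hX.symm⟩

theorem det_mem_normOne (g : ↥(Cfsg.GU n F q)) :
    Matrix.GeneralLinearGroup.det (g : GL (Fin n) F) ∈ normOne F q := by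
  obtain ⟨σ, hσ⟩ := exists_bar hF
  have hq2 := q_ge_two' hF
  rw [mem_normOne_iff, Matrix.GeneralLinearGroup.val_det_apply]
  exact Cfsg.Agent.S0783.det_pow_of_mem (σ : F →+* F) hσ (by omega) g.1 g.2

/-- the determinant on the general unitary group. -/
noncomputable def detG : ↥(Cfsg.GU n F q) →* ↥(normOne F q) :=
  ((Matrix.GeneralLinearGroup.det : GL (Fin n) F →* Fˣ).comp (Cfsg.GU n F q).subtype).codRestrict (normOne F q)
    (fun g => det_mem_normOne hF g)

theorem detG_val (g : ↥(Cfsg.GU n F q)) :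
    (((detG hF g : ↥(normOne F q)) : Fˣ) : F) = ((g : GL (Fin n) F) : Matrix (Fin n) (Fin n) F).det := rfl

theorem detG_surjective (hn : 1 ≤ n) : Function.Surjective (detG (n := n) hF) := by
  classical
  rintro ⟨y, hy⟩
  rw [mem_normOne_iff] at hy
  set i₀ : Fin n := ⟨0, hn⟩
  have hw : ∀ i, Function.update (fun _ : Fin n => (1 : F)) i₀ (y : F) i ^ (q + 1) = 1 := by
    intro i
    by_cases hi : i = i₀
    · rw [hi, Function.update_self]
      exact hy
    · rw [Function.update_of_ne hi, one_pow]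
  refine ⟨Cfsg.Agent.S0783.diagGU _ hw, ?_⟩
  apply Subtype.ext
  apply Units.ext
  rw [detG_val, Cfsg.Agent.S0783.diagGU_det, prod_update_one]

/-- scalar matrices of norm one are unitary. -/
theorem scalGL_mem_GU (σ : F ≃+* F) (hσ : ∀ a, σ a = a ^ q) (c : Fˣ) (hc : (c : F) ^ (q + 1) = 1) :
    scalGL n c ∈ Cfsg.GU n F q := by
  rw [mem_GU_iff_mat σ hσ, scalGL_val, map_smul_one, Matrix.transpose_smul, Matrix.transpose_one,
    Matrix.smul_mul, Matrix.one_mul, smul_smul, hσ, ← pow_succ', hc, one_smul]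

/-- a scalar multiple of a unitary matrix which is unitary has a scalar of norm one. -/
theorem norm_one_of_smul_mem (hn : 1 ≤ n) (σ : F ≃+* F) (hσ : ∀ a, σ a = a ^ q) (c : F)
    (A B : GL (Fin n) F) (hA : A ∈ Cfsg.GU n F q) (hB : B ∈ Cfsg.GU n F q)
    (h : (A : Matrix (Fin n) (Fin n) F) = c • (B : Matrix (Fin n) (Fin n) F)) : c ^ (q + 1) = 1 := by
  have h1 := (mem_GU_iff_mat σ hσ A).mp hA
  have h2 := (mem_GU_iff_mat σ hσ B).mp hB
  have hsm : (c • (B : Matrix (Fin n) (Fin n) F)).map ⇑σ = σ c • (B : Matrix (Fin n) (Fin n) F).map ⇑σ := by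
    ext a b
    simp
  rw [h, hsm, Matrix.transpose_smul, Matrix.smul_mul, Matrix.mul_smul, h2, smul_smul] at h1
  have h3 := congrFun (congrFun h1 ⟨0, hn⟩) ⟨0, hn⟩
  rw [Matrix.smul_apply, Matrix.one_apply_eq, smul_eq_mul, mul_one, hσ, ← pow_succ'] at h3
  exact h3

theorem comap_Inn_eqU (hn : 3 ≤ n) :
    (Cfsg.Inn (Cfsg.PSU n F q)).comap (PhiG n F q) =
      ((powMonoidHom n : ↥(normOne F q) →* ↥(normOne F q)).range).comap (detG hF) := by
  obtain ⟨σ, hσ⟩ := exists_bar hF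
  have hn1 : 1 ≤ n := by omega
  ext g
  rw [Subgroup.mem_comap, Subgroup.mem_comap]
  constructor
  · rintro ⟨k, hk⟩
    obtain ⟨s, rfl⟩ := mkU_surjective k
    have hk' : PhiU n F q ⟨suGL s, suGL_mem s⟩ = PhiU n F q ⟨g.1, GU_le_simU g.2⟩ := by
      rw [← conj_mkU_eq_PhiU]
      exact hk
    rw [PhiU_eq_iff hF hn] at hk'
    obtain ⟨c, hc⟩ := hk'
    have hc' : ((suGL s : GL (Fin n) F) : Matrix (Fin n) (Fin n) F) =
        (c : F) • ((g : GL (Fin n) F) : Matrix (Fin n) (Fin n) F) := hc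
    have hcn : (c : F) ^ (q + 1) = 1 := norm_one_of_smul_mem hF hn1 σ hσ c _ _ (suGL_mem_GU s) g.2 hc'
    have hcinv : ((c⁻¹ : Fˣ) : F) ^ (q + 1) = 1 := by
      rw [Units.val_inv_eq_inv_val, inv_pow, hcn, inv_one]
    refine ⟨⟨c⁻¹, (mem_normOne_iff _).mpr hcinv⟩, ?_⟩
    apply Subtype.ext
    apply Units.ext
    rw [powMonoidHom_apply, Subgroup.coe_pow, Units.val_pow_eq_pow_val, detG_val]
    have hdet := congrArg Matrix.det hc'
    rw [Matrix.det_smul, Fintype.card_fin] at hdet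
    have hs1 : ((suGL s : GL (Fin n) F) : Matrix (Fin n) (Fin n) F).det = 1 := s.1.2
    rw [hs1] at hdet
    rw [Units.val_inv_eq_inv_val, inv_pow]
    have hc0 : (c : F) ^ n ≠ 0 := pow_ne_zero _ c.ne_zero
    rw [eq_comm, ← mul_right_inj' hc0, mul_inv_cancel₀ hc0]
    exact hdet.symm
  · rintro ⟨u, hu⟩
    have hu' : ((u : Fˣ) : F) ^ n = ((g : GL (Fin n) F) : Matrix (Fin n) (Fin n) F).det := by
      have := congrArg (fun x : ↥(normOne F q) => ((x : Fˣ) : F)) hu
      simp only [powMonoidHom_apply, Subgroup.coe_pow, Units.val_pow_eq_pow_val, detG_val] at this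
      exact this
    have hun : ((u : Fˣ) : F) ^ (q + 1) = 1 := (mem_normOne_iff _).mp u.2
    have huinv : (((u : Fˣ)⁻¹ : Fˣ) : F) ^ (q + 1) = 1 := by
      rw [Units.val_inv_eq_inv_val, inv_pow, hun, inv_one]
    set s' : GL (Fin n) F := scalGL n (u : Fˣ)⁻¹ * g.1 with hs'
    have hs'mem : s' ∈ Cfsg.GU n F q := mul_mem (scalGL_mem_GU hF σ hσ _ huinv) g.2
    have hs'val : (s' : Matrix (Fin n) (Fin n) F) =
        ((u : Fˣ) : F)⁻¹ • ((g : GL (Fin n) F) : Matrix (Fin n) (Fin n) F) := by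
      rw [hs', Units.val_mul, scalGL_val, Matrix.smul_mul, Matrix.one_mul, Units.val_inv_eq_inv_val]
    have hs'det : (s' : Matrix (Fin n) (Fin n) F).det = 1 := by
      rw [hs'val, Matrix.det_smul, Fintype.card_fin, ← hu', inv_pow]
      exact inv_mul_cancel₀ (pow_ne_zero _ (Units.ne_zero _))
    set s : ↥(Cfsg.SU n F q) := ⟨⟨(s' : Matrix (Fin n) (Fin n) F), hs'det⟩, fun a b => hs'mem a b⟩ with hs
    refine ⟨mkU n F q s, ?_⟩
    show MulAut.conj (mkU n F q s) = PhiU n F q ⟨g.1, GU_le_simU g.2⟩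
    rw [conj_mkU_eq_PhiU]
    have h1 : (⟨suGL s, suGL_mem s⟩ : ↥(simU n F q)) =
        ⟨scalGL n (u : Fˣ)⁻¹, scalGL_mem_simU hF _⟩ * ⟨g.1, GU_le_simU g.2⟩ := by
      apply Subtype.ext
      apply Units.ext
      rfl
    rw [h1, map_mul, PhiU_scalGL hF, one_mul]

end fin

end Cfsg.Agent.Lib.Helper16.UF
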