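import Cfsg.Agent.Lib.Helper16.UF7

set_option autoImplicit false
set_option linter.unusedSectionVars false
set_option linter.unusedVariables false

namespace Cfsg.Agent.Lib.Helper16.UF

open Matrix Cfsg.Agent.Lib.Helper16.PU Cfsg.Agent.Lib.Helper16.PG Cfsg.Agent.Lib.Helper16.H9
  Cfsg.Agent.Lib.Helper16.UA

universe u v
variable {F : Type u} [Field F] {n : ℕ} {q q₀ : ℕ} {F₀ : Type v} [Field F₀]

theorem jU_mem (j : F₀ →+* F) (hjq : ∀ y : F₀, j (y ^ q₀) = (j y) ^ q) (y : ↥(normOne F₀ q₀)) :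
    Units.map j.toMonoidHom (y : F₀ˣ) ∈ normOne F q := by
  rw [mem_normOne_iff]
  have hy := (mem_normOne_iff _).mp y.2
  show (j ((y : F₀ˣ) : F₀)) ^ (q + 1) = 1
  rw [pow_succ, ← hjq, ← map_mul, ← pow_succ, hy, map_one]

/-- the embedding of the norm-one groups. -/
noncomputable def jU (j : F₀ →+* F) (hjq : ∀ y : F₀, j (y ^ q₀) = (j y) ^ q) :
    ↥(normOne F₀ q₀) →* ↥(normOne F q) :=
  ((Units.map j.toMonoidHom).comp (normOne F₀ q₀).subtype).codRestrict (normOne F q) (fun y => jU_mem j hjq y)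

theorem jU_val (j : F₀ →+* F) (hjq : ∀ y : F₀, j (y ^ q₀) = (j y) ^ q) (y : ↥(normOne F₀ q₀)) :
    (((jU j hjq y : ↥(normOne F q)) : Fˣ) : F) = j ((y : F₀ˣ) : F₀) := rfl

theorem jU_injective (j : F₀ →+* F) (hjq : ∀ y : F₀, j (y ^ q₀) = (j y) ^ q) :
    Function.Injective (jU (q := q) (q₀ := q₀) j hjq) := by
  intro a b hab
  apply Subtype.ext
  apply Units.ext
  apply j.injective
  have := congrArg (fun x : ↥(normOne F q) => ((x : Fˣ) : F)) hab
  exact this

section fin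
variable [Fintype F] [Fintype F₀] (hF : Fintype.card F = q ^ 2) (hF₀ : Fintype.card F₀ = q₀ ^ 2)
  (j : F₀ →+* F) (hjq : ∀ y : F₀, j (y ^ q₀) = (j y) ^ q)
include hF hF₀ hjq

theorem index_jU_range : (jU (q := q) (q₀ := q₀) j hjq).range.index = (q + 1) / (q₀ + 1) := by
  have h1 : Nat.card (jU (q := q) (q₀ := q₀) j hjq).range = q₀ + 1 := by
    rw [← card_normOne hF₀]
    exact (Nat.card_congr (MonoidHom.ofInjective (jU_injective j hjq)).toEquiv).symm
  have h2 := Subgroup.card_mul_index (jU (q := q) (q₀ := q₀) j hjq).range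
  rw [h1, card_normOne hF] at h2
  exact (Nat.div_eq_of_eq_mul_right (by omega) h2.symm).symm

theorem sup_map_det_comap (hn : 3 ≤ n) (τ : RingAut F) (hj : ∀ x, (∃ y, j y = x) ↔ τ x = x) :
    (powMonoidHom n : ↥(normOne F q) →* ↥(normOne F q)).range ⊔
      ((Subgroup.centralizer {fieldUHom n F q τ}).comap (PhiG n F q)).map (detG hF) =
    (powMonoidHom n : ↥(normOne F q) →* ↥(normOne F q)).range ⊔ (jU (q := q) (q₀ := q₀) j hjq).range := by
  classical
  obtain ⟨σ, hσ⟩ := exists_bar hF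
  have hn1 : 1 ≤ n := by omega
  apply le_antisymm
  · apply sup_le le_sup_left
    rintro _ ⟨g, hg, rfl⟩
    have hg' : (⟨g.1, GU_le_simU g.2⟩ : ↥(simU n F q)) ∈
        (Subgroup.centralizer {fieldUHom n F q τ}).comap (PhiU n F q) := hg
    rw [comap_centralizer_fieldU hF hF₀ j hjq hn τ hj] at hg'
    obtain ⟨e, H, hgH⟩ := hg'
    have hval : ((g : GL (Fin n) F) : Matrix (Fin n) (Fin n) F) =
        (e : F) • (((inclGLU n j H.1 : GL (Fin n) F)) : Matrix (Fin n) (Fin n) F) := by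
      have := congrArg (fun x : ↥(simU n F q) => ((x.1 : GL (Fin n) F) : Matrix (Fin n) (Fin n) F)) hgH
      simp only [Subgroup.coe_mul, Units.val_mul, scalGL_val, inclGU_val, Matrix.smul_mul, Matrix.one_mul] at this
      exact this
    have hen : (e : F) ^ (q + 1) = 1 :=
      norm_one_of_smul_mem hF hn1 σ hσ e g.1 (inclGLU n j H.1) g.2 (inclGLU_mem hF hF₀ j hjq H.1 H.2) hval
    have hdH : Matrix.GeneralLinearGroup.det (H : GL (Fin n) F₀) ∈ normOne F₀ q₀ := det_mem_normOne hF₀ H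
    have hsplit : detG hF g = (powMonoidHom n : ↥(normOne F q) →* ↥(normOne F q)) ⟨e, (mem_normOne_iff e).mpr hen⟩ *
        jU j hjq ⟨_, hdH⟩ := by
      apply Subtype.ext
      apply Units.ext
      rw [detG_val, hval, Matrix.det_smul, Fintype.card_fin, inclGLU_val]
      show _ = (e : F) ^ n * j ((H : GL (Fin n) F₀) : Matrix (Fin n) (Fin n) F₀).det
      congr 1
      have := RingHom.map_det j ((H : GL (Fin n) F₀) : Matrix (Fin n) (Fin n) F₀)
      exact this.symm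
    rw [hsplit]
    exact Subgroup.mul_mem_sup ⟨_, rfl⟩ ⟨_, rfl⟩
  · apply sup_le le_sup_left
    refine le_trans ?_ le_sup_right
    rintro _ ⟨y, rfl⟩
    have hy := (mem_normOne_iff _).mp y.2
    set i₀ : Fin n := ⟨0, hn1⟩
    have hw : ∀ i, Function.update (fun _ : Fin n => (1 : F₀)) i₀ ((y : F₀ˣ) : F₀) i ^ (q₀ + 1) = 1 := by
      intro i
      by_cases hi : i = i₀
      · rw [hi, Function.update_self]
        exact hy
      · rw [Function.update_of_ne hi, one_pow]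
    set H : ↥(Cfsg.GU n F₀ q₀) := Cfsg.Agent.S0783.diagGU _ hw with hH
    set g : ↥(Cfsg.GU n F q) := ⟨inclGLU n j H.1, inclGLU_mem hF hF₀ j hjq H.1 H.2⟩ with hg
    refine ⟨g, ?_, ?_⟩
    · show (⟨g.1, GU_le_simU g.2⟩ : ↥(simU n F q)) ∈
        (Subgroup.centralizer {fieldUHom n F q τ}).comap (PhiU n F q)
      rw [comap_centralizer_fieldU hF hF₀ j hjq hn τ hj]
      refine ⟨1, H, ?_⟩
      have : (⟨scalGL n (1 : Fˣ), scalGL_mem_simU hF 1⟩ : ↥(simU n F q)) = 1 := Subtype.ext scalGL_one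
      rw [this, one_mul]
      rfl
    · apply Subtype.ext
      apply Units.ext
      rw [detG_val, jU_val]
      show ((H.1 : Matrix (Fin n) (Fin n) F₀).map ⇑j).det = _
      have h1 := RingHom.map_det j (H.1 : Matrix (Fin n) (Fin n) F₀)
      have h2 : (H.1 : Matrix (Fin n) (Fin n) F₀).det = ((y : F₀ˣ) : F₀) := by
        rw [hH, Cfsg.Agent.S0783.diagGU_det, prod_update_one]
      rw [← h2, h1]
      rfl

theorem Inn_le_range_PhiG : Cfsg.Inn (Cfsg.PSU n F q) ≤ (PhiG n F q).range := by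
  rintro _ ⟨k, rfl⟩
  obtain ⟨s, rfl⟩ := mkU_surjective k
  exact ⟨⟨suGL s, suGL_mem_GU s⟩, (conj_mkU_eq_PhiU s).symm⟩

theorem splitClassCount_fieldU (hn : 3 ≤ n) (τ : RingAut F) (hj : ∀ x, (∃ y, j y = x) ↔ τ x = x) :
    Cfsg.splitClassCount (PhiU n F q).range (Cfsg.Inn (Cfsg.PSU n F q)) (fieldUHom n F q τ) =
      Nat.gcd n ((q + 1) / (q₀ + 1)) := by
  have hn1 : 1 ≤ n := by omega
  rw [← PhiG_range hF hn1, Cfsg.Agent.Lib.Helper16.SC.splitClassCount_via_hom (PhiG n F q) (detG hF)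
    (detG_surjective hF hn1) ((powMonoidHom n : ↥(normOne F q) →* ↥(normOne F q)).range) _
    (Inn_le_range_PhiG hF hF₀ j hjq) (comap_Inn_eqU hF hn),
    sup_map_det_comap hF hF₀ j hjq hn τ hj, Cfsg.Agent.Lib.Helper16.SC.index_pow_sup,
    index_jU_range hF hF₀ j hjq]

end fin

end Cfsg.Agent.Lib.Helper16.UF
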