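import Mathlib
import Cfsg.Agent.Lib.Helper11.UNS.Defs
import Cfsg.Agent.Lib.Helper11.UNSK
import Cfsg.Agent.Lib.Helper11.UNSW7
import Cfsg.Agent.Lib.Helper9.UNSW1
import Cfsg.Agent.Lib.Helper13.UNSW2
import Cfsg.Agent.Lib.Helper20.UNSW5
import Cfsg.Agent.Lib.helper15.UNSW6
import Cfsg.Agent.Lib.helper3.UNSG1core
import Cfsg.Agent.Lib.helper4.UNSE0

/-!
Project UNS (S2316), row G5 (`uns_h2J`), verbatim vs `Helper11/UNS/Skel.lean.txt`.
-/

set_option autoImplicit false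

namespace Cfsg.Agent.Lib.Helper11.UNS

open Matrix Cfsg.Agent.Lib.helper14.SpBN Cfsg.Agent.Lib.helper3 Cfsg.Agent.Lib.helper14
  Cfsg.Agent.Lib.Helper5.UNI

universe u

variable {F : Type u} [Field F] {m : ℕ}

/-- G5. -/
theorem uns_h2J (hm : 0 < m) (J : Finset ℕ) (hJ : J ⊆ Finset.range m) :
    ∀ g ∈ subN (spBN (F := F) hm) (sigmaS m F '' (J : Set ℕ)),
      (∀ j ∈ J, ¬ Pp (spBN (F := F) hm) (sigmaS m F j) g) →
      ∀ j ∈ J, Pp (spBN (F := F) hm) (sigmaS m F j) (g * nJ F m J) := by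
  intro g hg hnot
  obtain ⟨π, hπ, hmono, hbp⟩ := unsg1_core hm J hJ (BP_tauS J) g hg
  have hneg : ∀ k : Fin m, k.val ∈ J → rk (π⁻¹ (pc k)) < rk (π⁻¹ (pa k)) := by
    intro k hk
    rcases rk_neg_or_pos k π with hpos | hneg
    · exfalso
      apply hnot k.val hk
      rw [sigmaS_eq k]
      exact Pp_of_pos hm k g hπ hmono hpos
    · exact hneg
  have hrevπ : IsRev J π⁻¹ := rev_of_simple J π⁻¹ (SwC_inv hπ) (BP_inv J hbp) hneg
  have hrevw : IsRev J (wJ m J) := wJ_isRev J (exists_rev J)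
  have hrevw' : IsRev J (wJ m J)⁻¹ := isRev_inv J hrevw
  have hmono2 : IsMono (g * nJ F m J).1 (π * wJ m J) := by
    have h := isMono_mul hmono (isMono_nJ F m J)
    have e : (g * nJ F m J).1 = g.1 * (nJ F m J).1 := rfl
    rw [e]
    exact h
  intro j hj
  have hjm : j < m := Finset.mem_range.1 (hJ hj)
  have hs : sigmaS m F j = sRef (⟨j, hjm⟩ : Fin m) := sigmaS_eq (F := F) (⟨j, hjm⟩ : Fin m)
  rw [hs]
  apply Pp_of_pos hm ⟨j, hjm⟩ (g * nJ F m J) (SwC_mul hπ (SwC_wJ m J)) hmono2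
  show rk ((π * wJ m J)⁻¹ (pa ⟨j, hjm⟩)) < rk ((π * wJ m J)⁻¹ (pc ⟨j, hjm⟩))
  rw [_root_.mul_inv_rev]
  apply rev_rev J hrevw' hrevπ
  · have := bfJ_pc J (⟨j, hjm⟩ : Fin m)
    rw [if_pos (show (⟨j, hjm⟩ : Fin m).val ∈ J from hj), add_zero] at this
    exact this.symm
  · rw [rk_pa, rk_pc]
    omega

end Cfsg.Agent.Lib.Helper11.UNS
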