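import Mathlib
import Cfsg.Prelude.Def_LieTypeDatum
import Cfsg.Prelude.Def_KGroupFacts
import Cfsg.Agent.Lib.Helper16.GF3
import Cfsg.Agent.Lib.Helper16.PU19
import Cfsg.Agent.Lib.Helper16.SC3

set_option autoImplicit false
set_option linter.unusedSectionVars false
set_option linter.unusedVariables false

namespace Cfsg.Agent.Lib.Helper16.US

open Matrix Cfsg.Agent.Lib.Helper16.PG Cfsg.Agent.Lib.Helper16.AP Cfsg.Agent.Lib.Helper16.PU
  Cfsg.Agent.Lib.Helper16.GF

universe u

section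
variable {n : ℕ} {F : Type u} [Field F] [Fintype F] {q : ℕ}

/-- the inner-diagonal automorphism induced by a unitary matrix. -/
noncomputable def PhiG (n : ℕ) (F : Type u) [Field F] (q : ℕ) :
    ↥(Cfsg.GU n F q) →* MulAut (Cfsg.PSU n F q) :=
  (PhiU n F q).comp (Subgroup.inclusion GU_le_simU)

theorem PhiG_apply (g : ↥(Cfsg.GU n F q)) : PhiG n F q g = PhiU n F q ⟨g.1, GU_le_simU g.2⟩ := rfl

theorem PhiG_range (hF : Fintype.card F = q ^ 2) (hn : 1 ≤ n) :
    (PhiG n F q).range = Cfsg.inndiagPSU n F q := by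
  rw [inndiagU_eq_range hF hn]
  obtain ⟨σ, hσ⟩ := exists_bar hF
  apply le_antisymm
  · rintro _ ⟨g, rfl⟩
    exact ⟨_, rfl⟩
  · rintro _ ⟨X, rfl⟩
    obtain ⟨ν, g, hg, hX⟩ := simU_factor hF σ hσ hn X.1 X.2
    have hgs : g ∈ simU n F q := GU_le_simU hg
    have hνs : scalG (Fin n) ν ∈ simU n F q := scalG_mem_simU σ hσ ν
    refine ⟨⟨g, hg⟩, ?_⟩
    have h1 : X = ⟨scalG (Fin n) ν, hνs⟩ * ⟨g, hgs⟩ := Subtype.ext hX
    rw [h1, map_mul, PhiU_scal, one_mul]
    rfl

/-- the determinant on the unitary group, with values in the norm-one group. -/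
noncomputable def detU (hF : Fintype.card F = q ^ 2) (n : ℕ) :
    ↥(Cfsg.GU n F q) →* ↥((powMonoidHom (q + 1) : Fˣ →* Fˣ).ker) :=
  ((Matrix.GeneralLinearGroup.det : GL (Fin n) F →* Fˣ).comp (Cfsg.GU n F q).subtype).codRestrict _
    (fun g => by
      obtain ⟨σ, hσ⟩ := exists_bar hF
      exact det_GU_pow σ hσ g.1 g.2)

theorem detU_val (hF : Fintype.card F = q ^ 2) (g : ↥(Cfsg.GU n F q)) :
    ((detU hF n g : ↥((powMonoidHom (q + 1) : Fˣ →* Fˣ).ker)) : Fˣ) = Matrix.GeneralLinearGroup.det g.1 := rfl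

theorem detU_surjective (hF : Fintype.card F = q ^ 2) (hn : 1 ≤ n) : Function.Surjective (detU hF n) := by
  intro u
  obtain ⟨σ, hσ⟩ := exists_bar hF
  obtain ⟨g, hg, hgu⟩ := exists_GU_det hn σ hσ u.1 u.2
  exact ⟨⟨g, hg⟩, Subtype.ext hgu⟩

/-- a special unitary matrix as a unitary matrix. -/
noncomputable def suToGU (s : ↥(Cfsg.SU n F q)) : ↥(Cfsg.GU n F q) :=
  ⟨Matrix.SpecialLinearGroup.toGL s.1, fun u v => s.2 u v⟩

theorem suToGU_val (s : ↥(Cfsg.SU n F q)) :
    (((suToGU s : ↥(Cfsg.GU n F q)) : GL (Fin n) F) : Matrix (Fin n) (Fin n) F) =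
      (s.1 : Matrix (Fin n) (Fin n) F) := rfl

theorem conj_mk_eq_PhiG (s : ↥(Cfsg.SU n F q)) :
    MulAut.conj (QuotientGroup.mk s : Cfsg.PSU n F q) = PhiG n F q (suToGU s) := by
  apply MulEquiv.ext
  intro x
  induction x using QuotientGroup.induction_on with
  | H t =>
    rw [PhiG_apply, PhiU_mk, MulAut.conj_apply, ← QuotientGroup.mk_inv, ← QuotientGroup.mk_mul, ← QuotientGroup.mk_mul]
    congr 1

theorem Inn_le_range_PhiG : Cfsg.Inn (Cfsg.PSU n F q) ≤ (PhiG n F q).range := by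
  rintro _ ⟨k, rfl⟩
  induction k using QuotientGroup.induction_on with
  | H s => exact ⟨_, (conj_mk_eq_PhiG s).symm⟩

theorem scalG_mem_GU (σ : F ≃+* F) (hσ : ∀ a, σ a = a ^ q) (ν : Fˣ)
    (hν : ν ∈ (powMonoidHom (q + 1) : Fˣ →* Fˣ).ker) : scalG (Fin n) ν ∈ Cfsg.GU n F q := by
  rw [mem_GU_iff_mat σ hσ, scalG_val, map_smul_one, Matrix.transpose_smul, Matrix.transpose_one, Matrix.smul_mul,
    Matrix.one_mul, smul_smul, hσ, ← pow_succ']
  rw [MonoidHom.mem_ker, powMonoidHom_apply] at hν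
  rw [← Units.val_pow_eq_pow_val, hν, Units.val_one, one_smul]

theorem det_scalG (ν : Fˣ) : Matrix.GeneralLinearGroup.det (scalG (Fin n) ν) = ν ^ n := by
  apply Units.ext
  rw [Matrix.GeneralLinearGroup.val_det_apply, scalG_val, Matrix.det_smul, Matrix.det_one, mul_one, Fintype.card_fin,
    Units.val_pow_eq_pow_val]

/-- a unitary matrix induces an inner automorphism iff its determinant is an `n`-th power of a norm-one element. -/
theorem comap_Inn_PhiG (hF : Fintype.card F = q ^ 2) (hn : 3 ≤ n) :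
    (Cfsg.Inn (Cfsg.PSU n F q)).comap (PhiG n F q) =
      ((powMonoidHom n : ↥((powMonoidHom (q + 1) : Fˣ →* Fˣ).ker) →* _).range).comap (detU hF n) := by
  obtain ⟨σ, hσ⟩ := exists_bar hF
  ext g
  rw [Subgroup.mem_comap, Subgroup.mem_comap]
  constructor
  · rintro ⟨k, hk⟩
    induction k using QuotientGroup.induction_on with
    | H s =>
      have hk' : MulAut.conj (QuotientGroup.mk s : Cfsg.PSU n F q) = PhiG n F q g := hk
      rw [conj_mk_eq_PhiG] at hk'
      have h1 : PhiG n F q (g * (suToGU s)⁻¹) = 1 := by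
        rw [map_mul, map_inv, ← hk', mul_inv_cancel]
      rw [PhiG_apply, PhiU_eq_one_iff hF hn, Cfsg.Geo.mem_scalars_iff] at h1
      obtain ⟨ν, hν⟩ := h1
      have hgν : g * (suToGU s)⁻¹ = ⟨scalG (Fin n) ν, by
          have : (g * (suToGU s)⁻¹).1 = scalG (Fin n) ν := Units.ext (by rw [scalG_val]; exact hν)
          rw [← this]; exact (g * (suToGU s)⁻¹).2⟩ := by
        apply Subtype.ext
        apply Units.ext
        rw [scalG_val]
        exact hν
      have hνU : scalG (Fin n) ν ∈ Cfsg.GU n F q := by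
        have := (g * (suToGU s)⁻¹).2
        rw [hgν] at this
        exact this
      have hνN : ν ∈ (powMonoidHom (q + 1) : Fˣ →* Fˣ).ker := by
        have h2 := det_GU_pow σ hσ _ hνU
        rw [mem_GU_iff_mat σ hσ, scalG_val, map_smul_one, Matrix.transpose_smul, Matrix.transpose_one,
          Matrix.smul_mul, Matrix.one_mul, smul_smul, hσ, ← pow_succ'] at hνU
        rw [MonoidHom.mem_ker, powMonoidHom_apply]
        apply Units.ext
        rw [Units.val_pow_eq_pow_val, Units.val_one]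
        have h3 := congrFun (congrFun hνU ⟨0, by omega⟩) ⟨0, by omega⟩
        rw [Matrix.smul_apply, Matrix.one_apply_eq, smul_eq_mul, mul_one] at h3
        exact h3
      refine ⟨⟨ν, hνN⟩, ?_⟩
      apply Subtype.ext
      rw [powMonoidHom_apply, Subgroup.coe_pow, detU_val]
      have h4 : g = ⟨scalG (Fin n) ν, hνU⟩ * suToGU s := by
        rw [← hgν, inv_mul_cancel_right]
      rw [h4]
      show ν ^ n = Matrix.GeneralLinearGroup.det (scalG (Fin n) ν * Matrix.SpecialLinearGroup.toGL s.1)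
      rw [map_mul, det_scalG, det_toGL, mul_one]
  · rintro ⟨t, ht⟩
    have htU : scalG (Fin n) t.1 ∈ Cfsg.GU n F q := scalG_mem_GU σ hσ t.1 t.2
    set z : ↥(Cfsg.GU n F q) := ⟨scalG (Fin n) t.1, htU⟩ with hz
    set g' : ↥(Cfsg.GU n F q) := z⁻¹ * g with hg'
    have hdet : Matrix.GeneralLinearGroup.det g'.1 = 1 := by
      have h1 : (detU hF n g : ↥((powMonoidHom (q + 1) : Fˣ →* Fˣ).ker)) = t ^ n := by
        rw [← ht, powMonoidHom_apply]
      have h2 : Matrix.GeneralLinearGroup.det g.1 = t.1 ^ n := by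
        rw [← detU_val hF, h1, Subgroup.coe_pow]
      show Matrix.GeneralLinearGroup.det ((scalG (Fin n) t.1)⁻¹ * g.1) = 1
      rw [map_mul, map_inv, det_scalG, h2, inv_mul_cancel]
    have hdet' : (g'.1 : Matrix (Fin n) (Fin n) F).det = 1 := by
      have := congrArg Units.val hdet
      rw [Matrix.GeneralLinearGroup.val_det_apply, Units.val_one] at this
      exact this
    set s : ↥(Cfsg.SU n F q) := ⟨⟨(g'.1 : Matrix (Fin n) (Fin n) F), hdet'⟩, fun u v => g'.2 u v⟩ with hs
    have hsg : suToGU s = g' := by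
      apply Subtype.ext
      apply Units.ext
      rfl
    have h3 : PhiG n F q g = PhiG n F q g' := by
      have h4 : g = z * g' := by rw [hg', mul_inv_cancel_left]
      have h5 : PhiG n F q z = 1 := by
        rw [PhiG_apply]
        exact PhiU_scal t.1 _
      calc PhiG n F q g = PhiG n F q (z * g') := congrArg _ h4
        _ = PhiG n F q z * PhiG n F q g' := map_mul _ _ _
        _ = PhiG n F q g' := by rw [h5, one_mul]
    rw [h3, ← hsg, ← conj_mk_eq_PhiG]
    exact ⟨_, rfl⟩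

end

end Cfsg.Agent.Lib.Helper16.US
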