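import Mathlib
import Cfsg.Prelude.Def_LieTypeDatum
import Cfsg.Prelude.Def_KGroupFacts
import Cfsg.Agent.Lib.Helper16.US1
import Cfsg.Agent.Lib.Helper16.GS6

set_option autoImplicit false
set_option linter.unusedSectionVars false
set_option linter.unusedVariables false

namespace Cfsg.Agent.Lib.Helper16.US

open Matrix Cfsg.Agent.Lib.Helper16.PG Cfsg.Agent.Lib.Helper16.AP Cfsg.Agent.Lib.Helper16.PU
  Cfsg.Agent.Lib.Helper16.GF

universe u w

section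
variable {n : ℕ} {F : Type u} [Field F] {q : ℕ} {F₀ : Type w} [Field F₀] [Algebra F₀ F]

/-- units of `F₀` as units of `F`. -/
noncomputable def iotaU (F₀ : Type w) (F : Type u) [Field F₀] [Field F] [Algebra F₀ F] : F₀ˣ →* Fˣ :=
  Units.map (algebraMap F₀ F : F₀ →* F)

theorem iotaU_val (c : F₀ˣ) : ((iotaU F₀ F c : Fˣ) : F) = algebraMap F₀ F (c : F₀) := rfl

theorem iotaU_pow_q [Fintype F₀] (hF₀ : Fintype.card F₀ = q) (c : F₀ˣ) : (iotaU F₀ F c) ^ q = iotaU F₀ F c := by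
  apply Units.ext
  rw [Units.val_pow_eq_pow_val, iotaU_val, ← map_pow, ← hF₀, FiniteField.pow_card]

theorem iotaU_pow_succ [Fintype F₀] (hF₀ : Fintype.card F₀ = q) (c : F₀ˣ) :
    (iotaU F₀ F c) ^ (q + 1) = iotaU F₀ F (c ^ 2) := by
  rw [pow_succ, iotaU_pow_q hF₀, map_pow, pow_two]

theorem map_smul_mat (σ : F ≃+* F) (d : F) (M : Matrix (Fin n) (Fin n) F) :
    (d • M).map ⇑σ = σ d • M.map ⇑σ := by
  ext i j
  rw [Matrix.map_apply, Matrix.smul_apply, Matrix.smul_apply, Matrix.map_apply, smul_eq_mul, smul_eq_mul, map_mul]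

theorem conjK_val' (k : GL (Fin n) F) (y : GL (Fin n) F₀) :
    ((conjK k y : GL (Fin n) F) : Matrix (Fin n) (Fin n) F) =
      (k : Matrix (Fin n) (Fin n) F) * (y : Matrix (Fin n) (Fin n) F₀).map (algebraMap F₀ F) *
        ((k⁻¹ : GL (Fin n) F) : Matrix (Fin n) (Fin n) F) := by
  rw [conjK_apply, Units.val_mul, Units.val_mul, mapI_val]

/-- the Hermitian multiplier of a conjugated base change. -/
theorem conjK_herm [Fintype F₀] (hF₀ : Fintype.card F₀ = q) (σ : F ≃+* F) (hσ : ∀ a, σ a = a ^ q)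
    (k : GL (Fin n) F) (M₀ : Matrix (Fin n) (Fin n) F₀) (e : F) (he : e ≠ 0)
    (hM : (k : Matrix (Fin n) (Fin n) F)ᵀ * (k : Matrix (Fin n) (Fin n) F).map ⇑σ =
      e • M₀.map (algebraMap F₀ F))
    (y : GL (Fin n) F₀) (c₀ : F₀)
    (hc₀ : (y : Matrix (Fin n) (Fin n) F₀)ᵀ * M₀ * (y : Matrix (Fin n) (Fin n) F₀) = c₀ • M₀) :
    ((conjK k y : GL (Fin n) F) : Matrix (Fin n) (Fin n) F)ᵀ *
      ((conjK k y : GL (Fin n) F) : Matrix (Fin n) (Fin n) F).map ⇑σ = (algebraMap F₀ F c₀) • 1 := by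
  set K := (k : Matrix (Fin n) (Fin n) F) with hK
  set Ki := ((k⁻¹ : GL (Fin n) F) : Matrix (Fin n) (Fin n) F) with hKi
  set Yt := (y : Matrix (Fin n) (Fin n) F₀).map (algebraMap F₀ F) with hYt
  set Mt := M₀.map (algebraMap F₀ F) with hMt
  have h1 : Ytᵀ * Mt * Yt = (algebraMap F₀ F c₀) • Mt := by
    have := congrArg (fun M : Matrix (Fin n) (Fin n) F₀ => M.map (algebraMap F₀ F)) hc₀
    simp only [Matrix.map_mul, Matrix.transpose_map] at this
    rw [hYt, hMt, this]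
    ext i j
    simp
  rw [conjK_val', Matrix.map_mul, Matrix.map_mul, mapI_bar hF₀ σ hσ, Matrix.transpose_mul, Matrix.transpose_mul]
  have h2 : Kiᵀ * Kᵀ = 1 := by rw [← Matrix.transpose_mul, gl_mul_inv, Matrix.transpose_one]
  calc Kiᵀ * (Ytᵀ * Kᵀ) * (K.map ⇑σ * Yt * Ki.map ⇑σ)
      = Kiᵀ * (Ytᵀ * (Kᵀ * K.map ⇑σ) * Yt) * Ki.map ⇑σ := by simp only [Matrix.mul_assoc]
    _ = Kiᵀ * (e • (Ytᵀ * Mt * Yt)) * Ki.map ⇑σ := by
        rw [hM, Matrix.mul_smul, Matrix.smul_mul]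
    _ = (algebraMap F₀ F c₀) • (Kiᵀ * (e • Mt) * Ki.map ⇑σ) := by
        rw [h1]
        simp only [Matrix.mul_smul, Matrix.smul_mul, smul_smul, mul_comm]
    _ = (algebraMap F₀ F c₀) • (Kiᵀ * (Kᵀ * K.map ⇑σ) * Ki.map ⇑σ) := by rw [hM]
    _ = (algebraMap F₀ F c₀) • 1 := by
        rw [← Matrix.mul_assoc, h2, Matrix.one_mul, PU.map_mul_inv]

theorem det_conjK (k : GL (Fin n) F) (y : GL (Fin n) F₀) :
    Matrix.GeneralLinearGroup.det (conjK k y) = iotaU F₀ F (Matrix.GeneralLinearGroup.det y) := by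
  rw [conjK_apply, map_mul, map_mul, map_inv, mul_comm, ← mul_assoc, inv_mul_cancel, one_mul]
  apply Units.ext
  rw [Matrix.GeneralLinearGroup.val_det_apply, mapI_val, iotaU_val, Matrix.GeneralLinearGroup.val_det_apply,
    RingHom.map_det]
  rfl

/-- the Hermitian Gram identity of `d • conjK k y`. -/
theorem smul_conjK_herm [Fintype F₀] (hF₀ : Fintype.card F₀ = q) (σ : F ≃+* F) (hσ : ∀ a, σ a = a ^ q)
    (k : GL (Fin n) F) (M₀ : Matrix (Fin n) (Fin n) F₀) (e : F) (he : e ≠ 0)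
    (hM : (k : Matrix (Fin n) (Fin n) F)ᵀ * (k : Matrix (Fin n) (Fin n) F).map ⇑σ =
      e • M₀.map (algebraMap F₀ F))
    (y : GL (Fin n) F₀) (c₀ : F₀)
    (hc₀ : (y : Matrix (Fin n) (Fin n) F₀)ᵀ * M₀ * (y : Matrix (Fin n) (Fin n) F₀) = c₀ • M₀) (d : F) :
    (d • ((conjK k y : GL (Fin n) F) : Matrix (Fin n) (Fin n) F))ᵀ *
      (d • ((conjK k y : GL (Fin n) F) : Matrix (Fin n) (Fin n) F)).map ⇑σ =
        (d ^ (q + 1) * algebraMap F₀ F c₀) • 1 := by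
  rw [map_smul_mat, Matrix.transpose_smul, Matrix.smul_mul, Matrix.mul_smul,
    conjK_herm hF₀ σ hσ k M₀ e he hM y c₀ hc₀, smul_smul, smul_smul, hσ, pow_succ]
  congr 1
  ring

/-- Lemma A: a unitary matrix commuting with the graph automorphism modulo scalars. -/
theorem cent_form [Fintype F] [Fintype F₀] (hF : Fintype.card F = q ^ 2) (hF₀ : Fintype.card F₀ = q)
    (hn : 3 ≤ n) (σ : F ≃+* F) (hσ : ∀ a, σ a = a ^ q) (X : ↥(simU n F q)) (U : GL (Fin n) F₀)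
    (hD : GData σ X U) (g : ↥(Cfsg.GU n F q))
    (hg : PhiG n F q g ∈ Subgroup.centralizer {PhiU n F q X * fieldU n q σ}) :
    ∃ (y : GL (Fin n) F₀) (c : F₀ˣ) (d : Fˣ),
      (y : Matrix (Fin n) (Fin n) F₀)ᵀ * (U : Matrix (Fin n) (Fin n) F₀) * (y : Matrix (Fin n) (Fin n) F₀) =
        (c : F₀) • (U : Matrix (Fin n) (Fin n) F₀) ∧
      d ^ (q + 1) * iotaU F₀ F c = 1 ∧
      Matrix.GeneralLinearGroup.det g.1 = d ^ n * iotaU F₀ F (Matrix.GeneralLinearGroup.det y) := by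
  obtain ⟨k, e, he, hk, hM⟩ := hD
  rw [Subgroup.mem_centralizer_iff] at hg
  have hcomm := hg _ (Set.mem_singleton _)
  rw [PhiG_apply] at hcomm
  obtain ⟨c', hc'⟩ := (comm_graphU_iff hF hn σ X ⟨g.1, GU_le_simU g.2⟩).mp hcomm.symm
  have hU0 : (U : Matrix (Fin n) (Fin n) F₀) ≠ 0 := by
    obtain ⟨i, j, hij⟩ := gl_ne_zero (by omega : 1 ≤ n) U
    intro h0
    rw [h0] at hij
    exact hij rfl
  obtain ⟨y, d, hy, hgd⟩ := descend_comm hF hF₀ σ hσ X.1 k hk (U : Matrix (Fin n) (Fin n) F₀) e he hM hU0 g.1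
    (GU_le_simU g.2) c' hc'
  obtain ⟨c, hc⟩ := (mem_simM_iff _ y).mp hy
  refine ⟨y, c, d, hc, ?_, ?_⟩
  · have h1 := (mem_GU_iff_mat σ hσ g.1).mp g.2
    rw [hgd, smul_conjK_herm hF₀ σ hσ k _ e he hM y (c : F₀) hc (d : F)] at h1
    have h2 := congrFun (congrFun h1 ⟨0, by omega⟩) ⟨0, by omega⟩
    rw [Matrix.smul_apply, Matrix.one_apply_eq, smul_eq_mul, mul_one] at h2
    apply Units.ext
    rw [Units.val_mul, Units.val_pow_eq_pow_val, iotaU_val, Units.val_one]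
    exact h2
  · apply Units.ext
    rw [Matrix.GeneralLinearGroup.val_det_apply, hgd, Matrix.det_smul, Fintype.card_fin, Units.val_mul,
      Units.val_pow_eq_pow_val, ← det_conjK, Matrix.GeneralLinearGroup.val_det_apply]

/-- Lemma B: unitary matrices commuting with the graph automorphism modulo scalars. -/
theorem cent_elem [Fintype F] [Fintype F₀] (hF : Fintype.card F = q ^ 2) (hF₀ : Fintype.card F₀ = q)
    (hn : 3 ≤ n) (σ : F ≃+* F) (hσ : ∀ a, σ a = a ^ q) (X : ↥(simU n F q)) (U : GL (Fin n) F₀)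
    (hD : GData σ X U) (y : GL (Fin n) F₀) (c : F₀ˣ) (d : Fˣ)
    (hy : (y : Matrix (Fin n) (Fin n) F₀)ᵀ * (U : Matrix (Fin n) (Fin n) F₀) * (y : Matrix (Fin n) (Fin n) F₀) =
        (c : F₀) • (U : Matrix (Fin n) (Fin n) F₀))
    (hd : d ^ (q + 1) * iotaU F₀ F c = 1) :
    ∃ g : ↥(Cfsg.GU n F q), PhiG n F q g ∈ Subgroup.centralizer {PhiU n F q X * fieldU n q σ} ∧
      Matrix.GeneralLinearGroup.det g.1 = d ^ n * iotaU F₀ F (Matrix.GeneralLinearGroup.det y) := by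
  obtain ⟨k, e, he, hk, hM⟩ := hD
  set g₀ : GL (Fin n) F := scalG (Fin n) d * conjK k y with hg₀
  have hval : (g₀ : Matrix (Fin n) (Fin n) F) = (d : F) • ((conjK k y : GL (Fin n) F) : Matrix (Fin n) (Fin n) F) := by
    rw [hg₀, Units.val_mul, scalG_val, Matrix.smul_mul, Matrix.one_mul]
  have hd' : (d : F) ^ (q + 1) * algebraMap F₀ F (c : F₀) = 1 := by
    have := congrArg Units.val hd
    rw [Units.val_mul, Units.val_pow_eq_pow_val, iotaU_val, Units.val_one] at this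
    exact this
  have hgU : g₀ ∈ Cfsg.GU n F q := by
    rw [mem_GU_iff_mat σ hσ, hval, smul_conjK_herm hF₀ σ hσ k _ e he hM y (c : F₀) hy (d : F), hd', one_smul]
  refine ⟨⟨g₀, hgU⟩, ?_, ?_⟩
  · rw [Subgroup.mem_centralizer_iff]
    intro x hx
    rw [Set.mem_singleton_iff] at hx
    subst hx
    rw [PhiG_apply]
    symm
    rw [comm_graphU_iff hF hn σ X]
    have hσd : σ (d : F) ≠ 0 := by
      rw [Ne, map_eq_zero]; exact d.ne_zero
    refine ⟨d * (Units.mk0 (σ (d : F)) hσd)⁻¹, ?_⟩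
    show (g₀ : Matrix (Fin n) (Fin n) F) * (X.1 : Matrix (Fin n) (Fin n) F) = _ • ((X.1 : Matrix (Fin n) (Fin n) F) *
      (g₀ : Matrix (Fin n) (Fin n) F).map ⇑σ)
    rw [hval, map_smul_mat, Matrix.smul_mul, conjK_comm hF₀ σ hσ X.1 k hk y, Matrix.mul_smul, smul_smul,
      Units.val_mul, Units.val_inv_eq_inv_val, Units.val_mk0, mul_assoc, inv_mul_cancel₀ hσd, mul_one]
  · show Matrix.GeneralLinearGroup.det g₀ = _
    rw [hg₀, map_mul, det_scalG, det_conjK]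

end

end Cfsg.Agent.Lib.Helper16.US
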