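import Mathlib
import Cfsg.Prelude.Def_LieTypeDatum
import Cfsg.Prelude.Def_KGroupFacts
import Cfsg.Agent.Lib.Helper16.US2

set_option autoImplicit false
set_option linter.unusedSectionVars false
set_option linter.unusedVariables false

namespace Cfsg.Agent.Lib.Helper16.US

open Matrix Cfsg.Agent.Lib.Helper16.PG Cfsg.Agent.Lib.Helper16.AP Cfsg.Agent.Lib.Helper16.PU
  Cfsg.Agent.Lib.Helper16.GF Cfsg.Agent.Lib.Helper16.GS

universe u w

section
variable {F : Type u} [Field F] [Fintype F] {q : ℕ}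

theorem card_sq_sub_one (hF : Fintype.card F = q ^ 2) : Nat.card Fˣ = (q - 1) * (q + 1) := by
  have hq2 := q_ge_two' hF
  rw [Nat.card_units, Nat.card_eq_fintype_card, hF]
  obtain ⟨k, rfl⟩ : ∃ k, q = k + 1 := ⟨q - 1, by omega⟩
  simp only [Nat.add_sub_cancel]
  have : (k + 1) ^ 2 = k * (k + 1 + 1) + 1 := by ring
  omega

theorem card_NU (hF : Fintype.card F = q ^ 2) :
    Nat.card ↥((powMonoidHom (q + 1) : Fˣ →* Fˣ).ker) = q + 1 := by
  rw [IsCyclic.card_powMonoidHom_ker, card_sq_sub_one hF, Nat.gcd_mul_left_left]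

/-- Hilbert 90 for the quadratic extension, cyclic group version. -/
theorem exists_pow_q_sub_one (hF : Fintype.card F = q ^ 2) (t : Fˣ) (ht : t ^ (q + 1) = 1) :
    ∃ d : Fˣ, d ^ (q - 1) = t := by
  have hq2 := q_ge_two' hF
  have hle : (powMonoidHom (q - 1) : Fˣ →* Fˣ).range ≤ (powMonoidHom (q + 1) : Fˣ →* Fˣ).ker := by
    rintro _ ⟨x, rfl⟩
    rw [MonoidHom.mem_ker, powMonoidHom_apply, powMonoidHom_apply, ← pow_mul, ← card_sq_sub_one hF]
    exact pow_card_eq_one'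
  have hcard : Nat.card ↥((powMonoidHom (q + 1) : Fˣ →* Fˣ).ker) ≤
      Nat.card ↥((powMonoidHom (q - 1) : Fˣ →* Fˣ).range) := by
    rw [card_NU hF, IsCyclic.card_powMonoidHom_range, card_sq_sub_one hF, Nat.gcd_mul_right_left,
      Nat.mul_div_cancel_left _ (by omega : 0 < q - 1)]
  have heq := Subgroup.eq_of_le_of_card_ge hle hcard
  have : t ∈ (powMonoidHom (q - 1) : Fˣ →* Fˣ).range := by
    rw [heq, MonoidHom.mem_ker, powMonoidHom_apply]
    exact ht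
  obtain ⟨d, hd⟩ := this
  exact ⟨d, hd⟩

theorem neg_one_pow_succ (σ : F ≃+* F) (hσ : ∀ a, σ a = a ^ q) : ((-1 : Fˣ)) ^ (q + 1) = 1 := by
  apply Units.ext
  rw [Units.val_pow_eq_pow_val, Units.val_neg, Units.val_one, pow_succ, ← hσ, map_neg, map_one]
  ring

end

section
variable {n : ℕ} {F : Type u} [Field F] [Fintype F] {q : ℕ} {F₀ : Type w} [Field F₀] [Fintype F₀] [Algebra F₀ F]

/-- for every norm-one `t` there are `d` and `c` with `N(d) c = 1` and `d² c = t`. -/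
theorem exists_d_c (hF : Fintype.card F = q ^ 2) (hF₀ : Fintype.card F₀ = q) (σ : F ≃+* F) (hσ : ∀ a, σ a = a ^ q)
    (t : Fˣ) (ht : t ^ (q + 1) = 1) :
    ∃ (d : Fˣ) (c : F₀ˣ), d ^ (q + 1) * iotaU F₀ F c = 1 ∧ d ^ 2 * iotaU F₀ F c = t := by
  have hq2 := q_ge_two' hF
  have ht' : (t⁻¹) ^ (q + 1) = 1 := by rw [inv_pow, ht, inv_one]
  obtain ⟨d, hd⟩ := exists_pow_q_sub_one hF t⁻¹ ht'
  have hfix : σ ((d : F) ^ (q + 1)) = (d : F) ^ (q + 1) := by
    rw [hσ, ← pow_mul]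
    have h1 : (q + 1) * q = (q - 1) * (q + 1) + (q + 1) := by
      obtain ⟨k, rfl⟩ : ∃ k, q = k + 1 := ⟨q - 1, by omega⟩
      simp only [Nat.add_sub_cancel]
      ring
    rw [h1, pow_add, ← card_sq_sub_one hF, ← Units.val_pow_eq_pow_val, pow_card_eq_one', Units.val_one, one_mul]
  obtain ⟨c₀, hc₀⟩ := mem_range_of_fixed hF hF₀ σ hσ _ hfix
  have hc₀0 : c₀ ≠ 0 := by
    rintro rfl
    rw [map_zero] at hc₀
    exact (pow_ne_zero _ d.ne_zero) hc₀.symm
  have hι : iotaU F₀ F (Units.mk0 c₀ hc₀0) = d ^ (q + 1) := by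
    apply Units.ext
    rw [iotaU_val, Units.val_mk0, hc₀, Units.val_pow_eq_pow_val]
  refine ⟨d, (Units.mk0 c₀ hc₀0)⁻¹, ?_, ?_⟩
  · rw [map_inv, hι, mul_inv_cancel]
  · rw [map_inv, hι]
    have h2 : d ^ (q + 1) = d ^ (q - 1) * d ^ 2 := by
      rw [← pow_add]
      congr 1
      omega
    rw [h2, hd, mul_inv, inv_inv, mul_comm t, mul_inv_cancel_left]

theorem iotaU_neg (x : F₀ˣ) : iotaU F₀ F (-x) = -iotaU F₀ F x := by
  apply Units.ext
  rw [iotaU_val, Units.val_neg, Units.val_neg, map_neg, iotaU_val]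

theorem normOne_of_sq (hF₀ : Fintype.card F₀ = q) (d : Fˣ) (c s : F₀ˣ) (hs : s ^ 2 = c)
    (hd : d ^ (q + 1) * iotaU F₀ F c = 1) : (d * iotaU F₀ F s) ^ (q + 1) = 1 := by
  rw [mul_pow, iotaU_pow_succ hF₀, hs, hd]

theorem normOne_of_mult (hF₀ : Fintype.card F₀ = q) (d : Fˣ) (c : F₀ˣ)
    (hd : d ^ (q + 1) * iotaU F₀ F c = 1) : (d ^ 2 * iotaU F₀ F c) ^ (q + 1) = 1 := by
  rw [mul_pow, iotaU_pow_succ hF₀, map_pow, ← pow_mul, mul_comm 2 (q + 1), pow_mul, ← mul_pow, hd, one_pow]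

end

section
variable {n : ℕ} {F : Type u} [Field F] [Fintype F] {q : ℕ}

/-- the split class count in `Inndiag(PSU_n)`, as an index in the norm-one group. -/
theorem splitClassCount_PhiG (hF : Fintype.card F = q ^ 2) (hn : 3 ≤ n) (γ : MulAut (Cfsg.PSU n F q)) :
    Cfsg.splitClassCount (Cfsg.inndiagPSU n F q) (Cfsg.Inn (Cfsg.PSU n F q)) γ =
      ((powMonoidHom n : ↥((powMonoidHom (q + 1) : Fˣ →* Fˣ).ker) →* _).range ⊔
        ((Subgroup.centralizer {γ}).comap (PhiG n F q)).map (detU hF n)).index := by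
  rw [← PhiG_range hF (by omega : 1 ≤ n)]
  exact SC.splitClassCount_via_hom (PhiG n F q) (detU hF n) (detU_surjective hF (by omega)) _ _ Inn_le_range_PhiG
    (comap_Inn_PhiG hF hn) γ

theorem mem_map_detU_iff (hF : Fintype.card F = q ^ 2) (γ : MulAut (Cfsg.PSU n F q))
    (a : ↥((powMonoidHom (q + 1) : Fˣ →* Fˣ).ker)) :
    a ∈ ((Subgroup.centralizer {γ}).comap (PhiG n F q)).map (detU hF n) ↔
      ∃ g : ↥(Cfsg.GU n F q), PhiG n F q g ∈ Subgroup.centralizer {γ} ∧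
        Matrix.GeneralLinearGroup.det g.1 = a.1 := by
  rw [Subgroup.mem_map]
  constructor
  · rintro ⟨g, hg, rfl⟩
    exact ⟨g, Subgroup.mem_comap.mp hg, rfl⟩
  · rintro ⟨g, hg, hga⟩
    exact ⟨g, Subgroup.mem_comap.mpr hg, Subtype.ext hga⟩

end

end Cfsg.Agent.Lib.Helper16.US
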