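import Mathlib
import Cfsg.Prelude.Def_LieTypeDatum
import Cfsg.Prelude.Def_KGroupFacts
import Cfsg.Agent.Lib.Helper16.US3

set_option autoImplicit false
set_option linter.unusedSectionVars false
set_option linter.unusedVariables false

namespace Cfsg.Agent.Lib.Helper16.US

open Matrix Cfsg.Agent.Lib.Helper16.PG Cfsg.Agent.Lib.Helper16.AP Cfsg.Agent.Lib.Helper16.PU
  Cfsg.Agent.Lib.Helper16.GF Cfsg.Agent.Lib.Helper16.GS

universe u w

section
variable {n : ℕ} {F : Type u} [Field F] [Fintype F] {q : ℕ} {F₀ : Type w} [Field F₀] [Fintype F₀] [Algebra F₀ F]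

/-- case (a): odd dimension or even characteristic. -/
theorem count_case_a (hF : Fintype.card F = q ^ 2) (hF₀ : Fintype.card F₀ = q) (hn : 3 ≤ n) (σ : F ≃+* F)
    (hσ : ∀ a, σ a = a ^ q) (X : ↥(simU n F q)) (U : GL (Fin n) F₀) (hD : GData σ X U)
    (hcase : ¬ (Even n ∧ Odd q)) :
    Cfsg.splitClassCount (Cfsg.inndiagPSU n F q) (Cfsg.Inn (Cfsg.PSU n F q)) (PhiU n F q X * fieldU n q σ) =
      Nat.gcd n (q + 1) := by
  rw [splitClassCount_PhiG hF hn]
  have hle : ((Subgroup.centralizer {PhiU n F q X * fieldU n q σ}).comap (PhiG n F q)).map (detU hF n) ≤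
      (powMonoidHom n : ↥((powMonoidHom (q + 1) : Fˣ →* Fˣ).ker) →* _).range := by
    intro a ha
    obtain ⟨g, hg, hga⟩ := (mem_map_detU_iff hF _ a).mp ha
    obtain ⟨y, c, d, hy, hd, hdet⟩ := cent_form hF hF₀ hn σ hσ X U hD g hg
    -- it suffices to find a norm-one `t` with `t ^ n = det g`
    suffices hsuff : ∃ t : Fˣ, t ^ (q + 1) = 1 ∧ t ^ n = a.1 by
      obtain ⟨t, ht, hta⟩ := hsuff
      refine ⟨⟨t, by rw [MonoidHom.mem_ker, powMonoidHom_apply]; exact ht⟩, ?_⟩
      apply Subtype.ext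
      rw [powMonoidHom_apply, Subgroup.coe_pow]
      exact hta
    rw [← hga, hdet]
    by_cases hodd : Odd n
    · obtain ⟨s, hs, hdy⟩ := det_sim_odd_form hodd U y c hy
      have ht := normOne_of_sq (F := F) hF₀ d c s hs hd
      rcases hdy with hdy | hdy
      · exact ⟨d * iotaU F₀ F s, ht, by rw [hdy, map_pow, mul_pow]⟩
      · refine ⟨-(d * iotaU F₀ F s), ?_, ?_⟩
        · rw [← neg_one_mul, mul_pow, ht, mul_one]
          exact neg_one_pow_succ σ hσ
        · rw [hdy, iotaU_neg, map_pow, hodd.neg_pow, mul_pow, mul_neg]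
    · have heven : Even n := Nat.not_odd_iff_even.mp hodd
      have hqeven : Even q := by
        by_contra hq
        exact hcase ⟨heven, Nat.not_even_iff_odd.mp hq⟩
      have hchar : ringChar F₀ = 2 := by
        apply FiniteField.even_card_iff_char_two.mpr
        rw [hF₀]
        exact Nat.even_iff.mp hqeven
      have : CharP F₀ 2 := ringChar.eq_iff.mp hchar
      obtain ⟨s, hs, hdy⟩ := det_sim_char2_form heven U y c hy
      have ht := normOne_of_sq (F := F) hF₀ d c s hs hd
      exact ⟨d * iotaU F₀ F s, ht, by rw [hdy, map_pow, mul_pow]⟩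
  rw [sup_of_le_left hle, IsCyclic.index_powMonoidHom_range, card_NU hF, Nat.gcd_comm]

theorem pow_range_le_of_dvd' {A : Type*} [CommGroup A] (k l : ℕ) (h : k ∣ l) :
    (powMonoidHom l : A →* A).range ≤ (powMonoidHom k : A →* A).range := by
  rintro _ ⟨x, rfl⟩
  obtain ⟨d, rfl⟩ := h
  exact ⟨x ^ d, by rw [powMonoidHom_apply, powMonoidHom_apply, ← pow_mul, mul_comm]⟩

/-- case (b): symplectic type. -/
theorem count_case_b (hF : Fintype.card F = q ^ 2) (hF₀ : Fintype.card F₀ = q) (hn : 3 ≤ n) (σ : F ≃+* F)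
    (hσ : ∀ a, σ a = a ^ q) (X : ↥(simU n F q)) (U : GL (Fin n) F₀) (hD : GData σ X U)
    {m : ℕ} (hnm : n = 2 * m) (T : (Fin n → F₀) ≃ₗ[F₀] (Fin m ⊕ Fin m → F₀))
    (hU : ∀ u v, bilM (U : Matrix (Fin n) (Fin n) F₀) u v = Cfsg.sympForm m F₀ (T u) (T v)) :
    Cfsg.splitClassCount (Cfsg.inndiagPSU n F q) (Cfsg.Inn (Cfsg.PSU n F q)) (PhiU n F q X * fieldU n q σ) =
      Nat.gcd m (q + 1) := by
  rw [splitClassCount_PhiG hF hn]
  have heq : (powMonoidHom n : ↥((powMonoidHom (q + 1) : Fˣ →* Fˣ).ker) →* _).range ⊔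
      ((Subgroup.centralizer {PhiU n F q X * fieldU n q σ}).comap (PhiG n F q)).map (detU hF n) =
      (powMonoidHom m : ↥((powMonoidHom (q + 1) : Fˣ →* Fˣ).ker) →* _).range := by
    apply le_antisymm
    · apply sup_le (pow_range_le_of_dvd' m n ⟨2, by omega⟩)
      intro a ha
      obtain ⟨g, hg, hga⟩ := (mem_map_detU_iff hF _ a).mp ha
      obtain ⟨y, c, d, hy, hd, hdet⟩ := cent_form hF hF₀ hn σ hσ X U hD g hg
      have hdy := det_sim_alt_form T U hU y c hy
      have ht := normOne_of_mult (F := F) hF₀ d c hd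
      refine ⟨⟨d ^ 2 * iotaU F₀ F c, by rw [MonoidHom.mem_ker, powMonoidHom_apply]; exact ht⟩, ?_⟩
      apply Subtype.ext
      rw [powMonoidHom_apply, Subgroup.coe_pow, ← hga, hdet, hdy, map_pow, mul_pow, ← pow_mul, hnm]
    · rintro _ ⟨t, rfl⟩
      apply Subgroup.mem_sup_right
      rw [mem_map_detU_iff]
      have ht : (t.1) ^ (q + 1) = 1 := by
        have := t.2
        rw [MonoidHom.mem_ker, powMonoidHom_apply] at this
        exact this
      obtain ⟨d, c, hd, hdc⟩ := exists_d_c hF hF₀ σ hσ t.1 ht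
      obtain ⟨y, hy⟩ := exists_sim_alt T U hU c
      have hdy := det_sim_alt_form T U hU y c hy
      obtain ⟨g, hg, hdet⟩ := cent_elem hF hF₀ hn σ hσ X U hD y c d hy hd
      refine ⟨g, hg, ?_⟩
      rw [hdet, hdy, powMonoidHom_apply, Subgroup.coe_pow, ← hdc, map_pow, mul_pow, ← pow_mul, hnm]
  rw [heq, IsCyclic.index_powMonoidHom_range, card_NU hF, Nat.gcd_comm]

/-- case (c): orthogonal type, odd characteristic. -/
theorem count_case_c (hF : Fintype.card F = q ^ 2) (hF₀ : Fintype.card F₀ = q) (hn : 3 ≤ n) (σ : F ≃+* F)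
    (hσ : ∀ a, σ a = a ^ q) (X : ↥(simU n F q)) (U : GL (Fin n) F₀) (hD : GData σ X U)
    (hodd : Odd q) {m : ℕ} (hm : 1 ≤ m) (hnm : n = 2 * m)
    (hsymm : (U : Matrix (Fin n) (Fin n) F₀)ᵀ = U) :
    Cfsg.splitClassCount (Cfsg.inndiagPSU n F q) (Cfsg.Inn (Cfsg.PSU n F q)) (PhiU n F q X * fieldU n q σ) =
      Nat.gcd n (q + 1) / 2 := by
  rw [splitClassCount_PhiG hF hn]
  have hoddF₀ : Odd (Fintype.card F₀) := by rw [hF₀]; exact hodd
  have h2 : (2 : F₀) ≠ 0 := PG.two_ne_zero_of_odd_card hoddF₀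
  have h2F : (2 : F) ≠ 0 := by
    have hoddF : Odd (Fintype.card F) := by rw [hF]; exact hodd.pow
    exact PG.two_ne_zero_of_odd_card hoddF
  set negOne : ↥((powMonoidHom (q + 1) : Fˣ →* Fˣ).ker) :=
    ⟨-1, by rw [MonoidHom.mem_ker, powMonoidHom_apply]; exact neg_one_pow_succ σ hσ⟩ with hnegOne
  set D := ((Subgroup.centralizer {PhiU n F q X * fieldU n q σ}).comap (PhiG n F q)).map (detU hF n) with hDdef
  have hneg : negOne ∈ D := by
    rw [hDdef, mem_map_detU_iff]
    obtain ⟨r, hr, hrdet⟩ := exists_refl_sim h2 (by omega : 1 ≤ n) U hsymm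
    obtain ⟨g, hg, hdet⟩ := cent_elem hF hF₀ hn σ hσ X U hD r 1 1 (by rw [Units.val_one, one_smul]; exact hr)
      (by rw [one_pow, map_one, one_mul])
    refine ⟨g, hg, ?_⟩
    rw [hdet, hrdet, one_pow, one_mul, iotaU_neg, map_one]
  have heq : (powMonoidHom n : ↥((powMonoidHom (q + 1) : Fˣ →* Fˣ).ker) →* _).range ⊔ D =
      (powMonoidHom m : ↥((powMonoidHom (q + 1) : Fˣ →* Fˣ).ker) →* _).range ⊔ Subgroup.zpowers negOne := by
    apply le_antisymm
    · apply sup_le (le_trans (pow_range_le_of_dvd' m n ⟨2, by omega⟩) le_sup_left)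
      intro a ha
      obtain ⟨g, hg, hga⟩ := (mem_map_detU_iff hF _ a).mp ha
      obtain ⟨y, c, d, hy, hd, hdet⟩ := cent_form hF hF₀ hn σ hσ X U hD g hg
      have ht := normOne_of_mult (F := F) hF₀ d c hd
      set t : ↥((powMonoidHom (q + 1) : Fˣ →* Fˣ).ker) :=
        ⟨d ^ 2 * iotaU F₀ F c, by rw [MonoidHom.mem_ker, powMonoidHom_apply]; exact ht⟩ with htdef
      have htm : (t ^ m : ↥((powMonoidHom (q + 1) : Fˣ →* Fˣ).ker)).1 = d ^ n * iotaU F₀ F (c ^ m) := by
        rw [Subgroup.coe_pow, htdef, map_pow, mul_pow, ← pow_mul, hnm]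
      rcases det_sim_even_form hnm U y c hy with hdy | hdy
      · have : a = t ^ m := by
          apply Subtype.ext
          rw [htm, ← hga, hdet, hdy]
        rw [this]
        exact Subgroup.mem_sup_left ⟨t, rfl⟩
      · have : a = t ^ m * negOne := by
          apply Subtype.ext
          rw [Subgroup.coe_mul, htm, ← hga, hdet, hdy, iotaU_neg, hnegOne]
          show _ = d ^ n * iotaU F₀ F (c ^ m) * (-1)
          rw [mul_neg_one, mul_neg]
        rw [this]
        exact Subgroup.mul_mem_sup (show t ^ m ∈ (powMonoidHom m : ↥((powMonoidHom (q + 1) : Fˣ →* Fˣ).ker) →* _).range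
          from ⟨t, rfl⟩) (Subgroup.mem_zpowers _)
    · apply sup_le
      · rintro _ ⟨t, rfl⟩
        apply Subgroup.mem_sup_right
        have ht : (t.1) ^ (q + 1) = 1 := by
          have := t.2
          rw [MonoidHom.mem_ker, powMonoidHom_apply] at this
          exact this
        obtain ⟨d, c, hd, hdc⟩ := exists_d_c hF hF₀ σ hσ t.1 ht
        obtain ⟨y, hy⟩ := exists_sim_symm h2 hm hnm U hsymm c
        obtain ⟨g, hg, hdet⟩ := cent_elem hF hF₀ hn σ hσ X U hD y c d hy hd
        have htm : ((powMonoidHom m t : ↥((powMonoidHom (q + 1) : Fˣ →* Fˣ).ker))).1 = d ^ n * iotaU F₀ F (c ^ m) := by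
          rw [powMonoidHom_apply, Subgroup.coe_pow, ← hdc, map_pow, mul_pow, ← pow_mul, hnm]
        rcases det_sim_even_form hnm U y c hy with hdy | hdy
        · rw [hDdef, mem_map_detU_iff]
          refine ⟨g, hg, ?_⟩
          rw [htm, hdet, hdy]
        · have hmem : powMonoidHom m t * negOne ∈ D := by
            rw [hDdef, mem_map_detU_iff]
            refine ⟨g, hg, ?_⟩
            rw [Subgroup.coe_mul, htm, hdet, hdy, iotaU_neg, hnegOne]
            show _ = d ^ n * iotaU F₀ F (c ^ m) * (-1)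
            rw [mul_neg_one, mul_neg]
          have h5 : powMonoidHom m t = (powMonoidHom m t * negOne) * negOne := by
            rw [mul_assoc]
            have : negOne * negOne = 1 := by
              apply Subtype.ext
              rw [Subgroup.coe_mul, hnegOne]
              show (-1 : Fˣ) * (-1) = 1
              rw [neg_mul_neg, one_mul]
            rw [this, mul_one]
          rw [h5]
          exact D.mul_mem hmem hneg
      · rw [Subgroup.zpowers_le]
        exact Subgroup.mem_sup_right hneg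
  rw [heq, SC.index_pow_sup]
  -- the index of `⟨-1⟩`
  have hord : orderOf negOne = 2 := by
    apply orderOf_eq_prime
    · apply Subtype.ext
      rw [Subgroup.coe_pow, hnegOne]
      show (-1 : Fˣ) ^ 2 = 1
      rw [neg_one_sq]
    · intro h
      have h3 := congrArg (fun x : ↥((powMonoidHom (q + 1) : Fˣ →* Fˣ).ker) => ((x.1 : Fˣ) : F)) h
      simp only [hnegOne, Units.val_neg, Units.val_one, OneMemClass.coe_one] at h3
      apply h2F
      linear_combination -h3
  have hidx : (Subgroup.zpowers negOne).index * 2 = q + 1 := by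
    have := Subgroup.index_mul_card (Subgroup.zpowers negOne)
    rw [Nat.card_zpowers, hord, card_NU hF] at this
    exact this
  have hidx' : (Subgroup.zpowers negOne).index = (q + 1) / 2 := by omega
  rw [hidx']
  obtain ⟨k, hk⟩ := hodd
  have hq1 : q + 1 = 2 * (k + 1) := by omega
  rw [hq1, hnm, Nat.gcd_mul_left, Nat.mul_div_cancel_left _ (by norm_num : 0 < 2),
    Nat.mul_div_cancel_left _ (by norm_num : 0 < 2)]

end

end Cfsg.Agent.Lib.Helper16.US
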