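import Mathlib
import Cfsg.Prelude.Def_LieTypeDatum
import Cfsg.Prelude.Def_KGroupFacts
import Cfsg.Agent.Lib.Helper16.US4

set_option autoImplicit false
set_option linter.unusedSectionVars false
set_option linter.unusedVariables false

namespace Cfsg.Agent.Lib.Helper16.US

open Matrix Module Cfsg.Agent.Lib.Helper16.PG Cfsg.Agent.Lib.Helper16.AP Cfsg.Agent.Lib.Helper16.PU
  Cfsg.Agent.Lib.Helper16.GF Cfsg.Agent.Lib.Helper16.GS Cfsg.Agent.Lib.Helper16.OSemi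

universe u w

section
variable {n : ℕ} {F₀ : Type w} [Field F₀] [Fintype F₀]

/-- the centraliser of an orthogonal-type graph automorphism of `PSL_n` is not `PGSp`. -/
theorem not_cent_symm_equiv_PGSp (h2 : (2 : F₀) ≠ 0) (hq3 : 3 ≤ Fintype.card F₀) {m : ℕ} (hm2 : 2 ≤ m)
    (hnm : n = 2 * m) (U : GL (Fin n) F₀) (hsymm : (U : Matrix (Fin n) (Fin n) F₀)ᵀ = U) :
    ¬ Nonempty (↥(Cfsg.inndiagPSL n F₀ ⊓ Subgroup.centralizer {Phi n F₀ U⁻¹ * iota n F₀}) ≃* Cfsg.PGSp m F₀) := by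
  rintro ⟨e2⟩
  have hm1 : 1 ≤ m := by omega
  have hnd := gramQ_nondeg h2 (U : Matrix (Fin n) (Fin n) F₀) hsymm ⟨U, rfl⟩
  have hcard : Fintype.card (Fin n) = 2 * m := by rw [Fintype.card_fin, hnm]
  obtain ⟨e0⟩ := cent_graph_equiv (U⁻¹ : GL (Fin n) F₀)
  rw [inv_inv, bilSim_eq_quadSim h2 _ hsymm] at e0
  rcases classify hm1 hcard (gramQ (U : Matrix (Fin n) (Fin n) F₀)) hnd with ⟨Φ, hΦ⟩ | ⟨ζ, hζ, Φ, hΦ⟩
  · obtain ⟨e1⟩ := pgo_congr (fun v => gramQ (U : Matrix (Fin n) (Fin n) F₀) v) (Cfsg.quadFormPlus m F₀) Φ 1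
      one_ne_zero (fun v => by rw [one_mul]; exact hΦ v)
    exact not_PGO_plus_equiv_PGSp hq3 m hm2 ⟨e1.symm.trans (e0.symm.trans e2)⟩
  · obtain ⟨e1⟩ := pgo_congr (fun v => gramQ (U : Matrix (Fin n) (Fin n) F₀) v)
      (Cfsg.quadFormMinus (m - 1) F₀ 1 ζ) Φ 1 one_ne_zero (fun v => by rw [one_mul]; exact hΦ v)
    exact not_PGO_minus_equiv_PGSp hq3 m hm2 1 ζ (aniso_of_irred ζ hζ) ⟨e1.symm.trans (e0.symm.trans e2)⟩

end

section
variable {n : ℕ} {F : Type u} [Field F] [Fintype F] {q : ℕ}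

theorem S2709_aux (hF : Fintype.card F = q ^ 2) (hn : 3 ≤ n) (F₀ : Type w) [Field F₀] [Fintype F₀]
    (hF₀ : Fintype.card F₀ = q) (γ : MulAut (Cfsg.PSU n F q)) (hγ : Cfsg.IsGraphAutClassPSU γ)
    (hγ2 : orderOf γ = 2) :
    ((Even n ∧ Odd q ∧ Nonempty (↥(Cfsg.inndiagPSU n F q ⊓ Subgroup.centralizer {γ}) ≃* Cfsg.PGSp (n / 2) F₀)) →
      Cfsg.splitClassCount (Cfsg.inndiagPSU n F q) (Cfsg.Inn (Cfsg.PSU n F q)) γ = Nat.gcd (n / 2) (q + 1)) ∧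
    ((Even n ∧ Odd q ∧ ¬ Nonempty (↥(Cfsg.inndiagPSU n F q ⊓ Subgroup.centralizer {γ}) ≃* Cfsg.PGSp (n / 2) F₀)) →
      Cfsg.splitClassCount (Cfsg.inndiagPSU n F q) (Cfsg.Inn (Cfsg.PSU n F q)) γ = Nat.gcd n (q + 1) / 2) ∧
    (¬ (Even n ∧ Odd q) →
      Cfsg.splitClassCount (Cfsg.inndiagPSU n F q) (Cfsg.Inn (Cfsg.PSU n F q)) γ = Nat.gcd n (q + 1)) := by
  obtain ⟨alg, -⟩ := Cfsg.Agent.Lib.Helper16.exists_algebra_of_card hF hF₀
  let _ := alg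
  obtain ⟨σ, hσ⟩ := exists_bar hF
  have hn1 : 1 ≤ n := by omega
  obtain ⟨X, U, rfl, hD, hL, hL2⟩ := psu_to_psl (F₀ := F₀) hF hF₀ σ hσ γ hγ hγ2
  have hsq : (Phi n F₀ U⁻¹ * iota n F₀) * (Phi n F₀ U⁻¹ * iota n F₀) = 1 := by
    rw [← pow_two, ← hL2]
    exact pow_orderOf_eq_one _
  rw [graph_sq_eq_one_iff, inv_inv] at hsq
  obtain ⟨c, hc⟩ := hsq
  obtain ⟨eT⟩ := cent_transfer hF hF₀ hn σ hσ X U hD
  have hcase : Even n → Odd q → ∃ m : ℕ, 2 ≤ m ∧ n = 2 * m ∧ n / 2 = m ∧ (2 : F₀) ≠ 0 ∧ 3 ≤ Fintype.card F₀ := by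
    intro heven hqodd
    obtain ⟨m, hm⟩ := heven
    have hoddq : Odd (Fintype.card F₀) := by rw [hF₀]; exact hqodd
    have hq2 := q_ge_two' hF
    have hq3 : 3 ≤ Fintype.card F₀ := by
      rw [hF₀]
      rcases hqodd with ⟨k, hk⟩
      omega
    exact ⟨m, by omega, by omega, by omega, PG.two_ne_zero_of_odd_card hoddq, hq3⟩
  have halt_of_skew : (2 : F₀) ≠ 0 → (c : F₀) = -1 → ∀ v, bilM (U : Matrix (Fin n) (Fin n) F₀) v v = 0 := by
    intro h2 h1 v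
    have hskew : (U : Matrix (Fin n) (Fin n) F₀)ᵀ = -(U : Matrix (Fin n) (Fin n) F₀) := by
      rw [hc, h1, neg_smul, one_smul]
    have h3 : bilM (U : Matrix (Fin n) (Fin n) F₀) v v = -bilM (U : Matrix (Fin n) (Fin n) F₀) v v := by
      unfold bilM
      nth_rewrite 1 [Matrix.dotProduct_mulVec, dotProduct_comm, ← Matrix.mulVec_transpose, hskew]
      rw [Matrix.neg_mulVec, dotProduct_neg]
    have h4 : 2 * bilM (U : Matrix (Fin n) (Fin n) F₀) v v = 0 := by linear_combination h3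
    exact (mul_eq_zero.mp h4).resolve_left h2
  refine ⟨?_, ?_, ?_⟩
  · rintro ⟨heven, hqodd, hiso⟩
    obtain ⟨m, hm2, hnm, hn2, h2, hq3⟩ := hcase heven hqodd
    rw [hn2] at hiso ⊢
    rcases transpose_scalar_cases U hn1 c hc with h1 | h1
    · exfalso
      have hsymm : (U : Matrix (Fin n) (Fin n) F₀)ᵀ = U := by rw [hc, h1, one_smul]
      obtain ⟨e2⟩ := hiso
      exact not_cent_symm_equiv_PGSp h2 hq3 hm2 hnm U hsymm ⟨eT.symm.trans e2⟩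
    · obtain ⟨T, hT⟩ := exists_sympl_equiv hnm U (halt_of_skew h2 h1)
      exact count_case_b hF hF₀ hn σ hσ X U hD hnm T hT
  · rintro ⟨heven, hqodd, hniso⟩
    obtain ⟨m, hm2, hnm, hn2, h2, hq3⟩ := hcase heven hqodd
    rcases transpose_scalar_cases U hn1 c hc with h1 | h1
    · have hsymm : (U : Matrix (Fin n) (Fin n) F₀)ᵀ = U := by rw [hc, h1, one_smul]
      exact count_case_c hF hF₀ hn σ hσ X U hD hqodd (by omega) hnm hsymm
    · exfalso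
      apply hniso
      obtain ⟨T, hT⟩ := exists_sympl_equiv hnm U (halt_of_skew h2 h1)
      rw [hn2]
      obtain ⟨e3⟩ := cent_sympl T U hT
      exact ⟨eT.trans e3⟩
  · intro hne
    exact count_case_a hF hF₀ hn σ hσ X U hD hne

end

end Cfsg.Agent.Lib.Helper16.US
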