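import Mathlib
import Cfsg.Agent.Lib.Helper16.UDet

set_option autoImplicit false
set_option linter.unusedSectionVars false
set_option linter.unusedSimpArgs false
set_option linter.unusedVariables false

namespace Cfsg.Agent.Lib.Helper16.RN

open Matrix Module

variable {K : Type*} [Field K] {n : ℕ}

/-- scalar units. -/
def scalU (n : ℕ) (c : Kˣ) : (Matrix (Fin n) (Fin n) K)ˣ :=
  ⟨(c : K) • 1, ((c⁻¹ : Kˣ) : K) • 1, by
    rw [Matrix.smul_mul, Matrix.mul_smul, mul_one, smul_smul, Units.mul_inv, one_smul], by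
    rw [Matrix.smul_mul, Matrix.mul_smul, mul_one, smul_smul, Units.inv_mul, one_smul]⟩

theorem scalU_val (c : Kˣ) : (scalU n c).1 = (c : K) • (1 : Matrix (Fin n) (Fin n) K) := rfl

theorem scalU_central (c : Kˣ) (g : (Matrix (Fin n) (Fin n) K)ˣ) : scalU n c * g = g * scalU n c := by
  apply Units.ext
  rw [Units.val_mul, Units.val_mul, scalU_val, Matrix.smul_mul, Matrix.mul_smul, one_mul, mul_one]

theorem scalU_det (c : Kˣ) : (scalU n c).1.det = (c : K) ^ n := by
  rw [scalU_val, Matrix.det_smul, Matrix.det_one, mul_one, Fintype.card_fin]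

theorem scalU_unitary (A : AdjData (Fin n) K) (c : Kˣ) (hc : A.σ (c : K) * c = 1) :
    A.adjU (scalU n c) * scalU n c = 1 := by
  apply Units.ext
  rw [Units.val_mul, A.adjU_val, scalU_val, A.smul', A.one', Matrix.smul_mul, Matrix.mul_smul,
    mul_one, smul_smul, hc, one_smul]
  rfl

/-- the diagonal unit `diag(c,1,…,1)`. -/
def diagU (k : ℕ) (c : Kˣ) : (Matrix (Fin (k + 1)) (Fin (k + 1)) K)ˣ :=
  ⟨Matrix.diagonal (fun i => if i = 0 then (c : K) else 1),
    Matrix.diagonal (fun i => if i = 0 then ((c⁻¹ : Kˣ) : K) else 1), by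
    rw [Matrix.diagonal_mul_diagonal, ← Matrix.diagonal_one]
    congr 1
    funext i
    by_cases hi : i = 0 <;> simp [hi], by
    rw [Matrix.diagonal_mul_diagonal, ← Matrix.diagonal_one]
    congr 1
    funext i
    by_cases hi : i = 0 <;> simp [hi]⟩

theorem diagU_det (k : ℕ) (c : Kˣ) : (diagU k c).1.det = (c : K) := by
  show (Matrix.diagonal (fun i : Fin (k + 1) => if i = 0 then (c : K) else 1)).det = _
  rw [Matrix.det_diagonal, Finset.prod_ite_eq' Finset.univ (0 : Fin (k + 1)) (fun _ => (c : K))]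
  simp

theorem diagU_unitary (k : ℕ) (σ : K →+* K) (hσσ : ∀ x, σ (σ x) = x) (c : Kˣ)
    (hc : σ (c : K) * c = 1) :
    (uAdj (k + 1) σ hσσ).adjU (diagU k c) * diagU k c = 1 := by
  apply Units.ext
  show (uAdj (k + 1) σ hσσ).adj (Matrix.diagonal (fun i : Fin (k + 1) => if i = 0 then (c : K) else 1))
    * Matrix.diagonal (fun i : Fin (k + 1) => if i = 0 then (c : K) else 1) = 1
  rw [uAdj_apply, Matrix.diagonal_map (map_zero σ), Matrix.diagonal_transpose,
    Matrix.diagonal_mul_diagonal, ← Matrix.diagonal_one]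
  congr 1
  funext i
  by_cases hi : i = 0
  · simp [hi, hc]
  · simp [hi]

theorem det_unitary_pow {q : ℕ} (σ : K →+* K) (hσ : ∀ x, σ x = x ^ q) (hσσ : ∀ x, σ (σ x) = x)
    (y : (Matrix (Fin n) (Fin n) K)ˣ) (hy : (uAdj n σ hσσ).adjU y * y = 1) :
    σ y.1.det * y.1.det = 1 := by
  have h1 := congrArg (fun w : (Matrix (Fin n) (Fin n) K)ˣ => w.1.det) hy
  simp only [Units.val_mul, Matrix.det_mul, Units.val_one, Matrix.det_one] at h1
  rw [AdjData.adjU_val, uAdj_apply, Matrix.det_transpose] at h1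
  rw [← h1]
  congr 1
  exact RingHom.map_det σ y.1

end Cfsg.Agent.Lib.Helper16.RN
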