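import Mathlib
import Cfsg.Agent.Lib.Helper16.UUnits

set_option autoImplicit false
set_option linter.unusedSectionVars false
set_option linter.unusedSimpArgs false
set_option linter.unusedVariables false

namespace Cfsg.Agent.Lib.Helper16.RN

open Matrix Module

variable {K : Type*} [Field K]

theorem su_reg_classes [Fintype K] {q : ℕ} (k : ℕ) (hK : Fintype.card K = q ^ 2) (hk : 1 ≤ k) :
    Nat.card {C : ConjClasses ↥(Cfsg.SU (k + 1) K q) //
      ∃ u : ↥(Cfsg.SU (k + 1) K q), ConjClasses.mk u = C ∧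
        (((u : GL (Fin (k + 1)) K) : Matrix (Fin (k + 1)) (Fin (k + 1)) K) - 1) ^ (k + 1) = 0 ∧
        (((u : GL (Fin (k + 1)) K) : Matrix (Fin (k + 1)) (Fin (k + 1)) K) - 1).rank = k + 1 - 1}
      = Nat.gcd (k + 1) (q + 1) := by
  classical
  obtain ⟨σ, hσ⟩ := Cfsg.Agent.Lib.Lead.exists_frob hK
  have hσσ := Cfsg.Agent.Lib.Lead.frob_frob hK σ hσ
  obtain ⟨A, hA⟩ : ∃ A, A = uAdj (k + 1) σ hσσ := ⟨_, rfl⟩
  have hAσ : A.σ = σ := by rw [hA]; rfl
  obtain ⟨θ, hθ0⟩ := Cfsg.Agent.Lib.Lead.HI.exists_theta hK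
  have hθ : θ + A.σ θ = 1 := by rw [hAσ, hσ]; exact hθ0
  have hq1 : 1 ≤ q := by
    by_contra hcon
    have : q = 0 := by omega
    subst this
    have := Fintype.card_pos (α := K)
    omega
  have hN : ∀ r : K, A.σ r = r → r ≠ 0 → ∃ c, A.σ c * c = r := by
    intro r hr hr0
    rw [hAσ, hσ] at hr
    have h1 : (Units.mk0 r hr0) ^ (q - 1) = 1 := by
      apply Units.ext
      rw [Units.val_pow_eq_pow_val, Units.val_mk0, Units.val_one]
      have h2 : r ^ (q - 1) * r = r := by rw [← pow_succ, Nat.sub_add_cancel hq1, hr]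
      have h3 : (r ^ (q - 1) - 1) * r = 0 := by rw [sub_mul, h2, one_mul, sub_self]
      exact sub_eq_zero.mp ((mul_eq_zero.mp h3).resolve_right hr0)
    obtain ⟨μ, hμ⟩ := norm_surj hK (Units.mk0 r hr0) h1
    refine ⟨(μ : K), ?_⟩
    rw [hAσ, hσ, ← pow_succ]
    have := congrArg Units.val hμ
    rw [Units.val_pow_eq_pow_val, Units.val_mk0] at this
    exact this
  have hcard : Fintype.card (Fin (k + 1)) = k + 1 := Fintype.card_fin _
  obtain ⟨U₀m, hU₀1, hU₀nil, hU₀rank⟩ := exists_reg_unip_gu (n := k + 1) hK (by omega) σ hσ hσσ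
  rw [← hA] at hU₀1
  have hU₀rank' : (U₀m - 1).rank = k := by rw [hU₀rank]; omega
  obtain ⟨U₀, hU₀⟩ : ∃ U₀ : (Matrix (Fin (k + 1)) (Fin (k + 1)) K)ˣ, U₀.1 = U₀m :=
    ⟨⟨U₀m, A.adj U₀m, hU₀1, mul_eq_one_comm.mp hU₀1⟩, rfl⟩
  have hU₀adj : U₀ * A.adjU U₀ = 1 := by
    apply Units.ext
    rw [Units.val_mul, A.adjU_val, hU₀]
    exact hU₀1
  obtain ⟨ht_nil, ht_rank, ht_adj, ht_comm⟩ :=
    unitary_reg_data A θ hθ U₀m hU₀1 k hcard hU₀nil hU₀rank'
  obtain ⟨t, ht⟩ : ∃ t, t = θ • (U₀m - 1) - A.σ θ • (A.adj U₀m - 1) := ⟨_, rfl⟩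
  rw [← ht] at ht_nil ht_rank ht_adj ht_comm
  obtain ⟨v, hv⟩ := exists_cyclic k t hcard ht_nil ht_rank
  have hcomm : ∀ g : Matrix (Fin (k + 1)) (Fin (k + 1)) K, Commute g U₀.1 ↔ Commute g t := by
    rw [hU₀]; exact ht_comm
  have hsu : ∀ u : ↥(Cfsg.SU (k + 1) K q), u.1.1 * A.adj u.1.1 = 1 := by
    intro u
    have h1 : ∀ x y, Cfsg.hermForm (k + 1) K q (u.1.1 *ᵥ x) (u.1.1 *ᵥ y)
        = Cfsg.hermForm (k + 1) K q x y := u.2
    rw [Cfsg.Agent.Lib.Lead.preserves_iff σ hσ] at h1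
    have h2 := congrArg Matrix.transpose h1
    rw [Matrix.transpose_mul, Matrix.transpose_transpose, Matrix.transpose_one] at h2
    rw [hA, uAdj_apply]
    exact mul_eq_one_comm.mp h2
  have hpres : ∀ g : Matrix (Fin (k + 1)) (Fin (k + 1)) K, A.adj g * g = 1 →
      ∀ x y, Cfsg.hermForm (k + 1) K q (g *ᵥ x) (g *ᵥ y) = Cfsg.hermForm (k + 1) K q x y := by
    intro g hg
    rw [Cfsg.Agent.Lib.Lead.preserves_iff σ hσ]
    rw [hA, uAdj_apply] at hg
    have h2 := congrArg Matrix.transpose hg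
    rw [Matrix.transpose_mul, Matrix.transpose_transpose, Matrix.transpose_one] at h2
    exact h2
  let suU : ↥(Cfsg.SU (k + 1) K q) → (Matrix (Fin (k + 1)) (Fin (k + 1)) K)ˣ := fun u =>
    ⟨u.1.1, A.adj u.1.1, hsu u, mul_eq_one_comm.mp (hsu u)⟩
  have hsuU_val : ∀ u, (suU u).1 = u.1.1 := fun u => rfl
  have hsuU_adj : ∀ u, suU u * A.adjU (suU u) = 1 := fun u => Units.ext (hsu u)
  have hsuU_adj' : ∀ u, A.adjU (suU u) * suU u = 1 := fun u =>
    Units.ext (mul_eq_one_comm.mp (hsu u))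
  have hsuU_mul : ∀ u w, suU (u * w) = suU u * suU w := fun u w => Units.ext rfl
  have hex : ∀ C : {C : ConjClasses ↥(Cfsg.SU (k + 1) K q) //
      ∃ u : ↥(Cfsg.SU (k + 1) K q), ConjClasses.mk u = C ∧
        (((u : GL (Fin (k + 1)) K) : Matrix (Fin (k + 1)) (Fin (k + 1)) K) - 1) ^ (k + 1) = 0 ∧
        (((u : GL (Fin (k + 1)) K) : Matrix (Fin (k + 1)) (Fin (k + 1)) K) - 1).rank = k + 1 - 1},
      ∃ (u : ↥(Cfsg.SU (k + 1) K q)) (y : (Matrix (Fin (k + 1)) (Fin (k + 1)) K)ˣ),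
        ConjClasses.mk u = C.1 ∧ A.adjU y * y = 1 ∧ y * U₀ = suU u * y := by
    rintro ⟨C, u, hu, hnil, hrank⟩
    have hnil' : (u.1.1 - 1) ^ (k + 1) = 0 := hnil
    have hrank' : (u.1.1 - 1).rank = k := by
      have : (u.1.1 - 1).rank = k + 1 - 1 := hrank
      rw [this]; omega
    obtain ⟨x, hxu, hxN⟩ :=
      exists_intertwiner k (U₀m - 1) (u.1.1 - 1) hcard hU₀nil hU₀rank' hnil' hrank'
    obtain ⟨X, hX⟩ := hxu
    have hXU : X * U₀ = suU u * X := by
      apply Units.ext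
      show X.1 * U₀.1 = u.1.1 * X.1
      rw [hX, hU₀]
      have h3 := hxN
      rw [mul_sub, sub_mul, mul_one, one_mul] at h3
      exact sub_left_inj.mp h3
    obtain ⟨y, hy1, hy2⟩ := exists_unitary_intertwiner A k t hcard ht_nil v hv ht_adj θ hθ hN U₀
      hU₀adj hcomm (suU u) X (hsuU_adj u) hXU
    exact ⟨u, y, hu, hy1, hy2⟩
  choose uC yC hmk hyC1 hyC2 using hex
  have hσpow : ∀ x : K, A.σ x * x = x ^ (q + 1) := by
    intro x
    rw [hAσ, hσ, ← pow_succ]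
  have hdetU : ∀ y : (Matrix (Fin (k + 1)) (Fin (k + 1)) K)ˣ, A.adjU y * y = 1 →
      y.1.det ^ (q + 1) = 1 := by
    intro y hy
    rw [hA] at hy
    have := det_unitary_pow σ hσ hσσ y hy
    rw [hσ, ← pow_succ] at this
    exact this
  have hdetne : ∀ y : (Matrix (Fin (k + 1)) (Fin (k + 1)) K)ˣ, y.1.det ≠ 0 := by
    intro y
    exact ((Matrix.isUnit_iff_isUnit_det _).mp y.isUnit).ne_zero
  obtain ⟨μ, hμ⟩ : ∃ μ : Subgroup Kˣ, μ = (powMonoidHom (q + 1) : Kˣ →* Kˣ).ker := ⟨_, rfl⟩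
  have hμmem : ∀ c : Kˣ, c ∈ μ ↔ (c : K) ^ (q + 1) = 1 := by
    intro c
    rw [hμ, MonoidHom.mem_ker, powMonoidHom_apply, ← Units.val_pow_eq_pow_val]
    exact ⟨fun h => by rw [h]; rfl, fun h => Units.ext h⟩
  have hμcard : Nat.card ↥μ = q + 1 := by rw [hμ]; exact card_norm_ker hK
  obtain ⟨H, hH⟩ : ∃ H : Subgroup ↥μ, H = (powMonoidHom (k + 1) : ↥μ →* ↥μ).range := ⟨_, rfl⟩
  have hdetμ : ∀ y : (Matrix (Fin (k + 1)) (Fin (k + 1)) K)ˣ, A.adjU y * y = 1 →
      Units.mk0 y.1.det (hdetne y) ∈ μ := by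
    intro y hy
    rw [hμmem, Units.val_mk0]
    exact hdetU y hy
  let dC : {C : ConjClasses ↥(Cfsg.SU (k + 1) K q) //
      ∃ u : ↥(Cfsg.SU (k + 1) K q), ConjClasses.mk u = C ∧
        (((u : GL (Fin (k + 1)) K) : Matrix (Fin (k + 1)) (Fin (k + 1)) K) - 1) ^ (k + 1) = 0 ∧
        (((u : GL (Fin (k + 1)) K) : Matrix (Fin (k + 1)) (Fin (k + 1)) K) - 1).rank = k + 1 - 1} → ↥μ :=
    fun C => ⟨Units.mk0 (yC C).1.det (hdetne _), hdetμ _ (hyC1 C)⟩
  have hdC : ∀ C, ((dC C : Kˣ) : K) = (yC C).1.det := fun C => rfl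
  let ψ : {C : ConjClasses ↥(Cfsg.SU (k + 1) K q) //
      ∃ u : ↥(Cfsg.SU (k + 1) K q), ConjClasses.mk u = C ∧
        (((u : GL (Fin (k + 1)) K) : Matrix (Fin (k + 1)) (Fin (k + 1)) K) - 1) ^ (k + 1) = 0 ∧
        (((u : GL (Fin (k + 1)) K) : Matrix (Fin (k + 1)) (Fin (k + 1)) K) - 1).rank = k + 1 - 1} → ↥μ ⧸ H :=
    fun C => QuotientGroup.mk (dC C)
  have hmkSU : ∀ g : (Matrix (Fin (k + 1)) (Fin (k + 1)) K)ˣ, A.adjU g * g = 1 → g.1.det = 1 →
      ∃ w : ↥(Cfsg.SU (k + 1) K q), suU w = g := by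
    intro g hg hdet
    exact ⟨⟨⟨g.1, hdet⟩, hpres g.1 (congrArg Units.val hg)⟩, Units.ext rfl⟩
  have hψ : Function.Bijective ψ := by
    constructor
    · intro C C' hCC'
      have h1 : (dC C)⁻¹ * dC C' ∈ H := QuotientGroup.eq.mp hCC'
      rw [hH] at h1
      obtain ⟨b, hb⟩ := h1
      have hb' : (yC C').1.det = (yC C).1.det * ((b : Kˣ) : K) ^ (k + 1) := by
        have h3 := congrArg (fun z : ↥μ => ((z : Kˣ) : K)) hb
        simp only [powMonoidHom_apply, Subgroup.coe_pow, Units.val_pow_eq_pow_val, Subgroup.coe_mul,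
          Units.val_mul, Subgroup.coe_inv, Units.val_inv_eq_inv_val, hdC] at h3
        rw [h3]
        field_simp [hdetne (yC C)]
      have hbμ : ((b : Kˣ) : K) ^ (q + 1) = 1 := (hμmem _).mp b.2
      have hbinv : A.σ (((b : Kˣ)⁻¹ : Kˣ) : K) * (((b : Kˣ)⁻¹ : Kˣ) : K) = 1 := by
        rw [hσpow, Units.val_inv_eq_inv_val, inv_pow, hbμ, inv_one]
      obtain ⟨S, hS⟩ : ∃ S, S = scalU (k + 1) ((b : Kˣ)⁻¹) := ⟨_, rfl⟩
      have hS1 : A.adjU S * S = 1 := by rw [hS]; exact scalU_unitary A _ hbinv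
      have hSc : ∀ g, S * g = g * S := by rw [hS]; exact scalU_central _
      have hSdet : S.1.det = (((b : Kˣ) : K) ^ (k + 1))⁻¹ := by
        rw [hS, scalU_det, Units.val_inv_eq_inv_val, inv_pow]
      obtain ⟨g, hg⟩ : ∃ g, g = yC C' * S * (yC C)⁻¹ := ⟨_, rfl⟩
      have hadjy : A.adjU (yC C) = (yC C)⁻¹ := eq_inv_of_mul_eq_one_left (hyC1 C)
      have hadjy' : A.adjU (yC C') = (yC C')⁻¹ := eq_inv_of_mul_eq_one_left (hyC1 C')
      have hadjS : A.adjU S = S⁻¹ := eq_inv_of_mul_eq_one_left hS1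
      have hg1 : A.adjU g * g = 1 := by
        rw [hg, A.adjU_mul, A.adjU_mul, A.adjU_inv, hadjy, hadjy', hadjS]
        group
      have hgdet : g.1.det = 1 := by
        rw [hg, Units.val_mul, Units.val_mul, Matrix.det_mul, Matrix.det_mul, hSdet, hb']
        have h5 : ((yC C)⁻¹).1.det = ((yC C).1.det)⁻¹ := by
          have h6 : (yC C).1.det * ((yC C)⁻¹).1.det = 1 := by
            rw [← Matrix.det_mul, ← Units.val_mul, mul_inv_cancel, Units.val_one, Matrix.det_one]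
          exact eq_inv_of_mul_eq_one_right h6
        rw [h5]
        have hbne : ((b : Kˣ) : K) ^ (k + 1) ≠ 0 := pow_ne_zero _ (Units.ne_zero _)
        field_simp [hdetne (yC C)]
      have hgU : g * suU (uC C) = suU (uC C') * g := by
        have h7 : suU (uC C) = yC C * U₀ * (yC C)⁻¹ := by rw [hyC2 C]; group
        have h8 : suU (uC C') = yC C' * U₀ * (yC C')⁻¹ := by rw [hyC2 C']; group
        rw [h7, h8, hg]
        have h9 : yC C' * S * (yC C)⁻¹ * (yC C * U₀ * (yC C)⁻¹) = yC C' * (S * U₀) * (yC C)⁻¹ := by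
          group
        rw [h9, hSc U₀]
        group
      obtain ⟨w, hw⟩ := hmkSU g hg1 hgdet
      have hconj : IsConj (uC C) (uC C') := by
        apply isConj_iff.mpr
        refine ⟨w, ?_⟩
        apply mul_inv_eq_of_eq_mul
        apply Subtype.ext
        apply Subtype.ext
        have h10 := congrArg Units.val hgU
        rw [← hw] at h10
        exact h10
      apply Subtype.ext
      rw [← hmk C, ← hmk C']
      exact ConjClasses.mk_eq_mk_iff_isConj.mpr hconj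
    · intro tq
      obtain ⟨a, rfl⟩ := QuotientGroup.mk_surjective tq
      have haμ : ((a : Kˣ) : K) ^ (q + 1) = 1 := (hμmem _).mp a.2
      obtain ⟨Y, hY⟩ : ∃ Y, Y = diagU k (a : Kˣ) := ⟨_, rfl⟩
      have hY1 : A.adjU Y * Y = 1 := by
        rw [hY, hA]
        apply diagU_unitary k σ hσσ
        rw [hσ, ← pow_succ]
        exact haμ
      have hYdet : Y.1.det = ((a : Kˣ) : K) := by rw [hY]; exact diagU_det k _
      obtain ⟨Uc, hUc⟩ : ∃ Uc, Uc = Y * U₀ * Y⁻¹ := ⟨_, rfl⟩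
      have hadjY : A.adjU Y = Y⁻¹ := eq_inv_of_mul_eq_one_left hY1
      have hadjU₀ : A.adjU U₀ = U₀⁻¹ := eq_inv_of_mul_eq_one_right hU₀adj
      have hUc1 : A.adjU Uc * Uc = 1 := by
        rw [hUc, A.adjU_mul, A.adjU_mul, A.adjU_inv, hadjY, hadjU₀]
        group
      have hU₀det : U₀.1.det = 1 := by
        rw [hU₀]
        have h3 := det_smul_one_add_nilp (1 : K) (U₀m - 1) ⟨k + 1, hU₀nil⟩
        rw [one_smul, add_sub_cancel, one_pow] at h3
        exact h3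
      have hUcdet : Uc.1.det = 1 := by
        rw [hUc, Units.val_mul, Units.val_mul, Matrix.det_mul, Matrix.det_mul, hU₀det, mul_one,
          ← Matrix.det_mul, ← Units.val_mul, mul_inv_cancel, Units.val_one, Matrix.det_one]
      obtain ⟨ua, hua⟩ := hmkSU Uc hUc1 hUcdet
      have hYUa : Y * U₀ = suU ua * Y := by
        rw [hua, hUc]; group
      have hconjN : ua.1.1 - 1 = Y.1 * (U₀m - 1) * (Y⁻¹).1 := by
        have h3 : ua.1.1 = Y.1 * U₀m * (Y⁻¹).1 := by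
          have := congrArg Units.val hua
          rw [hUc, Units.val_mul, Units.val_mul, hU₀] at this
          exact this
        rw [h3, mul_sub, sub_mul, mul_one, Units.mul_inv]
      have hua_nil : (ua.1.1 - 1) ^ (k + 1) = 0 := by
        rw [hconjN, Units.conj_pow, hU₀nil, mul_zero, zero_mul]
      have hua_rank : (ua.1.1 - 1).rank = k + 1 - 1 := by
        rw [hconjN, Matrix.rank_mul_eq_left_of_isUnit_det _ _
          ((Matrix.isUnit_iff_isUnit_det _).mp (Y⁻¹).isUnit),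
          Matrix.rank_mul_eq_right_of_isUnit_det _ _
          ((Matrix.isUnit_iff_isUnit_det _).mp Y.isUnit), hU₀rank]
      refine ⟨⟨ConjClasses.mk ua, ua, rfl, hua_nil, hua_rank⟩, ?_⟩
      obtain ⟨Ca, hCa⟩ : ∃ Ca : {C : ConjClasses ↥(Cfsg.SU (k + 1) K q) //
          ∃ u : ↥(Cfsg.SU (k + 1) K q), ConjClasses.mk u = C ∧
            (((u : GL (Fin (k + 1)) K) : Matrix (Fin (k + 1)) (Fin (k + 1)) K) - 1) ^ (k + 1) = 0 ∧
            (((u : GL (Fin (k + 1)) K) : Matrix (Fin (k + 1)) (Fin (k + 1)) K) - 1).rank = k + 1 - 1},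
          Ca = ⟨ConjClasses.mk ua, ua, rfl, hua_nil, hua_rank⟩ := ⟨_, rfl⟩
      rw [← hCa]
      show QuotientGroup.mk (dC Ca) = QuotientGroup.mk a
      rw [QuotientGroup.eq]
      have hconj : IsConj ua (uC Ca) := by
        have h3 : Ca.1 = ConjClasses.mk ua := by rw [hCa]
        have h4 := hmk Ca
        rw [h3] at h4
        exact (ConjClasses.mk_eq_mk_iff_isConj.mp h4).symm
      obtain ⟨g, hg⟩ := isConj_iff.mp hconj
      have hgU : suU g * suU ua = suU (uC Ca) * suU g := by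
        rw [← hsuU_mul, ← hsuU_mul]
        congr 1
        exact eq_mul_of_mul_inv_eq hg
      obtain ⟨e₀, he1, he2⟩ := det_rel_of_conj A k t hcard ht_nil v hv ht_adj U₀
        (fun g hg => (hcomm g).mp hg) (suU ua) (suU (uC Ca)) Y (yC Ca) (suU g) hY1 (hyC1 Ca)
        (hsuU_adj' g) hYUa (hyC2 Ca) hgU
      have hgdet : (suU g).1.det = 1 := g.1.2
      rw [hgdet, mul_one, hYdet, hcard] at he2
      have he0 : e₀ ≠ 0 := by
        rintro rfl
        rw [mul_zero] at he1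
        exact zero_ne_one he1
      have heμ : Units.mk0 e₀ he0 ∈ μ := by
        rw [hμmem, Units.val_mk0, ← hσpow]
        exact he1
      rw [hH]
      refine ⟨⟨Units.mk0 e₀ he0, heμ⟩, ?_⟩
      apply Subtype.ext
      apply Units.ext
      simp only [powMonoidHom_apply, Subgroup.coe_pow, Units.val_pow_eq_pow_val, Subgroup.coe_mul,
        Units.val_mul, Subgroup.coe_inv, Units.val_inv_eq_inv_val, hdC, Units.val_mk0]
      rw [he2]
      field_simp [hdetne (yC Ca)]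
  rw [Nat.card_eq_of_bijective ψ hψ]
  have hidx : Nat.card (↥μ ⧸ H) = H.index := rfl
  have hfin : Finite ↥μ := by
    apply Nat.finite_of_card_ne_zero
    rw [hμcard]; omega
  rw [hidx, hH, IsCyclic.index_powMonoidHom_range, hμcard, Nat.gcd_comm]

end Cfsg.Agent.Lib.Helper16.RN
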