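import Mathlib
import Cfsg.Agent.Lib.Lead.W2P.Defs

/-!
# Project W2P, piece SYL : the Sylow `p`-subgroups have order `p`
-/

set_option autoImplicit false
set_option linter.unusedVariables false
set_option linter.unusedSectionVars false
open scoped ComplexConjugate
open Classical

namespace Cfsg.Agent.Lib.Lead.W2P

open MulAction Cfsg.Agent.Lib.helper6.PermChar Cfsg.Agent.Lib.Helper25

universe u v

section A

variable {G : Type u} [Group G] [Fintype G] {Ω : Type v} [Fintype Ω] [DecidableEq Ω] [MulAction G Ω]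
  {p : ℕ} [Fact p.Prime]

/-- a `p`-subgroup `Q` all of whose elements of order `p` are fixed point free on a set of fewer than `p²`
points has order at most `p`... in the form: if `p ∣ |Stab_Q(a)|` there is an element of order `p` fixing `a`. -/
theorem w2psyl_exists_fix (Q : Subgroup G) (a : Ω)
    (h : p ∣ Nat.card (stabilizer (↥Q) a)) : ∃ g : G, orderOf g = p ∧ g • a = a := by
  obtain ⟨x, hx⟩ := exists_prime_orderOf_dvd_card' p h
  refine ⟨((x : ↥Q) : G), ?_, ?_⟩
  · rw [Subgroup.orderOf_coe, Subgroup.orderOf_coe]; exact hx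
  · have := x.2
    rw [mem_stabilizer_iff] at this
    exact this

/-- SYL : the Sylow `p`-subgroups have order `p` -/
theorem sylow_card_eq (hodd : p ≠ 2) (htr : IsPretransitive G Ω) (hcard : Fintype.card Ω = 2 * p)
    (hfpf : ∀ g : G, orderOf g = p → ∀ ω : Ω, g • ω ≠ ω) (P : Sylow p G) :
    Nat.card (P : Subgroup G) = p := by
  have hp : p.Prime := Fact.out
  have hp3 : 3 ≤ p := by
    have := hp.two_le
    omega
  have hΩ : Nonempty Ω := by
    rw [← Fintype.card_pos_iff, hcard]; omega
  obtain ⟨a⟩ := hΩ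
  -- `2p ∣ |G|`
  have horb : Nat.card (orbit G a) = 2 * p := by
    rw [MulAction.orbit_eq_univ, Nat.card_congr (Equiv.Set.univ Ω), Nat.card_eq_fintype_card, hcard]
  have hdvd : p ∣ Nat.card G := by
    have h1 := MulAction.card_orbit_mul_card_stabilizer_eq_card_group G a
    rw [← Nat.card_eq_fintype_card, ← Nat.card_eq_fintype_card, ← Nat.card_eq_fintype_card, horb] at h1
    rw [← h1]
    exact Dvd.intro_left _ (by ring : 2 * Nat.card (stabilizer G a) * p = 2 * p * Nat.card (stabilizer G a)) |>.trans (dvd_refl _)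
  have hpP : p ∣ Nat.card (P : Subgroup G) := P.dvd_card_of_dvd_card hdvd
  obtain ⟨k, hk⟩ := (P.2).exists_card_eq
  -- the `P`-orbit of `a`
  have hos := MulAction.card_orbit_mul_card_stabilizer_eq_card_group (↥(P : Subgroup G)) a
  rw [← Nat.card_eq_fintype_card, ← Nat.card_eq_fintype_card, ← Nat.card_eq_fintype_card] at hos
  by_contra hne
  -- `k ≥ 2`
  have hk2 : 2 ≤ k := by
    rcases k with _ | _ | k
    · rw [pow_zero] at hk; rw [hk] at hpP
      exact absurd (Nat.le_of_dvd one_pos hpP) (by omega)
    · rw [zero_add, pow_one] at hk; exact absurd hk hne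
    · omega
  -- orbit size is a power of `p` less than `p²`
  have hod : Nat.card (orbit (↥(P : Subgroup G)) a) ∣ p ^ k := by
    rw [← hk, ← hos]; exact Dvd.intro _ rfl
  obtain ⟨j, hjk, hj⟩ := (Nat.dvd_prime_pow hp).1 hod
  have hle : Nat.card (orbit (↥(P : Subgroup G)) a) ≤ 2 * p := by
    rw [← hcard, ← Nat.card_eq_fintype_card]
    exact Nat.card_le_card_of_injective (fun x => (x : Ω)) Subtype.val_injective
  have hj1 : j ≤ 1 := by
    by_contra hj2
    have hj2 : 2 ≤ j := by omega
    have : p ^ 2 ≤ p ^ j := Nat.pow_le_pow_right hp.pos hj2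
    have h3 : 3 * p ≤ p ^ 2 := by rw [sq]; exact Nat.mul_le_mul_right p hp3
    rw [hj] at hle
    omega
  -- so `p` divides the order of the stabilizer
  have hst : p ∣ Nat.card (stabilizer (↥(P : Subgroup G)) a) := by
    rw [hj, hk] at hos
    have hkj : k = j + (k - j) := by omega
    rw [hkj, pow_add] at hos
    have hpos : 0 < p ^ j := pow_pos hp.pos j
    have := Nat.eq_of_mul_eq_mul_left hpos hos
    rw [this]
    exact dvd_pow_self p (by omega)
  obtain ⟨g, hg, hga⟩ := w2psyl_exists_fix (P : Subgroup G) a hst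
  exact hfpf g hg a hga

end A

end Cfsg.Agent.Lib.Lead.W2P
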