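import Mathlib
import Cfsg.Agent.Lib.helper15.WB.Defs
import Cfsg.Agent.Lib.Helper21.WBRa

set_option autoImplicit false

/-!
# Project WB phase 2 (S2334), piece WB2-A: abstract Heisenberg lemma
-/

namespace Cfsg.Agent.Lib.Helper16.WB2A

open Matrix Cfsg.Agent.Lib.helper15.WB

/-- joint eigenvectors of a family of operators with pairwise distinct eigen-characters are
linearly independent -/
theorem li_of_joint_eigen {V : Type*} [AddCommGroup V] [Module ℂ V] {J ι : Type*}
    (T : J → V →ₗ[ℂ] V) (w : ι → V) (θ : ι → J → ℂ)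
    (hw : ∀ i j, T j (w i) = θ i j • w i) (hne : ∀ i, w i ≠ 0)
    (hdist : ∀ i i', i ≠ i' → ∃ j, θ i j ≠ θ i' j) : LinearIndependent ℂ w := by
  classical
  rw [linearIndependent_iff']
  intro s
  induction s using Finset.induction_on with
  | empty =>
    intro c _ i hi
    simp at hi
  | insert i0 s' hi0 ih =>
    intro c hsum
    rw [Finset.sum_insert hi0] at hsum
    have hs' : ∀ i ∈ s', c i = 0 := by
      intro i hi
      have hii0 : i ≠ i0 := by
        rintro rfl
        exact hi0 hi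
      obtain ⟨j, hj⟩ := hdist i i0 hii0
      -- apply `T j - θ i0 j`
      have h1 : ∑ i ∈ s', (c i * (θ i j - θ i0 j)) • w i = 0 := by
        have h2 := congrArg (T j) hsum
        rw [map_add, map_smul, hw, map_sum, map_zero] at h2
        have h3 : θ i0 j • (c i0 • w i0 + ∑ i ∈ s', c i • w i) = 0 := by rw [hsum, smul_zero]
        have h4 : (c i0 • θ i0 j • w i0 + ∑ i ∈ s', T j (c i • w i)) -
            θ i0 j • (c i0 • w i0 + ∑ i ∈ s', c i • w i) = 0 := by rw [h2, h3, sub_zero]
        rw [← h4, smul_add, Finset.smul_sum, smul_comm (c i0), add_sub_add_left_eq_sub,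
          ← Finset.sum_sub_distrib]
        refine Finset.sum_congr rfl fun a _ => ?_
        rw [map_smul, hw, smul_smul, smul_smul, ← sub_smul]
        congr 1
        ring
      have h5 := ih _ h1 i hi
      rcases mul_eq_zero.1 h5 with h6 | h6
      · exact h6
      · exact absurd (sub_eq_zero.1 h6) hj
    intro i hi
    rcases Finset.mem_insert.1 hi with rfl | hi'
    · have h7 : ∑ i ∈ s', c i • w i = 0 :=
        Finset.sum_eq_zero fun a ha => by rw [hs' a ha, zero_smul]
      rw [h7, add_zero] at hsum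
      rcases smul_eq_zero.1 hsum with h8 | h8
      · exact h8
      · exact absurd h8 (hne i)
    · exact hs' i hi'

section A

variable {G : Type*} [Group G] [Finite G] {V : Type*} [AddCommGroup V] [Module ℂ V]
  [FiniteDimensional ℂ V] {U : Type*} [AddCommGroup U] [Finite U]

theorem heis_abstract (ρ : Representation ℂ G V) (φ : U → G) (ψ : AddChar U ℂ)
    (hψ : ψ ∈ Occ ρ φ)
    {J : Type*} (x : J → G) (hx : ∀ j j', x j * x j' = x j' * x j)
    (hxφ : ∀ j a, φ a * x j = x j * φ a)
    {ι : Type*} [Fintype ι] (g : ι → G) (hgφ : ∀ i a, φ a * g i = g i * φ a)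
    (ζ : ι → J → U) (hζ : ∀ i j, x j * g i = g i * x j * φ (ζ i j))
    (hdist : ∀ i i', i ≠ i' → ∃ j, ψ (ζ i j) ≠ ψ (ζ i' j)) :
    Fintype.card ι ≤ Module.finrank ℂ (eig ρ φ ψ) := by
  classical
  -- the abelian group generated by the `x j`
  let K : Subgroup G := Subgroup.closure (Set.range x)
  have hKcomm : ∀ a ∈ Set.range x, ∀ b ∈ Set.range x, a * b = b * a := by
    rintro _ ⟨j, rfl⟩ _ ⟨j', rfl⟩
    exact hx j j'
  let _ : CommGroup ↥K := Subgroup.closureCommGroupOfComm hKcomm
  let φ' : Additive ↥K → G := fun b => ((Additive.toMul b : ↥K) : G)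
  have hφ' : ∀ a b, φ' (a + b) = φ' a * φ' b := by
    intro a b
    rfl
  have hcomm : ∀ a b, φ a * φ' b = φ' b * φ a := by
    intro a b
    have hle : K ≤ Subgroup.centralizer {φ a} := by
      refine (Subgroup.closure_le _).2 ?_
      rintro _ ⟨j, rfl⟩
      rw [SetLike.mem_coe, Subgroup.mem_centralizer_iff]
      intro h hh
      rw [Set.mem_singleton_iff] at hh
      rw [hh]
      exact hxφ j a
    have hb := hle (Additive.toMul b).2
    rw [Subgroup.mem_centralizer_iff] at hb
    exact hb (φ a) (Set.mem_singleton _)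
  obtain ⟨μ, v, hv0, hvφ, hvx⟩ :=
    Cfsg.Agent.Lib.Helper21.WBRa.exists_joint ρ φ φ' hφ' hcomm hψ
  -- eigenvalues of the `x j` on `v`
  let bj : J → Additive ↥K := fun j =>
    Additive.ofMul (⟨x j, Subgroup.subset_closure ⟨j, rfl⟩⟩ : ↥K)
  have hxv : ∀ j, ρ (x j) v = μ (bj j) • v := fun j => hvx (bj j)
  have hinv : ∀ (h : G) (u : V), ρ h u = 0 → u = 0 := by
    intro h u hu
    have : ρ h⁻¹ (ρ h u) = u := by
      rw [← Module.End.mul_apply, ← map_mul, inv_mul_cancel, map_one, Module.End.one_apply]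
    rw [← this, hu, map_zero]
  have hμ0 : ∀ j, μ (bj j) ≠ 0 := by
    intro j h0
    have := hxv j
    rw [h0, zero_smul] at this
    exact hv0 (hinv _ _ this)
  -- the vectors `w i`
  have hwφ : ∀ i a, ρ (φ a) (ρ (g i) v) = ψ a • ρ (g i) v := by
    intro i a
    rw [← Module.End.mul_apply, ← map_mul, hgφ i a, map_mul, Module.End.mul_apply, hvφ a, map_smul]
  have hwx : ∀ i j, ρ (x j) (ρ (g i) v) = (ψ (ζ i j) * μ (bj j)) • ρ (g i) v := by
    intro i j
    rw [← Module.End.mul_apply, ← map_mul, hζ i j, map_mul, map_mul, Module.End.mul_apply,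
      Module.End.mul_apply, hvφ, map_smul, hxv, map_smul, map_smul, smul_smul]
  have hw0 : ∀ i, ρ (g i) v ≠ 0 := fun i h => hv0 (hinv _ _ h)
  have hli : LinearIndependent ℂ (fun i => ρ (g i) v) := by
    refine li_of_joint_eigen (fun j => ρ (x j)) (fun i => ρ (g i) v)
      (fun i j => ψ (ζ i j) * μ (bj j)) hwx hw0 ?_
    intro i i' hii'
    obtain ⟨j, hj⟩ := hdist i i' hii'
    refine ⟨j, fun h => hj ?_⟩
    exact mul_right_cancel₀ (hμ0 j) h
  let w' : ι → ↥(eig ρ φ ψ) := fun i => ⟨ρ (g i) v, fun a => hwφ i a⟩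
  have hli' : LinearIndependent ℂ w' := by
    apply LinearIndependent.of_comp (eig ρ φ ψ).subtype
    exact hli
  exact hli'.fintype_card_le_finrank

end A

end Cfsg.Agent.Lib.Helper16.WB2A
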