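import Mathlib
import Cfsg.Agent.Lib.Lead.SLn

set_option autoImplicit false

/-!
# Project WB phase 2 (S2334), piece WB2-D: induction principle for invertible matrices
-/

namespace Cfsg.Agent.Lib.Helper16.WB2D

open Matrix

section BCD

variable {F : Type*} [Field F] [Fintype F] [DecidableEq F] {n : ℕ} {q : ℕ} {σ : F ≃+* F} {m : ℕ}
  {E Fv : ℕ → Fin n → F} {d : Fin n → F}

omit [Fintype F] in
theorem GL_induction (P : Matrix (Fin (m + 1)) (Fin (m + 1)) F → Prop)
    (hel : ∀ i j : Fin (m + 1), i ≠ j → ∀ s : F, P (1 + Matrix.single i j s))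
    (hdiag : ∀ c : F, c ≠ 0 → P (Matrix.diagonal (Function.update (1 : Fin (m + 1) → F) 0 c)))
    (hmul : ∀ A B, P A → P B → P (A * B)) :
    ∀ A : Matrix (Fin (m + 1)) (Fin (m + 1)) F, A.det ≠ 0 → P A := by
  intro A hA
  -- determinant of the diagonal matrices
  have hdet : ∀ c : F, (Matrix.diagonal (Function.update (1 : Fin (m + 1) → F) 0 c)).det = c := by
    intro c
    rw [Matrix.det_diagonal, Fin.prod_univ_succ]
    simp
  have hDD : Matrix.diagonal (Function.update (1 : Fin (m + 1) → F) 0 A.det) *
      Matrix.diagonal (Function.update (1 : Fin (m + 1) → F) 0 A.det⁻¹) = 1 := by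
    rw [Matrix.diagonal_mul_diagonal, ← Matrix.diagonal_one]
    congr 1
    funext i
    by_cases hi : i = 0
    · subst hi
      simp [mul_inv_cancel₀ hA]
    · simp [Function.update_of_ne hi]
  -- `A = D * A'` with `det A' = 1`
  have hA'det : (Matrix.diagonal (Function.update (1 : Fin (m + 1) → F) 0 A.det⁻¹) * A).det = 1 := by
    rw [Matrix.det_mul, hdet, inv_mul_cancel₀ hA]
  have hAeq : A = Matrix.diagonal (Function.update (1 : Fin (m + 1) → F) 0 A.det) *
      (Matrix.diagonal (Function.update (1 : Fin (m + 1) → F) 0 A.det⁻¹) * A) := by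
    rw [← Matrix.mul_assoc, hDD, Matrix.one_mul]
  have key : ∀ B : Matrix (Fin (m + 1)) (Fin (m + 1)) F, B.det = 1 → P B := by
    intro B hB
    rcases Nat.eq_zero_or_pos m with hm | hm
    · subst hm
      -- `1 × 1` matrix of determinant one is the identity
      have hall : ∀ i : Fin (0 + 1), i = 0 := fun i => Fin.ext (by have := i.2; simp at this ⊢)
      have hB1 : B = 1 := by
        ext i j
        rw [hall i, hall j]
        have h := Matrix.det_fin_one B
        rw [hB] at h
        rw [Matrix.one_apply_eq]
        exact h.symm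
      rw [hB1]
      have h1 := hdiag 1 one_ne_zero
      have : Matrix.diagonal (Function.update (1 : Fin (0 + 1) → F) 0 1) = 1 := by
        rw [← Matrix.diagonal_one]
        congr 1
        funext i
        rw [hall i]
        simp
      rwa [this] at h1
    · have : Nontrivial (Fin (m + 1)) := Fin.nontrivial_iff_two_le.2 (by omega)
      have key2 : ∀ C : Matrix.SpecialLinearGroup (Fin (m + 1)) F, P C.1 := by
        intro C
        refine Cfsg.Agent.Lib.Lead.SL_transvection_induction
          (fun C : Matrix.SpecialLinearGroup (Fin (m + 1)) F => P C.1) ?_ ?_ C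
        · intro i j hij c
          exact hel i j hij c
        · intro A B hA hB
          show P (A.1 * B.1)
          exact hmul _ _ hA hB
      exact key2 ⟨B, hB⟩
  rw [hAeq]
  exact hmul _ _ (hdiag _ hA) (key _ hA'det)

end BCD

end Cfsg.Agent.Lib.Helper16.WB2D
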