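import Cfsg.Agent.Lib.helper15.WB.Defs
import Cfsg.Agent.Lib.Helper28.UHerm

set_option autoImplicit false

/-!
# Project WB (S2335/S2334), piece WB-Ha: a nonzero Hermitian matrix of an `SL`-invariant family
can be moved to one with nonzero `(0,0)` entry.
-/

namespace Cfsg.Agent.Lib.Helper16.WBHa

open Matrix Cfsg.Agent.Lib.helper15.SUn Cfsg.Agent.Lib.helper15.WB

section H

variable {F : Type*} [Field F] [Fintype F] [DecidableEq F] {q : ℕ} {σ : F ≃+* F}

omit [Fintype F] [DecidableEq F] in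
theorem cg_apply' {k : ℕ} (A X : Matrix (Fin k) (Fin k) F) (a b : Fin k) :
    cg σ A X a b = ∑ l, (∑ j, A a j * X j l) * σ (A b l) := by
  unfold cg
  rw [Matrix.mul_apply]
  refine Finset.sum_congr rfl fun l _ => ?_
  rw [Matrix.mul_apply, Matrix.transpose_apply, Matrix.map_apply]

omit [Fintype F] [DecidableEq F] in
/-- if row `a` of `A` is the `i`-th unit vector then the `(a,a)` entry of `A X A^*` is `X i i`. -/
theorem cg_apply_of_row {k : ℕ} (A X : Matrix (Fin k) (Fin k) F) (a i : Fin k)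
    (hrow : ∀ j, A a j = if j = i then 1 else 0) : cg σ A X a a = X i i := by
  rw [cg_apply']
  simp only [hrow, ite_mul, one_mul, zero_mul, Finset.sum_ite_eq', Finset.mem_univ, if_true]
  simp [apply_ite σ]

/-- the signed swap of `0` and `i` -/
def sswap {k : ℕ} (i : Fin (k + 1)) : Matrix (Fin (k + 1)) (Fin (k + 1)) F :=
  Matrix.diagonal (fun a => if a = i then (-1 : F) else 1) * (Equiv.swap 0 i).permMatrix F

omit [Fintype F] [DecidableEq F] in
theorem sswap_det {k : ℕ} (i : Fin (k + 1)) (hi : i ≠ 0) : (sswap i : Matrix _ _ F).det = 1 := by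
  unfold sswap
  rw [Matrix.det_mul, Matrix.det_diagonal, Matrix.det_permutation, Equiv.Perm.sign_swap hi.symm,
    Finset.prod_ite_eq' ]
  simp

omit [Fintype F] [DecidableEq F] in
theorem sswap_row {k : ℕ} (i : Fin (k + 1)) (hi : i ≠ 0) (j : Fin (k + 1)) :
    (sswap i : Matrix _ _ F) 0 j = if j = i then 1 else 0 := by
  unfold sswap
  rw [Matrix.diagonal_mul, if_neg hi.symm, one_mul, Equiv.Perm.permMatrix, PEquiv.toMatrix_apply]
  simp [Equiv.toPEquiv_apply, eq_comm]

omit [Fintype F] [DecidableEq F] in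
/-- the `(i,i)` entry of the congruence transform by a transvection -/
theorem cg_transvection_apply {k : ℕ} (X : Matrix (Fin k) (Fin k) F) (i j : Fin k) (t : F) :
    cg σ (Matrix.transvection i j t) X i i =
      X i i + t * X j i + (X i j + t * X j j) * σ t := by
  rw [cg_apply']
  have hrow : ∀ l, (Matrix.transvection i j t) i l =
      (if l = i then (1 : F) else 0) + (if l = j then t else 0) := by
    intro l
    unfold Matrix.transvection
    rw [Matrix.add_apply, Matrix.one_apply, Matrix.single_apply]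
    simp [eq_comm]
  simp only [hrow, add_mul, ite_mul, one_mul, zero_mul, Finset.sum_add_distrib,
    Finset.sum_ite_eq', Finset.mem_univ, if_true, map_add, apply_ite σ, map_one, map_zero,
    mul_add, mul_ite, mul_one, mul_zero]

theorem exists_diag_ne (hF : Fintype.card F = q ^ 2) (hσ : ∀ x, σ x = x ^ q) (m : ℕ)
    (T : Finset (Matrix (Fin (m + 2)) (Fin (m + 2)) F)) (hT : ∀ X ∈ T, IsHerm σ X)
    (hinv : ∀ X ∈ T, ∀ A : Matrix (Fin (m + 2)) (Fin (m + 2)) F, A.det = 1 → cg σ A X ∈ T)
    (hne : ∃ X ∈ T, X ≠ 0) : ∃ Y ∈ T, Y 0 0 ≠ 0 := by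
  obtain ⟨σ', hσ', hf⟩ := Cfsg.Agent.Lib.Helper28.UHerm.herm_unitary hF 1
  have hσσ : σ' = σ := RingEquiv.ext fun x => by rw [hσ', hσ]
  subst hσσ
  have case1 : ∀ X ∈ T, ∀ i, X i i ≠ 0 → ∃ Y ∈ T, Y 0 0 ≠ 0 := by
    intro X hX i hi
    by_cases h0 : i = 0
    · exact ⟨X, hX, h0 ▸ hi⟩
    · refine ⟨cg σ' (sswap i) X, hinv X hX _ (sswap_det i h0), ?_⟩
      rw [cg_apply_of_row _ _ 0 i (sswap_row i h0)]
      exact hi
  obtain ⟨X, hX, hX0⟩ := hne
  by_cases hd : ∃ i, X i i ≠ 0
  · obtain ⟨i, hi⟩ := hd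
    exact case1 X hX i hi
  · push Not at hd
    have hex : ∃ i j, X i j ≠ 0 := by
      by_contra hcon
      push Not at hcon
      exact hX0 (Matrix.ext hcon)
    obtain ⟨i, j, hij⟩ := hex
    have hne : i ≠ j := by
      rintro rfl
      exact hij (hd i)
    have hji : X j i ≠ 0 := by
      rw [← hT X hX i j]
      simpa using hij
    obtain ⟨a, ha⟩ := Cfsg.Agent.Lib.Helper28.UForm.trace_surj hf 1 (map_one σ')
    refine case1 (cg σ' (Matrix.transvection i j (a / X j i)) X)
      (hinv X hX _ (Matrix.det_transvection_of_ne i j hne _)) i ?_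
    rw [cg_transvection_apply X i j, hd i, hd j, map_div₀, hT X hX j i]
    have hij' : X i j ≠ 0 := hij
    have : 0 + a / X j i * X j i + (X i j + a / X j i * 0) * (σ' a / X i j) = a + σ' a := by
      field_simp
      ring
    rw [this, ha]
    exact one_ne_zero

end H

end Cfsg.Agent.Lib.Helper16.WBHa
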