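import Cfsg.Agent.Lib.Helper16.WBHa

set_option autoImplicit false

/-!
# Project WB (S2335/S2334), piece WB-Hc: from a member with nonzero `(0,0)` entry one gets a
member with zero `(0,0)` entry and nonzero `(1,1)` entry.
-/

namespace Cfsg.Agent.Lib.Helper16.WBHc

open Matrix Cfsg.Agent.Lib.helper15.SUn Cfsg.Agent.Lib.helper15.WB Cfsg.Agent.Lib.Helper16.WBHa

section H

variable {F : Type*} [Field F] [Fintype F] [DecidableEq F] {q : ℕ} {σ : F ≃+* F}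

omit [Fintype F] [DecidableEq F] in
/-- if row `a` of `A` is `c` times the `i`-th unit vector then the `(a,a)` entry of `A X A^*`
is `c * X i i * σ c`. -/
theorem cg_apply_of_row_smul {k : ℕ} (A X : Matrix (Fin k) (Fin k) F) (a i : Fin k) (c : F)
    (hrow : ∀ j, A a j = if j = i then c else 0) : cg σ A X a a = c * X i i * σ c := by
  rw [cg_apply']
  simp only [hrow, ite_mul, zero_mul, Finset.sum_ite_eq', Finset.mem_univ, if_true]
  simp [apply_ite σ]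

omit [Fintype F] [DecidableEq F] in
theorem sswap_row_self {k : ℕ} (i : Fin (k + 1)) (j : Fin (k + 1)) :
    (sswap i : Matrix _ _ F) i j = if j = 0 then -1 else 0 := by
  unfold sswap
  rw [Matrix.diagonal_mul, if_pos rfl, Equiv.Perm.permMatrix, PEquiv.toMatrix_apply]
  simp [Equiv.toPEquiv_apply, eq_comm]

omit [Fintype F] [DecidableEq F] in
theorem transvection_row_other {k : ℕ} (i j a : Fin k) (hai : a ≠ i) (t : F) (l : Fin k) :
    (Matrix.transvection i j t) a l = if l = a then 1 else 0 := by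
  unfold Matrix.transvection
  rw [Matrix.add_apply, Matrix.one_apply, Matrix.single_apply]
  simp [hai.symm, eq_comm]

theorem exists_block (hF : Fintype.card F = q ^ 2) (hσ : ∀ x, σ x = x ^ q) (m : ℕ)
    (T : Finset (Matrix (Fin (m + 2)) (Fin (m + 2)) F)) (hT : ∀ X ∈ T, IsHerm σ X)
    (hinv : ∀ X ∈ T, ∀ A : Matrix (Fin (m + 2)) (Fin (m + 2)) F, A.det = 1 → cg σ A X ∈ T)
    (Y : Matrix (Fin (m + 2)) (Fin (m + 2)) F) (hY : Y ∈ T) (hY0 : Y 0 0 ≠ 0) :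
    ∃ Z ∈ T, Z 0 0 = 0 ∧ Z 1 1 ≠ 0 := by
  obtain ⟨σ', hσ', hf⟩ := Cfsg.Agent.Lib.Helper28.UHerm.herm_unitary hF 1
  have hσσ : σ' = σ := RingEquiv.ext fun x => by rw [hσ', hσ]
  subst hσσ
  have h10 : (1 : Fin (m + 2)) ≠ 0 := by
    intro h
    have := congrArg Fin.val h
    simp at this
  have ha' : σ' (Y 0 0) = Y 0 0 := hT Y hY 0 0
  have hd' : σ' (Y 1 1) = Y 1 1 := hT Y hY 1 1
  have hb' : Y 1 0 = σ' (Y 0 1) := (hT Y hY 0 1).symm
  have hr : σ' ((σ' (Y 0 1) / Y 0 0) * σ' (σ' (Y 0 1) / Y 0 0) - Y 1 1 / Y 0 0) =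
      (σ' (Y 0 1) / Y 0 0) * σ' (σ' (Y 0 1) / Y 0 0) - Y 1 1 / Y 0 0 := by
    simp only [map_sub, map_mul, map_div₀, hf.involutive, ha', hd']
    rw [mul_comm]
  obtain ⟨y, hy⟩ := Cfsg.Agent.Lib.Helper28.UForm.norm_surj hf _ hr
  have hY' : cg σ' (Matrix.transvection 1 0 (y - σ' (Y 0 1) / Y 0 0)) Y ∈ T :=
    hinv Y hY _ (Matrix.det_transvection_of_ne 1 0 h10 _)
  have h1 : cg σ' (Matrix.transvection 1 0 (y - σ' (Y 0 1) / Y 0 0)) Y 1 1 = 0 := by
    rw [cg_transvection_apply, hb']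
    have e : Y 1 1 + (y - σ' (Y 0 1) / Y 0 0) * Y 0 1 +
        (σ' (Y 0 1) + (y - σ' (Y 0 1) / Y 0 0) * Y 0 0) * σ' (y - σ' (Y 0 1) / Y 0 0) =
        Y 0 0 * (y * σ' y - ((σ' (Y 0 1) / Y 0 0) * σ' (σ' (Y 0 1) / Y 0 0) - Y 1 1 / Y 0 0)) := by
      rw [map_sub, map_div₀, hf.involutive, ha']
      field_simp
      ring
    rw [e, hy, sub_self, mul_zero]
  have h0 : cg σ' (Matrix.transvection 1 0 (y - σ' (Y 0 1) / Y 0 0)) Y 0 0 = Y 0 0 :=
    cg_apply_of_row _ _ 0 0 (transvection_row_other 1 0 0 h10.symm _)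
  refine ⟨cg σ' (sswap 1) (cg σ' (Matrix.transvection 1 0 (y - σ' (Y 0 1) / Y 0 0)) Y),
    hinv _ hY' _ (sswap_det 1 h10), ?_, ?_⟩
  · rw [cg_apply_of_row _ _ 0 1 (sswap_row 1 h10), h1]
  · rw [cg_apply_of_row_smul _ _ 1 0 (-1) (sswap_row_self 1), h0]
    simpa using hY0

end H

end Cfsg.Agent.Lib.Helper16.WBHc
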