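import Cfsg.Agent.Lib.Helper27.WSP.Defs
import Cfsg.Agent.Lib.Helper27.SpEA3

set_option autoImplicit false
set_option linter.unusedVariables false
set_option linter.unusedSectionVars false
set_option linter.style.haveILetI false

namespace Cfsg.Agent.Lib.Helper27.WSP

open Cfsg.Agent.Lib.Helper18.SpE Cfsg.Agent.Lib.Helper27.SpEA1

section Q

variable {F : Type*} [Field F] [Fintype F]

theorem h16_two_ne_zero (hodd : Odd (Fintype.card F)) : (2 : F) ≠ 0 := by
  apply Ring.two_ne_zero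
  intro h
  rw [FiniteField.even_card_iff_char_two] at h
  rw [Nat.odd_iff] at hodd
  omega

variable {W : Type*} [AddCommGroup W] [Module F W]

/-- scaling of the first coordinate -/
def h16_scale (s : F) : (F × W) →ₗ[F] (F × W) :=
  LinearMap.prodMap (s • LinearMap.id) LinearMap.id

theorem h16_scale_apply (s : F) (x : F) (h : W) : h16_scale (W := W) s (x, h) = (s * x, h) := rfl

def h16_scaleEquiv (s : F) (hs : s ≠ 0) : (F × W) ≃ₗ[F] (F × W) :=
  LinearEquiv.ofLinearMap (h16_scale s) (h16_scale s⁻¹)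
    (by
      apply LinearMap.ext
      rintro ⟨x, h⟩
      rw [LinearMap.comp_apply, h16_scale_apply, h16_scale_apply, LinearMap.id_apply,
        ← mul_assoc, mul_inv_cancel₀ hs, one_mul])
    (by
      apply LinearMap.ext
      rintro ⟨x, h⟩
      rw [LinearMap.comp_apply, h16_scale_apply, h16_scale_apply, LinearMap.id_apply,
        ← mul_assoc, inv_mul_cancel₀ hs, one_mul])

theorem h16_coe_scaleEquiv (s : F) (hs : s ≠ 0) :
    ((h16_scaleEquiv (W := W) s hs : (F × W) ≃ₗ[F] (F × W)) : (F × W) →ₗ[F] (F × W)) =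
      h16_scale s := rfl

/-- the map `(x, h) ↦ (s x + c h, h)` -/
def h16_lin (s : F) (c : W →ₗ[F] F) : (F × W) →ₗ[F] (F × W) := shear c ∘ₗ h16_scale s

theorem h16_lin_apply (s : F) (c : W →ₗ[F] F) (x : F) (h : W) :
    h16_lin s c (x, h) = (s * x + c h, h) := rfl

theorem h16_lin_eq_equiv (s : F) (hs : s ≠ 0) (c : W →ₗ[F] F) :
    h16_lin s c = (((h16_scaleEquiv (W := W) s hs).trans (shearEquiv c) :
      (F × W) ≃ₗ[F] (F × W)) : (F × W) →ₗ[F] (F × W)) := rfl

/-- the functional `h ↦ polar Q (1,0) (0,h)` -/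
def h16_rowOf (Q : QuadraticForm F (F × W)) : W →ₗ[F] F :=
  (QuadraticMap.polarBilin Q ((1 : F), (0 : W))) ∘ₗ (LinearMap.inr F F W)

theorem h16_rowOf_apply (Q : QuadraticForm F (F × W)) (h : W) :
    h16_rowOf Q h = QuadraticMap.polar Q ((1 : F), (0 : W)) ((0 : F), h) := rfl

theorem h16_comp_lin_e (Q₁ : QuadraticForm F (F × W)) (s : F) (c : W →ₗ[F] F) :
    (Q₁.comp (h16_lin s c)) ((1 : F), (0 : W)) = s ^ 2 * Q₁ ((1 : F), (0 : W)) := by
  rw [QuadraticMap.comp_apply, h16_lin_apply, map_zero, add_zero, mul_one, expand]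
  have h0 : (((0 : F), (0 : W)) : F × W) = 0 := rfl
  rw [h0, map_zero, QuadraticMap.polar_zero_right]
  ring

theorem h16_row_comp_lin (Q₁ : QuadraticForm F (F × W)) (s : F) (c : W →ₗ[F] F) (h : W) :
    QuadraticMap.polar (Q₁.comp (h16_lin s c)) ((1 : F), (0 : W)) ((0 : F), h) =
      s * (c h * (2 * Q₁ ((1 : F), (0 : W))) +
        QuadraticMap.polar Q₁ ((1 : F), (0 : W)) ((0 : F), h)) := by
  rw [polar_comp_lin, h16_lin_apply, h16_lin_apply, map_zero, add_zero, mul_one, mul_zero, zero_add]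
  have h1 : ((s, (0 : W)) : F × W) = s • ((1 : F), (0 : W)) := by ext <;> simp
  have h2 : ((c h, h) : F × W) = (c h) • ((1 : F), (0 : W)) + ((0 : F), h) := by ext <;> simp
  rw [h1, h2, QuadraticMap.polar_smul_left, QuadraticMap.polar_add_right,
    QuadraticMap.polar_smul_right, QuadraticMap.polar_self, smul_eq_mul, smul_eq_mul,
    two_smul, ← two_mul]

/-- Q2 : all "first rows" with `Q e` in the square class of `Q₁ e` occur -/
theorem partA_odd (hodd : Odd (Fintype.card F)) {W : Type*} [AddCommGroup W] [Module F W]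
    [Finite W] (𝒬 : Set (QuadraticForm F (F × W))) (hst : Stable 𝒬)
    (Q₁ : QuadraticForm F (F × W)) (hQ₁ : Q₁ ∈ 𝒬) (ha : Q₁ ((1 : F), (0 : W)) ≠ 0) :
    (Fintype.card F - 1) * Nat.card W ≤
      2 * {Q | Q ∈ 𝒬 ∧ ∃ s : F, s ≠ 0 ∧
        Q ((1 : F), (0 : W)) = s ^ 2 * Q₁ ((1 : F), (0 : W))}.ncard := by
  classical
  have h2 := h16_two_ne_zero hodd
  haveI : Finite (W →ₗ[F] F) :=
    Finite.of_injective (fun f : W →ₗ[F] F => (f : W → F)) DFunLike.coe_injective
  haveI : Fintype (W →ₗ[F] F) := Fintype.ofFinite _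
  haveI : Finite (QuadraticForm F (F × W)) :=
    Finite.of_injective (fun q : QuadraticForm F (F × W) => (q : F × W → F))
      DFunLike.coe_injective
  haveI : Fintype (QuadraticForm F (F × W)) := Fintype.ofFinite _
  set a₁ := Q₁ ((1 : F), (0 : W)) with ha₁
  set T : Set (QuadraticForm F (F × W)) :=
    {Q | Q ∈ 𝒬 ∧ ∃ s : F, s ≠ 0 ∧ Q ((1 : F), (0 : W)) = s ^ 2 * a₁} with hT
  let I : Finset (F × (W →ₗ[F] F)) := (({0} : Finset F)ᶜ) ×ˢ (Finset.univ : Finset (W →ₗ[F] F))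
  have hI : ∀ p : F × (W →ₗ[F] F), p ∈ I ↔ p.1 ≠ 0 := by
    intro p
    simp only [I, Finset.mem_product, Finset.mem_compl, Finset.mem_singleton, Finset.mem_univ,
      and_true]
  have hcardD : Fintype.card (W →ₗ[F] F) = Nat.card W := by
    rw [← Nat.card_eq_fintype_card]
    haveI : Module.Finite F W := Module.Finite.of_finite
    exact (Nat.card_congr (Module.Free.chooseBasis F W).toDualEquiv.toEquiv).symm
  have hIcard : I.card = (Fintype.card F - 1) * Nat.card W := by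
    simp only [I]
    rw [Finset.card_product, Finset.card_compl, Finset.card_singleton, Finset.card_univ, hcardD]
  -- the map
  let cc : F × (W →ₗ[F] F) → (W →ₗ[F] F) := fun p => (2 * a₁)⁻¹ • (p.1⁻¹ • p.2 - h16_rowOf Q₁)
  let Φ : F × (W →ₗ[F] F) → QuadraticForm F (F × W) := fun p => Q₁.comp (h16_lin p.1 (cc p))
  have hΦe : ∀ p, (Φ p) ((1 : F), (0 : W)) = p.1 ^ 2 * a₁ := fun p => h16_comp_lin_e Q₁ _ _
  have hΦrow : ∀ p, p.1 ≠ 0 → h16_rowOf (Φ p) = p.2 := by
    intro p hp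
    apply LinearMap.ext
    intro h
    rw [h16_rowOf_apply]
    show QuadraticMap.polar (Q₁.comp (h16_lin p.1 (cc p))) _ _ = _
    rw [h16_row_comp_lin]
    show p.1 * (((2 * a₁)⁻¹ • (p.1⁻¹ • p.2 - h16_rowOf Q₁)) h * (2 * a₁) +
      QuadraticMap.polar Q₁ ((1 : F), (0 : W)) ((0 : F), h)) = p.2 h
    rw [LinearMap.smul_apply, LinearMap.sub_apply, LinearMap.smul_apply, h16_rowOf_apply, smul_eq_mul,
      smul_eq_mul]
    have h2a : (2 * a₁) ≠ 0 := mul_ne_zero h2 ha
    field_simp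
    ring
  have hΦmem : ∀ p ∈ I, Φ p ∈ T := by
    intro p hp
    have hp0 := (hI p).mp hp
    refine ⟨?_, p.1, hp0, hΦe p⟩
    show Q₁.comp (h16_lin p.1 (cc p)) ∈ 𝒬
    rw [h16_lin_eq_equiv p.1 hp0]
    exact hst Q₁ hQ₁ _
  -- fibres have at most two elements
  have hfib : ∀ Q ∈ I.image Φ, (I.filter (fun p => Φ p = Q)).card ≤ 2 := by
    intro Q hQ
    obtain ⟨p, hp, rfl⟩ := Finset.mem_image.mp hQ
    have hp0 := (hI p).mp hp
    have hsub : I.filter (fun p' => Φ p' = Φ p) ⊆ {p, (-p.1, p.2)} := by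
      intro p' hp'
      rw [Finset.mem_filter] at hp'
      obtain ⟨hp'I, heq⟩ := hp'
      have hp'0 := (hI p').mp hp'I
      have e2 : p'.2 = p.2 := by rw [← hΦrow p' hp'0, ← hΦrow p hp0, heq]
      have e1 : p'.1 ^ 2 * a₁ = p.1 ^ 2 * a₁ := by rw [← hΦe p', ← hΦe p, heq]
      have e1' : p'.1 ^ 2 = p.1 ^ 2 := mul_right_cancel₀ ha e1
      rw [Finset.mem_insert, Finset.mem_singleton]
      rcases sq_eq_sq_iff_eq_or_eq_neg.mp e1' with h | h
      · left; exact Prod.ext h e2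
      · right; exact Prod.ext h e2
    exact (Finset.card_le_card hsub).trans Finset.card_le_two
  have h3 := Finset.card_le_mul_card_image (s := I) (f := Φ) 2 hfib
  have h4 : (I.image Φ).card ≤ T.ncard := by
    rw [← Set.ncard_coe_finset]
    apply Set.ncard_le_ncard _ (Set.toFinite T)
    intro Q hQ
    obtain ⟨p, hp, rfl⟩ := Finset.mem_image.mp (Finset.mem_coe.mp hQ)
    exact hΦmem p hp
  calc (Fintype.card F - 1) * Nat.card W = I.card := hIcard.symm
    _ ≤ 2 * (I.image Φ).card := h3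
    _ ≤ 2 * T.ncard := Nat.mul_le_mul_left 2 h4

end Q

end Cfsg.Agent.Lib.Helper27.WSP
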