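import Cfsg.Agent.Lib.Helper27.WSP.Defs
import Cfsg.Agent.Lib.Helper21.SpEFn
import Cfsg.Agent.Lib.Helper16.WSPQ2

set_option autoImplicit false
set_option linter.unusedVariables false
set_option linter.unusedSectionVars false
set_option linter.style.haveILetI false

namespace Cfsg.Agent.Lib.Helper27.WSP

open Cfsg.Agent.Lib.Helper18.SpE

section Q

variable {F : Type*} [Field F] [Fintype F]

/-- squares of functionals determine them up to sign (characteristic not two) -/
theorem h16_linMulLin_inj (h2 : (2 : F) ≠ 0) {V : Type*} [AddCommGroup V] [Module F V]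
    (ℓ ℓ' : V →ₗ[F] F) (hℓ : ℓ ≠ 0)
    (h : ∀ v : V, ℓ v * ℓ v = ℓ' v * ℓ' v) : ℓ' = ℓ ∨ ℓ' = -ℓ := by
  obtain ⟨v0, hv0⟩ : ∃ v0, ℓ v0 ≠ 0 := by
    by_contra hcon
    push Not at hcon
    exact hℓ (LinearMap.ext hcon)
  -- polarisation
  have hpol : ∀ v w : V, ℓ v * ℓ w = ℓ' v * ℓ' w := by
    intro v w
    have h1 := h (v + w)
    rw [map_add, map_add] at h1
    have h3 : 2 * (ℓ v * ℓ w) = 2 * (ℓ' v * ℓ' w) := by
      have e1 := h v
      have e2 := h w
      linear_combination h1 - e1 - e2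
    exact mul_left_cancel₀ h2 h3
  have hsq : ℓ' v0 * ℓ' v0 = ℓ v0 * ℓ v0 := (h v0).symm
  have hsq' : ℓ' v0 = ℓ v0 ∨ ℓ' v0 = -ℓ v0 := by
    have : ℓ' v0 ^ 2 = ℓ v0 ^ 2 := by rw [pow_two, pow_two, hsq]
    exact sq_eq_sq_iff_eq_or_eq_neg.mp this
  rcases hsq' with e | e
  · left
    apply LinearMap.ext
    intro w
    have := hpol v0 w
    rw [e] at this
    exact (mul_left_cancel₀ hv0 this).symm
  · right
    apply LinearMap.ext
    intro w
    have := hpol v0 w
    rw [e] at this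
    rw [LinearMap.neg_apply]
    have h5 : ℓ v0 * ℓ w = ℓ v0 * (-(ℓ' w)) := by rw [this]; ring
    have := mul_left_cancel₀ hv0 h5
    rw [this, neg_neg]

/-- Q3 : the orbit of a form of rank one -/
theorem rank_one_count (hodd : Odd (Fintype.card F)) {V : Type*} [AddCommGroup V] [Module F V]
    [Finite V] (𝒬 : Set (QuadraticForm F V)) (hst : Stable 𝒬) (a : F) (ha : a ≠ 0)
    (ℓ : V →ₗ[F] F) (hℓ : ℓ ≠ 0) (hQ : a • QuadraticMap.linMulLin ℓ ℓ ∈ 𝒬) :
    Nat.card V - 1 ≤ 2 * 𝒬.ncard := by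
  classical
  have h2 := h16_two_ne_zero hodd
  haveI : Finite (V →ₗ[F] F) :=
    Finite.of_injective (fun f : V →ₗ[F] F => (f : V → F)) DFunLike.coe_injective
  haveI : Fintype (V →ₗ[F] F) := Fintype.ofFinite _
  haveI : Finite (QuadraticForm F V) :=
    Finite.of_injective (fun q : QuadraticForm F V => (q : V → F)) DFunLike.coe_injective
  haveI : Fintype (QuadraticForm F V) := Fintype.ofFinite _
  have hcardD : Fintype.card (V →ₗ[F] F) = Nat.card V := by
    rw [← Nat.card_eq_fintype_card]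
    haveI : Module.Finite F V := Module.Finite.of_finite
    exact (Nat.card_congr (Module.Free.chooseBasis F V).toDualEquiv.toEquiv).symm
  let I : Finset (V →ₗ[F] F) := ({0} : Finset (V →ₗ[F] F))ᶜ
  have hI : ∀ f : V →ₗ[F] F, f ∈ I ↔ f ≠ 0 := by
    intro f
    simp only [I, Finset.mem_compl, Finset.mem_singleton]
  have hIcard : I.card = Nat.card V - 1 := by
    simp only [I]
    rw [Finset.card_compl, Finset.card_singleton, hcardD]
  let Φ : (V →ₗ[F] F) → QuadraticForm F V := fun f => a • QuadraticMap.linMulLin f f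
  have hΦmem : ∀ f ∈ I, Φ f ∈ 𝒬 := by
    intro f hf
    obtain ⟨A, hA⟩ := Cfsg.Agent.Lib.Helper21.SpEFn.exists_equiv_comp_eq ℓ f hℓ ((hI f).mp hf)
    have := hst _ hQ A
    have e : (a • QuadraticMap.linMulLin ℓ ℓ).comp (A : V →ₗ[F] V) = Φ f := by
      ext v
      show a • (ℓ (A v) * ℓ (A v)) = a • (f v * f v)
      rw [← hA]
      rfl
    rwa [e] at this
  have hfib : ∀ Q ∈ I.image Φ, (I.filter (fun f => Φ f = Q)).card ≤ 2 := by
    intro Q hQ'
    obtain ⟨f, hf, rfl⟩ := Finset.mem_image.mp hQ'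
    have hf0 := (hI f).mp hf
    have hsub : I.filter (fun f' => Φ f' = Φ f) ⊆ {f, -f} := by
      intro f' hf'
      rw [Finset.mem_filter] at hf'
      obtain ⟨-, heq⟩ := hf'
      rw [Finset.mem_insert, Finset.mem_singleton]
      apply h16_linMulLin_inj h2 f f' hf0
      intro v
      have := congrArg (fun P : QuadraticForm F V => P v) heq
      have h5 : a * (f' v * f' v) = a * (f v * f v) := this
      exact (mul_left_cancel₀ ha h5).symm
    exact (Finset.card_le_card hsub).trans Finset.card_le_two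
  have h3 := Finset.card_le_mul_card_image (s := I) (f := Φ) 2 hfib
  have h4 : (I.image Φ).card ≤ 𝒬.ncard := by
    rw [← Set.ncard_coe_finset]
    apply Set.ncard_le_ncard _ (Set.toFinite 𝒬)
    intro Q hQ'
    obtain ⟨f, hf, rfl⟩ := Finset.mem_image.mp (Finset.mem_coe.mp hQ')
    exact hΦmem f hf
  calc Nat.card V - 1 = I.card := hIcard.symm
    _ ≤ 2 * (I.image Φ).card := h3
    _ ≤ 2 * 𝒬.ncard := Nat.mul_le_mul_left 2 h4

end Q

end Cfsg.Agent.Lib.Helper27.WSP
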