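import Cfsg.Agent.Lib.Helper27.WSP.Defs
import Cfsg.Agent.Lib.Helper21.SpEG
import Cfsg.Agent.Lib.Helper16.WSPQ2
import Cfsg.Agent.Lib.Helper16.WSPQ3
import Cfsg.Agent.Lib.helper23.WSPQ1

set_option autoImplicit false
set_option linter.unusedVariables false
set_option linter.unusedSectionVars false
set_option linter.style.haveILetI false

namespace Cfsg.Agent.Lib.Helper27.WSP

open Cfsg.Agent.Lib.Helper18.SpE Cfsg.Agent.Lib.Helper27.SpEA1

section Q

variable {F : Type*} [Field F] [Fintype F]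

/-- Q4 : the orbit bound on `F × W` -/
theorem qboundOdd_prod (hodd : Odd (Fintype.card F)) {W : Type*} [AddCommGroup W] [Module F W]
    [Finite W] : QBoundOdd F (F × W) := by
  classical
  intro 𝒬 hst hne
  have h2 := h16_two_ne_zero hodd
  haveI : Finite (QuadraticForm F (F × W)) :=
    Finite.of_injective (fun q : QuadraticForm F (F × W) => (q : F × W → F))
      DFunLike.coe_injective
  obtain ⟨Q₀, hQ₀, hQ₀ne⟩ := hne
  obtain ⟨u, hu⟩ : ∃ u, Q₀ u ≠ 0 := by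
    by_contra hcon
    push Not at hcon
    apply hQ₀ne
    ext v
    exact hcon v
  have hu0 : u ≠ 0 := by
    rintro rfl
    exact hu (map_zero _)
  have he0 : (((1 : F), (0 : W)) : F × W) ≠ 0 := by
    intro h
    have := congrArg Prod.fst h
    exact one_ne_zero this
  obtain ⟨g, hg⟩ := Cfsg.Agent.Lib.Helper21.SpEG.exists_equiv_apply_eq (F := F)
    (((1 : F), (0 : W)) : F × W) u he0 hu0
  set Q₁ := Q₀.comp (g : (F × W) →ₗ[F] (F × W)) with hQ₁def
  have hQ₁ : Q₁ ∈ 𝒬 := hst Q₀ hQ₀ g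
  set a₁ := Q₁ ((1 : F), (0 : W)) with ha₁def
  have ha₁ : a₁ ≠ 0 := by
    rw [ha₁def, hQ₁def, QuadraticMap.comp_apply]
    show Q₀ (g ((1 : F), (0 : W))) ≠ 0
    rw [hg]
    exact hu
  -- kill the first row
  set c : W →ₗ[F] F := -((2 * a₁)⁻¹ • h16_rowOf Q₁) with hc
  set Q₂ := Q₁.comp (h16_lin 1 c) with hQ₂def
  have hQ₂ : Q₂ ∈ 𝒬 := by
    rw [hQ₂def, h16_lin_eq_equiv 1 one_ne_zero]
    exact hst Q₁ hQ₁ _
  have hQ₂e : Q₂ ((1 : F), (0 : W)) = a₁ := by
    rw [hQ₂def, h16_comp_lin_e, one_pow, one_mul]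
  have hQ₂row : ∀ h : W, QuadraticMap.polar Q₂ ((1 : F), (0 : W)) ((0 : F), h) = 0 := by
    intro h
    rw [hQ₂def, h16_row_comp_lin, one_mul, hc, LinearMap.neg_apply, LinearMap.smul_apply,
      h16_rowOf_apply, smul_eq_mul]
    have h2a : (2 * a₁) ≠ 0 := mul_ne_zero h2 ha₁
    field_simp
    ring
  have hQ₂exp : ∀ (x : F) (h : W), Q₂ (x, h) = x * x * a₁ + Q₂ ((0 : F), h) := by
    intro x h
    rw [expand, hQ₂e, hQ₂row, mul_zero, add_zero]
  have hq2 : 2 ≤ Fintype.card F := Fintype.one_lt_card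
  have hcardV : Nat.card (F × W) = Fintype.card F * Nat.card W := by
    rw [Nat.card_prod, Nat.card_eq_fintype_card]
  by_cases hcase : ∀ h : W, Q₂ ((0 : F), h) = 0
  · -- rank one
    have hform : Q₂ = a₁ • QuadraticMap.linMulLin (LinearMap.fst F F W) (LinearMap.fst F F W) := by
      ext ⟨x, h⟩
      rw [hQ₂exp, hcase, add_zero]
      show x * x * a₁ = a₁ • (x * x)
      rw [smul_eq_mul, mul_comm]
    have hfst : (LinearMap.fst F F W) ≠ 0 := by
      intro h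
      have := congrArg (fun f : (F × W) →ₗ[F] F => f ((1 : F), (0 : W))) h
      exact one_ne_zero this
    exact rank_one_count hodd 𝒬 hst a₁ ha₁ _ hfst (hform ▸ hQ₂)
  · push Not at hcase
    obtain ⟨h₀, hd⟩ := hcase
    set d := Q₂ ((0 : F), h₀) with hddef
    have hchar : ringChar F ≠ 2 := by
      intro h
      rw [FiniteField.even_card_iff_char_two] at h
      rw [Nat.odd_iff] at hodd
      omega
    obtain ⟨ν, hν⟩ := FiniteField.exists_nonsquare hchar
    have hν0 : ν ≠ 0 := by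
      rintro rfl
      exact hν ⟨0, by simp⟩
    obtain ⟨x, y, hxy⟩ := exists_repr hodd a₁ d (a₁ * ν) ha₁ hd
    set u' : F × W := (x, y • h₀) with hu'def
    have hQ₂u' : Q₂ u' = a₁ * ν := by
      rw [hu'def, hQ₂exp]
      have e : (((0 : F), y • h₀) : F × W) = y • (((0 : F), h₀) : F × W) := by
        ext <;> simp
      rw [e, QuadraticMap.map_smul, smul_eq_mul, ← hddef, ← hxy]
      ring
    have hu'0 : u' ≠ 0 := by
      intro h
      rw [h, map_zero] at hQ₂u'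
      exact mul_ne_zero ha₁ hν0 hQ₂u'.symm
    obtain ⟨g', hg'⟩ := Cfsg.Agent.Lib.Helper21.SpEG.exists_equiv_apply_eq (F := F)
      (((1 : F), (0 : W)) : F × W) u' he0 hu'0
    set Q₃ := Q₂.comp (g' : (F × W) →ₗ[F] (F × W)) with hQ₃def
    have hQ₃ : Q₃ ∈ 𝒬 := hst Q₂ hQ₂ g'
    have hQ₃e : Q₃ ((1 : F), (0 : W)) = a₁ * ν := by
      rw [hQ₃def, QuadraticMap.comp_apply]
      show Q₂ (g' ((1 : F), (0 : W))) = a₁ * ν
      rw [hg', hQ₂u']
    have hA1 := partA_odd hodd 𝒬 hst Q₂ hQ₂ (by rw [hQ₂e]; exact ha₁)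
    have hA2 := partA_odd hodd 𝒬 hst Q₃ hQ₃ (by rw [hQ₃e]; exact mul_ne_zero ha₁ hν0)
    rw [hQ₂e] at hA1
    rw [hQ₃e] at hA2
    set S₁ : Set (QuadraticForm F (F × W)) :=
      {Q | Q ∈ 𝒬 ∧ ∃ s : F, s ≠ 0 ∧ Q ((1 : F), (0 : W)) = s ^ 2 * a₁} with hS₁
    set S₂ : Set (QuadraticForm F (F × W)) :=
      {Q | Q ∈ 𝒬 ∧ ∃ s : F, s ≠ 0 ∧ Q ((1 : F), (0 : W)) = s ^ 2 * (a₁ * ν)} with hS₂
    have hdisj : Disjoint S₁ S₂ := by
      rw [Set.disjoint_left]
      rintro Q ⟨-, s, hs, e1⟩ ⟨-, s', hs', e2⟩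
      apply hν
      refine ⟨s / s', ?_⟩
      have e3 : s ^ 2 * a₁ = s' ^ 2 * (a₁ * ν) := by rw [← e1, ← e2]
      have e4 : s ^ 2 = s' ^ 2 * ν := by
        have : a₁ * s ^ 2 = a₁ * (s' ^ 2 * ν) := by linear_combination e3
        exact mul_left_cancel₀ ha₁ this
      field_simp
      rw [e4]
      ring
    have hsub : S₁ ∪ S₂ ⊆ 𝒬 := by
      rintro Q (h | h)
      · exact h.1
      · exact h.1
    have hcard : S₁.ncard + S₂.ncard ≤ 𝒬.ncard := by
      rw [← Set.ncard_union_eq hdisj (Set.toFinite _) (Set.toFinite _)]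
      exact Set.ncard_le_ncard hsub (Set.toFinite _)
    rw [hcardV]
    have hq : Fintype.card F ≤ 2 * (Fintype.card F - 1) := by omega
    have h5 : Fintype.card F * Nat.card W ≤ 2 * (Fintype.card F - 1) * Nat.card W :=
      Nat.mul_le_mul_right _ hq
    have h6 : 2 * (Fintype.card F - 1) * Nat.card W =
        (Fintype.card F - 1) * Nat.card W + (Fintype.card F - 1) * Nat.card W := by ring
    omega

end Q

end Cfsg.Agent.Lib.Helper27.WSP
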