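import Cfsg.Agent.Lib.Helper27.WSP.Defs
import Cfsg.Agent.Lib.Helper16.WSPQ4

set_option autoImplicit false
set_option linter.unusedVariables false
set_option linter.unusedSectionVars false
set_option linter.style.haveILetI false

namespace Cfsg.Agent.Lib.Helper27.WSP

open Cfsg.Agent.Lib.Helper18.SpE

section Q

variable {F : Type*} [Field F] [Fintype F]

theorem h16_comp_injective_of_equiv {V V' : Type*} [AddCommGroup V] [Module F V] [AddCommGroup V']
    [Module F V'] (e : V ≃ₗ[F] V') :
    Function.Injective (fun Q' : QuadraticForm F V' => Q'.comp (e : V →ₗ[F] V')) := by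
  intro Q Q' h
  ext x
  have := congrArg (fun P : QuadraticForm F V => P (e.symm x)) h
  simpa using this

theorem h16_QBoundOdd_congr {V V' : Type*} [AddCommGroup V] [Module F V] [AddCommGroup V']
    [Module F V'] (e : V ≃ₗ[F] V') (h : QBoundOdd F V) : QBoundOdd F V' := by
  intro 𝒬' hst hp
  have hcard : Nat.card V' = Nat.card V := (Nat.card_congr e.toEquiv).symm
  rw [hcard]
  have hinj := h16_comp_injective_of_equiv (F := F) e
  rw [← Set.ncard_image_of_injective 𝒬' hinj]
  apply h
  · rintro _ ⟨Q', hQ', rfl⟩ g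
    refine ⟨Q'.comp ((e.symm.trans (g.trans e) : V' ≃ₗ[F] V') : V' →ₗ[F] V'), hst Q' hQ' _, ?_⟩
    ext x
    simp
  · obtain ⟨Q', hQ', hne⟩ := hp
    refine ⟨_, ⟨Q', hQ', rfl⟩, ?_⟩
    intro h0
    apply hne
    apply hinj
    show Q'.comp (e : V →ₗ[F] V') = (0 : QuadraticForm F V').comp (e : V →ₗ[F] V')
    have h0' : Q'.comp (e : V →ₗ[F] V') = 0 := h0
    rw [h0']
    ext x
    simp

/-- Q5 : the orbit bound on `F^n` -/
theorem qboundOdd_pi (hodd : Odd (Fintype.card F)) (n : ℕ) : QBoundOdd F (Fin n → F) := by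
  induction n with
  | zero =>
    intro 𝒬 _ _
    have : Nat.card (Fin 0 → F) = 1 := by
      rw [Nat.card_eq_fintype_card]; simp
    rw [this]; simp
  | succ n ih =>
    exact h16_QBoundOdd_congr (Fin.consLinearEquiv F (fun _ : Fin (n + 1) => F))
      (qboundOdd_prod hodd (W := Fin n → F))

end Q

end Cfsg.Agent.Lib.Helper27.WSP
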